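import Mathlib
import Cfsg.Agent.Lib.Helper1.MEO.Defs

set_option autoImplicit false

namespace Cfsg.Agent.Lib.Helper1.MEO

/-- Fermat-type bound: `(q-1) ∏_{v ∈ S} (q^(2^v)+1) + 1 ≤ q^(Σ 2^v + 1)`. -/
theorem h27_fermat_bound (q : ℕ) (hq : 2 ≤ q) (S : Finset ℕ) :
    (q - 1) * ∏ v ∈ S, (q ^ (2 ^ v) + 1) + 1 ≤ q ^ (∑ v ∈ S, 2 ^ v + 1) := by
  refine Finset.induction_on_max S ?_ ?_
  · simp
    omega
  · intro k S' hk ih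
    have hnot : k ∉ S' := fun h => lt_irrefl _ (hk k h)
    rw [Finset.prod_insert hnot, Finset.sum_insert hnot]
    have hσ : ∑ v ∈ S', 2 ^ v < 2 ^ k := Nat.geomSum_lt le_rfl hk
    have hXY : q ^ (∑ v ∈ S', 2 ^ v + 1) ≤ q ^ (2 ^ k) := Nat.pow_le_pow_right (by omega) hσ
    calc (q - 1) * ((q ^ (2 ^ k) + 1) * ∏ v ∈ S', (q ^ (2 ^ v) + 1)) + 1
        = q ^ (2 ^ k) * ((q - 1) * ∏ v ∈ S', (q ^ (2 ^ v) + 1))
            + ((q - 1) * ∏ v ∈ S', (q ^ (2 ^ v) + 1) + 1) := by ring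
      _ ≤ q ^ (2 ^ k) * ((q - 1) * ∏ v ∈ S', (q ^ (2 ^ v) + 1)) + q ^ (2 ^ k) := by
          gcongr
          exact ih.trans hXY
      _ = q ^ (2 ^ k) * ((q - 1) * ∏ v ∈ S', (q ^ (2 ^ v) + 1) + 1) := by ring
      _ ≤ q ^ (2 ^ k) * q ^ (∑ v ∈ S', 2 ^ v + 1) := by gcongr
      _ = q ^ (2 ^ k + ∑ v ∈ S', 2 ^ v + 1) := by rw [← pow_add]; ring_nf

/-- `q^(2^v)+1` divides `q^(2^v * m)+1` for odd `m`. -/
theorem h27_gv_dvd (q v m : ℕ) (hm : Odd m) : q ^ (2 ^ v) + 1 ∣ q ^ (2 ^ v * m) + 1 := by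
  have h := Odd.nat_add_dvd_pow_add_pow (q ^ (2 ^ v)) 1 hm
  rwa [one_pow, ← pow_mul] at h

/-- `q^b + 1 ≤ q^(b - 2^v) * (q^(2^v)+1)` when `2^v ≤ b`. -/
theorem h27_pow_add_one_le (q : ℕ) (hq : 2 ≤ q) (b w : ℕ) (hw : w ≤ b) :
    q ^ b + 1 ≤ q ^ (b - w) * (q ^ w + 1) := by
  have h1 : 1 ≤ q ^ (b - w) := Nat.one_le_pow _ _ (by omega)
  calc q ^ b + 1 = q ^ (b - w) * q ^ w + 1 := by rw [← pow_add, Nat.sub_add_cancel hw]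
    _ ≤ q ^ (b - w) * q ^ w + q ^ (b - w) := by omega
    _ = q ^ (b - w) * (q ^ w + 1) := by ring

theorem h27_arith1 (b Z X Y : ℕ) (h1 : Z ≤ b) (h2 : Y ≤ X) :
    b - Z + (X - Y) ≤ b + X - Y := by omega

theorem h27_arith2 (b Z X Y : ℕ) (h1 : Z ≤ b) (h2 : Y ≤ X) :
    b - Z + (X - Y) = b + X - (Z + Y) := by omega

theorem h27_arith3 (b Z X Y : ℕ) (h1 : Z ≤ b) (h2 : Y ≤ X) :
    Z + Y ≤ b + X := by omega

theorem h27_invariant (q : ℕ) (hq : 2 ≤ q) (B : Finset ℕ) (hB : ∀ b ∈ B, 1 ≤ b) :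
    ∃ S : Finset ℕ, (∀ v ∈ S, q ^ (2 ^ v) + 1 ∣ B.lcm (fun b => q ^ b + 1)) ∧
      ∑ v ∈ S, 2 ^ v ≤ (∑ x ∈ B, x) ∧
      B.lcm (fun b => q ^ b + 1) ≤
        q ^ ((∑ x ∈ B, x) - ∑ v ∈ S, 2 ^ v) * ∏ v ∈ S, (q ^ (2 ^ v) + 1) := by
  induction B using Finset.induction_on with
  | empty => exact ⟨∅, by simp, by simp, by simp⟩
  | insert b B hb ih =>
    obtain ⟨S, hS1, hS2, hS3⟩ := ih (fun x hx => hB x (Finset.mem_insert_of_mem hx))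
    have hb1 : 1 ≤ b := hB b (Finset.mem_insert_self _ _)
    obtain ⟨v, m, hm, hbm⟩ := Nat.exists_eq_two_pow_mul_odd (by omega : b ≠ 0)
    have hm1 : 1 ≤ m := hm.pos
    have hvb : 2 ^ v ≤ b := by
      rw [hbm]; exact Nat.le_mul_of_pos_right _ hm1
    have hgdvd : q ^ (2 ^ v) + 1 ∣ q ^ b + 1 := by
      rw [hbm]; exact h27_gv_dvd q v m hm
    have hle : q ^ b + 1 ≤ q ^ (b - 2 ^ v) * (q ^ (2 ^ v) + 1) :=
      h27_pow_add_one_le q hq b (2 ^ v) hvb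
    rw [Finset.lcm_insert, Finset.sum_insert hb]
    set L := B.lcm (fun b => q ^ b + 1) with hL
    have hLpos : 0 < L := by
      rw [hL, Nat.pos_iff_ne_zero, Ne, Finset.lcm_eq_zero_iff]
      simp
    have hlcm : GCDMonoid.lcm (q ^ b + 1) L = Nat.lcm (q ^ b + 1) L := rfl
    rw [hlcm]
    by_cases hvS : v ∈ S
    · refine ⟨S, fun u hu => (hS1 u hu).trans (Nat.dvd_lcm_right _ _), by omega, ?_⟩
      have hgL : q ^ (2 ^ v) + 1 ∣ L := hS1 v hvS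
      have hgg : q ^ (2 ^ v) + 1 ∣ Nat.gcd (q ^ b + 1) L := Nat.dvd_gcd hgdvd hgL
      have hgpos : 0 < Nat.gcd (q ^ b + 1) L := Nat.gcd_pos_of_pos_right _ hLpos
      have hgle : q ^ (2 ^ v) + 1 ≤ Nat.gcd (q ^ b + 1) L := Nat.le_of_dvd hgpos hgg
      have hmul : Nat.gcd (q ^ b + 1) L * Nat.lcm (q ^ b + 1) L = (q ^ b + 1) * L :=
        Nat.gcd_mul_lcm _ _
      have h1 : (q ^ (2 ^ v) + 1) * Nat.lcm (q ^ b + 1) L ≤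
          (q ^ (2 ^ v) + 1) * (q ^ (b - 2 ^ v) * L) := by
        calc (q ^ (2 ^ v) + 1) * Nat.lcm (q ^ b + 1) L
            ≤ Nat.gcd (q ^ b + 1) L * Nat.lcm (q ^ b + 1) L := by gcongr
          _ = (q ^ b + 1) * L := hmul
          _ ≤ (q ^ (b - 2 ^ v) * (q ^ (2 ^ v) + 1)) * L := by gcongr
          _ = (q ^ (2 ^ v) + 1) * (q ^ (b - 2 ^ v) * L) := by ring
      have h2 : Nat.lcm (q ^ b + 1) L ≤ q ^ (b - 2 ^ v) * L :=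
        Nat.le_of_mul_le_mul_left h1 (by positivity)
      calc Nat.lcm (q ^ b + 1) L ≤ q ^ (b - 2 ^ v) * L := h2
        _ ≤ q ^ (b - 2 ^ v) * (q ^ ((∑ x ∈ B, x) - ∑ v ∈ S, 2 ^ v) *
              ∏ v ∈ S, (q ^ (2 ^ v) + 1)) := by gcongr
        _ = q ^ ((b - 2 ^ v) + ((∑ x ∈ B, x) - ∑ v ∈ S, 2 ^ v)) *
              ∏ v ∈ S, (q ^ (2 ^ v) + 1) := by rw [pow_add]; ring
        _ ≤ q ^ (b + (∑ x ∈ B, x) - ∑ v ∈ S, 2 ^ v) * ∏ v ∈ S, (q ^ (2 ^ v) + 1) := by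
            gcongr
            · omega
            · exact h27_arith1 _ _ _ _ hvb hS2
    · refine ⟨insert v S, ?_, ?_, ?_⟩
      · intro u hu
        rcases Finset.mem_insert.1 hu with rfl | hu
        · exact hgdvd.trans (Nat.dvd_lcm_left _ _)
        · exact (hS1 u hu).trans (Nat.dvd_lcm_right _ _)
      · rw [Finset.sum_insert hvS]
        exact h27_arith3 _ _ _ _ hvb hS2
      · rw [Finset.sum_insert hvS, Finset.prod_insert hvS]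
        have hl : Nat.lcm (q ^ b + 1) L ≤ (q ^ b + 1) * L :=
          Nat.le_of_dvd (Nat.mul_pos (by positivity) hLpos) (Nat.lcm_dvd_mul _ _)
        calc Nat.lcm (q ^ b + 1) L ≤ (q ^ b + 1) * L := hl
          _ ≤ (q ^ (b - 2 ^ v) * (q ^ (2 ^ v) + 1)) *
                (q ^ ((∑ x ∈ B, x) - ∑ v ∈ S, 2 ^ v) * ∏ v ∈ S, (q ^ (2 ^ v) + 1)) := by gcongr
          _ = q ^ ((b - 2 ^ v) + ((∑ x ∈ B, x) - ∑ v ∈ S, 2 ^ v)) *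
                ((q ^ (2 ^ v) + 1) * ∏ v ∈ S, (q ^ (2 ^ v) + 1)) := by rw [pow_add]; ring
          _ = q ^ (b + (∑ x ∈ B, x) - (2 ^ v + ∑ v ∈ S, 2 ^ v)) *
                ((q ^ (2 ^ v) + 1) * ∏ v ∈ S, (q ^ (2 ^ v) + 1)) := by
              rw [h27_arith2 _ _ _ _ hvb hS2]

/-- MEO-A -/
theorem plus_lcm_bound (q : ℕ) (hq : 2 ≤ q) (B : Finset ℕ) (hB : ∀ b ∈ B, 1 ≤ b) :
    (q - 1) * B.lcm (fun b => q ^ b + 1) ≤ q ^ (B.sum id + 1) := by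
  obtain ⟨S, _, hS2, hS3⟩ := h27_invariant q hq B hB
  have hid : B.sum id = ∑ x ∈ B, x := rfl
  rw [hid]
  have hF := h27_fermat_bound q hq S
  calc (q - 1) * B.lcm (fun b => q ^ b + 1)
      ≤ (q - 1) * (q ^ ((∑ x ∈ B, x) - ∑ v ∈ S, 2 ^ v) * ∏ v ∈ S, (q ^ (2 ^ v) + 1)) := by gcongr
    _ = q ^ ((∑ x ∈ B, x) - ∑ v ∈ S, 2 ^ v) * ((q - 1) * ∏ v ∈ S, (q ^ (2 ^ v) + 1)) := by ring
    _ ≤ q ^ ((∑ x ∈ B, x) - ∑ v ∈ S, 2 ^ v) * q ^ (∑ v ∈ S, 2 ^ v + 1) := by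
        gcongr
        omega
    _ = q ^ ((∑ x ∈ B, x) + 1) := by
        rw [← pow_add]
        congr 1
        omega

end Cfsg.Agent.Lib.Helper1.MEO
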