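import Mathlib
import Cfsg.Agent.Lib.helper7.BD.D1Defs
import Cfsg.Agent.Lib.helper7.BD.D1Defs2
import Cfsg.Agent.Lib.Helper10.BDCHARS

set_option autoImplicit false
set_option linter.unusedVariables false
set_option linter.unusedSectionVars false

namespace Cfsg.Agent.Lib.helper7.BD

open Cfsg.Agent.Lib.helper7

universe u

/-- a nontrivial linear character of a group of prime order is injective; abstract form of LAM:
`A` a finite group with a central Sylow `p`-subgroup `Q` of order `p`. -/
theorem bd3lam_abstract {A : Type u} [Group A] [Finite A] {p : ℕ} [Fact p.Prime] (Q : Sylow p A)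
    (hQ : Nat.card Q = p) (hcen : ∀ a : A, ∀ q ∈ (Q : Subgroup A), a * q = q * a) :
    ∃ Λ : A →* ℂˣ, (∀ c : A, ¬ p ∣ orderOf c → Λ c = 1) ∧
      (∀ c : A, c ∈ (Q : Subgroup A) → c ≠ 1 → Λ c ≠ 1) ∧ ∀ c : A, Λ c ^ p = 1 := by
  classical
  have hp : p.Prime := Fact.out
  have hQN : Subgroup.normalizer ((Q : Subgroup A) : Set A) ≤
      Subgroup.centralizer ((Q : Subgroup A) : Set A) := by
    intro a _
    rw [Subgroup.mem_centralizer_iff]
    intro q hq
    exact (hcen a q hq).symm
  let V : A →* ↥(Q : Subgroup A) := MonoidHom.transferSylow Q hQN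
  have hcyc : IsCyclic ↥(Q : Subgroup A) := isCyclic_of_prime_card hQ
  letI : CommGroup ↥(Q : Subgroup A) := IsCyclic.commGroup
  haveI : NeZero (Monoid.exponent ↥(Q : Subgroup A)) := ⟨Monoid.exponent_ne_zero_of_finite⟩
  -- a nontrivial element of `Q`
  have hnt : ∃ a : ↥(Q : Subgroup A), a ≠ 1 := by
    haveI : Nontrivial ↥(Q : Subgroup A) := by
      rw [← Finite.one_lt_card_iff_nontrivial, hQ]
      exact hp.one_lt
    exact exists_ne 1
  obtain ⟨a, ha⟩ := hnt
  obtain ⟨φ, hφ⟩ := CommGroup.exists_apply_ne_one_of_hasEnoughRootsOfUnity ↥(Q : Subgroup A) ℂ ha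
  -- `φ` is injective at `1`
  have hinj : ∀ q : ↥(Q : Subgroup A), q ≠ 1 → φ q ≠ 1 := by
    intro q hq hφq
    have htop : Subgroup.zpowers q = ⊤ := zpowers_eq_top_of_prime_card hQ hq
    have hmem : a ∈ Subgroup.zpowers q := by rw [htop]; exact Subgroup.mem_top a
    obtain ⟨k, hk⟩ := Subgroup.mem_zpowers_iff.1 hmem
    apply hφ
    rw [← hk, map_zpow, hφq, one_zpow]
  refine ⟨φ.comp V, ?_, ?_, ?_⟩
  · intro c hc
    have h1 : orderOf (V c) ∣ orderOf c := orderOf_map_dvd V c
    have h2 : orderOf (V c) ∣ p := by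
      have := orderOf_dvd_natCard (V c)
      rwa [hQ] at this
    have h3 : orderOf (V c) = 1 := by
      rcases (Nat.dvd_prime hp).1 h2 with h | h
      · exact h
      · exfalso; exact hc (h ▸ h1)
    rw [orderOf_eq_one_iff] at h3
    rw [MonoidHom.comp_apply, h3, map_one]
  · intro c hcQ hc1
    rw [MonoidHom.comp_apply]
    apply hinj
    have hV : V c = ⟨c ^ (Q : Subgroup A).index, _⟩ := MonoidHom.transferSylow_eq_pow Q hQN c hcQ
    rw [hV]
    intro h
    have h4 : c ^ (Q : Subgroup A).index = 1 := by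
      have := congrArg Subtype.val h
      simpa using this
    have h5 : orderOf c ∣ (Q : Subgroup A).index := orderOf_dvd_of_pow_eq_one h4
    have h6 : orderOf c = p := by
      have h7 : orderOf (⟨c, hcQ⟩ : ↥(Q : Subgroup A)) ∣ p := by
        have := orderOf_dvd_natCard (⟨c, hcQ⟩ : ↥(Q : Subgroup A))
        rwa [hQ] at this
      have h8 : orderOf (⟨c, hcQ⟩ : ↥(Q : Subgroup A)) = orderOf c := by
        rw [← Subgroup.orderOf_coe]
      rw [h8] at h7
      rcases (Nat.dvd_prime hp).1 h7 with h | h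
      · exfalso
        rw [orderOf_eq_one_iff] at h
        exact hc1 h
      · exact h
    rw [h6] at h5
    exact Q.not_dvd_index h5
  · intro c
    rw [MonoidHom.comp_apply, ← map_pow]
    have : V c ^ p = 1 := by
      have := pow_card_eq_one' (x := V c)
      rwa [hQ] at this
    rw [this, map_one]

section loc

variable {G : Type u} [Group G] [Fintype G] {p : ℕ} [Fact p.Prime]

/-- LAM : a linear character of `C = P × K` which is faithful on `P` and trivial on the `p`-regular elements -/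
theorem root_exists_Lambda (P : Sylow p G) (hP : Nat.card P = p) :
    ∃ Λ : ↥(Subgroup.centralizer ((P : Subgroup G) : Set G)) →* ℂˣ,
      (∀ c : ↥(Subgroup.centralizer ((P : Subgroup G) : Set G)), ¬ p ∣ orderOf c → Λ c = 1) ∧
      (∀ c : ↥(Subgroup.centralizer ((P : Subgroup G) : Set G)), (c : G) ∈ (P : Subgroup G) → c ≠ 1 →
        Λ c ≠ 1) ∧
      ∀ c : ↥(Subgroup.centralizer ((P : Subgroup G) : Set G)), Λ c ^ p = 1 := by
  have hPC : (P : Subgroup G) ≤ Subgroup.centralizer ((P : Subgroup G) : Set G) :=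
    bdchars_le_centralizer (P : Subgroup G) hP
  let Q : Sylow p ↥(Subgroup.centralizer ((P : Subgroup G) : Set G)) := P.subtype hPC
  have hQcoe : (Q : Subgroup ↥(Subgroup.centralizer ((P : Subgroup G) : Set G))) =
      (P : Subgroup G).subgroupOf (Subgroup.centralizer ((P : Subgroup G) : Set G)) :=
    Sylow.coe_subtype P hPC
  have hQ : Nat.card Q = p := by
    show Nat.card ↥(Q : Subgroup ↥(Subgroup.centralizer ((P : Subgroup G) : Set G))) = p
    rw [hQcoe, Nat.card_congr (Subgroup.subgroupOfEquivOfLe hPC).toEquiv]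
    exact hP
  have hcen : ∀ a : ↥(Subgroup.centralizer ((P : Subgroup G) : Set G)),
      ∀ q ∈ (Q : Subgroup ↥(Subgroup.centralizer ((P : Subgroup G) : Set G))), a * q = q * a := by
    intro a q hq
    rw [hQcoe, Subgroup.mem_subgroupOf] at hq
    have := a.2
    rw [Subgroup.mem_centralizer_iff] at this
    apply Subtype.ext
    rw [Subgroup.coe_mul, Subgroup.coe_mul]
    exact (this _ hq).symm
  obtain ⟨Λ, h1, h2, h3⟩ := bd3lam_abstract Q hQ hcen
  refine ⟨Λ, h1, ?_, h3⟩
  intro c hc hc1
  apply h2 c _ hc1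
  rw [hQcoe, Subgroup.mem_subgroupOf]
  exact hc

end loc

end Cfsg.Agent.Lib.helper7.BD
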