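import Mathlib
import Cfsg.Agent.Lib.helper7.BR.Defs
import Cfsg.Agent.Lib.helper7.Induction

/-!
# Project BR, piece PERM4 : `⟨π, π⟩ = |N|⁻² ∑_x |N ∩ x N x⁻¹|`
-/

set_option autoImplicit false
set_option linter.unusedVariables false
set_option linter.unusedSectionVars false

namespace Cfsg.Agent.Lib.helper7.BR

open Classical
open Cfsg.Agent.Lib.Helper25
open scoped ComplexConjugate

universe u

variable {G : Type u} [Group G] [Fintype G] {p : ℕ} [Fact p.Prime] {P : Sylow p G} {q t : ℕ}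
  {Xp Xm Y : Finset (Cfsg.IrrCharacter G)} {H : Subgroup G}

/-- the extension by zero of the constant `1` is the indicator of the subgroup. -/
theorem brperm4_ext (N : Subgroup G) (y : G) :
    Cfsg.extendByZero N (fun _ => (1 : ℂ)) y = if y ∈ N then 1 else 0 := by
  by_cases hy : y ∈ N
  · rw [if_pos hy, Cfsg.Agent.Lib.helper7.h7_extendByZero_mem N _ y hy]
  · rw [if_neg hy, Cfsg.Agent.Lib.helper7.h7_extendByZero_not_mem N _ y hy]

/-- the induced function of the constant `1` is real. -/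
theorem brperm4_conj (N : Subgroup G) (g : G) :
    conj (Cfsg.indFun N (fun _ => (1 : ℂ)) g) = Cfsg.indFun N (fun _ => (1 : ℂ)) g := by
  unfold Cfsg.indFun
  rw [map_mul, map_inv₀, Complex.conj_natCast, map_sum]
  congr 1
  apply Finset.sum_congr rfl
  intro x _
  rw [brperm4_ext]
  split_ifs <;> simp

/-- `#{h ∈ N : x⁻¹ h x ∈ N} = |N ∩ x N x⁻¹|`. -/
theorem brperm4_count (N : Subgroup G) (x : G) :
    ∑ h : ↥N, (if x⁻¹ * (h : G) * x ∈ N then (1 : ℂ) else 0) =
      (Nat.card ↥(N ⊓ conjSub x N) : ℂ) := by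
  rw [← Finset.sum_filter, Finset.sum_const, nsmul_eq_mul, mul_one]
  congr 1
  rw [Nat.card_eq_fintype_card, ← Fintype.card_subtype]
  apply Fintype.card_congr
  refine ⟨fun h => ⟨(h.1 : G), ⟨h.1.2, (mem_conjSub x N _).2 h.2⟩⟩,
    fun g => ⟨⟨g.1, g.2.1⟩, (mem_conjSub x N _).1 g.2.2⟩, fun h => ?_, fun g => ?_⟩
  · rfl
  · rfl

/-- PERM4 : `⟨π, π⟩ = |N|⁻² ∑_x |N ∩ x N x⁻¹|` -/
theorem inner_permChar_self (P : Sylow p G) :
    Cfsg.classInner (permChar P) (permChar P) =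
      ((Nat.card ↥(nrm P) : ℂ)⁻¹) ^ 2 * ∑ x : G, (Nat.card ↥(nrm P ⊓ conjSub x (nrm P)) : ℂ) := by
  have hcf : Cfsg.IsClassFunction G (permChar P) :=
    Cfsg.Agent.Lib.helper7.h7_indFun_isClassFunction (nrm P) _
  have h1 : Cfsg.classInner (permChar P) (permChar P) =
      Cfsg.classInner (fun _ : ↥(nrm P) => (1 : ℂ)) (fun h : ↥(nrm P) => permChar P h) :=
    Cfsg.Agent.Lib.helper7.h7_frobenius_reciprocity (nrm P) (fun _ => (1 : ℂ)) (permChar P) hcf
  rw [h1]
  unfold Cfsg.classInner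
  have h2 : ∀ h : ↥(nrm P), (1 : ℂ) * conj (permChar P (h : G)) =
      (Nat.card ↥(nrm P) : ℂ)⁻¹ * ∑ x : G, (if x⁻¹ * (h : G) * x ∈ nrm P then (1 : ℂ) else 0) := by
    intro h
    rw [one_mul]
    unfold permChar
    rw [brperm4_conj]
    unfold Cfsg.indFun
    congr 1
    apply Finset.sum_congr rfl
    intro x _
    rw [brperm4_ext]
  simp only [h2]
  rw [← Finset.mul_sum, Finset.sum_comm]
  simp only [brperm4_count]
  rw [pow_two, mul_assoc]

end Cfsg.Agent.Lib.helper7.BR
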