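import Mathlib
import Cfsg.Agent.Lib.helper7.BR.Defs
import Cfsg.Agent.Lib.helper7.Induction
import Cfsg.Agent.Lib.helper2.CharNat
import Cfsg.Agent.Lib.helper2.CharInd
import Cfsg.Agent.Lib.Helper27.BRPERM4

/-!
# Project BR, piece PERM1 : the permutation character `π = 1_N^G`
-/

set_option autoImplicit false
set_option linter.unusedVariables false
set_option linter.unusedSectionVars false

namespace Cfsg.Agent.Lib.helper7.BR

open Classical
open Cfsg.Agent.Lib.Helper25

universe u

variable {G : Type u} [Group G] [Fintype G] {p : ℕ} [Fact p.Prime] {P : Sylow p G} {q t : ℕ}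
  {Xp Xm Y : Finset (Cfsg.IrrCharacter G)} {H : Subgroup G}

/-- PERM1 -/
theorem permChar_isCharacter (P : Sylow p G) : Cfsg.IsCharacter G (permChar P) := by
  unfold permChar
  apply Cfsg.Agent.Lib.helper2.isCharacter_indFun
  exact Cfsg.Agent.Lib.helper2.isCharacter_of_irr (trivIrr ↥(nrm P))

/-- PERM1' : `π(g) = |N|⁻¹ #{x : x⁻¹ g x ∈ N}` -/
theorem permChar_apply (P : Sylow p G) (g : G) :
    permChar P g = (Nat.card ↥(nrm P) : ℂ)⁻¹ * (Nat.card {x : G // x⁻¹ * g * x ∈ nrm P} : ℂ) := by
  unfold permChar Cfsg.indFun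
  congr 1
  simp only [brperm4_ext]
  rw [← Finset.sum_filter, Finset.sum_const, nsmul_eq_mul, mul_one, Nat.card_eq_fintype_card,
    Fintype.card_subtype]

/-- PERM1'' -/
theorem permChar_one (P : Sylow p G) : permChar P 1 = ((nrm P).index : ℂ) := by
  unfold permChar
  rw [Cfsg.Agent.Lib.helper7.h7_indFun_one, mul_one]

end Cfsg.Agent.Lib.helper7.BR
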