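import Mathlib
import Cfsg.Agent.Lib.helper7.BR.Defs
import Cfsg.Agent.Lib.helper7.Induction
import Cfsg.Agent.Lib.helper7.CharTools
import Cfsg.Agent.Lib.helper2.CharNat
import Cfsg.Agent.Lib.helper2.CharInd
import Cfsg.Agent.Lib.Helper25.CharQuot

/-!
# Project BR, piece INDH1 (core) : `χ ∈ Xp` is induced from a linear character of `N` trivial on `P`
(with the statement of MU as a hypothesis)
-/

set_option autoImplicit false
set_option linter.unusedVariables false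
set_option linter.unusedSectionVars false

namespace Cfsg.Agent.Lib.helper7.BR

open Classical
open Cfsg.Agent.Lib.Helper25
open scoped ComplexConjugate

universe u

variable {G : Type u} [Group G] [Fintype G] {p : ℕ} [Fact p.Prime] {P : Sylow p G} {q t : ℕ}
  {Xp Xm Y : Finset (Cfsg.IrrCharacter G)} {H : Subgroup G}

/-- the statement of MU. -/
def BrMU (G : Type u) [Group G] [Fintype G] {p : ℕ} (P : Sylow p G) : Prop :=
  ∀ (χ : G → ℂ), Cfsg.IsCharacter G χ → ∑ x : ↥(P : Subgroup G), χ (x : G) ≠ 0 →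
    ∃ μ : ↥(nrm P) →* ℂˣ, (∀ x : ↥(nrm P), (x : G) ∈ (P : Subgroup G) → μ x = 1) ∧
      Cfsg.classInner (fun h : ↥(nrm P) => χ (h : G)) (fun h : ↥(nrm P) => ((μ h : ℂˣ) : ℂ)) ≠ 0

/-- `∑_{x ∈ P} χ(x) = χ(1) - 1 + |P|` if `χ = 1` on `P ∖ 1`. -/
theorem brindh1_sum (P : Sylow p G) (χ : G → ℂ)
    (hval : ∀ x ∈ (P : Subgroup G), x ≠ 1 → χ x = 1) :
    ∑ x : ↥(P : Subgroup G), χ (x : G) = χ 1 - 1 + (Nat.card ↥(P : Subgroup G) : ℂ) := by
  have h1 : ∑ x : ↥(P : Subgroup G), χ (x : G) =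
      ∑ x : ↥(P : Subgroup G), ((χ (x : G) - 1) + 1) := by
    apply Finset.sum_congr rfl
    intro x _
    ring
  rw [h1, Finset.sum_add_distrib]
  congr 1
  · rw [Finset.sum_eq_single (1 : ↥(P : Subgroup G))]
    · simp
    · intro x _ hx
      have hx1 : (x : G) ≠ 1 := fun h => hx (Subtype.ext h)
      rw [hval x x.2 hx1, sub_self]
    · intro h
      exact absurd (Finset.mem_univ _) h
  · rw [Finset.sum_const, Finset.card_univ, Nat.card_eq_fintype_card, nsmul_eq_mul, mul_one]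

/-- INDH1 with MU as a hypothesis. -/
theorem brindh1_core (hMU : BrMU G P) (hS : Setting p P q t) (hD : CharData p P q t Xp Xm Y)
    (χ : Cfsg.IrrCharacter G) (hχ : χ ∈ Xp) :
    ∃ μ : ↥(nrm P) →* ℂˣ, (∀ x : ↥(nrm P), (x : G) ∈ (P : Subgroup G) → μ x = 1) ∧
      (χ : G → ℂ) = Cfsg.indFun (nrm P) (fun h : ↥(nrm P) => ((μ h : ℂˣ) : ℂ)) := by
  have hχc : Cfsg.IsCharacter G (χ : G → ℂ) := Cfsg.Agent.Lib.helper2.isCharacter_of_irr χ
  have hdeg := hD.deg_Xp χ hχ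
  have ht1 : 1 ≤ t := by have := hS.ht; omega
  have hsum : ∑ x : ↥(P : Subgroup G), (χ : G → ℂ) (x : G) = ((t * p : ℕ) : ℂ) := by
    rw [brindh1_sum P _ (hD.val_Xp χ hχ), hdeg, hS.cardP]
    have : t = (t - 1) + 1 := by omega
    conv_rhs => rw [this]
    push_cast
    ring
  have hne : ∑ x : ↥(P : Subgroup G), (χ : G → ℂ) (x : G) ≠ 0 := by
    rw [hsum]
    have hp := hS.prime.pos
    have : 0 < t * p := Nat.mul_pos (by omega) hp
    exact_mod_cast this.ne'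
  obtain ⟨μ, hμP, hμ⟩ := hMU _ hχc hne
  refine ⟨μ, hμP, ?_⟩
  -- `Ψ = μ^G`
  have hΨ : Cfsg.IsCharacter G (Cfsg.indFun (nrm P) (fun h : ↥(nrm P) => ((μ h : ℂˣ) : ℂ))) :=
    Cfsg.Agent.Lib.helper2.isCharacter_indFun (nrm P) _
      (Cfsg.Agent.Lib.helper2.isCharacter_of_irr (linIrr μ))
  have hcl : Cfsg.IsClassFunction G (χ : G → ℂ) :=
    Cfsg.Agent.Lib.helper2.isCharacter_isClassFunction hχc
  have hfr := Cfsg.Agent.Lib.helper7.h7_frobenius_reciprocity (nrm P)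
    (fun h : ↥(nrm P) => ((μ h : ℂˣ) : ℂ)) (χ : G → ℂ) hcl
  have hinner : Cfsg.classInner (Cfsg.indFun (nrm P) (fun h : ↥(nrm P) => ((μ h : ℂˣ) : ℂ)))
      (χ : G → ℂ) ≠ 0 := by
    rw [hfr, Cfsg.Agent.Lib.helper2.classInner_conj_symm]
    intro h0
    apply hμ
    have := congrArg conj h0
    simpa using this
  obtain ⟨Δ, hΔ, hsplit⟩ := Cfsg.Agent.Lib.helper7.h7_char_split hΨ (χ : G → ℂ) χ.2 hinner
  have hΔ1 : Δ 1 = 0 := by
    have h1 := congrFun hsplit 1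
    rw [Cfsg.Agent.Lib.helper7.h7_indFun_one, hS.index, map_one, Units.val_one, mul_one,
      Pi.add_apply, hdeg] at h1
    have : ((1 + (t - 1) * p : ℕ) : ℂ) = ((1 + (t - 1) * p : ℕ) : ℂ) + Δ 1 := h1
    have h2 := this.symm
    rwa [add_eq_left] at h2
  have hΔ0 := Cfsg.Agent.Lib.helper7.h7_isCharacter_eq_zero hΔ hΔ1
  rw [hsplit, hΔ0, add_zero]

end Cfsg.Agent.Lib.helper7.BR
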