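import Mathlib
import Cfsg.Agent.Lib.helper7.BR.Defs
import Cfsg.Agent.Lib.Helper27.BRINDH1core
import Cfsg.Agent.Lib.Helper24.BRMU

/-!
# Project BR, piece INDH1 : every `χ ∈ Xp` is induced from a linear character of `N / P`
-/

set_option autoImplicit false
set_option linter.unusedVariables false
set_option linter.unusedSectionVars false

namespace Cfsg.Agent.Lib.helper7.BR

open Classical
open Cfsg.Agent.Lib.Helper25

universe u

variable {G : Type u} [Group G] [Fintype G] {p : ℕ} [Fact p.Prime] {P : Sylow p G} {q t : ℕ}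
  {Xp Xm Y : Finset (Cfsg.IrrCharacter G)} {H : Subgroup G}

/-- INDH1 : `χ = μ^G` for a linear character `μ` of `N` trivial on `P`, for every `χ ∈ Xp`. -/
theorem Xp_eq_ind (hS : Setting p P q t) (hD : CharData p P q t Xp Xm Y)
    (χ : Cfsg.IrrCharacter G) (hχ : χ ∈ Xp) :
    ∃ μ : ↥(nrm P) →* ℂˣ, (∀ x : ↥(nrm P), (x : G) ∈ (P : Subgroup G) → μ x = 1) ∧
      (χ : G → ℂ) = Cfsg.indFun (nrm P) (fun h : ↥(nrm P) => ((μ h : ℂˣ) : ℂ)) :=
  brindh1_core (fun χ hχ hne => exists_linear_constituent hS χ hχ hne) hS hD χ hχ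

end Cfsg.Agent.Lib.helper7.BR
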