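import Mathlib
import Cfsg.Agent.Lib.helper7.BR.Defs
import Cfsg.Agent.Lib.helper7.Induction
import Cfsg.Agent.Lib.Helper27.BRPERM1

/-!
# Project BR, piece INDH2 (core) : `χ(τ) = ± t` for `χ ∈ Xp` and the involution `τ ∈ H`
(with INDH1, LSTR2, LSTR3+LSTR4 as hypotheses)
-/

set_option autoImplicit false
set_option linter.unusedVariables false
set_option linter.unusedSectionVars false

namespace Cfsg.Agent.Lib.helper7.BR

open Classical
open Cfsg.Agent.Lib.Helper25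

universe u

variable {G : Type u} [Group G] [Fintype G] {p : ℕ} [Fact p.Prime] {P : Sylow p G} {q t : ℕ}
  {Xp Xm Y : Finset (Cfsg.IrrCharacter G)} {H : Subgroup G}

/-- a finite cyclic group has at most one element of order 2. -/
theorem brindh2_unique_invol {K : Type*} [Group K] [Finite K] [IsCyclic K] {a b : K}
    (ha : orderOf a = 2) (hb : orderOf b = 2) : a = b := by
  have : Fintype K := Fintype.ofFinite K
  by_contra hab
  have h1 := IsCyclic.card_pow_eq_one_le (α := K) (n := 2) (by norm_num)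
  have ha2 : a ^ 2 = 1 := by rw [← ha]; exact pow_orderOf_eq_one a
  have hb2 : b ^ 2 = 1 := by rw [← hb]; exact pow_orderOf_eq_one b
  have ha1 : a ≠ 1 := by
    intro h
    rw [h, orderOf_one] at ha
    norm_num at ha
  have hb1 : b ≠ 1 := by
    intro h
    rw [h, orderOf_one] at hb
    norm_num at hb
  have hsub : ({1, a, b} : Finset K) ⊆ Finset.univ.filter (fun x : K => x ^ 2 = 1) := by
    intro x hx
    simp only [Finset.mem_insert, Finset.mem_singleton] at hx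
    rw [Finset.mem_filter]
    refine ⟨Finset.mem_univ _, ?_⟩
    rcases hx with rfl | rfl | rfl
    · simp
    · exact ha2
    · exact hb2
  have hcard : ({1, a, b} : Finset K).card = 3 := by
    rw [Finset.card_insert_of_notMem, Finset.card_insert_of_notMem, Finset.card_singleton]
    · simpa using hab
    · simp only [Finset.mem_insert, Finset.mem_singleton, not_or]
      exact ⟨fun h => ha1 h.symm, fun h => hb1 h.symm⟩
  have := Finset.card_le_card hsub
  omega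

/-- an element of `N_G(H)` centralizes the involution of the cyclic group `H`. -/
theorem brindh2_conj_invol (hH : Compl P q H) {τ l : G} (hτH : τ ∈ H) (hτ : orderOf τ = 2)
    (hl : l ∈ nrmH H) : l⁻¹ * τ * l = τ := by
  have hlinv : l⁻¹ ∈ nrmH H := Subgroup.inv_mem _ hl
  have hmem : l⁻¹ * τ * l ∈ H := by
    have := (Subgroup.mem_normalizer_iff.mp hlinv τ).mp hτH
    rwa [inv_inv] at this
  have hord : orderOf (l⁻¹ * τ * l) = 2 := by
    have hs : SemiconjBy l⁻¹ τ (l⁻¹ * τ * l) := by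
      unfold SemiconjBy
      group
    rw [← hs.orderOf_eq, hτ]
  have := hH.cyc
  have h1 : orderOf (⟨l⁻¹ * τ * l, hmem⟩ : ↥H) = 2 := by
    rw [Subgroup.orderOf_mk]
    exact hord
  have h2 : orderOf (⟨τ, hτH⟩ : ↥H) = 2 := by
    rw [Subgroup.orderOf_mk]
    exact hτ
  have := brindh2_unique_invol h1 h2
  exact congrArg Subtype.val this

/-- INDH2 with INDH1, LSTR2 and (LSTR3 + LSTR4) as hypotheses. -/
theorem brindh2_core (hH : Compl P q H) (χ : G → ℂ) (τ : G) (hτH : τ ∈ H) (hτ : orderOf τ = 2)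
    (hind : ∃ μ : ↥(nrm P) →* ℂˣ, (∀ x : ↥(nrm P), (x : G) ∈ (P : Subgroup G) → μ x = 1) ∧
      χ = Cfsg.indFun (nrm P) (fun h : ↥(nrm P) => ((μ h : ℂˣ) : ℂ)))
    (hfix : ∀ x : G, x⁻¹ * τ * x ∈ nrm P → ∃ l ∈ nrmH H, ∃ y ∈ (P : Subgroup G), x = l * y)
    (hπ : permChar P τ = (t : ℂ)) :
    χ τ = (t : ℂ) ∨ χ τ = -(t : ℂ) := by
  obtain ⟨μ, hμP, rfl⟩ := hind
  have hτN : τ ∈ nrm P := hH.le hτH
  -- `μ(τ) = ± 1`
  have hμτ : ((μ ⟨τ, hτN⟩ : ℂˣ) : ℂ) = 1 ∨ ((μ ⟨τ, hτN⟩ : ℂˣ) : ℂ) = -1 := by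
    have hsq : (⟨τ, hτN⟩ : ↥(nrm P)) ^ 2 = 1 := by
      apply Subtype.ext
      rw [Subgroup.coe_pow, Subgroup.coe_one]
      show τ ^ 2 = 1
      rw [← hτ]; exact pow_orderOf_eq_one τ
    have : ((μ ⟨τ, hτN⟩ : ℂˣ) : ℂ) ^ 2 = 1 := by
      rw [← Units.val_pow_eq_pow_val, ← map_pow, hsq, map_one, Units.val_one]
    exact sq_eq_one_iff.mp this
  -- every term of the sum is `μ(τ)` or `0`
  have hterm : ∀ x : G, Cfsg.extendByZero (nrm P) (fun h : ↥(nrm P) => ((μ h : ℂˣ) : ℂ))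
      (x⁻¹ * τ * x) = ((μ ⟨τ, hτN⟩ : ℂˣ) : ℂ) * (if x⁻¹ * τ * x ∈ nrm P then 1 else 0) := by
    intro x
    by_cases hx : x⁻¹ * τ * x ∈ nrm P
    · rw [if_pos hx, mul_one, Cfsg.Agent.Lib.helper7.h7_extendByZero_mem _ _ _ hx]
      obtain ⟨l, hl, y, hy, rfl⟩ := hfix x hx
      have hyN : y ∈ nrm P := Subgroup.le_normalizer hy
      have hconj : (l * y)⁻¹ * τ * (l * y) = y⁻¹ * τ * y := by
        have := brindh2_conj_invol hH hτH hτ hl
        calc (l * y)⁻¹ * τ * (l * y) = y⁻¹ * (l⁻¹ * τ * l) * y := by group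
          _ = y⁻¹ * τ * y := by rw [this]
      have heq : (⟨(l * y)⁻¹ * τ * (l * y), hx⟩ : ↥(nrm P)) =
          (⟨y, hyN⟩ : ↥(nrm P))⁻¹ * ⟨τ, hτN⟩ * ⟨y, hyN⟩ := by
        apply Subtype.ext
        simp only [Subgroup.coe_mul, Subgroup.coe_inv]
        exact hconj
      rw [heq, map_mul, map_mul, map_inv, hμP ⟨y, hyN⟩ hy]
      simp
    · rw [if_neg hx, mul_zero, Cfsg.Agent.Lib.helper7.h7_extendByZero_not_mem _ _ _ hx]
  have hval : Cfsg.indFun (nrm P) (fun h : ↥(nrm P) => ((μ h : ℂˣ) : ℂ)) τ =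
      ((μ ⟨τ, hτN⟩ : ℂˣ) : ℂ) * permChar P τ := by
    unfold permChar Cfsg.indFun
    simp only [hterm, brperm4_ext]
    rw [← Finset.mul_sum]
    ring
  rw [hval, hπ]
  rcases hμτ with h | h
  · left; rw [h, one_mul]
  · right; rw [h]; ring

end Cfsg.Agent.Lib.helper7.BR
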