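import Mathlib
import Cfsg.Agent.Lib.helper7.BR.Defs
import Cfsg.Agent.Lib.Helper27.BRINDH2core
import Cfsg.Agent.Lib.Helper27.BRINDH1

/-!
# Project BR, piece INDH2 (second core) : `χ(τ) = ± t` with only the statements of
`fix_decomp`, `permChar_H`, `card_nrmH` (at `τ`) as hypotheses
-/

set_option autoImplicit false
set_option linter.unusedVariables false
set_option linter.unusedSectionVars false

namespace Cfsg.Agent.Lib.helper7.BR

open Classical
open Cfsg.Agent.Lib.Helper25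

universe u

variable {G : Type u} [Group G] [Fintype G] {p : ℕ} [Fact p.Prime] {P : Sylow p G} {q t : ℕ}
  {Xp Xm Y : Finset (Cfsg.IrrCharacter G)} {H : Subgroup G}

/-- INDH2 with the instances of LSTR2, LSTR3, LSTR4 at `τ` as hypotheses. -/
theorem brindh2_core2 (hS : Setting p P q t) (hD : CharData p P q t Xp Xm Y) (hH : Compl P q H)
    (χ : Cfsg.IrrCharacter G) (hχ : χ ∈ Xp) (τ : G) (hτH : τ ∈ H) (hτ : orderOf τ = 2)
    (hfix : ∀ x : G, x⁻¹ * τ * x ∈ nrm P → ∃ l ∈ nrmH H, ∃ y ∈ (P : Subgroup G), x = l * y)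
    (hperm : permChar P τ = (Nat.card ↥(nrmH H) : ℂ) / (q : ℂ))
    (hcard : Nat.card ↥(nrmH H) = t * q) :
    (χ : G → ℂ) τ = (t : ℂ) ∨ (χ : G → ℂ) τ = -(t : ℂ) := by
  have hq0 : (q : ℂ) ≠ 0 := by
    have := hS.hq
    exact_mod_cast (by omega : q ≠ 0)
  have hπ : permChar P τ = (t : ℂ) := by
    rw [hperm, hcard, Nat.cast_mul]
    field_simp
  exact brindh2_core hH (χ : G → ℂ) τ hτH hτ (Xp_eq_ind hS hD χ hχ) hfix hπ

/-- an element of order 2 is not 1. -/
theorem brindh2_ne_one {τ : G} (hτ : orderOf τ = 2) : τ ≠ 1 := by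
  intro h
  rw [h, orderOf_one] at hτ
  norm_num at hτ

end Cfsg.Agent.Lib.helper7.BR
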