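import Mathlib
import Cfsg.Agent.Lib.helper7.BR.Defs
import Cfsg.Agent.Lib.Helper27.BRINDH2core2
import Cfsg.Agent.Lib.Helper13.BRLSTR1
import Cfsg.Agent.Lib.Helper13.BRDEC4
import Cfsg.Agent.Lib.Helper28.BRLSTR3core
import Cfsg.Agent.Lib.Helper28.BRLSTR4core

/-!
# Project BR, piece INDH2 : `χ(τ) = ± t` for `χ ∈ Xp` and the involution `τ` of `H`
-/

set_option autoImplicit false
set_option linter.unusedVariables false
set_option linter.unusedSectionVars false

namespace Cfsg.Agent.Lib.helper7.BR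

open Classical
open Cfsg.Agent.Lib.Helper25

universe u

variable {G : Type u} [Group G] [Fintype G] {p : ℕ} [Fact p.Prime] {P : Sylow p G} {q t : ℕ}
  {Xp Xm Y : Finset (Cfsg.IrrCharacter G)} {H : Subgroup G}

/-- the statement of LSTR3, from its core and LSTR1/LSTR2. -/
theorem brindh2_permChar_H [Fintype (Cfsg.IrrCharacter G)] (hS : Setting p P q t)
    (hD : CharData p P q t Xp Xm Y) (hH : Compl P q H) (h : G) (hh : h ∈ H) (hh1 : h ≠ 1) :
    permChar P h = (Nat.card ↥(nrmH H) : ℂ) / (q : ℂ) :=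
  brlstr3_core hS hH h hh hh1 (fun x hx hxP => nrmH_inf_P hS hH x hx hxP)
    (fun x hx => fix_decomp hS hD hH h hh hh1 x hx)

/-- the statement of LSTR4, from its core, DEC4 and LSTR3. -/
theorem brindh2_card_nrmH [Fintype (Cfsg.IrrCharacter G)] (hS : Setting p P q t)
    (hD : CharData p P q t Xp Xm Y) (hH : Compl P q H) : Nat.card ↥(nrmH H) = t * q :=
  brlstr4_core hS hH (perm_decomp hS hD).2.1
    (fun h hh hh1 => brindh2_permChar_H hS hD hH h hh hh1)

/-- INDH2 : `χ(τ) = ± t` for `χ ∈ Xp` and the involution `τ` of `H`. -/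
theorem Xp_value [Fintype (Cfsg.IrrCharacter G)] (hS : Setting p P q t)
    (hD : CharData p P q t Xp Xm Y) (hH : Compl P q H) (χ : Cfsg.IrrCharacter G) (hχ : χ ∈ Xp)
    (τ : G) (hτH : τ ∈ H) (hτ : orderOf τ = 2) :
    (χ : G → ℂ) τ = (t : ℂ) ∨ (χ : G → ℂ) τ = -(t : ℂ) :=
  brindh2_core2 hS hD hH χ hχ τ hτH hτ
    (fun x hx => fix_decomp hS hD hH τ hτH (brindh2_ne_one hτ) x hx)
    (brindh2_permChar_H hS hD hH τ hτH (brindh2_ne_one hτ))
    (brindh2_card_nrmH hS hD hH)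

end Cfsg.Agent.Lib.helper7.BR
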