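import Mathlib
import Cfsg.Agent.Lib.helper7.R1.Defs
import Cfsg.Prelude.Def_BrauerPairs
import Cfsg.Prelude.Def_BlockRank

/-!
Project R1 (S4648), piece ACT : multiplication by the block idempotent on the reduction of an
irreducible character.
-/

set_option autoImplicit false

namespace Cfsg.Agent.Lib.Helper27.R1

open Cfsg.Agent.Lib.helper7 Cfsg.Agent.Lib.helper7.Br Cfsg.Agent.Lib.helper7.R1
open Cfsg.Agent.Lib.Helper25 Cfsg.Agent.Lib.helper2
open scoped ComplexConjugate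

section bridge

variable {G : Type*} [Group G] [Fintype G]
variable {M : Ideal Cfsg.AlgInt}

/-- translated evaluation: `∑_h coef_c(h) χ(hg) = c χ · χ(g)` -/
theorem act_coef_eval [Fintype (Cfsg.IrrCharacter G)] (c : Cfsg.IrrCharacter G → ℂ)
    (χ : Cfsg.IrrCharacter G) (g : G) :
    ∑ h : G, h7_coef c h * (χ : G → ℂ) (h * g) = c χ * (χ : G → ℂ) g := by
  classical
  unfold h7_coef
  have hG : (Nat.card G : ℂ) ≠ 0 := by exact_mod_cast Nat.card_pos.ne'
  have e1 : ∀ h : G, ((Nat.card G : ℂ)⁻¹ * ∑ ψ : Cfsg.IrrCharacter G,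
      c ψ * ((ψ : G → ℂ) 1 * conj ((ψ : G → ℂ) h))) * (χ : G → ℂ) (h * g) =
      ∑ ψ : Cfsg.IrrCharacter G, (Nat.card G : ℂ)⁻¹ * c ψ * (ψ : G → ℂ) 1 *
        ((ψ : G → ℂ) h⁻¹ * (χ : G → ℂ) (h * g)) := by
    intro h
    rw [Finset.mul_sum, Finset.sum_mul]
    refine Finset.sum_congr rfl fun ψ _ => ?_
    rw [irr_inv]
    ring
  rw [Finset.sum_congr rfl (fun h _ => e1 h), Finset.sum_comm]
  have e2 : ∀ ψ : Cfsg.IrrCharacter G, ∑ h : G, (Nat.card G : ℂ)⁻¹ * c ψ * (ψ : G → ℂ) 1 *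
        ((ψ : G → ℂ) h⁻¹ * (χ : G → ℂ) (h * g)) =
      (Nat.card G : ℂ)⁻¹ * c ψ * (ψ : G → ℂ) 1 *
        (if ψ = χ then (Nat.card G : ℂ) * (ψ : G → ℂ) g / (ψ : G → ℂ) 1 else 0) := by
    intro ψ
    rw [← Finset.mul_sum, ← h7_gen_orth ψ χ g]
    congr 1
    refine Fintype.sum_bijective (fun h => h * g) ?_ _ _ fun h => ?_
    · refine ⟨fun a b hab => mul_right_cancel hab, fun b => ⟨b * g⁻¹, by group⟩⟩
    · have : g * (h * g)⁻¹ = h⁻¹ := by group
      rw [this]
  rw [Finset.sum_congr rfl (fun ψ _ => e2 ψ), Finset.sum_eq_single χ]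
  · rw [if_pos rfl]
    have := irr_one_ne_zero χ
    field_simp
  · intro ψ _ hne
    rw [if_neg hne, mul_zero]
  · intro h
    exact absurd (Finset.mem_univ χ) h

/-- ACT : multiplication by the block idempotent on the reduction of an irreducible character. -/
theorem red_block_action (hMp : M.IsPrime) (B : Set (Cfsg.IrrCharacter G)) (hB : Cfsg.IsPBlock M B)
    (χ : Cfsg.IrrCharacter G) (g : G) :
    ∑ h : G, eBar hMp B h * redFun hMp (χ : G → ℂ) (h * g) =
      open Classical in if χ ∈ B then redFun hMp (χ : G → ℂ) g else 0 := by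
  classical
  haveI : Fintype (Cfsg.IrrCharacter G) := Fintype.ofFinite _
  have hχ : ∀ k : G, Cfsg.MemLocalRing M ((χ : G → ℂ) k) := fun k =>
    h7_memLocalRing_of_isIntegral hMp (irr_integral χ k)
  have h1 : ∑ h : G, eBar hMp B h * redFun hMp (χ : G → ℂ) (h * g) =
      h7_res M hMp (∑ h : G, Cfsg.blockCoeff B h * (χ : G → ℂ) (h * g)) := by
    rw [h7_res_sum hMp _ _ (fun h _ => h7_memLocalRing_mul hMp (blockCoeff_mem hMp B hB h) (hχ _))]
    refine Finset.sum_congr rfl fun h _ => ?_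
    rw [h7_res_mul hMp (blockCoeff_mem hMp B hB h) (hχ _), eBar_apply, redFun_apply]
  rw [h1]
  have h2 : ∑ h : G, Cfsg.blockCoeff B h * (χ : G → ℂ) (h * g) =
      (if χ ∈ B then (1 : ℂ) else 0) * (χ : G → ℂ) g := by
    rw [← act_coef_eval (fun ψ : Cfsg.IrrCharacter G => if ψ ∈ B then (1 : ℂ) else 0) χ g]
    refine Finset.sum_congr rfl fun h _ => ?_
    rw [h7_coef_indicator]
  rw [h2]
  by_cases hm : χ ∈ B
  · rw [if_pos hm, if_pos hm, one_mul, redFun_apply]
  · rw [if_neg hm, if_neg hm, zero_mul, h7_res_zero]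

end bridge

end Cfsg.Agent.Lib.Helper27.R1
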