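import Mathlib
import Cfsg.Agent.Lib.helper7.R1.Defs
import Cfsg.Prelude.Def_BrauerPairs
import Cfsg.Prelude.Def_BlockRank

/-!
Project R1 (S4648), piece TRP : a functional on the block algebra that kills commutators and
nilpotent elements gives a class function on `G` that does not see `p`-parts.
-/

set_option autoImplicit false

namespace Cfsg.Agent.Lib.Helper27.R1

open Cfsg.Agent.Lib.helper7 Cfsg.Agent.Lib.helper7.Br Cfsg.Agent.Lib.helper7.R1
open scoped ComplexConjugate

section bridge

variable {G : Type*} [Group G] [Fintype G]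
variable {M : Ideal Cfsg.AlgInt}

theorem trp_toBlock_pow (hMp : M.IsPrime) (B : Set (Cfsg.IrrCharacter G)) (hB : Cfsg.IsPBlock M B)
    (z : GA (h7_resRing M hMp) G) (n : ℕ) :
    toBlock hMp B hB (z ^ n) = toBlock hMp B hB z ^ n := by
  induction n with
  | zero => rw [pow_zero, pow_zero, toBlock_one]
  | succ n ih => rw [pow_succ, pow_succ, toBlock_mul, ih]

theorem trp_nontrivial (hMp : M.IsPrime) : Nontrivial (GA (h7_resRing M hMp) G) := by
  classical
  refine ⟨⟨1, 0, fun h => ?_⟩⟩
  have h1 := congrFun h (1 : G)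
  rw [GA.one_apply, if_pos rfl, GA.zero_apply] at h1
  exact one_ne_zero h1

theorem trp_charP {p : ℕ} [Fact p.Prime] (hM : Cfsg.IsPModular p M) :
    CharP (GA (h7_resRing M hM.2.1.isPrime) G) p := by
  have := h7_resRing_charP hM
  haveI : Nontrivial (GA (h7_resRing M hM.2.1.isPrime) G) := trp_nontrivial hM.2.1.isPrime
  exact charP_of_injective_algebraMap
    (algebraMap (h7_resRing M hM.2.1.isPrime) (GA (h7_resRing M hM.2.1.isPrime) G)).injective p

/-- TRP : a functional on the block algebra that kills commutators and nilpotent elements gives a class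
function on `G` that does not see `p`-parts. -/
theorem trace_fnl_props {p : ℕ} [Fact p.Prime] (hM : Cfsg.IsPModular p M)
    (B : Set (Cfsg.IrrCharacter G)) (hB : Cfsg.IsPBlock M B)
    (τ : BlockAlg hM.2.1.isPrime B hB →ₗ[h7_resRing M hM.2.1.isPrime] h7_resRing M hM.2.1.isPrime)
    (hτc : ∀ a b, τ (a * b) = τ (b * a)) (hτn : ∀ a, IsNilpotent a → τ a = 0) :
    (∀ g h : G, τ (toBlock hM.2.1.isPrime B hB (gof _ (h * g * h⁻¹))) =
        τ (toBlock hM.2.1.isPrime B hB (gof _ g))) ∧
      ∀ x y : G, Commute x y → (∃ k : ℕ, orderOf x = p ^ k) →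
        τ (toBlock hM.2.1.isPrime B hB (gof _ (x * y))) = τ (toBlock hM.2.1.isPrime B hB (gof _ y)) := by
  refine ⟨fun g h => ?_, fun x y hxy hx => ?_⟩
  · rw [← gof_mul, ← gof_mul, mul_assoc, toBlock_mul, hτc, ← toBlock_mul, mul_assoc, gof_mul,
      inv_mul_cancel, gof_one, mul_one]
  · obtain ⟨k, hk⟩ := hx
    have := trp_charP (G := G) hM
    set F := h7_resRing M hM.2.1.isPrime with hF
    set z : GA F G := gof F x - 1 with hz
    have hcomm : Commute (gof F x) (gof F y) := by
      show gof F x * gof F y = gof F y * gof F x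
      rw [gof_mul, gof_mul, hxy.eq]
    have hzy : Commute z (gof F y) := by
      rw [hz]
      exact (hcomm.sub_left (Commute.one_left _))
    have hzpow : z ^ p ^ k = 0 := by
      rw [hz, sub_pow_char_pow_of_commute p k (Commute.one_right _), gof_pow, one_pow, ← hk,
        pow_orderOf_eq_one, gof_one, sub_self]
    have hW : IsNilpotent (toBlock hM.2.1.isPrime B hB (z * gof F y)) := by
      refine ⟨p ^ k, ?_⟩
      rw [← trp_toBlock_pow, hzy.mul_pow, hzpow, zero_mul, map_zero]
    have h0 := hτn _ hW
    have h1 : z * gof F y = gof F (x * y) - gof F y := by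
      rw [hz, sub_mul, one_mul, gof_mul]
    rw [h1, map_sub, map_sub, sub_eq_zero] at h0
    exact h0

end bridge

end Cfsg.Agent.Lib.Helper27.R1
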