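import Mathlib
import Cfsg.Prelude.Def_OddOrderChar
import Cfsg.Agent.Lib.helper7.BD.D1Defs
import Cfsg.Agent.Lib.helper7.BD.D1Defs2
import Cfsg.Agent.Lib.helper2.BDREPS

set_option autoImplicit false
set_option linter.unusedVariables false
set_option linter.unusedSectionVars false

namespace Cfsg.Agent.Lib.helper7.BD

open Cfsg.Agent.Lib.helper7

universe u

section glob

variable {G : Type u} [Group G] [Fintype G] {p : ℕ} [Fact p.Prime]

/-- conjugation preserves the order -/
theorem bd3dade_orderOf_conj (g a : G) : orderOf (g * a * g⁻¹) = orderOf a := by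
  have := orderOf_injective (MulAut.conj g).toMonoidHom (MulAut.conj g).injective a
  simpa using this

/-- a `p`-singular element `a` of `C_G(P)` has a power which is a nontrivial element of `P` -/
theorem bd3dade_pow_mem (P : Sylow p G) (a : G)
    (ha : a ∈ Subgroup.centralizer ((P : Subgroup G) : Set G)) (hpa : p ∣ orderOf a) :
    a ^ (orderOf a / p) ∈ (P : Subgroup G) ∧ a ^ (orderOf a / p) ≠ 1 := by
  have hp : p.Prime := Fact.out
  set z : G := a ^ (orderOf a / p) with hz
  have hord : orderOf z = p := orderOf_pow_orderOf_div (orderOf_pos a).ne' hpa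
  have hzC : z ∈ Subgroup.centralizer ((P : Subgroup G) : Set G) := Subgroup.pow_mem _ ha _
  have hzN : Subgroup.zpowers z ≤ Subgroup.normalizer ((P : Subgroup G) : Set G) := by
    rw [Subgroup.zpowers_le]
    exact Subgroup.centralizer_le_normalizer _ hzC
  have hzp : IsPGroup p (Subgroup.zpowers z) := by
    apply IsPGroup.of_card (n := 1)
    rw [Nat.card_zpowers, hord, pow_one]
  have hsup : IsPGroup p (Subgroup.zpowers z ⊔ (P : Subgroup G) : Subgroup G) :=
    IsPGroup.to_sup_of_normal_right' hzp P.2 hzN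
  have heq := P.is_maximal' hsup le_sup_right
  refine ⟨?_, ?_⟩
  · have : z ∈ Subgroup.zpowers z ⊔ (P : Subgroup G) :=
      (le_sup_left : Subgroup.zpowers z ≤ _) (Subgroup.mem_zpowers z)
    rw [heq] at this
    exact this
  · intro h1
    rw [h1, orderOf_one] at hord
    exact hp.one_lt.ne hord

/-- DADE : the `p`-singular elements of `C` form a TI-set with normalizer `N` -/
theorem root_dade (P : Sylow p G) (hP : Nat.card P = p) :
    Cfsg.DadeHypothesis (singSet p (Subgroup.centralizer ((P : Subgroup G) : Set G)))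
      (Subgroup.normalizer ((P : Subgroup G) : Set G)) (fun _ => ⊥) := by
  have hp : p.Prime := Fact.out
  have hCN : Subgroup.centralizer ((P : Subgroup G) : Set G) ≤
      Subgroup.normalizer ((P : Subgroup G) : Set G) := Subgroup.centralizer_le_normalizer _
  -- `N` normalizes `C`
  have hNC : ∀ x ∈ Subgroup.normalizer ((P : Subgroup G) : Set G),
      ∀ c ∈ Subgroup.centralizer ((P : Subgroup G) : Set G),
        x * c * x⁻¹ ∈ Subgroup.centralizer ((P : Subgroup G) : Set G) := by
    intro x hx c hc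
    rw [Subgroup.mem_centralizer_iff] at hc ⊢
    intro y hy
    have hy' : x⁻¹ * y * x⁻¹⁻¹ ∈ (P : Subgroup G) :=
      (Subgroup.mem_normalizer_iff.1 (Subgroup.inv_mem _ hx) y).1 hy
    have h1 := hc _ hy'
    have h2 : y = x * (x⁻¹ * y * x⁻¹⁻¹) * x⁻¹ := by group
    calc y * (x * c * x⁻¹) = x * ((x⁻¹ * y * x⁻¹⁻¹) * c) * x⁻¹ := by group
      _ = x * (c * (x⁻¹ * y * x⁻¹⁻¹)) * x⁻¹ := by rw [h1]
      _ = x * c * x⁻¹ * y := by group
  refine
    { one_not_mem := ?_
      subset := ?_
      conj_mem := ?_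
      fusion := ?_
      le_centralizer := ?_
      conj_mem_H := ?_
      inf_eq_bot := ?_
      sup_eq := ?_
      coprime := ?_ }
  · rintro ⟨-, h⟩
    rw [orderOf_one] at h
    exact hp.one_lt.ne' (Nat.dvd_one.1 h)
  · intro a ha
    exact hCN ha.1
  · intro x hx a ha
    refine ⟨hNC x hx a ha.1, ?_⟩
    have : orderOf (x * a * x⁻¹) = orderOf a := bd3dade_orderOf_conj x a
    rw [this]
    exact ha.2
  · intro a ha g hg
    refine ⟨g, ?_, rfl⟩
    obtain ⟨h1, h2⟩ := bd3dade_pow_mem P a ha.1 ha.2
    obtain ⟨h3, h4⟩ := bd3dade_pow_mem P (g * a * g⁻¹) hg.1 hg.2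
    have hoc : orderOf (g * a * g⁻¹) = orderOf a := bd3dade_orderOf_conj g a
    rw [hoc, conj_pow] at h3 h4
    exact h2_mem_normalizer_of_conj p (P : Subgroup G) hP _ _ g h1 h2 h3 h4 rfl
  · intro a ha
    exact bot_le
  · intro a ha c hc u hu
    rw [Subgroup.mem_bot] at hu ⊢
    rw [hu]
    group
  · intro a ha
    exact bot_inf_eq _
  · intro a ha
    rw [bot_sup_eq]
    apply le_antisymm inf_le_right
    intro c hc
    refine ⟨?_, hc⟩
    obtain ⟨h1, h2⟩ := bd3dade_pow_mem P a ha.1 ha.2
    have hca : c * a = a * c := by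
      rw [Subgroup.mem_centralizer_iff] at hc
      exact (hc a (Set.mem_singleton a)).symm
    have hcz : c * a ^ (orderOf a / p) * c⁻¹ = a ^ (orderOf a / p) := by
      have : Commute c (a ^ (orderOf a / p)) := (show Commute c a from hca).pow_right _
      rw [this.eq]
      group
    exact h2_mem_normalizer_of_conj p (P : Subgroup G) hP _ _ c h1 h2 h1 h2 hcz
  · intro a ha b hb
    simp

end glob

end Cfsg.Agent.Lib.helper7.BD
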