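import Mathlib
import Cfsg.Agent.Lib.helper15.PSL.Defs
import Cfsg.Agent.Lib.Helper25.CharOrth
import Cfsg.Agent.Lib.helper23.BRCLS
import Cfsg.Agent.Lib.Helper10.BHPB
import Cfsg.Agent.Lib.helper7.CharCentral

/-!
# Project PSL, case B : common facts for the pieces B2A, B2B, B2C, UB
-/

set_option autoImplicit false
set_option linter.unusedVariables false
set_option linter.unusedSectionVars false
open scoped ComplexConjugate
open Classical

namespace Cfsg.Agent.Lib.helper15.PSL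

open Cfsg.Agent.Lib.helper7 Cfsg.Agent.Lib.helper7.BR Cfsg.Agent.Lib.helper2 Cfsg.Agent.Lib.Helper25
  Cfsg.Agent.Lib.Helper29 Cfsg.Agent.Lib.helper15.BH

universe u

variable {G : Type u} [Group G] [Fintype G] {p : ℕ} [Fact p.Prime]

/-- the elements of `P ∖ 1` are `p`-singular -/
theorem pslb2_order {f : ℕ} {P : Sylow p G} (hL : Loc p f P) {x : G}
    (hx : x ∈ (P : Subgroup G)) (hx1 : x ≠ 1) : p ∣ orderOf x := by
  have hpp : p.Prime := Fact.out
  have h1 : orderOf (⟨x, hx⟩ : ↥(P : Subgroup G)) ∣ Nat.card ↥(P : Subgroup G) :=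
    orderOf_dvd_natCard _
  rw [hL.cardP, ← Subgroup.orderOf_coe] at h1
  rcases (Nat.dvd_prime hpp).1 h1 with h | h
  · exfalso
    rw [orderOf_eq_one_iff] at h
    exact hx1 h
  · exact h ▸ dvd_refl _

/-- `1` is `p`-regular -/
theorem pslb2_one_reg : ¬ p ∣ orderOf (1 : G) := by
  have hpp : p.Prime := Fact.out
  rw [orderOf_one]
  exact hpp.one_lt.ne' ∘ Nat.dvd_one.1

/-- `X` is the disjoint union of `Xp` and `Xm` -/
theorem pslb2_card_X {f : ℕ} {P : Subgroup G} {X Y : Finset (Cfsg.IrrCharacter G)}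
    {a : Cfsg.IrrCharacter G → ℤ} {ε : ℤ} (hB : PB0 p f P X Y a ε) :
    (Xp X a).card + (Xm X a).card = f := by
  have h1 := Finset.card_filter_add_card_filter_not (s := X) (fun ξ => a ξ = 1)
  rw [hB.cardX] at h1
  have h2 : Xm X a = X.filter (fun ξ => ¬ a ξ = 1) := by
    unfold Xm
    apply Finset.filter_congr
    intro ξ hξ
    rcases hB.a_pm ξ hξ with h | h <;> rw [h] <;> norm_num
  rw [h2]
  exact h1

/-- a sum over `X` splits -/
theorem pslb2_sum_X {f : ℕ} {P : Subgroup G} {X Y : Finset (Cfsg.IrrCharacter G)}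
    {a : Cfsg.IrrCharacter G → ℤ} {ε : ℤ} (hB : PB0 p f P X Y a ε)
    (F : Cfsg.IrrCharacter G → ℂ) :
    ∑ ξ ∈ X, F ξ = ∑ ξ ∈ Xp X a, F ξ + ∑ ξ ∈ Xm X a, F ξ := by
  have h2 : Xm X a = X.filter (fun ξ => ¬ a ξ = 1) := by
    unfold Xm
    apply Finset.filter_congr
    intro ξ hξ
    rcases hB.a_pm ξ hξ with h | h <;> rw [h] <;> norm_num
  rw [h2]
  unfold Xp
  exact (Finset.sum_filter_add_sum_filter_not X (fun ξ => a ξ = 1) F).symm

/-- the values of the members of `Xp` at `p`-singular elements -/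
theorem pslb2_sum_Xp_sing {f : ℕ} {P : Subgroup G} {X Y : Finset (Cfsg.IrrCharacter G)}
    {a : Cfsg.IrrCharacter G → ℤ} {ε : ℤ} (hB : PB0 p f P X Y a ε) (g : G)
    (hg : p ∣ orderOf g) :
    ∑ ξ ∈ Xp X a, (ξ : G → ℂ) g = ((Xp X a).card : ℂ) := by
  have : ∀ ξ ∈ Xp X a, (ξ : G → ℂ) g = 1 := by
    intro ξ hξ
    unfold Xp at hξ
    rw [Finset.mem_filter] at hξ
    rw [hB.valX ξ hξ.1 g hg, hξ.2]
    norm_num
  rw [Finset.sum_congr rfl this]
  simp

/-- the values of the members of `Xm` at `p`-singular elements -/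
theorem pslb2_sum_Xm_sing {f : ℕ} {P : Subgroup G} {X Y : Finset (Cfsg.IrrCharacter G)}
    {a : Cfsg.IrrCharacter G → ℤ} {ε : ℤ} (hB : PB0 p f P X Y a ε) (g : G)
    (hg : p ∣ orderOf g) :
    ∑ ξ ∈ Xm X a, (ξ : G → ℂ) g = -((Xm X a).card : ℂ) := by
  have : ∀ ξ ∈ Xm X a, (ξ : G → ℂ) g = -1 := by
    intro ξ hξ
    unfold Xm at hξ
    rw [Finset.mem_filter] at hξ
    rw [hB.valX ξ hξ.1 g hg, hξ.2]
    norm_num
  rw [Finset.sum_congr rfl this]
  simp

/-- the values of `χ` and `η₀` on `P ∖ 1` in case B -/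
theorem pslb2_vals {f : ℕ} {P : Sylow p G} {X Y X' : Finset (Cfsg.IrrCharacter G)}
    {a a' : Cfsg.IrrCharacter G → ℤ} {ε : ℤ} {D : ℕ} {χ χ' η₀ : Cfsg.IrrCharacter G}
    (hL : Loc p f P) (hB : PB p f (P : Subgroup G) X Y a ε D)
    (hC : CaseB f χ χ' X Y a ε D η₀) (hX : BX p f (P : Subgroup G) χ χ' X' a')
    (x : G) (hx : x ∈ (P : Subgroup G)) (hx1 : x ≠ 1) :
    conj ((χ : G → ℂ) x) = (χ : G → ℂ) x ∧
      2 * ((χ : G → ℂ) x ^ 2 + (χ : G → ℂ) x) = (f : ℂ) ∧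
      (η₀ : G → ℂ) x = -(χ : G → ℂ) x := by
  have hpx := pslb2_order hL hx hx1
  have hcard := pslb2_card_X hB.toPB0
  have hXp : (2 : ℂ) * ((Xp X a).card : ℂ) = (f : ℂ) := by exact_mod_cast hC.cardXp
  have hXm : (2 : ℂ) * ((Xm X a).card : ℂ) = (f : ℂ) := by
    have : 2 * (Xm X a).card = f := by have := hC.cardXp; omega
    exact_mod_cast this
  have hW' := hC.W' x
  rw [pslb2_sum_Xm_sing hB.toPB0 x hpx] at hW'
  have hW := hC.W x
  rw [pslb2_sum_Xp_sing hB.toPB0 x hpx] at hW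
  have hs := hX.hsum x hx hx1
  set c := (χ : G → ℂ) x with hc
  set c' := (χ' : G → ℂ) x with hc'
  set e := (η₀ : G → ℂ) x with he
  have h1 : c' = -1 - c := by linear_combination hs
  rw [h1, map_sub, map_neg, map_one] at hW'
  -- `2 c + 2 c conj c = f`
  have h2 : 2 * c + 2 * (c * conj c) = (f : ℂ) := by linear_combination (-2 : ℂ) * hW' + hXm
  have h3 : conj (c * conj c) = c * conj c := by
    rw [map_mul, Complex.conj_conj, mul_comm]
  have h4 : conj c = c := by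
    have h5 := congrArg conj h2
    rw [map_add, map_mul, map_mul, h3, Complex.conj_natCast] at h5
    have h6 : conj (2 : ℂ) = 2 := Complex.conj_ofNat 2
    rw [h6] at h5
    linear_combination (1 / 2 : ℂ) * h5 - (1 / 2 : ℂ) * h2
  rw [h4] at h2 hW
  refine ⟨h4, ?_, ?_⟩
  · linear_combination h2
  · linear_combination (-1 : ℂ) * hW + (1 / 2 : ℂ) * h2 - (1 / 2 : ℂ) * hXp

/-- a `p`-singular element is conjugate to `x ζ` with `x ∈ P ∖ 1`, `ζ ∈ Z(G)` -/
theorem pslb2_sing_conj {f : ℕ} {P : Sylow p G} (hL : Loc p f P)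
    (hcp : ¬ p ∣ Nat.card ↥(Subgroup.center G) ∧
      ∀ c ∈ cen P, ∃ x ∈ (P : Subgroup G), ∃ ζ ∈ Subgroup.center G, c = x * ζ)
    (g : G) (hg : p ∣ orderOf g) :
    ∃ k x ζ : G, x ∈ (P : Subgroup G) ∧ x ≠ 1 ∧ ζ ∈ Subgroup.center G ∧
      k * g * k⁻¹ = x * ζ := by
  obtain ⟨k, y, ⟨y', hyy', hcomm, -, -⟩, hyP, hy1⟩ := bhpb_sing P g hg
  have hcen := centralizer_eq_cen P hL.cardP y hyP hy1
  have h1 : y ∈ cen P := by
    rw [← hcen, Subgroup.mem_centralizer_singleton_iff]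
  have h2 : y' ∈ cen P := by
    rw [← hcen, Subgroup.mem_centralizer_singleton_iff]
    exact hcomm.eq.symm
  have h3 : k * g * k⁻¹ ∈ cen P := by
    rw [← hyy']
    exact (cen P).mul_mem h1 h2
  obtain ⟨x, hx, ζ, hζ, hxz⟩ := hcp.2 _ h3
  refine ⟨k, x, ζ, hx, ?_, hζ, hxz⟩
  rintro rfl
  rw [one_mul] at hxz
  have h4 : orderOf (k * g * k⁻¹) = orderOf g := by
    have := (MulAut.conj k).orderOf_eq g
    rwa [MulAut.conj_apply] at this
  have h5 : orderOf ζ ∣ Nat.card ↥(Subgroup.center G) := by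
    have := orderOf_dvd_natCard (⟨ζ, hζ⟩ : ↥(Subgroup.center G))
    rwa [← Subgroup.orderOf_coe] at this
  rw [hxz] at h4
  rw [← h4] at hg
  exact hcp.1 (dvd_trans hg h5)

/-- the elements of the centre are `p`-regular -/
theorem pslb2_center_reg (hcp : ¬ p ∣ Nat.card ↥(Subgroup.center G)) (ζ : G)
    (hζ : ζ ∈ Subgroup.center G) : ¬ p ∣ orderOf ζ := by
  intro h
  have h5 : orderOf ζ ∣ Nat.card ↥(Subgroup.center G) := by
    have := orderOf_dvd_natCard (⟨ζ, hζ⟩ : ↥(Subgroup.center G))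
    rwa [← Subgroup.orderOf_coe] at this
  exact hcp (dvd_trans h h5)

/-- central character: `χ(1) χ(x ζ) = χ(ζ) χ(x)` -/
theorem pslb2_central (ψ : Cfsg.IrrCharacter G) (x ζ : G) (hζ : ζ ∈ Subgroup.center G) :
    (ψ : G → ℂ) 1 * (ψ : G → ℂ) (x * ζ) = (ψ : G → ℂ) ζ * (ψ : G → ℂ) x := by
  obtain ⟨c, hc⟩ := h7_central_char ψ.2 ζ hζ
  have h1 := hc 1
  rw [mul_one] at h1
  have h2 := hc x
  rw [← (Subgroup.mem_center_iff.mp hζ x)] at h2
  rw [h2, h1]
  ring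

end Cfsg.Agent.Lib.helper15.PSL
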