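import Mathlib
import Cfsg.Agent.Lib.Helper27.PSLB2core
import Cfsg.Agent.Lib.Helper9.PSLCENPROD

set_option autoImplicit false
set_option linter.unusedVariables false
set_option linter.unusedSectionVars false
open scoped ComplexConjugate
open Classical

namespace Cfsg.Agent.Lib.helper15.PSL

open Cfsg.Agent.Lib.helper7 Cfsg.Agent.Lib.helper7.BR Cfsg.Agent.Lib.helper2 Cfsg.Agent.Lib.Helper25
  Cfsg.Agent.Lib.Helper29 Cfsg.Agent.Lib.helper15.BH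

universe u

variable {G : Type u} [Group G] [Fintype G] {p : ℕ} [Fact p.Prime]

/-- B2a with the conclusion of CENPROD as a hypothesis -/
theorem pslb2a_core {f : ℕ} {P : Sylow p G} {X Y X' : Finset (Cfsg.IrrCharacter G)}
    {a a' : Cfsg.IrrCharacter G → ℤ} {ε : ℤ} {D : ℕ} {χ χ' η₀ : Cfsg.IrrCharacter G}
    (hL : Loc p f P)
    (hcp : ¬ p ∣ Nat.card ↥(Subgroup.center G) ∧
      ∀ c ∈ cen P, ∃ x ∈ (P : Subgroup G), ∃ ζ ∈ Subgroup.center G, c = x * ζ)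
    (hB : PB p f (P : Subgroup G) X Y a ε D)
    (hC : CaseB f χ χ' X Y a ε D η₀) (hX : BX p f (P : Subgroup G) χ χ' X' a') (g : G) :
    ((χ : G → ℂ) g - (χ' : G → ℂ) g) * (η₀ : G → ℂ) g =
      (χ : G → ℂ) g - ∑ ξ ∈ X', (a' ξ : ℂ) * (ξ : G → ℂ) g := by
  by_cases hg : p ∣ orderOf g
  · obtain ⟨k, x, ζ, hx, hx1, hζ, hk⟩ := pslb2_sing_conj hL hcp g hg
    have hcl : ∀ ψ : Cfsg.IrrCharacter G, (ψ : G → ℂ) g = (ψ : G → ℂ) (x * ζ) := by
      intro ψ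
      rw [← hk, irr_conj_invariant]
    rw [hcl χ, hcl χ', hcl η₀]
    rw [Finset.sum_congr rfl (fun ξ _ => by rw [hcl ξ])]
    obtain ⟨hreal, hquad, heta⟩ := pslb2_vals hL hB hC hX x hx hx1
    have hs := hX.hsum x hx hx1
    have hf0 : (f : ℂ) ≠ 0 := by
      have := hL.f_ge
      exact_mod_cast (by omega : f ≠ 0)
    -- central characters
    have hχ1 := hX.degχ
    have hχ'1 : (χ' : G → ℂ) 1 = (f : ℂ) := by rw [hX.hreg 1 pslb2_one_reg, hχ1]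
    have hχ'ζ : (χ' : G → ℂ) ζ = (χ : G → ℂ) ζ := hX.hreg ζ (pslb2_center_reg hcp.1 ζ hζ)
    have e1 := pslb2_central χ x ζ hζ
    have e2 := pslb2_central χ' x ζ hζ
    rw [hχ1] at e1
    rw [hχ'1, hχ'ζ] at e2
    have e3 : (η₀ : G → ℂ) (x * ζ) = (η₀ : G → ℂ) x :=
      hB.cker η₀ (Finset.mem_union_right _ hC.mem) ζ hζ x
    -- the sum over `X'`
    have e4 : (f : ℂ) * ∑ ξ ∈ X', (a' ξ : ℂ) * (ξ : G → ℂ) (x * ζ) =
        (f : ℂ) * (χ : G → ℂ) ζ := by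
      rw [Finset.mul_sum]
      have : ∀ ξ ∈ X', (f : ℂ) * ((a' ξ : ℂ) * (ξ : G → ℂ) (x * ζ)) = (χ : G → ℂ) ζ := by
        intro ξ hξ
        have h1 := hX.val ξ hξ x hx hx1 ζ hζ
        have h2 : (a' ξ : ℂ) * (a' ξ : ℂ) = 1 := by
          rcases hX.a_pm ξ hξ with h | h <;> rw [h] <;> norm_num
        calc (f : ℂ) * ((a' ξ : ℂ) * (ξ : G → ℂ) (x * ζ))
            = (a' ξ : ℂ) * ((f : ℂ) * (ξ : G → ℂ) (x * ζ)) := by ring
          _ = (a' ξ : ℂ) * ((a' ξ : ℂ) * (χ : G → ℂ) ζ) := by rw [h1]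
          _ = ((a' ξ : ℂ) * (a' ξ : ℂ)) * (χ : G → ℂ) ζ := by ring
          _ = (χ : G → ℂ) ζ := by rw [h2, one_mul]
      rw [Finset.sum_congr rfl this, Finset.sum_const, hX.cardX, nsmul_eq_mul]
    rw [e3, heta]
    -- multiply by `f`
    apply mul_left_cancel₀ hf0
    have h5 : (χ' : G → ℂ) x = -1 - (χ : G → ℂ) x := by linear_combination hs
    rw [mul_sub (f : ℂ) ((χ : G → ℂ) (x * ζ)), e4]
    rw [h5] at e2
    set c := (χ : G → ℂ) x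
    set A := (χ : G → ℂ) (x * ζ)
    set A' := (χ' : G → ℂ) (x * ζ)
    set z := (χ : G → ℂ) ζ
    linear_combination (-c - 1) * e1 + c * e2 - z * hquad
  · have h1 := hX.hreg g hg
    have h2 := hX.rel g hg
    rw [h1, sub_self, zero_mul, ← h2, sub_self]

/-- B2a : the class function identity `(χ - χ') η₀ = χ - ∑ a' ξ` -/
theorem caseB_identity {f : ℕ} {P : Sylow p G} {X Y X' : Finset (Cfsg.IrrCharacter G)}
    {a a' : Cfsg.IrrCharacter G → ℤ} {ε : ℤ} {D : ℕ} {χ χ' η₀ : Cfsg.IrrCharacter G}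
    (hL : Loc p f P) (hB : PB p f (P : Subgroup G) X Y a ε D)
    (hC : CaseB f χ χ' X Y a ε D η₀) (hX : BX p f (P : Subgroup G) χ χ' X' a') (g : G) :
    ((χ : G → ℂ) g - (χ' : G → ℂ) g) * (η₀ : G → ℂ) g =
      (χ : G → ℂ) g - ∑ ξ ∈ X', (a' ξ : ℂ) * (ξ : G → ℂ) g :=
  pslb2a_core hL (cen_prod hL) hB hC hX g

end Cfsg.Agent.Lib.helper15.PSL
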