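import Mathlib
import Cfsg.Agent.Lib.Helper27.PSLB2core
import Cfsg.Agent.Lib.helper2.CharNat
import Cfsg.Agent.Lib.helper2.CharInd
import Cfsg.Agent.Lib.helper7.CharMul
import Cfsg.Agent.Lib.Helper25.CharReal

set_option autoImplicit false
set_option linter.unusedVariables false
set_option linter.unusedSectionVars false
open scoped ComplexConjugate
open Classical

namespace Cfsg.Agent.Lib.helper15.PSL

open Cfsg.Agent.Lib.helper7 Cfsg.Agent.Lib.helper7.BR Cfsg.Agent.Lib.helper2 Cfsg.Agent.Lib.Helper25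
  Cfsg.Agent.Lib.Helper29 Cfsg.Agent.Lib.helper15.BH

universe u

variable {G : Type u} [Group G] [Fintype G] {p : ℕ} [Fact p.Prime]

/-- the sum of a character over a subgroup is a multiple of its order -/
theorem pslb2b_sum_sub {ψ : G → ℂ} (hψ : Cfsg.IsCharacter G ψ) (H : Subgroup G) :
    ∃ m : ℕ, ∑ x : ↥H, ψ (x : G) = (Nat.card ↥H : ℂ) * (m : ℂ) := by
  obtain ⟨m, hm⟩ := classInner_character_nat (isCharacter_restrict hψ H)
    (isCharacter_of_irr (trivIrr ↥H))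
  refine ⟨m, ?_⟩
  unfold Cfsg.classInner at hm
  simp only [trivIrr_apply, map_one, mul_one] at hm
  have hne : (Nat.card ↥H : ℂ) ≠ 0 := by exact_mod_cast Nat.card_pos.ne'
  rw [← hm, ← mul_assoc, mul_inv_cancel₀ hne, one_mul]

/-- the sum over `P` of a function which is constant on `P ∖ 1` -/
theorem pslb2b_sum_const {f : ℕ} {P : Sylow p G} (hL : Loc p f P) (ψ : G → ℂ) (c : ℂ)
    (hc : ∀ x ∈ (P : Subgroup G), x ≠ 1 → ψ x = c) :
    ∑ x : ↥(P : Subgroup G), ψ (x : G) = ψ 1 + 2 * (f : ℂ) * c := by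
  rw [← Finset.add_sum_erase _ _ (Finset.mem_univ (1 : ↥(P : Subgroup G)))]
  have h1 : ∀ x ∈ (Finset.univ : Finset ↥(P : Subgroup G)).erase 1, ψ (x : G) = c := by
    intro x hx
    apply hc x x.2
    intro h
    exact (Finset.mem_erase.mp hx).1 (Subtype.ext h)
  rw [Finset.sum_congr rfl h1, Finset.sum_const, Finset.card_erase_of_mem (Finset.mem_univ _),
    Finset.card_univ, ← Nat.card_eq_fintype_card, hL.cardP, nsmul_eq_mul]
  have h2 : p - 1 = 2 * f := by have := hL.two_f; omega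
  rw [h2]
  push_cast
  rfl

/-- the value of a member of `X'` on `P ∖ 1` -/
theorem pslb2b_val {f : ℕ} {P : Sylow p G} {X' : Finset (Cfsg.IrrCharacter G)}
    {a' : Cfsg.IrrCharacter G → ℤ} {χ χ' : Cfsg.IrrCharacter G}
    (hL : Loc p f P) (hX : BX p f (P : Subgroup G) χ χ' X' a') (ξ : Cfsg.IrrCharacter G)
    (hξ : ξ ∈ X') (x : G) (hx : x ∈ (P : Subgroup G)) (hx1 : x ≠ 1) :
    (ξ : G → ℂ) x = (a' ξ : ℂ) := by
  have hf0 : (f : ℂ) ≠ 0 := by
    have := hL.f_ge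
    exact_mod_cast (by omega : f ≠ 0)
  have h1 := hX.val ξ hξ x hx hx1 1 (Subgroup.one_mem _)
  rw [mul_one, hX.degχ] at h1
  apply mul_left_cancel₀ hf0
  rw [h1]
  ring

/-- B2b -/
theorem pslb2b_core {f : ℕ} {P : Sylow p G} {X Y X' : Finset (Cfsg.IrrCharacter G)}
    {a a' : Cfsg.IrrCharacter G → ℤ} {ε : ℤ} {D : ℕ} {χ χ' η₀ : Cfsg.IrrCharacter G}
    (hL : Loc p f P) (hB : PB p f (P : Subgroup G) X Y a ε D)
    (hC : CaseB f χ χ' X Y a ε D η₀) (hX : BX p f (P : Subgroup G) χ χ' X' a') :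
    χ ∉ X' ∧ χ' ∉ X' ∧ (∀ ξ ∈ X', a' ξ = -1 → p - 1 ≤ leoDeg ξ) ∧
      (∀ ξ ∈ X', a' ξ = 1 → Cfsg.classInner
        (fun g => (χ' : G → ℂ) g * (η₀ : G → ℂ) g) (ξ : G → ℂ) ≠ 0 → p + 1 ≤ leoDeg ξ) := by
  have hpp : p.Prime := Fact.out
  have hf0 : (f : ℂ) ≠ 0 := by
    have := hL.f_ge
    exact_mod_cast (by omega : f ≠ 0)
  refine ⟨?_, ?_, ?_, ?_⟩
  · intro hmem
    have h1 := pslb2b_sum_const hL (χ : G → ℂ) (a' χ : ℂ)
      (fun x hx hx1 => pslb2b_val hL hX χ hmem x hx hx1)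
    rw [hX.sumP, hX.degχ] at h1
    rcases hX.a_pm χ hmem with h | h
    · rw [h] at h1
      apply hf0
      push_cast at h1
      linear_combination (-1 / 3 : ℂ) * h1
    · rw [h] at h1
      apply hf0
      push_cast at h1
      linear_combination h1
  · intro hmem
    have h0 : ∀ x ∈ (P : Subgroup G), x ≠ 1 → (χ : G → ℂ) x = -1 - (a' χ' : ℂ) := by
      intro x hx hx1
      have h2 := pslb2b_val hL hX χ' hmem x hx hx1
      have h3 := hX.hsum x hx hx1
      rw [h2] at h3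
      linear_combination h3
    have h1 := pslb2b_sum_const hL (χ : G → ℂ) (-1 - (a' χ' : ℂ)) h0
    rw [hX.sumP, hX.degχ] at h1
    rcases hX.a_pm χ' hmem with h | h
    · rw [h] at h1
      apply hf0
      push_cast at h1
      linear_combination (1 / 3 : ℂ) * h1
    · rw [h] at h1
      apply hf0
      push_cast at h1
      linear_combination (-1 : ℂ) * h1
  · intro ξ hξ ha
    obtain ⟨m, hm⟩ := pslb2b_sum_sub (isCharacter_of_irr ξ) (P : Subgroup G)
    have h1 := pslb2b_sum_const hL (ξ : G → ℂ) (a' ξ : ℂ)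
      (fun x hx hx1 => pslb2b_val hL hX ξ hξ x hx hx1)
    rw [hm, hL.cardP, leoDeg_spec, ha] at h1
    have h2 : (leoDeg ξ : ℂ) = ((p * m + 2 * f : ℕ) : ℂ) := by
      push_cast
      push_cast at h1
      linear_combination (-1 : ℂ) * h1
    have h3 : leoDeg ξ = p * m + 2 * f := by exact_mod_cast h2
    have := hL.two_f
    omega
  · intro ξ hξ ha hne
    obtain ⟨m, hm⟩ := pslb2b_sum_sub (isCharacter_of_irr ξ) (P : Subgroup G)
    have h1 := pslb2b_sum_const hL (ξ : G → ℂ) (a' ξ : ℂ)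
      (fun x hx hx1 => pslb2b_val hL hX ξ hξ x hx hx1)
    rw [hm, hL.cardP, leoDeg_spec, ha] at h1
    have h2 : ((leoDeg ξ + 2 * f : ℕ) : ℂ) = ((p * m : ℕ) : ℂ) := by
      push_cast
      push_cast at h1
      linear_combination (-1 : ℂ) * h1
    have h3 : leoDeg ξ + 2 * f = p * m := by exact_mod_cast h2
    have hdpos := leoDeg_pos ξ
    -- the degree is not `1`
    have hd1 : leoDeg ξ ≠ 1 := by
      intro hd
      set Ψ : G → ℂ := (irrConj χ' : G → ℂ) * (ξ : G → ℂ) with hΨ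
      have hΨc : Cfsg.IsCharacter G Ψ :=
        h7_isCharacter_mul (isCharacter_of_irr (irrConj χ')) (isCharacter_of_irr ξ)
      have hχ'1 : (χ' : G → ℂ) 1 = (f : ℂ) := by rw [hX.hreg 1 pslb2_one_reg, hX.degχ]
      have hΨ1 : Ψ 1 = (f : ℂ) := by
        rw [hΨ, Pi.mul_apply, irrConj_apply, hχ'1, leoDeg_spec, hd]
        simp
      obtain ⟨m', hm'⟩ := classInner_character_nat hΨc (isCharacter_of_irr η₀)
      have hconj : Cfsg.classInner Ψ (η₀ : G → ℂ) =
          conj (Cfsg.classInner (fun g => (χ' : G → ℂ) g * (η₀ : G → ℂ) g) (ξ : G → ℂ)) := by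
        unfold Cfsg.classInner
        rw [map_mul, map_inv₀, Complex.conj_natCast, map_sum]
        congr 1
        refine Finset.sum_congr rfl fun g _ => ?_
        rw [hΨ, Pi.mul_apply, irrConj_apply, map_mul, map_mul, Complex.conj_conj]
        ring
      have hm0 : m' ≠ 0 := by
        rintro rfl
        rw [hconj, Nat.cast_zero, map_eq_zero] at hm'
        exact hne hm'
      have hη1 : (η₀ : G → ℂ) 1 = ((f + 1 : ℕ) : ℂ) := by
        rw [hB.degY η₀ hC.mem, hC.D_eq]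
      have hge := isCharacter_degree_ge hΨc η₀ m' f (f + 1) hm' hΨ1 hη1
      have : 1 * (f + 1) ≤ m' * (f + 1) := Nat.mul_le_mul_right _ (Nat.one_le_iff_ne_zero.2 hm0)
      omega
    have htwo := hL.two_f
    rcases Nat.lt_or_ge m 2 with hm2 | hm2
    · interval_cases m
      · rw [mul_zero] at h3; omega
      · rw [mul_one] at h3; omega
    · have : p * 2 ≤ p * m := Nat.mul_le_mul_left p hm2
      omega

/-- B2b : lower bounds for the degrees of the members of `X'`, and `χ, χ' ∉ X'` -/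
theorem caseB_degrees {f : ℕ} {P : Sylow p G} {X Y X' : Finset (Cfsg.IrrCharacter G)}
    {a a' : Cfsg.IrrCharacter G → ℤ} {ε : ℤ} {D : ℕ} {χ χ' η₀ : Cfsg.IrrCharacter G}
    (hL : Loc p f P) (hB : PB p f (P : Subgroup G) X Y a ε D)
    (hC : CaseB f χ χ' X Y a ε D η₀) (hX : BX p f (P : Subgroup G) χ χ' X' a') :
    χ ∉ X' ∧ χ' ∉ X' ∧ (∀ ξ ∈ X', a' ξ = -1 → p - 1 ≤ leoDeg ξ) ∧
      (∀ ξ ∈ X', a' ξ = 1 → Cfsg.classInner
        (fun g => (χ' : G → ℂ) g * (η₀ : G → ℂ) g) (ξ : G → ℂ) ≠ 0 → p + 1 ≤ leoDeg ξ) :=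
  pslb2b_core hL hB hC hX

end Cfsg.Agent.Lib.helper15.PSL
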