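import Mathlib
import Cfsg.Agent.Lib.Helper27.PSLB2A
import Cfsg.Agent.Lib.Helper27.PSLB2B
import Cfsg.Agent.Lib.helper23.PSLDEGSUM
import Cfsg.Agent.Lib.Helper29.PSLDECOMP

set_option autoImplicit false
set_option linter.unusedVariables false
set_option linter.unusedSectionVars false
open scoped ComplexConjugate
open Classical

namespace Cfsg.Agent.Lib.helper15.PSL

open Cfsg.Agent.Lib.helper7 Cfsg.Agent.Lib.helper7.BR Cfsg.Agent.Lib.helper2 Cfsg.Agent.Lib.Helper25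
  Cfsg.Agent.Lib.Helper29 Cfsg.Agent.Lib.helper15.BH

universe u

variable {G : Type u} [Group G] [Fintype G] {p : ℕ} [Fact p.Prime]

/-- `Xm` is the complement of `Xp` -/
theorem pslb2c_Xm_eq (X : Finset (Cfsg.IrrCharacter G)) (a : Cfsg.IrrCharacter G → ℤ)
    (hpm : ∀ ξ ∈ X, a ξ = 1 ∨ a ξ = -1) : Xm X a = X.filter (fun ξ => ¬ a ξ = 1) := by
  unfold Xm
  apply Finset.filter_congr
  intro ξ hξ
  rcases hpm ξ hξ with h | h <;> rw [h] <;> norm_num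

theorem pslb2c_card_split (X : Finset (Cfsg.IrrCharacter G)) (a : Cfsg.IrrCharacter G → ℤ)
    (hpm : ∀ ξ ∈ X, a ξ = 1 ∨ a ξ = -1) : (Xp X a).card + (Xm X a).card = X.card := by
  rw [pslb2c_Xm_eq X a hpm]
  exact Finset.card_filter_add_card_filter_not (s := X) (fun ξ => a ξ = 1)

theorem pslb2c_sum_split (X : Finset (Cfsg.IrrCharacter G)) (a : Cfsg.IrrCharacter G → ℤ)
    (hpm : ∀ ξ ∈ X, a ξ = 1 ∨ a ξ = -1) (F : Cfsg.IrrCharacter G → ℂ) :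
    ∑ ξ ∈ X, F ξ = ∑ ξ ∈ Xp X a, F ξ + ∑ ξ ∈ Xm X a, F ξ := by
  rw [pslb2c_Xm_eq X a hpm]
  unfold Xp
  exact (Finset.sum_filter_add_sum_filter_not X (fun ξ => a ξ = 1) F).symm

/-- if every term is at least `n` and the sum is at most `card • n`, every term is `n` -/
theorem pslb2c_all_eq {ι : Type*} (s : Finset ι) (g : ι → ℕ) (n : ℕ) (h1 : ∀ x ∈ s, n ≤ g x)
    (h2 : ∑ x ∈ s, g x ≤ s.card * n) : ∀ x ∈ s, g x = n := by
  by_contra hcon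
  push Not at hcon
  obtain ⟨x, hx, hne⟩ := hcon
  have hlt : n < g x := lt_of_le_of_ne (h1 x hx) (Ne.symm hne)
  have h3 : ∑ _x ∈ s, n < ∑ x ∈ s, g x := Finset.sum_lt_sum h1 ⟨x, hx, hlt⟩
  rw [Finset.sum_const, smul_eq_mul] at h3
  omega

/-- B2c, with DECOMP as a hypothesis -/
theorem pslb2c_core {f : ℕ} {P : Sylow p G} {X Y X' : Finset (Cfsg.IrrCharacter G)}
    {a a' : Cfsg.IrrCharacter G → ℤ} {ε : ℤ} {D : ℕ} {χ χ' η₀ : Cfsg.IrrCharacter G}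
    (hdec : ∀ (Ψ : G → ℂ), Cfsg.IsCharacter G Ψ → ∀ (S : Finset (Cfsg.IrrCharacter G)),
      (∀ ξ ∈ S, Cfsg.classInner Ψ (ξ : G → ℂ) ≠ 0) → ∀ (d : ℕ), Ψ 1 = (d : ℂ) →
      ∑ ξ ∈ S, leoDeg ξ = d → ∀ g : G, Ψ g = ∑ ξ ∈ S, (ξ : G → ℂ) g)
    (hL : Loc p f P) (hB : PB p f (P : Subgroup G) X Y a ε D)
    (hC : CaseB f χ χ' X Y a ε D η₀) (hX : BX p f (P : Subgroup G) χ χ' X' a') :
    (∀ ξ ∈ X', a' ξ = -1 → (ξ : G → ℂ) 1 = (p : ℂ) - 1) ∧
    (∀ ξ ∈ X', a' ξ = 1 → (ξ : G → ℂ) 1 = (p : ℂ) + 1) ∧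
    (∀ g : G, (χ : G → ℂ) g * (η₀ : G → ℂ) g = (χ : G → ℂ) g + ∑ ξ ∈ Xm X' a', (ξ : G → ℂ) g) ∧
    (∀ g : G, (χ' : G → ℂ) g * (η₀ : G → ℂ) g = ∑ ξ ∈ Xp X' a', (ξ : G → ℂ) g) := by
  have hpp : p.Prime := Fact.out
  have htwo := hL.two_f
  have hf2 := hL.f_ge
  obtain ⟨hχX, hχ'X, hdm, hdp⟩ := caseB_degrees hL hB hC hX
  set A : G → ℂ := (χ : G → ℂ) * (η₀ : G → ℂ) with hAdef
  set B : G → ℂ := (χ' : G → ℂ) * (η₀ : G → ℂ) with hBdef
  have hA : Cfsg.IsCharacter G A := h7_isCharacter_mul (isCharacter_of_irr χ) (isCharacter_of_irr η₀)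
  have hBc : Cfsg.IsCharacter G B :=
    h7_isCharacter_mul (isCharacter_of_irr χ') (isCharacter_of_irr η₀)
  have hη1 : (η₀ : G → ℂ) 1 = ((f + 1 : ℕ) : ℂ) := by rw [hB.degY η₀ hC.mem, hC.D_eq]
  have hχ'1 : (χ' : G → ℂ) 1 = (f : ℂ) := by rw [hX.hreg 1 pslb2_one_reg, hX.degχ]
  have hA1 : A 1 = ((f * (f + 1) : ℕ) : ℂ) := by
    rw [hAdef, Pi.mul_apply, hX.degχ, hη1]; push_cast; ring
  have hB1 : B 1 = ((f * (f + 1) : ℕ) : ℂ) := by
    rw [hBdef, Pi.mul_apply, hχ'1, hη1]; push_cast; ring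
  have hBfun : B = fun g => (χ' : G → ℂ) g * (η₀ : G → ℂ) g := rfl
  -- multiplicities
  have hmA : ∀ ψ : Cfsg.IrrCharacter G, ∃ m : ℕ, Cfsg.classInner A (ψ : G → ℂ) = (m : ℂ) :=
    fun ψ => classInner_character_nat hA (isCharacter_of_irr ψ)
  have hmB : ∀ ψ : Cfsg.IrrCharacter G, ∃ m : ℕ, Cfsg.classInner B (ψ : G → ℂ) = (m : ℂ) :=
    fun ψ => classInner_character_nat hBc (isCharacter_of_irr ψ)
  choose mA hmA using hmA
  choose mB hmB using hmB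
  have hdiff : A - B = (χ : G → ℂ) - ∑ ξ ∈ X', (a' ξ : ℂ) • (ξ : G → ℂ) := by
    funext g
    have h1 := caseB_identity hL hB hC hX g
    simp only [hAdef, hBdef, Pi.sub_apply, Pi.mul_apply, Finset.sum_apply, Pi.smul_apply,
      smul_eq_mul]
    linear_combination h1
  have key : ∀ ψ : Cfsg.IrrCharacter G, (mA ψ : ℂ) - (mB ψ : ℂ) =
      (if χ = ψ then 1 else 0) - (if ψ ∈ X' then (a' ψ : ℂ) else 0) := by
    intro ψ
    have h1 : Cfsg.classInner (A - B) (ψ : G → ℂ) = (mA ψ : ℂ) - (mB ψ : ℂ) := by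
      rw [classInner_sub_left, hmA, hmB]
    rw [← h1, hdiff, classInner_sub_left, classInner_sum_left, irr_classInner]
    congr 1
    have h2 : ∀ ξ ∈ X', Cfsg.classInner ((a' ξ : ℂ) • (ξ : G → ℂ)) (ψ : G → ℂ) =
        if ξ = ψ then (a' ξ : ℂ) else 0 := by
      intro ξ _
      rw [classInner_smul_left, irr_classInner, mul_ite, mul_one, mul_zero]
    rw [Finset.sum_congr rfl h2, Finset.sum_ite_eq' X' ψ (fun ξ => (a' ξ : ℂ))]
  -- consequences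
  have c1 : mA χ ≠ 0 := by
    intro h0
    have h1 := key χ
    rw [if_pos rfl, if_neg hχX, h0] at h1
    have h2 : (0 : ℤ) - (mB χ : ℤ) = 1 := by exact_mod_cast h1
    omega
  have c2 : ∀ ψ ∈ X', a' ψ = -1 → mA ψ ≠ 0 := by
    intro ψ hψ ha h0
    have hne : χ ≠ ψ := fun h => hχX (h ▸ hψ)
    have h1 := key ψ
    rw [if_neg hne, if_pos hψ, ha, h0] at h1
    have h2 : (0 : ℤ) - (mB ψ : ℤ) = 0 - (-1) := by exact_mod_cast h1
    omega
  have c3 : ∀ ψ ∈ X', a' ψ = 1 → mB ψ ≠ 0 := by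
    intro ψ hψ ha h0
    have hne : χ ≠ ψ := fun h => hχX (h ▸ hψ)
    have h1 := key ψ
    rw [if_neg hne, if_pos hψ, ha, h0] at h1
    have h2 : (mA ψ : ℤ) - 0 = 0 - 1 := by exact_mod_cast h1
    omega
  -- the two sets of constituents
  have hXmsub : ∀ ξ ∈ Xm X' a', ξ ∈ X' ∧ a' ξ = -1 := by
    intro ξ hξ
    unfold Xm at hξ
    exact Finset.mem_filter.mp hξ
  have hXpsub : ∀ ξ ∈ Xp X' a', ξ ∈ X' ∧ a' ξ = 1 := by
    intro ξ hξ
    unfold Xp at hξ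
    exact Finset.mem_filter.mp hξ
  have hχXm : χ ∉ Xm X' a' := fun h => hχX (hXmsub χ h).1
  have hSA : ∀ ξ ∈ insert χ (Xm X' a'), Cfsg.classInner A (ξ : G → ℂ) ≠ 0 := by
    intro ξ hξ
    rw [hmA]
    rcases Finset.mem_insert.mp hξ with rfl | hξ
    · exact_mod_cast c1
    · exact_mod_cast c2 ξ (hXmsub ξ hξ).1 (hXmsub ξ hξ).2
  have hSB : ∀ ξ ∈ Xp X' a', Cfsg.classInner B (ξ : G → ℂ) ≠ 0 := by
    intro ξ hξ
    rw [hmB]
    exact_mod_cast c3 ξ (hXpsub ξ hξ).1 (hXpsub ξ hξ).2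
  have hdegχ : leoDeg χ = f := by
    have := leoDeg_spec χ
    rw [hX.degχ] at this
    exact_mod_cast this.symm
  have hsumA := degree_sum_le hA (insert χ (Xm X' a')) hSA (f * (f + 1)) hA1
  rw [Finset.sum_insert hχXm, hdegχ] at hsumA
  have hsumB := degree_sum_le hBc (Xp X' a') hSB (f * (f + 1)) hB1
  -- lower bounds
  have hlowm : ∀ ξ ∈ Xm X' a', 2 * f ≤ leoDeg ξ := by
    intro ξ hξ
    have := hdm ξ (hXmsub ξ hξ).1 (hXmsub ξ hξ).2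
    omega
  have hlowp : ∀ ξ ∈ Xp X' a', 2 * f + 2 ≤ leoDeg ξ := by
    intro ξ hξ
    have h1 : Cfsg.classInner (fun g => (χ' : G → ℂ) g * (η₀ : G → ℂ) g) (ξ : G → ℂ) ≠ 0 :=
      hSB ξ hξ
    have := hdp ξ (hXpsub ξ hξ).1 (hXpsub ξ hξ).2 h1
    omega
  have hlm := Finset.card_nsmul_le_sum (Xm X' a') (fun ξ => leoDeg ξ) (2 * f) hlowm
  have hlp := Finset.card_nsmul_le_sum (Xp X' a') (fun ξ => leoDeg ξ) (2 * f + 2) hlowp
  rw [smul_eq_mul] at hlm hlp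
  have hsplit := pslb2c_card_split X' a' hX.a_pm
  rw [hX.cardX] at hsplit
  set m := (Xm X' a').card with hm
  set q := (Xp X' a').card with hq
  -- `2 m ≤ f`, `2 q ≤ f`
  have hm2 : 2 * m ≤ f := by
    have h1 : m * (2 * f) ≤ f * f := by nlinarith
    have h2 : (2 * m) * f ≤ f * f := by nlinarith
    exact Nat.le_of_mul_le_mul_right h2 (by omega)
  have hq2 : 2 * q ≤ f := by
    have h1 : q * (2 * f + 2) ≤ f * (f + 1) := le_trans hlp hsumB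
    have h2 : (2 * q) * (f + 1) ≤ f * (f + 1) := by nlinarith
    exact Nat.le_of_mul_le_mul_right h2 (by omega)
  have hm3 : 2 * m = f := by omega
  have hq3 : 2 * q = f := by omega
  -- exact degrees
  have hexm : ∀ ξ ∈ Xm X' a', leoDeg ξ = 2 * f := by
    apply pslb2c_all_eq (Xm X' a') (fun ξ => leoDeg ξ) (2 * f) hlowm
    have : m * (2 * f) = f * f := by rw [← hm3]; ring
    nlinarith
  have hexp : ∀ ξ ∈ Xp X' a', leoDeg ξ = 2 * f + 2 := by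
    apply pslb2c_all_eq (Xp X' a') (fun ξ => leoDeg ξ) (2 * f + 2) hlowp
    have : q * (2 * f + 2) = f * (f + 1) := by rw [← hq3]; ring
    rw [← hq, this]
    exact hsumB
  refine ⟨?_, ?_, ?_, ?_⟩
  · intro ξ hξ ha
    have hmem : ξ ∈ Xm X' a' := by
      unfold Xm
      exact Finset.mem_filter.mpr ⟨hξ, ha⟩
    rw [leoDeg_spec, hexm ξ hmem, ← htwo]
    push_cast
    ring
  · intro ξ hξ ha
    have hmem : ξ ∈ Xp X' a' := by
      unfold Xp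
      exact Finset.mem_filter.mpr ⟨hξ, ha⟩
    rw [leoDeg_spec, hexp ξ hmem, ← htwo]
    push_cast
    ring
  · intro g
    have hsum : ∑ ξ ∈ insert χ (Xm X' a'), leoDeg ξ = f * (f + 1) := by
      rw [Finset.sum_insert hχXm, hdegχ, Finset.sum_congr rfl hexm, Finset.sum_const, smul_eq_mul,
        ← hm]
      have : m * (2 * f) = f * f := by rw [← hm3]; ring
      rw [this]; ring
    have h1 := hdec A hA (insert χ (Xm X' a')) hSA (f * (f + 1)) hA1 hsum g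
    rw [Finset.sum_insert hχXm] at h1
    exact h1
  · intro g
    have hsum : ∑ ξ ∈ Xp X' a', leoDeg ξ = f * (f + 1) := by
      rw [Finset.sum_congr rfl hexp, Finset.sum_const, smul_eq_mul, ← hq]
      rw [← hq3]; ring
    exact hdec B hBc (Xp X' a') hSB (f * (f + 1)) hB1 hsum g

/-- B2c : the decompositions of `χ η₀` and `χ' η₀` and the degrees of the members of `X'` -/
theorem caseB_decomp {f : ℕ} {P : Sylow p G} {X Y X' : Finset (Cfsg.IrrCharacter G)}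
    {a a' : Cfsg.IrrCharacter G → ℤ} {ε : ℤ} {D : ℕ} {χ χ' η₀ : Cfsg.IrrCharacter G}
    (hL : Loc p f P) (hB : PB p f (P : Subgroup G) X Y a ε D)
    (hC : CaseB f χ χ' X Y a ε D η₀) (hX : BX p f (P : Subgroup G) χ χ' X' a') :
    (∀ ξ ∈ X', a' ξ = -1 → (ξ : G → ℂ) 1 = (p : ℂ) - 1) ∧
    (∀ ξ ∈ X', a' ξ = 1 → (ξ : G → ℂ) 1 = (p : ℂ) + 1) ∧
    (∀ g : G, (χ : G → ℂ) g * (η₀ : G → ℂ) g = (χ : G → ℂ) g + ∑ ξ ∈ Xm X' a', (ξ : G → ℂ) g) ∧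
    (∀ g : G, (χ' : G → ℂ) g * (η₀ : G → ℂ) g = ∑ ξ ∈ Xp X' a', (ξ : G → ℂ) g) :=
  pslb2c_core (fun Ψ hΨ S hS d hd hdeg => decomp_of_degree hΨ S hS d hd hdeg) hL hB hC hX

end Cfsg.Agent.Lib.helper15.PSL
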