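import Mathlib
import Cfsg.Agent.Lib.Helper27.PSLB2C

set_option autoImplicit false
set_option linter.unusedVariables false
set_option linter.unusedSectionVars false
open scoped ComplexConjugate
open Classical

namespace Cfsg.Agent.Lib.helper15.PSL

open Cfsg.Agent.Lib.helper7 Cfsg.Agent.Lib.helper7.BR Cfsg.Agent.Lib.helper2 Cfsg.Agent.Lib.Helper25
  Cfsg.Agent.Lib.Helper29 Cfsg.Agent.Lib.helper15.BH

universe u

variable {G : Type u} [Group G] [Fintype G] {p : ℕ} [Fact p.Prime]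

/-- there is an element of `P ∖ 1` -/
theorem pslub_exists {f : ℕ} {P : Sylow p G} (hL : Loc p f P) :
    ∃ x ∈ (P : Subgroup G), x ≠ 1 := by
  have hpp : p.Prime := Fact.out
  have h1 : 1 < Nat.card ↥(P : Subgroup G) := by rw [hL.cardP]; exact hpp.one_lt
  have : Nontrivial ↥(P : Subgroup G) := (Finite.one_lt_card_iff_nontrivial).1 h1
  obtain ⟨x, hx⟩ := exists_ne (1 : ↥(P : Subgroup G))
  exact ⟨x, x.2, fun h => hx (Subtype.ext h)⟩

/-- the principal character is in `Xp` -/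
theorem pslub_triv_mem {f : ℕ} {P : Sylow p G} {X Y : Finset (Cfsg.IrrCharacter G)}
    {a : Cfsg.IrrCharacter G → ℤ} {ε : ℤ} (hL : Loc p f P)
    (hB : PB0 p f (P : Subgroup G) X Y a ε) : trivIrr G ∈ Xp X a := by
  obtain ⟨x, hx, hx1⟩ := pslub_exists hL
  have h1 := hB.valX (trivIrr G) hB.triv_mem x (pslb2_order hL hx hx1)
  rw [trivIrr_apply] at h1
  unfold Xp
  rw [Finset.mem_filter]
  refine ⟨hB.triv_mem, ?_⟩
  exact_mod_cast h1.symm

/-- UB, with DECOMP as a hypothesis -/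
theorem pslub_core {f : ℕ} {P : Sylow p G} {X Y X' : Finset (Cfsg.IrrCharacter G)}
    {a a' : Cfsg.IrrCharacter G → ℤ} {ε : ℤ} {D : ℕ} {χ χ' η₀ : Cfsg.IrrCharacter G}
    (hdec : ∀ (Ψ : G → ℂ), Cfsg.IsCharacter G Ψ → ∀ (S : Finset (Cfsg.IrrCharacter G)),
      (∀ ξ ∈ S, Cfsg.classInner Ψ (ξ : G → ℂ) ≠ 0) → ∀ (d : ℕ), Ψ 1 = (d : ℂ) →
      ∑ ξ ∈ S, leoDeg ξ = d → ∀ g : G, Ψ g = ∑ ξ ∈ S, (ξ : G → ℂ) g)
    (hL : Loc p f P) (hB : PB p f (P : Subgroup G) X Y a ε D)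
    (hC : CaseB f χ χ' X Y a ε D η₀) (hX : BX p f (P : Subgroup G) χ χ' X' a')
    (z : G) (hz : ¬ p ∣ orderOf z) (y : ℂ) (hy : ∀ η ∈ Y, (η : G → ℂ) z = y) :
    Upart X z = 1 + ((χ : G → ℂ) z * conj ((χ : G → ℂ) z) - 1 - conj y) / ((p : ℂ) + 1) +
      (χ : G → ℂ) z * conj ((χ : G → ℂ) z) / ((p : ℂ) - 1) ∧
    Upart X' z = conj ((χ : G → ℂ) z * y) / ((p : ℂ) + 1) +
      conj ((χ : G → ℂ) z * (y - 1)) / ((p : ℂ) - 1) := by
  obtain ⟨hdm, hdp, hA, hBd⟩ := pslb2c_core hdec hL hB hC hX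
  have hη₀ : (η₀ : G → ℂ) z = y := hy η₀ hC.mem
  have hχ' : (χ' : G → ℂ) z = (χ : G → ℂ) z := hX.hreg z hz
  set w := (χ : G → ℂ) z with hw
  have hww : conj (w * conj w) = w * conj w := by
    rw [map_mul, Complex.conj_conj, mul_comm]
  constructor
  · -- the principal block
    have htriv := pslub_triv_mem hL hB.toPB0
    unfold Upart
    rw [pslb2_sum_X hB.toPB0, ← Finset.add_sum_erase _ _ htriv]
    have h1 : ∀ ξ ∈ (Xp X a).erase (trivIrr G),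
        conj ((ξ : G → ℂ) z) / (ξ : G → ℂ) 1 = conj ((ξ : G → ℂ) z) / ((p : ℂ) + 1) := by
      intro ξ hξ
      obtain ⟨hne, hmem⟩ := Finset.mem_erase.mp hξ
      unfold Xp at hmem
      obtain ⟨hmX, ha⟩ := Finset.mem_filter.mp hmem
      rw [hB.deg_plus ξ hmX ha hne]
    have h2 : ∀ ξ ∈ Xm X a,
        conj ((ξ : G → ℂ) z) / (ξ : G → ℂ) 1 = conj ((ξ : G → ℂ) z) / ((p : ℂ) - 1) := by
      intro ξ hmem
      unfold Xm at hmem
      obtain ⟨hmX, ha⟩ := Finset.mem_filter.mp hmem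
      rw [hB.deg_minus ξ hmX ha]
    rw [Finset.sum_congr rfl h1, Finset.sum_congr rfl h2, ← Finset.sum_div, ← Finset.sum_div,
      ← map_sum, ← map_sum]
    have hW : w * conj w = ∑ ξ ∈ Xp X a, (ξ : G → ℂ) z + (η₀ : G → ℂ) z := hC.W z
    rw [← Finset.add_sum_erase _ _ htriv, trivIrr_apply, hη₀] at hW
    have hW' : w * conj ((χ' : G → ℂ) z) = ∑ ξ ∈ Xm X a, (ξ : G → ℂ) z := hC.W' z
    rw [hχ'] at hW'
    have e1 : ∑ ξ ∈ (Xp X a).erase (trivIrr G), (ξ : G → ℂ) z = w * conj w - 1 - y := by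
      linear_combination (-1 : ℂ) * hW
    rw [e1, ← hW']
    simp only [trivIrr_apply, map_one, div_one, map_sub, hww]
  · -- the block of `χ`
    unfold Upart
    rw [pslb2c_sum_split X' a' hX.a_pm]
    have h1 : ∀ ξ ∈ Xp X' a',
        conj ((ξ : G → ℂ) z) / (ξ : G → ℂ) 1 = conj ((ξ : G → ℂ) z) / ((p : ℂ) + 1) := by
      intro ξ hmem
      unfold Xp at hmem
      obtain ⟨hmX, ha⟩ := Finset.mem_filter.mp hmem
      rw [hdp ξ hmX ha]
    have h2 : ∀ ξ ∈ Xm X' a',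
        conj ((ξ : G → ℂ) z) / (ξ : G → ℂ) 1 = conj ((ξ : G → ℂ) z) / ((p : ℂ) - 1) := by
      intro ξ hmem
      unfold Xm at hmem
      obtain ⟨hmX, ha⟩ := Finset.mem_filter.mp hmem
      rw [hdm ξ hmX ha]
    rw [Finset.sum_congr rfl h1, Finset.sum_congr rfl h2, ← Finset.sum_div, ← Finset.sum_div,
      ← map_sum, ← map_sum]
    have e1 := hBd z
    rw [hχ', hη₀] at e1
    have e2 := hA z
    rw [hη₀] at e2
    have e3 : ∑ ξ ∈ Xm X' a', (ξ : G → ℂ) z = w * (y - 1) := by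
      linear_combination (-1 : ℂ) * e2
    rw [← e1, e3]

/-- UB : the `X`-parts in case B -/
theorem caseB_Upart {f : ℕ} {P : Sylow p G} {X Y X' : Finset (Cfsg.IrrCharacter G)}
    {a a' : Cfsg.IrrCharacter G → ℤ} {ε : ℤ} {D : ℕ} {χ χ' η₀ : Cfsg.IrrCharacter G}
    (hL : Loc p f P) (hB : PB p f (P : Subgroup G) X Y a ε D)
    (hC : CaseB f χ χ' X Y a ε D η₀) (hX : BX p f (P : Subgroup G) χ χ' X' a')
    (z : G) (hz : ¬ p ∣ orderOf z) (y : ℂ) (hy : ∀ η ∈ Y, (η : G → ℂ) z = y) :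
    Upart X z = 1 + ((χ : G → ℂ) z * conj ((χ : G → ℂ) z) - 1 - conj y) / ((p : ℂ) + 1) +
      (χ : G → ℂ) z * conj ((χ : G → ℂ) z) / ((p : ℂ) - 1) ∧
    Upart X' z = conj ((χ : G → ℂ) z * y) / ((p : ℂ) + 1) +
      conj ((χ : G → ℂ) z * (y - 1)) / ((p : ℂ) - 1) :=
  pslub_core (fun Ψ hΨ S hS d hd hdeg => decomp_of_degree hΨ S hS d hd hdeg) hL hB hC hX z hz y hy

end Cfsg.Agent.Lib.helper15.PSL
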