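import Mathlib
import Cfsg.Agent.Lib.Helper24.STUB1
import Cfsg.Agent.Lib.Helper5.STULA5
import Cfsg.Agent.Lib.Helper27.STU.Defs
import Cfsg.Agent.Lib.Helper27.STU.Defs2
import Cfsg.Agent.Lib.Helper27.STU.Defs3

/-!
# Project STU (designer helper27, S2291), row H8 (helper27), VERBATIM: `SysU.lu_l`

The rank one Bruhat decomposition for the long / half root subgroups, through `S.r1`: identities of `3 × 3` matrices.
-/

set_option autoImplicit false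

namespace Cfsg.Agent.Lib.Helper27.STU

open Cfsg.Agent.Lib.helper15.St2 Cfsg.Agent.Lib.helper3.STC

section mat
variable {F : Type*} [Field F] [StarRing F] {od : Prop}

/-- the matrix of the long Weyl element -/
def stuh8_WMat (c : F) : Matrix (Fin 3) (Fin 3) F := !![0, 0, c; 0, -(star c / c), 0; (star c)⁻¹, 0, 0]

/-- the matrix of the long torus element -/
def stuh8_Dm (r : F) : Matrix (Fin 3) (Fin 3) F := !![r, 0, 0; 0, star r / r, 0; 0, 0, (star r)⁻¹]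

theorem stuh8_star_ne {c : F} (hc : c ≠ 0) : star c ≠ 0 := fun h => hc (by simpa using congrArg star h)

theorem stuh8_WM_eq {ξ : Lam F od} (hc : ξ.c ≠ 0) :
    XpM ξ * XmM (Lam.mu ξ) * XpM (Lam.nu ξ) = stuh8_WMat ξ.c := by
  have hc' : star ξ.c ≠ 0 := stuh8_star_ne hc
  have h1 := ξ.h
  have hs : star ξ.c = -ξ.c - ξ.v * star ξ.v := by linear_combination h1
  ext i j
  fin_cases i <;> fin_cases j <;>
    simp [XpM, XmM, stuh8_WMat, Matrix.mul_apply, Fin.sum_univ_three, star_div₀] <;>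
    field_simp <;> (try simp only [hs]) <;> ring

set_option maxHeartbeats 4000000 in
theorem stuh8_lemA_aux (ξ η η₁ ξ₁ : Lam F od) (d : F) (hδ : d ≠ 0) (hd : d = 1 - ξ.v * star η.v + ξ.c * η.c)
    (e1 : η₁.v = (η.v + star η.c * ξ.v) / star d) (e2 : η₁.c = η.c / d) (e3 : ξ₁.v = (ξ.v + ξ.c * η.v) / d)
    (e4 : ξ₁.c = ξ.c / d) : XpM ξ * XmM η = XmM η₁ * stuh8_Dm d * XpM ξ₁ := by
  have hd' : star d = 1 - star ξ.v * η.v + star ξ.c * star η.c := by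
    rw [hd]; simp only [star_add, star_sub, star_mul', star_one, star_star]
  have hδ' : star d ≠ 0 := stuh8_star_ne hδ
  have h1 := ξ.h
  have h2 := η.h
  have hs : star ξ.c = -ξ.c - ξ.v * star ξ.v := by linear_combination h1
  have hs' : star η.c = -η.c - η.v * star η.v := by linear_combination h2
  ext i j
  fin_cases i <;> fin_cases j <;>
    simp [XpM, XmM, stuh8_Dm, Matrix.mul_apply, Fin.sum_univ_three, e1, e2, e3, e4, star_div₀] <;>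
    field_simp <;> (try simp only [hd']) <;> (try simp only [hd, hs, hs']) <;> ring

/-- the rank one Bruhat decomposition, generic case, for matrices -/
theorem stuh8_lemA (ξ η : Lam F od) (hδ : 1 - ξ.v * star η.v + ξ.c * η.c ≠ 0) :
    ∃ η₁ ξ₁ : Lam F od, XpM ξ * XmM η = XmM η₁ * stuh8_Dm (1 - ξ.v * star η.v + ξ.c * η.c) * XpM ξ₁ := by
  obtain ⟨d, hd⟩ : ∃ d : F, d = 1 - ξ.v * star η.v + ξ.c * η.c := ⟨_, rfl⟩
  rw [← hd] at hδ ⊢
  have hd' : star d = 1 - star ξ.v * η.v + star ξ.c * star η.c := by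
    rw [hd]; simp only [star_add, star_sub, star_mul', star_one, star_star]
  have hδ' : star d ≠ 0 := stuh8_star_ne hδ
  have h1 := ξ.h
  have h2 := η.h
  have hs : star ξ.c = -ξ.c - ξ.v * star ξ.v := by linear_combination h1
  have hs' : star η.c = -η.c - η.v * star η.v := by linear_combination h2
  refine ⟨⟨(η.v + star η.c * ξ.v) / star d, η.c / d, ?_, ?_⟩, ⟨(ξ.v + ξ.c * η.v) / d, ξ.c / d, ?_, ?_⟩, ?_⟩
  · simp only [star_div₀, star_add, star_mul', star_star]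
    field_simp
    simp only [hd']
    simp only [hd, hs, hs']
    ring
  · intro h
    rw [ξ.hv h, η.hv h]; simp
  · simp only [star_div₀, star_add, star_mul']
    field_simp
    simp only [hd']
    simp only [hd, hs, hs']
    ring
  · intro h
    rw [ξ.hv h, η.hv h]; simp
  · exact stuh8_lemA_aux ξ η _ _ d hδ hd rfl rfl rfl rfl

theorem stuh8_WMat_mul (c : F) (hc : c ≠ 0) : stuh8_WMat c * stuh8_WMat (star c) = 1 := by
  have hc' : star c ≠ 0 := stuh8_star_ne hc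
  ext i j
  fin_cases i <;> fin_cases j <;>
    simp [stuh8_WMat, Matrix.mul_apply, Fin.sum_univ_three, Matrix.one_apply] <;> field_simp

theorem stuh8_WMat_Dm (c₁ c₂ : F) (h1 : c₁ ≠ 0) (h2 : c₂ ≠ 0) :
    stuh8_WMat c₁ = stuh8_Dm (c₁ / c₂) * stuh8_WMat c₂ := by
  have h1' : star c₁ ≠ 0 := stuh8_star_ne h1
  have h2' : star c₂ ≠ 0 := stuh8_star_ne h2
  ext i j
  fin_cases i <;> fin_cases j <;>
    simp [stuh8_WMat, stuh8_Dm, Matrix.mul_apply, Fin.sum_univ_three, star_div₀] <;> field_simp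

/-- the Weyl element in the rank one group -/
def stuh8_Wm (ξ : Lam F od) : ↥(SUm F od) := XpU ξ * XmU (Lam.mu ξ) * XpU (Lam.nu ξ)

theorem stuh8_mat_Wm {ξ : Lam F od} (hc : ξ.c ≠ 0) : SUm.mat (stuh8_Wm ξ) = stuh8_WMat ξ.c := by
  unfold stuh8_Wm
  rw [SUm.mat_mul, SUm.mat_mul, SUm.mat_XpU, SUm.mat_XmU, SUm.mat_XpU]
  exact stuh8_WM_eq hc

theorem stuh8_Wm_mul_inv {ξ : Lam F od} (hc : ξ.c ≠ 0) : stuh8_Wm ξ * stuh8_Wm ξ⁻¹ = 1 := by
  apply SUm.mat_injective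
  have hc' : (ξ⁻¹).c ≠ 0 := by rw [Lam.inv_c]; exact stuh8_star_ne hc
  rw [SUm.mat_mul, stuh8_mat_Wm hc, stuh8_mat_Wm hc', Lam.inv_c, SUm.mat_one]
  exact stuh8_WMat_mul ξ.c hc

theorem stuh8_mat_H {ξ₁ ξ₂ : Lam F od} (h1 : ξ₁.c ≠ 0) (h2 : ξ₂.c ≠ 0) :
    SUm.mat (stuh8_Wm ξ₁ * (stuh8_Wm ξ₂)⁻¹) = stuh8_Dm (ξ₁.c / ξ₂.c) := by
  have e1 : SUm.mat (stuh8_Wm ξ₂) * SUm.mat ((stuh8_Wm ξ₂)⁻¹) = 1 := by
    rw [← SUm.mat_mul, mul_inv_cancel, SUm.mat_one]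
  rw [SUm.mat_mul, stuh8_mat_Wm h1, stuh8_WMat_Dm ξ₁.c ξ₂.c h1 h2, ← stuh8_mat_Wm h2, Matrix.mul_assoc, e1, Matrix.mul_one]

/-- torus parameters with a given ratio -/
theorem stuh8_exists_ratio (hF : Hyp F) (ξ η : Lam F od) (hδ : 1 - ξ.v * star η.v + ξ.c * η.c ≠ 0) :
    ∃ ξ₁ ξ₂ : Lam F od, ξ₁.c ≠ 0 ∧ ξ₂.c ≠ 0 ∧ ξ₁.c / ξ₂.c = 1 - ξ.v * star η.v + ξ.c * η.c := by
  by_cases hod : od
  · obtain ⟨ξ₁, h1⟩ := Lam.exists_of_c (od := od) hF hod (1 - ξ.v * star η.v + ξ.c * η.c)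
    obtain ⟨ξ₂, h2⟩ := Lam.exists_of_c (od := od) hF hod 1
    refine ⟨ξ₁, ξ₂, by rw [h1]; exact hδ, by rw [h2]; exact one_ne_zero, ?_⟩
    rw [h1, h2, div_one]
  · obtain ⟨ε, hε, hε'⟩ := hF.ex_skew
    have hv : ξ.v = 0 := ξ.hv hod
    have hc1 : star ξ.c = -ξ.c := Lam.c_skew_of_even hod ξ
    have hc2 : star η.c = -η.c := Lam.c_skew_of_even hod η
    rw [hv, zero_mul, sub_zero] at hδ ⊢
    have hsk : star ((1 + ξ.c * η.c) * ε) = -((1 + ξ.c * η.c) * ε) := by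
      simp only [star_mul', star_add, star_one, hc1, hc2, hε']
      ring
    obtain ⟨ξ₁, h1, -⟩ := Lam.exists_of_skew (od := od) ((1 + ξ.c * η.c) * ε) hsk
    obtain ⟨ξ₂, h2, -⟩ := Lam.exists_of_skew (od := od) ε hε'
    refine ⟨ξ₁, ξ₂, by rw [h1]; exact mul_ne_zero hδ hε, by rw [h2]; exact hε, ?_⟩
    rw [h1, h2]
    field_simp

/-- if `δ = 0` then `η = mu ξ` (and `ξ.c ≠ 0`) -/
theorem stuh8_eq_mu (ξ η : Lam F od) (hδ : 1 - ξ.v * star η.v + ξ.c * η.c = 0) : ξ.c ≠ 0 ∧ η = Lam.mu ξ := by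
  have h1 := ξ.h
  have h2 := η.h
  have hδ' : 1 - star ξ.v * η.v + star ξ.c * star η.c = 0 := by
    have := congrArg star hδ
    simpa only [star_add, star_sub, star_mul', star_one, star_star, star_zero] using this
  have hA : (star η.v + star ξ.v * η.c) * star (star η.v + star ξ.v * η.c) = 0 := by
    simp only [star_add, star_mul', star_star]
    linear_combination h2 - star η.c * hδ - η.c * hδ' + η.c * star η.c * h1
  have hA0 : star η.v + star ξ.v * η.c = 0 := by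
    rcases mul_eq_zero.1 hA with h | h
    · exact h
    · simpa using congrArg star h
  have hv' : η.v = -(ξ.v * star η.c) := by
    have := congrArg star hA0
    simp only [star_add, star_mul', star_star, star_zero] at this
    linear_combination this
  have hcc : η.c * star ξ.c = 1 := by
    have e : star η.v = -(star ξ.v * η.c) := by linear_combination hA0
    rw [e] at hδ
    linear_combination -hδ + η.c * h1
  have hc' : star ξ.c ≠ 0 := fun h => by rw [h, mul_zero] at hcc; exact zero_ne_one hcc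
  have hc : ξ.c ≠ 0 := fun h => hc' (by rw [h, star_zero])
  refine ⟨hc, ?_⟩
  have hηc : η.c = (star ξ.c)⁻¹ := eq_inv_of_mul_eq_one_left hcc
  apply Lam.ext
  · rw [Lam.mu_v, hv', hηc, star_inv₀, star_star]
    field_simp
  · rw [Lam.mu_c, hηc]

end mat

namespace SysU

variable {F : Type*} [Field F] [StarRing F] {od : Prop} {ι : Type*} {G : Type*} [Group G] (S : SysU F od ι G)

theorem stuh8_wl_eq {a : ι ⊕ ι} (ρ : ↥(SUm F od) →* G) (hρ : ∀ ξ, ρ (XpU ξ) = S.xl a ξ ∧ ρ (XmU ξ) = S.xl (ng a) ξ)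
    (ξ : Lam F od) : S.wl a ξ = ρ (stuh8_Wm ξ) := by
  unfold wl stuh8_Wm
  rw [map_mul, map_mul, (hρ ξ).1, (hρ _).2, (hρ _).1]

theorem stuh8_hl_eq {a : ι ⊕ ι} (ρ : ↥(SUm F od) →* G) (hρ : ∀ ξ, ρ (XpU ξ) = S.xl a ξ ∧ ρ (XmU ξ) = S.xl (ng a) ξ)
    (ξ η : Lam F od) : S.hl a ξ η = ρ (stuh8_Wm ξ * (stuh8_Wm η)⁻¹) := by
  unfold hl
  rw [S.stuh8_wl_eq ρ hρ, S.stuh8_wl_eq ρ hρ, map_mul, map_inv]

section H
variable [Finite F]
variable [DecidableEq ι]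

omit [Finite F] in
/-- H8 [M]  rank one Bruhat decomposition for the long / half root subgroups (the analogue of `lu`, `lu0`), in existential form. -/
theorem lu_l (hF : Hyp F) (a : ι ⊕ ι) {ξ₀ : Lam F od} (hξ₀ : ξ₀.c ≠ 0) (ξ η : Lam F od) :
    (∃ η' ξ' ξ₁ ξ₂ : Lam F od, ξ₁.c ≠ 0 ∧ ξ₂.c ≠ 0 ∧
        S.xl a ξ * S.xl (ng a) η = S.xl (ng a) η' * S.hl a ξ₁ ξ₂ * S.xl a ξ') ∨
      ∃ η' ξ' ξ₁ ξ₂ : Lam F od, ξ₁.c ≠ 0 ∧ ξ₂.c ≠ 0 ∧
        S.xl a ξ * S.xl (ng a) η = S.wl a ξ₀ * S.xl (ng a) η' * S.hl a ξ₁ ξ₂ * S.xl a ξ' := by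
  obtain ⟨ρ, hρ⟩ := S.r1 a
  by_cases hδ : 1 - ξ.v * star η.v + ξ.c * η.c = 0
  · right
    obtain ⟨hc, rfl⟩ := stuh8_eq_mu ξ η hδ
    have hc' : (ξ⁻¹).c ≠ 0 := by rw [Lam.inv_c]; exact stuh8_star_ne hc
    have hξ₀' : (ξ₀⁻¹).c ≠ 0 := by rw [Lam.inv_c]; exact stuh8_star_ne hξ₀
    refine ⟨1, (Lam.nu ξ)⁻¹, ξ₀⁻¹, ξ⁻¹, hξ₀', hc', ?_⟩
    have e1 : (stuh8_Wm ξ⁻¹)⁻¹ = stuh8_Wm ξ := (eq_inv_of_mul_eq_one_left (stuh8_Wm_mul_inv hc)).symm
    have e2 : S.wl a ξ₀ * S.xl (ng a) 1 * S.hl a ξ₀⁻¹ ξ⁻¹ = S.wl a ξ := by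
      rw [S.xl_one, mul_one, S.stuh8_hl_eq ρ hρ, S.stuh8_wl_eq ρ hρ, S.stuh8_wl_eq ρ hρ, ← map_mul, e1, ← mul_assoc,
        stuh8_Wm_mul_inv hξ₀, one_mul]
    rw [e2, S.xl_inv]
    unfold wl
    group
  · left
    obtain ⟨η₁, ξ₁, hA⟩ := stuh8_lemA ξ η hδ
    obtain ⟨ζ₁, ζ₂, h1, h2, hr⟩ := stuh8_exists_ratio hF ξ η hδ
    refine ⟨η₁, ξ₁, ζ₁, ζ₂, h1, h2, ?_⟩
    rw [S.stuh8_hl_eq ρ hρ, ← (hρ ξ).1, ← (hρ η).2, ← (hρ η₁).2, ← (hρ ξ₁).1, ← map_mul, ← map_mul, ← map_mul]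
    congr 1
    apply SUm.mat_injective
    rw [SUm.mat_mul, SUm.mat_mul, SUm.mat_mul, SUm.mat_XpU, SUm.mat_XmU, SUm.mat_XmU, SUm.mat_XpU, stuh8_mat_H h1 h2, hr]
    exact hA

end H

end SysU

end Cfsg.Agent.Lib.Helper27.STU
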