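import Cfsg.Agent.Lib.Helper27.FusFactor3
import Cfsg.Agent.Lib.Helper26.AlperinInd
import Cfsg.Agent.Lib.Helper26.FusionSeries3

set_option autoImplicit false

namespace Cfsg.Agent.Lib.Helper27

open Cfsg Cfsg.FusionSystem Cfsg.Agent.Lib.Helper26

/-! ### Abstract group theory -/

/-- If `Sy` is a Sylow `p`-subgroup of `H`, `C ≤ H` is normalized by `Sy` and the `p`-group `B`
lies in `Sy ⊔ C`, then some element of `C` conjugates `B` into `Sy`. -/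
theorem exists_conj_mem_of_le_sup {A : Type*} [Group A] [Finite A] {p : ℕ} [Fact p.Prime]
    {H Sy C B : Subgroup A} (hSy : Cfsg.Agent.Lib.Helper18.IsSylowIn p Sy H) (hCH : C ≤ H)
    (hn : Sy ≤ Subgroup.normalizer (C : Set A)) (hB : IsPGroup p B) (hBle : B ≤ Sy ⊔ C) :
    ∃ c ∈ C, ∀ b ∈ B, c * b * c⁻¹ ∈ Sy := by
  have h1 : Cfsg.Agent.Lib.Helper18.IsSylowIn p Sy (Sy ⊔ C) :=
    hSy.of_le le_sup_left (sup_le hSy.le hCH)
  obtain ⟨a, ha, hconj⟩ := h1.exists_conj_le hBle hB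
  obtain ⟨s, hs, c, hc, rfl⟩ := exists_mul_of_mem_sup hn ha
  refine ⟨c, hc, fun b hb => ?_⟩
  have h2 : s * c * b * (s * c)⁻¹ ∈ Sy := hconj ⟨b, hb, by simp [mul_assoc]⟩
  have e : c * b * c⁻¹ = s⁻¹ * (s * c * b * (s * c)⁻¹) * s := by group
  rw [e]
  exact Sy.mul_mem (Sy.mul_mem (Sy.inv_mem hs) h2) hs

/-- A total, functional, multiplicative relation between groups gives a homomorphism. -/
theorem exists_hom_of_rel {A A' : Type*} [Group A] [Group A'] (rel : A → A' → Prop)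
    (htot : ∀ a, ∃ a', rel a a') (hfun : ∀ a a' a'', rel a a' → rel a a'' → a' = a'')
    (hmul : ∀ a b a' b', rel a a' → rel b b' → rel (a * b) (a' * b')) :
    ∃ f : A →* A', ∀ a, rel a (f a) := by
  classical
  refine ⟨MonoidHom.mk' (fun a => (htot a).choose) (fun a b => ?_), fun a => (htot a).choose_spec⟩
  exact hfun _ _ _ (htot (a * b)).choose_spec
    (hmul a b _ _ (htot a).choose_spec (htot b).choose_spec)

/-! ### Image-form lemmas for factor systems -/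

variable {Ω : Type*} [Group Ω] {S : Subgroup Ω} {Ω' : Type*} [Group Ω'] {S' : Subgroup Ω'}

theorem mem_img {θ : ↥S →* Ω'} {Q : Subgroup Ω} (hQS : Q ≤ S) (q : Q) :
    θ ⟨q, hQS q.2⟩ ∈ (Q.subgroupOf S).map θ :=
  ⟨⟨q, hQS q.2⟩, Subgroup.mem_subgroupOf.mpr q.2, rfl⟩

theorem exists_of_mem_img {θ : ↥S →* Ω'} {Q : Subgroup Ω} (hQS : Q ≤ S) {y : Ω'}
    (hy : y ∈ (Q.subgroupOf S).map θ) : ∃ q : Q, θ ⟨q, hQS q.2⟩ = y := by
  obtain ⟨s, hs, rfl⟩ := hy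
  exact ⟨⟨s, Subgroup.mem_subgroupOf.mp hs⟩, rfl⟩

theorem map_preimageAlong {θ : ↥S →* Ω'} (hr : θ.range = S') {P' : Subgroup Ω'} (hP' : P' ≤ S') :
    ((preimageAlong θ P').subgroupOf S).map θ = P' := by
  ext y
  constructor
  · rintro ⟨s, hs, rfl⟩
    exact (mem_preimageAlong.mp (Subgroup.mem_subgroupOf.mp hs)).2
  · intro hy
    obtain ⟨x, hx⟩ := exists_preimage_of_mem_range hr hP' ⟨y, hy⟩
    exact ⟨⟨x, preimageAlong_le θ P' x.2⟩, Subgroup.mem_subgroupOf.mpr x.2, hx⟩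

theorem aut_cast (F : FusionSystem S) {P P' : Subgroup Ω} (h : P = P') (γ : MulAut P)
    (hγ : γ ∈ F.autGroup P) :
    ∃ γ' ∈ F.autGroup P', ∀ (x : Ω) (hx : x ∈ P) (hx' : x ∈ P'),
      ((γ' ⟨x, hx'⟩ : P') : Ω) = ((γ ⟨x, hx⟩ : P) : Ω) := by
  subst h
  exact ⟨γ, hγ, fun _ _ _ => rfl⟩

/-- An automorphism of the image of `Q ⊇ T` in the factor system lifts to `Aut_F(Q)`. -/
theorem factor_lift_aut' [Finite S] {F : FusionSystem S} {T : Subgroup Ω} {θ : ↥S →* Ω'}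
    {E : FusionSystem S'} (hE : F.IsFactorSystem T θ E) {Q : Subgroup Ω} (hQS : Q ≤ S)
    (hTQ : T ≤ Q) {β' : MulAut ↥((Q.subgroupOf S).map θ)}
    (hβ' : β' ∈ E.autGroup ((Q.subgroupOf S).map θ)) :
    ∃ γ ∈ F.autGroup Q, ∀ (q : Q) (h1 : θ ⟨q, hQS q.2⟩ ∈ (Q.subgroupOf S).map θ),
      ((β' ⟨θ ⟨q, hQS q.2⟩, h1⟩ : ↥((Q.subgroupOf S).map θ)) : Ω') = θ ⟨γ q, hQS (γ q).2⟩ := by
  have hpre : preimageAlong θ ((Q.subgroupOf S).map θ) = Q :=
    preimageAlong_map hQS (fun s hs => hTQ ((hE.2.1 s).mp hs))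
  obtain ⟨γ₀, hγ₀, hγ₀e⟩ := factor_lift_aut hE (map_le_of_factor hE Q) hβ'
  obtain ⟨γ, hγ, hγe⟩ := aut_cast F hpre γ₀ hγ₀
  refine ⟨γ, hγ, fun q h1 => ?_⟩
  have hq : (q : Ω) ∈ preimageAlong θ ((Q.subgroupOf S).map θ) := hpre.ge q.2
  have h2 := hγ₀e ⟨q, hq⟩ (hQS q.2) (preimageAlong_le θ _ (γ₀ ⟨q, hq⟩).2) h1
  rw [← h2]
  congr 2
  exact (hγe q hq q.2).symm

theorem le_of_isConj_of_stronglyClosed [Finite S] (F : FusionSystem S) {T : Subgroup Ω}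
    (hT : F.StronglyClosed T) {R Q : Subgroup Ω} (hTR : T ≤ R) (h : F.IsConj R Q) : T ≤ Q := by
  obtain ⟨φ, hφ, rfl⟩ := h
  intro t ht
  obtain ⟨y, -, hy⟩ := exists_preimage_of_stronglyClosed F hT hTR hφ ht
  exact ⟨y, hy⟩

theorem factor_isConj {F : FusionSystem S} {T : Subgroup Ω} (hT : F.StronglyClosed T)
    {θ : ↥S →* Ω'} {E : FusionSystem S'} (hE : F.IsFactorSystem T θ E) {R Q : Subgroup Ω}
    (hTR : T ≤ R) (h : F.IsConj R Q) :
    E.IsConj ((R.subgroupOf S).map θ) ((Q.subgroupOf S).map θ) := by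
  obtain ⟨φ, hφ, rfl⟩ := h
  have hRS : R ≤ S := source_le F hφ
  obtain ⟨ψ', hψ', hψ'e⟩ := factor_induce_hom hT hE hRS hTR hφ
  refine ⟨ψ', hψ', ?_⟩
  ext y
  constructor
  · rintro ⟨x, rfl⟩
    obtain ⟨r, hr⟩ := exists_of_mem_img hRS x.2
    have e : x = ⟨θ ⟨r, hRS r.2⟩, mem_img hRS r⟩ := Subtype.ext hr.symm
    rw [e, hψ'e]
    exact ⟨⟨φ r, apply_mem F hφ r⟩, Subgroup.mem_subgroupOf.mpr ⟨r, rfl⟩, rfl⟩
  · rintro ⟨s, hs, rfl⟩
    obtain ⟨r, hr⟩ := Subgroup.mem_subgroupOf.mp hs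
    refine ⟨⟨θ ⟨r, hRS r.2⟩, mem_img hRS r⟩, ?_⟩
    rw [hψ'e]
    congr 1
    exact Subtype.ext hr

/-- The relation "γ' is induced by γ" between `Aut_F(Q)` and `Aut_E(image of Q)`. -/
def IndRel (F : FusionSystem S) (θ : ↥S →* Ω') (E : FusionSystem S') {Q : Subgroup Ω} (hQS : Q ≤ S)
    (γ : ↥(F.autGroup Q)) (γ' : ↥(E.autGroup ((Q.subgroupOf S).map θ))) : Prop :=
  ∀ (q : Q) (h1 : θ ⟨q, hQS q.2⟩ ∈ (Q.subgroupOf S).map θ),
    (((γ' : MulAut ↥((Q.subgroupOf S).map θ)) ⟨θ ⟨q, hQS q.2⟩, h1⟩ :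
      ↥((Q.subgroupOf S).map θ)) : Ω') = θ ⟨(γ : MulAut Q) q, hQS ((γ : MulAut Q) q).2⟩

theorem indRel_fun {F : FusionSystem S} {θ : ↥S →* Ω'} {E : FusionSystem S'} {Q : Subgroup Ω}
    (hQS : Q ≤ S) {γ : ↥(F.autGroup Q)} {γ' γ'' : ↥(E.autGroup ((Q.subgroupOf S).map θ))}
    (h1 : IndRel F θ E hQS γ γ') (h2 : IndRel F θ E hQS γ γ'') : γ' = γ'' := by
  apply Subtype.ext
  apply MulEquiv.ext
  intro y
  obtain ⟨q, hq⟩ := exists_of_mem_img hQS y.2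
  have e : y = ⟨θ ⟨q, hQS q.2⟩, mem_img hQS q⟩ := Subtype.ext hq.symm
  apply Subtype.ext
  rw [e, h1 q, h2 q]

theorem indRel_mul {F : FusionSystem S} {θ : ↥S →* Ω'} {E : FusionSystem S'} {Q : Subgroup Ω}
    (hQS : Q ≤ S) {a b : ↥(F.autGroup Q)} {a' b' : ↥(E.autGroup ((Q.subgroupOf S).map θ))}
    (ha : IndRel F θ E hQS a a') (hb : IndRel F θ E hQS b b') :
    IndRel F θ E hQS (a * b) (a' * b') := by
  intro q h1
  have e : (b' : MulAut ↥((Q.subgroupOf S).map θ)) ⟨θ ⟨q, hQS q.2⟩, h1⟩ =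
      ⟨θ ⟨(b : MulAut Q) q, hQS ((b : MulAut Q) q).2⟩, mem_img hQS _⟩ := Subtype.ext (hb q h1)
  have h2 := ha ((b : MulAut Q) q) (mem_img hQS _)
  rw [← e] at h2
  exact h2

theorem exists_indHom [Finite S] {F : FusionSystem S} {T : Subgroup Ω} (hT : F.StronglyClosed T)
    {θ : ↥S →* Ω'} {E : FusionSystem S'} (hE : F.IsFactorSystem T θ E) {Q : Subgroup Ω}
    (hQS : Q ≤ S) (hTQ : T ≤ Q) :
    ∃ π : ↥(F.autGroup Q) →* ↥(E.autGroup ((Q.subgroupOf S).map θ)),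
      (∀ γ, IndRel F θ E hQS γ (π γ)) ∧ Function.Surjective π := by
  obtain ⟨π, hπ⟩ := exists_hom_of_rel (IndRel F θ E hQS)
    (fun γ => by
      obtain ⟨γ', hγ', h⟩ := factor_induce_aut hT hE hQS hTQ γ.2
      exact ⟨⟨γ', hγ'⟩, h⟩)
    (fun _ _ _ h1 h2 => indRel_fun hQS h1 h2)
    (fun _ _ _ _ ha hb => indRel_mul hQS ha hb)
  refine ⟨π, hπ, fun β' => ?_⟩
  obtain ⟨γ, hγ, h⟩ := factor_lift_aut' hE hQS hTQ β'.2
  refine ⟨⟨γ, hγ⟩, ?_⟩
  exact indRel_fun hQS (hπ ⟨γ, hγ⟩) h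

theorem factor_fullyAutomized [Finite S] {p : ℕ} [Fact p.Prime] {F : FusionSystem S}
    {T : Subgroup Ω} (hT : F.StronglyClosed T)
    {θ : ↥S →* Ω'} {E : FusionSystem S'} (hE : F.IsFactorSystem T θ E) {Q : Subgroup Ω}
    (hTQ : T ≤ Q) (hfa : F.IsFullyAutomized p Q) :
    E.IsFullyAutomized p ((Q.subgroupOf S).map θ) := by
  have hQS : Q ≤ S := hfa.1
  have hfinQ : Finite Q := finite_of_le hQS
  have hQ'S' := map_le_of_factor hE Q
  have hpre : preimageAlong θ ((Q.subgroupOf S).map θ) = Q :=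
    preimageAlong_map hQS (fun s hs => hTQ ((hE.2.1 s).mp hs))
  obtain ⟨π, hπ, hsurj⟩ := exists_indHom hT hE hQS hTQ
  obtain ⟨R, hR⟩ := hfa.2
  refine ⟨hQ'S', R.mapSurjective hsurj, ?_⟩
  rw [Sylow.coe_mapSurjective, hR]
  ext β'
  rw [Subgroup.mem_subgroupOf]
  constructor
  · rintro ⟨γ, hγ, rfl⟩
    obtain ⟨g, hg, hgγ⟩ := mem_autInducedBy_iff.mp (Subgroup.mem_subgroupOf.mp hγ)
    refine mem_autInducedBy_iff.mpr ⟨θ ⟨g, hg⟩, hE.2.2.1 ▸ ⟨_, rfl⟩, fun y => ?_⟩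
    obtain ⟨q, hq⟩ := exists_of_mem_img hQS y.2
    have e : y = ⟨θ ⟨q, hQS q.2⟩, mem_img hQS q⟩ := Subtype.ext hq.symm
    rw [e, hπ γ q]
    rw [← map_inv, ← map_mul, ← map_mul]
    congr 1
    apply Subtype.ext
    exact hgγ q
  · intro hβ'
    obtain ⟨g', hg', hg'β⟩ := mem_autInducedBy_iff.mp hβ'
    have hg'r : g' ∈ θ.range := hE.2.2.1 ▸ hg'
    obtain ⟨s, rfl⟩ := hg'r
    have key1 : ∀ q : Q, (s : Ω) * q * (s : Ω)⁻¹ ∈ Q := by
      intro q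
      refine hpre.le (mem_preimageAlong.mpr
        ⟨S.mul_mem (S.mul_mem s.2 (hQS q.2)) (S.inv_mem s.2), ?_⟩)
      have e : (⟨(s : Ω) * q * (s : Ω)⁻¹, S.mul_mem (S.mul_mem s.2 (hQS q.2)) (S.inv_mem s.2)⟩ : S) =
          s * ⟨q, hQS q.2⟩ * s⁻¹ := Subtype.ext rfl
      rw [e, map_mul, map_mul, map_inv, ← hg'β ⟨θ ⟨q, hQS q.2⟩, mem_img hQS q⟩]
      exact ((β' : MulAut ↥((Q.subgroupOf S).map θ)) _).2
    have key2 : ∀ q : Q, (s : Ω)⁻¹ * q * (s : Ω) ∈ Q := by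
      intro q
      refine hpre.le (mem_preimageAlong.mpr
        ⟨S.mul_mem (S.mul_mem (S.inv_mem s.2) (hQS q.2)) s.2, ?_⟩)
      have e : (⟨(s : Ω)⁻¹ * q * (s : Ω), S.mul_mem (S.mul_mem (S.inv_mem s.2) (hQS q.2)) s.2⟩ : S) =
          s⁻¹ * ⟨q, hQS q.2⟩ * s := Subtype.ext rfl
      rw [e, map_mul, map_mul, map_inv]
      have h2 := hg'β ((β' : MulAut ↥((Q.subgroupOf S).map θ))⁻¹ ⟨θ ⟨q, hQS q.2⟩, mem_img hQS q⟩)
      rw [MulAut.apply_inv_self] at h2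
      have h3 : (θ s)⁻¹ * θ ⟨q, hQS q.2⟩ * θ s =
          (((β' : MulAut ↥((Q.subgroupOf S).map θ))⁻¹ ⟨θ ⟨q, hQS q.2⟩, mem_img hQS q⟩ :
            ↥((Q.subgroupOf S).map θ)) : Ω') := by
        show (θ s)⁻¹ * ((⟨θ ⟨q, hQS q.2⟩, mem_img hQS q⟩ : ↥((Q.subgroupOf S).map θ)) : Ω') * θ s = _
        rw [h2]
        group
      rw [h3]
      exact SetLike.coe_mem _
    have hsN : (s : Ω) ∈ Subgroup.normalizer (Q : Set Ω) :=
      mem_normalizer_of_forall (fun y hy => key1 ⟨y, hy⟩) (fun y hy => key2 ⟨y, hy⟩)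
    have hmemS : conjAut Q s hsN ∈ autInducedBy S Q := conjAut_mem_autInducedBy s.2 hsN
    have hmemF : conjAut Q s hsN ∈ F.autGroup Q := autInducedBy_le_autGroup F hQS hmemS
    refine ⟨⟨conjAut Q s hsN, hmemF⟩, Subgroup.mem_subgroupOf.mpr hmemS, ?_⟩
    refine indRel_fun hQS (hπ _) (fun q h1 => ?_)
    rw [hg'β]
    rw [← map_inv, ← map_mul, ← map_mul]
    congr 1

theorem conj_mem_of_map_conj_mem {θ : ↥S →* Ω'} {Q : Subgroup Ω} (hQS : Q ≤ S)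
    (hpre : preimageAlong θ ((Q.subgroupOf S).map θ) = Q) (s : S) (q : Q)
    (h : θ s * θ ⟨q, hQS q.2⟩ * (θ s)⁻¹ ∈ (Q.subgroupOf S).map θ) :
    (s : Ω) * q * (s : Ω)⁻¹ ∈ Q := by
  refine hpre.le (mem_preimageAlong.mpr
    ⟨S.mul_mem (S.mul_mem s.2 (hQS q.2)) (S.inv_mem s.2), ?_⟩)
  have e : (⟨(s : Ω) * q * (s : Ω)⁻¹, S.mul_mem (S.mul_mem s.2 (hQS q.2)) (S.inv_mem s.2)⟩ : S) =
      s * ⟨q, hQS q.2⟩ * s⁻¹ := Subtype.ext rfl
  rw [e, map_mul, map_mul, map_inv]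
  exact h

theorem mem_normalizer_of_map_conj_mem {θ : ↥S →* Ω'} {Q : Subgroup Ω} (hQS : Q ≤ S)
    (hpre : preimageAlong θ ((Q.subgroupOf S).map θ) = Q) (s : S)
    (h1 : ∀ q : Q, θ s * θ ⟨q, hQS q.2⟩ * (θ s)⁻¹ ∈ (Q.subgroupOf S).map θ)
    (h2 : ∀ q : Q, (θ s)⁻¹ * θ ⟨q, hQS q.2⟩ * θ s ∈ (Q.subgroupOf S).map θ) :
    (s : Ω) ∈ Subgroup.normalizer (Q : Set Ω) := by
  refine mem_normalizer_of_forall (fun y hy => conj_mem_of_map_conj_mem hQS hpre s ⟨y, hy⟩ (h1 _))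
    (fun y hy => ?_)
  have := conj_mem_of_map_conj_mem hQS hpre s⁻¹ ⟨y, hy⟩ (by
    rw [map_inv, inv_inv]
    exact h2 _)
  rw [Subgroup.coe_inv, inv_inv] at this
  exact this

/-- Automorphisms of `Q` acting trivially modulo the kernel of `θ`. -/
def trivModT (θ : ↥S →* Ω') {Q : Subgroup Ω} (hQS : Q ≤ S) : Subgroup (MulAut Q) where
  carrier := {β | ∀ q : Q, θ ⟨β q, hQS (β q).2⟩ = θ ⟨q, hQS q.2⟩}
  one_mem' := fun _ => rfl
  mul_mem' := by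
    intro a b ha hb q
    show θ ⟨a (b q), _⟩ = _
    rw [ha (b q), hb q]
  inv_mem' := by
    intro a ha q
    have := ha (a⁻¹ q)
    rw [MulAut.apply_inv_self] at this
    exact this.symm

theorem mem_trivModT {θ : ↥S →* Ω'} {Q : Subgroup Ω} (hQS : Q ≤ S) {β : MulAut Q} :
    β ∈ trivModT θ hQS ↔ ∀ q : Q, θ ⟨β q, hQS (β q).2⟩ = θ ⟨q, hQS q.2⟩ := Iff.rfl

theorem autInducedBy_le_normalizer_trivModT (F : FusionSystem S) (θ : ↥S →* Ω') {Q : Subgroup Ω}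
    (hQS : Q ≤ S) :
    autInducedBy S Q ≤ Subgroup.normalizer ((F.autGroup Q ⊓ trivModT θ hQS : Subgroup (MulAut Q)) :
      Set (MulAut Q)) := by
  intro s hs
  have hsF : s ∈ F.autGroup Q := autInducedBy_le_autGroup F hQS hs
  have key : ∀ k ∈ autInducedBy S Q, ∀ c ∈ F.autGroup Q ⊓ trivModT θ hQS,
      k * c * k⁻¹ ∈ F.autGroup Q ⊓ trivModT θ hQS := by
    intro k hk c hc
    have hkF : k ∈ F.autGroup Q := autInducedBy_le_autGroup F hQS hk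
    refine ⟨Subgroup.mul_mem _ (Subgroup.mul_mem _ hkF hc.1) (Subgroup.inv_mem _ hkF), ?_⟩
    obtain ⟨g, hg, hgk⟩ := mem_autInducedBy_iff.mp hk
    intro q
    show θ ⟨k (c (k⁻¹ q)), hQS (k (c (k⁻¹ q))).2⟩ = θ ⟨q, hQS q.2⟩
    have h1 : (⟨k (c (k⁻¹ q)), hQS (k (c (k⁻¹ q))).2⟩ : S) =
        ⟨g, hg⟩ * ⟨c (k⁻¹ q), hQS (c (k⁻¹ q)).2⟩ * ⟨g, hg⟩⁻¹ := Subtype.ext (hgk _)
    have h2 : (⟨q, hQS q.2⟩ : S) = ⟨g, hg⟩ * ⟨k⁻¹ q, hQS (k⁻¹ q).2⟩ * ⟨g, hg⟩⁻¹ := by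
      apply Subtype.ext
      have := hgk (k⁻¹ q)
      rw [MulAut.apply_inv_self] at this
      exact this
    rw [h1, map_mul, map_mul, hc.2 (k⁻¹ q), ← map_mul, ← map_mul, ← h2]
  refine mem_normalizer_of_forall (key s hs) (fun c hc => ?_)
  have := key s⁻¹ (Subgroup.inv_mem _ hs) c hc
  rwa [inv_inv] at this

theorem factor_receptive [Finite S] {p : ℕ} [Fact p.Prime] (hS : IsPGroup p S) {F : FusionSystem S}
    {T : Subgroup Ω} (hT : F.StronglyClosed T)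
    {θ : ↥S →* Ω'} {E : FusionSystem S'} (hE : F.IsFactorSystem T θ E) {Q : Subgroup Ω}
    (hTQ : T ≤ Q) (hfa : F.IsFullyAutomized p Q) (hrec : F.IsReceptive Q) :
    E.IsReceptive ((Q.subgroupOf S).map θ) := by
  have hQS : Q ≤ S := hfa.1
  have hfinQ : Finite Q := finite_of_le hQS
  have hQ'S' := map_le_of_factor hE Q
  have hpreQ : preimageAlong θ ((Q.subgroupOf S).map θ) = Q :=
    preimageAlong_map hQS (fun s hs => hTQ ((hE.2.1 s).mp hs))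
  refine ⟨hQ'S', fun R' φ' hφ' hr' => ?_⟩
  have hR'S' : R' ≤ S' := source_le E hφ'
  obtain ⟨-, φ, hφ, hRS, hφS, hmemR', hind⟩ := (hE.2.2.2 R' φ').mp hφ'
  have hTR : T ≤ preimageAlong θ R' := by
    intro t ht
    refine mem_preimageAlong.mpr ⟨hT.1 ht, ?_⟩
    rw [(hE.2.1 ⟨t, hT.1 ht⟩).mpr ht]
    exact R'.one_mem
  -- the range of φ is Q
  have hrange : φ.range = Q := by
    apply le_antisymm
    · rintro _ ⟨x, rfl⟩
      refine hpreQ.le (mem_preimageAlong.mpr ⟨hφS x, ?_⟩)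
      rw [← hind x, ← hr']
      exact ⟨_, rfl⟩
    · intro q hq
      have h1 : θ ⟨q, hQS hq⟩ ∈ φ'.range := by
        rw [hr']
        exact mem_img hQS ⟨q, hq⟩
      obtain ⟨y, hy⟩ := h1
      obtain ⟨r, hr⟩ := exists_preimage_of_mem_range hE.2.2.1 hR'S' y
      have e : y = ⟨θ ⟨r, hRS r.2⟩, hmemR' r⟩ := Subtype.ext hr.symm
      rw [e, hind r] at hy
      have h2 : θ (⟨φ r, hφS r⟩⁻¹ * ⟨q, hQS hq⟩) = 1 := by
        rw [map_mul, map_inv, hy, inv_mul_cancel]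
      have h3 : (φ r)⁻¹ * q ∈ T := (hE.2.1 _).mp h2
      obtain ⟨r₀, -, hr₀⟩ := exists_preimage_of_stronglyClosed F hT hTR hφ h3
      refine ⟨r * r₀, ?_⟩
      rw [map_mul, hr₀, mul_inv_cancel_left]
  obtain ⟨e, he, hex⟩ := exists_iso_of_hom F hφ hrange
  -- the extender in the quotient and its preimage
  have hN'S' : extender S' R' φ' ≤ S' := (extender_le_normalizerIn S' R' φ').trans inf_le_left
  have hNS : preimageAlong θ (extender S' R' φ') ≤ S := preimageAlong_le θ _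
  have hRN : preimageAlong θ R' ≤ preimageAlong θ (extender S' R' φ') := by
    intro x hx
    obtain ⟨hxS, hx'⟩ := mem_preimageAlong.mp hx
    exact mem_preimageAlong.mpr ⟨hxS, le_extender E hφ' hx'⟩
  have hTN : T ≤ preimageAlong θ (extender S' R' φ') := hTR.trans hRN
  have hfinN : Finite ↥(preimageAlong θ (extender S' R' φ')) := finite_of_le hNS
  -- elements of N normalize R
  have hnorm : ∀ g ∈ preimageAlong θ (extender S' R' φ'),
      g ∈ Subgroup.normalizer ((preimageAlong θ R' : Subgroup Ω) : Set Ω) := by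
    have key : ∀ g ∈ preimageAlong θ (extender S' R' φ'), ∀ y ∈ preimageAlong θ R',
        g * y * g⁻¹ ∈ preimageAlong θ R' := by
      intro g hg y hy
      obtain ⟨hgS, hg'⟩ := mem_preimageAlong.mp hg
      obtain ⟨hyS, hy'⟩ := mem_preimageAlong.mp hy
      obtain ⟨-, hgN, -⟩ := mem_extender_iff.mp hg'
      refine mem_preimageAlong.mpr ⟨S.mul_mem (S.mul_mem hgS hyS) (S.inv_mem hgS), ?_⟩
      have e1 : (⟨g * y * g⁻¹, S.mul_mem (S.mul_mem hgS hyS) (S.inv_mem hgS)⟩ : S) =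
          ⟨g, hgS⟩ * ⟨y, hyS⟩ * ⟨g, hgS⟩⁻¹ := Subtype.ext rfl
      rw [e1, map_mul, map_mul, map_inv]
      exact conj_mem_of_mem_normalizer hgN ⟨_, hy'⟩
    intro g hg
    refine mem_normalizer_of_forall (key g hg) (fun y hy => ?_)
    have := key g⁻¹ (Subgroup.inv_mem _ hg) y hy
    rwa [inv_inv] at this
  -- the p-group B and the containment B ≤ Sy ⊔ C
  have hBp : IsPGroup p ((autInducedBy (preimageAlong θ (extender S' R' φ')) (preimageAlong θ R')).map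
      (MulAut.congr e).toMonoidHom) :=
    (isPGroup_autInducedBy (hS.to_le hNS) _).map _
  have hBle : (autInducedBy (preimageAlong θ (extender S' R' φ')) (preimageAlong θ R')).map
      (MulAut.congr e).toMonoidHom ≤
      autInducedBy S Q ⊔ (F.autGroup Q ⊓ trivModT θ hQS) := by
    rintro _ ⟨α, hα, rfl⟩
    obtain ⟨g, hgN, hgα⟩ := mem_autInducedBy_iff.mp hα
    obtain ⟨hgS, hg'⟩ := mem_preimageAlong.mp hgN
    obtain ⟨-, hg'N, h', hh'S', hh'⟩ := mem_extender_iff.mp hg'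
    have hh'r : h' ∈ θ.range := hE.2.2.1 ▸ hh'S'
    obtain ⟨h, rfl⟩ := hh'r
    have hrel : ∀ r : ↥(preimageAlong θ R'),
        θ ⟨φ (α r), hφS _⟩ = θ h * θ ⟨φ r, hφS r⟩ * (θ h)⁻¹ := by
      intro r
      rw [← hind (α r), ← hind r, ← hh' ⟨θ ⟨r, hRS r.2⟩, hmemR' r⟩]
      congr 1
      apply Subtype.ext
      show θ ⟨((α r : ↥(preimageAlong θ R')) : Ω), _⟩ =
        θ ⟨g, hgS⟩ * θ ⟨r, hRS r.2⟩ * (θ ⟨g, hgS⟩)⁻¹
      rw [← map_inv, ← map_mul, ← map_mul]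
      congr 1
      apply Subtype.ext
      exact hgα r
    have hQr : ∀ q : Q, ∃ r : ↥(preimageAlong θ R'), φ r = q := by
      intro q
      have : (q : Ω) ∈ φ.range := hrange.ge q.2
      exact this
    have hhN : (h : Ω) ∈ Subgroup.normalizer (Q : Set Ω) := by
      refine mem_normalizer_of_map_conj_mem hQS hpreQ h (fun q => ?_) (fun q => ?_)
      · obtain ⟨r, hr⟩ := hQr q
        have e1 : (⟨q, hQS q.2⟩ : S) = ⟨φ r, hφS r⟩ := Subtype.ext hr.symm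
        rw [e1, ← hrel r]
        exact ⟨⟨φ (α r), hφS _⟩, Subgroup.mem_subgroupOf.mpr (hrange.le ⟨_, rfl⟩), rfl⟩
      · obtain ⟨r, hr⟩ := hQr q
        have e1 : (⟨q, hQS q.2⟩ : S) = ⟨φ (α (α⁻¹ r)), hφS _⟩ := by
          apply Subtype.ext
          rw [MulAut.apply_inv_self]
          exact hr.symm
        rw [e1, hrel (α⁻¹ r)]
        have e2 : (θ h)⁻¹ * (θ h * θ ⟨φ (α⁻¹ r), hφS _⟩ * (θ h)⁻¹) * θ h =
            θ ⟨φ (α⁻¹ r), hφS _⟩ := by group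
        rw [e2]
        exact ⟨⟨φ (α⁻¹ r), hφS _⟩, Subgroup.mem_subgroupOf.mpr (hrange.le ⟨_, rfl⟩), rfl⟩
    have hcS : conjAut Q h hhN ∈ autInducedBy S Q := conjAut_mem_autInducedBy h.2 hhN
    have hcF : conjAut Q h hhN ∈ F.autGroup Q := autInducedBy_le_autGroup F hQS hcS
    have hβF : (MulAut.congr e) α ∈ F.autGroup Q :=
      congr_mem_autGroup he (autInducedBy_le_autGroup F hRS (autInducedBy_mono hNS _ hα))
    have hdec : (MulAut.congr e).toMonoidHom α =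
        conjAut Q h hhN * ((conjAut Q h hhN)⁻¹ * (MulAut.congr e) α) := by
      rw [mul_inv_cancel_left]
      rfl
    rw [hdec]
    refine Subgroup.mul_mem_sup hcS ⟨Subgroup.mul_mem _ (Subgroup.inv_mem _ hcF) hβF, ?_⟩
    intro q
    have hq1 : q = e (e.symm q) := (MulEquiv.apply_symm_apply e q).symm
    have hval : ((((conjAut Q h hhN)⁻¹ * (MulAut.congr e) α) q : Q) : Ω) =
        (h : Ω)⁻¹ * φ (α (e.symm q)) * (h : Ω) := by
      rw [MulAut.mul_apply, conjAut_inv_apply, congr_apply_coe, hex]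
    have e3 : (⟨((((conjAut Q h hhN)⁻¹ * (MulAut.congr e) α) q : Q) : Ω), hQS (_ : Q).2⟩ : S) =
        h⁻¹ * ⟨φ (α (e.symm q)), hφS _⟩ * h := Subtype.ext hval
    rw [e3, map_mul, map_mul, map_inv, hrel (e.symm q)]
    have e4 : (⟨q, hQS q.2⟩ : S) = ⟨φ (e.symm q), hφS _⟩ := by
      apply Subtype.ext
      show (q : Ω) = φ (e.symm q)
      rw [← hex, MulEquiv.apply_symm_apply]
    rw [e4]
    group
  -- conjugate B into Aut_S(Q) by an element c₀ acting trivially modulo T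
  have hSy := isSylowIn18_of_fullyAutomized F hfa
  obtain ⟨c₀, hc₀, hc₀B⟩ := exists_conj_mem_of_le_sup hSy inf_le_left
    (autInducedBy_le_normalizer_trivModT F θ hQS) hBp hBle
  have hc₀iso : IsIso F c₀ := (isIso_iff_mem_autGroup F hQS c₀).mpr hc₀.1
  have hφ₂ : IsIso F (e.trans c₀) := he.trans hc₀iso
  have hNle : preimageAlong θ (extender S' R' φ') ≤
      extender S (preimageAlong θ R') (Q.subtype.comp (e.trans c₀).toMonoidHom) := by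
    intro g hgN
    have hgS : g ∈ S := hNS hgN
    have hgn := hnorm g hgN
    have hαmem : conjAut (preimageAlong θ R') g hgn ∈
        autInducedBy (preimageAlong θ (extender S' R' φ')) (preimageAlong θ R') :=
      conjAut_mem_autInducedBy hgN hgn
    have hb := hc₀B _ ⟨_, hαmem, rfl⟩
    obtain ⟨k, hkS, hk⟩ := mem_autInducedBy_iff.mp hb
    refine mem_extender_iff.mpr ⟨hgS, hgn, k, hkS, fun x => ?_⟩
    have h1 := hk (c₀ (e x))
    rw [MulAut.mul_apply, MulAut.mul_apply, MulAut.inv_apply_self] at h1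
    have h2 : (MulAut.congr e).toMonoidHom (conjAut (preimageAlong θ R') g hgn) (e x) =
        e ⟨g * x * g⁻¹, conj_mem_of_mem_normalizer hgn x⟩ := by
      show e ((conjAut (preimageAlong θ R') g hgn) (e.symm (e x))) = _
      rw [MulEquiv.symm_apply_apply]
      rfl
    rw [h2] at h1
    exact h1
  obtain ⟨ψ, hψ, hψe⟩ := hrec.2 _ _ hφ₂ (range_subtype_comp_equiv _)
  have hψN := restrict_mem F hψ hNle
  obtain ⟨ψ', hψ', hψ'e⟩ := factor_induce_hom hT hE hNS hTN hψN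
  have himg : ((preimageAlong θ (extender S' R' φ')).subgroupOf S).map θ = extender S' R' φ' :=
    map_preimageAlong hE.2.2.1 hN'S'
  obtain ⟨ψ'', hψ'', hψ''e⟩ := hom_cast E himg ψ' hψ'
  refine ⟨ψ'', hψ'', fun x hP hN => ?_⟩
  obtain ⟨r, hr⟩ := exists_preimage_of_mem_range hE.2.2.1 hR'S' ⟨x, hP⟩
  have hxi : x ∈ ((preimageAlong θ (extender S' R' φ')).subgroupOf S).map θ := himg.ge hN
  rw [hψ''e x hxi hN]
  have hrN : (r : Ω) ∈ preimageAlong θ (extender S' R' φ') := hRN r.2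
  have e1 : (⟨x, hxi⟩ : ↥(((preimageAlong θ (extender S' R' φ')).subgroupOf S).map θ)) =
      ⟨θ ⟨r, hNS hrN⟩, mem_img hNS ⟨r, hrN⟩⟩ := Subtype.ext hr.symm
  have e2 : (⟨x, hP⟩ : R') = ⟨θ ⟨r, hRS r.2⟩, hmemR' r⟩ := Subtype.ext hr.symm
  rw [e1, e2, hψ'e ⟨r, hrN⟩, hind r]
  have h3 : (ψ.comp (Subgroup.inclusion hNle)) ⟨r, hrN⟩ =
      (Q.subtype.comp (e.trans c₀).toMonoidHom) r := hψe r r.2 _
  have h4 := hc₀.2 (e r)
  have e5 : (⟨(ψ.comp (Subgroup.inclusion hNle)) ⟨r, hrN⟩, apply_mem F hψN ⟨r, hrN⟩⟩ : S) =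
      ⟨c₀ (e r), hQS (c₀ (e r)).2⟩ := Subtype.ext h3
  have e6 : (⟨φ r, hφS r⟩ : S) = ⟨e r, hQS (e r).2⟩ := Subtype.ext (hex r).symm
  rw [e5, e6]
  exact h4

theorem ker_le_preimageAlong {F : FusionSystem S} {T : Subgroup Ω} {θ : ↥S →* Ω'}
    {E : FusionSystem S'} (hE : F.IsFactorSystem T θ E) (P' : Subgroup Ω') :
    T ≤ preimageAlong θ P' := by
  intro t ht
  refine mem_preimageAlong.mpr ⟨hE.1 ht, ?_⟩
  rw [(hE.2.1 ⟨t, hE.1 ht⟩).mpr ht]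
  exact P'.one_mem

/-- The factor system of a saturated fusion system modulo a strongly closed subgroup is saturated. -/
theorem factor_saturated [Finite S] {p : ℕ} [Fact p.Prime] (hS : IsPGroup p S) {F : FusionSystem S}
    (hF : F.IsSaturated p) {T : Subgroup Ω} (hT : F.StronglyClosed T)
    {θ : ↥S →* Ω'} {E : FusionSystem S'} (hE : F.IsFactorSystem T θ E) : E.IsSaturated p := by
  intro P' hP'
  have hPS := preimageAlong_le θ P'
  have hTP : T ≤ preimageAlong θ P' := ker_le_preimageAlong hE P'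
  obtain ⟨Q, hPQ, hQn⟩ := exists_fullyNormalized_conj F hPS
  obtain ⟨-, hfa, hrec⟩ := saturated_fullyNormalized hS F hF hQn
  have hTQ : T ≤ Q := le_of_isConj_of_stronglyClosed F hT hTP hPQ
  refine ⟨(Q.subgroupOf S).map θ, ?_, factor_fullyAutomized hT hE hTQ hfa,
    factor_receptive hS hT hE hTQ hfa hrec⟩
  have h := factor_isConj hT hE hTP hPQ
  rwa [map_preimageAlong hE.2.2.1 hP'] at h

theorem stronglyClosed_ker_of_morphism {F : FusionSystem S} {F' : FusionSystem S'} {α : ↥S →* Ω'}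
    (hα : F.IsMorphism F' α) : F.StronglyClosed (preimageAlong α ⊥) := by
  refine ⟨preimageAlong_le α ⊥, fun R hR φ hφ x => ?_⟩
  obtain ⟨φ', -, hRS, hφS, hmem, hind⟩ := hα.2 R φ hφ
  obtain ⟨hxS, hx⟩ := mem_preimageAlong.mp (hR x.2)
  rw [Subgroup.mem_bot] at hx
  refine mem_preimageAlong.mpr ⟨hφS x, ?_⟩
  rw [Subgroup.mem_bot, ← hind x]
  have e : (⟨α ⟨x, hRS x.2⟩, hmem x⟩ : ↥(imageAlong α R)) = 1 := Subtype.ext hx
  rw [e, map_one]

theorem isFactorSystem_of_surjectiveMorphism {F : FusionSystem S} {F' : FusionSystem S'}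
    {α : ↥S →* Ω'} (hα : F.IsSurjectiveMorphism F' α) :
    F.IsFactorSystem (preimageAlong α ⊥) α F' := by
  obtain ⟨hmor, hrange, hsurj⟩ := hα
  refine ⟨preimageAlong_le α ⊥, fun s => ?_, hrange, fun P' φ' => ?_⟩
  · constructor
    · intro h
      exact mem_preimageAlong.mpr ⟨s.2, by rw [Subgroup.mem_bot]; exact h⟩
    · intro h
      obtain ⟨_, h1⟩ := mem_preimageAlong.mp h
      rw [Subgroup.mem_bot] at h1
      exact h1
  · constructor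
    · intro hφ'
      have hP' : P' ≤ S' := (F'.le_of_mem hφ').1
      exact ⟨hP', hsurj P' hP' φ' hφ'⟩
    · rintro ⟨hP', φ, hφ, hPS, hφS, hmem, hind⟩
      obtain ⟨φ'', hφ'', hPS₂, hφS₂, hmem₂, hind₂⟩ := hmor.2 _ φ hφ
      have himg : imageAlong α (preimageAlong α P') = P' := map_preimageAlong hrange hP'
      obtain ⟨φ₃, hφ₃, hφ₃e⟩ := hom_cast F' himg φ'' hφ''
      have heq : φ' = φ₃ := by
        ext y
        obtain ⟨x, hx⟩ := exists_preimage_of_mem_range hrange hP' y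
        have e1 : y = ⟨α ⟨x, hPS x.2⟩, hmem x⟩ := Subtype.ext hx.symm
        rw [e1, hind x, hφ₃e _ (hmem₂ x) (hmem x), hind₂ x]
      rw [heq]
      exact hφ₃

end Cfsg.Agent.Lib.Helper27
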