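import Cfsg.Agent.Lib.Helper27.FusFactor

set_option autoImplicit false

namespace Cfsg.Agent.Lib.Helper27

open Cfsg Cfsg.FusionSystem Cfsg.Agent.Lib.Helper26

variable {Ω : Type*} [Group Ω] {S : Subgroup Ω} {Ω' : Type*} [Group Ω'] {S' : Subgroup Ω'}

theorem exists_preimage_of_mem_range {θ : ↥S →* Ω'} (hr : θ.range = S') {P' : Subgroup Ω'}
    (hP' : P' ≤ S') (y : P') :
    ∃ x : ↥(preimageAlong θ P'), θ ⟨x, preimageAlong_le θ P' x.2⟩ = (y : Ω') := by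
  have hy : (y : Ω') ∈ θ.range := hr ▸ hP' y.2
  obtain ⟨s, hs⟩ := hy
  refine ⟨⟨s, mem_preimageAlong.mpr ⟨s.2, ?_⟩⟩, hs⟩
  show θ s ∈ P'
  rw [hs]
  exact y.2

theorem exists_induced (F : FusionSystem S) {T : Subgroup Ω} (hT : F.StronglyClosed T)
    {θ : ↥S →* Ω'} (hker : ∀ s : S, θ s = 1 ↔ (s : Ω) ∈ T) (hr : θ.range = S')
    {P' : Subgroup Ω'} (hP' : P' ≤ S') {φ : ↥(preimageAlong θ P') →* Ω}
    (hφ : φ ∈ F.Hom (preimageAlong θ P')) : ∃ φ' : P' →* Ω', InducedAlong θ φ φ' := by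
  have hPS : preimageAlong θ P' ≤ S := preimageAlong_le θ P'
  have hmem : ∀ x : ↥(preimageAlong θ P'), θ ⟨x, hPS x.2⟩ ∈ P' := fun x =>
    (mem_preimageAlong.mp x.2).2
  let θP : ↥(preimageAlong θ P') →* P' := (θ.comp (Subgroup.inclusion hPS)).codRestrict P' hmem
  have hsurj : Function.Surjective θP := by
    intro y
    obtain ⟨x, hx⟩ := exists_preimage_of_mem_range hr hP' y
    exact ⟨x, Subtype.ext hx⟩
  let g : ↥(preimageAlong θ P') →* Ω' := θ.comp (φ.codRestrict S (fun x => apply_mem F hφ x))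
  have hkerle : θP.ker ≤ g.ker := by
    intro x hx
    rw [MonoidHom.mem_ker] at hx ⊢
    have h1 : θ ⟨x, hPS x.2⟩ = 1 := congrArg Subtype.val hx
    have h2 : (x : Ω) ∈ T := (hker _).mp h1
    have h3 : φ x ∈ T := apply_mem_of_stronglyClosed F hT hφ x h2
    exact (hker ⟨φ x, apply_mem F hφ x⟩).mpr h3
  refine ⟨θP.liftOfSurjective hsurj ⟨g, hkerle⟩, hPS, fun x => apply_mem F hφ x, hmem, fun x => ?_⟩
  exact MonoidHom.liftOfRightInverse_comp_apply _ _ _ ⟨g, hkerle⟩ x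

/-- The maps of the factor system with source `P'`. -/
def factorHomSet (F : FusionSystem S) (θ : ↥S →* Ω') (S' : Subgroup Ω') (P' : Subgroup Ω') :
    Set (P' →* Ω') :=
  {φ' | P' ≤ S' ∧ ∃ φ ∈ F.Hom (preimageAlong θ P'), InducedAlong θ φ φ'}

/-- The factor system of `F` modulo a strongly closed subgroup `T`, read through `θ`. -/
noncomputable def factorSystem [Finite S] (F : FusionSystem S) {T : Subgroup Ω}
    (hT : F.StronglyClosed T) (θ : ↥S →* Ω') (hker : ∀ s : S, θ s = 1 ↔ (s : Ω) ∈ T)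
    (hr : θ.range = S') : FusionSystem S' where
  Hom := factorHomSet F θ S'
  le_of_mem := by
    rintro P' φ' ⟨hP', φ, hφ, hP, hφS, hmem, hind⟩
    refine ⟨hP', fun y => ?_⟩
    obtain ⟨x, hx⟩ := exists_preimage_of_mem_range hr hP' y
    have e : y = ⟨θ ⟨x, hP x.2⟩, hmem x⟩ := Subtype.ext hx.symm
    rw [e, hind x, ← hr]
    exact ⟨_, rfl⟩
  injective_of_mem := by
    rintro P' φ' ⟨hP', φ, hφ, hP, hφS, hmem, hind⟩ y₁ y₂ h
    obtain ⟨x₁, hx₁⟩ := exists_preimage_of_mem_range hr hP' y₁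
    obtain ⟨x₂, hx₂⟩ := exists_preimage_of_mem_range hr hP' y₂
    have e₁ : y₁ = ⟨θ ⟨x₁, hP x₁.2⟩, hmem x₁⟩ := Subtype.ext hx₁.symm
    have e₂ : y₂ = ⟨θ ⟨x₂, hP x₂.2⟩, hmem x₂⟩ := Subtype.ext hx₂.symm
    rw [e₁, e₂, hind x₁, hind x₂] at h
    have h1 : θ (⟨φ x₁, hφS x₁⟩⁻¹ * ⟨φ x₂, hφS x₂⟩) = 1 := by
      rw [map_mul, map_inv, h, inv_mul_cancel]
    have h2 : (φ x₁)⁻¹ * φ x₂ ∈ T := (hker _).mp h1
    have h3 : φ (x₁⁻¹ * x₂) ∈ T := by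
      rw [map_mul, map_inv]; exact h2
    obtain ⟨ψ, hψ, hψinv⟩ := F.inv_mem hφ
    have h4 := apply_mem_of_stronglyClosed F hT hψ ⟨φ (x₁⁻¹ * x₂), ⟨_, rfl⟩⟩ h3
    rw [hψinv] at h4
    have h5 : θ (⟨x₁, hP x₁.2⟩⁻¹ * ⟨x₂, hP x₂.2⟩) = 1 := (hker _).mpr h4
    rw [map_mul, map_inv, inv_mul_eq_one] at h5
    rw [e₁, e₂]
    exact Subtype.ext h5
  conj_mem := by
    intro P' g' hP' hg'
    have hg'' : g' ∈ θ.range := hr ▸ hg'
    obtain ⟨g, rfl⟩ := hg''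
    have hPS : preimageAlong θ P' ≤ S := preimageAlong_le θ P'
    refine ⟨hP', conjHom _ (g : Ω), F.conj_mem hPS g.2, hPS,
      fun x => S.mul_mem (S.mul_mem g.2 (hPS x.2)) (S.inv_mem g.2),
      fun x => (mem_preimageAlong.mp x.2).2, fun x => ?_⟩
    show θ g * θ ⟨x, hPS x.2⟩ * (θ g)⁻¹ = θ ⟨(g : Ω) * x * (g : Ω)⁻¹, _⟩
    rw [← map_inv, ← map_mul, ← map_mul]
    rfl
  comp_mem := by
    rintro P' Q' φ' ψ' ⟨hP', φ, hφ, hP, hφS, hmemP, hindφ⟩ ⟨hQ', ψ, hψ, hQ, hψS, hmemQ, hindψ⟩ h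
    have hφQ : ∀ x : ↥(preimageAlong θ P'), φ x ∈ preimageAlong θ Q' := by
      intro x
      refine mem_preimageAlong.mpr ⟨hφS x, ?_⟩
      rw [← hindφ x]
      exact h _
    refine ⟨hP', ψ.comp (φ.codRestrict _ hφQ), F.comp_mem hφ hψ hφQ, hP,
      fun x => hψS _, hmemP, fun x => ?_⟩
    show ψ' ⟨φ' ⟨θ ⟨x, hP x.2⟩, hmemP x⟩, _⟩ = θ ⟨ψ ⟨φ x, hφQ x⟩, _⟩
    rw [← hindψ ⟨φ x, hφQ x⟩]
    congr 2
    exact hindφ x
  inv_mem := by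
    rintro P' φ' ⟨hP', φ, hφ, hP, hφS, hmem, hind⟩
    have hR' : φ'.range ≤ S' := by
      rintro _ ⟨y, rfl⟩
      obtain ⟨x, hx⟩ := exists_preimage_of_mem_range hr hP' y
      have e : y = ⟨θ ⟨x, hP x.2⟩, hmem x⟩ := Subtype.ext hx.symm
      rw [e, hind x, ← hr]
      exact ⟨_, rfl⟩
    have hTP : T ≤ preimageAlong θ P' := by
      intro t ht
      refine mem_preimageAlong.mpr ⟨hT.1 ht, ?_⟩
      rw [(hker ⟨t, hT.1 ht⟩).mpr ht]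
      exact P'.one_mem
    have hpre : preimageAlong θ φ'.range = φ.range := by
      ext y
      rw [mem_preimageAlong]
      constructor
      · rintro ⟨hy, y', hy'⟩
        obtain ⟨x, hx⟩ := exists_preimage_of_mem_range hr hP' y'
        have e : y' = ⟨θ ⟨x, hP x.2⟩, hmem x⟩ := Subtype.ext hx.symm
        rw [e, hind x] at hy'
        have h1 : θ (⟨φ x, hφS x⟩⁻¹ * ⟨y, hy⟩) = 1 := by
          rw [map_mul, map_inv, hy', inv_mul_cancel]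
        have h2 : (φ x)⁻¹ * y ∈ T := (hker _).mp h1
        obtain ⟨t, -, ht⟩ := exists_preimage_of_stronglyClosed F hT hTP hφ h2
        refine ⟨x * t, ?_⟩
        rw [map_mul, ht]
        group
      · rintro ⟨x, rfl⟩
        refine ⟨hφS x, ⟨θ ⟨x, hP x.2⟩, hmem x⟩, ?_⟩
        exact hind x
    obtain ⟨ψ, hψ, hψinv⟩ := F.inv_mem hφ
    obtain ⟨ψ₂, hψ₂, hψ₂e⟩ := hom_cast F hpre.symm ψ hψ
    obtain ⟨ψ', hψ'⟩ := exists_induced F hT hker hr hR' hψ₂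
    refine ⟨ψ', ⟨hR', ψ₂, hψ₂, hψ'⟩, fun y => ?_⟩
    obtain ⟨hQ, hψS, hmemQ, hindψ⟩ := hψ'
    obtain ⟨x, hx⟩ := exists_preimage_of_mem_range hr hP' y
    have e : y = ⟨θ ⟨x, hP x.2⟩, hmem x⟩ := Subtype.ext hx.symm
    have hφx : φ x ∈ preimageAlong θ φ'.range := hpre.ge ⟨x, rfl⟩
    have e2 : (⟨φ' y, ⟨y, rfl⟩⟩ : φ'.range) =
        ⟨θ ⟨(⟨φ x, hφx⟩ : ↥(preimageAlong θ φ'.range)), hQ hφx⟩, hmemQ ⟨φ x, hφx⟩⟩ := by
      apply Subtype.ext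
      show φ' y = θ ⟨φ x, _⟩
      rw [e, hind x]
    rw [e2, hindψ ⟨φ x, hφx⟩]
    have e3 : ψ₂ ⟨φ x, hφx⟩ = (x : Ω) := by
      rw [hψ₂e (φ x) ⟨x, rfl⟩ hφx]
      exact hψinv x
    rw [← hx]
    congr 2

theorem factorSystem_isFactorSystem [Finite S] (F : FusionSystem S) {T : Subgroup Ω}
    (hT : F.StronglyClosed T) (θ : ↥S →* Ω') (hker : ∀ s : S, θ s = 1 ↔ (s : Ω) ∈ T)
    (hr : θ.range = S') : F.IsFactorSystem T θ (factorSystem F hT θ hker hr) :=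
  ⟨hT.1, hker, hr, fun _ _ => Iff.rfl⟩

end Cfsg.Agent.Lib.Helper27
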