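import Mathlib

/-!
# Automorphism groups of order prime to `p` of `C × C`

For a cyclic group `C` of order `p ^ n`, `n ≥ 1`, the group `C × C` has a group of automorphisms of
order prime to `p` that is not abelian of exponent dividing `p - 1`.
-/

set_option autoImplicit false

namespace Cfsg.Agent.Lib.Helper27.AbInvNeg

/-- the groups of automorphisms of order prime to `p` are abelian of exponent dividing `p - 1` -/
def SmallAut (p : ℕ) (X : Type*) [Group X] : Prop :=
  ∀ H : Subgroup (MulAut X), (Nat.card ↥H).Coprime p →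
    IsMulCommutative ↥H ∧ ∀ h ∈ H, h ^ (p - 1) = 1

theorem smallAut_of_injective {p : ℕ} {X Z : Type*} [Group X] [Group Z] (f : MulAut X →* MulAut Z)
    (hf : Function.Injective f) (hZ : SmallAut p Z) : SmallAut p X := by
  intro H hcop
  obtain ⟨hc, hex⟩ := hZ (H.map f) (by rw [Subgroup.card_map_of_injective hf]; exact hcop)
  refine ⟨⟨⟨fun a b => ?_⟩⟩, fun h hh => ?_⟩
  · have h1 := hc.is_comm.comm (⟨f a, ⟨a, a.2, rfl⟩⟩ : ↥(H.map f)) ⟨f b, ⟨b, b.2, rfl⟩⟩
    have h2 : f (a : MulAut X) * f (b : MulAut X) = f (b : MulAut X) * f (a : MulAut X) :=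
      congrArg Subtype.val h1
    rw [← map_mul, ← map_mul] at h2
    exact Subtype.ext (hf h2)
  · have h1 := hex (f h) ⟨h, hh, rfl⟩
    rw [← map_pow] at h1
    exact hf (h1.trans (map_one f).symm)

/-- extend an automorphism of `X` to `X × H` by the identity on `H` -/
def liftL (X H : Type*) [Group X] [Group H] : MulAut X →* MulAut (X × H) where
  toFun φ := MulEquiv.prodCongr φ (MulEquiv.refl H)
  map_one' := rfl
  map_mul' _ _ := rfl

theorem liftL_injective (X H : Type*) [Group X] [Group H] : Function.Injective (liftL X H) := by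
  intro φ ψ h
  ext x
  have h1 := congrArg (fun α : MulAut (X × H) => (α (x, 1)).1) h
  exact h1

theorem smallAut_of_prod {p : ℕ} {X H : Type*} [Group X] [Group H] (h : SmallAut p (X × H)) :
    SmallAut p X :=
  smallAut_of_injective (liftL X H) (liftL_injective X H) h

theorem smallAut_of_equiv {p : ℕ} {X Z : Type*} [Group X] [Group Z] (e : X ≃* Z)
    (h : SmallAut p Z) : SmallAut p X :=
  smallAut_of_injective (MulAut.congr e).toMonoidHom (MulAut.congr e).injective h

section Square

variable (C : Type*) [CommGroup C]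

/-- `(x, y) ↦ (y⁻¹, x)` -/
def rho : MulAut (C × C) where
  toFun x := (x.2⁻¹, x.1)
  invFun x := (x.2, x.1⁻¹)
  left_inv x := by simp
  right_inv x := by simp
  map_mul' x y := by simp [mul_comm]

/-- `(x, y) ↦ (y, x)` -/
def tau : MulAut (C × C) := MulEquiv.prodComm

/-- `(x, y) ↦ (y⁻¹, x y⁻¹)` -/
def sigma : MulAut (C × C) where
  toFun x := (x.2⁻¹, x.1 * x.2⁻¹)
  invFun x := (x.1⁻¹ * x.2, x.1⁻¹)
  left_inv x := by
    apply Prod.ext
    · simp
    · simp
  right_inv x := by
    apply Prod.ext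
    · simp
    · simp [mul_comm]
  map_mul' x y := by
    apply Prod.ext
    · simp [mul_comm]
    · simp only [Prod.snd_mul, Prod.fst_mul, mul_inv_rev, mul_comm, mul_left_comm, mul_assoc]

theorem sigma_pow_three : sigma C ^ 3 = 1 := by
  apply MulEquiv.ext
  intro x
  show sigma C (sigma C (sigma C x)) = x
  apply Prod.ext
  · simp [sigma]
  · simp [sigma, mul_comm]

theorem tau_mul_tau : tau C * tau C = 1 := by
  apply MulEquiv.ext
  intro x
  rfl

theorem rho_pow_four : rho C ^ (2 ^ 2) = 1 := by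
  apply MulEquiv.ext
  intro x
  show rho C (rho C (rho C (rho C x))) = x
  simp [rho]

theorem tau_conj_rho : tau C * rho C * (tau C)⁻¹ = (rho C)⁻¹ := by
  apply MulEquiv.ext
  intro x
  rfl

theorem tau_inv_conj_rho : (tau C)⁻¹ * rho C * tau C = (rho C)⁻¹ := by
  apply MulEquiv.ext
  intro x
  rfl

end Square

theorem isPGroup_zpowers {G : Type*} [Group G] {q k : ℕ} {x : G} (hx : x ^ (q ^ k) = 1) :
    IsPGroup q ↥(Subgroup.zpowers x) := by
  rintro ⟨y, hy⟩
  obtain ⟨j, rfl⟩ := Subgroup.mem_zpowers_iff.mp hy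
  refine ⟨k, Subtype.ext ?_⟩
  show (x ^ j) ^ (q ^ k) = 1
  rw [← zpow_natCast, ← zpow_mul, mul_comm, zpow_mul, zpow_natCast, hx, one_zpow]

theorem dihedral_isPGroup (C : Type*) [CommGroup C] :
    IsPGroup 2 ↥(Subgroup.zpowers (tau C) ⊔ Subgroup.zpowers (rho C)) := by
  apply IsPGroup.to_sup_of_normal_right'
  · apply isPGroup_zpowers (k := 1)
    rw [pow_one, pow_two]
    exact tau_mul_tau C
  · exact isPGroup_zpowers (rho_pow_four C)
  · rw [Subgroup.zpowers_le, Subgroup.mem_normalizer_iff]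
    intro h
    constructor
    · intro hh
      obtain ⟨j, rfl⟩ := Subgroup.mem_zpowers_iff.mp hh
      rw [← conj_zpow, tau_conj_rho]
      exact Subgroup.zpow_mem _ (Subgroup.inv_mem _ (Subgroup.mem_zpowers _)) _
    · intro hh
      obtain ⟨j, hj⟩ := Subgroup.mem_zpowers_iff.mp hh
      have e : h = ((tau C)⁻¹ * rho C * tau C) ^ j := by
        have e1 : (tau C)⁻¹ * rho C * tau C = (tau C)⁻¹ * rho C * ((tau C)⁻¹)⁻¹ := by
          rw [inv_inv]
        rw [e1, conj_zpow, hj, inv_inv]
        group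
      rw [e, tau_inv_conj_rho]
      exact Subgroup.zpow_mem _ (Subgroup.inv_mem _ (Subgroup.mem_zpowers _)) _

/-- **`C × C` has a bad group of automorphisms of order prime to `p`.** -/
theorem not_smallAut_square {p : ℕ} [hp : Fact p.Prime] {n : ℕ} (hn : 0 < n) :
    ¬ SmallAut p (Multiplicative (ZMod (p ^ n)) × Multiplicative (ZMod (p ^ n))) := by
  intro hQ
  have hpn : 1 < p ^ n := Nat.one_lt_pow hn.ne' hp.out.one_lt
  haveI : Fact (1 < p ^ n) := ⟨hpn⟩
  haveI : NeZero (p ^ n) := ⟨by omega⟩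
  have hg : (Multiplicative.ofAdd (1 : ZMod (p ^ n))) ≠ 1 := by
    intro h
    have h1 : (1 : ZMod (p ^ n)) = 0 := congrArg Multiplicative.toAdd h
    exact one_ne_zero h1
  rcases hp.out.eq_two_or_odd' with h2 | hodd
  · have hcop : (Nat.card ↥(Subgroup.zpowers (sigma (Multiplicative (ZMod (p ^ n)))))).Coprime p := by
      rw [Nat.card_zpowers]
      have h3 : orderOf (sigma (Multiplicative (ZMod (p ^ n)))) ∣ 3 :=
        orderOf_dvd_of_pow_eq_one (sigma_pow_three _)
      have h4 : Nat.Coprime 3 p := by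
        rw [h2]
        norm_num
      exact Nat.Coprime.coprime_dvd_left h3 h4
    have h1 := (hQ _ hcop).2 (sigma _) (Subgroup.mem_zpowers _)
    have hp1 : p - 1 = 1 := by omega
    rw [hp1, pow_one] at h1
    have h4 := congrArg (fun α : MulAut (Multiplicative (ZMod (p ^ n)) × Multiplicative (ZMod (p ^ n))) =>
      (α (Multiplicative.ofAdd (1 : ZMod (p ^ n)), 1)).1) h1
    apply hg
    have h5 : (1 : Multiplicative (ZMod (p ^ n)))⁻¹ = Multiplicative.ofAdd (1 : ZMod (p ^ n)) := h4
    rw [← h5, inv_one]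
  · have hK := dihedral_isPGroup (Multiplicative (ZMod (p ^ n)))
    obtain ⟨m, hm⟩ := IsPGroup.iff_card.mp hK
    have hp2 : p ≠ 2 := by
      rintro rfl
      exact absurd hodd (by decide)
    have hcop : (Nat.card ↥(Subgroup.zpowers (tau (Multiplicative (ZMod (p ^ n)))) ⊔
        Subgroup.zpowers (rho (Multiplicative (ZMod (p ^ n)))))).Coprime p := by
      rw [hm]
      exact Nat.Coprime.pow_left m ((Nat.coprime_primes Nat.prime_two hp.out).mpr (Ne.symm hp2))
    have hc := (hQ _ hcop).1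
    have h1 := hc.is_comm.comm
      (⟨rho _, Subgroup.mem_sup_right (Subgroup.mem_zpowers _)⟩ :
        ↥(Subgroup.zpowers (tau (Multiplicative (ZMod (p ^ n)))) ⊔
          Subgroup.zpowers (rho (Multiplicative (ZMod (p ^ n))))))
      ⟨tau _, Subgroup.mem_sup_left (Subgroup.mem_zpowers _)⟩
    have h2 : rho (Multiplicative (ZMod (p ^ n))) * tau _ = tau _ * rho _ :=
      congrArg Subtype.val h1
    have h4 := congrArg (fun α : MulAut (Multiplicative (ZMod (p ^ n)) × Multiplicative (ZMod (p ^ n))) =>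
      (α (Multiplicative.ofAdd (1 : ZMod (p ^ n)), 1)).1) h2
    have h5 : (Multiplicative.ofAdd (1 : ZMod (p ^ n)))⁻¹ = Multiplicative.ofAdd (1 : ZMod (p ^ n)) :=
      h4
    have h6 : ((1 : ZMod (p ^ n)) + 1) = 0 := by
      have h7 : -(1 : ZMod (p ^ n)) = 1 := congrArg Multiplicative.toAdd h5
      nth_rewrite 1 [← h7]
      exact neg_add_cancel 1
    have h8 : ((2 : ℕ) : ZMod (p ^ n)) = 0 := by
      rw [← h6]
      norm_num
    rw [ZMod.natCast_eq_zero_iff] at h8
    have h9 : p ^ n ≤ 2 := Nat.le_of_dvd (by norm_num) h8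
    have h10 : 3 ≤ p := by
      have := hp.out.two_le
      omega
    have h11 : p ≤ p ^ n := Nat.le_self_pow hn.ne' p
    omega

end Cfsg.Agent.Lib.Helper27.AbInvNeg
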