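import Mathlib
import Cfsg.Agent.Lib.helper17.SLP.Defs

/-!
# SLP row K1: `k_conj` (verbatim from `helper17/SLP/Skel.lean.txt`), with extras `slpk1_*`.
-/

set_option autoImplicit false

namespace Cfsg.Agent.Lib.helper17.SLP

open Polynomial

universe u v

/-- `h⁻¹ * x t * h = x (lam⁻¹ * t)`. -/
theorem slpk1_conj_inv {G : Type*} [Group G] {F : Type*} [Field F] (lam : F) (hlam : lam ≠ 0)
    (x : F → G) (h : G) (hconj : ∀ t, h * x t * h⁻¹ = x (lam * t)) (t : F) :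
    h⁻¹ * x t * h = x (lam⁻¹ * t) := by
  have h1 := hconj (lam⁻¹ * t)
  rw [mul_inv_cancel_left₀ hlam] at h1
  rw [← h1]
  group

/-- `h ^ i * x t * h ^ (-i) = x (lam ^ i * t)` for all `i : ℤ`. -/
theorem slpk1_conj_zpow {G : Type*} [Group G] {F : Type*} [Field F] (lam : F) (hlam : lam ≠ 0)
    (x : F → G) (h : G) (hconj : ∀ t, h * x t * h⁻¹ = x (lam * t)) (i : ℤ) (t : F) :
    h ^ i * x t * h ^ (-i) = x (lam ^ i * t) := by
  induction i using Int.induction_on generalizing t with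
  | zero => simp
  | succ n ih =>
    have h1 : h ^ ((n : ℤ) + 1) * x t * h ^ (-((n : ℤ) + 1)) =
        h * (h ^ (n : ℤ) * x t * h ^ (-(n : ℤ))) * h⁻¹ := by
      rw [zpow_add, zpow_one, neg_add, zpow_add, zpow_neg h 1, zpow_one]
      have hc : h ^ (n : ℤ) * h = h * h ^ (n : ℤ) := by
        rw [← zpow_add_one, ← zpow_one_add]
        congr 1; ring
      rw [hc]
      simp only [mul_assoc]
    rw [h1, ih, hconj, zpow_add_one₀ hlam]
    congr 1; ring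
  | pred n ih =>
    have h1 : h ^ (-(n : ℤ) - 1) * x t * h ^ (-(-(n : ℤ) - 1)) =
        h⁻¹ * (h ^ (-(n : ℤ)) * x t * h ^ (-(-(n : ℤ)))) * h := by
      have e1 : h ^ (-(n : ℤ) - 1) = h⁻¹ * h ^ (-(n : ℤ)) := by
        rw [sub_eq_add_neg, add_comm, zpow_add, zpow_neg h 1, zpow_one]
      have e2 : h ^ (-(-(n : ℤ) - 1)) = h ^ (-(-(n : ℤ))) * h := by
        rw [neg_sub, sub_neg_eq_add, neg_neg, add_comm, zpow_add, zpow_one]
      rw [e1, e2]
      simp only [mul_assoc]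
    rw [h1, ih, slpk1_conj_inv lam hlam x h hconj, zpow_sub_one₀ hlam]
    congr 1; ring

/-- `w * h ^ j * w⁻¹ = h ^ (-j)`. -/
theorem slpk1_w_zpow {G : Type*} [Group G] (h w : G) (hwh : w * h * w⁻¹ = h⁻¹) (j : ℤ) :
    w * h ^ j * w⁻¹ = h ^ (-j) := by
  rw [← conj_zpow, hwh, inv_zpow']

/-- K1 [M]  conjugate `hK` by `h^i`: `h^i x t h^(-i) = x (lam^i t)` (for `i < 0` use `hconj` at `lam⁻¹ t`), `h^i w = w h^(-i)`, `c` commutes with `h`. -/
theorem k_conj {G : Type*} [Group G] {F : Type*} [Field F] (lam : F) (hlam : lam ≠ 0) (x : F → G) (h w : G)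
    (hconj : ∀ t, h * x t * h⁻¹ = x (lam * t)) (hwh : w * h * w⁻¹ = h⁻¹)
    (t : F) (c : G) (hc : c ∈ Subgroup.zpowers h)
    (hK : x t * (w * x t⁻¹ * w⁻¹) * x t = c * w) (i : ℤ) :
    x (lam ^ i * t) * (w * x (lam ^ i * t)⁻¹ * w⁻¹) * x (lam ^ i * t) = (h ^ (2 * i) * c) * w := by
  set a : G := h ^ i with ha
  have hainv : a⁻¹ = h ^ (-i) := by rw [ha, zpow_neg]
  -- the two conjugation rules for `x`
  have hA : ∀ s : F, a * x s * a⁻¹ = x (lam ^ i * s) := fun s => by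
    rw [hainv, ha]; exact slpk1_conj_zpow lam hlam x h hconj i s
  have hA' : ∀ s : F, a⁻¹ * x s * a = x (lam ^ (-i) * s) := fun s => by
    have := slpk1_conj_zpow lam hlam x h hconj (-i) s
    rw [neg_neg] at this
    rw [hainv, ha]; exact this
  -- `a * w = w * a⁻¹`
  have hW : a * w = w * a⁻¹ := by
    have h1 := slpk1_w_zpow h w hwh (-i)
    rw [neg_neg] at h1
    rw [hainv, ha, ← h1]
    group
  have hW' : w⁻¹ * a⁻¹ = a * w⁻¹ := by
    have h1 : (a * w)⁻¹ = (w * a⁻¹)⁻¹ := by rw [hW]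
    rw [mul_inv_rev, mul_inv_rev, inv_inv] at h1
    exact h1
  -- `c` commutes with `a`
  obtain ⟨j, rfl⟩ := Subgroup.mem_zpowers_iff.mp hc
  have hca : a * h ^ j = h ^ j * a := by
    rw [ha, ← zpow_add, ← zpow_add, add_comm]
  -- conjugate `hK`
  have key : a * (x t * (w * x t⁻¹ * w⁻¹) * x t) * a⁻¹ = a * (h ^ j * w) * a⁻¹ := by rw [hK]
  have e1 : a * (x t * (w * x t⁻¹ * w⁻¹) * x t) * a⁻¹ =
      (a * x t * a⁻¹) * (w * (a⁻¹ * x t⁻¹ * a) * w⁻¹) * (a * x t * a⁻¹) := by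
    have : w * (a⁻¹ * x t⁻¹ * a) * w⁻¹ = a * (w * x t⁻¹ * w⁻¹) * a⁻¹ := by
      calc w * (a⁻¹ * x t⁻¹ * a) * w⁻¹ = (w * a⁻¹) * x t⁻¹ * (a * w⁻¹) := by group
        _ = (a * w) * x t⁻¹ * (w⁻¹ * a⁻¹) := by rw [hW, hW']
        _ = a * (w * x t⁻¹ * w⁻¹) * a⁻¹ := by group
    rw [this]
    group
  have e2 : a * (h ^ j * w) * a⁻¹ = (h ^ (2 * i) * h ^ j) * w := by
    calc a * (h ^ j * w) * a⁻¹ = (a * h ^ j) * (w * a⁻¹) := by group
      _ = (h ^ j * a) * (a * w) := by rw [hca, hW]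
      _ = h ^ j * (a * a) * w := by group
      _ = (h ^ (2 * i) * h ^ j) * w := by
        have : a * a = h ^ (2 * i) := by rw [ha, ← zpow_add]; congr 1; ring
        rw [this, ← zpow_add, ← zpow_add, add_comm]
  rw [e1, e2, hA, hA'] at key
  have e3 : lam ^ (-i) * t⁻¹ = (lam ^ i * t)⁻¹ := by
    rw [mul_inv, zpow_neg]
  rw [e3] at key
  exact key

end Cfsg.Agent.Lib.helper17.SLP
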