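import Mathlib
import Cfsg.Agent.Lib.helper17.SL3.Defs
import Cfsg.Agent.Lib.helper17.SL3.Defs2
import Cfsg.Agent.Lib.Helper9.SL3T8

/-!
# Project SL3 (designer helper17), row T10 core (helper27)

`sl3t10_core`: additivity of `x₁₀`, `w x₁₀(t) w⁻¹ = x(-t)` and the torus action on `x₁₀` (`act10`) from the conclusions of
T5 (`tor_w`, the three `w⁻¹ · w` equations), T7 (`wsq_comm`, second part) and T9 (`act01`).  Cites the landed T8 (`act_inv`).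
-/

set_option autoImplicit false

namespace Cfsg.Agent.Lib.helper17.SL3

open Cfsg.Agent.Lib.helper17.SLP

universe u v

section T

variable {F : Type u} [Field F] {G : Type v} [Group G]

/-- transport of an action on `x` to `x₁₀ = w x(-·) w⁻¹`: if `w⁻¹ g w = g'` and `g'` acts on `x` through `ζ^e`, then `g` acts on
`x₁₀` through `ζ^e`. -/
theorem sl3t10_transport (ζ : Fˣ) (x : F → G) (w g g' : G) (e : ℤ) (hg : w⁻¹ * g * w = g')
    (h : Act ζ g' x e) : Act ζ g (x10 x w) e := by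
  intro t
  unfold x10
  have e1 : g * (w * x (-t) * w⁻¹) * g⁻¹ = w * ((w⁻¹ * g * w) * x (-t) * (w⁻¹ * g * w)⁻¹) * w⁻¹ := by
    group
  rw [e1, hg, h (-t), mul_neg]

/-- T10 core. -/
theorem sl3t10_core (ζ : Fˣ) (x : F → G) (d w c : G) (H : Hyp ζ x d w c)
    (hT5 : w⁻¹ * d * w = (d3 d c)⁻¹ ∧ w⁻¹ * d2 d c * w = (d2 d c)⁻¹ ∧ w⁻¹ * d3 d c * w = d⁻¹)
    (hT7 : ∀ t, Commute (w ^ 2) (x t))
    (hT9 : Act ζ d x 1 ∧ Act ζ (d2 d c) x (-2) ∧ Act ζ (d3 d c) x 1) :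
    (∀ s t, x10 x w (s + t) = x10 x w s * x10 x w t) ∧ (∀ t, w * x10 x w t * w⁻¹ = x (-t)) ∧
      Act ζ d (x10 x w) (-1) ∧ Act ζ (d2 d c) (x10 x w) 2 ∧ Act ζ (d3 d c) (x10 x w) (-1) := by
  refine ⟨?_, ?_, ?_, ?_, ?_⟩
  · intro s t
    unfold x10
    rw [neg_add, H.add]
    group
  · intro t
    unfold x10
    have e1 : w * (w * x (-t) * w⁻¹) * w⁻¹ = w ^ 2 * x (-t) * (w ^ 2)⁻¹ := by
      rw [pow_two, mul_inv_rev]
      simp only [mul_assoc]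
    rw [e1, mul_inv_eq_iff_eq_mul]
    exact (hT7 (-t)).eq
  · exact sl3t10_transport ζ x w d _ (-1) hT5.1 (act_inv ζ _ x 1 hT9.2.2)
  · have h := sl3t10_transport ζ x w (d2 d c) _ (-(-2)) hT5.2.1 (act_inv ζ _ x (-2) hT9.2.1)
    rw [neg_neg] at h
    exact h
  · exact sl3t10_transport ζ x w (d3 d c) _ (-1) hT5.2.2 (act_inv ζ _ x 1 hT9.1)

end T

end Cfsg.Agent.Lib.helper17.SL3
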