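import Mathlib
import Cfsg.Agent.Lib.helper17.SL3.Defs
import Cfsg.Agent.Lib.helper17.SL3.Defs2
import Cfsg.Agent.Lib.helper15.SL3T3
import Cfsg.Agent.Lib.Helper9.SL3T8

/-!
# Project SL3 (designer helper17), row T9 core (helper27)

`sl3t9_core`: the action of `d`, `d₂`, `d₃` on `x` (`act01`) from two facts of T4 (`tor_rel`): `Commute d d₂` and `d d₂ d₃ = 1`.
Cites the landed T3 (`comm_all_of`) and T8 (`act_mul act_inv act_zpow`).
-/

set_option autoImplicit false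

namespace Cfsg.Agent.Lib.helper17.SL3

open Cfsg.Agent.Lib.helper17.SLP

universe u v

section T

variable {F : Type u} [Field F] {G : Type v} [Group G]

/-- `z := d² d₂` acts trivially on `x` (from the relator `T3`, `Commute d d₂` and T3 `comm_all_of`). -/
theorem sl3t9_z (ζ : Fˣ) (hζ : ∀ y : Fˣ, y ∈ Subgroup.zpowers ζ) (x : F → G) (d w c : G)
    (H : Hyp ζ x d w c) (hdd2 : Commute d (d2 d c)) : Act ζ (d ^ 2 * d2 d c) x 0 := by
  have hz1 : Commute (d ^ 2 * d2 d c) (x 1) := by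
    have h := H.T3
    unfold relT3 at h
    exact (cm_eq_one_iff _ _).1 h
  have hzd : Commute (d ^ 2 * d2 d c) d :=
    ((Commute.refl d).pow_left 2).mul_left hdd2.symm
  have hz : ∀ t, Commute (d ^ 2 * d2 d c) (x t) := comm_all_of ζ hζ x d w c H _ hzd hz1
  intro t
  rw [zpow_zero, Units.val_one, one_mul, mul_inv_eq_iff_eq_mul]
  exact (hz t).eq

/-- T9 core. -/
theorem sl3t9_core (ζ : Fˣ) (hζ : ∀ y : Fˣ, y ∈ Subgroup.zpowers ζ) (x : F → G) (d w c : G)
    (H : Hyp ζ x d w c) (hdd2 : Commute d (d2 d c)) (hprod : d * d2 d c * d3 d c = 1) :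
    Act ζ d x 1 ∧ Act ζ (d2 d c) x (-2) ∧ Act ζ (d3 d c) x 1 := by
  have h1 : Act ζ d x 1 := by
    intro t
    rw [H.dconj t, zpow_one]
  have hz0 := sl3t9_z ζ hζ x d w c H hdd2
  have h2 : Act ζ (d2 d c) x (-2) := by
    have e : d2 d c = (d ^ (2 : ℤ))⁻¹ * (d ^ 2 * d2 d c) := by group
    have h := act_mul ζ _ _ x _ _ (act_inv ζ _ x _ (act_zpow ζ d x 1 h1 2)) hz0
    rw [← e] at h
    have e2 : (-(2 * 1) + 0 : ℤ) = -2 := by norm_num
    rw [e2] at h
    exact h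
  have h3 : Act ζ (d3 d c) x 1 := by
    have e : d3 d c = (d * d2 d c)⁻¹ := eq_inv_of_mul_eq_one_right hprod
    have h := act_inv ζ _ x _ (act_mul ζ d (d2 d c) x 1 (-2) h1 h2)
    rw [← e] at h
    have e2 : (-(1 + -2) : ℤ) = 1 := by norm_num
    rw [e2] at h
    exact h
  exact ⟨h1, h2, h3⟩

end T

end Cfsg.Agent.Lib.helper17.SL3
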