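import Mathlib
import Cfsg.Agent.Lib.helper17.SL3.Defs
import Cfsg.Agent.Lib.helper17.SL3.Defs2
import Cfsg.Agent.Lib.helper2.SL3T4
import Cfsg.Agent.Lib.Helper27.SL3T9core

/-!
# Project SL3 (designer helper17), row T9 (helper27): `act01`, verbatim

`act01 := sl3t9_core` on the landed T4 (`tor_rel`, helper2); the core cites T3 (`comm_all_of`, helper15) and T8 (Helper9).
-/

set_option autoImplicit false

namespace Cfsg.Agent.Lib.helper17.SL3

open Cfsg.Agent.Lib.helper17.SLP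
open Polynomial

universe u v

section T

variable {F : Type u} [Field F] {G : Type v} [Group G]

/-- T9 [M]  deps T3 T4 T8.  `z := d² d₂` commutes with `d` (T4) and `x 1` (`T3`-relator), hence with all `x t` (`comm_all_of`): `d₂ x t d₂⁻¹ = d⁻² x t d² = x (ζ⁻² t)`.  `d₃ = (d d₂)⁻¹`. -/
theorem act01 (ζ : Fˣ) (hζ : ∀ y : Fˣ, y ∈ Subgroup.zpowers ζ) (x : F → G) (d w c : G)
    (H : Hyp ζ x d w c) : Act ζ d x 1 ∧ Act ζ (d2 d c) x (-2) ∧ Act ζ (d3 d c) x 1 := by
  exact sl3t9_core ζ hζ x d w c H (tor_rel ζ x d w c H).2.2.1 (tor_rel ζ x d w c H).2.2.2.2.2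

end T

end Cfsg.Agent.Lib.helper17.SL3
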