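import Mathlib
import Cfsg.Agent.Lib.helper17.SL3.Defs
import Cfsg.Agent.Lib.helper17.SL3.Defs2

/-!
# Project SL3 (designer helper17), row D8 core (helper27)

`sl3d8_core`: the root datum `RD` assembled from the CONCLUSIONS of the rows D1 (three instances), D2, D3, D4, D5, D6, D7
and K6 (finiteness of the torus).  The verbatim wrapper `rd_of_hyp` lands once those rows are on main.
-/

set_option autoImplicit false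

namespace Cfsg.Agent.Lib.helper17.SL3

open Cfsg.Agent.Lib.helper17.SLP

universe u v

/-- D8 core: every hypothesis is the conclusion of one cited row (`hT`: K6; `h01 h02 h12`: D1 for `x`, `x02`, `x12`;
`hD2`: `rd_comm`; `hD3`: `rd_tor`; `hD4`: `rd_weylT`; `hD5`: `rd_weylX`; `hD6`: `rd_rank1`; `hD7`: `rd_braid_gen`). -/
theorem sl3d8_core {F : Type u} [Field F] [Fintype F] {G : Type v} [Group G] (x : F → G) (d w c : G)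
    (hT : Finite (TT d c))
    (h01 : Finite (RG x) ∧ Nat.card (RG x) ≤ Fintype.card F)
    (h02 : Finite (RG (x02 x w c)) ∧ Nat.card (RG (x02 x w c)) ≤ Fintype.card F)
    (h12 : Finite (RG (x12 x c)) ∧ Nat.card (RG (x12 x c)) ≤ Fintype.card F)
    (hD2 : (∀ a ∈ RG x, ∀ z ∈ RG (x02 x w c), Commute a z) ∧
      (∀ b ∈ RG (x12 x c), ∀ z ∈ RG (x02 x w c), Commute b z) ∧
      (∀ a ∈ RG x, ∀ b ∈ RG (x12 x c), a * b * a⁻¹ * b⁻¹ ∈ RG (x02 x w c)) ∧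
      (∀ g ∈ RG (x10 x w), ∀ b ∈ RG (x12 x c), Commute g b) ∧
      (∀ g ∈ RG (x10 x w), ∀ z ∈ RG (x02 x w c), g * z * g⁻¹ * z⁻¹ ∈ RG (x12 x c)) ∧
      (∀ g ∈ RG (x21 x w c), ∀ a ∈ RG x, Commute g a) ∧
      (∀ g ∈ RG (x21 x w c), ∀ z ∈ RG (x02 x w c), g * z * g⁻¹ * z⁻¹ ∈ RG x))
    (hD3 : (∀ τ ∈ TT d c, ∀ g ∈ RG x, τ * g * τ⁻¹ ∈ RG x) ∧
      (∀ τ ∈ TT d c, ∀ g ∈ RG (x02 x w c), τ * g * τ⁻¹ ∈ RG (x02 x w c)) ∧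
      (∀ τ ∈ TT d c, ∀ g ∈ RG (x12 x c), τ * g * τ⁻¹ ∈ RG (x12 x c)) ∧
      (∀ τ ∈ TT d c, ∀ g ∈ RG (x10 x w), τ * g * τ⁻¹ ∈ RG (x10 x w)) ∧
      (∀ τ ∈ TT d c, ∀ g ∈ RG (x21 x w c), τ * g * τ⁻¹ ∈ RG (x21 x w c)))
    (hD4 : (∀ τ ∈ TT d c, w * τ * w⁻¹ ∈ TT d c) ∧
      (∀ τ ∈ TT d c, (c * w * c⁻¹) * τ * (c * w * c⁻¹)⁻¹ ∈ TT d c) ∧
      w ^ 2 ∈ TT d c ∧ (c * w * c⁻¹) ^ 2 ∈ TT d c)
    (hD5 : (∀ g ∈ RG x, w * g * w⁻¹ ∈ RG (x10 x w)) ∧ (∀ g ∈ RG (x02 x w c), w * g * w⁻¹ ∈ RG (x12 x c)) ∧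
      (∀ g ∈ RG (x12 x c), w * g * w⁻¹ ∈ RG (x02 x w c)) ∧ (∀ g ∈ RG (x10 x w), w⁻¹ * g * w ∈ RG x) ∧
      (∀ g ∈ RG (x12 x c), w⁻¹ * g * w ∈ RG (x02 x w c)) ∧ (∀ g ∈ RG (x02 x w c), w⁻¹ * g * w ∈ RG (x12 x c)) ∧
      (∀ g ∈ RG (x12 x c), (c * w * c⁻¹) * g * (c * w * c⁻¹)⁻¹ ∈ RG (x21 x w c)) ∧
      (∀ g ∈ RG x, (c * w * c⁻¹) * g * (c * w * c⁻¹)⁻¹ ∈ RG (x02 x w c)) ∧
      (∀ g ∈ RG (x02 x w c), (c * w * c⁻¹) * g * (c * w * c⁻¹)⁻¹ ∈ RG x) ∧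
      (∀ g ∈ RG (x21 x w c), (c * w * c⁻¹)⁻¹ * g * (c * w * c⁻¹) ∈ RG (x12 x c)) ∧
      (∀ g ∈ RG x, (c * w * c⁻¹)⁻¹ * g * (c * w * c⁻¹) ∈ RG (x02 x w c)) ∧
      (∀ g ∈ RG (x02 x w c), (c * w * c⁻¹)⁻¹ * g * (c * w * c⁻¹) ∈ RG x))
    (hD6 : (∀ g ∈ RG (x10 x w), g = 1 ∨ ∃ a ∈ RG x, ∃ τ ∈ TT d c, ∃ a' ∈ RG x, g = a * τ * w * a') ∧
      ∀ g ∈ RG (x21 x w c), g = 1 ∨ ∃ b ∈ RG (x12 x c), ∃ τ ∈ TT d c, ∃ b' ∈ RG (x12 x c),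
        g = b * τ * (c * w * c⁻¹) * b')
    (hD7 : (∃ τ ∈ TT d c, (c * w * c⁻¹) * w * (c * w * c⁻¹) = τ * (w * (c * w * c⁻¹) * w)) ∧
      Subgroup.closure (((TT d c : Subgroup G) : Set G) ∪ (RG x : Set G) ∪ (RG (x12 x c) : Set G) ∪
        {w, c * w * c⁻¹}) = ⊤) :
    RD (Fintype.card F) (TT d c) (RG x) (RG (x02 x w c)) (RG (x12 x c)) (RG (x10 x w)) (RG (x21 x w c))
      w (c * w * c⁻¹) := by
  obtain ⟨p1, p2, p3, m1, m2, m3, m4⟩ := hD2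
  obtain ⟨t01, t02, t12, t10, t21⟩ := hD3
  obtain ⟨n1T, n2T, n1sq, n2sq⟩ := hD4
  obtain ⟨n1a, n1b, n1c, n1a', n1b', n1c', n2a, n2b, n2c, n2a', n2b', n2c'⟩ := hD5
  obtain ⟨r1, r2⟩ := hD6
  obtain ⟨braid, gen⟩ := hD7
  exact
    { finT := hT
      fin01 := h01
      fin02 := h02
      fin12 := h12
      p1 := p1
      p2 := p2
      p3 := p3
      t01 := t01
      t02 := t02
      t12 := t12
      t10 := t10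
      t21 := t21
      m1 := m1
      m2 := m2
      m3 := m3
      m4 := m4
      n1T := n1T
      n1a := n1a
      n1b := n1b
      n1c := n1c
      n1a' := n1a'
      n1b' := n1b'
      n1c' := n1c'
      n1sq := n1sq
      n2T := n2T
      n2a := n2a
      n2b := n2b
      n2c := n2c
      n2a' := n2a'
      n2b' := n2b'
      n2c' := n2c'
      n2sq := n2sq
      r1 := r1
      r2 := r2
      braid := braid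
      gen := gen }

end Cfsg.Agent.Lib.helper17.SL3
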