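import Mathlib
import Cfsg.Agent.Lib.helper17.SL3.Defs
import Cfsg.Agent.Lib.helper17.SL3.Defs2

/-!
# Project SL3 (designer helper17), row FIN1 core (helper27)

`sl3fin1_core`: the bound `|G| ≤ (q-1)² q³ (1 + 2q + 2q² + q³)` from the CONCLUSION of E10 (`rd_card`, for the datum of D8)
and the torus bound of K6.  The verbatim wrapper `card_le_sl3` lands once D8, E10, K6 are on main.
-/

set_option autoImplicit false

namespace Cfsg.Agent.Lib.helper17.SL3

open Cfsg.Agent.Lib.helper17.SLP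

universe u v

/-- FIN1 core: `hE` is the conclusion of `rd_card` for a torus `T`, `hK` the bound on `|T|` (K6). -/
theorem sl3fin1_core {G : Type v} [Group G] (T : Subgroup G) (q : ℕ)
    (hE : Finite G ∧ Nat.card G ≤ Nat.card T * q ^ 3 * (1 + 2 * q + 2 * q ^ 2 + q ^ 3))
    (hK : Nat.card T ≤ (q - 1) ^ 2) :
    Finite G ∧ Nat.card G ≤ (q - 1) ^ 2 * q ^ 3 * (1 + 2 * q + 2 * q ^ 2 + q ^ 3) := by
  refine ⟨hE.1, hE.2.trans ?_⟩
  exact Nat.mul_le_mul_right _ (Nat.mul_le_mul_right _ hK)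

end Cfsg.Agent.Lib.helper17.SL3
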