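import Mathlib
import Cfsg.Prelude.Def_Characters
import Cfsg.Agent.Lib.helper7.PM2.Defs

/-!
# Project PM2 (S4705), piece NRM: `|nrm x| = 2 p |Z|` (no other piece needed)

Extras: `pm2nrm_xZ` (`x^m` central iff `p ∣ m`), `pm2nrm_pZ` (`p ∤ |Z|`), `pm2nrm_param_inj`
(`(m, c) ↦ x^m c` is injective for `m < p`), `pm2nrm_cz_card` (`|C_G(x)| = p |Z|`).
-/

set_option autoImplicit false

namespace Cfsg.Agent.Lib.helper7.PM2

open scoped ComplexConjugate

universe u

section setting

variable {G : Type u} [Group G] [Fintype G] {p : ℕ} {ζ : G → ℂ} {x : G} {ω : ℂ}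

theorem pm2nrm_x_ne_inv (S : Setting p ζ x ω) : x ≠ x⁻¹ := by
  intro h
  have h2 : x ^ 2 = 1 := by
    rw [pow_two]
    nth_rewrite 1 [h]
    group
  have := orderOf_dvd_of_pow_eq_one h2
  rw [S.ordx] at this
  have := Nat.le_of_dvd (by norm_num) this
  have := S.hp5
  omega

theorem pm2nrm_xZ (S : Setting p ζ x ω) (m : ℕ) : x ^ m ∈ Subgroup.center G ↔ p ∣ m := by
  constructor
  · intro hmem
    by_contra hpm
    have hpp : p.Prime := S.hp
    have hcop : Nat.Coprime m p := by
      rw [Nat.coprime_comm]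
      exact (Nat.Prime.coprime_iff_not_dvd hpp).mpr hpm
    obtain ⟨a, -, ha⟩ := Nat.exists_mul_mod_eq_one_of_coprime hcop hpp.one_lt
    have hx1 : x = (x ^ m) ^ a := by
      rw [← pow_mul]
      have : x ^ (m * a) = x ^ 1 := by
        rw [pow_eq_pow_iff_modEq, S.ordx]
        unfold Nat.ModEq
        rw [ha, Nat.mod_eq_of_lt hpp.one_lt]
      rw [this, pow_one]
    have hxZ : x ∈ Subgroup.center G := by
      rw [hx1]
      exact Subgroup.pow_mem _ hmem _
    obtain ⟨τ, hτ⟩ := S.inv
    apply pm2nrm_x_ne_inv S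
    rw [← hτ]
    have := Subgroup.mem_center_iff.mp hxZ τ
    rw [this]
    group
  · intro hd
    have : x ^ m = 1 := by
      rw [← S.ordx] at hd
      exact orderOf_dvd_iff_pow_eq_one.mp hd
    rw [this]
    exact Subgroup.one_mem _

open Classical in
/-- the centralizer of `x` as a finset -/
noncomputable def pm2nrm_cz (x : G) : Finset G := Finset.univ.filter (fun h => h * x * h⁻¹ = x)

open Classical in
/-- the elements inverting `x` as a finset -/
noncomputable def pm2nrm_iv (x : G) : Finset G := Finset.univ.filter (fun h => h * x * h⁻¹ = x⁻¹)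

theorem pm2nrm_mem_cz (x h : G) : h ∈ pm2nrm_cz x ↔ h * x * h⁻¹ = x := by
  classical
  unfold pm2nrm_cz
  rw [Finset.mem_filter]
  exact ⟨fun h => h.2, fun h => ⟨Finset.mem_univ _, h⟩⟩

theorem pm2nrm_mem_iv (x h : G) : h ∈ pm2nrm_iv x ↔ h * x * h⁻¹ = x⁻¹ := by
  classical
  unfold pm2nrm_iv
  rw [Finset.mem_filter]
  exact ⟨fun h => h.2, fun h => ⟨Finset.mem_univ _, h⟩⟩

open Classical in
theorem pm2nrm_union (x : G) : nrm x = pm2nrm_cz x ∪ pm2nrm_iv x := by
  classical
  ext h
  rw [mem_nrm, Finset.mem_union, pm2nrm_mem_cz, pm2nrm_mem_iv]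

theorem pm2nrm_disj (S : Setting p ζ x ω) : Disjoint (pm2nrm_cz x) (pm2nrm_iv x) := by
  classical
  rw [Finset.disjoint_left]
  intro h h1 h2
  rw [pm2nrm_mem_cz] at h1
  rw [pm2nrm_mem_iv] at h2
  exact pm2nrm_x_ne_inv S (h1.symm.trans h2)

theorem pm2nrm_iv_card (S : Setting p ζ x ω) : (pm2nrm_iv x).card = (pm2nrm_cz x).card := by
  classical
  obtain ⟨τ, hτ⟩ := S.inv
  symm
  apply Finset.card_bij (fun h _ => τ * h)
  · intro h hh
    rw [pm2nrm_mem_cz] at hh
    rw [pm2nrm_mem_iv]
    have : τ * h * x * (τ * h)⁻¹ = τ * (h * x * h⁻¹) * τ⁻¹ := by group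
    rw [this, hh, hτ]
  · intro a _ b _ hab
    exact mul_left_cancel hab
  · intro k hk
    rw [pm2nrm_mem_iv] at hk
    refine ⟨τ⁻¹ * k, ?_, by group⟩
    rw [pm2nrm_mem_cz]
    have : τ⁻¹ * k * x * (τ⁻¹ * k)⁻¹ = τ⁻¹ * (k * x * k⁻¹) * τ := by group
    rw [this, hk]
    have h2 : x = τ⁻¹ * x⁻¹ * τ := by
      rw [← hτ]; group
    exact h2.symm

theorem pm2nrm_cen_card : (cen G).card = Nat.card (Subgroup.center G) := by
  classical
  exact (Nat.subtype_card (cen G) (fun g => mem_cen g)).symm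

theorem pm2nrm_param_inj (S : Setting p ζ x ω) (m m' : ℕ) (hm : m < p) (hm' : m' < p)
    (c c' : G) (hc : c ∈ Subgroup.center G) (hc' : c' ∈ Subgroup.center G)
    (h : x ^ m * c = x ^ m' * c') : m = m' ∧ c = c' := by
  -- wlog m ≤ m'
  have key : ∀ (m m' : ℕ) (c c' : G), m < p → m' < p → c ∈ Subgroup.center G →
      c' ∈ Subgroup.center G → m ≤ m' → x ^ m * c = x ^ m' * c' → m = m' ∧ c = c' := by
    intro m m' c c' hm hm' hc hc' hle h
    have h1 : x ^ (m' - m) = c * c'⁻¹ := by
      have : x ^ m' = x ^ m * x ^ (m' - m) := by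
        rw [← pow_add]; congr 1; omega
      rw [this] at h
      have h2 : c = x ^ (m' - m) * c' := by
        have := mul_left_cancel (a := x ^ m) (b := c) (c := x ^ (m' - m) * c') (by rw [h]; group)
        exact this
      rw [h2]; group
    have h3 : x ^ (m' - m) ∈ Subgroup.center G := by
      rw [h1]
      exact Subgroup.mul_mem _ hc (Subgroup.inv_mem _ hc')
    have h4 := (pm2nrm_xZ S _).mp h3
    have h5 : m' - m = 0 := by
      by_contra hne
      have := Nat.le_of_dvd (Nat.pos_of_ne_zero hne) h4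
      omega
    have h6 : m = m' := by omega
    subst h6
    exact ⟨rfl, mul_left_cancel h⟩
  rcases le_total m m' with hle | hle
  · exact key m m' c c' hm hm' hc hc' hle h
  · have := key m' m c' c hm' hm hc' hc hle h.symm
    exact ⟨this.1.symm, this.2.symm⟩

theorem pm2nrm_cz_card (S : Setting p ζ x ω) :
    (pm2nrm_cz x).card = p * Nat.card (Subgroup.center G) := by
  classical
  have himg : pm2nrm_cz x = (Finset.range p ×ˢ cen G).image (fun a => x ^ a.1 * a.2) := by
    ext g
    rw [pm2nrm_mem_cz, Finset.mem_image]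
    constructor
    · intro hg
      have hcomm : g * x = x * g := by
        have : g * x = (g * x * g⁻¹) * g := by group
        rw [this, hg]
      obtain ⟨m, c, hc, hgm⟩ := S.cent g hcomm
      refine ⟨(m % p, c), ?_, ?_⟩
      · rw [Finset.mem_product, Finset.mem_range, mem_cen]
        exact ⟨Nat.mod_lt _ S.hp.pos, hc⟩
      · simp only
        rw [hgm, ← S.ordx, pow_mod_orderOf]
    · rintro ⟨⟨m, c⟩, hmem, rfl⟩
      rw [Finset.mem_product, mem_cen] at hmem
      have hcc : ∀ g : G, g * c = c * g := fun g => (Subgroup.mem_center_iff.mp hmem.2 g)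
      simp only
      have e1 : x ^ m * c * x * (x ^ m * c)⁻¹ = x ^ m * (c * x) * c⁻¹ * (x ^ m)⁻¹ := by group
      rw [e1, ← hcc x]
      have e2 : x ^ m * (x * c) * c⁻¹ * (x ^ m)⁻¹ = x ^ m * x * (x ^ m)⁻¹ := by group
      rw [e2, ← pow_succ, pow_succ', mul_assoc, mul_inv_cancel, mul_one]
  rw [himg, Finset.card_image_of_injOn, Finset.card_product, Finset.card_range, pm2nrm_cen_card]
  intro a ha b hb hab
  rw [Finset.mem_coe, Finset.mem_product, Finset.mem_range, mem_cen] at ha hb
  simp only at hab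
  obtain ⟨h1, h2⟩ := pm2nrm_param_inj S a.1 b.1 ha.1 hb.1 a.2 b.2 ha.2 hb.2 hab
  exact Prod.ext h1 h2

/-- NRM : the normalizer of `⟨x⟩` has order `2 p |Z|` -/
theorem nrm_card (S : Setting p ζ x ω) :
    (nrm x).card = 2 * p * Nat.card (Subgroup.center G) := by
  classical
  rw [pm2nrm_union, Finset.card_union_of_disjoint (pm2nrm_disj S), pm2nrm_iv_card S,
    pm2nrm_cz_card S]
  ring

/-- `p` does not divide the order of the centre (own proof, via the centralizer of `x`) -/
theorem pm2nrm_pZ (S : Setting p ζ x ω) : ¬ p ∣ Nat.card (Subgroup.center G) := by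
  classical
  intro hd
  apply S.sylow
  have h1 : Nat.card (Subgroup.centralizer ({x} : Set G)) = (pm2nrm_cz x).card := by
    apply Nat.subtype_card
    intro g
    rw [pm2nrm_mem_cz, Subgroup.mem_centralizer_iff]
    constructor
    · intro hg y hy
      rw [Set.mem_singleton_iff] at hy
      subst hy
      have : g * y = (g * y * g⁻¹) * g := by group
      rw [this, hg]
    · intro hg
      have := hg x (Set.mem_singleton x)
      rw [← this]; group
  have h2 : Nat.card (Subgroup.centralizer ({x} : Set G)) ∣ Nat.card G :=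
    Subgroup.card_subgroup_dvd_card _
  rw [h1, pm2nrm_cz_card S] at h2
  obtain ⟨t, ht⟩ := hd
  rw [ht] at h2
  refine Dvd.dvd.trans ?_ h2
  exact ⟨t, by ring⟩

end setting

end Cfsg.Agent.Lib.helper7.PM2
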