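import Mathlib
import Cfsg.Prelude.Def_Characters
import Cfsg.Agent.Lib.helper7.PM2.Defs
import Cfsg.Agent.Lib.helper7.CharTools
import Cfsg.Agent.Lib.Helper25.PM2ROOTS1

/-!
# Project PM2 (S4705), piece NRM2: an element normalizing `⟨x⟩` centralizes or inverts `x`
-/

set_option autoImplicit false

namespace Cfsg.Agent.Lib.helper7.PM2

open scoped ComplexConjugate

universe u

section setting

variable {G : Type u} [Group G] [Fintype G] {p : ℕ} {ζ : G → ℂ} {x : G} {ω : ℂ}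

theorem pm2nrm2_classFun (S : Setting p ζ x ω) : Cfsg.IsClassFunction G ζ :=
  Cfsg.Agent.Lib.helper2.isCharacter_isClassFunction
    (Cfsg.Agent.Lib.helper7.h7_irr_isCharacter S.irr)

theorem pm2nrm2_deg_ne (S : Setting p ζ x ω) : ζ 1 ≠ 0 := by
  rw [S.deg]
  have h5 : (5 : ℝ) < (p : ℝ) := by exact_mod_cast S.hp5
  intro h
  have h2 : ((p : ℝ) : ℂ) = ((2 : ℝ) : ℂ) := by
    push_cast
    linear_combination h
  have := Complex.ofReal_injective h2
  linarith

theorem pm2nrm2_nu_one (S : Setting p ζ x ω) : nu ζ 1 = 1 := by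
  unfold nu
  exact div_self (pm2nrm2_deg_ne S)

theorem pm2nrm2_x_ne_one (S : Setting p ζ x ω) : x ≠ 1 := by
  intro h
  have := S.ordx
  rw [h, orderOf_one] at this
  have := S.hp5
  omega

/-- the core of NRM2, with `root_pair_inj` as a hypothesis -/
theorem pm2nrm2_core
    (hroot : ∀ a b : ℕ, ω ^ a + ω⁻¹ ^ a = ω ^ b + ω⁻¹ ^ b → a ≡ b [MOD p] ∨ a + b ≡ 0 [MOD p])
    (S : Setting p ζ x ω) (h : G) (hh : h * x * h⁻¹ ∈ Subgroup.zpowers x) :
    h * x * h⁻¹ = x ∨ h * x * h⁻¹ = x⁻¹ := by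
  have hcf := pm2nrm2_classFun S
  rw [← mem_powers_iff_mem_zpowers, Submonoid.mem_powers_iff] at hh
  obtain ⟨j, hj⟩ := hh
  have hpj : ¬ p ∣ j := by
    intro hd
    have h1 : x ^ j = 1 := by
      rw [← S.ordx] at hd
      exact orderOf_dvd_iff_pow_eq_one.mp hd
    rw [h1] at hj
    apply pm2nrm2_x_ne_one S
    have : x = h⁻¹ * (h * x * h⁻¹) * h := by group
    rw [this, ← hj]
    group
  have hp1 : ¬ p ∣ 1 := by
    intro hd
    have := Nat.le_of_dvd one_pos hd
    have := S.hp5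
    omega
  have e1 := S.val j hpj 1 (Subgroup.one_mem _)
  have e2 := S.val 1 hp1 1 (Subgroup.one_mem _)
  rw [pm2nrm2_nu_one S, mul_one, mul_one] at e1 e2
  have e3 : ζ (x ^ j) = ζ (x ^ 1) := by
    rw [hj, pow_one]
    exact hcf x h
  rw [e1, e2] at e3
  have e4 : ω ^ j + ω⁻¹ ^ j = ω ^ 1 + ω⁻¹ ^ 1 := by
    linear_combination - e3
  rcases hroot j 1 e4 with hc | hc
  · left
    rw [← hj]
    have : x ^ j = x ^ 1 := by
      rw [pow_eq_pow_iff_modEq, S.ordx]
      exact hc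
    rw [this, pow_one]
  · right
    rw [← hj]
    have : x ^ (j + 1) = x ^ 0 := by
      rw [pow_eq_pow_iff_modEq, S.ordx]
      exact hc
    rw [pow_zero, pow_succ] at this
    exact eq_inv_of_mul_eq_one_left this

/-- NRM2 : an element normalizing `⟨x⟩` centralizes or inverts `x` -/
theorem nrm_of_conj_mem (S : Setting p ζ x ω) (h : G) (hh : h * x * h⁻¹ ∈ Subgroup.zpowers x) :
    h * x * h⁻¹ = x ∨ h * x * h⁻¹ = x⁻¹ :=
  pm2nrm2_core (fun a b hab => root_pair_inj S.hp S.prim a b hab) S h hh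

end setting

end Cfsg.Agent.Lib.helper7.PM2
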