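import Mathlib
import Cfsg.Prelude.Def_Characters
import Cfsg.Agent.Lib.helper7.PM2.Defs
import Cfsg.Agent.Lib.Helper27.PM2NRM2
import Cfsg.Agent.Lib.Helper27.PM2NRM

/-!
# Project PM2 (S4705), piece TI2: rigidity of the parametrization `(h, m, c) ↦ h x^m c h⁻¹`
-/

set_option autoImplicit false

namespace Cfsg.Agent.Lib.helper7.PM2

open scoped ComplexConjugate

universe u

section setting

variable {G : Type u} [Group G] [Fintype G] {p : ℕ} {ζ : G → ℂ} {x : G} {ω : ℂ}

theorem pm2ti2_x_pow_p (S : Setting p ζ x ω) : x ^ p = 1 := by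
  rw [← S.ordx]; exact pow_orderOf_eq_one x

/-- the core of TI2, with `p_not_dvd_center` as a hypothesis -/
theorem pm2ti2_core (hpZ : ¬ p ∣ Nat.card (Subgroup.center G))
    (S : Setting p ζ x ω) (h : G) (m : ℕ) (hm : m ∈ Finset.Ico 1 p) (m' : ℕ)
    (hm' : m' ∈ Finset.Ico 1 p) (c : G) (hc : c ∈ Subgroup.center G) (c' : G)
    (hc' : c' ∈ Subgroup.center G) (heq : h * (x ^ m * c) * h⁻¹ = x ^ m' * c') :
    c' = c ∧ ((h * x * h⁻¹ = x ∧ m' = m) ∨ (h * x * h⁻¹ = x⁻¹ ∧ m' = p - m)) := by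
  rw [Finset.mem_Ico] at hm hm'
  have hxp := pm2ti2_x_pow_p S
  have hpp : p.Prime := S.hp
  set y := h * x * h⁻¹ with hy
  have hyk : ∀ k : ℕ, y ^ k = h * x ^ k * h⁻¹ := fun k => conj_pow
  have hyp : y ^ p = 1 := by rw [hyk, hxp]; group
  have hcc : ∀ g : G, g * c = c * g := fun g => (Subgroup.mem_center_iff.mp hc g)
  have hcc' : ∀ g : G, g * c' = c' * g := fun g => (Subgroup.mem_center_iff.mp hc' g)
  -- y^m * c = x^m' * c'
  have e1 : y ^ m * c = x ^ m' * c' := by
    rw [← heq, hyk]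
    have : h * (x ^ m * c) * h⁻¹ = h * x ^ m * (c * h⁻¹) := by group
    rw [this, ← hcc h⁻¹]
    group
  set d := c' * c⁻¹ with hd
  have hdZ : d ∈ Subgroup.center G := Subgroup.mul_mem _ hc' (Subgroup.inv_mem _ hc)
  have hdc : ∀ g : G, g * d = d * g := fun g => (Subgroup.mem_center_iff.mp hdZ g)
  have e2 : y ^ m = x ^ m' * d := by
    have : y ^ m = (y ^ m * c) * c⁻¹ := by group
    rw [this, e1, hd]
    group
  -- d^p = 1
  have hdp : d ^ p = 1 := by
    have h1 : (y ^ m) ^ p = 1 := by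
      rw [← pow_mul, mul_comm, pow_mul, hyp, one_pow]
    rw [e2, (show Commute (x ^ m') d from hdc _).mul_pow, ← pow_mul, mul_comm, pow_mul, hxp,
      one_pow, one_mul] at h1
    exact h1
  have hd1 : d = 1 := by
    have ho1 : orderOf d ∣ p := orderOf_dvd_of_pow_eq_one hdp
    have ho2 : orderOf d ∣ Nat.card (Subgroup.center G) :=
      Subgroup.orderOf_dvd_natCard _ hdZ
    have hcop : Nat.Coprime p (Nat.card (Subgroup.center G)) :=
      (Nat.Prime.coprime_iff_not_dvd hpp).mpr hpZ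
    have : orderOf d ∣ 1 := by
      have := Nat.dvd_gcd ho1 ho2
      rwa [hcop] at this
    exact orderOf_eq_one_iff.mp (Nat.dvd_one.mp this)
  have hcc'' : c' = c := by
    have : c' = d * c := by rw [hd]; group
    rw [this, hd1, one_mul]
  refine ⟨hcc'', ?_⟩
  rw [hd1, mul_one] at e2
  -- y ∈ zpowers x
  have hpm : ¬ p ∣ m := by
    intro hdv
    have := Nat.le_of_dvd (by omega) hdv
    omega
  have hcop : Nat.Coprime m p := by
    rw [Nat.coprime_comm]
    exact (Nat.Prime.coprime_iff_not_dvd hpp).mpr hpm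
  obtain ⟨a, -, ha⟩ := Nat.exists_mul_mod_eq_one_of_coprime hcop hpp.one_lt
  have hy1 : y = (x ^ m') ^ a := by
    rw [← e2, ← pow_mul, hyk]
    have : x ^ (m * a) = x ^ 1 := by
      rw [pow_eq_pow_iff_modEq, S.ordx]
      unfold Nat.ModEq
      rw [ha, Nat.mod_eq_of_lt hpp.one_lt]
    rw [this, pow_one]
  have hymem : h * x * h⁻¹ ∈ Subgroup.zpowers x := by
    rw [← hy, hy1, ← pow_mul]
    exact Subgroup.npow_mem_zpowers x _
  rcases nrm_of_conj_mem S h hymem with hcase | hcase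
  · left
    refine ⟨hcase, ?_⟩
    rw [← hy] at hcase
    rw [hcase, pow_eq_pow_iff_modEq, S.ordx] at e2
    exact (Nat.ModEq.eq_of_lt_of_lt e2 hm.2 hm'.2).symm
  · right
    refine ⟨hcase, ?_⟩
    rw [← hy] at hcase
    rw [hcase] at e2
    have h3 : x ^ (m' + m) = 1 := by
      rw [pow_add, ← e2, inv_pow]
      group
    have h4 : p ∣ m' + m := by
      rw [← S.ordx]
      exact orderOf_dvd_of_pow_eq_one h3
    obtain ⟨t, ht⟩ := h4
    have ht1 : t = 1 := by
      have h5 : m' + m < p * 2 := by omega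
      have h6 : 0 < m' + m := by omega
      rw [ht] at h5 h6
      have : t < 2 := Nat.lt_of_mul_lt_mul_left h5
      have : 0 < t := Nat.pos_of_mul_pos_left h6 |> fun _ => by
        rcases Nat.eq_zero_or_pos t with h0 | h0
        · rw [h0, mul_zero] at h6; omega
        · exact h0
      omega
    rw [ht1, mul_one] at ht
    omega

/-- TI2 : rigidity -/
theorem conj_rigid (S : Setting p ζ x ω) (h : G) (m : ℕ) (hm : m ∈ Finset.Ico 1 p) (m' : ℕ)
    (hm' : m' ∈ Finset.Ico 1 p) (c : G) (hc : c ∈ Subgroup.center G) (c' : G)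
    (hc' : c' ∈ Subgroup.center G) (heq : h * (x ^ m * c) * h⁻¹ = x ^ m' * c') :
    c' = c ∧ ((h * x * h⁻¹ = x ∧ m' = m) ∨ (h * x * h⁻¹ = x⁻¹ ∧ m' = p - m)) :=
  pm2ti2_core (pm2nrm_pZ S) S h m hm m' hm' c hc c' hc' heq

end setting

end Cfsg.Agent.Lib.helper7.PM2
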