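import Mathlib
import Cfsg.Prelude.Def_Characters
import Cfsg.Agent.Lib.helper7.PM2.Defs
import Cfsg.Agent.Lib.Helper27.PM2NRM
import Cfsg.Agent.Lib.Helper27.PM2TI2
import Cfsg.Agent.Lib.helper14.PM2TI1

/-!
# Project PM2 (S4705), piece TI3: the sum of a class function over the `p`-singular elements
-/

set_option autoImplicit false

namespace Cfsg.Agent.Lib.helper7.PM2

open scoped ComplexConjugate

universe u

section setting

variable {G : Type u} [Group G] [Fintype G] {p : ℕ} {ζ : G → ℂ} {x : G} {ω : ℂ}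

omit [Fintype G] in
/-- conjugating `x^m c` -/
theorem pm2ti3_conj (k : G) (m : ℕ) {c : G} (hc : c ∈ Subgroup.center G) :
    k * (x ^ m * c) * k⁻¹ = (k * x * k⁻¹) ^ m * c := by
  have hcc : ∀ g : G, g * c = c * g := fun g => (Subgroup.mem_center_iff.mp hc g)
  rw [conj_pow]
  have : k * (x ^ m * c) * k⁻¹ = k * x ^ m * (c * k⁻¹) := by group
  rw [this, ← hcc k⁻¹]
  group

/-- the parametrization map -/
def pm2ti3_phi (x : G) (a : G × ℕ × G) : G := a.1 * (x ^ a.2.1 * a.2.2) * a.1⁻¹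

/-- `x^m c` is `p`-singular -/
theorem pm2ti3_sing (S : Setting p ζ x ω) (h : G) (m : ℕ) (hm : m ∈ Finset.Ico 1 p) {c : G}
    (hc : c ∈ Subgroup.center G) : p ∣ orderOf (h * (x ^ m * c) * h⁻¹) := by
  rw [Finset.mem_Ico] at hm
  have hcc : ∀ g : G, g * c = c * g := fun g => (Subgroup.mem_center_iff.mp hc g)
  set g := h * (x ^ m * c) * h⁻¹ with hg
  have h1 : g ^ orderOf g = 1 := pow_orderOf_eq_one g
  rw [hg, conj_pow] at h1
  have h2 : (x ^ m * c) ^ orderOf g = 1 := by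
    have : (x ^ m * c) ^ orderOf g = h⁻¹ * (h * (x ^ m * c) ^ orderOf g * h⁻¹) * h := by group
    rw [this, h1]; group
  rw [(show Commute (x ^ m) c from hcc _).mul_pow, ← pow_mul] at h2
  have h3 : x ^ (m * orderOf g) ∈ Subgroup.center G := by
    have : x ^ (m * orderOf g) = (c ^ orderOf g)⁻¹ := eq_inv_of_mul_eq_one_left h2
    rw [this]
    exact Subgroup.inv_mem _ (Subgroup.pow_mem _ hc _)
  have h4 := (pm2nrm_xZ S _).mp h3
  rcases (Nat.Prime.dvd_mul S.hp).mp h4 with h5 | h5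
  · exfalso
    have := Nat.le_of_dvd (by omega) h5
    omega
  · exact h5

open Classical in
/-- the fibres of the parametrization have `|nrm x|` elements -/
theorem pm2ti3_fibre
    (hTI1 : ∀ g : G, p ∣ orderOf g → ∃ h : G, ∃ m ∈ Finset.Ico 1 p, ∃ c ∈ Subgroup.center G,
      g = h * (x ^ m * c) * h⁻¹)
    (S : Setting p ζ x ω) (g : G) (hg : p ∣ orderOf g) :
    (((Finset.univ : Finset G) ×ˢ (Finset.Ico 1 p ×ˢ cen G)).filter
      (fun a => pm2ti3_phi x a = g)).card = (nrm x).card := by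
  obtain ⟨h₀, m₀, hm₀, c₀, hc₀, hg₀⟩ := hTI1 g hg
  have hxp := pm2ti2_x_pow_p S
  have hm₀' := Finset.mem_Ico.mp hm₀
  apply Finset.card_bij (fun a _ => h₀⁻¹ * a.1)
  · intro a ha
    rw [Finset.mem_filter, Finset.mem_product, Finset.mem_product, mem_cen] at ha
    obtain ⟨⟨-, ham, hac⟩, hphi⟩ := ha
    rw [mem_nrm]
    unfold pm2ti3_phi at hphi
    have heq : (h₀⁻¹ * a.1) * (x ^ a.2.1 * a.2.2) * (h₀⁻¹ * a.1)⁻¹ = x ^ m₀ * c₀ := by
      have : (h₀⁻¹ * a.1) * (x ^ a.2.1 * a.2.2) * (h₀⁻¹ * a.1)⁻¹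
          = h₀⁻¹ * (a.1 * (x ^ a.2.1 * a.2.2) * a.1⁻¹) * h₀ := by group
      rw [this, hphi, hg₀]; group
    obtain ⟨-, hr⟩ := conj_rigid S (h₀⁻¹ * a.1) a.2.1 ham m₀ hm₀ a.2.2 hac c₀ hc₀ heq
    rcases hr with hr | hr
    · exact Or.inl hr.1
    · exact Or.inr hr.1
  · intro a ha b hb hab
    rw [Finset.mem_filter, Finset.mem_product, Finset.mem_product, mem_cen] at ha hb
    obtain ⟨⟨-, ham, hac⟩, hphia⟩ := ha
    obtain ⟨⟨-, hbm, hbc⟩, hphib⟩ := hb
    have h1 : a.1 = b.1 := mul_left_cancel hab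
    unfold pm2ti3_phi at hphia hphib
    rw [← hphib, h1] at hphia
    have h2 : x ^ a.2.1 * a.2.2 = x ^ b.2.1 * b.2.2 :=
      mul_left_cancel (mul_right_cancel hphia)
    rw [Finset.mem_Ico] at ham hbm
    obtain ⟨h3, h4⟩ := pm2nrm_param_inj S a.2.1 b.2.1 ham.2 hbm.2 a.2.2 b.2.2 hac hbc h2
    exact Prod.ext h1 (Prod.ext h3 h4)
  · intro k hk
    rw [mem_nrm] at hk
    rcases hk with hk | hk
    · refine ⟨(h₀ * k, m₀, c₀), ?_, by group⟩
      rw [Finset.mem_filter, Finset.mem_product, Finset.mem_product, mem_cen]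
      refine ⟨⟨Finset.mem_univ _, hm₀, hc₀⟩, ?_⟩
      unfold pm2ti3_phi
      simp only
      have : h₀ * k * (x ^ m₀ * c₀) * (h₀ * k)⁻¹ = h₀ * (k * (x ^ m₀ * c₀) * k⁻¹) * h₀⁻¹ := by
        group
      rw [this, pm2ti3_conj k m₀ hc₀, hk, hg₀]
    · refine ⟨(h₀ * k, p - m₀, c₀), ?_, by group⟩
      rw [Finset.mem_filter, Finset.mem_product, Finset.mem_product, mem_cen]
      refine ⟨⟨Finset.mem_univ _, ?_, hc₀⟩, ?_⟩
      · rw [Finset.mem_Ico]
        show 1 ≤ p - m₀ ∧ p - m₀ < p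
        omega
      · unfold pm2ti3_phi
        simp only
        have : h₀ * k * (x ^ (p - m₀) * c₀) * (h₀ * k)⁻¹
            = h₀ * (k * (x ^ (p - m₀) * c₀) * k⁻¹) * h₀⁻¹ := by
          group
        rw [this, pm2ti3_conj k (p - m₀) hc₀, hk, hg₀]
        have h5 : x⁻¹ ^ (p - m₀) = x ^ m₀ := by
          have h6 : x ^ m₀ * x ^ (p - m₀) = 1 := by
            rw [← pow_add, ← hxp]; congr 1; omega
          rw [inv_pow]
          exact (eq_inv_of_mul_eq_one_left h6).symm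
        rw [h5]

/-- the core of TI3, with `sing_conj` (TI1) as a hypothesis -/
theorem pm2ti3_core
    (hTI1 : ∀ g : G, p ∣ orderOf g → ∃ h : G, ∃ m ∈ Finset.Ico 1 p, ∃ c ∈ Subgroup.center G,
      g = h * (x ^ m * c) * h⁻¹)
    (S : Setting p ζ x ω) (F : G → ℂ) (hF : Cfsg.IsClassFunction G F) :
    (2 * (p : ℂ) * (Nat.card (Subgroup.center G) : ℂ)) * ∑ g ∈ sing p G, F g =
      (Nat.card G : ℂ) * ∑ m ∈ Finset.Ico 1 p, ∑ c ∈ cen G, F (x ^ m * c) := by
  classical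
  have hA : ∑ a ∈ (Finset.univ : Finset G) ×ˢ (Finset.Ico 1 p ×ˢ cen G), F (pm2ti3_phi x a)
      = (Nat.card G : ℂ) * ∑ m ∈ Finset.Ico 1 p, ∑ c ∈ cen G, F (x ^ m * c) := by
    rw [Finset.sum_product]
    have : ∀ h : G, ∑ y ∈ Finset.Ico 1 p ×ˢ cen G, F (pm2ti3_phi x (h, y))
        = ∑ m ∈ Finset.Ico 1 p, ∑ c ∈ cen G, F (x ^ m * c) := by
      intro h
      rw [Finset.sum_product]
      refine Finset.sum_congr rfl fun m _ => Finset.sum_congr rfl fun c _ => ?_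
      unfold pm2ti3_phi
      exact hF _ h
    rw [Finset.sum_congr rfl fun h _ => this h, Finset.sum_const, Finset.card_univ, nsmul_eq_mul,
      Nat.card_eq_fintype_card]
  have hmaps : ∀ a ∈ (Finset.univ : Finset G) ×ˢ (Finset.Ico 1 p ×ˢ cen G),
      pm2ti3_phi x a ∈ sing p G := by
    intro a ha
    rw [Finset.mem_product, Finset.mem_product, mem_cen] at ha
    rw [mem_sing]
    exact pm2ti3_sing S a.1 a.2.1 ha.2.1 ha.2.2
  rw [← hA, ← Finset.sum_fiberwise_of_maps_to hmaps, Finset.mul_sum]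
  refine Finset.sum_congr rfl fun g hg => ?_
  rw [mem_sing] at hg
  have h1 : ∑ a ∈ ((Finset.univ : Finset G) ×ˢ (Finset.Ico 1 p ×ˢ cen G)).filter
      (fun a => pm2ti3_phi x a = g), F (pm2ti3_phi x a)
      = ∑ a ∈ ((Finset.univ : Finset G) ×ˢ (Finset.Ico 1 p ×ˢ cen G)).filter
      (fun a => pm2ti3_phi x a = g), F g := by
    refine Finset.sum_congr rfl fun a ha => ?_
    rw [(Finset.mem_filter.mp ha).2]
  rw [h1, Finset.sum_const, pm2ti3_fibre hTI1 S g hg, nrm_card S, nsmul_eq_mul]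
  push_cast
  ring

/-- TI3 : the sum of a class function over the `p`-singular elements -/
theorem sum_sing (S : Setting p ζ x ω) (F : G → ℂ) (hF : Cfsg.IsClassFunction G F) :
    (2 * (p : ℂ) * (Nat.card (Subgroup.center G) : ℂ)) * ∑ g ∈ sing p G, F g =
      (Nat.card G : ℂ) * ∑ m ∈ Finset.Ico 1 p, ∑ c ∈ cen G, F (x ^ m * c) :=
  pm2ti3_core (fun g hg => sing_conj S g hg) S F hF

end setting

end Cfsg.Agent.Lib.helper7.PM2
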