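import Mathlib
import Cfsg.Agent.Lib.helper7.REE.Defs
import Cfsg.Agent.Lib.helper8.ChevReeC1
import Cfsg.Agent.Lib.helper8.ChevReeD1

/-!
# Project REE (designer helper7), row PE (`sl2_basic`).
-/

set_option autoImplicit false
set_option linter.unusedVariables false

namespace Cfsg.Agent.Lib.helper7.REE

open Matrix Polynomial Cfsg.Agent.Lib.helper8

universe u v

section P

variable {K : Type v} [Field K] [Fintype K] {m : ℕ}

/-- `q = 3^(2m+1) ≡ 3 mod 4` -/
theorem reepe_mod_four (m : ℕ) : qq m % 4 = 3 := by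
  unfold qq
  rw [pow_succ, pow_mul, Nat.mul_mod, Nat.pow_mod]
  norm_num

/-- `(3 : K) = 0` -/
theorem reepe_three (hK : Fintype.card K = qq m) : (3 : K) = 0 := by
  have h := FiniteField.cast_card_eq_zero K
  rw [hK] at h
  unfold qq at h
  push_cast at h
  exact pow_eq_zero_iff (by omega) |>.mp h

/-- `(2 : K) ≠ 0` -/
theorem reepe_two (hK : Fintype.card K = qq m) : (2 : K) ≠ 0 := by
  intro h2
  have h3 := reepe_three hK
  have : (1 : K) = 3 - 2 := by norm_num
  rw [h3, h2, sub_zero] at this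
  exact one_ne_zero this

theorem sl2_basic (hK : Fintype.card K = qq m) :
    Nat.card (SpecialLinearGroup (Fin 2) K) = qq m * (qq m ^ 2 - 1) ∧
    (-1 : SpecialLinearGroup (Fin 2) K) ≠ 1 ∧ (3 : K) = 0 ∧ (∀ a : K, a ^ 2 ≠ -1) ∧
    (∀ s : K, s ≠ 0 → (h8slD s = 1 ∨ h8slD s = -1 ↔ s = 1 ∨ s = -1)) := by
  have h2 : (2 : K) ≠ 0 := reepe_two hK
  have hneg : (-1 : K) ≠ 1 := by
    intro h
    apply h2
    have : (2 : K) = 1 - (-1) := by norm_num
    rw [this, h, sub_self]
  refine ⟨?_, ?_, reepe_three hK, ?_, ?_⟩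
  · rw [h8card_sl2, hK]
  · intro h
    have h00 : ((-1 : SpecialLinearGroup (Fin 2) K) : Matrix (Fin 2) (Fin 2) K) 0 0 =
        ((1 : SpecialLinearGroup (Fin 2) K) : Matrix (Fin 2) (Fin 2) K) 0 0 := by rw [h]
    simp at h00
    exact hneg h00
  · intro a ha
    have hsq : IsSquare (-1 : K) := ⟨a, by rw [← ha, sq]⟩
    rw [FiniteField.isSquare_neg_one_iff, hK] at hsq
    exact hsq (reepe_mod_four m)
  · intro s hs
    constructor
    · rintro (h | h)
      · left
        have h00 : ((h8slD s : SpecialLinearGroup (Fin 2) K) : Matrix (Fin 2) (Fin 2) K) 0 0 =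
            ((1 : SpecialLinearGroup (Fin 2) K) : Matrix (Fin 2) (Fin 2) K) 0 0 := by rw [h]
        rw [h8slD_val s hs] at h00
        simpa using h00
      · right
        have h00 : ((h8slD s : SpecialLinearGroup (Fin 2) K) : Matrix (Fin 2) (Fin 2) K) 0 0 =
            ((-1 : SpecialLinearGroup (Fin 2) K) : Matrix (Fin 2) (Fin 2) K) 0 0 := by rw [h]
        rw [h8slD_val s hs] at h00
        simpa using h00
    · rintro (rfl | rfl)
      · exact Or.inl h8slD_one
      · exact Or.inr h8slD_neg_one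

end P

end Cfsg.Agent.Lib.helper7.REE
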