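import Mathlib
import Cfsg.Agent.Lib.helper7.REE.Defs
import Cfsg.Agent.Lib.helper8.ChevReeC1
import Cfsg.Agent.Lib.Helper27.REEPE

/-!
# Project REE (designer helper7), row G1I (`CU_t`): `C_U(t) = ψ(slU K)`, elementary abelian of order `q`.
-/

set_option autoImplicit false
set_option linter.unusedVariables false

namespace Cfsg.Agent.Lib.helper7.REE

open Matrix Cfsg.Agent.Lib.helper8

universe u v

namespace ReeAx

variable {G : Type u} [Group G] [Finite G] {K : Type v} [Field K] [Fintype K] {m : ℕ}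

/-- `slU s = 1 ∨ slU s = -1` forces `s = 0` (characteristic `≠ 2`) -/
theorem reeg1i_slU_pm (h2 : (2 : K) ≠ 0) (s : K)
    (h : (h8slU s : SpecialLinearGroup (Fin 2) K) = 1 ∨ (h8slU s : SpecialLinearGroup (Fin 2) K) = -1) :
    s = 0 := by
  rcases h with h | h
  · have h01 : ((h8slU s : SpecialLinearGroup (Fin 2) K) : Matrix (Fin 2) (Fin 2) K) 0 1 =
        ((1 : SpecialLinearGroup (Fin 2) K) : Matrix (Fin 2) (Fin 2) K) 0 1 := by rw [h]
    rw [h8slU_val] at h01
    simpa using h01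
  · exfalso
    have h00 : ((h8slU s : SpecialLinearGroup (Fin 2) K) : Matrix (Fin 2) (Fin 2) K) 0 0 =
        ((-1 : SpecialLinearGroup (Fin 2) K) : Matrix (Fin 2) (Fin 2) K) 0 0 := by rw [h]
    rw [h8slU_val] at h00
    simp at h00
    apply h2
    have : (2 : K) = 1 - (-1) := by norm_num
    rw [this, ← h00, sub_self]

theorem CU_t (R : ReeAx G K m) :
    (∀ x ∈ R.U, R.t * x = x * R.t → ∃ s : K, x = R.psi (h8slU s)) ∧
    (∀ s s' : K, R.psi (h8slU s) = R.psi (h8slU s') → s = s') ∧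
    (∀ s : K, R.psi (h8slU s) ^ 3 = 1) ∧
    (∀ s s' : K, R.psi (h8slU s) * R.psi (h8slU s') = R.psi (h8slU (s + s'))) ∧
    Nat.card ({x : G | x ∈ R.U ∧ R.t * x = x * R.t} : Set G) = qq m := by
  have h2 : (2 : K) ≠ 0 := reepe_two R.hK
  have h3 : (3 : K) = 0 := reepe_three R.hK
  have hfix : ∀ x ∈ R.U, R.t * x = x * R.t → ∃ s : K, x = R.psi (h8slU s) := by
    intro x hx hc
    apply R.fixU x hx
    rw [hc]
    group
  have hadd : ∀ s s' : K, R.psi (h8slU s) * R.psi (h8slU s') = R.psi (h8slU (s + s')) := by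
    intro s s'
    rw [← map_mul, ← h8slU_add]
  have hinj : ∀ s s' : K, R.psi (h8slU s) = R.psi (h8slU s') → s = s' := by
    intro s s' h
    have e : R.psi (h8slU (s - s')) * R.psi (h8slU s') = R.psi (h8slU s) := by
      rw [hadd, sub_add_cancel]
    have e1 : R.psi (h8slU (s - s')) = 1 := by
      rw [h] at e
      exact mul_eq_right.mp e
    have := reeg1i_slU_pm h2 (s - s') (R.psi_ker _ e1)
    exact sub_eq_zero.mp this
  refine ⟨hfix, hinj, ?_, hadd, ?_⟩
  · intro s
    rw [pow_succ, pow_two, hadd, hadd]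
    have : s + s + s = 3 * s := by ring
    rw [this, h3, zero_mul, h8slU_zero, map_one]
  · have hmem : ∀ s : K, R.psi (h8slU s) ∈ ({x : G | x ∈ R.U ∧ R.t * x = x * R.t} : Set G) :=
      fun s => ⟨R.psi_U s, R.psi_comm _⟩
    let f : K → ({x : G | x ∈ R.U ∧ R.t * x = x * R.t} : Set G) := fun s => ⟨R.psi (h8slU s), hmem s⟩
    have hbij : Function.Bijective f := by
      constructor
      · intro s s' h
        exact hinj s s' (congrArg Subtype.val h)
      · rintro ⟨x, hxU, hxt⟩
        obtain ⟨s, hs⟩ := hfix x hxU hxt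
        exact ⟨s, Subtype.ext hs.symm⟩
    rw [← Nat.card_congr (Equiv.ofBijective f hbij), Nat.card_eq_fintype_card, R.hK]

end ReeAx

end Cfsg.Agent.Lib.helper7.REE
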