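import Mathlib
import Cfsg.Agent.Lib.helper23.TD4V.Defs

/-!
# Project TD4V (designer helper23), row U5 (helper27): the twisted Frobenius preserves `QK` and `QmK`

`Fr hA f (x_s(t)) = x_{σ s}(η_s f t)` (`h8Sig_xU`), and the triality `σ = h8sD4` preserves positivity, negativity and the
subsystem `Φ_{1} = {±β} = {14, 9}`.  Closure induction.
-/

set_option autoImplicit false

namespace Cfsg.Agent.Lib.helper23.TD4V

open Cfsg.Lie Cfsg.Lie.ChevalleyDatum Matrix
open Cfsg.Agent.Lib.helper8 Cfsg.Agent.Lib.helper8.TD4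
open Cfsg.Agent.Lib.helper23.P4V

universe u v

/-- a root of the subsystem `{1}` is `β = 14` or `-β = 9` -/
theorem td4vu5_roots (r : ℕ) (hr : chevD4.InRootSub ({1} : Set ℕ) r) : r = 14 ∨ r = 9 := by
  obtain ⟨hlt, h⟩ := hr
  have h0 := h 0 (by decide) (by simp)
  have h2 := h 2 (by decide) (by simp)
  have h3 := h 3 (by decide) (by simp)
  have hlt' : r < 24 := hlt
  interval_cases r
  all_goals first | (right; rfl) | (left; rfl) | (exfalso; revert h0; decide) |
    (exfalso; revert h2; decide) | (exfalso; revert h3; decide)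

theorem td4vu5_inRootSub (r : ℕ) (hr : r = 14 ∨ r = 9) : chevD4.InRootSub ({1} : Set ℕ) r := by
  have key : ∀ r ∈ [14, 9], r < chevD4.nroots ∧ ∀ i < chevD4.rank, i ≠ 1 →
      (chevD4.coroot.getD r #[]).getD i 0 = 0 := by decide
  have hm : r ∈ [14, 9] := by
    rcases hr with rfl | rfl <;> simp
  obtain ⟨h1, h2⟩ := key r hm
  exact ⟨h1, fun i hi hiJ => h2 i hi (by simpa using hiJ)⟩

theorem td4vu5_iff (r : ℕ) : chevD4.InRootSub ({1} : Set ℕ) r ↔ (r = 14 ∨ r = 9) :=
  ⟨td4vu5_roots r, td4vu5_inRootSub r⟩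

theorem td4vu5_sig_sub : ∀ r < chevD4.nroots, (h8sD4 r = 14 ∨ h8sD4 r = 9) → (r = 14 ∨ r = 9) := by
  decide

theorem td4vu5_sig_neg : ∀ r < chevD4.nroots, chevD4.IsNegRoot (h8sD4 r) ↔ chevD4.IsNegRoot r := by
  decide +kernel

section U

variable {K : Type u} [Field K]

/-- a generator given by its matrix is `X r t` -/
theorem td4vu5_eq_X (g : GG K) (r : ℕ) (t : K)
    (e : (g : Matrix chevD4.Idx chevD4.Idx K) = chevD4.x K r t) : g = X r t :=
  Units.ext (e.trans (h8xU_val chevD4 hB r t).symm)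

theorem td4vu5_Fr_X (hA : H8ReflAll chevD4) (f : K ≃+* K) (r : ℕ) (hr : r < chevD4.nroots) (t : K) :
    Fr hA f (X r t) = X (h8sD4 r) (((h8eD4 r : ℤ) : K) * f t) := by
  unfold Fr X
  exact h8Sig_xU chevD4 h8sD4 h8tD4 h8pD4 h8qD4 h8eD4 (h8autD4 hA) f hB r hr t

/-- **U5** [M] (both).  Closure induction; `h8Sig_xU` (`Fr hA f (X s t) = X (h8sD4 s) (η_s * f t)`; `Fr` unfolds to `h8Sig …`), and
`h8sD4` preserves positivity (`h8twD4_pos`), negativity and `InRootSub {1}` (`decide`). -/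
theorem Fr_QK (hA : H8ReflAll chevD4) (f : K ≃+* K) (g : GG K) (hg : g ∈ QK K) : Fr hA f g ∈ QK K := by
  unfold QK ChevalleyDatum.unipotentRadical at hg
  induction hg using Subgroup.closure_induction with
  | mem x hx =>
    obtain ⟨r, t, hpos, hns, e⟩ := hx
    rw [td4vu5_eq_X x r t e, td4vu5_Fr_X hA f r hpos.1 t]
    refine Subgroup.subset_closure ⟨h8sD4 r, _, (h8twD4_pos r hpos.1).2 hpos, ?_, rfl⟩
    intro hs
    exact hns (td4vu5_inRootSub r (td4vu5_sig_sub r hpos.1 (td4vu5_roots _ hs)))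
  | one => rw [map_one]; exact Subgroup.one_mem _
  | mul a b _ _ ha hb => rw [map_mul]; exact Subgroup.mul_mem _ ha hb
  | inv a _ ha => rw [map_inv]; exact Subgroup.inv_mem _ ha

theorem Fr_QmK (hA : H8ReflAll chevD4) (f : K ≃+* K) (g : GG K) (hg : g ∈ QmK K) :
    Fr hA f g ∈ QmK K := by
  unfold QmK at hg
  induction hg using Subgroup.closure_induction with
  | mem x hx =>
    obtain ⟨r, t, hneg, hns, e⟩ := hx
    rw [td4vu5_eq_X x r t e, td4vu5_Fr_X hA f r hneg.1 t]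
    refine Subgroup.subset_closure ⟨h8sD4 r, _, (td4vu5_sig_neg r hneg.1).2 hneg, ?_, rfl⟩
    intro hs
    exact hns (td4vu5_inRootSub r (td4vu5_sig_sub r hneg.1 (td4vu5_roots _ hs)))
  | one => rw [map_one]; exact Subgroup.one_mem _
  | mul a b _ _ ha hb => rw [map_mul]; exact Subgroup.mul_mem _ ha hb
  | inv a _ ha => rw [map_inv]; exact Subgroup.inv_mem _ ha

end U

end Cfsg.Agent.Lib.helper23.TD4V
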