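import Mathlib
import Cfsg.Agent.Lib.helper23.TD4V.Defs
import Cfsg.Agent.Lib.helper8.ChevTwD4U

/-!
# Project TD4V (designer helper23), row U6 (helper27): `Fr`-fixed elements of `QK` lie in `³D₄(q)`

`QK K ≤ chevD4.posUnipotent K` (generators) and helper8's `h8twD4_U_fix`.
-/

set_option autoImplicit false

namespace Cfsg.Agent.Lib.helper23.TD4V

open Cfsg.Lie Cfsg.Lie.ChevalleyDatum Matrix
open Cfsg.Agent.Lib.helper8 Cfsg.Agent.Lib.helper8.TD4
open Cfsg.Agent.Lib.helper23.P4V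

universe u v

section U

variable {K : Type u} [Field K]

theorem td4vu6_QK_le : QK K ≤ chevD4.posUnipotent K := by
  unfold QK ChevalleyDatum.unipotentRadical ChevalleyDatum.posUnipotent
  apply Subgroup.closure_mono
  rintro g ⟨r, t, hpos, -, e⟩
  exact ⟨r, t, hpos, e⟩

/-- **U6** [S-M].  `QK K ≤ chevD4.posUnipotent K` (generators) and `h8twD4_U_fix` (`hA hC hBN hO2` from `h8reflAll`, `h8commAll`, `h8bn_all`,
`h8ord_all`; `hneg` from `h8frob_exists`). -/
theorem QK_fix_mem [Fintype K] (q : ℕ) (hq : IsPrimePow q) (hK : Fintype.card K = q ^ 3)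
    (hA : H8ReflAll chevD4) (f : K ≃+* K) (hf : ∀ t, f t = t ^ q) (g : GG K) (hg : g ∈ QK K)
    (hfix : Fr hA f g = g) : g ∈ twistedD4 K q := by
  have hD : chevD4 ∈ [chevG2, chevB2, chevD4, chevF4, chevE6, chevE7, chevE8] := by simp
  have hC := h8commAll.{u} chevD4 hD
  have hBN := h8bn_all chevD4 hD
  obtain ⟨-, hO2⟩ := h8ord_all chevD4 hD
  obtain ⟨f', -, -, hneg⟩ := h8frob_exists hq 3 (by norm_num) hK
  have hfff : ∀ t, f (f (f t)) = t := by
    intro t
    rw [hf, hf, hf, ← pow_mul, ← pow_mul]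
    have e : q * (q * q) = Fintype.card K := by rw [hK]; ring
    rw [e]
    exact FiniteField.pow_card t
  exact h8twD4_U_fix hB hC hA hBN hO2 q f hf hfff hneg g (td4vu6_QK_le hg) hfix

end U

end Cfsg.Agent.Lib.helper23.TD4V
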