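import Mathlib
import Cfsg.Prelude.Def_ClassicalGeometry
import Cfsg.Agent.Lib.helper6.SympBasis

/-!
# Involutions of `Sp_{2d}(F)`, `2 ≠ 0`: two involutions whose fixed spaces have the same dimension are conjugate in `Sp`.

Vocabulary of the statements (`Cfsg.sympForm d F`, `Cfsg.spGL d F`).  The proof: `V = V₊ ⊥ V₋`, both non-degenerate, parametrised by standard
symplectic spaces (`helper6.SB.exists_param`); the isometry exchanging the parametrisations of `x` and `y` conjugates `x` to `y`.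
-/

set_option autoImplicit false
set_option linter.unusedSectionVars false
set_option linter.unusedVariables false

namespace Cfsg.Agent.Lib.Helper27.SpInv

open Matrix Module Cfsg.Agent.Lib.helper6 Cfsg.Agent.Lib.helper6.SB

variable {F : Type*} [Field F]

/-- the parametrisation of an involution `M` preserving `sympForm`. -/
theorem spinv_param (h2 : (2 : F) ≠ 0) (d : ℕ)
    (M : Matrix (Fin d ⊕ Fin d) (Fin d ⊕ Fin d) F) (hM2 : M * M = 1)
    (hMf : ∀ u v, Cfsg.sympForm d F (M *ᵥ u) (M *ᵥ v) = Cfsg.sympForm d F u v) :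
    ∃ (k k' : ℕ) (φp : (Fin k ⊕ Fin k → F) →ₗ[F] (Fin d ⊕ Fin d → F))
      (φm : (Fin k' ⊕ Fin k' → F) →ₗ[F] (Fin d ⊕ Fin d → F)),
      (∀ a, M *ᵥ φp a = φp a) ∧ (∀ b, M *ᵥ φm b = -φm b) ∧
      (∀ a a', Cfsg.sympForm d F (φp a) (φp a') = Cfsg.sympForm k F a a') ∧
      (∀ b b', Cfsg.sympForm d F (φm b) (φm b') = Cfsg.sympForm k' F b b') ∧
      (∀ a b, Cfsg.sympForm d F (φp a) (φm b) = 0) ∧
      (∀ v, ∃ a b, v = φp a + φm b) ∧
      (∀ a b, φp a + φm b = 0 → a = 0 ∧ b = 0) ∧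
      2 * k = finrank F (LinearMap.ker (M.mulVecLin - LinearMap.id)) := by
  classical
  have hMM : ∀ v, M *ᵥ (M *ᵥ v) = v := by
    intro v
    rw [Matrix.mulVec_mulVec, hM2, Matrix.one_mulVec]
  set Vp : Submodule F (Fin d ⊕ Fin d → F) := LinearMap.ker (M.mulVecLin - LinearMap.id) with hVp
  set Vm : Submodule F (Fin d ⊕ Fin d → F) := LinearMap.ker (M.mulVecLin + LinearMap.id) with hVm
  have memp : ∀ v, v ∈ Vp ↔ M *ᵥ v = v := by
    intro v
    rw [hVp, LinearMap.mem_ker, LinearMap.sub_apply, Matrix.mulVecLin_apply, LinearMap.id_apply, sub_eq_zero]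
  have memm : ∀ v, v ∈ Vm ↔ M *ᵥ v = -v := by
    intro v
    rw [hVm, LinearMap.mem_ker, LinearMap.add_apply, Matrix.mulVecLin_apply, LinearMap.id_apply,
      add_eq_zero_iff_eq_neg]
  have h2inv : (2 : F)⁻¹ * 2 = 1 := inv_mul_cancel₀ h2
  -- decomposition
  have hdec : ∀ v, ∃ vp ∈ Vp, ∃ vm ∈ Vm, v = vp + vm := by
    intro v
    refine ⟨(2 : F)⁻¹ • (v + M *ᵥ v), ?_, (2 : F)⁻¹ • (v - M *ᵥ v), ?_, ?_⟩
    · rw [memp, Matrix.mulVec_smul, Matrix.mulVec_add, hMM, add_comm]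
    · rw [memm, Matrix.mulVec_smul, Matrix.mulVec_sub, hMM, ← smul_neg, neg_sub]
    · rw [← smul_add]
      have : v + M *ᵥ v + (v - M *ᵥ v) = (2 : F) • v := by rw [two_smul]; abel
      rw [this, smul_smul, h2inv, one_smul]
  have horth : ∀ u ∈ Vp, ∀ w ∈ Vm, Cfsg.sympForm d F u w = 0 := by
    intro u hu w hw
    have h := hMf u w
    rw [(memp u).mp hu, (memm w).mp hw, sympForm_neg_right] at h
    have : (2 : F) * Cfsg.sympForm d F u w = 0 := by linear_combination -h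
    rcases mul_eq_zero.mp this with h' | h'
    · exact absurd h' h2
    · exact h'
  have horth' : ∀ w ∈ Vm, ∀ u ∈ Vp, Cfsg.sympForm d F w u = 0 := by
    intro w hw u hu
    rw [sympForm_swap, horth u hu w hw, neg_zero]
  have hndp : ∀ u ∈ Vp, (∀ v ∈ Vp, Cfsg.sympForm d F u v = 0) → u = 0 := by
    intro u hu h
    by_contra hne
    obtain ⟨x, hx⟩ := sympForm_nondeg d u hne
    obtain ⟨vp, hvp, vm, hvm, rfl⟩ := hdec x
    apply hx
    rw [sympForm_add_right, h vp hvp, horth u hu vm hvm, add_zero]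
  have hndm : ∀ u ∈ Vm, (∀ v ∈ Vm, Cfsg.sympForm d F u v = 0) → u = 0 := by
    intro u hu h
    by_contra hne
    obtain ⟨x, hx⟩ := sympForm_nondeg d u hne
    obtain ⟨vp, hvp, vm, hvm, rfl⟩ := hdec x
    apply hx
    rw [sympForm_add_right, h vm hvm, horth' u hu vp hvp, add_zero]
  obtain ⟨k, φp, hrp, hfp⟩ := exists_param d _ Vp rfl hndp
  obtain ⟨k', φm, hrm, hfm⟩ := exists_param d _ Vm rfl hndm
  have hφp : ∀ a, φp a ∈ Vp := fun a => by rw [← hrp]; exact LinearMap.mem_range_self _ a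
  have hφm : ∀ b, φm b ∈ Vm := fun b => by rw [← hrm]; exact LinearMap.mem_range_self _ b
  refine ⟨k, k', φp, φm, fun a => (memp _).mp (hφp a), fun b => (memm _).mp (hφm b), hfp, hfm,
    fun a b => horth _ (hφp a) _ (hφm b), ?_, ?_, ?_⟩
  · intro v
    obtain ⟨vp, hvp, vm, hvm, rfl⟩ := hdec v
    rw [← hrp] at hvp
    rw [← hrm] at hvm
    obtain ⟨a, rfl⟩ := hvp
    obtain ⟨b, rfl⟩ := hvm
    exact ⟨a, b, rfl⟩
  · intro a b hab
    have h1 : φp a = -φm b := eq_neg_of_add_eq_zero_left hab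
    have h3 : M *ᵥ φp a = φp a := (memp _).mp (hφp a)
    have h4 : M *ᵥ φp a = -φp a := by
      rw [h1, Matrix.mulVec_neg, (memm _).mp (hφm b)]
    have h5 : (2 : F) • φp a = 0 := by
      rw [two_smul]
      nth_rewrite 1 [← h3]
      rw [h4, neg_add_cancel]
    have h6 : φp a = 0 := by
      rcases smul_eq_zero.mp h5 with h | h
      · exact absurd h h2
      · exact h
    have h7 : φm b = 0 := by
      rw [h6, zero_add] at hab
      exact hab
    constructor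
    · exact param_injective φp hfp (by rw [h6, map_zero])
    · exact param_injective φm hfm (by rw [h7, map_zero])
  · rw [finrank_of_param φp hfp Vp hrp]

/-- an isometric linear automorphism of `F^(2d)`, as an element of `spGL`. -/
theorem spinv_gl_of_equiv (d : ℕ) (G : (Fin d ⊕ Fin d → F) ≃ₗ[F] (Fin d ⊕ Fin d → F))
    (hG : ∀ u v, Cfsg.sympForm d F (G u) (G v) = Cfsg.sympForm d F u v) :
    ∃ g : Matrix.GeneralLinearGroup (Fin d ⊕ Fin d) F, g ∈ Cfsg.spGL d F ∧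
      ∀ v, (g : Matrix (Fin d ⊕ Fin d) (Fin d ⊕ Fin d) F) *ᵥ v = G v := by
  set g : Matrix.GeneralLinearGroup (Fin d ⊕ Fin d) F :=
    Matrix.GeneralLinearGroup.toLin.symm (LinearMap.GeneralLinearGroup.ofLinearEquiv G) with hg
  have hgv : ∀ v, (g : Matrix (Fin d ⊕ Fin d) (Fin d ⊕ Fin d) F) *ᵥ v = G v := by
    intro v
    have h1 : Matrix.GeneralLinearGroup.toLin g = LinearMap.GeneralLinearGroup.ofLinearEquiv G := by
      rw [hg, MulEquiv.apply_symm_apply]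
    have h2 := Matrix.GeneralLinearGroup.toLin_apply (A := g) v
    rw [h1] at h2
    rw [← Matrix.mulVecLin_apply, ← h2]
    rfl
  refine ⟨g, ?_, hgv⟩
  intro u v
  show Cfsg.sympForm d F ((g : Matrix (Fin d ⊕ Fin d) (Fin d ⊕ Fin d) F) *ᵥ u)
    ((g : Matrix (Fin d ⊕ Fin d) (Fin d ⊕ Fin d) F) *ᵥ v) = Cfsg.sympForm d F u v
  rw [hgv, hgv, hG]

/-- two involutions of `Sp_{2d}(F)` (`2 ≠ 0`) whose fixed spaces have the same dimension are conjugate in `Sp_{2d}(F)`. -/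
theorem sp_invol_conj (h2 : (2 : F) ≠ 0) (d : ℕ) (x y : Matrix.GeneralLinearGroup (Fin d ⊕ Fin d) F)
    (hx : x ∈ Cfsg.spGL d F) (hy : y ∈ Cfsg.spGL d F)
    (hx2 : (x : Matrix (Fin d ⊕ Fin d) (Fin d ⊕ Fin d) F) * (x : Matrix (Fin d ⊕ Fin d) (Fin d ⊕ Fin d) F) = 1)
    (hy2 : (y : Matrix (Fin d ⊕ Fin d) (Fin d ⊕ Fin d) F) * (y : Matrix (Fin d ⊕ Fin d) (Fin d ⊕ Fin d) F) = 1)
    (hdim : finrank F (LinearMap.ker ((x : Matrix (Fin d ⊕ Fin d) (Fin d ⊕ Fin d) F).mulVecLin - LinearMap.id)) =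
      finrank F (LinearMap.ker ((y : Matrix (Fin d ⊕ Fin d) (Fin d ⊕ Fin d) F).mulVecLin - LinearMap.id))) :
    ∃ g ∈ Cfsg.spGL d F, g⁻¹ * x * g = y := by
  classical
  have hxf : ∀ u v, Cfsg.sympForm d F ((x : Matrix (Fin d ⊕ Fin d) (Fin d ⊕ Fin d) F) *ᵥ u)
      ((x : Matrix (Fin d ⊕ Fin d) (Fin d ⊕ Fin d) F) *ᵥ v) = Cfsg.sympForm d F u v := hx
  have hyf : ∀ u v, Cfsg.sympForm d F ((y : Matrix (Fin d ⊕ Fin d) (Fin d ⊕ Fin d) F) *ᵥ u)
      ((y : Matrix (Fin d ⊕ Fin d) (Fin d ⊕ Fin d) F) *ᵥ v) = Cfsg.sympForm d F u v := hy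
  obtain ⟨k, k', φp, φm, hφp, hφm, hfp, hfm, hpm, hsurj, hinj, hk⟩ := spinv_param h2 d _ hx2 hxf
  obtain ⟨l, l', ψp, ψm, hψp, hψm, hgp, hgm, hqm, hsurj', hinj', hl⟩ := spinv_param h2 d _ hy2 hyf
  have hkl : k = l := by omega
  subst hkl
  -- the two parametrisations as linear equivalences
  have hbijX : Function.Bijective (φp.coprod φm) := by
    constructor
    · rw [← LinearMap.ker_eq_bot, LinearMap.ker_eq_bot']
      rintro ⟨a, b⟩ hab
      rw [LinearMap.coprod_apply] at hab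
      obtain ⟨ha, hb⟩ := hinj a b hab
      rw [ha, hb]
      rfl
    · intro v
      obtain ⟨a, b, rfl⟩ := hsurj v
      exact ⟨(a, b), by rw [LinearMap.coprod_apply]⟩
  have hbijY : Function.Bijective (ψp.coprod ψm) := by
    constructor
    · rw [← LinearMap.ker_eq_bot, LinearMap.ker_eq_bot']
      rintro ⟨a, b⟩ hab
      rw [LinearMap.coprod_apply] at hab
      obtain ⟨ha, hb⟩ := hinj' a b hab
      rw [ha, hb]
      rfl
    · intro v
      obtain ⟨a, b, rfl⟩ := hsurj' v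
      exact ⟨(a, b), by rw [LinearMap.coprod_apply]⟩
  have hdX := LinearEquiv.finrank_eq (LinearEquiv.ofBijective (φp.coprod φm) hbijX)
  have hdY := LinearEquiv.finrank_eq (LinearEquiv.ofBijective (ψp.coprod ψm) hbijY)
  rw [Module.finrank_prod, Module.finrank_fintype_fun_eq_card, Module.finrank_fintype_fun_eq_card,
    Module.finrank_fintype_fun_eq_card, Fintype.card_sum, Fintype.card_sum, Fintype.card_sum,
    Fintype.card_fin, Fintype.card_fin, Fintype.card_fin] at hdX hdY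
  have hkl' : k' = l' := by omega
  subst hkl'
  set ΦX := LinearEquiv.ofBijective (φp.coprod φm) hbijX with hΦX
  set ΦY := LinearEquiv.ofBijective (ψp.coprod ψm) hbijY with hΦY
  have hΦXa : ∀ a b, ΦX (a, b) = φp a + φm b := fun a b => by
    rw [hΦX, LinearEquiv.ofBijective_apply, LinearMap.coprod_apply]
  have hΦYa : ∀ a b, ΦY (a, b) = ψp a + ψm b := fun a b => by
    rw [hΦY, LinearEquiv.ofBijective_apply, LinearMap.coprod_apply]
  set G : (Fin d ⊕ Fin d → F) ≃ₗ[F] (Fin d ⊕ Fin d → F) := ΦY.symm.trans ΦX with hGdef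
  have hGa : ∀ a b, G (ψp a + ψm b) = φp a + φm b := by
    intro a b
    rw [hGdef, LinearEquiv.trans_apply, ← hΦYa, LinearEquiv.symm_apply_apply, hΦXa]
  have hqm' : ∀ b a, Cfsg.sympForm d F (ψm b) (ψp a) = 0 := fun b a => by
    rw [sympForm_swap, hqm, neg_zero]
  have hpm' : ∀ b a, Cfsg.sympForm d F (φm b) (φp a) = 0 := fun b a => by
    rw [sympForm_swap, hpm, neg_zero]
  have hGf : ∀ u v, Cfsg.sympForm d F (G u) (G v) = Cfsg.sympForm d F u v := by
    intro u v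
    obtain ⟨a, b, rfl⟩ := hsurj' u
    obtain ⟨a', b', rfl⟩ := hsurj' v
    rw [hGa, hGa]
    simp only [sympForm_add_left, sympForm_add_right, hfp, hfm, hpm, hpm', hgp, hgm, hqm, hqm']
  obtain ⟨g, hgS, hgv⟩ := spinv_gl_of_equiv d G hGf
  refine ⟨g, hgS, ?_⟩
  -- x g = g y
  have hcomm : (x : Matrix (Fin d ⊕ Fin d) (Fin d ⊕ Fin d) F) * (g : Matrix (Fin d ⊕ Fin d) (Fin d ⊕ Fin d) F) =
      (g : Matrix (Fin d ⊕ Fin d) (Fin d ⊕ Fin d) F) * (y : Matrix (Fin d ⊕ Fin d) (Fin d ⊕ Fin d) F) := by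
    rw [Matrix.ext_iff_mulVec]
    intro v
    obtain ⟨a, b, rfl⟩ := hsurj' v
    rw [← Matrix.mulVec_mulVec, ← Matrix.mulVec_mulVec, hgv, hGa, Matrix.mulVec_add, Matrix.mulVec_add,
      hφp, hφm, hψp, hψm, hgv]
    have : ψp a + -ψm b = ψp a + ψm (-b) := by rw [map_neg]
    rw [this, hGa, map_neg]
  have hxg : x * g = g * y := Units.ext (by rw [Units.val_mul, Units.val_mul, hcomm])
  rw [mul_assoc, hxg, ← mul_assoc, inv_mul_cancel, one_mul]

end Cfsg.Agent.Lib.Helper27.SpInv
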