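import Mathlib
import Cfsg.Prelude.Def_ClassicalGeometry
import Cfsg.Agent.Lib.helper6.SympBasis
import Cfsg.Agent.Lib.Helper27.SPINVCONJ

/-!
# Elements `x` of `Sp_{2d}(F)` with `x² = -1`, `F` finite of odd characteristic: any two are conjugate in `Sp_{2d}(F)`.

`V` is an orthogonal sum of `x`-invariant hyperbolic planes `⟨e, x e⟩` with `f(e, x e) = -1` (`h(v,w) = f(v, x w)` is symmetric and
non-degenerate, `h(αv + βxv) = (α² + β²) h(v)`, and every element of a finite field is a sum of two squares).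
-/

set_option autoImplicit false
set_option linter.unusedSectionVars false
set_option linter.unusedVariables false

namespace Cfsg.Agent.Lib.Helper27.SpInv

open Matrix Module Polynomial Cfsg.Agent.Lib.helper6 Cfsg.Agent.Lib.helper6.SB

variable {F : Type*} [Field F]

/-- every element of a finite field of odd characteristic is a sum of two squares. -/
theorem spinv_two_squares [Fintype F] (h2 : (2 : F) ≠ 0) (x : F) : ∃ a b : F, a ^ 2 + b ^ 2 = x := by
  classical
  have hodd : Fintype.card F % 2 = 1 := by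
    apply FiniteField.odd_card_of_char_ne_two
    intro h
    apply h2
    have := ringChar.Nat.cast_ringChar (R := F)
    rw [h] at this
    exact_mod_cast this
  let f : F[X] := X ^ 2
  let g : F[X] := X ^ 2 - C x
  obtain ⟨a, b, hab⟩ := FiniteField.exists_root_sum_quadratic (f := f) (g := g)
    (degree_X_pow 2) (degree_X_pow_sub_C (by decide) _) hodd
  refine ⟨a, b, ?_⟩
  rw [← sub_eq_zero]
  simpa only [f, g, eval_C, eval_X, eval_pow, eval_sub, ← add_sub_assoc] using hab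

/-- the standard complex structure `e_i ↦ f_i ↦ -e_i` of the standard symplectic space. -/
def sstd (k : ℕ) : (Fin k ⊕ Fin k → F) →ₗ[F] (Fin k ⊕ Fin k → F) where
  toFun z := Sum.elim (fun i => -z (Sum.inr i)) (fun i => z (Sum.inl i))
  map_add' x y := by
    funext s
    rcases s with i | i
    · simp only [Sum.elim_inl, Pi.add_apply, neg_add]
    · simp only [Sum.elim_inr, Pi.add_apply]
  map_smul' c x := by
    funext s
    rcases s with i | i
    · simp only [Sum.elim_inl, Pi.smul_apply, smul_eq_mul, RingHom.id_apply, mul_neg]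
    · simp only [Sum.elim_inr, Pi.smul_apply, smul_eq_mul, RingHom.id_apply]

theorem sstd_inl (k : ℕ) (z : Fin k ⊕ Fin k → F) (i : Fin k) : sstd k z (Sum.inl i) = -z (Sum.inr i) := rfl

theorem sstd_inr (k : ℕ) (z : Fin k ⊕ Fin k → F) (i : Fin k) : sstd k z (Sum.inr i) = z (Sum.inl i) := rfl

theorem sstd_rho (k : ℕ) (z : Fin (k + 1) ⊕ Fin (k + 1) → F) : rho k (sstd (k + 1) z) = sstd k (rho k z) := by
  funext s
  rcases s with i | i
  · rw [rho_inl, sstd_inl, sstd_inl, rho_inr]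
  · rw [rho_inr, sstd_inr, sstd_inr, rho_inl]

/-- equivariant parametrisation of an `M`-invariant non-degenerate subspace, `M² = -1`. -/
theorem sqneg_param [Fintype F] (h2 : (2 : F) ≠ 0) (m : ℕ)
    (M : Matrix (Fin m ⊕ Fin m) (Fin m ⊕ Fin m) F) (hMM : ∀ v, M *ᵥ (M *ᵥ v) = -v)
    (hMf : ∀ u v, Cfsg.sympForm m F (M *ᵥ u) (M *ᵥ v) = Cfsg.sympForm m F u v) :
    ∀ (d : ℕ) (W : Submodule F (Fin m ⊕ Fin m → F)), Module.finrank F W = d →
      (∀ w ∈ W, M *ᵥ w ∈ W) →
      (∀ u ∈ W, (∀ v ∈ W, Cfsg.sympForm m F u v = 0) → u = 0) →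
      ∃ (k : ℕ) (φ : (Fin k ⊕ Fin k → F) →ₗ[F] (Fin m ⊕ Fin m → F)), LinearMap.range φ = W ∧
        (∀ x y, Cfsg.sympForm m F (φ x) (φ y) = Cfsg.sympForm k F x y) ∧
        ∀ z, M *ᵥ φ z = φ (sstd k z) := by
  intro d
  induction d using Nat.strong_induction_on with
  | _ d ih =>
  intro W hd hWM hW
  by_cases hbot : W = ⊥
  · refine ⟨0, 0, ?_, ?_, ?_⟩
    · rw [LinearMap.range_zero, hbot]
    · intro x y
      rw [sympForm_zero_dim]
      simp [sympForm_zero_left]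
    · intro z
      simp
  -- the symmetric form h(v,w) = f(v, M w)
  have hsym : ∀ v w, Cfsg.sympForm m F w (M *ᵥ v) = Cfsg.sympForm m F v (M *ᵥ w) := by
    intro v w
    have h1 := hMf w (M *ᵥ v)
    rw [hMM, sympForm_neg_right] at h1
    rw [sympForm_swap _ v (M *ᵥ w)]
    linear_combination -h1
  -- a vector with h(v,v) ≠ 0
  obtain ⟨v, hvW, hv⟩ : ∃ v ∈ W, Cfsg.sympForm m F v (M *ᵥ v) ≠ 0 := by
    obtain ⟨e, heW, he0⟩ := Submodule.exists_mem_ne_zero_of_ne_bot hbot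
    obtain ⟨f0, hf0W, hef0⟩ : ∃ f0 ∈ W, Cfsg.sympForm m F e f0 ≠ 0 := by
      by_contra h
      push Not at h
      exact he0 (hW e heW h)
    set w := -(M *ᵥ f0) with hw
    have hwW : w ∈ W := W.neg_mem (hWM f0 hf0W)
    have hMw : M *ᵥ w = f0 := by rw [hw, Matrix.mulVec_neg, hMM, neg_neg]
    by_contra hcon
    push Not at hcon
    have h1 := hcon e heW
    have h3 := hcon w hwW
    have h4 := hcon (e + w) (W.add_mem heW hwW)
    rw [Matrix.mulVec_add, sympForm_add_left, sympForm_add_right, sympForm_add_right, h1, h3,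
      hsym e w, hMw] at h4
    apply hef0
    have : (2 : F) * Cfsg.sympForm m F e f0 = 0 := by linear_combination h4
    rcases mul_eq_zero.mp this with h | h
    · exact absurd h h2
    · exact h
  set c := Cfsg.sympForm m F v (M *ᵥ v) with hc
  obtain ⟨α, β, hαβ⟩ := spinv_two_squares h2 (-c⁻¹)
  set e : Fin m ⊕ Fin m → F := α • v + β • (M *ᵥ v) with he
  set f : Fin m ⊕ Fin m → F := M *ᵥ e with hf
  have heW : e ∈ W := W.add_mem (W.smul_mem _ hvW) (W.smul_mem _ (hWM v hvW))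
  have hfW : f ∈ W := hWM e heW
  have hfe' : f = α • (M *ᵥ v) - β • v := by
    rw [hf, he, Matrix.mulVec_add, Matrix.mulVec_smul, Matrix.mulVec_smul, hMM, smul_neg, sub_eq_add_neg]
  have hMf' : M *ᵥ f = -e := by rw [hf, hMM]
  have hvv : Cfsg.sympForm m F v v = 0 := sympForm_self m v
  have hMvMv : Cfsg.sympForm m F (M *ᵥ v) (M *ᵥ v) = 0 := sympForm_self m _
  have hMvv : Cfsg.sympForm m F (M *ᵥ v) v = -c := by rw [sympForm_swap, ← hc]
  have hef : Cfsg.sympForm m F e f = -1 := by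
    rw [hfe', he]
    simp only [sympForm_add_left, sympForm_sub_right, sympForm_smul_left, sympForm_smul_right, hvv, hMvMv,
      hMvv, ← hc]
    have : (α ^ 2 + β ^ 2) * c = -1 := by
      rw [hαβ]
      field_simp
    linear_combination this
  have hfe : Cfsg.sympForm m F f e = 1 := by
    rw [sympForm_swap, hef, neg_neg]
  have hee : Cfsg.sympForm m F e e = 0 := sympForm_self m e
  have hff : Cfsg.sympForm m F f f = 0 := sympForm_self m f
  set W' := perp2 m W e f with hW'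
  have hW'le : W' ≤ W := fun w hw => hw.1
  have hlt : W' < W := by
    rw [lt_iff_le_and_ne]
    refine ⟨hW'le, ?_⟩
    intro heq
    have : e ∈ W' := by rw [heq]; exact heW
    have h1 := this.2.2
    rw [hef] at h1
    exact (neg_ne_zero.mpr one_ne_zero) h1
  have hW'M : ∀ w ∈ W', M *ᵥ w ∈ W' := by
    intro w hw
    refine ⟨hWM w hw.1, ?_, ?_⟩
    · have h1 := hMf (M *ᵥ w) e
      rw [hMM, ← hf, sympForm_neg_left, hw.2.2, neg_zero] at h1
      exact h1.symm
    · rw [hf, hMf, hw.2.1]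
  have hdecomp : ∀ w ∈ W, w - (-(Cfsg.sympForm m F w f)) • e - (Cfsg.sympForm m F w e) • f ∈ W' := by
    intro w hw
    refine ⟨W.sub_mem (W.sub_mem hw (W.smul_mem _ heW)) (W.smul_mem _ hfW), ?_, ?_⟩
    · rw [sympForm_sub_left, sympForm_sub_left, sympForm_smul_left, sympForm_smul_left, hee, hfe]
      ring
    · rw [sympForm_sub_left, sympForm_sub_left, sympForm_smul_left, sympForm_smul_left, hef, hff]
      ring
  have hW'nd : ∀ u ∈ W', (∀ v ∈ W', Cfsg.sympForm m F u v = 0) → u = 0 := by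
    intro u hu huv
    apply hW u hu.1
    intro w hw
    have h1 := huv _ (hdecomp w hw)
    rw [sympForm_sub_right, sympForm_sub_right, sympForm_smul_right, sympForm_smul_right, hu.2.1, hu.2.2] at h1
    linear_combination h1
  obtain ⟨k, φk, hφkr, hφkf, hφkM⟩ := ih (Module.finrank F W')
    (by rw [← hd]; exact Submodule.finrank_lt_finrank_of_lt hlt) W' rfl hW'M hW'nd
  have hφkW' : ∀ z, φk z ∈ W' := fun z => by rw [← hφkr]; exact LinearMap.mem_range_self φk z
  let φ : (Fin (k + 1) ⊕ Fin (k + 1) → F) →ₗ[F] (Fin m ⊕ Fin m → F) :=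
    (LinearMap.proj (Sum.inl (Fin.last k))).smulRight e + (LinearMap.proj (Sum.inr (Fin.last k))).smulRight f
      + φk ∘ₗ rho k
  have hφ : ∀ x, φ x = x (Sum.inl (Fin.last k)) • e + x (Sum.inr (Fin.last k)) • f + φk (rho k x) := fun x => rfl
  refine ⟨k + 1, φ, ?_, ?_, ?_⟩
  · apply le_antisymm
    · rintro _ ⟨x, rfl⟩
      rw [hφ]
      exact W.add_mem (W.add_mem (W.smul_mem _ heW) (W.smul_mem _ hfW)) (hW'le (hφkW' _))
    · intro w hw
      have h1 := hdecomp w hw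
      rw [← hφkr] at h1
      obtain ⟨z, hz⟩ := h1
      let x : Fin (k + 1) ⊕ Fin (k + 1) → F := fun s =>
        Sum.elim (Fin.lastCases (-(Cfsg.sympForm m F w f)) (fun i => z (Sum.inl i)))
          (Fin.lastCases (Cfsg.sympForm m F w e) (fun i => z (Sum.inr i))) s
      have hx1 : x (Sum.inl (Fin.last k)) = -(Cfsg.sympForm m F w f) := by simp [x]
      have hx2 : x (Sum.inr (Fin.last k)) = Cfsg.sympForm m F w e := by simp [x]
      have hx3 : rho k x = z := by
        ext s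
        rcases s with i | i
        · rw [rho_inl]; simp [x]
        · rw [rho_inr]; simp [x]
      refine ⟨x, ?_⟩
      rw [hφ, hx1, hx2, hx3, hz]
      abel
  · intro x y
    rw [sympForm_succ, hφ, hφ, ← hφkf]
    have hx := hφkW' (rho k x)
    have hy := hφkW' (rho k y)
    have hy1 : Cfsg.sympForm m F e (φk (rho k y)) = 0 := by rw [sympForm_swap, hy.2.1, neg_zero]
    have hy2 : Cfsg.sympForm m F f (φk (rho k y)) = 0 := by rw [sympForm_swap, hy.2.2, neg_zero]
    simp only [sympForm_add_left, sympForm_add_right, sympForm_smul_left, sympForm_smul_right, hee, hff, hef, hfe,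
      hx.2.1, hx.2.2, hy1, hy2]
    ring
  · intro z
    rw [hφ, hφ, Matrix.mulVec_add, Matrix.mulVec_add, Matrix.mulVec_smul, Matrix.mulVec_smul, ← hf, hMf',
      hφkM, sstd_rho, sstd_inl, sstd_inr, smul_neg, neg_smul]
    abel

/-- two elements of `Sp_{2d}(F)` (`F` finite, `2 ≠ 0`) with square `-1` are conjugate in `Sp_{2d}(F)`. -/
theorem sp_sqneg_conj [Fintype F] (h2 : (2 : F) ≠ 0) (d : ℕ) (x y : Matrix.GeneralLinearGroup (Fin d ⊕ Fin d) F)
    (hx : x ∈ Cfsg.spGL d F) (hy : y ∈ Cfsg.spGL d F)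
    (hx2 : (x : Matrix (Fin d ⊕ Fin d) (Fin d ⊕ Fin d) F) * (x : Matrix (Fin d ⊕ Fin d) (Fin d ⊕ Fin d) F) = -1)
    (hy2 : (y : Matrix (Fin d ⊕ Fin d) (Fin d ⊕ Fin d) F) * (y : Matrix (Fin d ⊕ Fin d) (Fin d ⊕ Fin d) F) = -1) :
    ∃ g ∈ Cfsg.spGL d F, g⁻¹ * x * g = y := by
  classical
  have hxf : ∀ u v, Cfsg.sympForm d F ((x : Matrix (Fin d ⊕ Fin d) (Fin d ⊕ Fin d) F) *ᵥ u)
      ((x : Matrix (Fin d ⊕ Fin d) (Fin d ⊕ Fin d) F) *ᵥ v) = Cfsg.sympForm d F u v := hx
  have hyf : ∀ u v, Cfsg.sympForm d F ((y : Matrix (Fin d ⊕ Fin d) (Fin d ⊕ Fin d) F) *ᵥ u)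
      ((y : Matrix (Fin d ⊕ Fin d) (Fin d ⊕ Fin d) F) *ᵥ v) = Cfsg.sympForm d F u v := hy
  have hxx : ∀ v, (x : Matrix (Fin d ⊕ Fin d) (Fin d ⊕ Fin d) F) *ᵥ
      ((x : Matrix (Fin d ⊕ Fin d) (Fin d ⊕ Fin d) F) *ᵥ v) = -v := by
    intro v
    rw [Matrix.mulVec_mulVec, hx2, Matrix.neg_mulVec, Matrix.one_mulVec]
  have hyy : ∀ v, (y : Matrix (Fin d ⊕ Fin d) (Fin d ⊕ Fin d) F) *ᵥ
      ((y : Matrix (Fin d ⊕ Fin d) (Fin d ⊕ Fin d) F) *ᵥ v) = -v := by
    intro v
    rw [Matrix.mulVec_mulVec, hy2, Matrix.neg_mulVec, Matrix.one_mulVec]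
  have hnd : ∀ u ∈ (⊤ : Submodule F (Fin d ⊕ Fin d → F)),
      (∀ v ∈ (⊤ : Submodule F (Fin d ⊕ Fin d → F)), Cfsg.sympForm d F u v = 0) → u = 0 := by
    intro u _ h
    by_contra hne
    obtain ⟨w, hw⟩ := sympForm_nondeg d u hne
    exact hw (h w Submodule.mem_top)
  obtain ⟨k, φ, hφr, hφf, hφM⟩ := sqneg_param h2 d _ hxx hxf _ ⊤ rfl (fun _ _ => Submodule.mem_top) hnd
  obtain ⟨l, ψ, hψr, hψf, hψM⟩ := sqneg_param h2 d _ hyy hyf _ ⊤ rfl (fun _ _ => Submodule.mem_top) hnd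
  have hk := finrank_of_param φ hφf ⊤ hφr
  have hl := finrank_of_param ψ hψf ⊤ hψr
  have hkl : k = l := by omega
  subst hkl
  have hbijX : Function.Bijective φ :=
    ⟨param_injective φ hφf, LinearMap.range_eq_top.mp hφr⟩
  have hbijY : Function.Bijective ψ :=
    ⟨param_injective ψ hψf, LinearMap.range_eq_top.mp hψr⟩
  set ΦX := LinearEquiv.ofBijective φ hbijX with hΦX
  set ΦY := LinearEquiv.ofBijective ψ hbijY with hΦY
  set G : (Fin d ⊕ Fin d → F) ≃ₗ[F] (Fin d ⊕ Fin d → F) := ΦY.symm.trans ΦX with hGdef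
  have hGa : ∀ z, G (ψ z) = φ z := by
    intro z
    have : ψ z = ΦY z := by rw [hΦY, LinearEquiv.ofBijective_apply]
    rw [hGdef, LinearEquiv.trans_apply, this, LinearEquiv.symm_apply_apply, hΦX, LinearEquiv.ofBijective_apply]
  have hGf : ∀ u v, Cfsg.sympForm d F (G u) (G v) = Cfsg.sympForm d F u v := by
    intro u v
    obtain ⟨a, rfl⟩ := hbijY.2 u
    obtain ⟨b, rfl⟩ := hbijY.2 v
    rw [hGa, hGa, hφf, hψf]
  obtain ⟨g, hgS, hgv⟩ := spinv_gl_of_equiv d G hGf
  refine ⟨g, hgS, ?_⟩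
  have hcomm : (x : Matrix (Fin d ⊕ Fin d) (Fin d ⊕ Fin d) F) * (g : Matrix (Fin d ⊕ Fin d) (Fin d ⊕ Fin d) F) =
      (g : Matrix (Fin d ⊕ Fin d) (Fin d ⊕ Fin d) F) * (y : Matrix (Fin d ⊕ Fin d) (Fin d ⊕ Fin d) F) := by
    rw [Matrix.ext_iff_mulVec]
    intro v
    obtain ⟨a, rfl⟩ := hbijY.2 v
    rw [← Matrix.mulVec_mulVec, ← Matrix.mulVec_mulVec, hgv, hGa, hφM, hψM, hgv, hGa]
  have hxg : x * g = g * y := Units.ext (by rw [Units.val_mul, Units.val_mul, hcomm])
  rw [mul_assoc, hxg, ← mul_assoc, inv_mul_cancel, one_mul]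

end Cfsg.Agent.Lib.Helper27.SpInv
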