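import Mathlib
import Cfsg.Prelude.Def_GeometricClasses
import Cfsg.Agent.Lib.Helper27.ASC.Defs
import Cfsg.Agent.Lib.Lead.ASCU.Defs

/-!
# Project ASCU, piece UES6 : the field dichotomy for the Heisenberg case inside `GU`.
-/

set_option autoImplicit false
set_option linter.unusedVariables false

namespace Cfsg.Agent.Lib.Lead.ASCU

open Cfsg Cfsg.Geo Cfsg.Agent.Lib.Helper27.ASC
open scoped MatrixGroups Matrix

variable {n : ℕ} {F : Type*} [Field F] [Fintype F]

/-- a subfield of index `ℓ` containing all fixed points of the `d`-th power of the Frobenius, `|F| = p ^ (d ℓ)` -/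
theorem ascuues6_subfield (p : ℕ) [hp : Fact p.Prime] [CharP F p] {e d ℓ : ℕ}
    (hcard : Fintype.card F = p ^ e) (hℓ : 0 < ℓ) (he : e = d * ℓ) :
    ∃ F₀ : Subfield F, Fintype.card F = Nat.card F₀ ^ ℓ ∧ ∀ a : F, a ^ p ^ d = a → a ∈ F₀ := by
  classical
  let _ : Algebra (ZMod p) F := ZMod.algebra F p
  set σ := FiniteField.frobeniusAlgEquivOfAlgebraic (ZMod p) F with hσ
  have hord : orderOf σ = Module.finrank (ZMod p) F :=
    FiniteField.orderOf_frobeniusAlgEquivOfAlgebraic (ZMod p) F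
  have hfr : Module.finrank (ZMod p) F = e := by
    have h1 := FiniteField.pow_finrank_eq_card p F
    rw [hcard] at h1
    exact Nat.pow_right_injective hp.out.two_le h1
  have hd0 : e ≠ 0 → True := fun _ => trivial
  have he0 : 0 < e := by rw [← hfr]; exact Module.finrank_pos
  have hdpos : 0 < d := by
    rcases Nat.eq_zero_or_pos d with h | h
    · rw [h, zero_mul] at he; omega
    · exact h
  have hordd : orderOf (σ ^ d) = ℓ := by
    rw [orderOf_pow, hord, hfr, he, Nat.gcd_eq_right (dvd_mul_right d ℓ),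
      Nat.mul_div_cancel_left _ hdpos]
  let H : Subgroup (F ≃ₐ[ZMod p] F) := Subgroup.zpowers (σ ^ d)
  have hHcard : Nat.card H = ℓ := by
    rw [Nat.card_zpowers, hordd]
  let K : IntermediateField (ZMod p) F := IntermediateField.fixedField H
  have hKfr : Module.finrank K F = ℓ := by
    rw [IntermediateField.finrank_fixedField_eq_card, hHcard]
  refine ⟨K.toSubfield, ?_, ?_⟩
  · have h1 : Fintype.card F = Fintype.card K ^ Module.finrank K F :=
      Module.card_eq_pow_finrank (K := K) (V := F)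
    rw [h1, hKfr, Nat.card_eq_fintype_card]
    rfl
  · intro a ha
    show a ∈ K
    rw [IntermediateField.mem_fixedField_iff]
    intro f hf
    obtain ⟨k, rfl⟩ := Subgroup.mem_zpowers_iff.mp hf
    have h1 : (σ ^ d) a = a := by
      rw [AlgEquiv.coe_pow, hσ, FiniteField.coe_frobeniusAlgEquivOfAlgebraic_iterate, ZMod.card]
      exact ha
    have h2 : ∀ g : F ≃ₐ[ZMod p] F, g a = a → ∀ k : ℤ, (g ^ k) a = a := by
      intro g hg k
      have hmem : g ∈ MulAction.stabilizer (F ≃ₐ[ZMod p] F) a := by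
        rw [MulAction.mem_stabilizer_iff]; exact hg
      have := (MulAction.stabilizer (F ≃ₐ[ZMod p] F) a).zpow_mem hmem k
      rw [MulAction.mem_stabilizer_iff] at this
      exact this
    exact h2 _ h1 k

omit [Fintype F] in
/-- the commutator scalar of Heisenberg data inside `GU` has norm one -/
theorem ascuues6_norm_one {r : ℕ} (hr : r.Prime) (q : ℕ)
    {N : Subgroup (GL (Fin r) F)} {x y : GL (Fin r) F} {ω : F} (hd : HeisData r N x y ω)
    (hNU : N ≤ GU r F q) : ω ^ (q + 1) = 1 := by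
  classical
  set z : GL (Fin r) F := x * y * (y * x)⁻¹ with hz
  have hzN : z ∈ N := N.mul_mem (N.mul_mem hd.hx hd.hy) (N.inv_mem (N.mul_mem hd.hy hd.hx))
  have hzval : (z : Matrix (Fin r) (Fin r) F) = ω • (1 : Matrix (Fin r) (Fin r) F) := by
    have h1 : ((x * y : GL (Fin r) F) : Matrix (Fin r) (Fin r) F) =
        ω • ((y * x : GL (Fin r) F) : Matrix (Fin r) (Fin r) F) := by
      rw [Units.val_mul, Units.val_mul]; exact hd.comm
    rw [hz, Units.val_mul, h1, Matrix.smul_mul, ← Units.val_mul, mul_inv_cancel, Units.val_one]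
  have hzU := (mem_GU_iff q z).mp (hNU hzN)
  let i0 : Fin r := ⟨0, hr.pos⟩
  have h2 := hzU (Pi.single i0 1) (Pi.single i0 1)
  rw [hzval] at h2
  have h3 : (ω • (1 : Matrix (Fin r) (Fin r) F)) *ᵥ (Pi.single i0 (1 : F)) = ω • Pi.single i0 (1 : F) := by
    rw [Matrix.smul_mulVec, Matrix.one_mulVec]
  rw [h3] at h2
  unfold hermForm at h2
  rw [Finset.sum_eq_single i0, Finset.sum_eq_single i0] at h2
  · simpa [pow_succ, mul_comm] using h2
  · intro b _ hb
    simp [Pi.single_eq_of_ne hb]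
  · intro h; exact absurd (Finset.mem_univ _) h
  · intro b _ hb
    simp [Pi.single_eq_of_ne hb]
  · intro h; exact absurd (Finset.mem_univ _) h

/-- UES6 -/
theorem uheis_field_cases {r : ℕ} (hr : r.Prime) (hr2 : r ≠ 2) (q : ℕ) (hF : Fintype.card F = q ^ 2)
    {N : Subgroup (GL (Fin r) F)} {x y : GL (Fin r) F} {ω : F} (hd : HeisData r N x y ω)
    (hNU : N ≤ GU r F q) :
    (∃ p e : ℕ, r ≠ p ∧ IsMinimalFieldFor r p e F) ∨
    (∃ (F₀ : Subfield F) (ℓ : ℕ), ℓ.Prime ∧ Odd ℓ ∧ Fintype.card F = Nat.card F₀ ^ ℓ ∧ ω ∈ F₀) := by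
  classical
  have hnorm : ω ^ (q + 1) = 1 := ascuues6_norm_one hr q hd hNU
  have hω1 := hd.hω1
  have hωr := hd.hωr
  obtain ⟨p, hchar⟩ := CharP.exists F
  have := hchar
  obtain ⟨e, hpp, hcard⟩ := FiniteField.card F p
  have : Fact p.Prime := ⟨hpp⟩
  have hp1 : 1 < p := hpp.one_lt
  have : Fact r.Prime := ⟨hr⟩
  have hord : orderOf ω = r := orderOf_eq_prime hωr hω1
  have hω0 : ω ≠ 0 := by
    intro h0
    rw [h0, zero_pow hr.ne_zero] at hωr
    exact zero_ne_one hωr
  have hre : r ∣ p ^ (e : ℕ) - 1 := by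
    rw [← hord, ← hcard]
    exact orderOf_dvd_of_pow_eq_one (FiniteField.pow_card_sub_one_eq_one ω hω0)
  have hrq : r ∣ q + 1 := by
    rw [← hord]; exact orderOf_dvd_of_pow_eq_one hnorm
  have hrp : r ≠ p := by
    rintro rfl
    have h1 : r ∣ r ^ (e : ℕ) := dvd_pow_self r e.pos.ne'
    have h2 : 1 ≤ r ^ (e : ℕ) := Nat.one_le_pow _ _ (by omega)
    have h3 : r ∣ 1 := by
      have := (Nat.dvd_sub h1 hre)
      rwa [Nat.sub_sub_self h2] at this
    exact hr.one_lt.ne' (Nat.dvd_one.mp h3)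
  -- `q = p ^ k`, `e = 2 k`
  have hqe : q ^ 2 = p ^ (e : ℕ) := by rw [← hF, hcard]
  obtain ⟨k, hke, hqk⟩ : ∃ k ≤ (e : ℕ), q = p ^ k :=
    (Nat.dvd_prime_pow hpp).mp (hqe ▸ dvd_pow_self q two_ne_zero)
  have he2 : (e : ℕ) = 2 * k := by
    rw [hqk, ← pow_mul] at hqe
    have := Nat.pow_right_injective hpp.two_le hqe
    omega
  have hk0 : 0 < k := by have := e.pos; omega
  -- divisibility in terms of `ZMod r`
  have hiff : ∀ d : ℕ, r ∣ p ^ d - 1 ↔ (p : ZMod r) ^ d = 1 := by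
    intro d
    have h1 : 1 ≤ p ^ d := Nat.one_le_pow _ _ (by omega)
    rw [← ZMod.natCast_eq_zero_iff, Nat.cast_sub h1, Nat.cast_pow, Nat.cast_one, sub_eq_zero]
  have hpow_of_dvd : ∀ m : ℕ, r ∣ m → ω ^ m = 1 := by
    intro m hm
    obtain ⟨k, rfl⟩ := hm
    rw [pow_mul, hωr, one_pow]
  set o := orderOf (p : ZMod r) with ho
  have hoe : o ∣ (e : ℕ) := orderOf_dvd_of_pow_eq_one ((hiff e).mp hre)
  have hopos : 0 < o := Nat.pos_of_dvd_of_pos hoe e.pos
  have hok : ¬ o ∣ k := by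
    intro hok
    have h1 : r ∣ p ^ k - 1 := (hiff k).mpr (orderOf_dvd_iff_pow_eq_one.mp hok)
    have h2 : r ∣ p ^ k + 1 := hqk ▸ hrq
    have h3 : 1 ≤ p ^ k := Nat.one_le_pow _ _ (by omega)
    have h4 : r ∣ 2 := by
      have := Nat.dvd_sub h2 h1
      have h5 : p ^ k + 1 - (p ^ k - 1) = 2 := by omega
      rwa [h5] at this
    exact hr2 ((Nat.prime_dvd_prime_iff_eq hr Nat.prime_two).mp h4)
  by_cases hoeq : o = e
  · left
    refine ⟨p, e, hrp, hpp, hchar, hcard, hre, ?_⟩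
    intro d hd0 hde hdv
    have h1 : o ∣ d := orderOf_dvd_of_pow_eq_one ((hiff d).mp hdv)
    have := Nat.le_of_dvd hd0 h1
    omega
  · right
    obtain ⟨m, hm⟩ := hoe
    have hm1 : m ≠ 1 := by
      rintro rfl
      rw [mul_one] at hm
      exact hoeq hm.symm
    have hmodd : Odd m := by
      rcases Nat.even_or_odd m with hev | hodd
      · exfalso
        obtain ⟨m', hm'⟩ := hev
        apply hok
        refine ⟨m', ?_⟩
        have : 2 * k = o * (m' + m') := by rw [← he2, hm, hm']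
        have h2 : 2 * k = 2 * (o * m') := by rw [this]; ring
        omega
      · exact hodd
    obtain ⟨ℓ, hℓ, hℓm⟩ := Nat.exists_prime_and_dvd hm1
    have hℓodd : Odd ℓ := by
      rcases hℓ.eq_two_or_odd' with h | h
      · exfalso
        rw [h] at hℓm
        have := hmodd
        rw [← Nat.not_even_iff_odd] at this
        exact this (even_iff_two_dvd.mpr hℓm)
      · exact h
    obtain ⟨m', hm'⟩ := hℓm
    have hed : (e : ℕ) = (o * m') * ℓ := by rw [hm, hm']; ring
    obtain ⟨F₀, hF₀card, hF₀mem⟩ := ascuues6_subfield (F := F) p hcard hℓ.pos hed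
    refine ⟨F₀, ℓ, hℓ, hℓodd, hF₀card, hF₀mem ω ?_⟩
    have h1 : r ∣ p ^ (o * m') - 1 :=
      (hiff _).mpr (orderOf_dvd_iff_pow_eq_one.mp (dvd_mul_right o m'))
    have hpd : 1 ≤ p ^ (o * m') := Nat.one_le_pow _ _ (by omega)
    have : ω ^ (p ^ (o * m') - 1 + 1) = ω := by
      rw [pow_succ, hpow_of_dvd _ h1, one_mul]
    rwa [Nat.sub_add_cancel hpd] at this

end Cfsg.Agent.Lib.Lead.ASCU
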