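import Mathlib
import Cfsg.Prelude.Def_GeometricClasses

/-!
# Matrix-algebra lemmas for the general Aschbacher analysis (project ASG)

`matalg_tensor` : a unital algebra homomorphism `M_d(F) → M_n(F)` is `a ↦ a ⊗ 1` in a suitable basis.
-/

set_option autoImplicit false
set_option linter.unusedVariables false
set_option linter.unusedSectionVars false

namespace Cfsg.Agent.Lib.Helper27.MatAlg

open Cfsg Cfsg.Geo
open scoped MatrixGroups Matrix Kronecker

variable {F : Type*} [Field F] {d n : ℕ}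

/-- the images of the matrix units -/
noncomputable def mu (φ : Matrix (Fin d) (Fin d) F →ₐ[F] Matrix (Fin n) (Fin n) F) (i j : Fin d) :
    Matrix (Fin n) (Fin n) F := φ (Matrix.single i j 1)

theorem mu_mul_same (φ : Matrix (Fin d) (Fin d) F →ₐ[F] Matrix (Fin n) (Fin n) F) (i j l : Fin d) :
    mu φ i j * mu φ j l = mu φ i l := by
  unfold mu
  rw [← map_mul, Matrix.single_mul_single_same, mul_one]

theorem mu_mul_ne (φ : Matrix (Fin d) (Fin d) F →ₐ[F] Matrix (Fin n) (Fin n) F) (i j k l : Fin d)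
    (h : j ≠ k) : mu φ i j * mu φ k l = 0 := by
  unfold mu
  rw [← map_mul, Matrix.single_mul_single_of_ne _ _ _ _ h, map_zero]

theorem sum_mu (φ : Matrix (Fin d) (Fin d) F →ₐ[F] Matrix (Fin n) (Fin n) F) :
    ∑ i, mu φ i i = 1 := by
  unfold mu
  rw [← map_sum]
  have : ∑ i : Fin d, Matrix.single i i (1 : F) = 1 := by
    ext a b
    rw [Matrix.sum_apply]
    by_cases hab : a = b
    · subst hab
      rw [Matrix.one_apply_eq, Finset.sum_eq_single a]
      · simp
      · intro c _ hc; simp [Matrix.single, hc]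
      · intro h; exact absurd (Finset.mem_univ _) h
    · rw [Matrix.one_apply_ne hab]
      apply Finset.sum_eq_zero
      intro c _
      by_cases hc : c = a
      · subst hc; simp [Matrix.single, hab]
      · simp [Matrix.single, hc]
  rw [this, map_one]

theorem phi_eq_sum (φ : Matrix (Fin d) (Fin d) F →ₐ[F] Matrix (Fin n) (Fin n) F)
    (a : Matrix (Fin d) (Fin d) F) : φ a = ∑ i, ∑ j, a i j • mu φ i j := by
  unfold mu
  conv_lhs => rw [Matrix.matrix_eq_sum_single a]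
  rw [map_sum]
  refine Finset.sum_congr rfl fun i _ => ?_
  rw [map_sum]
  refine Finset.sum_congr rfl fun j _ => ?_
  rw [← map_smul, Matrix.smul_single, smul_eq_mul, mul_one]

section basis

variable (φ : Matrix (Fin d) (Fin d) F →ₐ[F] Matrix (Fin n) (Fin n) F) (i₀ : Fin d)

/-- `V₁ = E_{i₀ i₀} V` -/
noncomputable def V1 : Submodule F (Fin n → F) := LinearMap.range (Matrix.toLin' (mu φ i₀ i₀))

theorem mem_V1_iff (x : Fin n → F) : x ∈ V1 φ i₀ ↔ mu φ i₀ i₀ *ᵥ x = x := by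
  unfold V1
  constructor
  · rintro ⟨y, rfl⟩
    rw [Matrix.toLin'_apply, Matrix.mulVec_mulVec, mu_mul_same]
  · intro h
    exact ⟨x, by rw [Matrix.toLin'_apply, h]⟩

/-- the dimension of `V₁` -/
noncomputable def kk : ℕ := Module.finrank F (V1 φ i₀)

/-- a basis of `V₁` -/
noncomputable def ww (j : Fin (kk φ i₀)) : Fin n → F :=
  ((Module.finBasisOfFinrankEq F (V1 φ i₀) rfl) j : Fin n → F)

theorem ww_mem (j : Fin (kk φ i₀)) : ww φ i₀ j ∈ V1 φ i₀ := Subtype.property _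

theorem ww_fix (j : Fin (kk φ i₀)) : mu φ i₀ i₀ *ᵥ ww φ i₀ j = ww φ i₀ j :=
  (mem_V1_iff φ i₀ _).mp (ww_mem φ i₀ j)

theorem ww_li : LinearIndependent F (ww φ i₀) := by
  have h := (Module.finBasisOfFinrankEq F (V1 φ i₀) rfl).linearIndependent
  exact h.map' (V1 φ i₀).subtype (Submodule.ker_subtype _)

theorem ww_span (y : Fin n → F) (hy : y ∈ V1 φ i₀) :
    ∃ c : Fin (kk φ i₀) → F, y = ∑ j, c j • ww φ i₀ j := by
  set b := Module.finBasisOfFinrankEq F (V1 φ i₀) (rfl : Module.finrank F (V1 φ i₀) = kk φ i₀)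
  refine ⟨fun j => b.repr ⟨y, hy⟩ j, ?_⟩
  have h := b.sum_repr ⟨y, hy⟩
  have h2 := congrArg (fun z : V1 φ i₀ => (z : Fin n → F)) h
  simp only [Submodule.coe_sum, Submodule.coe_smul] at h2
  exact h2.symm

/-- the adapted basis -/
noncomputable def vv (p : Fin d × Fin (kk φ i₀)) : Fin n → F := mu φ p.1 i₀ *ᵥ ww φ i₀ p.2

theorem mu_mulVec_vv (l m : Fin d) (p : Fin d × Fin (kk φ i₀)) :
    mu φ l m *ᵥ vv φ i₀ p = if m = p.1 then vv φ i₀ (l, p.2) else 0 := by
  unfold vv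
  rw [Matrix.mulVec_mulVec]
  by_cases h : m = p.1
  · rw [if_pos h, h, mu_mul_same]
  · rw [if_neg h, mu_mul_ne φ l m p.1 i₀ h, Matrix.zero_mulVec]

theorem vv_li : LinearIndependent F (vv φ i₀) := by
  rw [Fintype.linearIndependent_iff]
  intro g hg p
  obtain ⟨l, j⟩ := p
  have h1 := congrArg (fun x => mu φ i₀ l *ᵥ x) hg
  simp only [Matrix.mulVec_sum, Matrix.mulVec_smul, Matrix.mulVec_zero] at h1
  rw [Fintype.sum_prod_type] at h1
  rw [Finset.sum_eq_single l] at h1
  · have h2 : ∑ j' : Fin (kk φ i₀), g (l, j') • ww φ i₀ j' = 0 := by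
      rw [← h1]
      refine Finset.sum_congr rfl fun j' _ => ?_
      rw [mu_mulVec_vv, if_pos rfl]
      show _ = g (l, j') • ((mu φ i₀ i₀) *ᵥ ww φ i₀ j')
      rw [ww_fix]
    exact (Fintype.linearIndependent_iff.mp (ww_li φ i₀)) (fun j' => g (l, j')) h2 j
  · intro i _ hi
    apply Finset.sum_eq_zero
    intro j' _
    rw [mu_mulVec_vv, if_neg (Ne.symm hi), smul_zero]
  · intro h; exact absurd (Finset.mem_univ _) h

theorem vv_span (x : Fin n → F) : x ∈ Submodule.span F (Set.range (vv φ i₀)) := by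
  have h1 : x = ∑ i, mu φ i i *ᵥ x := by
    rw [← Matrix.sum_mulVec, sum_mu, Matrix.one_mulVec]
  rw [h1]
  refine Submodule.sum_mem _ fun i _ => ?_
  have hy : mu φ i₀ i *ᵥ x ∈ V1 φ i₀ := by
    rw [mem_V1_iff, Matrix.mulVec_mulVec, mu_mul_same]
  obtain ⟨c, hc⟩ := ww_span φ i₀ _ hy
  have h2 : mu φ i i *ᵥ x = mu φ i i₀ *ᵥ (mu φ i₀ i *ᵥ x) := by
    rw [Matrix.mulVec_mulVec, mu_mul_same]
  rw [h2, hc, Matrix.mulVec_sum]
  refine Submodule.sum_mem _ fun j _ => ?_
  rw [Matrix.mulVec_smul]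
  apply Submodule.smul_mem
  apply Submodule.subset_span
  exact ⟨(i, j), rfl⟩

theorem card_eq : d * kk φ i₀ = n := by
  have hb : Module.finrank F (Fin n → F) = Fintype.card (Fin d × Fin (kk φ i₀)) :=
    Module.finrank_eq_card_basis (Module.Basis.mk (vv_li φ i₀) (fun x _ => vv_span φ i₀ x))
  rw [Module.finrank_fin_fun, Fintype.card_prod, Fintype.card_fin, Fintype.card_fin] at hb
  exact hb.symm

theorem phi_mulVec_vv (a : Matrix (Fin d) (Fin d) F) (p : Fin d × Fin (kk φ i₀)) :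
    φ a *ᵥ vv φ i₀ p = ∑ l, a l p.1 • vv φ i₀ (l, p.2) := by
  rw [phi_eq_sum, Matrix.sum_mulVec]
  refine Finset.sum_congr rfl fun l _ => ?_
  rw [Matrix.sum_mulVec, Finset.sum_eq_single p.1]
  · rw [Matrix.smul_mulVec, mu_mulVec_vv, if_pos rfl]
  · intro m _ hm
    rw [Matrix.smul_mulVec, mu_mulVec_vv, if_neg hm, smul_zero]
  · intro h; exact absurd (Finset.mem_univ _) h

end basis

/-- ALG1 : a unital algebra homomorphism `M_d(F) → M_n(F)` is `a ↦ a ⊗ 1` in a suitable basis. -/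
theorem matalg_tensor (hd : 0 < d) (φ : Matrix (Fin d) (Fin d) F →ₐ[F] Matrix (Fin n) (Fin n) F) :
    ∃ (k : ℕ) (e : Fin n ≃ Fin d × Fin k) (P : GL (Fin n) F), ∀ a : Matrix (Fin d) (Fin d) F,
      φ a = (P : Matrix (Fin n) (Fin n) F) *
        Matrix.reindex e.symm e.symm (a ⊗ₖ (1 : Matrix (Fin k) (Fin k) F)) *
        ((P⁻¹ : GL (Fin n) F) : Matrix (Fin n) (Fin n) F) := by
  classical
  let i₀ : Fin d := ⟨0, hd⟩
  have hcard : Fintype.card (Fin n) = Fintype.card (Fin d × Fin (kk φ i₀)) := by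
    rw [Fintype.card_fin, Fintype.card_prod, Fintype.card_fin, Fintype.card_fin, card_eq]
  let e : Fin n ≃ Fin d × Fin (kk φ i₀) := Fintype.equivOfCardEq hcard
  let Pmat : Matrix (Fin n) (Fin n) F := Matrix.of fun r x => vv φ i₀ (e x) r
  have hPcol : Pmat.col = vv φ i₀ ∘ e := by
    funext x
    ext r
    rfl
  have hPunit : IsUnit Pmat := by
    rw [← Matrix.linearIndependent_cols_iff_isUnit, hPcol]
    exact (vv_li φ i₀).comp e e.injective
  refine ⟨kk φ i₀, e, hPunit.unit, fun a => ?_⟩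
  have hPval : ((hPunit.unit : GL (Fin n) F) : Matrix (Fin n) (Fin n) F) = Pmat := rfl
  have hPinv : Pmat * ((hPunit.unit⁻¹ : GL (Fin n) F) : Matrix (Fin n) (Fin n) F) = 1 := by
    have h1 : ((hPunit.unit : GL (Fin n) F) : Matrix (Fin n) (Fin n) F) *
        ((hPunit.unit⁻¹ : GL (Fin n) F) : Matrix (Fin n) (Fin n) F) = 1 := by
      rw [← Units.val_mul, mul_inv_cancel]; rfl
    rw [hPval] at h1
    exact h1
  have hmain : φ a * Pmat =
      Pmat * Matrix.reindex e.symm e.symm (a ⊗ₖ (1 : Matrix (Fin (kk φ i₀)) (Fin (kk φ i₀)) F)) := by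
    ext r x
    have h1 : (φ a * Pmat) r x = (φ a *ᵥ vv φ i₀ (e x)) r := by
      rw [Matrix.mul_apply]
      rfl
    rw [h1, phi_mulVec_vv, Matrix.mul_apply]
    rw [← Equiv.sum_comp e.symm]
    simp only [Matrix.reindex_apply, Matrix.submatrix_apply, Equiv.symm_symm, Equiv.apply_symm_apply,
      Matrix.kroneckerMap_apply, Pmat, Matrix.of_apply]
    rw [Fintype.sum_prod_type, Finset.sum_apply]
    refine Finset.sum_congr rfl fun l _ => ?_
    rw [Finset.sum_eq_single (e x).2]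
    · rw [Matrix.one_apply_eq, mul_one, Pi.smul_apply, smul_eq_mul, mul_comm]
    · intro j _ hj
      rw [Matrix.one_apply_ne hj, mul_zero, mul_zero]
    · intro h; exact absurd (Finset.mem_univ _) h
  rw [hPval, ← hmain, Matrix.mul_assoc, hPinv, Matrix.mul_one]


end Cfsg.Agent.Lib.Helper27.MatAlg
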