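import Mathlib
import Cfsg.Prelude.Def_GeometricClasses
import Cfsg.Agent.Lib.Helper27.MatAlg

/-!
# Matrix-algebra lemmas for the general Aschbacher analysis (project ASG), part 2

* `matalg_aut_inner` : Skolem--Noether for `M_d(F)`: every unital algebra endomorphism is inner.
* `matalg_centralizer_kron` : the centraliser of `M_d ⊗ 1` is `1 ⊗ M_k`.
* `matalg_normalizer` : an element of `GL_n(F)` normalising `φ(M_d(F))` lies in the tensor product subgroup.
-/

set_option autoImplicit false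
set_option linter.unusedVariables false
set_option linter.unusedSectionVars false

namespace Cfsg.Agent.Lib.Helper27.MatAlg

open Cfsg Cfsg.Geo
open scoped MatrixGroups Matrix Kronecker

variable {F : Type*} [Field F] {d n : ℕ}

/-- ALG2 (Skolem--Noether for `M_d(F)`) : every unital algebra endomorphism of `M_d(F)` is inner. -/
theorem matalg_aut_inner (α : Matrix (Fin d) (Fin d) F →ₐ[F] Matrix (Fin d) (Fin d) F) :
    ∃ c : GL (Fin d) F, ∀ a : Matrix (Fin d) (Fin d) F,
      α a = (c : Matrix (Fin d) (Fin d) F) * a * ((c⁻¹ : GL (Fin d) F) : Matrix (Fin d) (Fin d) F) := by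
  classical
  rcases Nat.eq_zero_or_pos d with hd0 | hd
  · subst hd0
    exact ⟨1, fun a => Subsingleton.elim _ _⟩
  let i₀ : Fin d := ⟨0, hd⟩
  have hk : kk α i₀ = 1 := by
    have h := card_eq α i₀
    have : d * kk α i₀ = d * 1 := by rw [h, mul_one]
    exact Nat.eq_of_mul_eq_mul_left hd this
  let j₀ : Fin (kk α i₀) := ⟨0, by rw [hk]; exact Nat.one_pos⟩
  let Pmat : Matrix (Fin d) (Fin d) F := Matrix.of fun r i => vv α i₀ (i, j₀) r
  have hPcol : Pmat.col = vv α i₀ ∘ (fun i : Fin d => (i, j₀)) := by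
    funext x
    ext r
    rfl
  have hPunit : IsUnit Pmat := by
    rw [← Matrix.linearIndependent_cols_iff_isUnit, hPcol]
    exact (vv_li α i₀).comp _ (fun a b h => (Prod.mk.inj h).1)
  refine ⟨hPunit.unit, fun a => ?_⟩
  have hPval : ((hPunit.unit : GL (Fin d) F) : Matrix (Fin d) (Fin d) F) = Pmat := rfl
  have hPinv : Pmat * ((hPunit.unit⁻¹ : GL (Fin d) F) : Matrix (Fin d) (Fin d) F) = 1 := by
    have h1 : ((hPunit.unit : GL (Fin d) F) : Matrix (Fin d) (Fin d) F) *
        ((hPunit.unit⁻¹ : GL (Fin d) F) : Matrix (Fin d) (Fin d) F) = 1 := by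
      rw [← Units.val_mul, mul_inv_cancel]; rfl
    rw [hPval] at h1
    exact h1
  have hmain : α a * Pmat = Pmat * a := by
    ext r x
    have h1 : (α a * Pmat) r x = (α a *ᵥ vv α i₀ (x, j₀)) r := by
      rw [Matrix.mul_apply]
      rfl
    rw [h1, phi_mulVec_vv, Matrix.mul_apply, Finset.sum_apply]
    refine Finset.sum_congr rfl fun l _ => ?_
    rw [Pi.smul_apply, smul_eq_mul, mul_comm]
    rfl
  rw [hPval, ← hmain, Matrix.mul_assoc, hPinv, Matrix.mul_one]

/-- entries of `X * (single p q 1 ⊗ 1)` -/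
theorem mul_single_kron_apply {k : ℕ} (X : Matrix (Fin d × Fin k) (Fin d × Fin k) F) (p q : Fin d)
    (x y : Fin d × Fin k) :
    (X * ((Matrix.single p q (1 : F)) ⊗ₖ (1 : Matrix (Fin k) (Fin k) F))) x y =
      if q = y.1 then X x (p, y.2) else 0 := by
  classical
  rw [Matrix.mul_apply, Fintype.sum_prod_type, Finset.sum_eq_single p]
  · rw [Finset.sum_eq_single y.2]
    · rw [Matrix.kroneckerMap_apply, Matrix.one_apply_eq, mul_one]
      by_cases h : q = y.1
      · rw [if_pos h, h, Matrix.single_apply_same, mul_one]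
      · rw [if_neg h]
        have : Matrix.single p q (1 : F) p y.1 = 0 := by
          rw [Matrix.single_apply_of_ne]
          intro hh; exact h hh.2
        rw [this, mul_zero]
    · intro m _ hm
      rw [Matrix.kroneckerMap_apply, Matrix.one_apply_ne hm, mul_zero, mul_zero]
    · intro h; exact absurd (Finset.mem_univ _) h
  · intro l _ hl
    apply Finset.sum_eq_zero
    intro m _
    rw [Matrix.kroneckerMap_apply]
    have : Matrix.single p q (1 : F) l y.1 = 0 := by
      rw [Matrix.single_apply_of_ne]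
      intro hh; exact hl hh.1.symm
    rw [this, zero_mul, mul_zero]
  · intro h; exact absurd (Finset.mem_univ _) h

/-- entries of `(single p q 1 ⊗ 1) * X` -/
theorem single_kron_mul_apply {k : ℕ} (X : Matrix (Fin d × Fin k) (Fin d × Fin k) F) (p q : Fin d)
    (x y : Fin d × Fin k) :
    (((Matrix.single p q (1 : F)) ⊗ₖ (1 : Matrix (Fin k) (Fin k) F)) * X) x y =
      if p = x.1 then X (q, x.2) y else 0 := by
  classical
  rw [Matrix.mul_apply, Fintype.sum_prod_type, Finset.sum_eq_single q]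
  · rw [Finset.sum_eq_single x.2]
    · rw [Matrix.kroneckerMap_apply, Matrix.one_apply_eq, mul_one]
      by_cases h : p = x.1
      · rw [if_pos h, h, Matrix.single_apply_same, one_mul]
      · rw [if_neg h]
        have : Matrix.single p q (1 : F) x.1 q = 0 := by
          rw [Matrix.single_apply_of_ne]
          intro hh; exact h hh.1
        rw [this, zero_mul]
    · intro m _ hm
      rw [Matrix.kroneckerMap_apply, Matrix.one_apply_ne (Ne.symm hm), mul_zero, zero_mul]
    · intro h; exact absurd (Finset.mem_univ _) h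
  · intro l _ hl
    apply Finset.sum_eq_zero
    intro m _
    rw [Matrix.kroneckerMap_apply]
    have : Matrix.single p q (1 : F) x.1 l = 0 := by
      rw [Matrix.single_apply_of_ne]
      intro hh; exact hl hh.2.symm
    rw [this, zero_mul, zero_mul]
  · intro h; exact absurd (Finset.mem_univ _) h

/-- ALG1b : the centraliser of `M_d ⊗ 1` is `1 ⊗ M_k`. -/
theorem matalg_centralizer_kron {k : ℕ} (hd : 0 < d) (X : Matrix (Fin d × Fin k) (Fin d × Fin k) F)
    (hX : ∀ a : Matrix (Fin d) (Fin d) F,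
      X * (a ⊗ₖ (1 : Matrix (Fin k) (Fin k) F)) = (a ⊗ₖ (1 : Matrix (Fin k) (Fin k) F)) * X) :
    ∃ b : Matrix (Fin k) (Fin k) F, X = (1 : Matrix (Fin d) (Fin d) F) ⊗ₖ b := by
  classical
  let i₀ : Fin d := ⟨0, hd⟩
  refine ⟨Matrix.of fun j j' => X (i₀, j) (i₀, j'), ?_⟩
  ext ⟨i, j⟩ ⟨i', j'⟩
  rw [Matrix.kroneckerMap_apply, Matrix.of_apply]
  by_cases hii : i = i'
  · subst hii
    rw [Matrix.one_apply_eq, one_mul]
    have h := congrFun (congrFun (hX (Matrix.single i₀ i 1)) (i₀, j)) (i, j')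
    rw [mul_single_kron_apply, single_kron_mul_apply, if_pos rfl, if_pos rfl] at h
    exact h.symm
  · rw [Matrix.one_apply_ne hii, zero_mul]
    have h := congrFun (congrFun (hX (Matrix.single i i 1)) (i, j)) (i', j')
    rw [mul_single_kron_apply, single_kron_mul_apply, if_neg hii, if_pos rfl] at h
    exact h.symm

/-- `a ↦ a ⊗ 1` is injective when the second factor is non-trivial -/
theorem kron_one_injective {k : ℕ} (hk : 0 < k) (a b : Matrix (Fin d) (Fin d) F)
    (h : a ⊗ₖ (1 : Matrix (Fin k) (Fin k) F) = b ⊗ₖ (1 : Matrix (Fin k) (Fin k) F)) : a = b := by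
  ext i i'
  have := congrFun (congrFun h (i, ⟨0, hk⟩)) (i', ⟨0, hk⟩)
  simpa [Matrix.kroneckerMap_apply] using this

/-- ALG3 : an element of `GL_n(F)` normalising `φ(M_d(F))` lies in the tensor product subgroup. -/
theorem matalg_normalizer {k : ℕ} (hd : 0 < d)
    (φ : Matrix (Fin d) (Fin d) F →ₐ[F] Matrix (Fin n) (Fin n) F)
    (e : Fin n ≃ Fin d × Fin k) (P : GL (Fin n) F)
    (hφ : ∀ a : Matrix (Fin d) (Fin d) F, φ a = (P : Matrix (Fin n) (Fin n) F) *
        Matrix.reindex e.symm e.symm (a ⊗ₖ (1 : Matrix (Fin k) (Fin k) F)) *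
        ((P⁻¹ : GL (Fin n) F) : Matrix (Fin n) (Fin n) F))
    (g : GL (Fin n) F)
    (hg : ∀ a : Matrix (Fin d) (Fin d) F, ∃ a' : Matrix (Fin d) (Fin d) F,
      (g : Matrix (Fin n) (Fin n) F) * φ a * ((g⁻¹ : GL (Fin n) F) : Matrix (Fin n) (Fin n) F) = φ a') :
    g ∈ tensorProductSubgroup d k e P := by
  classical
  rcases Nat.eq_zero_or_pos k with hk0 | hk
  · subst hk0
    have hemp : IsEmpty (Fin n) := ⟨fun x => (e x).2.elim0⟩
    have : g = 1 := Units.ext (Subsingleton.elim _ _)
    rw [this]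
    exact Subgroup.one_mem _
  set Pm : Matrix (Fin n) (Fin n) F := (P : Matrix (Fin n) (Fin n) F) with hPm
  set Pi' : Matrix (Fin n) (Fin n) F := ((P⁻¹ : GL (Fin n) F) : Matrix (Fin n) (Fin n) F) with hPi
  have hmi : Pm * Pi' = 1 := by rw [hPm, hPi, ← Units.val_mul, mul_inv_cancel]; rfl
  have him : Pi' * Pm = 1 := by rw [hPm, hPi, ← Units.val_mul, inv_mul_cancel]; rfl
  set gm : Matrix (Fin n) (Fin n) F := (g : Matrix (Fin n) (Fin n) F) with hgm
  set gi : Matrix (Fin n) (Fin n) F := ((g⁻¹ : GL (Fin n) F) : Matrix (Fin n) (Fin n) F) with hgi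
  have hgmi : gm * gi = 1 := by rw [hgm, hgi, ← Units.val_mul, mul_inv_cancel]; rfl
  have hgim : gi * gm = 1 := by rw [hgm, hgi, ← Units.val_mul, inv_mul_cancel]; rfl
  let R : Matrix (Fin d × Fin k) (Fin d × Fin k) F ≃ₐ[F] Matrix (Fin n) (Fin n) F :=
    Matrix.reindexAlgEquiv F F e.symm
  have hφR : ∀ a : Matrix (Fin d) (Fin d) F,
      φ a = Pm * R (a ⊗ₖ (1 : Matrix (Fin k) (Fin k) F)) * Pi' := by
    intro a
    rw [hφ a]
    rfl
  -- `φ` is injective
  have hinj : ∀ a b : Matrix (Fin d) (Fin d) F, φ a = φ b → a = b := by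
    intro a b hab
    rw [hφR, hφR] at hab
    have h1 : R (a ⊗ₖ (1 : Matrix (Fin k) (Fin k) F)) = R (b ⊗ₖ (1 : Matrix (Fin k) (Fin k) F)) := by
      have := congrArg (fun M => Pi' * M * Pm) hab
      simp only [Matrix.mul_assoc] at this
      simpa [← Matrix.mul_assoc, him] using this
    exact kron_one_injective hk a b (R.injective h1)
  -- the induced endomorphism of `M_d(F)`
  choose α' hα' using hg
  let α : Matrix (Fin d) (Fin d) F →ₐ[F] Matrix (Fin d) (Fin d) F :=
    { toFun := α'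
      map_one' := by
        apply hinj
        rw [← hα', map_one, Matrix.mul_one, hgmi]
      map_mul' := by
        intro a b
        apply hinj
        rw [← hα', map_mul, map_mul, ← hα', ← hα']
        have : gm * φ a * gi * (gm * φ b * gi) = gm * φ a * (gi * gm) * φ b * gi := by
          simp only [Matrix.mul_assoc]
        rw [this, hgim, Matrix.mul_one]
        simp only [Matrix.mul_assoc]
      map_zero' := by
        apply hinj
        rw [← hα', map_zero, Matrix.mul_zero, Matrix.zero_mul]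
      map_add' := by
        intro a b
        apply hinj
        rw [← hα', map_add, map_add, ← hα', ← hα', Matrix.mul_add, Matrix.add_mul]
      commutes' := by
        intro r
        apply hinj
        rw [← hα', AlgHom.commutes, Algebra.algebraMap_eq_smul_one, Matrix.mul_smul, Matrix.mul_one,
          Matrix.smul_mul, hgmi] }
  have hα : ∀ a, gm * φ a * gi = φ (α a) := fun a => hα' a
  obtain ⟨c, hc⟩ := matalg_aut_inner α
  set cm : Matrix (Fin d) (Fin d) F := (c : Matrix (Fin d) (Fin d) F) with hcm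
  set ci : Matrix (Fin d) (Fin d) F := ((c⁻¹ : GL (Fin d) F) : Matrix (Fin d) (Fin d) F) with hci
  have hcmi : cm * ci = 1 := by rw [hcm, hci, ← Units.val_mul, mul_inv_cancel]; rfl
  have hcim : ci * cm = 1 := by rw [hcm, hci, ← Units.val_mul, inv_mul_cancel]; rfl
  have hφc : φ cm * φ ci = 1 := by rw [← map_mul, hcmi, map_one]
  have hφc' : φ ci * φ cm = 1 := by rw [← map_mul, hcim, map_one]
  -- `X = φ(c⁻¹) g` commutes with `φ(M_d)`
  obtain ⟨X, hX⟩ : ∃ X : Matrix (Fin n) (Fin n) F, X = φ ci * gm := ⟨_, rfl⟩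
  have hXcomm : ∀ a, X * φ a = φ a * X := by
    intro a
    have h1 : gm * φ a = φ (α a) * gm := by
      have := congrArg (fun M => M * gm) (hα a)
      simp only [Matrix.mul_assoc, hgim, Matrix.mul_one] at this
      exact this
    rw [hX, Matrix.mul_assoc, h1, hc a, map_mul, map_mul, ← Matrix.mul_assoc, ← Matrix.mul_assoc,
      ← Matrix.mul_assoc, hφc', Matrix.one_mul]
    simp only [Matrix.mul_assoc]
  have hgX : gm = φ cm * X := by
    rw [hX, ← Matrix.mul_assoc, hφc, Matrix.one_mul]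
  -- transport to Kronecker coordinates
  obtain ⟨Y, hY⟩ : ∃ Y : Matrix (Fin n) (Fin n) F, Y = Pi' * X * Pm := ⟨_, rfl⟩
  have hYcomm : ∀ a : Matrix (Fin d) (Fin d) F,
      Y * R (a ⊗ₖ (1 : Matrix (Fin k) (Fin k) F)) = R (a ⊗ₖ (1 : Matrix (Fin k) (Fin k) F)) * Y := by
    intro a
    have h1 := hXcomm a
    rw [hφR] at h1
    have h2 := congrArg (fun M => Pi' * M * Pm) h1
    simp only [Matrix.mul_assoc, him, Matrix.mul_one] at h2
    rw [hY]
    simp only [Matrix.mul_assoc]
    rw [h2]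
    simp only [← Matrix.mul_assoc, him, Matrix.one_mul]
  have hXY : X = Pm * Y * Pi' := by
    rw [hY]
    have : Pm * (Pi' * X * Pm) * Pi' = (Pm * Pi') * X * (Pm * Pi') := by
      simp only [Matrix.mul_assoc]
    rw [this, hmi, Matrix.one_mul, Matrix.mul_one]
  have hZcomm : ∀ a : Matrix (Fin d) (Fin d) F,
      R.symm Y * (a ⊗ₖ (1 : Matrix (Fin k) (Fin k) F)) =
        (a ⊗ₖ (1 : Matrix (Fin k) (Fin k) F)) * R.symm Y := by
    intro a
    apply R.injective
    rw [map_mul, map_mul, AlgEquiv.apply_symm_apply]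
    exact hYcomm a
  obtain ⟨b, hb⟩ := matalg_centralizer_kron hd (R.symm Y) hZcomm
  have hYb : Y = R ((1 : Matrix (Fin d) (Fin d) F) ⊗ₖ b) := by
    rw [← hb, AlgEquiv.apply_symm_apply]
  -- `b` is invertible
  have hXunit : X * (gi * φ cm) = 1 := by
    rw [hX]
    have : φ ci * gm * (gi * φ cm) = φ ci * (gm * gi) * φ cm := by
      simp only [Matrix.mul_assoc]
    rw [this, hgmi, Matrix.mul_one, hφc']
  have hXdet : X.det ≠ 0 := by
    intro h0
    have := congrArg Matrix.det hXunit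
    rw [Matrix.det_mul, h0, zero_mul, Matrix.det_one] at this
    exact zero_ne_one this
  have hbdet : b.det ≠ 0 := by
    intro h0
    apply hXdet
    rw [hXY, Matrix.det_mul, Matrix.det_mul, hYb]
    have hR : (R ((1 : Matrix (Fin d) (Fin d) F) ⊗ₖ b)).det =
        ((1 : Matrix (Fin d) (Fin d) F) ⊗ₖ b).det := Matrix.det_reindexAlgEquiv F F e.symm _
    rw [hR, Matrix.det_kronecker, h0]
    simp [hd.ne']
  let bgl : GL (Fin k) F := Matrix.GeneralLinearGroup.mkOfDetNeZero b hbdet
  have hbgl : (bgl : Matrix (Fin k) (Fin k) F) = b := rfl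
  -- the Kronecker element
  have hgfinal : gm = Pm * R (cm ⊗ₖ b) * Pi' := by
    rw [hgX, hφR, hXY, hYb]
    have h1 : cm ⊗ₖ b = (cm ⊗ₖ (1 : Matrix (Fin k) (Fin k) F)) * ((1 : Matrix (Fin d) (Fin d) F) ⊗ₖ b) := by
      rw [← Matrix.mul_kronecker_mul, Matrix.mul_one, Matrix.one_mul]
    rw [h1, map_mul]
    have : Pm * R (cm ⊗ₖ (1 : Matrix (Fin k) (Fin k) F)) * Pi' *
        (Pm * R ((1 : Matrix (Fin d) (Fin d) F) ⊗ₖ b) * Pi') =
        Pm * R (cm ⊗ₖ (1 : Matrix (Fin k) (Fin k) F)) * (Pi' * Pm) *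
          R ((1 : Matrix (Fin d) (Fin d) F) ⊗ₖ b) * Pi' := by
      simp only [Matrix.mul_assoc]
    rw [this, him, Matrix.mul_one]
    simp only [Matrix.mul_assoc]
  -- the element of the Kronecker subgroup
  let kg : GL (Fin d × Fin k) F :=
    ⟨cm ⊗ₖ b, ci ⊗ₖ ((bgl⁻¹ : GL (Fin k) F) : Matrix (Fin k) (Fin k) F), by
      rw [← Matrix.mul_kronecker_mul, hcmi, ← hbgl, ← Units.val_mul, mul_inv_cancel, Units.val_one,
        Matrix.one_kronecker_one], by
      rw [← Matrix.mul_kronecker_mul, hcim, ← hbgl, ← Units.val_mul, inv_mul_cancel, Units.val_one,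
        Matrix.one_kronecker_one]⟩
  have hkg : kg ∈ kroneckerSubgroup d k F := ⟨c, bgl, rfl⟩
  unfold tensorProductSubgroup
  rw [Subgroup.mem_map]
  refine ⟨(glReindex e.symm) kg, Subgroup.mem_map_of_mem _ hkg, ?_⟩
  apply Units.ext
  simp only [MulEquiv.coe_toMonoidHom, MulAut.conj_apply, Units.val_mul]
  show Pm * R (cm ⊗ₖ b) * Pi' = gm
  exact hgfinal.symm

end Cfsg.Agent.Lib.Helper27.MatAlg
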