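import Mathlib
import Cfsg.Prelude.Def_GeometricClasses
import Cfsg.Agent.Lib.Helper27.ASC.Defs
import Cfsg.Agent.Lib.helper23.ASCO.Defs
import Cfsg.Agent.Lib.Lead.Reindex
import Cfsg.Agent.Lib.helper4.ASCSUBF1
import Cfsg.Agent.Lib.Helper10.ASCSUBF2
import Cfsg.Agent.Lib.Helper16.ASCOSUBF1S

/-!
# Project ASCO, piece QRAT (core) : `quad_rational_of_realisable` with the pieces SCHURF, H90, SQ1, SQ2 as hypotheses.
-/

set_option autoImplicit false
set_option linter.unusedVariables false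
set_option linter.unusedSectionVars false

namespace Cfsg.Agent.Lib.helper23.ASCO

open Cfsg Cfsg.Geo Cfsg.Agent.Lib.Helper27.ASC
open scoped MatrixGroups Matrix

variable {n : ℕ} {F : Type*} [Field F]

/-- the Gram matrix of the polar form -/
noncomputable def ascoqratGram (Q : QuadraticForm F (Fin n → F)) : Matrix (Fin n) (Fin n) F :=
  LinearMap.BilinForm.toMatrix' (QuadraticMap.polarBilin Q)

theorem ascoqrat_gram_apply (Q : QuadraticForm F (Fin n → F)) (i j : Fin n) :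
    ascoqratGram Q i j = QuadraticMap.polar (⇑Q) (Pi.single i 1) (Pi.single j 1) := by
  unfold ascoqratGram
  rw [LinearMap.BilinForm.toMatrix'_apply]
  rfl

theorem ascoqrat_polar_eq (Q : QuadraticForm F (Fin n → F)) (u v : Fin n → F) :
    QuadraticMap.polar (⇑Q) u v = u ⬝ᵥ (ascoqratGram Q *ᵥ v) := by
  unfold ascoqratGram
  rw [← Matrix.toBilin'_apply', Matrix.toBilin'_toMatrix']
  rfl

theorem ascoqrat_two_mul (Q : QuadraticForm F (Fin n → F)) (u : Fin n → F) :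
    2 * Q u = u ⬝ᵥ (ascoqratGram Q *ᵥ u) := by
  rw [← ascoqrat_polar_eq, QuadraticMap.polar_self]
  simp

theorem ascoqrat_gram_det (Q : QuadraticForm F (Fin n → F))
    (hQ : (QuadraticMap.polarBilin Q).Nondegenerate) : (ascoqratGram Q).det ≠ 0 := by
  unfold ascoqratGram
  rw [← Matrix.nondegenerate_iff_det_ne_zero]
  exact LinearMap.BilinForm.nondegenerate_toMatrix'_iff.mpr hQ

theorem ascoqrat_transport (M G : Matrix (Fin n) (Fin n) F) (u v : Fin n → F) :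
    (M *ᵥ u) ⬝ᵥ (G *ᵥ (M *ᵥ v)) = u ⬝ᵥ ((Mᵀ * G * M) *ᵥ v) := by
  rw [← Matrix.mulVec_mulVec, ← Matrix.mulVec_mulVec, Matrix.dotProduct_mulVec u, Matrix.vecMul_transpose]

theorem ascoqrat_entry (A : Matrix (Fin n) (Fin n) F) (i j : Fin n) :
    (Pi.single i (1:F)) ⬝ᵥ (A *ᵥ Pi.single j 1) = A i j := by
  simp

theorem ascoqrat_gram_invariant (Q : QuadraticForm F (Fin n → F)) (g : GL (Fin n) F)
    (hg : g ∈ isometryGroup F (⇑Q)) :
    (g : Matrix (Fin n) (Fin n) F)ᵀ * ascoqratGram Q * (g : Matrix (Fin n) (Fin n) F) = ascoqratGram Q := by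
  have hiso : ∀ u : Fin n → F, Q ((g : Matrix (Fin n) (Fin n) F) *ᵥ u) = Q u := fun u => hg u u
  have hpol : ∀ u v : Fin n → F, QuadraticMap.polar (⇑Q) ((g : Matrix (Fin n) (Fin n) F) *ᵥ u)
      ((g : Matrix (Fin n) (Fin n) F) *ᵥ v) = QuadraticMap.polar (⇑Q) u v := by
    intro u v
    unfold QuadraticMap.polar
    rw [← Matrix.mulVec_add, hiso, hiso, hiso]
  ext i j
  rw [ascoqrat_gram_apply, ← hpol, ascoqrat_polar_eq, ascoqrat_transport, ascoqrat_entry]

variable [Fintype F]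

/-- Frobenius + Schur + Hilbert 90: if `B` realises the absolutely irreducible set `S` over `F₁` and `G` is an
invertible invariant Gram matrix, then `B⁻ᵀ G B⁻¹` is a scalar multiple of a matrix with entries in `F₁`. -/
theorem ascoqrat_descend
    (hSchur : ∀ {S : Set (Matrix (Fin n) (Fin n) F)}, ActsAbsolutelyIrreducibly S →
      (∀ s ∈ S, IsUnit s.det) → ∀ (A A' : Matrix (Fin n) (Fin n) F), IsUnit A.det →
      (∀ s ∈ S, s.transpose * A * s = A) → (∀ s ∈ S, s.transpose * A' * s = A') → ∃ c : F, A' = c • A)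
    (hH90 : ∀ (F₁ : Subfield F) (ℓ : ℕ), Fintype.card F = Nat.card F₁ ^ ℓ → ∀ c : F, c ≠ 0 →
      ∏ i ∈ Finset.range ℓ, c ^ (Nat.card F₁ ^ i) = 1 → ∃ μ : F, μ ≠ 0 ∧ μ ^ Nat.card F₁ * c = μ)
    (F₁ : Subfield F) (ℓ : ℕ) (hcard : Fintype.card F = Nat.card F₁ ^ ℓ)
    (hn : 0 < n) {S : Set (Matrix (Fin n) (Fin n) F)} (hS : ActsAbsolutelyIrreducibly S)
    (hu : ∀ s ∈ S, IsUnit s.det) (B : GL (Fin n) F)
    (hS1 : ∀ s ∈ S, ∀ i j,
      ((B : Matrix (Fin n) (Fin n) F) * s * ((B⁻¹ : GL (Fin n) F) : Matrix (Fin n) (Fin n) F)) i j ∈ F₁)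
    (G : Matrix (Fin n) (Fin n) F) (hG : IsUnit G.det) (h : ∀ s ∈ S, s.transpose * G * s = G) :
    ∃ μ : F, μ ≠ 0 ∧ ∀ i j, μ * (((B⁻¹ : GL (Fin n) F) : Matrix (Fin n) (Fin n) F)ᵀ * G *
      ((B⁻¹ : GL (Fin n) F) : Matrix (Fin n) (Fin n) F)) i j ∈ F₁ := by
  classical
  obtain ⟨p, hchar⟩ := CharP.exists F
  have hcharF : CharP F p := hchar
  have hchar0 : CharP F₁ p := inferInstance
  obtain ⟨d, hpp, hcard0⟩ := FiniteField.card F₁ p
  have hfact : Fact p.Prime := ⟨hpp⟩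
  let σ : F →+* F := iterateFrobenius F p d
  have hσ : ∀ x : F, σ x = x ^ Nat.card F₁ := by
    intro x
    rw [Nat.card_eq_fintype_card, hcard0]
    exact iterateFrobenius_def p d x
  have hσfix : ∀ x ∈ F₁, σ x = x := by
    intro x hx
    rw [hσ, Nat.card_eq_fintype_card]
    have h1 : (⟨x, hx⟩ : F₁) ^ Fintype.card F₁ = ⟨x, hx⟩ := FiniteField.pow_card _
    have h2 := congrArg (fun a : F₁ => (a : F)) h1
    simpa using h2
  set Bm : Matrix (Fin n) (Fin n) F := (B : Matrix (Fin n) (Fin n) F) with hBm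
  set Bi : Matrix (Fin n) (Fin n) F := ((B⁻¹ : GL (Fin n) F) : Matrix (Fin n) (Fin n) F) with hBi
  have hmi : Bm * Bi = 1 := by rw [hBm, hBi, ← Units.val_mul, mul_inv_cancel]; rfl
  have him : Bi * Bm = 1 := by rw [hBm, hBi, ← Units.val_mul, inv_mul_cancel]; rfl
  have hmiT : Biᵀ * Bmᵀ = 1 := by rw [← Matrix.transpose_mul, hmi, Matrix.transpose_one]
  have himT : Bmᵀ * Biᵀ = 1 := by rw [← Matrix.transpose_mul, him, Matrix.transpose_one]
  have hc1 : ∀ X : Matrix (Fin n) (Fin n) F, Bmᵀ * (Biᵀ * X) = X := fun X => by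
    rw [← Matrix.mul_assoc, himT, Matrix.one_mul]
  have hc2 : ∀ X : Matrix (Fin n) (Fin n) F, Bi * (Bm * X) = X := fun X => by
    rw [← Matrix.mul_assoc, him, Matrix.one_mul]
  have hc3 : ∀ X : Matrix (Fin n) (Fin n) F, Bm * (Bi * X) = X := fun X => by
    rw [← Matrix.mul_assoc, hmi, Matrix.one_mul]
  have hc4 : ∀ X : Matrix (Fin n) (Fin n) F, Biᵀ * (Bmᵀ * X) = X := fun X => by
    rw [← Matrix.mul_assoc, hmiT, Matrix.one_mul]
  set A : Matrix (Fin n) (Fin n) F := Biᵀ * G * Bi with hAdef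
  -- invariance of `A` under the conjugates
  have hA1 : ∀ s ∈ S, (Bm * s * Bi)ᵀ * A * (Bm * s * Bi) = A := by
    intro s hs
    have hs' : ∀ X : Matrix (Fin n) (Fin n) F, sᵀ * (G * (s * X)) = G * X := fun X => by
      rw [← Matrix.mul_assoc, ← Matrix.mul_assoc, h s hs]
    rw [hAdef]
    simp only [Matrix.transpose_mul, Matrix.mul_assoc, hc1, hc2, hs']
  -- `σ A` is invariant under the conjugates
  have hA2 : ∀ s ∈ S, (Bm * s * Bi)ᵀ * A.map σ * (Bm * s * Bi) = A.map σ := by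
    intro s hs
    have hsfix : (Bm * s * Bi).map σ = Bm * s * Bi := by
      ext i j
      rw [Matrix.map_apply]
      exact hσfix _ (hS1 s hs i j)
    have hgen : ∀ X Y : Matrix (Fin n) (Fin n) F,
        (Xᵀ * Y * X).map σ = (X.map σ)ᵀ * Y.map σ * X.map σ := by
      intro X Y
      simp only [Matrix.map_mul, Matrix.transpose_map]
    have h1 := congrArg (fun M : Matrix (Fin n) (Fin n) F => M.map σ) (hA1 s hs)
    rw [hgen, hsfix] at h1
    exact h1
  -- `Bᵀ σ(A) B` is invariant under `S`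
  have hA3 : ∀ s ∈ S, sᵀ * (Bmᵀ * A.map σ * Bm) * s = Bmᵀ * A.map σ * Bm := by
    intro s hs
    have h1 := hA2 s hs
    have h2 : sᵀ * (Bmᵀ * A.map σ * Bm) * s =
        Bmᵀ * ((Bm * s * Bi)ᵀ * A.map σ * (Bm * s * Bi)) * Bm := by
      simp only [Matrix.transpose_mul, Matrix.mul_assoc, hc1, him, Matrix.mul_one]
    rw [h2, h1]
  obtain ⟨lam, hlam⟩ := hSchur hS hu G (Bmᵀ * A.map σ * Bm) hG h hA3
  have hlam' : A.map σ = lam • A := by
    have h1 : A.map σ = Biᵀ * (Bmᵀ * A.map σ * Bm) * Bi := by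
      simp only [Matrix.mul_assoc, hc4, hmi, Matrix.mul_one]
    rw [h1, hlam, hAdef, Matrix.mul_smul, Matrix.smul_mul]
  have hent : ∀ i j, (A i j) ^ Nat.card F₁ = lam * A i j := by
    intro i j
    have := congrFun (congrFun hlam' i) j
    rw [Matrix.map_apply, hσ, Matrix.smul_apply, smul_eq_mul] at this
    exact this
  have hAdet : IsUnit A.det := by
    rw [hAdef, Matrix.det_mul, Matrix.det_mul, Matrix.det_transpose]
    have hBi : IsUnit Bi.det := by
      have : Bi.det * Bm.det = 1 := by rw [← Matrix.det_mul, him, Matrix.det_one]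
      exact IsUnit.of_mul_eq_one _ this
    exact (hBi.mul hG).mul hBi
  -- a non-zero entry
  obtain ⟨i0, j0, hij⟩ : ∃ i j, A i j ≠ 0 := by
    by_contra hcon
    push Not at hcon
    have hA0 : A = 0 := by
      ext i j
      exact hcon i j
    rw [hA0] at hAdet
    have : Nonempty (Fin n) := ⟨⟨0, hn⟩⟩
    rw [Matrix.det_zero] at hAdet
    exact not_isUnit_zero hAdet
  have hlam0 : lam ≠ 0 := by
    intro h0
    have := hent i0 j0
    rw [h0, zero_mul] at this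
    exact hij (pow_eq_zero_iff (Nat.card_pos (α := F₁)).ne' |>.mp this)
  -- iterate
  have hiter : ∀ k : ℕ, ∀ i j, (A i j) ^ (Nat.card F₁ ^ k) =
      (∏ m ∈ Finset.range k, lam ^ (Nat.card F₁ ^ m)) * A i j := by
    intro k
    induction k with
    | zero => intro i j; simp
    | succ k ih =>
      intro i j
      rw [pow_succ', pow_mul, hent, mul_pow, ih, Finset.prod_range_succ]
      ring
  have hprod : ∏ m ∈ Finset.range ℓ, lam ^ (Nat.card F₁ ^ m) = 1 := by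
    have h1 := hiter ℓ i0 j0
    rw [← hcard, FiniteField.pow_card] at h1
    have h2 : (∏ m ∈ Finset.range ℓ, lam ^ (Nat.card F₁ ^ m) - 1) * A i0 j0 = 0 := by
      rw [sub_mul, one_mul, ← h1, sub_self]
    rcases mul_eq_zero.mp h2 with h3 | h3
    · exact sub_eq_zero.mp h3
    · exact absurd h3 hij
  obtain ⟨μ, hμ0, hμ⟩ := hH90 F₁ ℓ hcard lam hlam0 hprod
  refine ⟨μ, hμ0, fun i j => ?_⟩
  apply ascsubf1_mem_of_pow
  rw [mul_pow, hent, ← mul_assoc, hμ]

omit [Fintype F] in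
theorem ascoqrat_det_mem (F₁ : Subfield F) (M : Matrix (Fin n) (Fin n) F) (h : ∀ i j, M i j ∈ F₁) :
    M.det ∈ F₁ := by
  let M₁ : Matrix (Fin n) (Fin n) F₁ := fun i j => ⟨M i j, h i j⟩
  have h1 : M = (F₁.subtype : F₁ →+* F).mapMatrix M₁ := by ext i j; rfl
  rw [h1, ← RingHom.map_det]
  exact (M₁.det).2

omit [Fintype F] in
theorem ascoqrat_form_mem (F₁ : Subfield F) (M : Matrix (Fin n) (Fin n) F) (hM : ∀ i j, M i j ∈ F₁)
    (u v : Fin n → F) (hu : ∀ i, u i ∈ F₁) (hv : ∀ i, v i ∈ F₁) : u ⬝ᵥ (M *ᵥ v) ∈ F₁ := by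
  unfold dotProduct Matrix.mulVec dotProduct
  refine Subfield.sum_mem _ fun i _ => ?_
  refine Subfield.mul_mem _ (hu i) ?_
  refine Subfield.sum_mem _ fun j _ => ?_
  exact Subfield.mul_mem _ (hM i j) (hv j)

/-- the scalar matrix `c • 1` as an element of `GL` -/
noncomputable def ascoqratScalar (c : F) (hc : c ≠ 0) : GL (Fin n) F :=
  Units.map (Matrix.scalar (Fin n) : F →+* Matrix (Fin n) (Fin n) F).toMonoidHom (Units.mk0 c hc)

omit [Fintype F] in
theorem ascoqrat_scalar_val (c : F) (hc : c ≠ 0) :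
    ((ascoqratScalar c hc : GL (Fin n) F) : Matrix (Fin n) (Fin n) F) = c • (1 : Matrix (Fin n) (Fin n) F) := by
  show Matrix.scalar (Fin n) c = _
  rw [Matrix.smul_one_eq_diagonal]
  rfl

omit [Fintype F] in
theorem ascoqrat_scalar_comm (c : F) (hc : c ≠ 0) (g : GL (Fin n) F) :
    ascoqratScalar c hc * g = g * ascoqratScalar c hc := by
  apply Units.ext
  rw [Units.val_mul, Units.val_mul, ascoqrat_scalar_val, Matrix.smul_mul, Matrix.mul_smul, Matrix.one_mul,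
    Matrix.mul_one]

omit [Fintype F] in
theorem ascoqrat_subfieldSubgroup_scalar (F₁ : Subfield F) (B : GL (Fin n) F) (c : F) (hc : c ≠ 0) :
    subfieldSubgroup F₁ (B * ascoqratScalar c hc) = subfieldSubgroup F₁ B := by
  unfold subfieldSubgroup
  have h1 : MulAut.conj (B * ascoqratScalar c hc) = MulAut.conj B := by
    ext g
    rw [MulAut.conj_apply, MulAut.conj_apply, mul_inv_rev, mul_assoc B, ascoqrat_scalar_comm]
    group
  rw [h1]

/-- QRAT (core) : `quad_rational_of_realisable` with SCHURF, H90, SQ1, SQ2 as hypotheses. -/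
theorem ascoqrat_core
    (hSchur : ∀ {S : Set (Matrix (Fin n) (Fin n) F)}, ActsAbsolutelyIrreducibly S →
      (∀ s ∈ S, IsUnit s.det) → ∀ (A A' : Matrix (Fin n) (Fin n) F), IsUnit A.det →
      (∀ s ∈ S, s.transpose * A * s = A) → (∀ s ∈ S, s.transpose * A' * s = A') → ∃ c : F, A' = c • A)
    (hH90 : ∀ (F₁ : Subfield F) (ℓ : ℕ), Fintype.card F = Nat.card F₁ ^ ℓ → ∀ c : F, c ≠ 0 →
      ∏ i ∈ Finset.range ℓ, c ^ (Nat.card F₁ ^ i) = 1 → ∃ μ : F, μ ≠ 0 ∧ μ ^ Nat.card F₁ * c = μ)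
    (hSQ1 : Odd (Fintype.card F) → ∀ (F₁ : Subfield F) (ℓ : ℕ), Odd ℓ →
      Fintype.card F = Nat.card F₁ ^ ℓ → ∀ μ : F, μ ≠ 0 →
      ∃ ν ∈ F₁, ∃ c : F, ν ≠ 0 ∧ c ≠ 0 ∧ c ^ 2 = μ * ν)
    (hSQ2 : Odd (Fintype.card F) → ∀ (F₁ : Subfield F), Fintype.card F = Nat.card F₁ ^ 2 →
      ∀ x : F, x ∈ F₁ → ∃ c : F, c ^ 2 = x)
    (hodd : Odd n) (h2 : (2 : F) ≠ 0) (Q : QuadraticForm F (Fin n → F))
    (hQ : (QuadraticMap.polarBilin Q).Nondegenerate) (hG : GramPrime (⇑Q))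
    {H P : Subgroup (GL (Fin n) F)} (hP : NormalIn P H) (hA : AbsIrr P)
    (hHO : H ≤ isometryGroup F (⇑Q)) (F₀ : Subfield F) (h0 : F₀ ≠ ⊤)
    (hR : RealisableOver F₀ (matrixSet P)) :
    ∃ (F₁ : Subfield F) (ℓ : ℕ) (B : GL (Fin n) F), ℓ.Prime ∧ Fintype.card F = Nat.card F₁ ^ ℓ ∧
      IsQuadFormRationalStructure (⇑Q) F₁ B ∧ H ≤ subfieldSubgroup F₁ B := by
  classical
  obtain ⟨F₁, ℓ, h01, hℓ, hcard⟩ := exists_prime_index_subfield F₀ h0
  obtain ⟨B₀, hB₀⟩ := hR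
  have hB₁ : ∀ s ∈ matrixSet P, ∀ i j, ((B₀ : Matrix (Fin n) (Fin n) F) * s *
      ((B₀⁻¹ : GL (Fin n) F) : Matrix (Fin n) (Fin n) F)) i j ∈ F₁ :=
    fun s hs i j => h01 (hB₀ s hs i j)
  have hHsub : H ≤ subfieldSubgroup F₁ B₀⁻¹ := subfield_of_realisable_strong hP hA F₁ B₀ hB₁
  have hn : 0 < n := hodd.pos
  have hGdet0 : (ascoqratGram Q).det ≠ 0 := ascoqrat_gram_det Q hQ
  have hGdet : IsUnit (ascoqratGram Q).det := isUnit_iff_ne_zero.mpr hGdet0
  have hu : ∀ s ∈ matrixSet P, IsUnit s.det := by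
    rintro s ⟨g, hg, rfl⟩
    exact (Matrix.isUnit_iff_isUnit_det _).mp g.isUnit
  have hinv : ∀ s ∈ matrixSet P, sᵀ * ascoqratGram Q * s = ascoqratGram Q := by
    rintro s ⟨g, hg, rfl⟩
    exact ascoqrat_gram_invariant Q g (hHO (hP.1 hg))
  obtain ⟨μ, hμ0, hμ⟩ := ascoqrat_descend hSchur hH90 F₁ ℓ hcard hn hA hu B₀ hB₁ (ascoqratGram Q) hGdet hinv
  set Bi : Matrix (Fin n) (Fin n) F := ((B₀⁻¹ : GL (Fin n) F) : Matrix (Fin n) (Fin n) F) with hBi
  set A : Matrix (Fin n) (Fin n) F := Biᵀ * ascoqratGram Q * Bi with hAdef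
  have hBidet : Bi.det ≠ 0 := by
    have : IsUnit Bi.det := (Matrix.isUnit_iff_isUnit_det _).mp (B₀⁻¹).isUnit
    exact this.ne_zero
  -- `|F|` is odd
  have hFodd : Odd (Fintype.card F) := by
    obtain ⟨p, hchar⟩ := CharP.exists F
    have := hchar
    obtain ⟨e, hpp, hcardp⟩ := FiniteField.card F p
    rw [hcardp]
    apply Odd.pow
    rcases hpp.eq_two_or_odd' with hp2 | hpodd
    · exfalso
      apply h2
      have := CharP.cast_eq_zero F p
      rw [hp2] at this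
      exact_mod_cast this
    · exact hpodd
  -- the square class of `μ`
  obtain ⟨ν, hν, c, hc0, hc⟩ : ∃ ν ∈ F₁, ∃ c : F, c ≠ 0 ∧ c ^ 2 = μ * ν := by
    rcases hℓ.eq_two_or_odd' with hℓ2 | hoddℓ
    · rw [hℓ2] at hcard
      have hM : (μ • A).det ∈ F₁ := by
        apply ascoqrat_det_mem
        intro i j
        rw [Matrix.smul_apply, smul_eq_mul]
        exact hμ i j
      have hGm : (ascoqratGram Q).det ∈ F₁ := by
        apply ascoqrat_det_mem
        intro i j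
        rw [ascoqrat_gram_apply]
        exact hG F₁ i j
      obtain ⟨x, hx⟩ := hSQ2 hFodd F₁ hcard _ hM
      obtain ⟨y, hy⟩ := hSQ2 hFodd F₁ hcard _ hGm
      have hy0 : y ≠ 0 := by
        intro h
        rw [h] at hy
        apply hGdet0
        rw [← hy]; ring
      rw [Matrix.det_smul, Fintype.card_fin, hAdef, Matrix.det_mul, Matrix.det_mul, Matrix.det_transpose,
        ← hy] at hx
      obtain ⟨k, hk⟩ := hodd
      have hμk : μ ^ k ≠ 0 := pow_ne_zero _ hμ0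
      have hpow : μ ^ n = μ * (μ ^ k) ^ 2 := by rw [hk]; ring
      rw [hpow] at hx
      refine ⟨1, F₁.one_mem, x / (μ ^ k * Bi.det * y), ?_, ?_⟩
      · intro h
        have hx0 : x = 0 := by
          rcases div_eq_zero_iff.mp h with h' | h'
          · exact h'
          · exact absurd h' (mul_ne_zero (mul_ne_zero hμk hBidet) hy0)
        rw [hx0] at hx
        have : μ * (μ ^ k) ^ 2 * (Bi.det * y ^ 2 * Bi.det) ≠ 0 :=
          mul_ne_zero (mul_ne_zero hμ0 (pow_ne_zero _ hμk))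
            (mul_ne_zero (mul_ne_zero hBidet (pow_ne_zero _ hy0)) hBidet)
        apply this
        rw [← hx]; ring
      · rw [mul_one, div_pow, hx]
        field_simp
    · obtain ⟨ν, hν, c, hν0, hc0, hc⟩ := hSQ1 hFodd F₁ ℓ hoddℓ hcard μ hμ0
      exact ⟨ν, hν, c, hc0, hc⟩
  refine ⟨F₁, ℓ, B₀⁻¹ * ascoqratScalar c hc0, hℓ, hcard, ?_, ?_⟩
  · intro u hu1
    have hval : ((B₀⁻¹ * ascoqratScalar c hc0 : GL (Fin n) F) : Matrix (Fin n) (Fin n) F) = c • Bi := by
      rw [Units.val_mul, ascoqrat_scalar_val, Matrix.mul_smul, Matrix.mul_one]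
    rw [hval]
    have h2Q : 2 * Q ((c • Bi) *ᵥ u) ∈ F₁ := by
      rw [ascoqrat_two_mul, ascoqrat_transport]
      have hmat : (c • Bi)ᵀ * ascoqratGram Q * (c • Bi) = ν • (μ • A) := by
        rw [Matrix.transpose_smul, Matrix.smul_mul, Matrix.smul_mul, Matrix.mul_smul, smul_smul, smul_smul,
          ← hAdef]
        congr 1
        rw [mul_comm ν μ, ← hc]; ring
      rw [hmat]
      apply ascoqrat_form_mem F₁ _ _ u u hu1 hu1
      intro i j
      rw [Matrix.smul_apply, Matrix.smul_apply, smul_eq_mul, smul_eq_mul]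
      exact F₁.mul_mem hν (hμ i j)
    have h2mem : (2 : F) ∈ F₁ := by
      have : (2 : F) = 1 + 1 := by norm_num
      rw [this]
      exact F₁.add_mem F₁.one_mem F₁.one_mem
    have : Q ((c • Bi) *ᵥ u) = (2 : F)⁻¹ * (2 * Q ((c • Bi) *ᵥ u)) := by
      field_simp
    rw [this]
    exact F₁.mul_mem (F₁.inv_mem h2mem) h2Q
  · rw [ascoqrat_subfieldSubgroup_scalar]
    exact hHsub

end Cfsg.Agent.Lib.helper23.ASCO
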