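import Mathlib
import Cfsg.Prelude.Def_ChevStructure
import Cfsg.Prelude.Def_LieTypes
import Cfsg.Prelude.Def_ChevB2
import Cfsg.Agent.Lib.helper8.BTT.Defs
import Cfsg.Agent.Lib.Helper9.BTTROOT1h9

/-!
# BTT ROOT1 (verbatim): `lev_neg`, `lev_chain` — level functions are odd and additive along chains.
One-liners on helper9's spare `Cfsg.Agent.Lib.Helper9.BTTROOT1h9` (thanks helper9).
-/

set_option autoImplicit false

namespace Cfsg.Agent.Lib.helper8.BTT

open Cfsg.Lie Cfsg.Lie.ChevalleyDatum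

universe u

section root
variable (D : ChevalleyDatum)

/-- ROOT1 [S-M]: level functions are odd and additive along chains (`H8CA`, `(h8reflAll D hD).ca`,
`h8CAchk_spec`). -/
theorem lev_neg (hD : D ∈ [chevG2, chevB2, chevD4, chevF4, chevE6, chevE7, chevE8])
    (L : Fin D.nroots → ℝ) (hL : L ∈ levE D) (r : ℕ) (hr : r < D.nroots) :
    D.neg r < D.nroots ∧ lv D L (D.neg r) = - lv D L r :=
  bttroot1_h9_lev_neg D hD L hL r hr

theorem lev_chain (hD : D ∈ [chevG2, chevB2, chevD4, chevF4, chevE6, chevE7, chevE8])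
    (L : Fin D.nroots → ℝ) (hL : L ∈ levE D) (s v u : ℕ) (hs : s < D.nroots)
    (hv : v < D.nroots) (hu : u < D.nroots) (km : ℕ × ℤ) (hkm : km ∈ D.chainCoeff s v u) :
    1 ≤ km.1 ∧ lv D L u = lv D L v + (km.1 : ℝ) * lv D L s :=
  bttroot1_h9_lev_chain D hD L hL s v u hs hv hu km hkm

end root

end Cfsg.Agent.Lib.helper8.BTT
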