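import Mathlib
import Cfsg.Agent.Lib.Helper10.C3E.Defs

/-!
# Project S5975 (C3E), row IF2: `J` on a hyperbolic `K`-plane (`y (a e + b e') = a e' - b e`).
-/

set_option autoImplicit false
set_option linter.unusedVariables false
set_option linter.unusedSectionVars false

namespace Cfsg.Agent.Lib.Helper10.C3E

open Module Cfsg.Agent.Lib.helper8.C3S

variable {F K V : Type*} [Field F] [Field K] [Algebra F K] [AddCommGroup V] [Module F V] [Module K V]
  [IsScalarTower F K V]

/-- a hyperbolic pair spanning a non-degenerate alternating plane. -/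
theorem c3eif2_hyp [FiniteDimensional K V] (B : V →ₗ[K] V →ₗ[K] K) (hB0 : ∀ x, B x x = 0)
    (hBn : ∀ x, x ≠ 0 → ∃ y, B x y ≠ 0) (hV : finrank K V = 2) :
    ∃ e e' : V, B e e' = 1 ∧ B e' e = -1 ∧ ∀ x : V, ∃ a b : K, x = a • e + b • e' := by
  have hnt : Nontrivial V := Module.nontrivial_of_finrank_pos (R := K) (by omega)
  obtain ⟨e, he⟩ := exists_ne (0 : V)
  obtain ⟨w, hw⟩ := hBn e he
  set e' : V := (B e w)⁻¹ • w with he'
  have h1 : B e e' = 1 := by
    rw [he', map_smul, smul_eq_mul, inv_mul_cancel₀ hw]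
  have hskew : ∀ u v : V, B u v = -B v u := by
    intro u v
    have h := hB0 (u + v)
    simp only [map_add, LinearMap.add_apply, hB0] at h
    linear_combination h
  have h2 : B e' e = -1 := by rw [hskew, h1]
  refine ⟨e, e', h1, h2, ?_⟩
  have hli : LinearIndependent K ![e, e'] := by
    rw [LinearIndependent.pair_iff]
    intro s t hst
    have ha := congrArg (fun z => B e z) hst
    have hb := congrArg (fun z => B z e') hst
    simp only [map_add, map_smul, LinearMap.add_apply, LinearMap.smul_apply, smul_eq_mul, hB0, h1, map_zero,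
      LinearMap.zero_apply, mul_zero, mul_one, zero_add, add_zero] at ha hb
    exact ⟨hb, ha⟩
  have hspan := hli.span_eq_top_of_card_eq_finrank' (by rw [Fintype.card_fin, hV])
  intro x
  have hx : x ∈ Submodule.span K (Set.range ![e, e']) := by rw [hspan]; exact Submodule.mem_top
  rw [Matrix.range_cons, Matrix.range_cons, Matrix.range_empty, Set.union_empty, Set.singleton_union,
    Submodule.mem_span_pair] at hx
  obtain ⟨a, b, hab⟩ := hx
  exact ⟨a, b, hab.symm⟩

/-- IF2 : `J`.  (`y (a e + b e') = a e' - b e`.) -/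
theorem c3e_if_sqneg [FiniteDimensional K V] (B : V →ₗ[K] V →ₗ[K] K) (hB0 : ∀ x, B x x = 0)
    (hBn : ∀ x, x ≠ 0 → ∃ y, B x y ≠ 0) (hV : finrank K V = 2) :
    ∃ y ∈ SpB F B, ∀ x : V, y (y x) = -x := by
  obtain ⟨e, e', h1, h2, hsp⟩ := c3eif2_hyp B hB0 hBn hV
  -- the `K`-linear map `x ↦ B x e' • e' - B e x • e`
  set yl : V →ₗ[K] V := (B.flip e').smulRight e' - (B e).smulRight e with hyl
  have hyla : ∀ x, yl x = B x e' • e' - B e x • e := by
    intro x
    rw [hyl, LinearMap.sub_apply, LinearMap.smulRight_apply, LinearMap.smulRight_apply, LinearMap.flip_apply]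
  have hyab : ∀ a b : K, yl (a • e + b • e') = a • e' - b • e := by
    intro a b
    rw [hyla]
    simp only [map_add, map_smul, LinearMap.add_apply, LinearMap.smul_apply, smul_eq_mul, hB0, h1, mul_zero,
      mul_one, zero_add, add_zero]
  have hyy : ∀ x, yl (yl x) = -x := by
    intro x
    obtain ⟨a, b, rfl⟩ := hsp x
    rw [hyab]
    have h3 : a • e' - b • e = (-b) • e + a • e' := by rw [neg_smul]; abel
    rw [h3, hyab, neg_smul]
    abel
  have hyB : ∀ u v, B (yl u) (yl v) = B u v := by
    intro u v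
    obtain ⟨a, b, rfl⟩ := hsp u
    obtain ⟨c, d, rfl⟩ := hsp v
    rw [hyab, hyab]
    simp only [map_add, map_sub, map_smul, LinearMap.add_apply, LinearMap.sub_apply, LinearMap.smul_apply,
      smul_eq_mul, hB0, h1, h2]
    ring
  let y : V ≃ₗ[F] V :=
    { toFun := fun x => yl x
      map_add' := fun u v => map_add yl u v
      map_smul' := fun c u => by
        simp only [RingHom.id_apply]
        rw [← algebraMap_smul K c u, map_smul, algebraMap_smul]
      invFun := fun x => -yl x
      left_inv := fun x => by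
        show -yl (yl x) = x
        rw [hyy, neg_neg]
      right_inv := fun x => by
        show yl (-yl x) = x
        rw [map_neg, hyy, neg_neg] }
  have hya : ∀ x, y x = yl x := fun x => rfl
  refine ⟨y, ⟨fun a x => ?_, fun u v => ?_⟩, fun x => ?_⟩
  · rw [hya, hya, map_smul]
  · rw [hya, hya, hyB]
  · rw [hya, hya, hyy]

end Cfsg.Agent.Lib.Helper10.C3E
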