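import Mathlib
import Cfsg.Prelude.Def_ClassicalGeometry
import Cfsg.Agent.Lib.Helper27.SPINVCONJ

/-!
# Project S5975 (C3E), row IF3: a non-scalar involution of `Sp_4(F)` has a 2-dimensional fixed space.
-/

set_option autoImplicit false

namespace Cfsg.Agent.Lib.Helper10.C3E

open Module Matrix
open Cfsg.Agent.Lib.Helper27.SpInv

variable {F : Type*} [Field F]

/-- IF3 : a non-scalar involution of `Sp_4(F)` has a 2-dimensional fixed space. -/
theorem c3e_inv_fix_two (h2 : (2 : F) ≠ 0) (x : GL (Fin 2 ⊕ Fin 2) F) (hx : x ∈ Cfsg.spGL 2 F)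
    (hx2 : (x : Matrix (Fin 2 ⊕ Fin 2) (Fin 2 ⊕ Fin 2) F) * (x : Matrix (Fin 2 ⊕ Fin 2) (Fin 2 ⊕ Fin 2) F) = 1)
    (hx1 : (x : Matrix (Fin 2 ⊕ Fin 2) (Fin 2 ⊕ Fin 2) F) ≠ 1)
    (hxm : (x : Matrix (Fin 2 ⊕ Fin 2) (Fin 2 ⊕ Fin 2) F) ≠ -1) :
    finrank F (LinearMap.ker ((x : Matrix (Fin 2 ⊕ Fin 2) (Fin 2 ⊕ Fin 2) F).mulVecLin - LinearMap.id)) = 2 := by
  classical
  have hxf : ∀ u v, Cfsg.sympForm 2 F ((x : Matrix (Fin 2 ⊕ Fin 2) (Fin 2 ⊕ Fin 2) F) *ᵥ u)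
      ((x : Matrix (Fin 2 ⊕ Fin 2) (Fin 2 ⊕ Fin 2) F) *ᵥ v) = Cfsg.sympForm 2 F u v := hx
  obtain ⟨k, k', φp, φm, hφp, hφm, hfp, hfm, hpm, hsurj, hinj, hk⟩ := spinv_param h2 2 _ hx2 hxf
  have hbijX : Function.Bijective (φp.coprod φm) := by
    constructor
    · rw [← LinearMap.ker_eq_bot, LinearMap.ker_eq_bot']
      rintro ⟨a, b⟩ hab
      rw [LinearMap.coprod_apply] at hab
      obtain ⟨ha, hb⟩ := hinj a b hab
      rw [ha, hb]
      rfl
    · intro v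
      obtain ⟨a, b, rfl⟩ := hsurj v
      exact ⟨(a, b), by rw [LinearMap.coprod_apply]⟩
  have hdX := LinearEquiv.finrank_eq (LinearEquiv.ofBijective (φp.coprod φm) hbijX)
  rw [Module.finrank_prod, Module.finrank_fintype_fun_eq_card, Module.finrank_fintype_fun_eq_card,
    Module.finrank_fintype_fun_eq_card, Fintype.card_sum, Fintype.card_sum, Fintype.card_sum,
    Fintype.card_fin, Fintype.card_fin, Fintype.card_fin] at hdX
  have hk0 : k ≠ 0 := by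
    rintro rfl
    apply hxm
    rw [Matrix.ext_iff_mulVec]
    intro v
    obtain ⟨a, b, rfl⟩ := hsurj v
    have ha : a = 0 := Subsingleton.elim _ _
    rw [ha, map_zero, zero_add, hφm, Matrix.neg_mulVec, Matrix.one_mulVec]
  have hk0' : k' ≠ 0 := by
    rintro rfl
    apply hx1
    rw [Matrix.ext_iff_mulVec]
    intro v
    obtain ⟨a, b, rfl⟩ := hsurj v
    have hb : b = 0 := Subsingleton.elim _ _
    rw [hb, map_zero, add_zero, hφp, Matrix.one_mulVec]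
  omega

end Cfsg.Agent.Lib.Helper10.C3E
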