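import Mathlib
import Cfsg.Agent.Lib.Helper22.C3L.Defs
import Cfsg.Agent.Lib.helper8.C3S.Defs

set_option autoImplicit false
set_option linter.unusedVariables false
set_option linter.unusedSectionVars false

/-!
# Project C3S (leader helper8) -> S5664, piece JOR : core (helper27)

`c3sjor_core` : the Jordan-algebra lemma `jor`, with the statements of JDEC (`jdec_exists`), JPROJ, JSUPP, JGROW, JSUM (for the given `F`, `K`) as hypotheses.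
-/

namespace Cfsg.Agent.Lib.helper8.C3S

open Module Cfsg.Agent.Lib.Helper22.C3L

variable {F K V : Type*} [Field F] [Field K] [Algebra F K] [AddCommGroup V] [Module F V] [Module K V]
  [IsScalarTower F K V]

/-- the multiplication by `k` is its own trace-adjoint -/
theorem c3sjor_adj_mul (k : K) : TrAdj (LinearMap.mulLeft F k) (LinearMap.mulLeft F k) := by
  intro s t
  simp only [LinearMap.mulLeft_apply]
  rw [mul_comm k s, mul_assoc]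

/-- adjoints compose -/
theorem c3sjor_adj_comp {γ₁ γ₁' γ₂ γ₂' : K →ₗ[F] K} (h₁ : TrAdj γ₁ γ₁') (h₂ : TrAdj γ₂ γ₂') :
    TrAdj (γ₁ ∘ₗ γ₂) (γ₂' ∘ₗ γ₁') := by
  intro s t
  simp only [LinearMap.comp_apply]
  rw [h₁, h₂]

/-- a map with at most one non-zero coefficient is `c σ` -/
theorem c3sjor_two_supp [FiniteDimensional F K] {α : K →ₗ[F] K} {a : (K ≃ₐ[F] K) → K} (ha : Coef α a)
    (hαn : ¬ ∃ (c : K) (σ : K ≃ₐ[F] K), ∀ x : K, α x = c * σ x) :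
    ∃ s t : K ≃ₐ[F] K, s ≠ t ∧ a s ≠ 0 ∧ a t ≠ 0 := by
  classical
  by_contra hcon
  push Not at hcon
  apply hαn
  by_cases h0 : ∀ σ, a σ = 0
  · refine ⟨0, 1, fun x => ?_⟩
    rw [ha x, zero_mul]
    exact Finset.sum_eq_zero (fun σ _ => by rw [h0 σ, zero_mul])
  · push Not at h0
    obtain ⟨s, hs⟩ := h0
    refine ⟨a s, s, fun x => ?_⟩
    rw [ha x]
    apply Finset.sum_eq_single s
    · intro t _ hts
      have : a t = 0 := by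
        by_contra hne
        exact hne (hcon s t (Ne.symm hts) hs)
      rw [this, zero_mul]
    · intro h
      exact absurd (Finset.mem_univ s) h

/-- JOR with the other J-rows as hypotheses -/
theorem c3sjor_core [Finite K] [FiniteDimensional F K] (hr : (finrank F K).Prime)
    (Hdec : ∀ γ : K →ₗ[F] K, ∃ a : (K ≃ₐ[F] K) → K, Coef γ a)
    (Hproj : ∀ (L : AddSubgroup (K →ₗ[F] K)),
      (∀ β ∈ L, ∀ k : K, LinearMap.mulLeft F k ∘ₗ β ∘ₗ LinearMap.mulLeft F k ∈ L) →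
      ∀ {β : K →ₗ[F] K}, β ∈ L → TrAdj β β → ∀ {b : (K ≃ₐ[F] K) → K}, Coef β b →
      ∀ (σ : K ≃ₐ[F] K) (c : K), symz σ (c * b σ) ∈ L)
    (Hsupp : ∀ (L : AddSubgroup (K →ₗ[F] K)), (∀ c : K, LinearMap.mulLeft F c ∈ L) →
      ∀ {γ γ' : K →ₗ[F] K}, TrAdj γ γ' → (∀ β ∈ L, γ ∘ₗ β ∘ₗ γ' ∈ L) →
      ∀ {a : (K ≃ₐ[F] K) → K}, Coef γ a → ∀ {ρ τ : K ≃ₐ[F] K}, a ρ ≠ 0 → a τ ≠ 0 →
      ∃ β ∈ L, ∃ b : (K ≃ₐ[F] K) → K, Coef β b ∧ b (ρ * τ⁻¹) ≠ 0)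
    (Hgrow : ∀ {γ₁ γ₂ : K →ₗ[F] K} {a₁ a₂ : (K ≃ₐ[F] K) → K}, Coef γ₁ a₁ → Coef γ₂ a₂ →
      ∀ {ρ₁ ρ₂ τ₁ τ₂ : K ≃ₐ[F] K}, a₁ ρ₁ ≠ 0 → a₁ ρ₂ ≠ 0 → a₂ τ₁ ≠ 0 → a₂ τ₂ ≠ 0 →
      ∃ (k : K) (a₃ : (K ≃ₐ[F] K) → K), Coef (γ₁ ∘ₗ LinearMap.mulLeft F k ∘ₗ γ₂) a₃ ∧
        a₃ (ρ₁ * τ₁) ≠ 0 ∧ a₃ (ρ₂ * τ₂) ≠ 0)
    (Hsum : ∀ (L : AddSubgroup (K →ₗ[F] K)), LinearMap.mulLeft F (1 : K) ∈ L →
      (∀ (σ : K ≃ₐ[F] K) (a : K), σ ≠ 1 → symz σ a ∈ L) → trK F K ∈ L)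
    (L : AddSubgroup (K →ₗ[F] K))
    (hK : ∀ c : K, LinearMap.mulLeft F c ∈ L)
    (hsa : ∀ β ∈ L, TrAdj β β)
    (hk : ∀ β ∈ L, ∀ k : K, LinearMap.mulLeft F k ∘ₗ β ∘ₗ LinearMap.mulLeft F k ∈ L)
    {α α' : K →ₗ[F] K} (hadj : TrAdj α α') (hα : ∀ β ∈ L, α ∘ₗ β ∘ₗ α' ∈ L)
    (hαn : ¬ ∃ (c : K) (σ : K ≃ₐ[F] K), ∀ x : K, α x = c * σ x) : trK F K ∈ L := by
  classical
  -- the Galois group is commutative of prime order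
  have hcomm : ∀ x y : K ≃ₐ[F] K, x * y = y * x := by
    intro x y
    obtain ⟨g, hg⟩ := IsCyclic.exists_generator (α := K ≃ₐ[F] K)
    obtain ⟨i, rfl⟩ := Subgroup.mem_zpowers_iff.mp (hg x)
    obtain ⟨j, rfl⟩ := Subgroup.mem_zpowers_iff.mp (hg y)
    rw [← zpow_add, ← zpow_add, add_comm]
  have hcard : Nat.card (K ≃ₐ[F] K) = finrank F K := IsGalois.card_aut_eq_finrank F K
  -- the coefficients of `α`
  obtain ⟨a, ha⟩ := Hdec α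
  obtain ⟨s, t, hst, has, hat⟩ := c3sjor_two_supp ha hαn
  set δ₀ : K ≃ₐ[F] K := s * t⁻¹ with hδ₀
  have hδ₀1 : δ₀ ≠ 1 := by
    intro h
    apply hst
    rw [hδ₀, mul_inv_eq_one] at h
    exact h
  -- the monoid `M`
  let M : Set (K →ₗ[F] K) := {γ | ∃ γ', TrAdj γ γ' ∧ ∀ β ∈ L, γ ∘ₗ β ∘ₗ γ' ∈ L}
  have hMα : α ∈ M := ⟨α', hadj, hα⟩
  have hMk : ∀ k : K, LinearMap.mulLeft F k ∈ M := fun k => ⟨_, c3sjor_adj_mul k, fun β hβ => hk β hβ k⟩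
  have hMmul : ∀ γ₁ ∈ M, ∀ γ₂ ∈ M, γ₁ ∘ₗ γ₂ ∈ M := by
    rintro γ₁ ⟨γ₁', h₁, h₁'⟩ γ₂ ⟨γ₂', h₂, h₂'⟩
    refine ⟨γ₂' ∘ₗ γ₁', c3sjor_adj_comp h₁ h₂, fun β hβ => ?_⟩
    have := h₁' _ (h₂' β hβ)
    simpa only [LinearMap.comp_assoc] using this
  -- growth of the support
  have hgrow : ∀ n : ℕ, ∃ γ ∈ M, ∃ (c : (K ≃ₐ[F] K) → K) (ρ₁ ρ₂ : K ≃ₐ[F] K), Coef γ c ∧ c ρ₁ ≠ 0 ∧ c ρ₂ ≠ 0 ∧
      ρ₁ * ρ₂⁻¹ = δ₀ ^ (n + 1) := by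
    intro n
    induction n with
    | zero => exact ⟨α, hMα, a, s, t, ha, has, hat, by rw [zero_add, pow_one]⟩
    | succ n ih =>
      obtain ⟨γ, hγM, c, ρ₁, ρ₂, hc, hc1, hc2, hq⟩ := ih
      obtain ⟨k, a₃, h3, h31, h32⟩ := Hgrow hc ha hc1 hc2 has hat
      refine ⟨γ ∘ₗ LinearMap.mulLeft F k ∘ₗ α, hMmul _ hγM _ (hMmul _ (hMk k) _ hMα), a₃, ρ₁ * s, ρ₂ * t, h3, h31, h32,
        ?_⟩
      rw [mul_inv_rev, pow_succ, ← hq, hδ₀]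
      calc ρ₁ * s * (t⁻¹ * ρ₂⁻¹) = ρ₁ * ((s * t⁻¹) * ρ₂⁻¹) := by group
        _ = ρ₁ * (ρ₂⁻¹ * (s * t⁻¹)) := by rw [hcomm (s * t⁻¹) ρ₂⁻¹]
        _ = ρ₁ * ρ₂⁻¹ * (s * t⁻¹) := by group
  -- every `σ` is a positive power of `δ₀`
  have hpow : ∀ σ : K ≃ₐ[F] K, ∃ n : ℕ, σ = δ₀ ^ (n + 1) := by
    intro σ
    have : Fact (finrank F K).Prime := ⟨hr⟩
    have hmem : σ ∈ Subgroup.zpowers δ₀ := mem_zpowers_of_prime_card hcard hδ₀1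
    have hfin : Finite (K ≃ₐ[F] K) := Nat.finite_of_card_ne_zero (by rw [hcard]; exact hr.ne_zero)
    have hord : orderOf δ₀ = finrank F K := by
      have hdvd : orderOf δ₀ ∣ finrank F K := by rw [← hcard]; exact orderOf_dvd_natCard δ₀
      rcases (Nat.dvd_prime hr).mp hdvd with h1 | h1
      · exact absurd (orderOf_eq_one_iff.mp h1) hδ₀1
      · exact h1
    obtain ⟨i, hi⟩ := Subgroup.mem_zpowers_iff.mp hmem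
    have hr0 : (0 : ℤ) < (orderOf δ₀ : ℤ) := by
      rw [hord]
      exact_mod_cast hr.pos
    have hm : (((i % (orderOf δ₀ : ℤ)).toNat : ℕ) : ℤ) = i % (orderOf δ₀ : ℤ) :=
      Int.toNat_of_nonneg (Int.emod_nonneg _ hr0.ne')
    have h1 : σ = δ₀ ^ (i % (orderOf δ₀ : ℤ)).toNat := by
      rw [← hi, ← zpow_mod_orderOf]
      conv_lhs => rw [← hm]
      rw [zpow_natCast]
    have hpos : 1 ≤ orderOf δ₀ := by
      rw [hord]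
      exact hr.pos
    refine ⟨(i % (orderOf δ₀ : ℤ)).toNat + orderOf δ₀ - 1, ?_⟩
    rw [show (i % (orderOf δ₀ : ℤ)).toNat + orderOf δ₀ - 1 + 1 = (i % (orderOf δ₀ : ℤ)).toNat + orderOf δ₀ by omega,
      pow_add, pow_orderOf_eq_one, mul_one]
    exact h1
  -- every `σ` occurs in the support of some element of `L`
  have hD : ∀ σ : K ≃ₐ[F] K, ∃ β ∈ L, ∃ b : (K ≃ₐ[F] K) → K, Coef β b ∧ b σ ≠ 0 := by
    intro σ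
    obtain ⟨n, hn⟩ := hpow σ
    obtain ⟨γ, ⟨γ', hγadj, hγL⟩, c, ρ₁, ρ₂, hc, hc1, hc2, hq⟩ := hgrow n
    obtain ⟨β, hβ, b, hb, hb0⟩ := Hsupp L hK hγadj hγL hc hc1 hc2
    refine ⟨β, hβ, b, hb, ?_⟩
    rw [hn, ← hq]
    exact hb0
  -- all the symmetrisations
  have hsym : ∀ (σ : K ≃ₐ[F] K) (x : K), symz σ x ∈ L := by
    intro σ x
    obtain ⟨β, hβ, b, hb, hb0⟩ := hD σ
    have := Hproj L hk hβ (hsa β hβ) hb σ (x / b σ)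
    rwa [div_mul_cancel₀ x hb0] at this
  exact Hsum L (hK 1) (fun σ x _ => hsym σ x)

end Cfsg.Agent.Lib.helper8.C3S
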