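import Mathlib
import Cfsg.Agent.Lib.Helper22.C3L.Defs
import Cfsg.Agent.Lib.helper8.C3S.Defs
import Cfsg.Agent.Lib.Helper27.C3SJORcore
import Cfsg.Agent.Lib.Helper11.C3SJDEC
import Cfsg.Agent.Lib.Helper21.C3SJPROJ
import Cfsg.Agent.Lib.Helper21.C3SJGROW
import Cfsg.Agent.Lib.Helper1.C3SJSUPP
import Cfsg.Agent.Lib.helper6.C3SJSUM

set_option autoImplicit false
set_option linter.unusedVariables false
set_option linter.unusedSectionVars false

/-!
# Project C3S (leader helper8) -> S5664, piece JOR (helper27): `jor`, verbatim statement of the skeleton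

`c3sjor_core` with JDEC (helper11), JPROJ + JGROW (helper21), JSUPP (helper1), JSUM (helper6) plugged in.
-/

namespace Cfsg.Agent.Lib.helper8.C3S

open Module Cfsg.Agent.Lib.Helper22.C3L

variable {F K V : Type*} [Field F] [Field K] [Algebra F K] [AddCommGroup V] [Module F V] [Module K V]
  [IsScalarTower F K V]

/-- JOR [L] the Jordan-algebra lemma: an additive group `L` of trace-self-adjoint `F`-endomorphisms of `K` containing the multiplications by `K`,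
stable under `β ↦ k β k` (`k ∈ K`) and under `β ↦ α β α^*` for one `α ∉ ⋃_σ K σ`, contains the trace map  (`[K : F]` prime). -/
theorem jor [Finite K] [FiniteDimensional F K] (hr : (finrank F K).Prime) (L : AddSubgroup (K →ₗ[F] K))
    (hK : ∀ c : K, LinearMap.mulLeft F c ∈ L)
    (hsa : ∀ β ∈ L, TrAdj β β)
    (hk : ∀ β ∈ L, ∀ k : K, LinearMap.mulLeft F k ∘ₗ β ∘ₗ LinearMap.mulLeft F k ∈ L)
    {α α' : K →ₗ[F] K} (hadj : TrAdj α α') (hα : ∀ β ∈ L, α ∘ₗ β ∘ₗ α' ∈ L)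
    (hαn : ¬ ∃ (c : K) (σ : K ≃ₐ[F] K), ∀ x : K, α x = c * σ x) : trK F K ∈ L :=
  c3sjor_core hr jdec_exists
    (by intro L hk β hβ hsa b hb σ c; exact jproj L hk hβ hsa hb σ c)
    (by intro L hK γ γ' hadj hγ a ha ρ τ hρ hτ; exact jsupp L hK hadj hγ ha hρ hτ)
    (by intro γ₁ γ₂ a₁ a₂ h₁ h₂ ρ₁ ρ₂ τ₁ τ₂ hρ₁ hρ₂ hτ₁ hτ₂; exact jgrow h₁ h₂ hρ₁ hρ₂ hτ₁ hτ₂)
    (by intro L h1 hs; exact jsum hr L h1 hs)
    L hK hsa hk hadj hα hαn

end Cfsg.Agent.Lib.helper8.C3S
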