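import Cfsg.Agent.Lib.Helper10.C3O.Defs

/-!
# Project C3O (S5701, leader helper10), piece STEPB : core (helper27)

`c3ostepb_core` : the statement of `stepB_o` with the statements of `stepA_o` (STEPA), `b_good` (BGOOD) and `b_bad` (BBAD)
as hypotheses (for the given `B`, `H`).
-/

set_option autoImplicit false
set_option linter.unusedVariables false
set_option linter.unusedSectionVars false

namespace Cfsg.Agent.Lib.Helper10.C3O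

open Module Cfsg.Agent.Lib.Helper22.C3L

variable {F K V : Type*} [Field F] [Field K] [Algebra F K] [AddCommGroup V] [Module F V] [Module K V]
  [IsScalarTower F K V]

/-- `V` is finite-dimensional over `F` -/
theorem c3ostepb_fin [Finite K] [FiniteDimensional K V] : Module.Finite F V := by
  have : Module.Finite F K := Module.Finite.of_finite
  exact Module.Finite.trans K V

/-- `dl` is bounded -/
theorem c3ostepb_dl_le [Finite K] [FiniteDimensional K V] (h : V ≃ₗ[F] V) (u₁ u₂ : V) :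
    dl F K h u₁ u₂ ≤ finrank F V := by
  have : Module.Finite F V := c3ostepb_fin (K := K)
  exact Submodule.finrank_le _

/-- `dl = 0` iff the intersection is trivial -/
theorem c3ostepb_dl_pos [Finite K] [FiniteDimensional K V] (h : V ≃ₗ[F] V) (u₁ u₂ : V) :
    Kl F K u₁ ⊓ (Kl F K u₂).map (h : V →ₗ[F] V) ≠ ⊥ ↔ 1 ≤ dl F K h u₁ u₂ := by
  have : Module.Finite F V := c3ostepb_fin (K := K)
  rw [dl, Nat.one_le_iff_ne_zero, Ne, Ne, Submodule.finrank_eq_zero]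

/-- STEPB with the statements of STEPA, BGOOD, BBAD as hypotheses -/
theorem c3ostepb_core [Finite K] [FiniteDimensional K V] (B : V →ₗ[K] V →ₗ[K] K) (H : Subgroup (V ≃ₗ[F] V))
    (hA : ∃ (h : V ≃ₗ[F] V) (u₁ u₂ : V), Conf B H h u₁ u₂ ∧
      Kl F K u₁ ⊓ (Kl F K u₂).map (h : V →ₗ[F] V) ≠ ⊥)
    (hgood : ∀ {h : V ≃ₗ[F] V} {u₁ u₂ : V}, Conf B H h u₁ u₂ →
      (∀ (h' : V ≃ₗ[F] V) (u₁' u₂' : V), Conf B H h' u₁' u₂' → dl F K h' u₁' u₂' ≤ dl F K h u₁ u₂) →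
      Kl F K u₁ ⊓ (Kl F K u₂).map (h : V →ₗ[F] V) ≠ ⊥ → ∀ {a : V}, a ∈ Kl F K u₁ →
      a ∉ (Kl F K u₂).map (h : V →ₗ[F] V) →
      (∀ x' ∈ (Kl F K u₂).map (h : V →ₗ[F] V), tf F B a x' = 0) → StepBOut B H)
    (hbadS : ∀ {h : V ≃ₗ[F] V} {u₁ u₂ : V}, Conf B H h u₁ u₂ →
      (∀ (h' : V ≃ₗ[F] V) (u₁' u₂' : V), Conf B H h' u₁' u₂' → dl F K h' u₁' u₂' ≤ dl F K h u₁ u₂) →
      Kl F K u₁ ⊓ (Kl F K u₂).map (h : V →ₗ[F] V) ≠ ⊥ →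
      (∀ a ∈ Kl F K u₁, (∀ x' ∈ (Kl F K u₂).map (h : V →ₗ[F] V), tf F B a x' = 0) →
        a ∈ (Kl F K u₂).map (h : V →ₗ[F] V)) →
      ∃ ρ : V ≃ₗ[F] V, Conf B H ρ u₁ u₁ ∧ dl F K ρ u₁ u₁ = dl F K h u₁ u₂ ∧
        Kl F K u₁ ⊓ (Kl F K u₁).map (ρ : V →ₗ[F] V) ≠ ⊥ ∧
        ∃ a ∈ Kl F K u₁, a ∉ (Kl F K u₁).map (ρ : V →ₗ[F] V) ∧
          ∀ x' ∈ (Kl F K u₁).map (ρ : V →ₗ[F] V), tf F B a x' = 0) :
    StepBOut B H := by
  classical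
  -- the set of values of `dl` on configurations
  set S : Set ℕ := {n | ∃ (h : V ≃ₗ[F] V) (u₁ u₂ : V), Conf B H h u₁ u₂ ∧ dl F K h u₁ u₂ = n} with hS
  obtain ⟨h₀, v₁, v₂, hc₀, hD₀⟩ := hA
  have hne : S.Nonempty := ⟨_, h₀, v₁, v₂, hc₀, rfl⟩
  have hbdd : BddAbove S := by
    refine ⟨finrank F V, ?_⟩
    rintro n ⟨h, u₁, u₂, _, rfl⟩
    exact c3ostepb_dl_le (K := K) h u₁ u₂
  obtain ⟨h, u₁, u₂, hc, hdl⟩ := Nat.sSup_mem hne hbdd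
  have hmax : ∀ (h' : V ≃ₗ[F] V) (u₁' u₂' : V), Conf B H h' u₁' u₂' →
      dl F K h' u₁' u₂' ≤ dl F K h u₁ u₂ := by
    intro h' u₁' u₂' hc'
    rw [hdl]
    exact le_csSup hbdd ⟨h', u₁', u₂', hc', rfl⟩
  have hD : Kl F K u₁ ⊓ (Kl F K u₂).map (h : V →ₗ[F] V) ≠ ⊥ := by
    rw [c3ostepb_dl_pos]
    exact le_trans ((c3ostepb_dl_pos h₀ v₁ v₂).mp hD₀) (hmax h₀ v₁ v₂ hc₀)
  by_cases hcase : ∃ a ∈ Kl F K u₁, a ∉ (Kl F K u₂).map (h : V →ₗ[F] V) ∧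
      ∀ x' ∈ (Kl F K u₂).map (h : V →ₗ[F] V), tf F B a x' = 0
  · obtain ⟨a, ha, ha', hap⟩ := hcase
    exact hgood hc hmax hD ha ha' hap
  · have hbad : ∀ a ∈ Kl F K u₁, (∀ x' ∈ (Kl F K u₂).map (h : V →ₗ[F] V), tf F B a x' = 0) →
        a ∈ (Kl F K u₂).map (h : V →ₗ[F] V) := by
      intro a ha hap
      by_contra hcon
      exact hcase ⟨a, ha, hcon, hap⟩
    obtain ⟨ρ, hcρ, hdlρ, hDρ, a, ha, ha', hap⟩ := hbadS hc hmax hD hbad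
    have hmaxρ : ∀ (h' : V ≃ₗ[F] V) (u₁' u₂' : V), Conf B H h' u₁' u₂' →
        dl F K h' u₁' u₂' ≤ dl F K ρ u₁ u₁ := by
      intro h' u₁' u₂' hc'
      rw [hdlρ]
      exact hmax h' u₁' u₂' hc'
    exact hgood hcρ hmaxρ hDρ ha ha' hap

end Cfsg.Agent.Lib.Helper10.C3O
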