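import Mathlib
import Cfsg.Agent.Lib.Helper10.C3Q.Defs
import Cfsg.Agent.Lib.Helper16.SpinAdjust2
import Cfsg.Agent.Lib.Helper10.C3QKSTR
import Cfsg.Agent.Lib.Helper26.C3QKSQRT

set_option autoImplicit false
set_option linter.unusedVariables false
set_option linter.unusedSectionVars false

/-!
# Project C3Q (S5977 + S5978; designer helper10), row FRADJUST (`frame_adjust`).
-/

namespace Cfsg.Agent.Lib.Helper10.C3Q

open Matrix Module Cfsg.Agent.Lib.Helper13.OTS Cfsg.Agent.Lib.Helper16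

universe u

variable {F : Type u} [Field F] {ι : Type} [Fintype ι] [DecidableEq ι]

/-- square roots in `K = F(√δ)` in `F`-terms: `x + y θ` of square norm is `(α + β θ)²`. -/
theorem c3qfradjust_sqrt [Fintype F] (h2 : (2 : F) ≠ 0) (Q : QuadraticForm F (ι → F)) (δ : F)
    (A : Matrix ι ι F) (hA : Gen (⇑Q) δ A) (x y t : F) (ht : t ≠ 0)
    (hxy : x ^ 2 - δ * y ^ 2 = t ^ 2) : ∃ α β : F, α ^ 2 + δ * β ^ 2 = x ∧ 2 * α * β = y := by
  obtain ⟨K, _, _, _, _, _, θ, β', hcard, hfr, hθ, hθv, hrep, hind, hβ, hsymm⟩ := k_str h2 Q δ A hA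
  have hxy0 : x ≠ 0 ∨ y ≠ 0 := by
    by_contra hcon
    push Not at hcon
    obtain ⟨rfl, rfl⟩ := hcon
    apply ht
    have : t ^ 2 = 0 := by rw [← hxy]; ring
    exact pow_eq_zero_iff (two_ne_zero) |>.mp this
  have hsq : IsSquare (x ^ 2 - δ * y ^ 2) := ⟨t, by rw [hxy]; ring⟩
  obtain ⟨k, hk⟩ := k_sqrt h2 hcard δ hA.ns θ hθ x y hxy0 hsq
  obtain ⟨α, β, rfl⟩ := hrep k
  refine ⟨α, β, ?_, ?_⟩
  all_goals
    have hz : algebraMap F K (x - (α ^ 2 + δ * β ^ 2)) + algebraMap F K (y - 2 * α * β) * θ = 0 := by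
      simp only [map_sub, map_add, map_mul, map_pow, map_ofNat]
      linear_combination hk + (algebraMap F K β) ^ 2 * hθ
    obtain ⟨h3, h4⟩ := hind _ _ hz
  · linear_combination -h3
  · linear_combination -h4

/-- `A (A v) = δ v`. -/
theorem c3qfradjust_AA (δ : F) (A : Matrix ι ι F) (hA2 : A * A = δ • (1 : Matrix ι ι F)) (v : ι → F) :
    A *ᵥ (A *ᵥ v) = δ • v := by
  rw [Matrix.mulVec_mulVec, hA2, Matrix.smul_mulVec, Matrix.one_mulVec]

/-- the pair `e j, A e j` of a frame is linearly independent. -/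
theorem c3qfradjust_pair (Q : QuadraticForm F (ι → F)) (A : Matrix ι ι F) {n : ℕ}
    (e : Fin n → (ι → F)) (he : IsFrame (⇑Q) A e) (j : Fin n) (s t : F)
    (h : s • e j + t • (A *ᵥ e j) = 0) : s = 0 ∧ t = 0 := by
  have hli := he.li
  have hinj : Function.Injective (fun s : Fin 2 => ((j, s) : Fin n × Fin 2)) := by
    intro s1 s2 h12
    exact (Prod.mk.inj h12).2
  have h2 := hli.comp _ hinj
  have hfun : ((fun p : Fin n × Fin 2 => if p.2 = 0 then e p.1 else (fun j => A *ᵥ e j) p.1) ∘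
      fun s : Fin 2 => ((j, s) : Fin n × Fin 2)) = ![e j, A *ᵥ e j] := by
    funext s
    fin_cases s <;> simp
  rw [hfun] at h2
  exact LinearIndependent.pair_iff.mp h2 s t h

/-- a vector orthogonal to all the vectors of a frame vanishes. -/
theorem c3qfradjust_perp (Q : QuadraticForm F (ι → F))
    (hQ : (QuadraticMap.polarBilin Q).Nondegenerate) (A : Matrix ι ι F) {n : ℕ}
    (e : Fin n → (ι → F)) (he : IsFrame (⇑Q) A e) (w : ι → F)
    (hw : ∀ j, QuadraticMap.polar (⇑Q) w (e j) = 0 ∧ QuadraticMap.polar (⇑Q) w (A *ᵥ e j) = 0) :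
    w = 0 := by
  apply hQ.1 w
  intro v
  have hv : v ∈ Submodule.span F (Set.range
      (fun p : Fin n × Fin 2 => if p.2 = 0 then e p.1 else (fun j => A *ᵥ e j) p.1)) :=
    he.span Submodule.mem_top
  rw [QuadraticMap.polarBilin_apply_apply]
  induction hv using Submodule.span_induction with
  | mem x hx =>
    obtain ⟨⟨j, s⟩, rfl⟩ := hx
    by_cases hs : s = 0
    · simp only [hs, if_true]
      exact (hw j).1
    · simp only [hs, if_false]
      exact (hw j).2
  | zero => exact QuadraticMap.polar_zero_right _ _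
  | add x y _ _ hx hy => rw [QuadraticMap.polar_add_right, hx, hy, add_zero]
  | smul c x _ hx => rw [QuadraticMap.polar_smul_right, hx, smul_zero]

/-- FRADJUST [L]: `a₀, b₀` the data of the last vector `e₀`; `δ a₀² - b₀² ≠ 0` (else the plane `⟨e₀, A e₀⟩` is degenerate, hence `V` by orthogonality, against `hQ`).
`s := a/2 + (b/(2δ)) θ`, `s₀` likewise: `N(s)/N(s₀) = t²`; KSQRT: `s / s₀ = k²`, `k = α + β θ`; the new last vector is `α e₀ + β A e₀`:
`B(k e₀, k e₀) = (α² + δ β²) a₀ + 2 α β b₀ = a`, `B(k e₀, A k e₀) = (α² + δ β²) b₀ + 2 α β δ a₀ = b`; the plane is unchanged (`k` invertible), so `IsFrame` persists. -/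
theorem frame_adjust [Fintype F] (h2 : (2 : F) ≠ 0) (Q : QuadraticForm F (ι → F))
    (hQ : (QuadraticMap.polarBilin Q).Nondegenerate) (δ : F) (A : Matrix ι ι F) (hA : Gen (⇑Q) δ A)
    (n : ℕ) (e : Fin (n + 1) → (ι → F)) (he : IsFrame (⇑Q) A e) (a b t : F) (ht : t ≠ 0)
    (hab : δ * a ^ 2 - b ^ 2 = t ^ 2 * (δ * QuadraticMap.polar (⇑Q) (e (Fin.last n)) (e (Fin.last n)) ^ 2 -
      QuadraticMap.polar (⇑Q) (e (Fin.last n)) (A *ᵥ e (Fin.last n)) ^ 2)) :
    ∃ e' : Fin (n + 1) → (ι → F), IsFrame (⇑Q) A e' ∧ (∀ j, j ≠ Fin.last n → e' j = e j) ∧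
      QuadraticMap.polar (⇑Q) (e' (Fin.last n)) (e' (Fin.last n)) = a ∧
      QuadraticMap.polar (⇑Q) (e' (Fin.last n)) (A *ᵥ e' (Fin.last n)) = b := by
  classical
  have hAA := c3qfradjust_AA δ A hA.sq
  have hsa := hA.sa
  obtain ⟨e0, he0⟩ : ∃ e0, e0 = e (Fin.last n) := ⟨_, rfl⟩
  obtain ⟨a0, ha0⟩ : ∃ a0, a0 = QuadraticMap.polar (⇑Q) e0 e0 := ⟨_, rfl⟩
  obtain ⟨b0, hb0⟩ : ∃ b0, b0 = QuadraticMap.polar (⇑Q) e0 (A *ᵥ e0) := ⟨_, rfl⟩
  rw [← he0, ← ha0, ← hb0] at hab
  have hδ0 : δ ≠ 0 := by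
    rintro rfl
    exact hA.ns ⟨0, by ring⟩
  -- the Gram data of the last plane
  have p1 : QuadraticMap.polar (⇑Q) (A *ᵥ e0) e0 = b0 := by rw [hsa, hb0]
  have p2 : QuadraticMap.polar (⇑Q) (A *ᵥ e0) (A *ᵥ e0) = δ * a0 := by
    rw [hsa, hAA, QuadraticMap.polar_smul_right, smul_eq_mul, ha0]
  -- orthogonality to the other planes
  have horth : ∀ j, j ≠ Fin.last n →
      QuadraticMap.polar (⇑Q) e0 (e j) = 0 ∧ QuadraticMap.polar (⇑Q) e0 (A *ᵥ e j) = 0 ∧
      QuadraticMap.polar (⇑Q) (A *ᵥ e0) (e j) = 0 ∧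
      QuadraticMap.polar (⇑Q) (A *ᵥ e0) (A *ᵥ e j) = 0 := by
    intro j hj
    obtain ⟨h1, h2', h3⟩ := he.orth (Fin.last n) j (Ne.symm hj)
    obtain ⟨_, h5, _⟩ := he.orth j (Fin.last n) hj
    rw [← he0] at h1 h2' h3 h5
    refine ⟨h1, h2', ?_, h3⟩
    rw [QuadraticMap.polar_comm]
    exact h5
  -- `δ a₀² - b₀² ≠ 0`
  have hN0 : δ * a0 ^ 2 - b0 ^ 2 ≠ 0 := by
    intro hN
    have hw0 : b0 • e0 - a0 • (A *ᵥ e0) = 0 := by
      apply c3qfradjust_perp Q hQ A e he
      intro j
      by_cases hj : j = Fin.last n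
      · rw [hj, ← he0]
        constructor
        · rw [QuadraticMap.polar_sub_left, QuadraticMap.polar_smul_left, QuadraticMap.polar_smul_left,
            ← ha0, p1, smul_eq_mul, smul_eq_mul]
          ring
        · rw [QuadraticMap.polar_sub_left, QuadraticMap.polar_smul_left, QuadraticMap.polar_smul_left,
            ← hb0, p2, smul_eq_mul, smul_eq_mul]
          linear_combination -hN
      · obtain ⟨h1, h2', h3, h4⟩ := horth j hj
        constructor
        · rw [QuadraticMap.polar_sub_left, QuadraticMap.polar_smul_left, QuadraticMap.polar_smul_left,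
            h1, h3, smul_zero, smul_zero, sub_zero]
        · rw [QuadraticMap.polar_sub_left, QuadraticMap.polar_smul_left, QuadraticMap.polar_smul_left,
            h2', h4, smul_zero, smul_zero, sub_zero]
    have hw1 : b0 • e0 + (-a0) • (A *ᵥ e0) = 0 := by
      rw [neg_smul, ← sub_eq_add_neg]
      exact hw0
    rw [he0] at hw1
    obtain ⟨hb00, ha00⟩ := c3qfradjust_pair Q A e he (Fin.last n) _ _ hw1
    have ha00' : a0 = 0 := by linear_combination -ha00
    have he00 : e0 = 0 := by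
      apply c3qfradjust_perp Q hQ A e he
      intro j
      by_cases hj : j = Fin.last n
      · rw [hj, ← he0, ← ha0, ← hb0]
        exact ⟨ha00', hb00⟩
      · obtain ⟨h1, h2', _, _⟩ := horth j hj
        exact ⟨h1, h2'⟩
    have h10 : (1 : F) • e (Fin.last n) + (0 : F) • (A *ᵥ e (Fin.last n)) = 0 := by
      rw [← he0, he00, smul_zero, Matrix.mulVec_zero, smul_zero, add_zero]
    exact one_ne_zero (c3qfradjust_pair Q A e he (Fin.last n) _ _ h10).1
  -- the square root
  obtain ⟨x, hx⟩ : ∃ x, x = (δ * a * a0 - b * b0) / (δ * a0 ^ 2 - b0 ^ 2) := ⟨_, rfl⟩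
  obtain ⟨y, hy⟩ : ∃ y, y = (b * a0 - a * b0) / (δ * a0 ^ 2 - b0 ^ 2) := ⟨_, rfl⟩
  have hxy : x ^ 2 - δ * y ^ 2 = t ^ 2 := by
    rw [hx, hy]
    field_simp
    linear_combination (δ * a0 ^ 2 - b0 ^ 2) * hab
  obtain ⟨α, β, hαβ1, hαβ2⟩ := c3qfradjust_sqrt h2 Q δ A hA x y t ht hxy
  have hxa : x * a0 + y * b0 = a := by
    rw [hx, hy]
    field_simp
    ring
  have hxb : x * b0 + y * δ * a0 = b := by
    rw [hx, hy]
    field_simp
    ring
  have hD : α ^ 2 - δ * β ^ 2 ≠ 0 := by
    intro hD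
    by_cases hβ : β = 0
    · have hα : α = 0 := by
        rw [hβ] at hD
        have : α ^ 2 = 0 := by linear_combination hD
        exact pow_eq_zero_iff (two_ne_zero) |>.mp this
      apply ht
      have : t ^ 2 = 0 := by
        rw [← hxy, ← hαβ1, ← hαβ2, hα, hβ]
        ring
      exact pow_eq_zero_iff (two_ne_zero) |>.mp this
    · apply hA.ns
      refine ⟨α / β, ?_⟩
      field_simp
      linear_combination -hD
  -- the new last vector
  obtain ⟨u, hu⟩ : ∃ u, u = α • e0 + β • (A *ᵥ e0) := ⟨_, rfl⟩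
  have hAu : A *ᵥ u = α • (A *ᵥ e0) + (β * δ) • e0 := by
    rw [hu, Matrix.mulVec_add, Matrix.mulVec_smul, Matrix.mulVec_smul, hAA, smul_smul]
  have hue0 : (α ^ 2 - δ * β ^ 2) • e0 = α • u - β • (A *ᵥ u) := by
    rw [hAu, hu]
    module
  have huAe0 : (α ^ 2 - δ * β ^ 2) • (A *ᵥ e0) = α • (A *ᵥ u) - (β * δ) • u := by
    rw [hAu, hu]
    module
  have hpuu : QuadraticMap.polar (⇑Q) u u = a := by
    rw [hu]
    simp only [QuadraticMap.polar_add_left, QuadraticMap.polar_add_right, QuadraticMap.polar_smul_left,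
      QuadraticMap.polar_smul_right, smul_eq_mul, ← ha0, ← hb0, p1, p2]
    linear_combination a0 * hαβ1 + b0 * hαβ2 + hxa
  have hpuAu : QuadraticMap.polar (⇑Q) u (A *ᵥ u) = b := by
    rw [hAu, hu]
    simp only [QuadraticMap.polar_add_left, QuadraticMap.polar_add_right, QuadraticMap.polar_smul_left,
      QuadraticMap.polar_smul_right, smul_eq_mul, ← ha0, ← hb0, p1, p2]
    linear_combination b0 * hαβ1 + δ * a0 * hαβ2 + hxb
  have hu_orth : ∀ j, j ≠ Fin.last n →
      QuadraticMap.polar (⇑Q) u (e j) = 0 ∧ QuadraticMap.polar (⇑Q) u (A *ᵥ e j) = 0 ∧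
      QuadraticMap.polar (⇑Q) (A *ᵥ u) (e j) = 0 ∧
      QuadraticMap.polar (⇑Q) (A *ᵥ u) (A *ᵥ e j) = 0 := by
    intro j hj
    obtain ⟨h1, h2', h3, h4⟩ := horth j hj
    rw [hAu, hu]
    simp only [QuadraticMap.polar_add_left, QuadraticMap.polar_smul_left, h1, h2', h3, h4, smul_zero,
      add_zero, and_self]
  -- the new frame
  refine ⟨Function.update e (Fin.last n) u, ?_, ?_, ?_, ?_⟩
  · -- `IsFrame`
    have hval : ∀ j, Function.update e (Fin.last n) u j = if j = Fin.last n then u else e j := by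
      intro j
      by_cases hj : j = Fin.last n
      · rw [hj, Function.update_self, if_pos rfl]
      · rw [Function.update_of_ne hj, if_neg hj]
    have hspan : ⊤ ≤ Submodule.span F (Set.range (fun p : Fin (n + 1) × Fin 2 =>
        if p.2 = 0 then Function.update e (Fin.last n) u p.1
        else (fun j => A *ᵥ Function.update e (Fin.last n) u j) p.1)) := by
      refine le_trans he.span (Submodule.span_le.mpr ?_)
      rintro _ ⟨⟨j, s⟩, rfl⟩
      have hmem0 : u ∈ Submodule.span F (Set.range (fun p : Fin (n + 1) × Fin 2 =>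
          if p.2 = 0 then Function.update e (Fin.last n) u p.1
          else (fun j => A *ᵥ Function.update e (Fin.last n) u j) p.1)) := by
        apply Submodule.subset_span
        refine ⟨(Fin.last n, 0), ?_⟩
        simp
      have hmem1 : A *ᵥ u ∈ Submodule.span F (Set.range (fun p : Fin (n + 1) × Fin 2 =>
          if p.2 = 0 then Function.update e (Fin.last n) u p.1
          else (fun j => A *ᵥ Function.update e (Fin.last n) u j) p.1)) := by
        apply Submodule.subset_span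
        refine ⟨(Fin.last n, 1), ?_⟩
        simp
      by_cases hj : j = Fin.last n
      · subst hj
        by_cases hs : s = 0
        · simp only [hs, if_true, SetLike.mem_coe]
          have h5 : e (Fin.last n) = (α ^ 2 - δ * β ^ 2)⁻¹ • (α • u - β • (A *ᵥ u)) := by
            rw [← hue0, smul_smul, inv_mul_cancel₀ hD, one_smul, he0]
          rw [h5]
          exact Submodule.smul_mem _ _ (Submodule.sub_mem _ (Submodule.smul_mem _ _ hmem0)
            (Submodule.smul_mem _ _ hmem1))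
        · simp only [hs, if_false, SetLike.mem_coe]
          have h5 : A *ᵥ e (Fin.last n) =
              (α ^ 2 - δ * β ^ 2)⁻¹ • (α • (A *ᵥ u) - (β * δ) • u) := by
            rw [← huAe0, smul_smul, inv_mul_cancel₀ hD, one_smul, he0]
          rw [h5]
          exact Submodule.smul_mem _ _ (Submodule.sub_mem _ (Submodule.smul_mem _ _ hmem1)
            (Submodule.smul_mem _ _ hmem0))
      · apply Submodule.subset_span
        refine ⟨(j, s), ?_⟩
        simp only [Function.update_of_ne hj]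
    have hcard : Fintype.card (Fin (n + 1) × Fin 2) = Module.finrank F (ι → F) :=
      (Module.finrank_eq_card_basis (Module.Basis.mk he.li he.span)).symm
    refine ⟨linearIndependent_of_top_le_span_of_card_eq_finrank hspan hcard, hspan, ?_⟩
    intro i j hij
    simp only [hval]
    by_cases hi : i = Fin.last n
    · have hj : j ≠ Fin.last n := fun h => hij (hi.trans h.symm)
      rw [if_pos hi, if_neg hj]
      obtain ⟨h1, h2', h3, h4⟩ := hu_orth j hj
      exact ⟨h1, h2', h4⟩
    · rw [if_neg hi]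
      by_cases hj : j = Fin.last n
      · rw [if_pos hj]
        obtain ⟨h1, h2', h3, h4⟩ := hu_orth i hi
        refine ⟨?_, ?_, ?_⟩
        · rw [QuadraticMap.polar_comm]; exact h1
        · rw [QuadraticMap.polar_comm]; exact h3
        · rw [QuadraticMap.polar_comm]; exact h4
      · rw [if_neg hj]
        exact he.orth i j hij
  · intro j hj
    exact Function.update_of_ne hj _ _
  · rw [Function.update_self]
    exact hpuu
  · rw [Function.update_self]
    exact hpuAu

end Cfsg.Agent.Lib.Helper10.C3Q
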