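import Mathlib
import Cfsg.Agent.Lib.Helper10.C3Q.Defs
import Cfsg.Agent.Lib.Helper16.SpinAdjust2

set_option autoImplicit false
set_option linter.unusedVariables false
set_option linter.unusedSectionVars false

/-!
# Project C3Q (S5977 + S5978; designer helper10), row KNRM (`k_nrm`): `g ∈ N(K) ⟺ g A = ± A g`.
-/

namespace Cfsg.Agent.Lib.Helper10.C3Q

open Matrix Module Cfsg.Agent.Lib.Helper13.OTS Cfsg.Agent.Lib.Helper16

universe u

variable {F : Type u} [Field F] {ι : Type} [Fintype ι] [DecidableEq ι]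

/-- `1` and `A` are linearly independent (`ι` non-empty, `A² = δ` a non-square). -/
theorem c3qknrm_indep [Nonempty ι] (δ : F) (A : Matrix ι ι F) (hns : ¬ IsSquare δ)
    (hA2 : A * A = δ • (1 : Matrix ι ι F)) (x y : F)
    (h : x • (1 : Matrix ι ι F) + y • A = 0) : x = 0 ∧ y = 0 := by
  obtain ⟨i0⟩ := ‹Nonempty ι›
  have hy : y = 0 := by
    by_contra hy
    have h1 : y • A = (-x) • (1 : Matrix ι ι F) := by
      rw [neg_smul]
      exact eq_neg_of_add_eq_zero_right h
    have hA : A = (y⁻¹ * -x) • (1 : Matrix ι ι F) := by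
      calc A = y⁻¹ • (y • A) := by rw [smul_smul, inv_mul_cancel₀ hy, one_smul]
        _ = (y⁻¹ * -x) • (1 : Matrix ι ι F) := by rw [h1, smul_smul]
    apply hns
    refine ⟨y⁻¹ * -x, ?_⟩
    have h2 := hA2
    rw [hA, Matrix.smul_mul, Matrix.mul_smul, Matrix.one_mul, smul_smul] at h2
    have h3 := congrFun (congrFun h2 i0) i0
    rw [Matrix.smul_apply, Matrix.smul_apply, Matrix.one_apply_eq, smul_eq_mul, smul_eq_mul, mul_one,
      mul_one] at h3
    exact h3.symm
  refine ⟨?_, hy⟩
  rw [hy, zero_smul, add_zero] at h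
  have h3 := congrFun (congrFun h i0) i0
  rw [Matrix.smul_apply, Matrix.one_apply_eq, smul_eq_mul, mul_one, Matrix.zero_apply] at h3
  exact h3

/-- KNRM [M]: (⇐) `g (α + β A) g⁻¹ = α ± β A`; the same for `g⁻¹`.  (⇒) `g A g⁻¹ = α + β A` squares to `δ`: `α² + β² δ = δ`, `2 α β = 0` (`1, A` independent when `ι` is
non-empty, as `δ` is not a square; `ι` empty: all matrices are equal); `β = 0` is impossible, so `α = 0`, `β = ± 1`. -/
theorem k_nrm (h2 : (2 : F) ≠ 0) (K : Subalgebra F (Matrix ι ι F)) (δ : F) (A : Matrix ι ι F)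
    (hns : ¬ IsSquare δ) (hA2 : A * A = δ • (1 : Matrix ι ι F))
    (hKA : ∀ M : Matrix ι ι F, M ∈ K ↔ ∃ α β : F, M = α • (1 : Matrix ι ι F) + β • A) (g : GL ι F) :
    g ∈ Cfsg.Geo.subalgebraNormalizer K ↔ NrmA A g := by
  have hGG' : (g : Matrix ι ι F) * ((g⁻¹ : GL ι F) : Matrix ι ι F) = 1 := by
    rw [← Units.val_mul, mul_inv_cancel, Units.val_one]
  have hG'G : ((g⁻¹ : GL ι F) : Matrix ι ι F) * (g : Matrix ι ι F) = 1 := by
    rw [← Units.val_mul, inv_mul_cancel, Units.val_one]
  constructor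
  · -- (⇒)
    intro hg
    rcases isEmpty_or_nonempty ι with hι | hι
    · left
      exact Subsingleton.elim _ _
    have hAK : A ∈ K := (hKA A).mpr ⟨0, 1, by rw [zero_smul, zero_add, one_smul]⟩
    have h1 : (g : Matrix ι ι F) * A * ((g⁻¹ : GL ι F) : Matrix ι ι F) ∈ K := (hg A).mp hAK
    obtain ⟨α, β, hαβ⟩ := (hKA _).mp h1
    -- `g A = (α + β A) g`
    have hgA : (g : Matrix ι ι F) * A = (α • (1 : Matrix ι ι F) + β • A) * (g : Matrix ι ι F) := by
      rw [← hαβ, Matrix.mul_assoc, hG'G, Matrix.mul_one]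
    -- squares
    have hsq : (α • (1 : Matrix ι ι F) + β • A) * (α • (1 : Matrix ι ι F) + β • A) =
        δ • (1 : Matrix ι ι F) := by
      rw [← hαβ]
      calc (g : Matrix ι ι F) * A * ((g⁻¹ : GL ι F) : Matrix ι ι F) *
            ((g : Matrix ι ι F) * A * ((g⁻¹ : GL ι F) : Matrix ι ι F))
          = (g : Matrix ι ι F) * A * (((g⁻¹ : GL ι F) : Matrix ι ι F) * (g : Matrix ι ι F)) * A *
              ((g⁻¹ : GL ι F) : Matrix ι ι F) := by simp only [Matrix.mul_assoc]
        _ = (g : Matrix ι ι F) * (A * A) * ((g⁻¹ : GL ι F) : Matrix ι ι F) := by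
            rw [hG'G, Matrix.mul_one, Matrix.mul_assoc (g : Matrix ι ι F) A A]
        _ = δ • (1 : Matrix ι ι F) := by
            rw [hA2, Matrix.mul_smul, Matrix.mul_one, Matrix.smul_mul, hGG']
    have hexp : (α • (1 : Matrix ι ι F) + β • A) * (α • (1 : Matrix ι ι F) + β • A) =
        (α * α + β * β * δ) • (1 : Matrix ι ι F) + (2 * α * β) • A := by
      rw [Matrix.add_mul, Matrix.mul_add, Matrix.mul_add]
      simp only [Matrix.smul_mul, Matrix.mul_smul, Matrix.one_mul, Matrix.mul_one, hA2]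
      module
    have hzero : (α * α + β * β * δ - δ) • (1 : Matrix ι ι F) + (2 * α * β) • A = 0 := by
      have h7 := hexp.symm.trans hsq
      rw [← sub_eq_zero] at h7
      rw [sub_smul]
      have h8 : (α * α + β * β * δ) • (1 : Matrix ι ι F) - δ • (1 : Matrix ι ι F) + (2 * α * β) • A =
          (α * α + β * β * δ) • (1 : Matrix ι ι F) + (2 * α * β) • A - δ • (1 : Matrix ι ι F) := by
        abel
      rw [h8]
      exact h7
    obtain ⟨hx, hy⟩ := c3qknrm_indep δ A hns hA2 _ _ hzero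
    have hβ : β ≠ 0 := by
      rintro rfl
      apply hns
      refine ⟨α, ?_⟩
      linear_combination -hx
    have hα : α = 0 := by
      rcases mul_eq_zero.mp hy with h3 | h3
      · rcases mul_eq_zero.mp h3 with h4 | h4
        · exact absurd h4 h2
        · exact h4
      · exact absurd h3 hβ
    have hδ0 : δ ≠ 0 := by
      rintro rfl
      exact hns ⟨0, by ring⟩
    have hβ2 : (β - 1) * (β + 1) = 0 := by
      rw [hα] at hx
      have : (β * β - 1) * δ = 0 := by linear_combination hx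
      rcases mul_eq_zero.mp this with h5 | h5
      · linear_combination h5
      · exact absurd h5 hδ0
    rw [hα, zero_smul, zero_add] at hgA
    rcases mul_eq_zero.mp hβ2 with h6 | h6
    · left
      have : β = 1 := by linear_combination h6
      rw [hgA, this, one_smul]
    · right
      have : β = -1 := by linear_combination h6
      rw [hgA, this, neg_smul, one_smul, Matrix.neg_mul]
  · -- (⇐)
    intro hg
    -- `g A g⁻¹ = ε A`, `g⁻¹ A g = ε A`
    have key : ∃ ε : F, (g : Matrix ι ι F) * A * ((g⁻¹ : GL ι F) : Matrix ι ι F) = ε • A ∧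
        ((g⁻¹ : GL ι F) : Matrix ι ι F) * A * (g : Matrix ι ι F) = ε • A := by
      rcases hg with h | h
      · refine ⟨1, ?_, ?_⟩
        · rw [h, Matrix.mul_assoc, hGG', Matrix.mul_one, one_smul]
        · rw [Matrix.mul_assoc, ← h, ← Matrix.mul_assoc, hG'G, Matrix.one_mul, one_smul]
      · refine ⟨-1, ?_, ?_⟩
        · rw [h, Matrix.neg_mul, Matrix.mul_assoc, hGG', Matrix.mul_one, neg_smul, one_smul]
        · have h' : A * (g : Matrix ι ι F) = -((g : Matrix ι ι F) * A) := by rw [h, neg_neg]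
          rw [Matrix.mul_assoc, h', Matrix.mul_neg, ← Matrix.mul_assoc, hG'G, Matrix.one_mul,
            neg_smul, one_smul]
    obtain ⟨ε, hε1, hε2⟩ := key
    intro k
    constructor
    · intro hk
      obtain ⟨α, β, rfl⟩ := (hKA k).mp hk
      apply (hKA _).mpr
      refine ⟨α, β * ε, ?_⟩
      rw [Matrix.mul_add, Matrix.add_mul, Matrix.mul_smul, Matrix.mul_smul, Matrix.smul_mul,
        Matrix.smul_mul, Matrix.mul_one, hGG', hε1, smul_smul]
    · intro hk
      obtain ⟨α, β, hαβ⟩ := (hKA _).mp hk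
      apply (hKA _).mpr
      refine ⟨α, β * ε, ?_⟩
      have hk' : k = ((g⁻¹ : GL ι F) : Matrix ι ι F) *
          ((g : Matrix ι ι F) * k * ((g⁻¹ : GL ι F) : Matrix ι ι F)) * (g : Matrix ι ι F) := by
        simp only [Matrix.mul_assoc]
        rw [hG'G, Matrix.mul_one, ← Matrix.mul_assoc, hG'G, Matrix.one_mul]
      rw [hk', hαβ, Matrix.mul_add, Matrix.add_mul, Matrix.mul_smul, Matrix.mul_smul, Matrix.smul_mul,
        Matrix.smul_mul, Matrix.mul_one, hG'G, hε2, smul_smul]

end Cfsg.Agent.Lib.Helper10.C3Q
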