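import Mathlib
import Cfsg.Agent.Lib.Helper13.OTS.Defs
import Cfsg.Agent.Lib.helper2.S5955X5

set_option autoImplicit false
set_option linter.unusedVariables false
set_option linter.unusedSectionVars false

/-!
# Project OTS, row TRANSPORTD: transfer along an isometry (twin of Helper25/S5972TRANSPORTD).
-/

namespace Cfsg.Agent.Lib.Helper13.OTS

open Polynomial Module Cfsg.Agent.Lib.Helper13.S5955 Cfsg.Agent.Lib.helper15.S5972

/-- one direction of the transport of invariant totally singular subspaces. -/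
theorem otstransportd_map {F : Type*} [Field F] {V V' : Type*} [AddCommGroup V] [Module F V]
    [AddCommGroup V'] [Module F V']
    (Q : QuadraticForm F V) (x : Module.End F V)
    (Q' : QuadraticForm F V') (x' : Module.End F V') (ψ : V ≃ₗ[F] V')
    (hQ : ∀ v, Q' (ψ v) = Q v) (hx : ∀ u, ψ (x u) = x' (ψ u))
    (W : Submodule F V) (hW : SInv x W) (hT : QTS Q W) :
    SInv x' (W.map (ψ : V →ₗ[F] V')) ∧ QTS Q' (W.map (ψ : V →ₗ[F] V')) ∧
      finrank F (W.map (ψ : V →ₗ[F] V')) = finrank F W := by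
  refine ⟨?_, ?_, LinearEquiv.finrank_map_eq ψ W⟩
  · intro w' hw'
    obtain ⟨w, hw, rfl⟩ := Submodule.mem_map.mp hw'
    refine Submodule.mem_map.mpr ⟨x w, hW w hw, ?_⟩
    exact hx w
  · intro u' hu'
    obtain ⟨u, hu, rfl⟩ := Submodule.mem_map.mp hu'
    change Q' (ψ u) = 0
    rw [hQ]
    exact hT u hu

/-- TRANSPORTD [S-M] (twin of helper25's `o_transport_dims`, Helper25/S5972TRANSPORTD.lean, for an isometry). -/
theorem q_transport_dims {F : Type*} [Field F] {V V' : Type*} [AddCommGroup V] [Module F V]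
    [AddCommGroup V'] [Module F V'] [FiniteDimensional F V] [FiniteDimensional F V'] {r : ℕ}
    (Q : QuadraticForm F V) (Q' : QuadraticForm F V') (x' : Module.End F V') (ψ : V ≃ₗ[F] V')
    (hQ : ∀ v, Q' (ψ v) = Q v) (h' : QCtx r Q' x') :
    ∃ x : Module.End F V, (∀ u, ψ (x u) = x' (ψ u)) ∧ QCtx r Q x ∧ (∀ m, QTd Q x m ↔ QTd Q' x' m) ∧
      finrank F (fixS x) = finrank F (fixS x') ∧ (x = 1 ↔ x' = 1) ∧
      ((∀ W, SInv x' W → QTS Q' W → W ≤ fixS x') → ∀ W, SInv x W → QTS Q W → W ≤ fixS x) := by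
  obtain ⟨x, hxdef⟩ : ∃ x : Module.End F V, x = (ψ.symm : V' →ₗ[F] V) ∘ₗ x' ∘ₗ (ψ : V →ₗ[F] V') :=
    ⟨_, rfl⟩
  have hx : ∀ u, ψ (x u) = x' (ψ u) := by
    intro u
    rw [hxdef]
    simp
  have hQ' : ∀ v, Q (ψ.symm v) = Q' v := by
    intro v
    rw [← hQ, LinearEquiv.apply_symm_apply]
  have hx' : ∀ u, ψ.symm (x' u) = x (ψ.symm u) := by
    intro u
    apply ψ.injective
    rw [LinearEquiv.apply_symm_apply, hx, LinearEquiv.apply_symm_apply]
  have hpolar : ∀ u v, QuadraticMap.polar Q u v = QuadraticMap.polar Q' (ψ u) (ψ v) := by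
    intro u v
    unfold QuadraticMap.polar
    rw [← map_add, hQ, hQ, hQ]
  have hpowk : ∀ k : ℕ, ∀ u, ψ ((x ^ k) u) = (x' ^ k) (ψ u) := by
    intro k
    induction k with
    | zero => intro u; simp
    | succ k ih =>
      intro u
      rw [pow_succ, pow_succ, Module.End.mul_apply, Module.End.mul_apply, ih, hx]
  have hctx : QCtx r Q x := by
    refine ⟨?_, ?_, ?_⟩
    · intro u hu
      have h1 : ψ u = 0 := by
        apply h'.nd
        intro v'
        have := hu (ψ.symm v')
        rw [hpolar, LinearEquiv.apply_symm_apply] at this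
        exact this
      exact ψ.map_eq_zero_iff.mp h1
    · intro v
      rw [← hQ, hx, h'.pres, hQ]
    · apply LinearMap.ext
      intro u
      apply ψ.injective
      rw [hpowk, h'.pow]
      simp
  refine ⟨x, hx, hctx, ?_, ?_, ?_, ?_⟩
  · intro m
    constructor
    · rintro ⟨W, hW, hT, hm⟩
      obtain ⟨h1, h2, h3⟩ := otstransportd_map Q x Q' x' ψ hQ hx W hW hT
      exact ⟨_, h1, h2, h3.trans hm⟩
    · rintro ⟨W, hW, hT, hm⟩
      obtain ⟨h1, h2, h3⟩ := otstransportd_map Q' x' Q x ψ.symm hQ' hx' W hW hT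
      exact ⟨_, h1, h2, h3.trans hm⟩
  · have hmap : (fixS x).map (ψ : V →ₗ[F] V') = fixS x' := by
      ext v'
      rw [Submodule.mem_map, s5955x5_mem_fixS]
      constructor
      · rintro ⟨v, hv, rfl⟩
        rw [s5955x5_mem_fixS] at hv
        change x' (ψ v) = ψ v
        rw [← hx, hv]
      · intro hv'
        refine ⟨ψ.symm v', ?_, ?_⟩
        · rw [s5955x5_mem_fixS, ← hx', hv']
        · exact ψ.apply_symm_apply v'
    rw [← hmap]
    exact (LinearEquiv.finrank_map_eq ψ (fixS x)).symm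
  · constructor
    · intro h1
      apply LinearMap.ext
      intro u'
      have := hx (ψ.symm u')
      rw [h1, Module.End.one_apply, LinearEquiv.apply_symm_apply] at this
      rw [Module.End.one_apply, ← this]
    · intro h1
      apply LinearMap.ext
      intro u
      have := hx u
      rw [h1, Module.End.one_apply] at this
      rw [Module.End.one_apply]
      exact ψ.injective this
  · intro hall W hW hT w hw
    obtain ⟨h1, h2, _⟩ := otstransportd_map Q x Q' x' ψ hQ hx W hW hT
    have h3 := hall _ h1 h2 (Submodule.mem_map.mpr ⟨w, hw, rfl⟩)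
    rw [s5955x5_mem_fixS] at h3 ⊢
    change x' (ψ w) = ψ w at h3
    rw [← hx] at h3
    exact ψ.injective h3

end Cfsg.Agent.Lib.Helper13.OTS
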