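import Mathlib
import Cfsg.Agent.Lib.Helper10.C6P.Defs

set_option autoImplicit false
set_option linter.unusedVariables false
set_option linter.unusedSectionVars false

/-!
# Project C6P (S6000), rows EROOT, E3IRR, E5IRR, G5TAU: finite-field arithmetic over `F` with `|F| = p`.
-/

namespace Cfsg.Agent.Lib.Helper10.C6P

open Polynomial Matrix

variable {F : Type*} [Field F]

section fin

variable [Fintype F] {p : ℕ} [Fact p.Prime] [CharP F p]

/-- EROOT [S-M] : `r`-th roots exist when `r` is prime to `p - 1` (`Fˣ` has `p - 1` elements; `powCoprime` / `Nat.Coprime` + `pow_card_eq_one`). -/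
theorem exists_root (hF : Fintype.card F = p) (r : ℕ) (hcop : Nat.Coprime r (p - 1)) (z : F) (hz : z ≠ 0) :
    ∃ w : F, w ≠ 0 ∧ w ^ r = z := by
  classical
  have hcard : Nat.card Fˣ = p - 1 := by
    rw [Nat.card_eq_fintype_card, Fintype.card_units, hF]
  have hcop' : Nat.Coprime (Nat.card Fˣ) r := by
    rw [hcard]
    exact hcop.symm
  let e := powCoprime hcop'
  refine ⟨((e.symm (Units.mk0 z hz) : Fˣ) : F), Units.ne_zero _, ?_⟩
  have h1 : e (e.symm (Units.mk0 z hz)) = Units.mk0 z hz := e.apply_symm_apply _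
  have h2 : (e.symm (Units.mk0 z hz)) ^ r = Units.mk0 z hz := h1
  have h3 := congrArg (fun u : Fˣ => (u : F)) h2
  simpa using h3

/-- E3IRR [S-M] : `p ≡ 2 (mod 3)`: `X² + X + 1` has no root in `F` (a root is an element of order 3 of `Fˣ`, `3 ∤ p - 1`), so it is irreducible
(`Polynomial.irreducible_of_degree_le_three_of_not_isRoot`-style lemma). -/
theorem irr_three (hF : Fintype.card F = p) (hp3 : p % 3 = 2) : Irreducible (X ^ 2 + X + 1 : F[X]) := by
  have hdeg : (X ^ 2 + X + 1 : F[X]).natDegree = 2 := by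
    compute_degree!
  apply Polynomial.irreducible_of_degree_le_three_of_not_isRoot
  · rw [hdeg]
    decide
  · intro a ha
    rw [IsRoot.def] at ha
    simp only [eval_add, eval_pow, eval_X, eval_one] at ha
    have ha3 : a ^ 3 = 1 := by linear_combination (a - 1) * ha
    have ha0 : a ≠ 0 := by
      rintro rfl
      simp at ha
    have hap : a ^ (p - 1) = 1 := by
      have := FiniteField.pow_card_sub_one_eq_one a ha0
      rwa [hF] at this
    have hcop : Nat.Coprime 3 (p - 1) := by
      have hp2 : 2 ≤ p := (Fact.out : p.Prime).two_le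
      rw [Nat.Prime.coprime_iff_not_dvd Nat.prime_three]
      omega
    have ha1 : a = 1 := by
      have h1 : a ^ Nat.gcd 3 (p - 1) = 1 := pow_gcd_eq_one.mpr ⟨ha3, hap⟩
      rw [hcop] at h1
      simpa using h1
    rw [ha1] at ha
    have h3 : ((3 : ℕ) : F) = 0 := by
      push_cast
      linear_combination ha
    have hdvd := (CharP.cast_eq_zero_iff F p 3).mp h3
    have hp' : p = 3 := (Nat.prime_dvd_prime_iff_eq (Fact.out : p.Prime) Nat.prime_three).mp hdvd
    omega

/-- E5IRR [S-M] : `Polynomial.irreducible_of_dvd_cyclotomic_of_natDegree` (Mathlib, `RingTheory/Polynomial/Cyclotomic/Factorization`) with `f = 1`, `P = cyclotomic 5 F`,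
`natDegree = φ(5) = 4 = orderOf (p mod 5)`. -/
theorem irr_five (hF : Fintype.card F = p) (h5 : orderOf (p : ZMod 5) = 4) : Irreducible (cyclotomic 5 F) := by
  have hp5 : p ≠ 5 := by
    rintro rfl
    have : ((5 : ℕ) : ZMod 5) = 0 := ZMod.natCast_self 5
    rw [this] at h5
    have h0 : orderOf (0 : ZMod 5) = 0 := by
      rw [orderOf_eq_zero_iff]
      intro hfin
      obtain ⟨n, hn, hn1⟩ := isOfFinOrder_iff_pow_eq_one.mp hfin
      rw [zero_pow (Nat.pos_iff_ne_zero.mp hn)] at hn1
      exact absurd hn1 zero_ne_one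
    omega
  have hcop : p.Coprime 5 := (Nat.coprime_primes (Fact.out : p.Prime) Nat.prime_five).mpr hp5
  have hK : Fintype.card F = p ^ 1 := by rw [pow_one]; exact hF
  apply Polynomial.irreducible_of_dvd_cyclotomic_of_natDegree (p := p) (f := 1) (n := 5) hK hcop
    (dvd_refl _)
  rw [natDegree_cyclotomic, ← orderOf_units, ZMod.coe_unitOfCoprime, pow_one, h5]
  rfl

/-- G5TAU [M] : `p ≡ ±1 (mod 5)`, `p ≡ 1 (mod 4)`: 5 is a square in `F` (quadratic reciprocity: `ZMod.exists_sq_eq_prime_iff_of_mod_four_eq_one` with the primes `5` and `p`, transported to `F`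
via `ZMod.castHom` / `ZMod p ≃+* F`), `τ = (-1 + √5)/2`. -/
theorem exists_tau (hF : Fintype.card F = p) (hp4 : p % 4 = 1) (hp5 : p % 5 = 1 ∨ p % 5 = 4) : ∃ τ : F, τ ^ 2 + τ = 1 := by
  have : Fact (Nat.Prime 5) := ⟨Nat.prime_five⟩
  have hsq5 : IsSquare ((p : ℕ) : ZMod 5) := by
    have hmod : ((p : ℕ) : ZMod 5) = ((p % 5 : ℕ) : ZMod 5) := by
      rw [ZMod.natCast_mod]
    rw [hmod]
    rcases hp5 with h | h
    · rw [h]
      exact ⟨1, by norm_num⟩
    · rw [h]
      exact ⟨2, by norm_num⟩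
  have hsq : IsSquare ((5 : ℕ) : ZMod p) :=
    (ZMod.exists_sq_eq_prime_iff_of_mod_four_eq_one (p := p) (q := 5) hp4 (by norm_num)).mpr hsq5
  obtain ⟨a, ha⟩ := hsq
  let φ : ZMod p →+* F := ZMod.castHom (dvd_refl p) F
  have hs : (φ a) * (φ a) = (5 : F) := by
    rw [← map_mul, ← ha, map_natCast]
    norm_num
  have h2 : (2 : F) ≠ 0 := by
    intro h
    have h2' : ((2 : ℕ) : F) = 0 := by
      push_cast
      exact h
    have hdvd := (CharP.cast_eq_zero_iff F p 2).mp h2'
    have hp' : p = 2 := (Nat.prime_dvd_prime_iff_eq (Fact.out : p.Prime) Nat.prime_two).mp hdvd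
    omega
  refine ⟨(-1 + φ a) / 2, ?_⟩
  field_simp
  linear_combination hs

end fin

end Cfsg.Agent.Lib.Helper10.C6P
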