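import Mathlib

/-!
# A regular commutative group of automorphisms of an elementary abelian 2-group: the field
-/

set_option autoImplicit false

namespace Cfsg.Agent.Lib.Helper27.SzF

variable {K : Type*} {W : Type*} [Group K] [AddCommGroup W]

/-- the hypotheses: `K` acts on the elementary abelian `2`-group `W`, regularly on the nonzero
elements -/
structure Reg (a : K →* AddMonoid.End W) : Prop where
  comm : ∀ k k' : K, k * k' = k' * k
  two : ∀ w : W, w + w = 0
  reg : ∀ w w' : W, w ≠ 0 → w' ≠ 0 → ∃! k : K, a k w = w'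
  ne : ∃ w : W, w ≠ 0
  big : ∃ k : K, k ≠ 1
  odd : Odd (Nat.card K)
  finK : Finite K

variable {a : K →* AddMonoid.End W}

theorem mul_apply' (S T : AddMonoid.End W) (w : W) : (S * T) w = S (T w) := rfl

theorem one_apply' (w : W) : (1 : AddMonoid.End W) w = w := rfl

theorem Reg.a_comm (h : Reg a) (k k' : K) : a k * a k' = a k' * a k := by
  rw [← map_mul, ← map_mul, h.comm]

theorem Reg.a_mul_inv (k : K) : a k * a k⁻¹ = 1 := by
  rw [← map_mul, mul_inv_cancel, map_one]

theorem Reg.a_inv_mul (k : K) : a k⁻¹ * a k = 1 := by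
  rw [← map_mul, inv_mul_cancel, map_one]

theorem Reg.a_inv_apply (k : K) (w : W) : a k⁻¹ (a k w) = w := by
  rw [← mul_apply', Reg.a_inv_mul]; rfl

theorem Reg.a_apply_inv (k : K) (w : W) : a k (a k⁻¹ w) = w := by
  rw [← mul_apply', Reg.a_mul_inv]; rfl

theorem Reg.apply_ne_zero (k : K) {w : W} (hw : w ≠ 0) : a k w ≠ 0 := by
  intro h0
  apply hw
  have := congrArg (a k⁻¹) h0
  rwa [Reg.a_inv_apply, map_zero] at this

theorem Reg.eq_of_apply_eq (h : Reg a) {w : W} (hw : w ≠ 0) {k k' : K} (hk : a k w = a k' w) :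
    k = k' := by
  obtain ⟨j, -, huniq⟩ := h.reg w (a k w) hw (Reg.apply_ne_zero k hw)
  rw [huniq k rfl, huniq k' hk.symm]

theorem Reg.a_injective (h : Reg a) : Function.Injective a := by
  intro k k' hk
  obtain ⟨w, hw⟩ := h.ne
  exact h.eq_of_apply_eq hw (by rw [hk])

theorem Reg.a_ne_zero (h : Reg a) (k : K) : a k ≠ 0 := by
  intro h0
  obtain ⟨w, hw⟩ := h.ne
  exact Reg.apply_ne_zero k hw (by rw [h0]; rfl)

/-- characteristic two -/
theorem Reg.add_self (h : Reg a) (T : AddMonoid.End W) : T + T = 0 := by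
  ext w
  exact h.two (T w)

theorem Reg.neg_eq (h : Reg a) (T : AddMonoid.End W) : -T = T :=
  neg_eq_of_add_eq_zero_left (h.add_self T)

theorem Reg.sub_eq_add (h : Reg a) (S T : AddMonoid.End W) : S - T = S + T := by
  rw [sub_eq_add_neg, h.neg_eq]

theorem Reg.neg_eq_w (h : Reg a) (w : W) : -w = w :=
  neg_eq_of_add_eq_zero_left (h.two w)

/-- every nonzero vector is in the orbit of a given one -/
theorem Reg.exists_apply_eq (h : Reg a) {w w' : W} (hw : w ≠ 0) (hw' : w' ≠ 0) :
    ∃ k : K, a k w = w' := (h.reg w w' hw hw').exists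

/-- the sum of two distinct elements of `K` is in `K` -/
theorem Reg.exists_sum (h : Reg a) {k k' : K} (hk : k ≠ k') : ∃ k'' : K, a k + a k' = a k'' := by
  obtain ⟨w₀, hw₀⟩ := h.ne
  have h1 : a k w₀ + a k' w₀ ≠ 0 := by
    intro h0
    apply hk
    apply h.eq_of_apply_eq hw₀
    have := eq_neg_of_add_eq_zero_left h0
    rw [this, h.neg_eq_w]
  obtain ⟨k'', hk''⟩ := h.exists_apply_eq hw₀ h1
  refine ⟨k'', ?_⟩
  ext w
  by_cases hw : w = 0
  · rw [hw, map_zero, map_zero]
  · obtain ⟨j, rfl⟩ := h.exists_apply_eq hw₀ hw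
    show a k (a j w₀) + a k' (a j w₀) = a k'' (a j w₀)
    rw [← mul_apply', ← mul_apply', ← mul_apply', h.a_comm k j, h.a_comm k' j, h.a_comm k'' j,
      mul_apply', mul_apply', mul_apply', ← map_add, hk'']

/-- the field, as a subring of the endomorphism ring -/
def Reg.E (h : Reg a) : Subring (AddMonoid.End W) where
  carrier := {T | T = 0 ∨ ∃ k : K, T = a k}
  mul_mem' := by
    rintro S T (rfl | ⟨k, rfl⟩) (rfl | ⟨k', rfl⟩)
    · left; rw [mul_zero]
    · left; rw [zero_mul]
    · left; rw [mul_zero]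
    · right; exact ⟨k * k', by rw [map_mul]⟩
  one_mem' := Or.inr ⟨1, by rw [map_one]⟩
  add_mem' := by
    rintro S T (rfl | ⟨k, rfl⟩) (rfl | ⟨k', rfl⟩)
    · left; rw [add_zero]
    · right; exact ⟨k', by rw [zero_add]⟩
    · right; exact ⟨k, by rw [add_zero]⟩
    · by_cases hk : k = k'
      · left; rw [hk]; exact h.add_self _
      · right; exact h.exists_sum hk
  zero_mem' := Or.inl rfl
  neg_mem' := by
    intro T hT
    rw [h.neg_eq]; exact hT

theorem Reg.mem_E (h : Reg a) {T : AddMonoid.End W} : T ∈ h.E ↔ T = 0 ∨ ∃ k : K, T = a k :=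
  Iff.rfl

theorem Reg.a_mem_E (h : Reg a) (k : K) : a k ∈ h.E := Or.inr ⟨k, rfl⟩

/-- nonzero elements of the field are injective -/
theorem Reg.eq_zero_of_apply_eq_zero (h : Reg a) {T : AddMonoid.End W} (hT : T ∈ h.E)
    (hT0 : T ≠ 0) {w : W} (hw : T w = 0) : w = 0 := by
  rcases hT with rfl | ⟨k, rfl⟩
  · exact absurd rfl hT0
  · by_contra hw0
    exact Reg.apply_ne_zero k hw0 hw

theorem Reg.E_mul_comm (h : Reg a) (x y : h.E) : x * y = y * x := by
  obtain ⟨S, hS⟩ := x
  obtain ⟨T, hT⟩ := y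
  apply Subtype.ext
  show S * T = T * S
  rcases hS with rfl | ⟨k, rfl⟩
  · rw [zero_mul, mul_zero]
  rcases hT with rfl | ⟨k', rfl⟩
  · rw [zero_mul, mul_zero]
  exact h.a_comm k k'

/-- the commutative ring structure -/
@[reducible] def Reg.commRingE (h : Reg a) : CommRing h.E :=
  { (inferInstance : Ring h.E) with mul_comm := h.E_mul_comm }

theorem Reg.E_isDomain (h : Reg a) : @IsDomain h.E (h.commRingE).toSemiring := by
  letI := h.commRingE
  haveI : Nontrivial h.E := by
    refine ⟨⟨0, 1, ?_⟩⟩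
    intro h01
    have : (0 : AddMonoid.End W) = 1 := congrArg Subtype.val h01
    obtain ⟨w, hw⟩ := h.ne
    apply hw
    have h2 := congrArg (fun T : AddMonoid.End W => T w) this
    exact h2.symm
  haveI : NoZeroDivisors h.E := by
    refine ⟨?_⟩
    intro x y hxy
    by_contra hne
    push Not at hne
    obtain ⟨hx, hy⟩ := hne
    obtain ⟨S, hS⟩ := x
    obtain ⟨T, hT⟩ := y
    have hS0 : S ≠ 0 := fun h0 => hx (Subtype.ext h0)
    have hT0 : T ≠ 0 := fun h0 => hy (Subtype.ext h0)
    have hST : S * T = 0 := congrArg Subtype.val hxy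
    apply hT0
    ext w
    have h1 : S (T w) = 0 := by
      rw [← mul_apply', hST]; rfl
    exact h.eq_zero_of_apply_eq_zero hS hS0 h1
  exact NoZeroDivisors.to_isDomain _

end Cfsg.Agent.Lib.Helper27.SzF
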