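import Mathlib
import Cfsg.Agent.Lib.Helper27.SzField1

/-!
# Fourier projections of additive endomorphisms with respect to a regular commutative group
-/

set_option autoImplicit false

namespace Cfsg.Agent.Lib.Helper27.SzF

variable {K : Type*} {W : Type*} [Group K] [AddCommGroup W] {a : K →* AddMonoid.End W}

/-- conjugation by an element of `K` -/
def cj (a : K →* AddMonoid.End W) (k : K) (T : AddMonoid.End W) : AddMonoid.End W :=
  a k * T * a k⁻¹

theorem cj_add (k : K) (S T : AddMonoid.End W) : cj a k (S + T) = cj a k S + cj a k T := by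
  unfold cj; rw [mul_add, add_mul]

theorem cj_zero (k : K) : cj a k 0 = 0 := by unfold cj; rw [mul_zero, zero_mul]

theorem cj_one_left (T : AddMonoid.End W) : cj a 1 T = T := by
  unfold cj; rw [inv_one, map_one, one_mul, mul_one]

theorem cj_mul (k k' : K) (T : AddMonoid.End W) : cj a (k * k') T = cj a k (cj a k' T) := by
  unfold cj; rw [mul_inv_rev, map_mul, map_mul]; simp only [mul_assoc]

theorem cj_inv_cj (k : K) (T : AddMonoid.End W) : cj a k⁻¹ (cj a k T) = T := by
  rw [← cj_mul, inv_mul_cancel, cj_one_left]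

theorem cj_cj_inv (k : K) (T : AddMonoid.End W) : cj a k (cj a k⁻¹ T) = T := by
  rw [← cj_mul, mul_inv_cancel, cj_one_left]

theorem cj_eq_zero_iff (k : K) (T : AddMonoid.End W) : cj a k T = 0 ↔ T = 0 := by
  constructor
  · intro h0
    have := congrArg (cj a k⁻¹) h0
    rwa [cj_inv_cj, cj_zero] at this
  · rintro rfl; exact cj_zero k

theorem cj_apply (k : K) (T : AddMonoid.End W) (w : W) : cj a k T w = a k (T (a k⁻¹ w)) := rfl

theorem cj_sum {ι : Type*} (s : Finset ι) (f : ι → AddMonoid.End W) (k : K) :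
    cj a k (∑ i ∈ s, f i) = ∑ i ∈ s, cj a k (f i) := by
  unfold cj
  rw [Finset.mul_sum, Finset.sum_mul]

/-- the semilinear maps with respect to the `m`-th power map -/
def Sig (a : K →* AddMonoid.End W) (m : ℕ) : AddSubgroup (AddMonoid.End W) where
  carrier := {T | ∀ k : K, T * a k = a (k ^ m) * T}
  zero_mem' := by intro k; rw [zero_mul, mul_zero]
  add_mem' := by intro S T hS hT k; rw [add_mul, mul_add, hS k, hT k]
  neg_mem' := by intro T hT k; rw [neg_mul, mul_neg, hT k]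

theorem mem_Sig {m : ℕ} {T : AddMonoid.End W} : T ∈ Sig a m ↔ ∀ k : K, T * a k = a (k ^ m) * T :=
  Iff.rfl

theorem Sig_apply {m : ℕ} {T : AddMonoid.End W} (hT : T ∈ Sig a m) (k : K) (w : W) :
    T (a k w) = a (k ^ m) (T w) := by
  have := congrArg (fun S : AddMonoid.End W => S w) (hT k)
  exact this

theorem Reg.Sig_eq_zero (h : Reg a) {m : ℕ} {T : AddMonoid.End W} (hT : T ∈ Sig a m) {w : W}
    (hw : w ≠ 0) (h0 : T w = 0) : T = 0 := by
  ext w'
  by_cases hw' : w' = 0
  · rw [hw', map_zero, map_zero]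
  · obtain ⟨k, rfl⟩ := h.exists_apply_eq hw hw'
    rw [Sig_apply hT, h0, map_zero]; rfl

theorem Reg.Sig_ext (h : Reg a) {m : ℕ} {S T : AddMonoid.End W} (hS : S ∈ Sig a m)
    (hT : T ∈ Sig a m) {w : W} (hw : w ≠ 0) (hST : S w = T w) : S = T := by
  have h1 : S - T ∈ Sig a m := (Sig a m).sub_mem hS hT
  have h2 : (S - T) w = 0 := by
    show S w - T w = 0
    rw [hST, sub_self]
  exact sub_eq_zero.mp (h.Sig_eq_zero h1 hw h2)

theorem Reg.Sig_injective (h : Reg a) {m : ℕ} {T : AddMonoid.End W} (hT : T ∈ Sig a m)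
    (hT0 : T ≠ 0) {w : W} (h0 : T w = 0) : w = 0 := by
  by_contra hw
  exact hT0 (h.Sig_eq_zero hT hw h0)

theorem Reg.cj_mem_Sig (h : Reg a) {m : ℕ} {T : AddMonoid.End W} (hT : T ∈ Sig a m) (κ : K) :
    cj a κ T ∈ Sig a m := by
  intro k
  unfold cj
  calc a κ * T * a κ⁻¹ * a k = a κ * (T * a k) * a κ⁻¹ := by
        rw [mul_assoc (a κ * T), h.a_comm κ⁻¹ k]; simp only [mul_assoc]
    _ = a κ * (a (k ^ m) * T) * a κ⁻¹ := by rw [hT k]
    _ = a (k ^ m) * (a κ * T * a κ⁻¹) := by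
        rw [← mul_assoc (a κ), h.a_comm κ (k ^ m)]; simp only [mul_assoc]

/-- conjugation on a semilinear map is a scalar multiplication -/
theorem cj_of_mem_Sig {m : ℕ} {T : AddMonoid.End W} (hT : T ∈ Sig a m) (κ : K) :
    cj a κ T = a (κ * (κ ^ m)⁻¹) * T := by
  unfold cj
  rw [mul_assoc, hT κ⁻¹, inv_pow, ← mul_assoc, ← map_mul]

section proj

variable [Fintype K]

/-- the Fourier projection -/
def proj (a : K →* AddMonoid.End W) (m : ℕ) (T : AddMonoid.End W) : AddMonoid.End W :=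
  ∑ k : K, a (k ^ m)⁻¹ * T * a k

theorem proj_add (m : ℕ) (S T : AddMonoid.End W) : proj a m (S + T) = proj a m S + proj a m T := by
  unfold proj
  rw [← Finset.sum_add_distrib]
  apply Finset.sum_congr rfl
  intro k _
  rw [mul_add, add_mul]

theorem proj_zero (m : ℕ) : proj a m 0 = 0 := by
  unfold proj
  apply Finset.sum_eq_zero
  intro k _
  rw [mul_zero, zero_mul]

theorem Reg.proj_mem_Sig (h : Reg a) (m : ℕ) (T : AddMonoid.End W) : proj a m T ∈ Sig a m := by
  intro k'
  unfold proj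
  rw [Finset.sum_mul, Finset.mul_sum]
  rw [← Equiv.sum_comp (Equiv.mulRight k') (fun j : K => a (k' ^ m) * (a (j ^ m)⁻¹ * T * a j))]
  apply Finset.sum_congr rfl
  intro k _
  show a (k ^ m)⁻¹ * T * a k * a k' = a (k' ^ m) * (a ((k * k') ^ m)⁻¹ * T * a (k * k'))
  have h1 : a (k' ^ m) * a ((k * k') ^ m)⁻¹ = a (k ^ m)⁻¹ := by
    rw [← map_mul]
    congr 1
    rw [(show Commute k k' from h.comm k k').mul_pow, mul_inv_rev, ← mul_assoc, mul_inv_cancel,
      one_mul]
  rw [← mul_assoc, ← mul_assoc, h1, map_mul]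
  simp only [mul_assoc]

theorem Reg.proj_cj (h : Reg a) (m : ℕ) (κ : K) (T : AddMonoid.End W) :
    proj a m (cj a κ T) = cj a κ (proj a m T) := by
  unfold proj
  rw [cj_sum]
  apply Finset.sum_congr rfl
  intro k _
  unfold cj
  calc a (k ^ m)⁻¹ * (a κ * T * a κ⁻¹) * a k
      = (a (k ^ m)⁻¹ * a κ) * T * (a κ⁻¹ * a k) := by simp only [mul_assoc]
    _ = (a κ * a (k ^ m)⁻¹) * T * (a k * a κ⁻¹) := by
        rw [h.a_comm (k ^ m)⁻¹ κ, h.a_comm κ⁻¹ k]
    _ = a κ * (a (k ^ m)⁻¹ * T * a k) * a κ⁻¹ := by simp only [mul_assoc]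

/-- an odd multiple is the element itself -/
theorem Reg.odd_nsmul (h : Reg a) {N : ℕ} (hN : Odd N) (T : AddMonoid.End W) : N • T = T := by
  obtain ⟨t, rfl⟩ := hN
  rw [add_smul, mul_smul, one_smul, two_smul, h.add_self, zero_add]

theorem Reg.card_odd (h : Reg a) : Odd (Fintype.card K) := by
  have := h.odd
  rwa [Nat.card_eq_fintype_card] at this

/-- geometric sums vanish -/
theorem Reg.geom (h : Reg a) {k : K} (hk : k ≠ 1) :
    ∑ m ∈ Finset.range (Fintype.card K), a (k ^ m)⁻¹ = 0 := by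
  have h1 : ∀ m : ℕ, a (k ^ m)⁻¹ = (a k⁻¹) ^ m := by
    intro m
    rw [← inv_pow, map_pow]
  rw [Finset.sum_congr rfl (fun m _ => h1 m)]
  have h2 := mul_geom_sum (a k⁻¹) (Fintype.card K)
  have h3 : (a k⁻¹) ^ Fintype.card K = 1 := by
    rw [← map_pow, pow_card_eq_one, map_one]
  rw [h3, sub_self] at h2
  have hne : k⁻¹ ≠ 1 := fun h0 => hk (inv_eq_one.mp h0)
  obtain ⟨j, hj⟩ := h.exists_sum hne
  rw [map_one] at hj
  rw [h.sub_eq_add, hj] at h2
  have h4 := congrArg (fun X => a j⁻¹ * X) h2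
  rw [← mul_assoc, Reg.a_inv_mul, one_mul, mul_zero] at h4
  exact h4

/-- Fourier inversion -/
theorem Reg.sum_proj (h : Reg a) (T : AddMonoid.End W) :
    ∑ m ∈ Finset.range (Fintype.card K), proj a m T = T := by
  unfold proj
  rw [Finset.sum_comm]
  have h1 : ∀ k : K, ∑ m ∈ Finset.range (Fintype.card K), a (k ^ m)⁻¹ * T * a k =
      (∑ m ∈ Finset.range (Fintype.card K), a (k ^ m)⁻¹) * T * a k := by
    intro k
    rw [Finset.sum_mul, Finset.sum_mul]
  rw [Finset.sum_congr rfl (fun k _ => h1 k)]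
  rw [Finset.sum_eq_single (1 : K)]
  · simp only [one_pow, inv_one, map_one, Finset.sum_const, Finset.card_range, mul_one]
    rw [smul_mul_assoc, one_mul]
    exact h.odd_nsmul h.card_odd T
  · intro k _ hk
    rw [h.geom hk, zero_mul, zero_mul]
  · intro h0
    exact absurd (Finset.mem_univ _) h0

/-- the projection is the identity on semilinear maps -/
theorem Reg.proj_of_mem_Sig (h : Reg a) {m : ℕ} {T : AddMonoid.End W} (hT : T ∈ Sig a m) :
    proj a m T = T := by
  unfold proj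
  have h1 : ∀ k : K, a (k ^ m)⁻¹ * T * a k = T := by
    intro k
    rw [mul_assoc, hT k, ← mul_assoc, Reg.a_inv_mul, one_mul]
  rw [Finset.sum_congr rfl (fun k _ => h1 k), Finset.sum_const, Finset.card_univ]
  exact h.odd_nsmul h.card_odd T

end proj

end Cfsg.Agent.Lib.Helper27.SzF
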