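import Mathlib
import Cfsg.Agent.Lib.Helper27.SzField2

/-!
# Irreducible spaces of additive endomorphisms are semilinear: preparations
-/

set_option autoImplicit false

namespace Cfsg.Agent.Lib.Helper27.SzF

variable {K : Type*} {W : Type*} [Group K] [AddCommGroup W] {a : K →* AddMonoid.End W}

/-- an invariant additive group of endomorphisms on which `K` acts without fixed points -/
structure Act (a : K →* AddMonoid.End W) (D : AddSubgroup (AddMonoid.End W)) : Prop where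
  inv : ∀ k : K, ∀ T ∈ D, cj a k T ∈ D
  fpf : ∀ k : K, ∀ T ∈ D, cj a k T = T → T ≠ 0 → k = 1

/-- irreducibility -/
def Irred (a : K →* AddMonoid.End W) (D : AddSubgroup (AddMonoid.End W)) : Prop :=
  ∀ D' : AddSubgroup (AddMonoid.End W), D' ≤ D → (∀ k : K, ∀ T ∈ D', cj a k T ∈ D') →
    D' = ⊥ ∨ D' = D

/-- the context of the main argument -/
structure Ctx (a : K →* AddMonoid.End W) (D : AddSubgroup (AddMonoid.End W))
    (T₀ : AddMonoid.End W) : Prop where
  reg : Reg a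
  act : Act a D
  irr : Irred a D
  mem : T₀ ∈ D
  ne : T₀ ≠ 0

variable {D : AddSubgroup (AddMonoid.End W)} {T₀ : AddMonoid.End W}

theorem Act.cj_injective (hA : Act a D) {T : AddMonoid.End W} (hT : T ∈ D) (hT0 : T ≠ 0)
    {κ κ' : K} (hκ : cj a κ T = cj a κ' T) : κ = κ' := by
  have h1 : cj a (κ'⁻¹ * κ) T = T := by
    rw [cj_mul, hκ, cj_inv_cj]
  have := hA.fpf _ T hT h1 hT0
  exact (inv_mul_eq_one.mp this).symm

variable [Fintype K]

/-- a projection which does not vanish on `D` is injective on `D` -/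
theorem Ctx.proj_inj (c : Ctx a D T₀) {m : ℕ} {T₁ : AddMonoid.End W} (hT₁ : T₁ ∈ D)
    (hne : proj a m T₁ ≠ 0) {T : AddMonoid.End W} (hT : T ∈ D) (h0 : proj a m T = 0) : T = 0 := by
  let D' : AddSubgroup (AddMonoid.End W) :=
    { carrier := {T | T ∈ D ∧ proj a m T = 0}
      zero_mem' := ⟨D.zero_mem, proj_zero m⟩
      add_mem' := by
        rintro S T ⟨hS, hS0⟩ ⟨hT, hT0⟩
        exact ⟨D.add_mem hS hT, by rw [proj_add, hS0, hT0, add_zero]⟩
      neg_mem' := by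
        rintro T ⟨hT, hT0⟩
        refine ⟨D.neg_mem hT, ?_⟩
        rw [c.reg.neg_eq]; exact hT0 }
  have hle : D' ≤ D := fun T hT => hT.1
  have hinv : ∀ k : K, ∀ T ∈ D', cj a k T ∈ D' := by
    rintro k T ⟨hT, hT0⟩
    exact ⟨c.act.inv k T hT, by rw [c.reg.proj_cj, hT0, cj_zero]⟩
  rcases c.irr D' hle hinv with hbot | htop
  · have : T ∈ D' := ⟨hT, h0⟩
    rw [hbot] at this
    exact (AddSubgroup.mem_bot).mp this
  · exfalso
    have : T₁ ∈ D' := by rw [htop]; exact hT₁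
    exact hne this.2

theorem Ctx.proj_inj' (c : Ctx a D T₀) {m : ℕ} (hne : proj a m T₀ ≠ 0) {S T : AddMonoid.End W}
    (hS : S ∈ D) (hT : T ∈ D) (hST : proj a m S = proj a m T) : S = T := by
  have h1 : proj a m (S + T) = 0 := by
    rw [proj_add, hST, c.reg.add_self]
  have := c.proj_inj c.mem hne (D.add_mem hS hT) h1
  have h2 := eq_neg_of_add_eq_zero_left this
  rw [h2, c.reg.neg_eq]

/-- some projection does not vanish -/
theorem Ctx.exists_proj_ne (c : Ctx a D T₀) : ∃ m : ℕ, proj a m T₀ ≠ 0 := by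
  by_contra hall
  push Not at hall
  apply c.ne
  rw [← c.reg.sum_proj T₀]
  exact Finset.sum_eq_zero (fun m _ => hall m)

/-- the twist -/
def um (m : ℕ) (κ : K) : K := κ * (κ ^ m)⁻¹

theorem Ctx.proj_cj_eq (c : Ctx a D T₀) (m : ℕ) (κ : K) :
    proj a m (cj a κ T₀) = a (um m κ) * proj a m T₀ := by
  rw [c.reg.proj_cj, cj_of_mem_Sig (c.reg.proj_mem_Sig m T₀)]
  rfl

theorem Ctx.um_injective (c : Ctx a D T₀) {m : ℕ} (hne : proj a m T₀ ≠ 0) :
    Function.Injective (um m : K → K) := by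
  intro κ κ' hκ
  have h1 : proj a m (cj a κ T₀) = proj a m (cj a κ' T₀) := by
    rw [c.proj_cj_eq, c.proj_cj_eq, hκ]
  have h2 := c.proj_inj' hne (c.act.inv κ T₀ c.mem) (c.act.inv κ' T₀ c.mem) h1
  exact c.act.cj_injective c.mem c.ne h2

theorem Ctx.um_surjective (c : Ctx a D T₀) {m : ℕ} (hne : proj a m T₀ ≠ 0) :
    Function.Surjective (um m : K → K) :=
  Finite.surjective_of_injective (c.um_injective hne)

/-- multiplication by a nonzero endomorphism is injective on the field -/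
theorem Reg.E_cancel (h : Reg a) {L S : AddMonoid.End W} (hL : L ∈ h.E) (hS : S ≠ 0)
    (hLS : L * S = 0) : L = 0 := by
  rcases hL with rfl | ⟨k, rfl⟩
  · rfl
  · exfalso
    apply hS
    have := congrArg (fun X => a k⁻¹ * X) hLS
    simp only [mul_zero] at this
    rwa [← mul_assoc, Reg.a_inv_mul, one_mul] at this

/-- every nonzero element of `D` is a conjugate of `T₀` -/
theorem Ctx.exists_cj (c : Ctx a D T₀) {T : AddMonoid.End W} (hT : T ∈ D) (hT0 : T ≠ 0) :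
    ∃ κ : K, T = cj a κ T₀ := by
  obtain ⟨m, hm⟩ := c.exists_proj_ne
  obtain ⟨w₀, hw₀⟩ := c.reg.ne
  have hS : proj a m T ≠ 0 := fun h0 => hT0 (c.proj_inj c.mem hm hT h0)
  have h1 : proj a m T w₀ ≠ 0 := fun h0 =>
    hw₀ (c.reg.Sig_injective (c.reg.proj_mem_Sig m T) hS h0)
  have h2 : proj a m T₀ w₀ ≠ 0 := fun h0 =>
    hw₀ (c.reg.Sig_injective (c.reg.proj_mem_Sig m T₀) hm h0)
  obtain ⟨j, hj⟩ := c.reg.exists_apply_eq h2 h1
  obtain ⟨κ, rfl⟩ := c.um_surjective hm j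
  refine ⟨κ, ?_⟩
  apply c.proj_inj' hm hT (c.act.inv κ T₀ c.mem)
  apply c.reg.Sig_ext (c.reg.proj_mem_Sig m T) (c.reg.proj_mem_Sig m _) hw₀
  rw [c.proj_cj_eq, ← hj]
  rfl

/-- if a projection of `T₀` vanishes, it vanishes on `D` -/
theorem Ctx.proj_eq_zero (c : Ctx a D T₀) {m : ℕ} (h0 : proj a m T₀ = 0) {T : AddMonoid.End W}
    (hT : T ∈ D) : proj a m T = 0 := by
  by_cases hT0 : T = 0
  · rw [hT0, proj_zero]
  · obtain ⟨κ, rfl⟩ := c.exists_cj hT hT0
    rw [c.reg.proj_cj, h0, cj_zero]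

/-- the zeroth projection vanishes -/
theorem Ctx.proj_zero_eq (c : Ctx a D T₀) : proj a 0 T₀ = 0 := by
  obtain ⟨k, hk⟩ := c.reg.big
  have h1 := c.reg.proj_mem_Sig 0 T₀ k
  rw [pow_zero, map_one, one_mul] at h1
  -- `S * (a k + 1) = 0`
  obtain ⟨j, hj⟩ := c.reg.exists_sum hk
  rw [map_one] at hj
  have h2 : proj a 0 T₀ * a j = 0 := by
    rw [← hj, mul_add, mul_one, h1, c.reg.add_self]
  have := congrArg (fun X => X * a j⁻¹) h2
  simp only [zero_mul] at this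
  rwa [mul_assoc, Reg.a_mul_inv, mul_one] at this

/-- addition of the identity in `K` -/
theorem Ctx.exists_add_one (c : Ctx a D T₀) {κ : K} (hκ : κ ≠ 1) :
    ∃ κ'' : K, cj a κ T₀ + T₀ = cj a κ'' T₀ := by
  apply c.exists_cj (D.add_mem (c.act.inv κ T₀ c.mem) c.mem)
  intro h0
  apply hκ
  have h1 := eq_neg_of_add_eq_zero_left h0
  rw [c.reg.neg_eq] at h1
  exact c.act.fpf κ T₀ c.mem h1 c.ne

theorem Ctx.um_add_one (c : Ctx a D T₀) {m : ℕ} (hne : proj a m T₀ ≠ 0) {κ κ'' : K}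
    (hκ : cj a κ T₀ + T₀ = cj a κ'' T₀) : a (um m κ) + 1 = a (um m κ'') := by
  have h1 := congrArg (proj a m) hκ
  rw [proj_add, c.proj_cj_eq, c.proj_cj_eq] at h1
  have h2 : (a (um m κ) + 1 + a (um m κ'')) * proj a m T₀ = 0 := by
    rw [add_mul, add_mul, one_mul, h1, c.reg.add_self]
  have hE : a (um m κ) + 1 + a (um m κ'') ∈ c.reg.E :=
    c.reg.E.add_mem (c.reg.E.add_mem (c.reg.a_mem_E _) c.reg.E.one_mem) (c.reg.a_mem_E _)
  have h3 := c.reg.E_cancel hE hne h2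
  have h4 := eq_neg_of_add_eq_zero_left h3
  rw [c.reg.neg_eq] at h4
  exact h4

/-- the power maps are additive -/
theorem Ctx.pow_add_one (c : Ctx a D T₀) {m : ℕ} (hne : proj a m T₀ ≠ 0) {j j'' : K}
    (hj : a j + 1 = a j'') : a (j ^ m) + 1 = a (j'' ^ m) := by
  have hS := c.reg.proj_mem_Sig m T₀
  have h1 : proj a m T₀ * a j'' = a (j'' ^ m) * proj a m T₀ := hS j''
  rw [← hj, mul_add, mul_one, hS j] at h1
  have h2 : (a (j ^ m) + 1 + a (j'' ^ m)) * proj a m T₀ = 0 := by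
    rw [add_mul, add_mul, one_mul, h1, c.reg.add_self]
  have hE : a (j ^ m) + 1 + a (j'' ^ m) ∈ c.reg.E :=
    c.reg.E.add_mem (c.reg.E.add_mem (c.reg.a_mem_E _) c.reg.E.one_mem) (c.reg.a_mem_E _)
  have h3 := c.reg.E_cancel hE hne h2
  have h4 := eq_neg_of_add_eq_zero_left h3
  rw [c.reg.neg_eq] at h4
  exact h4

end Cfsg.Agent.Lib.Helper27.SzF
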