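import Mathlib
import Cfsg.Agent.Lib.Helper27.SzField3

/-!
# Irreducible spaces of additive endomorphisms are semilinear
-/

set_option autoImplicit false

namespace Cfsg.Agent.Lib.Helper27.SzF

variable {K : Type*} {W : Type*} [Group K] [AddCommGroup W] {a : K →* AddMonoid.End W}
variable {D : AddSubgroup (AddMonoid.End W)} {T₀ : AddMonoid.End W}

theorem um_eq_zpow (m : ℕ) (κ : K) : um m κ = κ ^ ((1 : ℤ) - m) := by
  unfold um
  rw [sub_eq_add_neg, zpow_add, zpow_one, zpow_neg, zpow_natCast]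

theorem zpow_zpow_nat (κ : K) (z : ℤ) (m : ℕ) : (κ ^ z) ^ m = κ ^ (z * m) := by
  rw [zpow_mul, zpow_natCast]

/-- in a group of odd order, squaring is injective -/
theorem eq_one_of_sq_of_odd (hodd : Odd (Nat.card K)) {x : K} (hx : x ^ 2 = 1) : x = 1 := by
  have h1 : orderOf x ∣ 2 := orderOf_dvd_of_pow_eq_one hx
  have h2 : orderOf x ∣ Nat.card K := orderOf_dvd_natCard x
  have h3 : orderOf x ∣ Nat.gcd 2 (Nat.card K) := Nat.dvd_gcd h1 h2
  have h4 : Nat.gcd 2 (Nat.card K) = 1 := Nat.coprime_two_left.mpr hodd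
  rw [h4, Nat.dvd_one] at h3
  exact orderOf_eq_one_iff.mp h3

theorem four_aux {R : Type*} [Ring R] (h2 : ∀ x : R, x + x = 0) {x₁ x₂ x₃ x₄ : R}
    (hp : x₁ * x₂ = x₃ * x₄) (h : (x₁ + 1) * (x₂ + 1) = (x₃ + 1) * (x₄ + 1)) :
    x₁ + x₂ + (x₃ + x₄) = 0 := by
  have e : ∀ x y : R, (x + 1) * (y + 1) = x * y + ((x + y) + 1) := by
    intro x y
    simp only [mul_add, add_mul, mul_one, one_mul]
    abel
  rw [e, e, hp] at h
  have h3 := add_right_cancel (add_left_cancel h)
  rw [h3, h2]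

variable [Fintype K]

/-- the relation between four characters -/
theorem Ctx.four (c : Ctx a D T₀) {m m' : ℕ} (hm : proj a m T₀ ≠ 0) (hm' : proj a m' T₀ ≠ 0)
    (κ : K) :
    a (κ ^ ((1 : ℤ) - m)) + a (κ ^ (((1 : ℤ) - m') * m)) +
      (a (κ ^ ((1 : ℤ) - m')) + a (κ ^ (((1 : ℤ) - m) * m'))) = 0 := by
  by_cases hκ : κ = 1
  · subst hκ
    simp only [one_zpow, map_one]
    exact c.reg.add_self _
  obtain ⟨κ'', hκ''⟩ := c.exists_add_one hκ
  have e1 := c.um_add_one hm hκ''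
  have e3 := c.um_add_one hm' hκ''
  have e2 := c.pow_add_one hm e3
  have e4 := c.pow_add_one hm' e1
  simp only [um_eq_zpow, zpow_zpow_nat] at e1 e2 e3 e4
  have hprod : ∀ x : K, a (x ^ ((1 : ℤ) - m)) * a (x ^ (((1 : ℤ) - m') * m)) =
      a (x ^ ((1 : ℤ) - m')) * a (x ^ (((1 : ℤ) - m) * m')) := by
    intro x
    rw [← map_mul, ← map_mul, ← zpow_add, ← zpow_add]
    congr 2
    ring
  have h1 := hprod κ''
  rw [← e1, ← e2, ← e3, ← e4] at h1
  exact four_aux c.reg.add_self (hprod κ) h1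

/-- two nonvanishing projections belong to the same power map -/
theorem Ctx.pow_eq (c : Ctx a D T₀) {m m' : ℕ} (hm : proj a m T₀ ≠ 0) (hm' : proj a m' T₀ ≠ 0)
    (κ : K) : κ ^ m = κ ^ m' := by
  let _ := c.reg.commRingE
  have := c.reg.E_isDomain
  -- the characters
  let chr : ℤ → (K →* c.reg.E) := fun z =>
    { toFun := fun x => ⟨a (x ^ z), c.reg.a_mem_E _⟩
      map_one' := by
        apply Subtype.ext
        show a ((1 : K) ^ z) = 1
        rw [one_zpow, map_one]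
      map_mul' := by
        intro x y
        apply Subtype.ext
        show a ((x * y) ^ z) = a (x ^ z) * a (y ^ z)
        rw [(show Commute x y from c.reg.comm x y).mul_zpow, map_mul] }
  have hchr : ∀ z x, ((chr z x : c.reg.E) : AddMonoid.End W) = a (x ^ z) := fun z x => rfl
  have hchr_eq : ∀ z z' : ℤ, chr z = chr z' → ∀ x : K, x ^ z = x ^ z' := by
    intro z z' hzz x
    apply c.reg.a_injective
    have := congrArg (fun f : K →* c.reg.E => ((f x : c.reg.E) : AddMonoid.End W)) hzz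
    exact this
  obtain ⟨z₁, hz₁⟩ : ∃ z : ℤ, z = (1 : ℤ) - m := ⟨_, rfl⟩
  obtain ⟨z₂, hz₂⟩ : ∃ z : ℤ, z = ((1 : ℤ) - m') * m := ⟨_, rfl⟩
  obtain ⟨z₃, hz₃⟩ : ∃ z : ℤ, z = (1 : ℤ) - m' := ⟨_, rfl⟩
  obtain ⟨z₄, hz₄⟩ : ∃ z : ℤ, z = ((1 : ℤ) - m) * m' := ⟨_, rfl⟩
  have hfour : ∀ x : K, a (x ^ z₁) + a (x ^ z₂) + (a (x ^ z₃) + a (x ^ z₄)) = 0 := by
    intro x
    rw [hz₁, hz₂, hz₃, hz₄]
    exact c.four hm hm' x
  have hli := linearIndependent_monoidHom K c.reg.E
  have hcases : chr z₁ = chr z₂ ∨ chr z₁ = chr z₃ ∨ chr z₁ = chr z₄ := by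
    by_contra hnot
    push Not at hnot
    have hnm : chr z₁ ∉ ({chr z₂, chr z₃, chr z₄} : Set (K →* c.reg.E)) := by
      intro hmem
      rcases hmem with h1 | h1 | h1
      · exact hnot.1 h1
      · exact hnot.2.1 h1
      · exact hnot.2.2 h1
    have h1 := hli.notMem_span_image hnm
    apply h1
    have h2 : ((chr z₁ : K →* c.reg.E) : K → c.reg.E) =
        (chr z₂ : K → c.reg.E) + ((chr z₃ : K → c.reg.E) + (chr z₄ : K → c.reg.E)) := by
      funext x
      apply Subtype.ext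
      show a (x ^ z₁) = a (x ^ z₂) + (a (x ^ z₃) + a (x ^ z₄))
      have h3 := hfour x
      rw [add_assoc] at h3
      have h4 := eq_neg_of_add_eq_zero_left h3
      rw [c.reg.neg_eq] at h4
      exact h4
    rw [h2]
    apply Submodule.add_mem
    · exact Submodule.subset_span ⟨chr z₂, by simp, rfl⟩
    apply Submodule.add_mem
    · exact Submodule.subset_span ⟨chr z₃, by simp, rfl⟩
    · exact Submodule.subset_span ⟨chr z₄, by simp, rfl⟩
  have hfin : ∀ y : K, y ^ ((m : ℤ) - m') = 1 → y ^ m = y ^ m' := by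
    intro y hy
    rw [zpow_sub, zpow_natCast, zpow_natCast, mul_inv_eq_one] at hy
    exact hy
  rcases hcases with h12 | h13 | h14
  · -- then also the other two agree
    have e12 := hchr_eq _ _ h12
    have e34 : ∀ x : K, x ^ z₃ = x ^ z₄ := by
      intro x
      apply c.reg.a_injective
      have h3 := hfour x
      rw [e12 x, c.reg.add_self, zero_add] at h3
      have h4 := eq_neg_of_add_eq_zero_left h3
      rw [c.reg.neg_eq] at h4
      exact h4
    apply hfin
    apply eq_one_of_sq_of_odd c.reg.odd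
    have a1 : κ ^ (z₁ - z₂) = 1 := by rw [zpow_sub, e12 κ, mul_inv_cancel]
    have a3 : κ ^ (z₃ - z₄) = 1 := by rw [zpow_sub, e34 κ, mul_inv_cancel]
    have h5 : κ ^ (z₃ - z₄ - (z₁ - z₂)) = 1 := by
      rw [zpow_sub, a1, a3, inv_one, mul_one]
    have h6 : z₃ - z₄ - (z₁ - z₂) = ((m : ℤ) - m') * 2 := by
      rw [hz₁, hz₂, hz₃, hz₄]; ring
    rw [h6, zpow_mul] at h5
    exact_mod_cast h5
  · have e13 := hchr_eq _ _ h13 κ
    rw [hz₁, hz₃, sub_eq_add_neg, sub_eq_add_neg, zpow_add, zpow_add, zpow_neg, zpow_neg,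
      zpow_natCast, zpow_natCast] at e13
    exact inv_injective (mul_left_cancel e13)
  · exfalso
    have e14 := hchr_eq _ _ h14
    have hall : ∀ j : K, j ^ m' = j := by
      intro j
      obtain ⟨x, rfl⟩ := c.um_surjective hm j
      rw [um_eq_zpow, zpow_zpow_nat, ← hz₄, ← hz₁]
      exact (e14 x).symm
    obtain ⟨j, hj⟩ := c.reg.big
    apply hj
    have hS := c.reg.proj_mem_Sig m' T₀
    have h1 : cj a j (proj a m' T₀) = proj a m' T₀ := by
      unfold cj
      rw [mul_assoc, hS j⁻¹, hall, ← mul_assoc, Reg.a_mul_inv, one_mul]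
    rw [← c.reg.proj_cj] at h1
    have h2 := c.proj_inj' hm' (c.act.inv j T₀ c.mem) c.mem h1
    exact c.act.fpf j T₀ c.mem h2 c.ne

/-- **Semilinearity**: an irreducible invariant space of additive endomorphisms on which `K` acts
without fixed points consists of semilinear maps for one power map. -/
theorem Reg.semilinear (h : Reg a) (hA : Act a D) (hI : Irred a D) : ∃ m : ℕ, D ≤ Sig a m := by
  by_cases hD : ∃ T₀ ∈ D, T₀ ≠ 0
  · obtain ⟨T₀, hT₀, hne⟩ := hD
    have c : Ctx a D T₀ := ⟨h, hA, hI, hT₀, hne⟩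
    obtain ⟨m₀, hm₀⟩ := c.exists_proj_ne
    refine ⟨m₀, ?_⟩
    intro T hT
    rw [← h.sum_proj T]
    apply AddSubgroup.sum_mem
    intro m _
    by_cases hm : proj a m T₀ = 0
    · rw [c.proj_eq_zero hm hT]
      exact (Sig a m₀).zero_mem
    · have h1 := h.proj_mem_Sig m T
      intro k
      rw [h1 k, c.pow_eq hm hm₀ k]
  · push Not at hD
    refine ⟨0, ?_⟩
    intro T hT
    rw [hD T hT]
    exact (Sig a 0).zero_mem

end Cfsg.Agent.Lib.Helper27.SzF
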