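import Mathlib
import Cfsg.Agent.Lib.Helper27.SzField4

/-!
# Consequences of semilinearity, and commuting idempotents
-/

set_option autoImplicit false

namespace Cfsg.Agent.Lib.Helper27.SzF

variable {K : Type*} {W : Type*} [Group K] [AddCommGroup W] {a : K →* AddMonoid.End W}
variable {D : AddSubgroup (AddMonoid.End W)}

/-- nonzero elements of an irreducible space are injective -/
theorem Reg.inj_of_irred (h : Reg a) (hA : Act a D) (hI : Irred a D) {T : AddMonoid.End W}
    (hT : T ∈ D) (hT0 : T ≠ 0) {w : W} (hw : T w = 0) : w = 0 := by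
  haveI := h.finK
  haveI : Fintype K := Fintype.ofFinite K
  obtain ⟨m, hm⟩ := h.semilinear hA hI
  exact h.Sig_injective (hm hT) hT0 hw

/-- nonzero elements of an irreducible space have at most one nonzero fixed point -/
theorem Reg.fix_unique (h : Reg a) (hA : Act a D) (hI : Irred a D) {T : AddMonoid.End W}
    (hT : T ∈ D) (hT0 : T ≠ 0) {w w' : W} (hw : T w = w) (hw' : T w' = w') (hw0 : w ≠ 0)
    (hw0' : w' ≠ 0) : w = w' := by
  haveI := h.finK
  haveI : Fintype K := Fintype.ofFinite K
  obtain ⟨m, hm⟩ := h.semilinear hA hI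
  obtain ⟨k, rfl⟩ := h.exists_apply_eq hw0 hw0'
  have h1 : a (k ^ m) w = a k w := by
    rw [Sig_apply (hm hT), hw] at hw'
    exact hw'
  have h2 : k ^ m = k := h.eq_of_apply_eq hw0 h1
  have h3 : cj a k T = T := by
    rw [cj_of_mem_Sig (hm hT), h2, mul_inv_cancel, map_one, one_mul]
  have h4 := hA.fpf k T hT h3 hT0
  rw [h4, map_one]; rfl

/-- an irreducible space is a full space of semilinear maps, and has an invariant complement in any
invariant space containing it -/
theorem Reg.exists_compl (h : Reg a) (hA : Act a D) (hI : Irred a D) (hD : ∃ T ∈ D, T ≠ 0)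
    {D' : AddSubgroup (AddMonoid.End W)} (hA' : Act a D') (hle : D ≤ D') :
    ∃ D'' : AddSubgroup (AddMonoid.End W), D'' ≤ D' ∧ Act a D'' ∧ (∀ T ∈ D, T ∈ D'' → T = 0) ∧
      ∀ T ∈ D', ∃ T₁ ∈ D, ∃ T₂ ∈ D'', T = T₁ + T₂ := by
  haveI := h.finK
  haveI : Fintype K := Fintype.ofFinite K
  obtain ⟨m, hm⟩ := h.semilinear hA hI
  obtain ⟨T₀, hT₀, hne⟩ := hD
  have c : Ctx a D T₀ := ⟨h, hA, hI, hT₀, hne⟩
  have hp0 : proj a m T₀ ≠ 0 := by rw [h.proj_of_mem_Sig (hm hT₀)]; exact hne
  obtain ⟨w₀, hw₀⟩ := h.ne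
  -- the space is all of the semilinear maps
  have hfull : Sig a m ≤ D := by
    intro S hS
    by_cases hS0 : S = 0
    · rw [hS0]; exact D.zero_mem
    have h1 : S w₀ ≠ 0 := fun h0 => hw₀ (h.Sig_injective hS hS0 h0)
    have h2 : T₀ w₀ ≠ 0 := fun h0 => hw₀ (h.Sig_injective (hm hT₀) hne h0)
    obtain ⟨j, hj⟩ := h.exists_apply_eq h2 h1
    obtain ⟨κ, rfl⟩ := c.um_surjective hp0 j
    have h3 : S = cj a κ T₀ := by
      apply h.Sig_ext hS (h.cj_mem_Sig (hm hT₀) κ) hw₀
      rw [cj_of_mem_Sig (hm hT₀), ← hj]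
      rfl
    rw [h3]
    exact hA.inv κ T₀ hT₀
  let D'' : AddSubgroup (AddMonoid.End W) :=
    { carrier := {T | T ∈ D' ∧ proj a m T = 0}
      zero_mem' := ⟨D'.zero_mem, proj_zero m⟩
      add_mem' := by
        rintro S T ⟨hS, hS0⟩ ⟨hT, hT0⟩
        exact ⟨D'.add_mem hS hT, by rw [proj_add, hS0, hT0, add_zero]⟩
      neg_mem' := by
        rintro T ⟨hT, hT0⟩
        refine ⟨D'.neg_mem hT, ?_⟩
        rw [h.neg_eq]; exact hT0 }
  refine ⟨D'', fun T hT => hT.1, ⟨?_, ?_⟩, ?_, ?_⟩
  · rintro k T ⟨hT, hT0⟩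
    exact ⟨hA'.inv k T hT, by rw [h.proj_cj, hT0, cj_zero]⟩
  · rintro k T ⟨hT, -⟩ hfix hT0
    exact hA'.fpf k T hT hfix hT0
  · rintro T hT ⟨-, hT0⟩
    rw [← h.proj_of_mem_Sig (hm hT)]
    exact hT0
  · intro T hT
    refine ⟨proj a m T, hfull (h.proj_mem_Sig m T), proj a m T + T, ⟨?_, ?_⟩, ?_⟩
    · exact D'.add_mem (hle (hfull (h.proj_mem_Sig m T))) hT
    · rw [proj_add, h.proj_of_mem_Sig (h.proj_mem_Sig m T), h.add_self]
    · rw [← add_assoc, h.add_self, zero_add]

/-- an idempotent commuting with all its conjugates is trivial -/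
theorem Reg.idem_trivial (h : Reg a) {T : AddMonoid.End W} (hT : T * T = T)
    (hcomm : ∀ k : K, T * cj a k T = cj a k T * T) : T = 0 ∨ T = 1 := by
  classical
  haveI := h.finK
  haveI : Fintype K := Fintype.ofFinite K
  -- the conjugates are commuting idempotents
  have hidem : ∀ k : K, cj a k T * cj a k T = cj a k T := by
    intro k
    unfold cj
    calc a k * T * a k⁻¹ * (a k * T * a k⁻¹) = a k * T * (a k⁻¹ * a k) * T * a k⁻¹ := by
          simp only [mul_assoc]
      _ = a k * T * a k⁻¹ := by rw [Reg.a_inv_mul, mul_one, mul_assoc (a k), hT]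
  have hcj_mul : ∀ (k : K) (S S' : AddMonoid.End W), cj a k (S * S') = cj a k S * cj a k S' := by
    intro k S S'
    unfold cj
    calc a k * (S * S') * a k⁻¹ = a k * S * 1 * S' * a k⁻¹ := by simp only [mul_assoc, one_mul]
      _ = a k * S * (a k⁻¹ * a k) * S' * a k⁻¹ := by rw [Reg.a_inv_mul]
      _ = a k * S * a k⁻¹ * (a k * S' * a k⁻¹) := by simp only [mul_assoc]
  have hcc : ∀ j k : K, cj a j T * cj a k T = cj a k T * cj a j T := by
    intro j k
    have h1 : cj a k T = cj a j (cj a (j⁻¹ * k) T) := by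
      rw [← cj_mul, mul_inv_cancel_left]
    have h2 : cj a j T * cj a j (cj a (j⁻¹ * k) T) = cj a j (cj a (j⁻¹ * k) T) * cj a j T := by
      rw [← hcj_mul, ← hcj_mul, hcomm]
    rw [h1]; exact h2
  -- a joint eigen-idempotent
  have key : ∀ s : Finset K, ∃ e : AddMonoid.End W, e * e = e ∧ e ≠ 0 ∧
      (∀ k : K, e * cj a k T = cj a k T * e) ∧
      ∀ k ∈ s, e * cj a k T = e ∨ e * cj a k T = 0 := by
    intro s
    induction s using Finset.induction_on with
    | empty =>
      refine ⟨1, one_mul 1, ?_, fun k => by rw [one_mul, mul_one], fun k hk => ?_⟩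
      · intro h01
        obtain ⟨w, hw⟩ := h.ne
        apply hw
        have := congrArg (fun S : AddMonoid.End W => S w) h01
        exact this
      · exact absurd hk (Finset.notMem_empty k)
    | insert k s hks ih =>
      obtain ⟨e, he, hne, hec, hes⟩ := ih
      by_cases h0 : e * cj a k T = 0
      · refine ⟨e, he, hne, hec, ?_⟩
        intro j hj
        rcases Finset.mem_insert.mp hj with rfl | hj
        · right; exact h0
        · exact hes j hj
      · refine ⟨e * cj a k T, ?_, h0, ?_, ?_⟩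
        · calc e * cj a k T * (e * cj a k T) = e * (cj a k T * e) * cj a k T := by
                simp only [mul_assoc]
            _ = e * (e * cj a k T) * cj a k T := by rw [hec k]
            _ = (e * e) * (cj a k T * cj a k T) := by simp only [mul_assoc]
            _ = e * cj a k T := by rw [he, hidem]
        · intro j
          calc e * cj a k T * cj a j T = e * (cj a k T * cj a j T) := by rw [mul_assoc]
            _ = e * (cj a j T * cj a k T) := by rw [hcc]
            _ = (e * cj a j T) * cj a k T := by rw [mul_assoc]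
            _ = cj a j T * e * cj a k T := by rw [hec j]
            _ = cj a j T * (e * cj a k T) := by rw [mul_assoc]
        · intro j hj
          rcases Finset.mem_insert.mp hj with rfl | hj
          · left
            rw [mul_assoc, hidem]
          · have h1 : e * cj a k T * cj a j T = (e * cj a j T) * cj a k T := by
              rw [mul_assoc, hcc k j, ← mul_assoc]
            rcases hes j hj with h2 | h2
            · left; rw [h1, h2]
            · right; rw [h1, h2, zero_mul]
  obtain ⟨e, he, hne, hec, hes⟩ := key Finset.univ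
  -- a joint eigenvector
  obtain ⟨w₁, hw₁⟩ : ∃ w₁ : W, e w₁ ≠ 0 := by
    by_contra hall
    push Not at hall
    apply hne
    ext w
    exact hall w
  have hew : e (e w₁) = e w₁ := by
    rw [← mul_apply', he]
  have hjoint : ∀ k : K, cj a k T (e w₁) = e w₁ ∨ cj a k T (e w₁) = 0 := by
    intro k
    have h1 : cj a k T (e w₁) = (e * cj a k T) (e w₁) := by
      rw [hec k, mul_apply', hew]
    rcases hes k (Finset.mem_univ k) with h2 | h2
    · left; rw [h1, h2, hew]
    · right; rw [h1, h2]; rfl
  -- every vector is an eigenvector of `T`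
  have hall : ∀ x : W, T x = x ∨ T x = 0 := by
    intro x
    by_cases hx : x = 0
    · right; rw [hx, map_zero]
    obtain ⟨j, rfl⟩ := h.exists_apply_eq hw₁ hx
    have h1 : T (a j (e w₁)) = a j (cj a j⁻¹ T (e w₁)) := by
      rw [cj_apply, inv_inv, Reg.a_apply_inv]
    rcases hjoint j⁻¹ with h2 | h2
    · left; rw [h1, h2]
    · right; rw [h1, h2, map_zero]
  by_cases hT0 : T = 0
  · left; exact hT0
  right
  obtain ⟨x₁, hx₁⟩ : ∃ x₁ : W, T x₁ ≠ 0 := by
    by_contra hno
    push Not at hno
    apply hT0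
    ext w
    exact hno w
  have hx₁' : T x₁ = x₁ := by
    rcases hall x₁ with h1 | h1
    · exact h1
    · exact absurd h1 hx₁
  ext x
  show T x = x
  rcases hall x with h1 | h1
  · exact h1
  · -- `T (x₁ + x) = x₁` must be `x₁ + x` or `0`
    have h2 : T (x₁ + x) = x₁ := by rw [map_add, hx₁', h1, add_zero]
    rcases hall (x₁ + x) with h3 | h3
    · rw [h2] at h3
      have : x = 0 := by
        have := add_left_cancel (a := x₁) (b := 0) (c := x) (by rw [add_zero]; exact h3)
        exact this.symm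
      rw [this, map_zero]
    · rw [h2] at h3
      exact absurd (by rw [h3, map_zero] : T x₁ = 0) hx₁

end Cfsg.Agent.Lib.Helper27.SzF
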