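import Mathlib

/-!
# Suzuki 2-groups: basic facts

A group `K` acts on a finite `2`-group `P` with at least two involutions, regularly on the
involutions, and `K` is commutative.
-/

set_option autoImplicit false

namespace Cfsg.Agent.Lib.Helper27.Sz

variable {K : Type*} {P : Type*} [Group K] [Group P]

/-- the hypotheses -/
structure Suz (ρ : K →* MulAut P) : Prop where
  fin : Finite P
  comm : ∀ a b : K, a * b = b * a
  pgroup : IsPGroup 2 P
  two_inv : ∃ x y : P, x ≠ y ∧ x ≠ 1 ∧ x * x = 1 ∧ y ≠ 1 ∧ y * y = 1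
  reg : ∀ x y : P, x ≠ 1 → x * x = 1 → y ≠ 1 → y * y = 1 → ∃! k : K, ρ k x = y

/-- the central elements of order at most two -/
def Vs (P : Type*) [Group P] : Subgroup P where
  carrier := {x | x ∈ Subgroup.center P ∧ x * x = 1}
  one_mem' := ⟨Subgroup.one_mem _, by simp⟩
  mul_mem' := by
    rintro a b ⟨ha, ha2⟩ ⟨hb, hb2⟩
    refine ⟨Subgroup.mul_mem _ ha hb, ?_⟩
    have hc : b * a = a * b := (Subgroup.mem_center_iff.mp ha b)
    calc a * b * (a * b) = a * (b * a) * b := by group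
      _ = a * (a * b) * b := by rw [hc]
      _ = (a * a) * (b * b) := by group
      _ = 1 := by rw [ha2, hb2, one_mul]
  inv_mem' := by
    rintro a ⟨ha, ha2⟩
    refine ⟨Subgroup.inv_mem _ ha, ?_⟩
    have : a⁻¹ = a := inv_eq_of_mul_eq_one_left ha2
    rw [this, ha2]

theorem mem_Vs {x : P} : x ∈ Vs P ↔ x ∈ Subgroup.center P ∧ x * x = 1 := Iff.rfl

theorem Vs_le_center : Vs P ≤ Subgroup.center P := fun _ hx => hx.1

theorem apply_mem_center (α : MulAut P) {x : P} (hx : x ∈ Subgroup.center P) :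
    α x ∈ Subgroup.center P := by
  rw [Subgroup.mem_center_iff] at hx ⊢
  intro g
  have := hx (α.symm g)
  calc g * α x = α (α.symm g * x) := by rw [map_mul, MulEquiv.apply_symm_apply]
    _ = α (x * α.symm g) := by rw [this]
    _ = α x * g := by rw [map_mul, MulEquiv.apply_symm_apply]

theorem apply_mem_Vs (α : MulAut P) {x : P} (hx : x ∈ Vs P) : α x ∈ Vs P :=
  ⟨apply_mem_center α hx.1, by rw [← map_mul, hx.2, map_one]⟩

theorem sq_of_mem_Vs {x : P} (hx : x ∈ Vs P) : x * x = 1 := hx.2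

theorem inv_eq_of_mem_Vs {x : P} (hx : x ∈ Vs P) : x⁻¹ = x :=
  inv_eq_of_mul_eq_one_left hx.2

theorem comm_of_mem_Vs {x : P} (hx : x ∈ Vs P) (g : P) : g * x = x * g :=
  Subgroup.mem_center_iff.mp hx.1 g

variable {ρ : K →* MulAut P}

theorem Suz.comm_apply (h : Suz ρ) (a b : K) (x : P) : ρ a (ρ b x) = ρ b (ρ a x) := by
  have h1 : ρ a (ρ b x) = ρ (a * b) x := by rw [map_mul]; rfl
  have h2 : ρ b (ρ a x) = ρ (b * a) x := by rw [map_mul]; rfl
  rw [h1, h2, h.comm]

theorem Suz.inv_apply (a : K) (x : P) : ρ a⁻¹ (ρ a x) = x := by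
  have : ρ a⁻¹ (ρ a x) = ρ (a⁻¹ * a) x := by rw [map_mul]; rfl
  rw [this, inv_mul_cancel, map_one]; rfl

theorem Suz.apply_inv (a : K) (x : P) : ρ a (ρ a⁻¹ x) = x := by
  have : ρ a (ρ a⁻¹ x) = ρ (a * a⁻¹) x := by rw [map_mul]; rfl
  rw [this, mul_inv_cancel, map_one]; rfl

/-- involutions are central -/
theorem Suz.mem_center_of_sq (h : Suz ρ) {x : P} (hx : x * x = 1) : x ∈ Subgroup.center P := by
  by_cases hx1 : x = 1
  · rw [hx1]; exact Subgroup.one_mem _
  haveI := h.fin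
  haveI : Nontrivial P := ⟨⟨x, 1, hx1⟩⟩
  haveI := h.pgroup.center_nontrivial
  have hpc : IsPGroup 2 (Subgroup.center P) := h.pgroup.to_subgroup _
  obtain ⟨n, hn⟩ := hpc.exists_card_eq
  have hn0 : n ≠ 0 := by
    rintro rfl
    rw [pow_zero] at hn
    have := (Nat.card_eq_one_iff_unique.mp hn).1
    exact not_subsingleton _ this
  have hdvd : 2 ∣ Nat.card (Subgroup.center P) := by
    rw [hn]; exact dvd_pow_self 2 hn0
  haveI : Fact (Nat.Prime 2) := ⟨Nat.prime_two⟩
  obtain ⟨z, hz⟩ := exists_prime_orderOf_dvd_card' 2 hdvd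
  have hz1 : (z : P) ≠ 1 := by
    intro h1
    have : z = 1 := Subtype.ext h1
    rw [this, orderOf_one] at hz
    omega
  have hz2 : (z : P) * z = 1 := by
    have := pow_orderOf_eq_one z
    rw [hz] at this
    have h2 : ((z ^ 2 : Subgroup.center P) : P) = 1 := by rw [this]; rfl
    rwa [Subgroup.coe_pow, pow_two] at h2
  obtain ⟨k, hk, -⟩ := h.reg z x hz1 hz2 hx1 hx
  rw [← hk]
  exact apply_mem_center _ z.2

theorem Suz.mem_Vs_iff (h : Suz ρ) {x : P} : x ∈ Vs P ↔ x * x = 1 :=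
  ⟨fun hx => hx.2, fun hx => ⟨h.mem_center_of_sq hx, hx⟩⟩

/-- an involution -/
theorem Suz.exists_inv (h : Suz ρ) : ∃ x : P, x ≠ 1 ∧ x * x = 1 := by
  obtain ⟨x, -, -, hx1, hx2, -⟩ := h.two_inv
  exact ⟨x, hx1, hx2⟩

/-- the action on involutions is free -/
theorem Suz.eq_of_apply_eq (h : Suz ρ) {x : P} (hx1 : x ≠ 1) (hx : x * x = 1) {a b : K}
    (hab : ρ a x = ρ b x) : a = b := by
  have hy1 : ρ a x ≠ 1 := fun h0 => hx1 (by
    have := congrArg (ρ a⁻¹) h0
    rwa [Suz.inv_apply, map_one] at this)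
  have hy2 : ρ a x * ρ a x = 1 := by rw [← map_mul, hx, map_one]
  obtain ⟨k, -, huniq⟩ := h.reg x (ρ a x) hx1 hx hy1 hy2
  rw [huniq a rfl, huniq b hab.symm]

/-- the bijection between `K` with a point added and the central elementary subgroup -/
noncomputable def Suz.optEquiv (h : Suz ρ) (x₀ : P) (hx1 : x₀ ≠ 1) (hx : x₀ * x₀ = 1) :
    Option K ≃ Vs P := by
  classical
  refine Equiv.ofBijective (fun o => match o with
    | none => (1 : Vs P)
    | some k => ⟨ρ k x₀, apply_mem_Vs _ (h.mem_Vs_iff.mpr hx)⟩) ⟨?_, ?_⟩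
  · rintro (_ | a) (_ | b) hab
    · rfl
    · exfalso
      have h1 : (1 : P) = ρ b x₀ := congrArg Subtype.val hab
      apply hx1
      have := congrArg (ρ b⁻¹) h1
      rw [Suz.inv_apply, map_one] at this
      exact this.symm
    · exfalso
      have h1 : ρ a x₀ = (1 : P) := congrArg Subtype.val hab
      apply hx1
      have := congrArg (ρ a⁻¹) h1
      rwa [Suz.inv_apply, map_one] at this
    · have h1 : ρ a x₀ = ρ b x₀ := congrArg Subtype.val hab
      rw [h.eq_of_apply_eq hx1 hx h1]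
  · rintro ⟨v, hv⟩
    by_cases hv1 : v = 1
    · exact ⟨none, Subtype.ext hv1.symm⟩
    · obtain ⟨k, hk, -⟩ := h.reg x₀ v hx1 hx hv1 hv.2
      exact ⟨some k, Subtype.ext hk⟩

theorem Suz.finite_K (h : Suz ρ) : Finite K := by
  haveI := h.fin
  obtain ⟨x₀, hx1, hx⟩ := h.exists_inv
  have : Finite (Option K) := Finite.of_equiv _ (h.optEquiv x₀ hx1 hx).symm
  exact Finite.of_injective (fun k : K => (some k : Option K)) (Option.some_injective K)

theorem Suz.card_Vs (h : Suz ρ) : Nat.card (Vs P) = Nat.card K + 1 := by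
  have := h.finite_K
  obtain ⟨x₀, hx1, hx⟩ := h.exists_inv
  rw [← Nat.card_congr (h.optEquiv x₀ hx1 hx), Finite.card_option]

/-- the order of `Vs P` is `2 ^ n` with `2 ≤ n` -/
theorem Suz.exists_card_Vs (h : Suz ρ) : ∃ n : ℕ, 2 ≤ n ∧ Nat.card (Vs P) = 2 ^ n := by
  haveI := h.fin
  obtain ⟨n, hn⟩ := (h.pgroup.to_subgroup (Vs P)).exists_card_eq
  refine ⟨n, ?_, hn⟩
  obtain ⟨x, y, hxy, hx1, hx, hy1, hy⟩ := h.two_inv
  -- three distinct elements
  have h3 : 3 ≤ Nat.card (Vs P) := by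
    have hinj : Function.Injective (fun i : Fin 3 => (match i with
        | 0 => (1 : Vs P)
        | 1 => ⟨x, h.mem_Vs_iff.mpr hx⟩
        | 2 => ⟨y, h.mem_Vs_iff.mpr hy⟩ : Vs P)) := by
      intro i j hij
      fin_cases i <;> fin_cases j <;> simp_all [Subtype.ext_iff]
    have := Nat.card_le_card_of_injective _ hinj
    simpa using this
  by_contra hlt
  have : n = 0 ∨ n = 1 := by omega
  rcases this with rfl | rfl <;> omega

theorem Suz.card_K_odd (h : Suz ρ) : Odd (Nat.card K) := by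
  obtain ⟨n, hn2, hn⟩ := h.exists_card_Vs
  rw [h.card_Vs] at hn
  have : Even (2 ^ n) := (Nat.even_pow' (by omega)).mpr even_two
  rw [← hn] at this
  rcases Nat.even_or_odd (Nat.card K) with he | ho
  · exact absurd this (by rw [Nat.even_add_one]; exact fun h => h he)
  · exact ho

/-- every element of `K` is a square -/
theorem Suz.exists_sq (h : Suz ρ) (k : K) : ∃ s : K, s * s = k := by
  haveI := h.finite_K
  obtain ⟨m, hm⟩ := h.card_K_odd
  refine ⟨k ^ (m + 1), ?_⟩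
  rw [← pow_add]
  have : m + 1 + (m + 1) = Nat.card K + 1 := by omega
  rw [this, pow_succ, pow_card_eq_one', one_mul]

/-- nonidentity elements of `K` have no nonidentity fixed points -/
theorem Suz.fpf (h : Suz ρ) {k : K} {x : P} (hx : ρ k x = x) (hx1 : x ≠ 1) : k = 1 := by
  haveI := h.fin
  let C : Subgroup P :=
    { carrier := {y | ρ k y = y}
      one_mem' := map_one _
      mul_mem' := by
        intro a b ha hb
        show ρ k (a * b) = a * b
        rw [map_mul, ha, hb]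
      inv_mem' := by
        intro a ha
        show ρ k a⁻¹ = a⁻¹
        rw [map_inv, ha] }
  have hC : IsPGroup 2 C := h.pgroup.to_subgroup _
  obtain ⟨n, hn⟩ := hC.exists_card_eq
  have hn0 : n ≠ 0 := by
    rintro rfl
    rw [pow_zero] at hn
    have := (Nat.card_eq_one_iff_unique.mp hn).1
    have h1 : (⟨x, hx⟩ : C) = 1 := Subsingleton.elim _ _
    exact hx1 (congrArg Subtype.val h1)
  have hdvd : 2 ∣ Nat.card C := by rw [hn]; exact dvd_pow_self 2 hn0
  haveI : Fact (Nat.Prime 2) := ⟨Nat.prime_two⟩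
  obtain ⟨z, hz⟩ := exists_prime_orderOf_dvd_card' 2 hdvd
  have hz1 : (z : P) ≠ 1 := by
    intro h1
    have : z = 1 := Subtype.ext h1
    rw [this, orderOf_one] at hz
    omega
  have hz2 : (z : P) * z = 1 := by
    have := pow_orderOf_eq_one z
    rw [hz] at this
    have h2 : ((z ^ 2 : C) : P) = 1 := by rw [this]; rfl
    rwa [Subgroup.coe_pow, pow_two] at h2
  have hzk : ρ k (z : P) = ρ 1 (z : P) := by
    rw [map_one]; exact z.2
  exact h.eq_of_apply_eq hz1 hz2 hzk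

/-- the sum of two distinct elements of `K` on the involutions is again in `K` -/
theorem Suz.exists_sum (h : Suz ρ) {c d : K} (hcd : c ≠ d) :
    ∃ e : K, ∀ v ∈ Vs P, ρ c v * ρ d v = ρ e v := by
  obtain ⟨x₀, hx1, hx⟩ := h.exists_inv
  have hx₀ : x₀ ∈ Vs P := h.mem_Vs_iff.mpr hx
  have hw : ρ c x₀ * ρ d x₀ ∈ Vs P := (Vs P).mul_mem (apply_mem_Vs _ hx₀) (apply_mem_Vs _ hx₀)
  have hw1 : ρ c x₀ * ρ d x₀ ≠ 1 := by
    intro h1
    apply hcd
    apply h.eq_of_apply_eq hx1 hx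
    have h2 : ρ c x₀ = (ρ d x₀)⁻¹ := eq_inv_of_mul_eq_one_left h1
    rw [h2, inv_eq_of_mem_Vs (apply_mem_Vs _ hx₀)]
  obtain ⟨e, he, -⟩ := h.reg x₀ _ hx1 hx hw1 hw.2
  refine ⟨e, fun v hv => ?_⟩
  by_cases hv1 : v = 1
  · rw [hv1, map_one, map_one, map_one, one_mul]
  · obtain ⟨k, hk, -⟩ := h.reg x₀ v hx1 hx hv1 hv.2
    rw [← hk, h.comm_apply c k, h.comm_apply d k, h.comm_apply e k, ← map_mul, he]

end Cfsg.Agent.Lib.Helper27.Sz
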