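import Mathlib
import Cfsg.Agent.Lib.Helper27.SzBasic

/-!
# Suzuki 2-groups: invariant subgroups and quotients
-/

set_option autoImplicit false

namespace Cfsg.Agent.Lib.Helper27.Sz

variable {K : Type*} {P : Type*} [Group K] [Group P]

/-- invariant subgroups -/
def Inv (ρ : K →* MulAut P) (H : Subgroup P) : Prop := ∀ k : K, ∀ x ∈ H, ρ k x ∈ H

theorem inv_Vs (ρ : K →* MulAut P) : Inv ρ (Vs P) := fun k _ hx => apply_mem_Vs (ρ k) hx

theorem inv_center (ρ : K →* MulAut P) : Inv ρ (Subgroup.center P) :=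
  fun k _ hx => apply_mem_center (ρ k) hx

theorem inv_top (ρ : K →* MulAut P) : Inv ρ (⊤ : Subgroup P) := fun _ _ _ => Subgroup.mem_top _

theorem Inv.inf {ρ : K →* MulAut P} {H₁ H₂ : Subgroup P} (h₁ : Inv ρ H₁) (h₂ : Inv ρ H₂) :
    Inv ρ (H₁ ⊓ H₂) := fun k x hx => ⟨h₁ k x hx.1, h₂ k x hx.2⟩

theorem Inv.apply_mem_iff {ρ : K →* MulAut P} {H : Subgroup P} (hH : Inv ρ H) (k : K) (x : P) :
    ρ k x ∈ H ↔ x ∈ H := by
  refine ⟨fun hx => ?_, hH k x⟩
  have := hH k⁻¹ _ hx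
  rwa [Suz.inv_apply] at this

theorem Inv.map_eq {ρ : K →* MulAut P} {H : Subgroup P} (hH : Inv ρ H) (k : K) :
    H.map ((ρ k : P ≃* P) : P →* P) = H := by
  ext x
  constructor
  · rintro ⟨y, hy, rfl⟩
    exact hH k y hy
  · intro hx
    exact ⟨ρ k⁻¹ x, hH k⁻¹ x hx, Suz.apply_inv (ρ := ρ) k x⟩

/-- the restricted action -/
def resAct (ρ : K →* MulAut P) (H : Subgroup P) (hH : Inv ρ H) : K →* MulAut H where
  toFun k :=
    { toFun := fun x : H => (⟨ρ k x, hH k x x.2⟩ : H)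
      invFun := fun x : H => (⟨ρ k⁻¹ x, hH k⁻¹ x x.2⟩ : H)
      left_inv := fun x => Subtype.ext (Suz.inv_apply (ρ := ρ) k (x : P))
      right_inv := fun x => Subtype.ext (Suz.apply_inv (ρ := ρ) k (x : P))
      map_mul' := fun x y => Subtype.ext (map_mul (ρ k) (x : P) (y : P)) }
  map_one' := by
    ext x
    show ρ 1 (x : P) = x
    rw [map_one]; rfl
  map_mul' := by
    intro a b
    ext x
    show ρ (a * b) (x : P) = ρ a (ρ b x)
    rw [map_mul]; rfl

@[simp] theorem resAct_apply (ρ : K →* MulAut P) (H : Subgroup P) (hH : Inv ρ H) (k : K) (x : H) :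
    ((resAct ρ H hH k x : H) : P) = ρ k x := rfl

/-- the action on a quotient -/
noncomputable def quotAct (ρ : K →* MulAut P) (N : Subgroup P) [N.Normal] (hN : Inv ρ N) :
    K →* MulAut (P ⧸ N) where
  toFun k := QuotientGroup.congr N N (ρ k) (hN.map_eq k)
  map_one' := by
    apply MulEquiv.ext
    intro x
    obtain ⟨x, rfl⟩ := QuotientGroup.mk_surjective x
    have h1 := QuotientGroup.congr_mk N N (ρ 1) (hN.map_eq 1) x
    rw [h1, map_one]; rfl
  map_mul' := by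
    intro a b
    apply MulEquiv.ext
    intro x
    obtain ⟨x, rfl⟩ := QuotientGroup.mk_surjective x
    have h1 := QuotientGroup.congr_mk N N (ρ (a * b)) (hN.map_eq (a * b)) x
    have h2 := QuotientGroup.congr_mk N N (ρ b) (hN.map_eq b) x
    have h3 := QuotientGroup.congr_mk N N (ρ a) (hN.map_eq a) (ρ b x)
    rw [h1]
    show _ = QuotientGroup.congr N N (ρ a) (hN.map_eq a)
      (QuotientGroup.congr N N (ρ b) (hN.map_eq b) (x : P ⧸ N))
    rw [h2, h3, map_mul]; rfl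

@[simp] theorem quotAct_mk (ρ : K →* MulAut P) (N : Subgroup P) [N.Normal] (hN : Inv ρ N) (k : K)
    (x : P) : quotAct ρ N hN k (x : P ⧸ N) = ((ρ k x : P) : P ⧸ N) :=
  QuotientGroup.congr_mk N N (ρ k) (hN.map_eq k) x

variable {ρ : K →* MulAut P}

/-- a nontrivial subgroup contains an involution -/
theorem Suz.exists_inv_mem (h : Suz ρ) {H : Subgroup P} (hne : H ≠ ⊥) :
    ∃ z ∈ H, z ≠ 1 ∧ z * z = 1 := by
  haveI := h.fin
  have hC : IsPGroup 2 H := h.pgroup.to_subgroup _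
  obtain ⟨n, hn⟩ := hC.exists_card_eq
  have hn0 : n ≠ 0 := by
    rintro rfl
    rw [pow_zero] at hn
    exact hne (Subgroup.card_eq_one.mp hn)
  have hdvd : 2 ∣ Nat.card H := by rw [hn]; exact dvd_pow_self 2 hn0
  haveI : Fact (Nat.Prime 2) := ⟨Nat.prime_two⟩
  obtain ⟨z, hz⟩ := exists_prime_orderOf_dvd_card' 2 hdvd
  have hz1 : (z : P) ≠ 1 := by
    intro h1
    have : z = 1 := Subtype.ext h1
    rw [this, orderOf_one] at hz
    omega
  have hz2 : (z : P) * z = 1 := by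
    have := pow_orderOf_eq_one z
    rw [hz] at this
    have h2 : ((z ^ 2 : H) : P) = 1 := by rw [this]; rfl
    rwa [Subgroup.coe_pow, pow_two] at h2
  exact ⟨z, z.2, hz1, hz2⟩

/-- nontrivial invariant subgroups contain all involutions -/
theorem Suz.Vs_le (h : Suz ρ) {H : Subgroup P} (hH : Inv ρ H) (hne : H ≠ ⊥) : Vs P ≤ H := by
  obtain ⟨z, hzH, hz1, hz2⟩ := h.exists_inv_mem hne
  intro v hv
  by_cases hv1 : v = 1
  · rw [hv1]; exact H.one_mem
  · obtain ⟨k, hk, -⟩ := h.reg z v hz1 hz2 hv1 hv.2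
    rw [← hk]
    exact hH k z hzH

/-- the hypotheses pass to nontrivial invariant subgroups -/
theorem Suz.sub (h : Suz ρ) {H : Subgroup P} (hH : Inv ρ H) (hne : H ≠ ⊥) :
    Suz (resAct ρ H hH) := by
  haveI := h.fin
  have hV := h.Vs_le hH hne
  refine ⟨inferInstance, h.comm, h.pgroup.to_subgroup _, ?_, ?_⟩
  · obtain ⟨x, y, hxy, hx1, hx, hy1, hy⟩ := h.two_inv
    refine ⟨⟨x, hV (h.mem_Vs_iff.mpr hx)⟩, ⟨y, hV (h.mem_Vs_iff.mpr hy)⟩, ?_, ?_, ?_, ?_, ?_⟩
    · intro h0; exact hxy (congrArg Subtype.val h0)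
    · intro h0; exact hx1 (congrArg Subtype.val h0)
    · exact Subtype.ext hx
    · intro h0; exact hy1 (congrArg Subtype.val h0)
    · exact Subtype.ext hy
  · intro x y hx1 hx hy1 hy
    have hx1' : (x : P) ≠ 1 := fun h0 => hx1 (Subtype.ext h0)
    have hy1' : (y : P) ≠ 1 := fun h0 => hy1 (Subtype.ext h0)
    have hx' : (x : P) * x = 1 := congrArg Subtype.val hx
    have hy' : (y : P) * y = 1 := congrArg Subtype.val hy
    obtain ⟨k, hk, huniq⟩ := h.reg x y hx1' hx' hy1' hy'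
    refine ⟨k, Subtype.ext hk, fun k' hk' => huniq k' ?_⟩
    exact congrArg Subtype.val hk'

/-- the key consequence of the fixed-point-free action -/
theorem Suz.mem_of_inv_mul_apply_mem (h : Suz ρ) {H : Subgroup P} (hH : Inv ρ H) {k : K}
    (hk : k ≠ 1) {x : P} (hx : x⁻¹ * ρ k x ∈ H) : x ∈ H := by
  haveI := h.fin
  have hinjP : ∀ a b : P, a⁻¹ * ρ k a = b⁻¹ * ρ k b → a = b := by
    intro a b hab
    by_contra hne
    have h1 : ρ k (b * a⁻¹) = b * a⁻¹ := by
      rw [map_mul, map_inv]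
      have : ρ k a = a * (b⁻¹ * ρ k b) := by rw [← hab]; group
      rw [this]; group
    have h2 : b * a⁻¹ ≠ 1 := by
      intro h0
      apply hne
      have := mul_inv_eq_one.mp h0
      exact this.symm
    exact hk (h.fpf h1 h2)
  let f : H → H := fun y => ⟨(y : P)⁻¹ * ρ k y, H.mul_mem (H.inv_mem y.2) (hH k y y.2)⟩
  have hf : Function.Injective f := by
    intro a b hab
    exact Subtype.ext (hinjP a b (congrArg Subtype.val hab))
  obtain ⟨y, hy⟩ := (Finite.injective_iff_surjective.mp hf) ⟨_, hx⟩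
  have : (y : P) = x := hinjP _ _ (congrArg Subtype.val hy)
  rw [← this]
  exact y.2

/-- fixed-point-freeness on quotients -/
theorem Suz.fpf_quot (h : Suz ρ) {N : Subgroup P} [N.Normal] (hN : Inv ρ N) {k : K} (hk : k ≠ 1)
    {x : P} (hx : quotAct ρ N hN k (x : P ⧸ N) = (x : P ⧸ N)) : x ∈ N := by
  rw [quotAct_mk] at hx
  apply h.mem_of_inv_mul_apply_mem hN hk
  have := (QuotientGroup.eq).mp hx.symm
  exact this

/-- the hypotheses pass to a quotient whose involutions form one orbit -/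
theorem Suz.quot (h : Suz ρ) {N : Subgroup P} [N.Normal] (hN : Inv ρ N)
    (htwo : ∃ x y : P, x⁻¹ * y ∉ N ∧ x ∉ N ∧ x * x ∈ N ∧ y ∉ N ∧ y * y ∈ N)
    (htr : ∀ x y : P, x ∉ N → x * x ∈ N → y ∉ N → y * y ∈ N → ∃ k : K, (ρ k x)⁻¹ * y ∈ N) :
    Suz (quotAct ρ N hN) := by
  haveI := h.fin
  refine ⟨inferInstance, h.comm, h.pgroup.to_quotient N, ?_, ?_⟩
  · obtain ⟨x, y, hxy, hx1, hx, hy1, hy⟩ := htwo
    refine ⟨(x : P ⧸ N), (y : P ⧸ N), ?_, ?_, ?_, ?_, ?_⟩
    · intro h0; exact hxy (QuotientGroup.eq.mp h0)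
    · intro h0; exact hx1 ((QuotientGroup.eq_one_iff x).mp h0)
    · rw [← QuotientGroup.mk_mul]; exact (QuotientGroup.eq_one_iff _).mpr hx
    · intro h0; exact hy1 ((QuotientGroup.eq_one_iff y).mp h0)
    · rw [← QuotientGroup.mk_mul]; exact (QuotientGroup.eq_one_iff _).mpr hy
  · intro x y hx1 hx hy1 hy
    obtain ⟨x, rfl⟩ := QuotientGroup.mk_surjective x
    obtain ⟨y, rfl⟩ := QuotientGroup.mk_surjective y
    have hx1' : x ∉ N := fun h0 => hx1 ((QuotientGroup.eq_one_iff x).mpr h0)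
    have hy1' : y ∉ N := fun h0 => hy1 ((QuotientGroup.eq_one_iff y).mpr h0)
    have hx' : x * x ∈ N := by
      rw [← QuotientGroup.mk_mul] at hx; exact (QuotientGroup.eq_one_iff _).mp hx
    have hy' : y * y ∈ N := by
      rw [← QuotientGroup.mk_mul] at hy; exact (QuotientGroup.eq_one_iff _).mp hy
    obtain ⟨k, hk⟩ := htr x y hx1' hx' hy1' hy'
    refine ⟨k, ?_, ?_⟩
    · show quotAct ρ N hN k (x : P ⧸ N) = (y : P ⧸ N)
      rw [quotAct_mk]
      exact QuotientGroup.eq.mpr hk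
    · intro k' hk'
      have hk'' : quotAct ρ N hN k' (x : P ⧸ N) = (y : P ⧸ N) := hk'
      have hk0 : quotAct ρ N hN k (x : P ⧸ N) = (y : P ⧸ N) := by
        rw [quotAct_mk]; exact QuotientGroup.eq.mpr hk
      by_contra hne
      have h1 : k⁻¹ * k' ≠ 1 := by
        intro h0
        apply hne
        have := inv_mul_eq_one.mp h0
        exact this.symm
      have h2 : quotAct ρ N hN (k⁻¹ * k') (x : P ⧸ N) = (x : P ⧸ N) := by
        rw [map_mul]
        show quotAct ρ N hN k⁻¹ (quotAct ρ N hN k' (x : P ⧸ N)) = _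
        rw [hk'', ← hk0]
        show (quotAct ρ N hN k⁻¹ * quotAct ρ N hN k) (x : P ⧸ N) = _
        rw [← map_mul, inv_mul_cancel, map_one]; rfl
      exact hx1' (h.fpf_quot hN h1 h2)

end Cfsg.Agent.Lib.Helper27.Sz
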