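import Mathlib
import Cfsg.Agent.Lib.Helper27.SzAct

/-!
# Suzuki 2-groups: an equivariant alternating form on the natural module vanishes
-/

set_option autoImplicit false

namespace Cfsg.Agent.Lib.Helper27.Sz

open scoped commutatorElement

variable {K : Type*} {P : Type*} [Group K] [Group P] {ρ : K →* MulAut P}

theorem comm_mul_left_of_central {x x' y : P} (h : ⁅x', y⁆ ∈ Subgroup.center P) :
    ⁅x * x', y⁆ = ⁅x, y⁆ * ⁅x', y⁆ := by
  have h1 : ⁅x * x', y⁆ = x * ⁅x', y⁆ * x⁻¹ * ⁅x, y⁆ := by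
    simp only [commutatorElement_def]; group
  have h2 : x * ⁅x', y⁆ = ⁅x', y⁆ * x := Subgroup.mem_center_iff.mp h x
  have h3 : ⁅x, y⁆ * ⁅x', y⁆ = ⁅x', y⁆ * ⁅x, y⁆ := Subgroup.mem_center_iff.mp h _
  rw [h1, h2, h3]; group

theorem comm_mul_right_of_central {x y y' : P} (h : ⁅x, y'⁆ ∈ Subgroup.center P) :
    ⁅x, y * y'⁆ = ⁅x, y⁆ * ⁅x, y'⁆ := by
  have h1 : ⁅x, y * y'⁆ = ⁅x, y⁆ * (y * ⁅x, y'⁆ * y⁻¹) := by
    simp only [commutatorElement_def]; group
  have h2 : y * ⁅x, y'⁆ = ⁅x, y'⁆ * y := Subgroup.mem_center_iff.mp h y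
  rw [h1, h2]; group

theorem comm_mul_central_left {x z y : P} (hz : z ∈ Subgroup.center P) : ⁅x * z, y⁆ = ⁅x, y⁆ := by
  have h1 : y * z = z * y := Subgroup.mem_center_iff.mp hz y
  have h2 : z * y * z⁻¹ = y := by rw [← h1]; group
  calc ⁅x * z, y⁆ = x * (z * y * z⁻¹) * x⁻¹ * y⁻¹ := by simp only [commutatorElement_def]; group
    _ = ⁅x, y⁆ := by rw [h2]; simp only [commutatorElement_def]

theorem comm_mul_central_right {x y z : P} (hz : z ∈ Subgroup.center P) : ⁅x, y * z⁆ = ⁅x, y⁆ := by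
  have h1 : x * z = z * x := Subgroup.mem_center_iff.mp hz x
  have h2 : z * x⁻¹ * z⁻¹ = x⁻¹ := by
    have : x⁻¹ * z = z * x⁻¹ := Subgroup.mem_center_iff.mp hz x⁻¹
    rw [← this]; group
  calc ⁅x, y * z⁆ = x * y * (z * x⁻¹ * z⁻¹) * y⁻¹ := by simp only [commutatorElement_def]; group
    _ = ⁅x, y⁆ := by rw [h2]; simp only [commutatorElement_def]

theorem comm_central_left {z y : P} (hz : z ∈ Subgroup.center P) : ⁅z, y⁆ = 1 := by
  rw [commutatorElement_eq_one_iff_commute]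
  exact (Subgroup.mem_center_iff.mp hz y).symm

/-- the key lemma: an equivariant homomorphism onto the involutions with central kernel, with
all commutators involutions, forces commutativity -/
theorem Suz.abelian_of_hom (h : Suz ρ) (φ : P →* P) (hφV : ∀ x, φ x ∈ Vs P)
    (hφK : ∀ k x, φ (ρ k x) = ρ k (φ x)) (hker : ∀ x, φ x = 1 → x ∈ Subgroup.center P)
    (hcomm : ∀ x y : P, ⁅x, y⁆ ∈ Vs P) : ∀ x y : P, x * y = y * x := by
  have hcen : ∀ x y : P, ⁅x, y⁆ ∈ Subgroup.center P := fun x y => (hcomm x y).1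
  -- step 1
  have step1 : ∀ c d : K, c ≠ d → ∀ x y : P, ⁅ρ c x, ρ d y⁆ = ⁅ρ d x, ρ c y⁆ := by
    intro c d hcd x y
    obtain ⟨e, he⟩ := h.exists_sum hcd
    have hz : ∀ t : P, (ρ e t)⁻¹ * (ρ c t * ρ d t) ∈ Subgroup.center P := by
      intro t
      apply hker
      rw [map_mul, map_inv, map_mul, hφK, hφK, hφK, he _ (hφV t)]
      group
    have hx : ρ c x * ρ d x = ρ e x * ((ρ e x)⁻¹ * (ρ c x * ρ d x)) := by group
    have hy : ρ c y * ρ d y = ρ e y * ((ρ e y)⁻¹ * (ρ c y * ρ d y)) := by group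
    have h1 : ⁅ρ c x * ρ d x, ρ c y * ρ d y⁆ = ρ c ⁅x, y⁆ * ρ d ⁅x, y⁆ := by
      rw [hx, hy, comm_mul_central_left (hz x), comm_mul_central_right (hz y),
        ← map_commutatorElement, he _ (hcomm x y)]
    have h2 : ⁅ρ c x * ρ d x, ρ c y * ρ d y⁆ =
        ρ c ⁅x, y⁆ * (⁅ρ c x, ρ d y⁆ * ⁅ρ d x, ρ c y⁆) * ρ d ⁅x, y⁆ := by
      rw [comm_mul_left_of_central (hcen _ _), comm_mul_right_of_central (hcen _ _),
        comm_mul_right_of_central (hcen _ _), map_commutatorElement, map_commutatorElement]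
      group
    rw [h2] at h1
    have h3 : ⁅ρ c x, ρ d y⁆ * ⁅ρ d x, ρ c y⁆ = 1 := by
      have := mul_right_cancel h1
      have h4 : ρ c ⁅x, y⁆ * (⁅ρ c x, ρ d y⁆ * ⁅ρ d x, ρ c y⁆) = ρ c ⁅x, y⁆ * 1 := by
        rw [this, mul_one]
      exact mul_left_cancel h4
    have h5 : ⁅ρ c x, ρ d y⁆ = (⁅ρ d x, ρ c y⁆)⁻¹ := eq_inv_of_mul_eq_one_left h3
    rw [h5, inv_eq_of_mem_Vs (hcomm _ _)]
  -- step 2
  have step2 : ∀ c : K, ∀ x y : P, ⁅ρ c x, y⁆ = ⁅x, ρ c y⁆ := by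
    intro c x y
    by_cases hc : c = 1
    · rw [hc, map_one]; rfl
    · have := step1 c 1 hc x y
      rwa [map_one] at this
  intro x y
  have key : ⁅x, y⁆ = 1 := by
    by_cases hx : φ x = 1
    · exact comm_central_left (hker x hx)
    by_cases hy : φ y = 1
    · have := comm_central_left (y := x) (hker y hy)
      rw [← commutatorElement_inv, this, inv_one]
    obtain ⟨a, ha, -⟩ := h.reg (φ x) (φ y) hx (hφV x).2 hy (hφV y).2
    have hz : (ρ a x)⁻¹ * y ∈ Subgroup.center P := by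
      apply hker
      rw [map_mul, map_inv, hφK, ha]
      group
    have hy' : y = ρ a x * ((ρ a x)⁻¹ * y) := by group
    obtain ⟨s, hs⟩ := h.exists_sq a
    have h1 : ρ a x = ρ s (ρ s x) := by
      rw [← hs, map_mul]; rfl
    rw [hy', comm_mul_central_right hz, h1, ← step2 s x (ρ s x)]
    exact commutatorElement_self _
  rw [commutatorElement_eq_one_iff_commute] at key
  exact key

end Cfsg.Agent.Lib.Helper27.Sz
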