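import Mathlib
import Cfsg.Agent.Lib.Helper27.SzSlick

/-!
# Suzuki 2-groups: the order bound from a quadratic character sum
-/

set_option autoImplicit false

namespace Cfsg.Agent.Lib.Helper27.Sz

open scoped commutatorElement

/-- the sum of a `±1`-valued multiplicative function taking the value `-1` vanishes -/
theorem sum_eq_zero_of_mul {G : Type*} [Group G] [Fintype G] (f : G → ℤ)
    (hmul : ∀ x y, f (x * y) = f x * f y) (x₀ : G) (hx₀ : f x₀ = -1) : ∑ x, f x = 0 := by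
  have h1 : ∑ x, f x = ∑ x, f (x₀ * x) := (Equiv.sum_comp (Equiv.mulLeft x₀) f).symm
  have h2 : ∑ x, f (x₀ * x) = - ∑ x, f x := by
    rw [← Finset.sum_neg_distrib]
    apply Finset.sum_congr rfl
    intro x _
    rw [hmul, hx₀]; ring
  rw [h2] at h1
  linarith

theorem odd_pow_uniq {A B s t : ℕ} (hA : Odd A) (hB : Odd B) (h : A ^ 2 * 2 ^ s = B ^ 2 * 2 ^ t) :
    A = B := by
  have key : ∀ {A B s t : ℕ}, Odd A → s ≤ t → A ^ 2 * 2 ^ s = B ^ 2 * 2 ^ t → A = B := by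
    intro A B s t hA hst h
    obtain ⟨d, rfl⟩ := Nat.exists_eq_add_of_le hst
    have h' : A ^ 2 * 2 ^ s = B ^ 2 * 2 ^ d * 2 ^ s := by rw [h, pow_add]; ring
    have h1 : A ^ 2 = B ^ 2 * 2 ^ d := Nat.eq_of_mul_eq_mul_right (Nat.two_pow_pos s) h'
    have hd : d = 0 := by
      by_contra hd
      have h2 : 2 ∣ A ^ 2 := by
        rw [h1]; exact Dvd.dvd.mul_left (dvd_pow_self 2 hd) _
      have h3 : 2 ∣ A := Nat.Prime.dvd_of_dvd_pow Nat.prime_two h2
      rcases hA with ⟨m, rfl⟩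
      omega
    rw [hd, pow_zero, mul_one] at h1
    exact Nat.pow_left_injective (by norm_num : 2 ≠ 0) h1
  rcases le_total s t with hst | hts
  · exact key hA hst h
  · exact (key hB hts h.symm).symm

theorem odd_two_pow_sub_one {m : ℕ} (hm : 1 ≤ m) : Odd (2 ^ m - 1) := by
  obtain ⟨d, rfl⟩ := Nat.exists_eq_add_of_le hm
  rw [pow_add, pow_one]
  refine ⟨2 ^ d - 1, ?_⟩
  have : 1 ≤ 2 ^ d := Nat.one_le_two_pow
  omega

theorem two_pow_sub_one_inj {m n : ℕ} (h : 2 ^ m - 1 = 2 ^ n - 1) : m = n := by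
  have h1 : 1 ≤ 2 ^ m := Nat.one_le_two_pow
  have h2 : 1 ≤ 2 ^ n := Nat.one_le_two_pow
  have : 2 ^ m = 2 ^ n := by omega
  exact Nat.pow_right_injective (le_refl 2) this

/-- the arithmetic core -/
theorem arith_key {n α r : ℕ} (hn : 1 ≤ n) (hα : n < α) (S : ℤ)
    (h1 : ((2 : ℤ) ^ n - 1) * S = (2 ^ n) ^ 2 - 2 ^ α)
    (h2 : S ^ 2 = 0 ∨ S ^ 2 = 2 ^ α * 2 ^ r) : α = 2 * n ∨ α = 3 * n := by
  have hsq : ((2 : ℤ) ^ n - 1) ^ 2 * S ^ 2 = ((2 ^ n) ^ 2 - 2 ^ α) ^ 2 := by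
    rw [← h1]; ring
  have hA : Odd (2 ^ n - 1) := odd_two_pow_sub_one hn
  have hAc : ((2 ^ n - 1 : ℕ) : ℤ) = (2 : ℤ) ^ n - 1 := by
    have : 1 ≤ 2 ^ n := Nat.one_le_two_pow
    push_cast [Nat.cast_sub this]; ring
  rcases le_or_gt α (2 * n) with hle | hgt
  · -- `α ≤ 2n`
    obtain ⟨m, hm⟩ := Nat.exists_eq_add_of_le hle
    have hq : ((2 : ℤ) ^ n) ^ 2 - 2 ^ α = 2 ^ α * (2 ^ m - 1) := by
      have : ((2 : ℤ) ^ n) ^ 2 = 2 ^ α * 2 ^ m := by
        rw [← pow_mul, ← pow_add, ← hm]; ring_nf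
      rw [this]; ring
    rcases Nat.eq_zero_or_pos m with hm0 | hmpos
    · left; omega
    exfalso
    have hB : Odd (2 ^ m - 1) := odd_two_pow_sub_one hmpos
    have hBc : ((2 ^ m - 1 : ℕ) : ℤ) = (2 : ℤ) ^ m - 1 := by
      have : 1 ≤ 2 ^ m := Nat.one_le_two_pow
      push_cast [Nat.cast_sub this]; ring
    rcases h2 with h0 | h0
    · rw [h0, mul_zero, hq] at hsq
      have h3 : (2 : ℤ) ^ α * (2 ^ m - 1) = 0 := by
        have := hsq.symm
        exact pow_eq_zero_iff (by norm_num) |>.mp this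
      have h4 : (2 : ℤ) ^ m - 1 = 0 := by
        rcases mul_eq_zero.mp h3 with h | h
        · exact absurd h (by positivity)
        · exact h
      rw [← hBc] at h4
      have : 2 ^ m - 1 = 0 := by exact_mod_cast h4
      rcases hB with ⟨j, hj⟩
      omega
    · rw [h0, hq] at hsq
      have h3 : (2 ^ n - 1) ^ 2 * 2 ^ (α + r) = (2 ^ m - 1) ^ 2 * 2 ^ (2 * α) := by
        have : (((2 ^ n - 1) ^ 2 * 2 ^ (α + r) : ℕ) : ℤ) =
            (((2 ^ m - 1) ^ 2 * 2 ^ (2 * α) : ℕ) : ℤ) := by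
          push_cast
          rw [hAc, hBc, pow_add]
          rw [show (2 : ℤ) ^ (2 * α) = (2 ^ α) ^ 2 by rw [← pow_mul]; ring_nf]
          linarith [hsq]
        exact_mod_cast this
      have h4 := odd_pow_uniq hA hB h3
      have h5 := two_pow_sub_one_inj h4
      omega
  · -- `2n < α`
    obtain ⟨m, hm⟩ := Nat.exists_eq_add_of_lt hgt
    have hmpos : 1 ≤ m + 1 := by omega
    have hq : ((2 : ℤ) ^ n) ^ 2 - 2 ^ α = - (2 ^ (2 * n) * (2 ^ (m + 1) - 1)) := by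
      have : (2 : ℤ) ^ α = 2 ^ (2 * n) * 2 ^ (m + 1) := by
        rw [← pow_add]; congr 1
      rw [this, ← pow_mul]; ring
    have hB : Odd (2 ^ (m + 1) - 1) := odd_two_pow_sub_one hmpos
    have hBc : ((2 ^ (m + 1) - 1 : ℕ) : ℤ) = (2 : ℤ) ^ (m + 1) - 1 := by
      have : 1 ≤ 2 ^ (m + 1) := Nat.one_le_two_pow
      push_cast [Nat.cast_sub this]; ring
    rcases h2 with h0 | h0
    · exfalso
      rw [h0, mul_zero, hq] at hsq
      have h3 : (2 : ℤ) ^ (2 * n) * (2 ^ (m + 1) - 1) = 0 := by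
        have := hsq.symm
        have h' := pow_eq_zero_iff (by norm_num) |>.mp this
        linarith
      have h4 : (2 : ℤ) ^ (m + 1) - 1 = 0 := by
        rcases mul_eq_zero.mp h3 with h | h
        · exact absurd h (by positivity)
        · exact h
      rw [← hBc] at h4
      have : 2 ^ (m + 1) - 1 = 0 := by exact_mod_cast h4
      rcases hB with ⟨j, hj⟩
      omega
    · right
      rw [h0, hq] at hsq
      have h3 : (2 ^ n - 1) ^ 2 * 2 ^ (α + r) = (2 ^ (m + 1) - 1) ^ 2 * 2 ^ (4 * n) := by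
        have : (((2 ^ n - 1) ^ 2 * 2 ^ (α + r) : ℕ) : ℤ) =
            (((2 ^ (m + 1) - 1) ^ 2 * 2 ^ (4 * n) : ℕ) : ℤ) := by
          push_cast
          rw [hAc, hBc, pow_add]
          rw [show (2 : ℤ) ^ (4 * n) = (2 ^ (2 * n)) ^ 2 by rw [← pow_mul]; ring_nf]
          linarith [hsq]
        exact_mod_cast this
      have h4 := odd_pow_uniq hA hB h3
      have h5 := two_pow_sub_one_inj h4
      omega

end Cfsg.Agent.Lib.Helper27.Sz
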