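import Mathlib
import Cfsg.Agent.Lib.Helper27.SzGauss

/-!
# Suzuki 2-groups: if all squares are involutions then the order is `q²` or `q³`
-/

set_option autoImplicit false

namespace Cfsg.Agent.Lib.Helper27.Sz

open scoped commutatorElement

variable {K : Type*} {P : Type*} [Group K] [Group P] {ρ : K →* MulAut P}

theorem sq_mul_of_central {x u : P} (hx : x * x ∈ Subgroup.center P) :
    x * u * (x * u) = ⁅x, u⁆ * (x * x) * (u * u) := by
  have h1 : u⁻¹ * (x * x) = (x * x) * u⁻¹ := Subgroup.mem_center_iff.mp hx u⁻¹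
  calc x * u * (x * u) = x * u * x⁻¹ * ((x * x) * u⁻¹) * (u * u) := by group
    _ = x * u * x⁻¹ * (u⁻¹ * (x * x)) * (u * u) := by rw [h1]
    _ = ⁅x, u⁆ * (x * x) * (u * u) := by simp only [commutatorElement_def]; group

theorem comm_mem_Vs_of_sq (hsq : ∀ x : P, x * x ∈ Vs P) (x y : P) : ⁅x, y⁆ ∈ Vs P := by
  have h1 := sq_mul_of_central (u := y) (hsq x).1
  have h2 : ⁅x, y⁆ = x * y * (x * y) * ((x * x) * (y * y))⁻¹ := by
    rw [h1]; group
  rw [h2]
  exact (Vs P).mul_mem (hsq _) ((Vs P).inv_mem ((Vs P).mul_mem (hsq _) (hsq _)))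

/-- the order bound -/
theorem Suz.card_of_sq_mem (h : Suz ρ) (hsq : ∀ x : P, x * x ∈ Vs P) (hne : ∃ x : P, x ∉ Vs P) :
    Nat.card P = (Nat.card K + 1) ^ 2 ∨ Nat.card P = (Nat.card K + 1) ^ 3 := by
  classical
  haveI := h.fin
  haveI := h.finite_K
  haveI : Fintype P := Fintype.ofFinite P
  haveI : Fintype K := Fintype.ofFinite K
  haveI : Fact (Nat.Prime 2) := ⟨Nat.prime_two⟩
  obtain ⟨n, hn2, hn⟩ := h.exists_card_Vs
  have hq : Nat.card K + 1 = 2 ^ n := by rw [← h.card_Vs, hn]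
  obtain ⟨α, hα⟩ := h.pgroup.exists_card_eq
  have hnα : n < α := by
    have h1 : Nat.card (Vs P) < Nat.card P := by
      have hle : Nat.card (Vs P) ≤ Nat.card P := Subgroup.card_le_card_group _
      rcases lt_or_eq_of_le hle with hlt | heq
      · exact hlt
      · exfalso
        obtain ⟨x, hx⟩ := hne
        have := Subgroup.eq_top_of_card_eq _ heq
        exact hx (this ▸ Subgroup.mem_top x)
    rw [hn, hα] at h1
    exact (Nat.pow_lt_pow_iff_right (le_refl 2)).mp h1
  -- a subgroup of index two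
  have hdvd : 2 ^ (n - 1) ∣ Nat.card (Vs P) := by
    rw [hn]; exact pow_dvd_pow 2 (Nat.sub_le n 1)
  obtain ⟨H', hH'⟩ := Sylow.exists_subgroup_card_pow_prime 2 hdvd
  have hidx : H'.index = 2 := by
    have h1 := H'.card_mul_index
    rw [hH', hn] at h1
    have h2 : 2 ^ n = 2 ^ (n - 1) * 2 := by
      rw [← pow_succ]; congr 1; omega
    rw [h2] at h1
    exact Nat.eq_of_mul_eq_mul_left (Nat.two_pow_pos (n - 1)) h1
  have hcomm : ∀ x y : P, ⁅x, y⁆ ∈ Vs P := comm_mem_Vs_of_sq hsq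
  have hcen : ∀ x y : P, ⁅x, y⁆ ∈ Subgroup.center P := fun x y => (hcomm x y).1
  -- the character
  let χ : P → ℤ := fun x => if hx : x ∈ Vs P then (if (⟨x, hx⟩ : Vs P) ∈ H' then 1 else -1) else 1
  have χV : ∀ v (hv : v ∈ Vs P), χ v = if (⟨v, hv⟩ : Vs P) ∈ H' then 1 else -1 := by
    intro v hv
    show (if hx : v ∈ Vs P then (if (⟨v, hx⟩ : Vs P) ∈ H' then (1 : ℤ) else -1) else 1) = _
    rw [dif_pos hv]
  have χmul : ∀ v w, v ∈ Vs P → w ∈ Vs P → χ (v * w) = χ v * χ w := by
    intro v w hv hw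
    rw [χV v hv, χV w hw, χV (v * w) ((Vs P).mul_mem hv hw)]
    have := Subgroup.mul_mem_iff_of_index_two hidx (a := (⟨v, hv⟩ : Vs P)) (b := ⟨w, hw⟩)
    have e : (⟨v * w, (Vs P).mul_mem hv hw⟩ : Vs P) = ⟨v, hv⟩ * ⟨w, hw⟩ := rfl
    rw [e]
    by_cases h1 : (⟨v, hv⟩ : Vs P) ∈ H' <;> by_cases h2 : (⟨w, hw⟩ : Vs P) ∈ H'
    · have h3 : (⟨v, hv⟩ : Vs P) * ⟨w, hw⟩ ∈ H' := this.mpr (iff_of_true h1 h2)
      rw [if_pos h3, if_pos h1, if_pos h2]; norm_num
    · have h3 : ¬ (⟨v, hv⟩ : Vs P) * ⟨w, hw⟩ ∈ H' := fun hp => h2 ((this.mp hp).mp h1)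
      rw [if_neg h3, if_pos h1, if_neg h2]; norm_num
    · have h3 : ¬ (⟨v, hv⟩ : Vs P) * ⟨w, hw⟩ ∈ H' := fun hp => h1 ((this.mp hp).mpr h2)
      rw [if_neg h3, if_neg h1, if_pos h2]; norm_num
    · have h3 : (⟨v, hv⟩ : Vs P) * ⟨w, hw⟩ ∈ H' := this.mpr (iff_of_false h1 h2)
      rw [if_pos h3, if_neg h1, if_neg h2]; norm_num
  have χone : χ 1 = 1 := by
    rw [χV 1 (Vs P).one_mem, if_pos]
    exact H'.one_mem
  have χsq : ∀ v, χ v * χ v = 1 := by
    intro v
    by_cases hv : v ∈ Vs P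
    · rw [χV v hv]; split_ifs <;> norm_num
    · show (if hx : v ∈ Vs P then (if (⟨v, hx⟩ : Vs P) ∈ H' then (1 : ℤ) else -1) else 1) *
        (if hx : v ∈ Vs P then (if (⟨v, hx⟩ : Vs P) ∈ H' then (1 : ℤ) else -1) else 1) = 1
      rw [dif_neg hv]; norm_num
  have χpm : ∀ v, χ v = 1 ∨ χ v = -1 := by
    intro v
    by_cases hv : v ∈ Vs P
    · rw [χV v hv]; split_ifs <;> simp
    · left
      show (if hx : v ∈ Vs P then (if (⟨v, hx⟩ : Vs P) ∈ H' then (1 : ℤ) else -1) else 1) = 1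
      rw [dif_neg hv]
  -- an element where the character is `-1`
  obtain ⟨v₀, hv₀⟩ : ∃ v₀ : Vs P, v₀ ∉ H' := by
    by_contra hall
    push Not at hall
    have : H' = ⊤ := by
      ext v; exact ⟨fun _ => Subgroup.mem_top _, fun _ => hall v⟩
    rw [this, Subgroup.index_top] at hidx
    omega
  have hχv₀ : χ (v₀ : P) = -1 := by
    rw [χV _ v₀.2, if_neg hv₀]
  -- the sum over the involutions vanishes
  have hsumV : ∑ w : Vs P, χ (w : P) = 0 :=
    sum_eq_zero_of_mul (fun w : Vs P => χ (w : P)) (fun a b => χmul _ _ a.2 b.2) v₀ hχv₀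
  -- the orbit sums
  have horb : ∀ v : P, v ∈ Vs P → v ≠ 1 → ∑ k : K, χ (ρ k v) = -1 := by
    intro v hv hv1
    have e := h.optEquiv v hv1 hv.2
    have h1 : ∑ w : Vs P, χ (w : P) = ∑ o : Option K, χ ((h.optEquiv v hv1 hv.2 o : Vs P) : P) :=
      (Equiv.sum_comp (h.optEquiv v hv1 hv.2) (fun w : Vs P => χ (w : P))).symm
    rw [Fintype.sum_option] at h1
    have h2 : ((h.optEquiv v hv1 hv.2 none : Vs P) : P) = 1 := rfl
    have h3 : ∀ k : K, ((h.optEquiv v hv1 hv.2 (some k) : Vs P) : P) = ρ k v := fun k => rfl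
    rw [h2, χone, hsumV] at h1
    simp only [h3] at h1
    linarith
  let S : ℤ := ∑ x : P, χ (x * x)
  -- first relation
  have hrel1 : ((2 : ℤ) ^ n - 1) * S = (2 ^ n) ^ 2 - 2 ^ α := by
    have hK : ∀ k : K, ∑ x : P, χ (ρ k (x * x)) = S := by
      intro k
      have : ∑ x : P, χ (ρ k (x * x)) = ∑ x : P, χ ((ρ k x) * (ρ k x)) := by
        apply Finset.sum_congr rfl; intro x _; rw [map_mul]
      rw [this]
      exact Equiv.sum_comp (ρ k).toEquiv (fun x : P => χ (x * x))
    have h1 : ∑ k : K, ∑ x : P, χ (ρ k (x * x)) = (Nat.card K : ℤ) * S := by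
      rw [Finset.sum_congr rfl (fun k _ => hK k), Finset.sum_const, Finset.card_univ,
        Nat.card_eq_fintype_card]
      simp
    have h2 : ∑ k : K, ∑ x : P, χ (ρ k (x * x)) =
        ∑ x : P, (if x * x = 1 then (Nat.card K : ℤ) else -1) := by
      rw [Finset.sum_comm]
      apply Finset.sum_congr rfl
      intro x _
      by_cases hx : x * x = 1
      · rw [if_pos hx, hx]
        simp only [map_one, χone, Finset.sum_const, Finset.card_univ, Nat.card_eq_fintype_card]
        simp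
      · rw [if_neg hx]
        exact horb _ (hsq x) hx
    have h3 : ∑ x : P, (if x * x = 1 then (Nat.card K : ℤ) else -1) =
        (Nat.card K : ℤ) * (Nat.card (Vs P) : ℤ) - ((Nat.card P : ℤ) - (Nat.card (Vs P) : ℤ)) := by
      rw [Finset.sum_ite, Finset.sum_const, Finset.sum_const]
      have hc1 : (Finset.univ.filter (fun x : P => x * x = 1)).card = Nat.card (Vs P) := by
        rw [Nat.card_eq_fintype_card, Fintype.card_subtype]
        congr 1
        ext x
        simp only [Finset.mem_filter, Finset.mem_univ, true_and]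
        exact h.mem_Vs_iff.symm
      have hc2 : (Finset.univ.filter (fun x : P => ¬ x * x = 1)).card =
          Nat.card P - Nat.card (Vs P) := by
        have := Finset.card_filter_add_card_filter_not (s := (Finset.univ : Finset P))
          (fun x : P => x * x = 1)
        rw [hc1, Finset.card_univ, ← Nat.card_eq_fintype_card] at this
        omega
      rw [hc1, hc2]
      have hle : Nat.card (Vs P) ≤ Nat.card P := Subgroup.card_le_card_group _
      simp only [nsmul_eq_mul, smul_eq_mul]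
      rw [Nat.cast_sub hle]
      ring
    have hKc : (Nat.card K : ℤ) = 2 ^ n - 1 := by
      have : (Nat.card K : ℤ) + 1 = 2 ^ n := by exact_mod_cast hq
      linarith
    rw [h1, h3, hn, hα, hKc] at h2
    push_cast at h2
    linarith
  -- second relation
  have hψmul : ∀ u x x' : P, χ ⁅x * x', u⁆ = χ ⁅x, u⁆ * χ ⁅x', u⁆ := by
    intro u x x'
    rw [comm_mul_left_of_central (hcen _ _), χmul _ _ (hcomm _ _) (hcomm _ _)]
  let R : Subgroup P :=
    { carrier := {u | ∀ x : P, χ ⁅x, u⁆ = 1}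
      one_mem' := by
        intro x
        have : ⁅x, (1 : P)⁆ = 1 := by simp [commutatorElement_def]
        rw [this, χone]
      mul_mem' := by
        intro a b ha hb x
        rw [comm_mul_right_of_central (hcen _ _), χmul _ _ (hcomm _ _) (hcomm _ _), ha x, hb x,
          mul_one]
      inv_mem' := by
        intro a ha x
        have h1 : ⁅x, a * a⁻¹⁆ = ⁅x, a⁆ * ⁅x, a⁻¹⁆ := comm_mul_right_of_central (hcen _ _)
        have h2 : ⁅x, a * a⁻¹⁆ = 1 := by simp [commutatorElement_def]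
        have h3 := congrArg χ h1
        rw [h2, χone, χmul _ _ (hcomm _ _) (hcomm _ _), ha x, one_mul] at h3
        exact h3.symm }
  have hinner : ∀ u : P, ∑ x : P, χ ⁅x, u⁆ = if u ∈ R then (Nat.card P : ℤ) else 0 := by
    intro u
    by_cases hu : u ∈ R
    · rw [if_pos hu]
      rw [Finset.sum_congr rfl (fun x _ => hu x), Finset.sum_const, Finset.card_univ,
        Nat.card_eq_fintype_card]
      simp
    · rw [if_neg hu]
      have : ∃ x : P, χ ⁅x, u⁆ ≠ 1 := by
        by_contra hall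
        push Not at hall
        exact hu hall
      obtain ⟨x₀, hx₀⟩ := this
      have hx₀' : χ ⁅x₀, u⁆ = -1 := by
        rcases χpm ⁅x₀, u⁆ with h1 | h1
        · exact absurd h1 hx₀
        · exact h1
      exact sum_eq_zero_of_mul (fun x : P => χ ⁅x, u⁆) (fun a b => hψmul u a b) x₀ hx₀'
  have hS2 : S ^ 2 = (Nat.card P : ℤ) * ∑ u : R, χ ((u : P) * (u : P)) := by
    have h1 : S ^ 2 = ∑ x : P, ∑ u : P, χ (x * x) * χ (x * u * (x * u)) := by
      rw [pow_two]
      show (∑ x : P, χ (x * x)) * (∑ y : P, χ (y * y)) = _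
      rw [Finset.sum_mul]
      apply Finset.sum_congr rfl
      intro x _
      rw [Finset.mul_sum]
      exact (Equiv.sum_comp (Equiv.mulLeft x) (fun y : P => χ (x * x) * χ (y * y))).symm
    have h2 : ∀ x u : P, χ (x * x) * χ (x * u * (x * u)) = χ (u * u) * χ ⁅x, u⁆ := by
      intro x u
      rw [sq_mul_of_central (hsq x).1, χmul _ _ ((Vs P).mul_mem (hcomm _ _) (hsq _)) (hsq _),
        χmul _ _ (hcomm _ _) (hsq _)]
      have := χsq (x * x)
      calc χ (x * x) * (χ ⁅x, u⁆ * χ (x * x) * χ (u * u))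
          = (χ (x * x) * χ (x * x)) * (χ (u * u) * χ ⁅x, u⁆) := by ring
        _ = χ (u * u) * χ ⁅x, u⁆ := by rw [this, one_mul]
    rw [h1, Finset.sum_comm]
    have h3 : ∑ u : P, ∑ x : P, χ (x * x) * χ (x * u * (x * u)) =
        ∑ u : P, (if u ∈ R then (Nat.card P : ℤ) * χ (u * u) else 0) := by
      apply Finset.sum_congr rfl
      intro u _
      rw [Finset.sum_congr rfl (fun x _ => h2 x u), ← Finset.mul_sum, hinner u]
      split_ifs <;> ring
    rw [h3, ← Finset.sum_filter, Finset.mul_sum]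
    rw [← Finset.sum_subtype (Finset.univ.filter (fun u : P => u ∈ R)) (p := fun u => u ∈ R)
      (by intro x; simp) (fun u => (Nat.card P : ℤ) * χ (u * u))]
  have hT : (∑ u : R, χ ((u : P) * (u : P))) = 0 ∨
      (∑ u : R, χ ((u : P) * (u : P))) = (Nat.card R : ℤ) := by
    have hmulR : ∀ a b : R, χ (((a * b : R) : P) * ((a * b : R) : P)) =
        χ ((a : P) * a) * χ ((b : P) * b) := by
      intro a b
      show χ ((a : P) * b * ((a : P) * b)) = _
      rw [sq_mul_of_central (hsq _).1, χmul _ _ ((Vs P).mul_mem (hcomm _ _) (hsq _)) (hsq _),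
        χmul _ _ (hcomm _ _) (hsq _), b.2 (a : P), one_mul]
    by_cases hall : ∀ u : R, χ ((u : P) * (u : P)) = 1
    · right
      rw [Finset.sum_congr rfl (fun u _ => hall u), Finset.sum_const, Finset.card_univ,
        Nat.card_eq_fintype_card]
      simp
    · left
      push Not at hall
      obtain ⟨u₀, hu₀⟩ := hall
      have hu₀' : χ ((u₀ : P) * (u₀ : P)) = -1 := by
        rcases χpm ((u₀ : P) * (u₀ : P)) with h1 | h1
        · exact absurd h1 hu₀
        · exact h1
      exact sum_eq_zero_of_mul (fun u : R => χ ((u : P) * (u : P))) hmulR u₀ hu₀'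
  obtain ⟨r, hr⟩ := (h.pgroup.to_subgroup R).exists_card_eq
  have hrel2 : S ^ 2 = 0 ∨ S ^ 2 = 2 ^ α * 2 ^ r := by
    rcases hT with h0 | h0
    · left; rw [hS2, h0, mul_zero]
    · right; rw [hS2, h0, hα, hr]; push_cast; ring
  rcases arith_key (by omega) hnα S hrel1 hrel2 with h1 | h1
  · left; rw [hα, hq, h1, pow_mul']
  · right; rw [hα, hq, h1, pow_mul']

end Cfsg.Agent.Lib.Helper27.Sz
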