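import Mathlib
import Cfsg.Agent.Lib.Helper27.SzBound

/-!
# Suzuki 2-groups: preliminaries for the main induction
-/

set_option autoImplicit false

namespace Cfsg.Agent.Lib.Helper27.Sz

open scoped commutatorElement

variable {K : Type*} {P : Type*} [Group K] [Group P] {ρ : K →* MulAut P}

instance Vs_normal : (Vs P).Normal :=
  ⟨fun n hn g => by
    have : g * n * g⁻¹ = n := by
      rw [comm_of_mem_Vs hn g, mul_assoc, mul_inv_cancel, mul_one]
    rw [this]; exact hn⟩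

/-- two commuting elements with the same square differ by an involution -/
theorem Suz.mul_inv_mem_Vs (h : Suz ρ) {y n : P} (hc : y * n = n * y) (hsq : y * y = n * n) :
    y * n⁻¹ ∈ Vs P := by
  rw [h.mem_Vs_iff]
  have hc' : n⁻¹ * y = y * n⁻¹ := by
    have h1 : n⁻¹ * (y * n) * n⁻¹ = n⁻¹ * (n * y) * n⁻¹ := by rw [hc]
    have h2 : n⁻¹ * (y * n) * n⁻¹ = n⁻¹ * y := by group
    have h3 : n⁻¹ * (n * y) * n⁻¹ = y * n⁻¹ := by group
    rw [← h2, h1, h3]
  calc y * n⁻¹ * (y * n⁻¹) = y * (n⁻¹ * y) * n⁻¹ := by group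
    _ = y * (y * n⁻¹) * n⁻¹ := by rw [hc']
    _ = (y * y) * (n * n)⁻¹ := by group
    _ = 1 := by rw [hsq, mul_inv_cancel]

/-- an invariant set of involutions containing a nonidentity element contains all involutions -/
theorem Suz.Vs_subset (h : Suz ρ) {S : Set P} (hS : ∀ k : K, ∀ x ∈ S, ρ k x ∈ S)
    (h1 : (1 : P) ∈ S) {v₀ : P} (hv₀ : v₀ ∈ S) (hv₀V : v₀ ∈ Vs P) (hv₀1 : v₀ ≠ 1) :
    ∀ v ∈ Vs P, v ∈ S := by
  intro v hv
  by_cases hv1 : v = 1
  · rw [hv1]; exact h1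
  · obtain ⟨k, hk, -⟩ := h.reg v₀ v hv₀1 hv₀V.2 hv1 hv.2
    rw [← hk]
    exact hS k v₀ hv₀

/-- an element which is not an involution has a power whose square is a nonidentity involution -/
theorem Suz.exists_pow (h : Suz ρ) {x : P} (hx : x ∉ Vs P) :
    ∃ t : ℕ, x ^ t ∉ Vs P ∧ x ^ t * x ^ t ∈ Vs P := by
  haveI := h.fin
  have hex : ∃ j : ℕ, x ^ (2 ^ j) = 1 := by
    obtain ⟨j, hj⟩ := h.pgroup x
    exact ⟨j, hj⟩
  classical
  have hmin : ∀ {m : ℕ}, m < Nat.find hex → ¬ x ^ (2 ^ m) = 1 := fun hm => Nat.find_min hex hm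
  have hspec := Nat.find_spec hex
  set j := Nat.find hex with hj
  have hj2 : 2 ≤ j := by
    by_contra hlt
    have : j = 0 ∨ j = 1 := by omega
    rcases this with h0 | h0
    · rw [h0, pow_zero, pow_one] at hspec
      exact hx (hspec ▸ (Vs P).one_mem)
    · rw [h0, pow_one, pow_two] at hspec
      exact hx (h.mem_Vs_iff.mpr hspec)
  obtain ⟨i, hi⟩ : ∃ i, j = i + 2 := ⟨j - 2, by omega⟩
  refine ⟨2 ^ i, ?_, ?_⟩
  · intro hmem
    have h2 := h.mem_Vs_iff.mp hmem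
    have h3 : x ^ (2 ^ (i + 1)) = 1 := by
      rw [pow_succ, pow_mul, pow_two]; exact h2
    exact hmin (by omega : i + 1 < j) h3
  · rw [h.mem_Vs_iff]
    have h3 : x ^ 2 ^ i * x ^ 2 ^ i * (x ^ 2 ^ i * x ^ 2 ^ i) = x ^ (2 ^ (i + 2)) := by
      rw [← pow_add, ← pow_add]
      congr 1
      rw [pow_succ, pow_succ]; ring
    rw [h3, ← hi]
    exact hspec

/-- the involutions of an invariant subgroup -/
theorem Suz.mem_Vs_sub_iff (h : Suz ρ) {H : Subgroup P} (hH : Inv ρ H) (hne : H ≠ ⊥) (x : H) :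
    x ∈ Vs H ↔ (x : P) ∈ Vs P := by
  rw [(h.sub hH hne).mem_Vs_iff, h.mem_Vs_iff]
  constructor
  · intro hx; exact congrArg Subtype.val hx
  · intro hx; exact Subtype.ext hx

theorem ne_bot_of_Vs_lt (h : Suz ρ) {H : Subgroup P} (hV : Vs P < H) : H ≠ ⊥ := by
  rintro rfl
  obtain ⟨x, hx1, hx⟩ := h.exists_inv
  have : x ∈ (⊥ : Subgroup P) := hV.le (h.mem_Vs_iff.mpr hx)
  exact hx1 (Subgroup.mem_bot.mp this)

/-- the order of an invariant subgroup all of whose squares are involutions -/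
theorem Suz.card_sub (h : Suz ρ) {H : Subgroup P} (hH : Inv ρ H) (hV : Vs P < H)
    (hsq : ∀ x ∈ H, x * x ∈ Vs P) :
    Nat.card H = (Nat.card K + 1) ^ 2 ∨ Nat.card H = (Nat.card K + 1) ^ 3 := by
  have hne : H ≠ ⊥ := ne_bot_of_Vs_lt h hV
  apply (h.sub hH hne).card_of_sq_mem
  · intro x
    rw [h.mem_Vs_sub_iff hH hne]
    exact hsq x x.2
  · obtain ⟨x, hxH, hxV⟩ := SetLike.exists_of_lt hV
    refine ⟨⟨x, hxH⟩, ?_⟩
    rw [h.mem_Vs_sub_iff hH hne]
    exact hxV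

/-- the squares of all elements are central if all commutators are involutions -/
theorem sq_central_of_comm (hcomm : ∀ x y : P, ⁅x, y⁆ ∈ Vs P) (x : P) :
    x * x ∈ Subgroup.center P := by
  rw [Subgroup.mem_center_iff]
  intro g
  have h1 : ⁅x * x, g⁆ = ⁅x, g⁆ * ⁅x, g⁆ := comm_mul_left_of_central (hcomm x g).1
  rw [(hcomm x g).2] at h1
  have := commutatorElement_eq_one_iff_commute.mp h1
  exact this.eq.symm

/-- the square of a product when the commutator is central -/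
theorem sq_mul_of_comm_central {x u : P} (hc : ⁅u, x⁆ ∈ Subgroup.center P) :
    x * u * (x * u) = ⁅u, x⁆ * (x * x) * (u * u) := by
  have h1 : x * ⁅u, x⁆ = ⁅u, x⁆ * x := Subgroup.mem_center_iff.mp hc x
  calc x * u * (x * u) = x * (u * x * u⁻¹ * x⁻¹) * x * u * u := by group
    _ = x * ⁅u, x⁆ * x * u * u := by rw [commutatorElement_def]
    _ = ⁅u, x⁆ * x * x * u * u := by rw [h1]
    _ = ⁅u, x⁆ * (x * x) * (u * u) := by group

/-- the fourth power is multiplicative if commutators are involutions -/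
theorem pow_four_mul (hcomm : ∀ x y : P, ⁅x, y⁆ ∈ Vs P) (x y : P) :
    (x * y) ^ 4 = x ^ 4 * y ^ 4 := by
  have hx := sq_central_of_comm hcomm x
  have h1 : x * y * (x * y) = ⁅y, x⁆ * (x * x) * (y * y) :=
    sq_mul_of_comm_central (hcomm y x).1
  have h2 : (y * y) * (x * x) = (x * x) * (y * y) := Subgroup.mem_center_iff.mp hx (y * y)
  have h3 : ∀ t : P, t * ⁅y, x⁆ = ⁅y, x⁆ * t := Subgroup.mem_center_iff.mp (hcomm y x).1
  calc (x * y) ^ 4 = (x * y * (x * y)) * (x * y * (x * y)) := by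
        rw [pow_succ, pow_succ, pow_succ, pow_one]; group
    _ = ⁅y, x⁆ * (x * x) * (y * y) * (⁅y, x⁆ * (x * x) * (y * y)) := by rw [h1]
    _ = ⁅y, x⁆ * ((x * x) * (y * y) * ⁅y, x⁆) * ((x * x) * (y * y)) := by group
    _ = ⁅y, x⁆ * (⁅y, x⁆ * ((x * x) * (y * y))) * ((x * x) * (y * y)) := by rw [h3]
    _ = (⁅y, x⁆ * ⁅y, x⁆) * ((x * x) * ((y * y) * (x * x)) * (y * y)) := by group
    _ = (x * x) * ((x * x) * (y * y)) * (y * y) := by rw [(hcomm y x).2, one_mul, h2]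
    _ = x ^ 4 * y ^ 4 := by
        rw [pow_succ, pow_succ, pow_succ, pow_one, pow_succ, pow_succ, pow_succ, pow_one]; group

theorem pow_four_central (hcomm : ∀ x y : P, ⁅x, y⁆ ∈ Vs P) (x : P) :
    x ^ 4 ∈ Subgroup.center P := by
  have : x ^ 4 = (x * x) * (x * x) := by
    rw [pow_succ, pow_succ, pow_succ, pow_one]; group
  rw [this]
  exact Subgroup.mul_mem _ (sq_central_of_comm hcomm x) (sq_central_of_comm hcomm x)

/-- powers divisible by four are multiplicative -/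
theorem pow_four_mul' (hcomm : ∀ x y : P, ⁅x, y⁆ ∈ Vs P) (t : ℕ) (x y : P) :
    (x * y) ^ (4 * t) = x ^ (4 * t) * y ^ (4 * t) := by
  rw [pow_mul, pow_mul, pow_mul, pow_four_mul hcomm]
  have hc : Commute (x ^ 4) (y ^ 4) := by
    have := Subgroup.mem_center_iff.mp (pow_four_central hcomm x) (y ^ 4)
    exact this.symm
  exact hc.mul_pow t

end Cfsg.Agent.Lib.Helper27.Sz
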