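import Mathlib
import Cfsg.Agent.Lib.Helper27.SzGrp1

/-!
# Suzuki 2-groups: a minimal invariant subgroup above the involutions; the nonabelian case
-/

set_option autoImplicit false

namespace Cfsg.Agent.Lib.Helper27.Sz

open scoped commutatorElement

variable {K : Type*} {P : Type*} [Group K] [Group P] {ρ : K →* MulAut P}

/-- a nontrivial subgroup of a finite `2`-group contains an involution -/
theorem exists_inv_of_ne_bot {G : Type*} [Group G] [Finite G] (hG : IsPGroup 2 G)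
    {H : Subgroup G} (hne : H ≠ ⊥) : ∃ z ∈ H, z ≠ 1 ∧ z * z = 1 := by
  have hC : IsPGroup 2 H := hG.to_subgroup _
  obtain ⟨n, hn⟩ := hC.exists_card_eq
  have hn0 : n ≠ 0 := by
    rintro rfl
    rw [pow_zero] at hn
    exact hne (Subgroup.card_eq_one.mp hn)
  have hdvd : 2 ∣ Nat.card H := by rw [hn]; exact dvd_pow_self 2 hn0
  haveI : Fact (Nat.Prime 2) := ⟨Nat.prime_two⟩
  obtain ⟨z, hz⟩ := exists_prime_orderOf_dvd_card' 2 hdvd
  have hz1 : (z : G) ≠ 1 := by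
    intro h1
    have : z = 1 := Subtype.ext h1
    rw [this, orderOf_one] at hz
    omega
  have hz2 : (z : G) * z = 1 := by
    have := pow_orderOf_eq_one z
    rw [hz] at this
    have h2 : ((z ^ 2 : H) : G) = 1 := by rw [this]; rfl
    rwa [Subgroup.coe_pow, pow_two] at h2
  exact ⟨z, z.2, hz1, hz2⟩

/-- the centralizer of an invariant subgroup is invariant -/
theorem Inv.centralizer {N : Subgroup P} (hN : Inv ρ N) :
    Inv ρ (Subgroup.centralizer (N : Set P)) := by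
  intro k c hc
  rw [Subgroup.mem_centralizer_iff] at hc ⊢
  intro n hn
  have h1 : ρ k⁻¹ n ∈ N := hN k⁻¹ n hn
  have h2 := hc _ h1
  have h3 := congrArg (ρ k) h2
  rwa [map_mul, map_mul, Suz.apply_inv] at h3

/-- an element which is an involution and central modulo the involutions -/
theorem Suz.exists_second (h : Suz ρ) (hne : ∃ x : P, x ∉ Vs P) :
    ∃ z : P, z ∉ Vs P ∧ z * z ∈ Vs P ∧ ∀ g : P, ⁅z, g⁆ ∈ Vs P := by
  haveI := h.fin
  haveI : Fact (Nat.Prime 2) := ⟨Nat.prime_two⟩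
  obtain ⟨x, hx⟩ := hne
  haveI : Nontrivial (P ⧸ Vs P) := by
    refine ⟨⟨(x : P ⧸ Vs P), 1, ?_⟩⟩
    intro h0
    exact hx ((QuotientGroup.eq_one_iff x).mp h0)
  have hQ : IsPGroup 2 (P ⧸ Vs P) := h.pgroup.to_quotient _
  have hcen : Subgroup.center (P ⧸ Vs P) ≠ ⊥ := (hQ.bot_lt_center).ne'
  obtain ⟨z, hzc, hz1, hz2⟩ := exists_inv_of_ne_bot hQ hcen
  obtain ⟨z, rfl⟩ := QuotientGroup.mk_surjective z
  refine ⟨z, ?_, ?_, ?_⟩
  · intro hmem
    exact hz1 ((QuotientGroup.eq_one_iff z).mpr hmem)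
  · have : ((z * z : P) : P ⧸ Vs P) = 1 := hz2
    exact (QuotientGroup.eq_one_iff _).mp this
  · intro g
    have h1 : ((⁅z, g⁆ : P) : P ⧸ Vs P) = ⁅(z : P ⧸ Vs P), (g : P ⧸ Vs P)⁆ := rfl
    have h2 : ⁅(z : P ⧸ Vs P), (g : P ⧸ Vs P)⁆ = 1 := by
      rw [commutatorElement_eq_one_iff_commute]
      exact (Subgroup.mem_center_iff.mp hzc (g : P ⧸ Vs P)).symm
    rw [h2] at h1
    exact (QuotientGroup.eq_one_iff _).mp h1

/-- the elements which are involutions and central modulo the involutions -/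
def Us (P : Type*) [Group P] : Subgroup P where
  carrier := {x | x * x ∈ Vs P ∧ ∀ g : P, ⁅x, g⁆ ∈ Vs P}
  one_mem' := by
    refine ⟨by rw [one_mul]; exact (Vs P).one_mem, fun g => ?_⟩
    have : ⁅(1 : P), g⁆ = 1 := by simp [commutatorElement_def]
    rw [this]; exact (Vs P).one_mem
  mul_mem' := by
    rintro a b ⟨ha, ha'⟩ ⟨hb, hb'⟩
    constructor
    · rw [sq_mul_of_comm_central (hb' a).1]
      exact (Vs P).mul_mem ((Vs P).mul_mem (hb' a) ha) hb
    · intro g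
      rw [comm_mul_left_of_central (hb' g).1]
      exact (Vs P).mul_mem (ha' g) (hb' g)
  inv_mem' := by
    rintro a ⟨ha, ha'⟩
    constructor
    · have : a⁻¹ * a⁻¹ = (a * a)⁻¹ := by group
      rw [this]; exact (Vs P).inv_mem ha
    · intro g
      have h1 : ⁅a * a⁻¹, g⁆ = ⁅a, g⁆ * ⁅a⁻¹, g⁆ := by
        have h2 : ⁅a⁻¹, g⁆ = a⁻¹ * ⁅a, g⁆⁻¹ * a := by
          simp only [commutatorElement_def]; group
        have h3 : a⁻¹ * ⁅a, g⁆⁻¹ = ⁅a, g⁆⁻¹ * a⁻¹ :=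
          Subgroup.mem_center_iff.mp (Subgroup.inv_mem _ (ha' g).1) a⁻¹
        rw [h2, h3]
        simp only [commutatorElement_def]; group
      have h4 : ⁅a * a⁻¹, g⁆ = 1 := by simp [commutatorElement_def]
      rw [h4] at h1
      have h5 : ⁅a⁻¹, g⁆ = ⁅a, g⁆⁻¹ := (eq_inv_of_mul_eq_one_right h1.symm)
      rw [h5]; exact (Vs P).inv_mem (ha' g)

theorem mem_Us {x : P} : x ∈ Us P ↔ x * x ∈ Vs P ∧ ∀ g : P, ⁅x, g⁆ ∈ Vs P := Iff.rfl

theorem Vs_le_Us : Vs P ≤ Us P := by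
  intro v hv
  refine ⟨by rw [hv.2]; exact (Vs P).one_mem, fun g => ?_⟩
  rw [comm_central_left hv.1]
  exact (Vs P).one_mem

theorem inv_Us (ρ : K →* MulAut P) : Inv ρ (Us P) := by
  rintro k x ⟨hx, hx'⟩
  constructor
  · rw [← map_mul]; exact apply_mem_Vs _ hx
  · intro g
    have h1 : ⁅ρ k x, g⁆ = ρ k ⁅x, ρ k⁻¹ g⁆ := by
      rw [map_commutatorElement, Suz.apply_inv]
    rw [h1]; exact apply_mem_Vs _ (hx' _)

/-- a minimal invariant subgroup above the involutions, inside `Us P` -/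
theorem Suz.exists_minimal (h : Suz ρ) (hne : ∃ x : P, x ∉ Vs P) :
    ∃ N : Subgroup P, Inv ρ N ∧ Vs P < N ∧ (∀ n ∈ N, n * n ∈ Vs P) ∧
      (∀ n ∈ N, ∀ g : P, ⁅n, g⁆ ∈ Vs P) ∧
      ∀ H : Subgroup P, Inv ρ H → Vs P < H → H ≤ N → H = N := by
  haveI := h.fin
  obtain ⟨z, hz, hzz, hzg⟩ := h.exists_second hne
  have hU : Vs P < Us P := by
    refine lt_of_le_of_ne Vs_le_Us ?_
    intro h0
    apply hz
    rw [h0]
    exact ⟨hzz, hzg⟩
  let 𝒮 : Set (Subgroup P) := {H | Inv ρ H ∧ Vs P < H ∧ H ≤ Us P}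
  have hne' : 𝒮.Nonempty := ⟨Us P, inv_Us ρ, hU, le_rfl⟩
  have hwf : WellFounded ((· < ·) : Subgroup P → Subgroup P → Prop) := wellFounded_lt
  obtain ⟨N, hN𝒮, hNmin⟩ := hwf.has_min 𝒮 hne'
  obtain ⟨hN, hVN, hNU⟩ := hN𝒮
  refine ⟨N, hN, hVN, fun n hn => (hNU hn).1, fun n hn => (hNU hn).2, ?_⟩
  intro H hH hVH hHN
  by_contra hne2
  exact hNmin H ⟨hH, hVH, hHN.trans hNU⟩ (lt_of_le_of_ne hHN hne2)

/-- Case B, nonabelian subcase: all squares are involutions -/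
theorem Suz.caseB_nonab (h : Suz ρ) {N : Subgroup P} (hN : Inv ρ N) (hVN : Vs P < N)
    (hsq : ∀ n ∈ N, n * n ∈ Vs P) (hcen : ∀ n ∈ N, ∀ g : P, ⁅n, g⁆ ∈ Vs P)
    (hmin : ∀ H : Subgroup P, Inv ρ H → Vs P < H → H ≤ N → H = N)
    (hnab : ∃ n ∈ N, ∃ n' ∈ N, n * n' ≠ n' * n) : ∀ x : P, x * x ∈ Vs P := by
  -- every involution is a square in `N`
  have hsurj : ∀ v ∈ Vs P, ∃ n ∈ N, n * n = v := by
    obtain ⟨n₀, hn₀N, hn₀V⟩ := SetLike.exists_of_lt hVN
    apply h.Vs_subset (S := {v | ∃ n ∈ N, n * n = v})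
    · rintro k v ⟨n, hn, rfl⟩
      exact ⟨ρ k n, hN k n hn, by rw [map_mul]⟩
    · exact ⟨1, N.one_mem, one_mul 1⟩
    · exact ⟨n₀, hn₀N, rfl⟩
    · exact hsq n₀ hn₀N
    · intro h0; exact hn₀V (h.mem_Vs_iff.mpr h0)
  -- the centre of `N`
  have hZ : ∀ c ∈ N, c ∈ Subgroup.centralizer (N : Set P) → c ∈ Vs P := by
    have hle : Vs P ≤ N ⊓ Subgroup.centralizer (N : Set P) := by
      intro v hv
      refine Subgroup.mem_inf.mpr ⟨hVN.le hv, ?_⟩
      rw [Subgroup.mem_centralizer_iff]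
      intro n _
      exact comm_of_mem_Vs hv n
    rcases lt_or_eq_of_le hle with hlt | heq
    · exfalso
      have h1 := hmin _ (hN.inf hN.centralizer) hlt inf_le_left
      obtain ⟨n, hn, n', hn', hnn⟩ := hnab
      have h2 : n' ∈ N ⊓ Subgroup.centralizer (N : Set P) := by rw [h1]; exact hn'
      have h3 := Subgroup.mem_centralizer_iff.mp (Subgroup.mem_inf.mp h2).2 n hn
      exact hnn h3
    · intro c hcN hcC
      rw [heq]
      exact Subgroup.mem_inf.mpr ⟨hcN, hcC⟩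
  -- the centralizer of `N`
  have hC : ∀ c ∈ Subgroup.centralizer (N : Set P), c ∈ Vs P := by
    intro c hc
    by_contra hcV
    obtain ⟨t, ht1, ht2⟩ := h.exists_pow hcV
    have hc' : c ^ t ∈ Subgroup.centralizer (N : Set P) := Subgroup.pow_mem _ hc t
    obtain ⟨n, hn, hnn⟩ := hsurj _ ht2
    have hcomm : c ^ t * n = n * c ^ t := (Subgroup.mem_centralizer_iff.mp hc' n hn).symm
    have h1 := h.mul_inv_mem_Vs hcomm hnn.symm
    have h2 : c ^ t ∈ N := by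
      have : c ^ t = (c ^ t * n⁻¹) * n := by group
      rw [this]
      exact N.mul_mem (hVN.le h1) hn
    exact ht1 (hZ _ h2 hc')
  intro x
  apply hC
  rw [Subgroup.mem_centralizer_iff]
  intro n hn
  have h1 : ⁅n, x * x⁆ = ⁅n, x⁆ * ⁅n, x⁆ := comm_mul_right_of_central (hcen n hn x).1
  rw [(hcen n hn x).2] at h1
  exact (commutatorElement_eq_one_iff_commute.mp h1).eq

end Cfsg.Agent.Lib.Helper27.Sz
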