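import Mathlib
import Cfsg.Agent.Lib.Helper27.SzGrpB1
import Cfsg.Agent.Lib.Helper27.SzField5

/-!
# Suzuki 2-groups: the commutator maps on the involutions, written additively
-/

set_option autoImplicit false

namespace Cfsg.Agent.Lib.Helper27.Sz

open scoped commutatorElement
open Cfsg.Agent.Lib.Helper27.SzF

variable {K : Type*} {P : Type*} [Group K] [Group P] {ρ : K →* MulAut P}

instance Vs_commGroup : CommGroup (Vs P) :=
  { (inferInstance : Group (Vs P)) with
    mul_comm := fun a b => Subtype.ext (comm_of_mem_Vs b.2 (a : P)) }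

/-- the underlying group element of an additively written involution -/
def val (w : Additive (Vs P)) : P := ((Additive.toMul w : Vs P) : P)

/-- an involution, written additively -/
def mkV (v : P) (hv : v ∈ Vs P) : Additive (Vs P) := Additive.ofMul ⟨v, hv⟩

@[simp] theorem val_mkV (v : P) (hv : v ∈ Vs P) : val (mkV v hv) = v := rfl

theorem val_mem (w : Additive (Vs P)) : val w ∈ Vs P := (Additive.toMul w).2

theorem val_add (w w' : Additive (Vs P)) : val (w + w') = val w * val w' := rfl

theorem val_zero : val (0 : Additive (Vs P)) = 1 := rfl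

theorem val_injective : Function.Injective (val : Additive (Vs P) → P) := by
  intro w w' hww
  have : (Additive.toMul w : Vs P) = Additive.toMul w' := Subtype.ext hww
  exact Additive.toMul.injective this

theorem val_eq_one_iff {w : Additive (Vs P)} : val w = 1 ↔ w = 0 := by
  constructor
  · intro h1; exact val_injective (by rw [h1, val_zero])
  · rintro rfl; rfl

theorem mkV_val (w : Additive (Vs P)) : mkV (val w) (val_mem w) = w := rfl

theorem End_ext {S T : AddMonoid.End (Additive (Vs P))} (h : ∀ w, val (S w) = val (T w)) :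
    S = T :=
  AddMonoidHom.ext (fun w => val_injective (h w))

/-- the action of `K` on the involutions, written additively -/
def aV (ρ : K →* MulAut P) : K →* AddMonoid.End (Additive (Vs P)) where
  toFun k := MonoidHom.toAdditive ((resAct ρ (Vs P) (inv_Vs ρ) k : MulAut (Vs P)).toMonoidHom)
  map_one' := by
    apply AddMonoidHom.ext
    intro w
    apply val_injective
    show ρ 1 (val w) = val w
    rw [map_one]; rfl
  map_mul' := by
    intro k k'
    apply AddMonoidHom.ext
    intro w
    apply val_injective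
    show ρ (k * k') (val w) = ρ k (ρ k' (val w))
    rw [map_mul]; rfl

@[simp] theorem val_aV (k : K) (w : Additive (Vs P)) : val (aV ρ k w) = ρ k (val w) := rfl

/-- the regular action -/
theorem Suz.reg_aV (h : Suz ρ) : Reg (aV ρ) := by
  refine ⟨h.comm, ?_, ?_, ?_, ?_, h.card_K_odd, h.finite_K⟩
  · intro w
    apply val_injective
    rw [val_add, val_zero]
    exact (val_mem w).2
  · intro w w' hw hw'
    have hw1 : val w ≠ 1 := fun h0 => hw (val_eq_one_iff.mp h0)
    have hw1' : val w' ≠ 1 := fun h0 => hw' (val_eq_one_iff.mp h0)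
    obtain ⟨k, hk, huniq⟩ := h.reg (val w) (val w') hw1 (val_mem w).2 hw1' (val_mem w').2
    refine ⟨k, val_injective (by rw [val_aV]; exact hk), ?_⟩
    intro k' hk'
    apply huniq
    rw [← val_aV, hk']
  · obtain ⟨x, hx1, hx⟩ := h.exists_inv
    refine ⟨mkV x (h.mem_Vs_iff.mpr hx), ?_⟩
    intro h0
    apply hx1
    have := congrArg val h0
    exact this
  · obtain ⟨x, y, hxy, hx1, hx, hy1, hy⟩ := h.two_inv
    obtain ⟨k, hk, -⟩ := h.reg x y hx1 hx hy1 hy
    refine ⟨k, ?_⟩
    rintro rfl
    rw [map_one] at hk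
    exact hxy hk

/-- the data for the abelian case -/
structure BData (ρ : K →* MulAut P) (N : Subgroup P) : Prop where
  suz : Suz ρ
  inv : Inv ρ N
  le : Vs P ≤ N
  comm : ∀ n ∈ N, ∀ n' ∈ N, n * n' = n' * n
  sq : ∀ n ∈ N, n * n ∈ Vs P
  cen : ∀ n ∈ N, ∀ g : P, ⁅n, g⁆ ∈ Vs P
  surj : ∀ v ∈ Vs P, ∃ n ∈ N, n * n = v

variable {N : Subgroup P}

/-- a square root in `N` of an involution -/
noncomputable def BData.root (b : BData ρ N) (v : Vs P) : P := Classical.choose (b.surj v v.2)

theorem BData.root_mem (b : BData ρ N) (v : Vs P) : b.root v ∈ N :=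
  (Classical.choose_spec (b.surj v v.2)).1

theorem BData.root_sq (b : BData ρ N) (v : Vs P) : b.root v * b.root v = v :=
  (Classical.choose_spec (b.surj v v.2)).2

/-- the commutator with an element of `N` depends only on the square -/
theorem BData.comm_eq (b : BData ρ N) {n n' : P} (hn : n ∈ N) (hn' : n' ∈ N)
    (hsq : n * n = n' * n') (x : P) : ⁅n, x⁆ = ⁅n', x⁆ := by
  have h1 := b.suz.mul_inv_mem_Vs (b.comm n hn n' hn') hsq
  have h2 : n = n' * (n * n'⁻¹) := by
    have : n'⁻¹ * n = n * n'⁻¹ := (b.comm n hn n'⁻¹ (N.inv_mem hn')).symm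
    calc n = n' * (n'⁻¹ * n) := by group
      _ = n' * (n * n'⁻¹) := by rw [this]
  rw [h2, comm_mul_central_left h1.1]

/-- the commutator map, multiplicatively -/
noncomputable def BData.Dm (b : BData ρ N) (x : P) : Vs P →* Vs P where
  toFun v := ⟨⁅b.root v, x⁆, b.cen _ (b.root_mem v) x⟩
  map_one' := by
    apply Subtype.ext
    show ⁅b.root 1, x⁆ = 1
    have h1 : b.root 1 * b.root 1 = 1 * 1 := by rw [b.root_sq, one_mul]; rfl
    rw [b.comm_eq (b.root_mem 1) N.one_mem h1]
    simp [commutatorElement_def]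
  map_mul' := by
    intro v v'
    apply Subtype.ext
    show ⁅b.root (v * v'), x⁆ = ⁅b.root v, x⁆ * ⁅b.root v', x⁆
    have h1 : b.root (v * v') * b.root (v * v') =
        (b.root v * b.root v') * (b.root v * b.root v') := by
      have hc := b.comm _ (b.root_mem v) _ (b.root_mem v')
      calc b.root (v * v') * b.root (v * v') = (v : P) * v' := by rw [b.root_sq]; rfl
        _ = (b.root v * b.root v) * (b.root v' * b.root v') := by rw [b.root_sq, b.root_sq]
        _ = b.root v * (b.root v * b.root v') * b.root v' := by group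
        _ = b.root v * (b.root v' * b.root v) * b.root v' := by rw [hc]
        _ = (b.root v * b.root v') * (b.root v * b.root v') := by group
    rw [b.comm_eq (b.root_mem _) (N.mul_mem (b.root_mem v) (b.root_mem v')) h1,
      comm_mul_left_of_central (b.cen _ (b.root_mem v') x).1]

/-- the commutator map, additively -/
noncomputable def BData.D (b : BData ρ N) (x : P) : AddMonoid.End (Additive (Vs P)) :=
  MonoidHom.toAdditive (b.Dm x)

theorem BData.val_D (b : BData ρ N) (x : P) {n : P} (hn : n ∈ N) (w : Additive (Vs P))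
    (hw : n * n = val w) : val (b.D x w) = ⁅n, x⁆ := by
  show ⁅b.root (Additive.toMul w), x⁆ = ⁅n, x⁆
  apply b.comm_eq (b.root_mem _) hn
  rw [b.root_sq, hw]; rfl

theorem BData.val_D_root (b : BData ρ N) (x : P) (w : Additive (Vs P)) :
    val (b.D x w) = ⁅b.root (Additive.toMul w), x⁆ := rfl

theorem BData.D_mul (b : BData ρ N) (x y : P) : b.D (x * y) = b.D x + b.D y := by
  apply End_ext
  intro w
  show val (b.D (x * y) w) = val (b.D x w) * val (b.D y w)
  rw [b.val_D_root, b.val_D_root, b.val_D_root,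
    comm_mul_right_of_central (b.cen _ (b.root_mem _) y).1]

theorem BData.D_one (b : BData ρ N) : b.D 1 = 0 := by
  have := b.D_mul 1 1
  rw [one_mul] at this
  exact left_eq_add.mp this

theorem BData.D_add_self (b : BData ρ N) (x : P) : b.D x + b.D x = 0 :=
  b.suz.reg_aV.add_self _

theorem BData.D_inv (b : BData ρ N) (x : P) : b.D x⁻¹ = b.D x := by
  have h1 := b.D_mul x x⁻¹
  rw [mul_inv_cancel, b.D_one] at h1
  have h2 := eq_neg_of_add_eq_zero_right h1.symm
  rw [h2, b.suz.reg_aV.neg_eq]

theorem BData.D_sq (b : BData ρ N) (x : P) : b.D (x * x) = 0 := by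
  rw [b.D_mul, b.D_add_self]

theorem BData.D_eq_zero_iff (b : BData ρ N) (x : P) :
    b.D x = 0 ↔ x ∈ Subgroup.centralizer (N : Set P) := by
  rw [Subgroup.mem_centralizer_iff]
  constructor
  · intro h0 n hn
    have h1 := b.val_D x hn (mkV (n * n) (b.sq n hn)) rfl
    rw [h0] at h1
    have h2 : ⁅n, x⁆ = 1 := h1.symm
    exact (commutatorElement_eq_one_iff_commute.mp h2).eq
  · intro hc
    apply End_ext
    intro w
    rw [b.val_D_root]
    show ⁅b.root (Additive.toMul w), x⁆ = 1
    rw [commutatorElement_eq_one_iff_commute]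
    exact hc _ (b.root_mem _)

theorem BData.D_eq_iff (b : BData ρ N) (x y : P) :
    b.D x = b.D y ↔ x * y⁻¹ ∈ Subgroup.centralizer (N : Set P) := by
  rw [← b.D_eq_zero_iff, b.D_mul, b.D_inv]
  constructor
  · intro hxy; rw [hxy, b.D_add_self]
  · intro h0
    have h2 := eq_neg_of_add_eq_zero_left h0
    rw [h2, b.suz.reg_aV.neg_eq]

/-- equivariance -/
theorem BData.D_apply (b : BData ρ N) (k : K) (x : P) :
    b.D (ρ k x) = cj (aV ρ) k (b.D x) := by
  apply End_ext
  intro w
  rw [cj_apply, val_aV]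
  have hn : ρ k⁻¹ (b.root (Additive.toMul w)) ∈ N := b.inv k⁻¹ _ (b.root_mem _)
  have hw : ρ k⁻¹ (b.root (Additive.toMul w)) * ρ k⁻¹ (b.root (Additive.toMul w)) =
      val (aV ρ k⁻¹ w) := by
    rw [← map_mul, b.root_sq, val_aV]; rfl
  rw [b.val_D x hn _ hw, b.val_D_root, map_commutatorElement, Suz.apply_inv]

/-- the image of a subgroup -/
noncomputable def BData.Dimg (b : BData ρ N) (H : Subgroup P) :
    AddSubgroup (AddMonoid.End (Additive (Vs P))) where
  carrier := {T | ∃ x ∈ H, b.D x = T}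
  zero_mem' := ⟨1, H.one_mem, b.D_one⟩
  add_mem' := by
    rintro S T ⟨x, hx, rfl⟩ ⟨y, hy, rfl⟩
    exact ⟨x * y, H.mul_mem hx hy, b.D_mul x y⟩
  neg_mem' := by
    rintro T ⟨x, hx, rfl⟩
    exact ⟨x, hx, by rw [b.suz.reg_aV.neg_eq]⟩

theorem BData.mem_Dimg (b : BData ρ N) {H : Subgroup P} {T : AddMonoid.End (Additive (Vs P))} :
    T ∈ b.Dimg H ↔ ∃ x ∈ H, b.D x = T := Iff.rfl

theorem BData.D_mem_Dimg (b : BData ρ N) {H : Subgroup P} {x : P} (hx : x ∈ H) :
    b.D x ∈ b.Dimg H := ⟨x, hx, rfl⟩

/-- the action on the image of an invariant subgroup -/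
theorem BData.act (b : BData ρ N) {H : Subgroup P} (hH : Inv ρ H) : Act (aV ρ) (b.Dimg H) := by
  constructor
  · rintro k T ⟨x, hx, rfl⟩
    exact ⟨ρ k x, hH k x hx, b.D_apply k x⟩
  · rintro k T ⟨x, hx, rfl⟩ hfix hne
    by_contra hk
    apply hne
    rw [← b.D_apply, b.D_eq_iff] at hfix
    have hfix' : (ρ k x * x⁻¹)⁻¹ ∈ Subgroup.centralizer (N : Set P) := Subgroup.inv_mem _ hfix
    rw [b.D_eq_zero_iff]
    have hC : Inv ρ (Subgroup.centralizer (N : Set P)) := b.inv.centralizer
    have h1 : x⁻¹⁻¹ * ρ k x⁻¹ ∈ Subgroup.centralizer (N : Set P) := by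
      have : x⁻¹⁻¹ * ρ k x⁻¹ = (ρ k x * x⁻¹)⁻¹ := by rw [map_inv]; group
      rw [this]; exact hfix'
    have h2 := b.suz.mem_of_inv_mul_apply_mem hC hk h1
    have := Subgroup.inv_mem _ h2
    rwa [inv_inv] at this

end Cfsg.Agent.Lib.Helper27.Sz
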