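import Mathlib
import Cfsg.Agent.Lib.Helper27.SzGrpB2

/-!
# Suzuki 2-groups: the abelian case, when the minimal subgroup is self-centralizing
-/

set_option autoImplicit false

namespace Cfsg.Agent.Lib.Helper27.Sz

open scoped commutatorElement
open Cfsg.Agent.Lib.Helper27.SzF

variable {K : Type*} {P : Type*} [Group K] [Group P] {ρ : K →* MulAut P} {N : Subgroup P}

theorem BData.D_eq_zero_iff' (b : BData ρ N) (hC : Subgroup.centralizer (N : Set P) ≤ N) (x : P) :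
    b.D x = 0 ↔ x ∈ N := by
  rw [b.D_eq_zero_iff]
  exact ⟨fun hx => hC hx, fun hx => b.le_centralizer hx⟩

theorem BData.D_eq_iff' (b : BData ρ N) (hC : Subgroup.centralizer (N : Set P) ≤ N) (x y : P) :
    b.D x = b.D y ↔ x * y⁻¹ ∈ N := by
  rw [b.D_eq_iff]
  exact ⟨fun hx => hC hx, fun hx => b.le_centralizer hx⟩

theorem BData.sq_mem (b : BData ρ N) (hC : Subgroup.centralizer (N : Set P) ≤ N) (x : P) :
    x * x ∈ N := by
  rw [← b.D_eq_zero_iff' hC]; exact b.D_sq x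

/-- the preimage of an additive subgroup -/
noncomputable def BData.pre (b : BData ρ N) (H : Subgroup P)
    (D' : AddSubgroup (AddMonoid.End (Additive (Vs P)))) : Subgroup P where
  carrier := {x | x ∈ H ∧ b.D x ∈ D'}
  one_mem' := ⟨H.one_mem, by rw [b.D_one]; exact D'.zero_mem⟩
  mul_mem' := by
    rintro x y ⟨hx, hx'⟩ ⟨hy, hy'⟩
    exact ⟨H.mul_mem hx hy, by rw [b.D_mul]; exact D'.add_mem hx' hy'⟩
  inv_mem' := by
    rintro x ⟨hx, hx'⟩
    exact ⟨H.inv_mem hx, by rw [b.D_inv]; exact hx'⟩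

theorem BData.mem_pre (b : BData ρ N) {H : Subgroup P}
    {D' : AddSubgroup (AddMonoid.End (Additive (Vs P)))} {x : P} :
    x ∈ b.pre H D' ↔ x ∈ H ∧ b.D x ∈ D' := Iff.rfl

/-- irreducibility of the image of a subgroup which is minimal over `N` -/
theorem BData.irred (b : BData ρ N) (hC : Subgroup.centralizer (N : Set P) ≤ N)
    {H : Subgroup P} (hH : Inv ρ H) (hNH : N ≤ H)
    (hmax : ∀ H' : Subgroup P, Inv ρ H' → N < H' → H' ≤ H → H' = H) :
    Irred (aV ρ) (b.Dimg H) := by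
  intro D' hD' hinv
  have hpinv : Inv ρ (b.pre H D') := by
    rintro k x ⟨hx, hx'⟩
    exact ⟨hH k x hx, by rw [b.D_apply]; exact hinv k _ hx'⟩
  have hNp : N ≤ b.pre H D' := by
    intro n hn
    refine ⟨hNH hn, ?_⟩
    rw [(b.D_eq_zero_iff' hC n).mpr hn]
    exact D'.zero_mem
  rcases lt_or_eq_of_le hNp with hlt | heq
  · right
    have h1 := hmax _ hpinv hlt (fun x hx => hx.1)
    apply le_antisymm hD'
    rintro T ⟨x, hx, rfl⟩
    have : x ∈ b.pre H D' := by rw [h1]; exact hx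
    exact this.2
  · left
    rw [AddSubgroup.eq_bot_iff_forall]
    intro T hT
    obtain ⟨x, hx, rfl⟩ := hD' hT
    have : x ∈ b.pre H D' := ⟨hx, hT⟩
    rw [← heq] at this
    exact (b.D_eq_zero_iff' hC x).mpr this

/-- proper invariant subgroups above `N` have all squares among the involutions -/
theorem BData.hig (b : BData ρ N) (hC : Subgroup.centralizer (N : Set P) ≤ N)
    (ihSub : ∀ H : Subgroup P, Inv ρ H → H ≠ ⊤ → (∃ x ∈ H, ∃ y ∈ H, x * y ≠ y * x) →
      ∀ x ∈ H, x * x ∈ Vs P)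
    {H : Subgroup P} (hH : Inv ρ H) (hNH : N < H) (htop : H ≠ ⊤) : ∀ x ∈ H, x * x ∈ Vs P := by
  apply ihSub H hH htop
  obtain ⟨x, hxH, hxN⟩ := SetLike.exists_of_lt hNH
  have hxC : x ∉ Subgroup.centralizer (N : Set P) := fun h0 => hxN (hC h0)
  rw [Subgroup.mem_centralizer_iff] at hxC
  push Not at hxC
  obtain ⟨n, hn, hnx⟩ := hxC
  exact ⟨n, hNH.le hn, x, hxH, hnx⟩

theorem card_lt_of_lt [Finite P] {H H' : Subgroup P} (hlt : H < H') : Nat.card H < Nat.card H' := by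
  by_contra hle
  push Not at hle
  exact hlt.ne (Subgroup.eq_of_le_of_card_ge hlt.le hle)

/-- subgroups with all squares among the involutions are minimal over `N` -/
theorem BData.max_of_hig (b : BData ρ N) (hVN : Vs P < N) {H : Subgroup P} (hH : Inv ρ H)
    (hNH : N < H) (hsq : ∀ x ∈ H, x * x ∈ Vs P) :
    ∀ H' : Subgroup P, Inv ρ H' → N < H' → H' ≤ H → H' = H := by
  haveI := b.suz.fin
  intro H' hH' hNH' hH'H
  have hq : 1 ≤ Nat.card K + 1 := by omega
  have hcN := b.suz.card_sub b.inv hVN b.sq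
  have hcH' := b.suz.card_sub hH' (hVN.trans hNH') (fun x hx => hsq x (hH'H hx))
  have hcH := b.suz.card_sub hH (hVN.trans hNH) hsq
  have h1 := card_lt_of_lt hNH'
  have h2 : Nat.card H' ≤ Nat.card H := Subgroup.card_le_of_le hH'H
  have hpow : (Nat.card K + 1) ^ 2 ≤ (Nat.card K + 1) ^ 3 := Nat.pow_le_pow_right hq (by omega)
  apply Subgroup.eq_of_le_of_card_ge hH'H
  rcases hcN with hN | hN <;> rcases hcH' with hH'c | hH'c <;> rcases hcH with hHc | hHc <;>
    omega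

/-- commutators invert: if `b * b` is central then `b` inverts `⁅a, b⁆` -/
theorem comm_comm_of_sq_central {a c : P} (hc : c * c ∈ Subgroup.center P) :
    ⁅⁅a, c⁆, c⁆ = ⁅a, c⁆ * ⁅a, c⁆ := by
  have h1 : a * (c * c) = (c * c) * a := Subgroup.mem_center_iff.mp hc a
  have h2 : a * (c * c) * a⁻¹ = c * c := by rw [h1]; group
  simp only [commutatorElement_def]
  calc a * c * a⁻¹ * c⁻¹ * c * (a * c * a⁻¹ * c⁻¹)⁻¹ * c⁻¹
      = a * c * a⁻¹ * (c * (a * c⁻¹ * a⁻¹)) * c⁻¹ := by group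
    _ = a * c * a⁻¹ * (c * (a * (c * c)⁻¹ * a⁻¹ * (a * c * a⁻¹))) * c⁻¹ := by group
    _ = a * c * a⁻¹ * (c * ((a * (c * c) * a⁻¹)⁻¹ * (a * c * a⁻¹))) * c⁻¹ := by group
    _ = a * c * a⁻¹ * (c * ((c * c)⁻¹ * (a * c * a⁻¹))) * c⁻¹ := by rw [h2]
    _ = a * c * a⁻¹ * c⁻¹ * (a * c * a⁻¹ * c⁻¹) := by group

end Cfsg.Agent.Lib.Helper27.Sz
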