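import Mathlib
import Cfsg.Prelude.Def_Solvable
import Cfsg.Agent.Lib.Helper1.Cores

set_option autoImplicit false

namespace Cfsg.Agent.Lib.Helper27

variable {G : Type*} [Group G]

/-- `O_p(A)` viewed in the ambient group is contained in `A`. -/
theorem pCoreMap_le (p : ℕ) (A : Subgroup G) :
    ((Cfsg.pCore p ↥A).map A.subtype : Subgroup G) ≤ A := by
  rintro _ ⟨x, -, rfl⟩
  exact x.2

theorem pCoreMap_conj_mem (p : ℕ) (A : Subgroup G) {a k : G} (ha : a ∈ A)
    (hk : k ∈ ((Cfsg.pCore p ↥A).map A.subtype : Subgroup G)) :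
    a * k * a⁻¹ ∈ ((Cfsg.pCore p ↥A).map A.subtype : Subgroup G) := by
  obtain ⟨x, hx, rfl⟩ := hk
  have hn : (Cfsg.pCore p ↥A).Normal := Helper1.pCore_normal p
  exact ⟨⟨a, ha⟩ * x * ⟨a, ha⟩⁻¹, hn.conj_mem x hx ⟨a, ha⟩, rfl⟩

theorem pCoreMap_isPGroup (p : ℕ) [Fact p.Prime] (A : Subgroup G) :
    IsPGroup p ((Cfsg.pCore p ↥A).map A.subtype : Subgroup G) :=
  (Helper1.pCore_isPGroup p).map _

/-- A `p`-subgroup of `A` normalized by `A` lies in `O_p(A)`. -/
theorem le_pCoreMap {p : ℕ} {A K : Subgroup G} (hKA : K ≤ A)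
    (hn : ∀ a ∈ A, ∀ k ∈ K, a * k * a⁻¹ ∈ K) (hp : IsPGroup p K) :
    K ≤ ((Cfsg.pCore p ↥A).map A.subtype : Subgroup G) := by
  have hN : (K.subgroupOf A).Normal := by
    refine ⟨fun k hk a => ?_⟩
    exact hn a.1 a.2 k.1 hk
  have hP : IsPGroup p ↥(K.subgroupOf A) :=
    hp.comap_of_injective A.subtype A.subtype_injective
  have h1 : K.subgroupOf A ≤ Cfsg.pCore p ↥A := Helper1.le_pCore hN hP
  intro k hk
  exact ⟨⟨k, hKA hk⟩, h1 hk, rfl⟩

/-- `O_p(A) ∩ B ≤ O_p(B)` for `B ≤ A`. -/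
theorem pCoreMap_inf_le {p : ℕ} [Fact p.Prime] {A B : Subgroup G} (hBA : B ≤ A) :
    ((Cfsg.pCore p ↥A).map A.subtype : Subgroup G) ⊓ B ≤
      ((Cfsg.pCore p ↥B).map B.subtype : Subgroup G) := by
  refine le_pCoreMap inf_le_right (fun a ha k hk => ⟨?_, ?_⟩) ?_
  · exact pCoreMap_conj_mem p A (hBA ha) hk.1
  · exact B.mul_mem (B.mul_mem ha hk.2) (B.inv_mem ha)
  · exact (pCoreMap_isPGroup p A).to_le inf_le_left

/-- Transport of `O_p` along an isomorphism of the ambient groups. -/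
theorem pCoreMap_of_equiv {G' : Type*} [Group G'] {p : ℕ} [Fact p.Prime] (Φ : G ≃* G')
    {A : Subgroup G} {A' : Subgroup G'} (hA : ∀ a, a ∈ A ↔ Φ a ∈ A') {x : G}
    (hx : Φ x ∈ ((Cfsg.pCore p ↥A').map A'.subtype : Subgroup G')) :
    x ∈ ((Cfsg.pCore p ↥A).map A.subtype : Subgroup G) := by
  have key : (((Cfsg.pCore p ↥A').map A'.subtype : Subgroup G')).comap Φ.toMonoidHom ≤
      ((Cfsg.pCore p ↥A).map A.subtype : Subgroup G) := by
    refine le_pCoreMap (fun k hk => ?_) (fun a ha k hk => ?_) ?_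
    · exact (hA k).mpr (pCoreMap_le p A' hk)
    · show Φ (a * k * a⁻¹) ∈ ((Cfsg.pCore p ↥A').map A'.subtype : Subgroup G')
      rw [map_mul, map_mul, map_inv]
      exact pCoreMap_conj_mem p A' ((hA a).mp ha) hk
    · exact (pCoreMap_isPGroup p A').comap_of_injective Φ.toMonoidHom Φ.injective
  exact key hx

/-- An element of `p`-power order generating a subgroup normalized by `A` lies in `O_p(A)`. -/
theorem mem_pCoreMap_of_zpowers {p : ℕ} [Fact p.Prime] {A : Subgroup G} {x : G} (hx : x ∈ A)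
    (hn : ∀ a ∈ A, a * x * a⁻¹ ∈ Subgroup.zpowers x) {k : ℕ} (hk : x ^ (p ^ k) = 1) :
    x ∈ ((Cfsg.pCore p ↥A).map A.subtype : Subgroup G) := by
  have h1 : Subgroup.zpowers x ≤ ((Cfsg.pCore p ↥A).map A.subtype : Subgroup G) := by
    refine le_pCoreMap ((Subgroup.zpowers_le).mpr hx) (fun a ha y hy => ?_) ?_
    · obtain ⟨n, rfl⟩ := Subgroup.mem_zpowers_iff.mp hy
      have : a * x ^ n * a⁻¹ = (a * x * a⁻¹) ^ n := by
        rw [conj_zpow]
      rw [this]
      exact (Subgroup.zpowers x).zpow_mem (hn a ha) n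
    · rw [IsPGroup.iff_orderOf]
      have hox : orderOf x ∣ p ^ k := orderOf_dvd_of_pow_eq_one hk
      obtain ⟨j, -, hj⟩ := (Nat.dvd_prime_pow (Fact.out)).mp hox
      intro y
      have hy : orderOf y ∣ orderOf x := by
        have : orderOf (y : G) ∣ orderOf x := by
          obtain ⟨n, hn'⟩ := Subgroup.mem_zpowers_iff.mp y.2
          rw [← hn']
          exact orderOf_dvd_of_pow_eq_one (by rw [← zpow_natCast, ← zpow_mul, mul_comm, zpow_mul, zpow_natCast, pow_orderOf_eq_one, one_zpow])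
        rwa [Subgroup.orderOf_coe] at this
      rw [hj] at hy
      obtain ⟨i, -, hi⟩ := (Nat.dvd_prime_pow (Fact.out)).mp hy
      exact ⟨i, hi⟩
  exact h1 (Subgroup.mem_zpowers x)

/-- A quadratically acting automorphism has order dividing the order of the group. -/
theorem quad_pow_card_eq_one {Q : Type*} [Group Q] [Finite Q] (χ : MulAut Q)
    (h : ∀ a : Q, (χ a⁻¹) * a * (χ a⁻¹) * (χ (χ a)) = 1) : χ ^ Nat.card Q = 1 := by
  have hz : ∀ a : Q, χ (a⁻¹ * χ a) = a⁻¹ * χ a := by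
    intro a
    have h1 := h a
    rw [map_inv] at h1
    rw [map_mul, map_inv]
    have h2 : (χ a)⁻¹ * χ (χ a) = ((χ a)⁻¹ * a)⁻¹ := by
      rw [mul_assoc] at h1
      exact eq_inv_of_mul_eq_one_right h1
    rw [h2]
    group
  ext a
  have hpow : ∀ n : ℕ, (χ ^ n) a = a * (a⁻¹ * χ a) ^ n := by
    intro n
    induction n with
    | zero => simp
    | succ n ih =>
      rw [pow_succ', MulAut.mul_apply, ih, map_mul, map_pow, hz a, pow_succ', ← mul_assoc,
        mul_inv_cancel_left]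
  rw [hpow, pow_card_eq_one', mul_one, MulAut.one_apply]

end Cfsg.Agent.Lib.Helper27
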