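import Mathlib

set_option autoImplicit false

namespace Cfsg.Agent.Lib.Helper27.AbAutLift

variable {G : Type*} [AddCommGroup G]

theorem end_apply_mul (f g : AddMonoid.End G) (a : G) : (f * g) a = f (g a) := rfl

theorem end_apply_one (a : G) : (1 : AddMonoid.End G) a = a := rfl

theorem end_apply_sub (f g : AddMonoid.End G) (a : G) : (f - g) a = f a - g a := rfl

theorem end_apply_add (f g : AddMonoid.End G) (a : G) : (f + g) a = f a + g a := rfl

theorem end_apply_sum {ι : Type*} (s : Finset ι) (f : ι → AddMonoid.End G) (a : G) :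
    (∑ i ∈ s, f i) a = ∑ i ∈ s, f i a := by
  classical
  induction s using Finset.induction_on with
  | empty => rfl
  | insert i s hi ih =>
    rw [Finset.sum_insert hi, Finset.sum_insert hi, end_apply_add, ih]

theorem end_pow_add_apply (N : AddMonoid.End G) (m k : ℕ) (a : G) :
    (N ^ (m + k)) a = (N ^ m) ((N ^ k) a) := by
  rw [pow_add]; rfl

/-- the binomial expansion of `(N+1)^p` evaluated at a point -/
theorem binom_apply (N : AddMonoid.End G) (p : ℕ) (a : G) :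
    ((N + 1) ^ p) a = ∑ m ∈ Finset.range (p + 1), (p.choose m) • (N ^ m) a := by
  rw [(Commute.one_right N).add_pow p, end_apply_sum]
  apply Finset.sum_congr rfl
  intro m _
  rw [one_pow, mul_one, end_apply_mul, AddMonoid.End.natCast_apply, map_nsmul]

theorem card_mul_le_of_lt [Finite G] {p n : ℕ} (hp : p.Prime) (hcard : Nat.card G = p ^ n)
    {A B : AddSubgroup G} (h : A < B) : p * Nat.card A ≤ Nat.card B := by
  have hA : Nat.card A ∣ p ^ n := hcard ▸ AddSubgroup.card_addSubgroup_dvd_card A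
  have hB : Nat.card B ∣ p ^ n := hcard ▸ AddSubgroup.card_addSubgroup_dvd_card B
  obtain ⟨a, -, ha⟩ := (Nat.dvd_prime_pow hp).mp hA
  obtain ⟨b, -, hb⟩ := (Nat.dvd_prime_pow hp).mp hB
  have hlt : Nat.card A < Nat.card B := by
    refine lt_of_not_ge fun hge => h.ne ?_
    exact AddSubgroup.eq_of_le_of_card_ge h.le hge
  rw [ha, hb] at hlt ⊢
  have hab : a < b := (Nat.pow_lt_pow_iff_right hp.one_lt).mp hlt
  rw [← pow_succ']
  exact Nat.pow_le_pow_right hp.pos hab

/-- the chain `N^k(G) + K` -/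
def ch (N : AddMonoid.End G) (K : AddSubgroup G) (k : ℕ) : AddSubgroup G :=
  AddMonoidHom.range (N ^ k : G →+ G) ⊔ K

theorem mem_ch {N : AddMonoid.End G} {K : AddSubgroup G} {k : ℕ} {b : G} :
    b ∈ ch N K k ↔ ∃ a : G, ∃ c ∈ K, b = (N ^ k) a + c := by
  unfold ch
  rw [AddSubgroup.mem_sup]
  constructor
  · rintro ⟨y, ⟨a, rfl⟩, c, hc, rfl⟩
    exact ⟨a, c, hc, rfl⟩
  · rintro ⟨a, c, hc, rfl⟩
    exact ⟨_, ⟨a, rfl⟩, c, hc, rfl⟩

theorem ch_succ_le (N : AddMonoid.End G) (K : AddSubgroup G) (k : ℕ) : ch N K (k + 1) ≤ ch N K k := by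
  intro b hb
  obtain ⟨a, c, hc, rfl⟩ := mem_ch.mp hb
  refine mem_ch.mpr ⟨N a, c, hc, ?_⟩
  rw [pow_succ]; rfl

theorem le_ch (N : AddMonoid.End G) (K : AddSubgroup G) (k : ℕ) : K ≤ ch N K k := le_sup_right

theorem ch_stab (N : AddMonoid.End G) (K : AddSubgroup G) (hNK : ∀ c ∈ K, N c ∈ K) (k : ℕ)
    (h : ch N K k = ch N K (k + 1)) : ch N K (k + 1) = ch N K (k + 2) := by
  apply le_antisymm _ (ch_succ_le N K (k + 1))
  intro b hb
  obtain ⟨a, c, hc, rfl⟩ := mem_ch.mp hb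
  have h1 : (N ^ k) a ∈ ch N K k := mem_ch.mpr ⟨a, 0, K.zero_mem, by rw [add_zero]⟩
  rw [h] at h1
  obtain ⟨a', c', hc', he⟩ := mem_ch.mp h1
  refine mem_ch.mpr ⟨a', N c' + c, K.add_mem (hNK c' hc') hc, ?_⟩
  have e1 : (N ^ (k + 1)) a = N ((N ^ k) a) := by rw [pow_succ']; rfl
  have e2 : (N ^ (k + 2)) a' = N ((N ^ (k + 1)) a') := by rw [pow_succ']; rfl
  rw [e1, he, map_add, e2, add_assoc]

theorem ch_stab_all (N : AddMonoid.End G) (K : AddSubgroup G) (hNK : ∀ c ∈ K, N c ∈ K) (k : ℕ)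
    (h : ch N K k = ch N K (k + 1)) (j : ℕ) : ch N K (k + j) = ch N K k := by
  have : ∀ j, ch N K (k + j) = ch N K (k + j + 1) := by
    intro j
    induction j with
    | zero => exact h
    | succ j ih => exact ch_stab N K hNK (k + j) ih
  induction j with
  | zero => rfl
  | succ j ih => rw [← add_assoc, ← this j, ih]

theorem ch_eq_of_stab (N : AddMonoid.End G) (K : AddSubgroup G) (hNK : ∀ c ∈ K, N c ∈ K) (q : ℕ)
    (hq : ∀ a, (N ^ q) a ∈ K) (k : ℕ) (h : ch N K k = ch N K (k + 1)) : ch N K k = K := by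
  have h1 : ch N K (k + q) = ch N K k := ch_stab_all N K hNK k h q
  apply le_antisymm _ (le_ch N K k)
  rw [← h1]
  intro b hb
  obtain ⟨a, c, hc, rfl⟩ := mem_ch.mp hb
  have : (N ^ (k + q)) a = (N ^ q) ((N ^ k) a) := by rw [add_comm, pow_add]; rfl
  rw [this]
  exact K.add_mem (hq _) hc

theorem sq_mem [Finite G] {p n : ℕ} (hp : p.Prime) (hcard : Nat.card G = p ^ n)
    (N : AddMonoid.End G) (K : AddSubgroup G) (hNK : ∀ c ∈ K, N c ∈ K) (q : ℕ)
    (hq : ∀ a, (N ^ q) a ∈ K) (hidx : Nat.card G = p ^ 2 * Nat.card K) (a : G) :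
    N (N a) ∈ K := by
  by_contra hcon
  have hne2 : ch N K 2 ≠ K := by
    intro h
    apply hcon
    rw [← h]
    exact mem_ch.mpr ⟨a, 0, K.zero_mem, by rw [add_zero, pow_two]; rfl⟩
  have h23 : ch N K 2 ≠ ch N K 3 := fun h => hne2 (ch_eq_of_stab N K hNK q hq 2 h)
  have h12 : ch N K 1 ≠ ch N K 2 := by
    intro h
    have := ch_eq_of_stab N K hNK q hq 1 h
    apply hne2
    exact le_antisymm ((ch_succ_le N K 1).trans this.le) (le_ch N K 2)
  have h01 : ch N K 0 ≠ ch N K 1 := by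
    intro h
    have := ch_eq_of_stab N K hNK q hq 0 h
    apply hne2
    exact le_antisymm (((ch_succ_le N K 1).trans (ch_succ_le N K 0)).trans this.le) (le_ch N K 2)
  have l01 : ch N K 1 < ch N K 0 := lt_of_le_of_ne (ch_succ_le N K 0) (Ne.symm h01)
  have l12 : ch N K 2 < ch N K 1 := lt_of_le_of_ne (ch_succ_le N K 1) (Ne.symm h12)
  have l23 : ch N K 3 < ch N K 2 := lt_of_le_of_ne (ch_succ_le N K 2) (Ne.symm h23)
  have c1 := card_mul_le_of_lt hp hcard l01
  have c2 := card_mul_le_of_lt hp hcard l12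
  have c3 := card_mul_le_of_lt hp hcard l23
  have c0 : Nat.card (ch N K 0) ≤ Nat.card G := Nat.card_le_card_of_injective _ Subtype.coe_injective
  have c4 : Nat.card K ≤ Nat.card (ch N K 3) := AddSubgroup.card_le_of_le (le_ch N K 3)
  have hKpos : 0 < Nat.card K := Nat.card_pos
  have hp2 : 2 ≤ p := hp.two_le
  have : p ^ 3 * Nat.card K ≤ p ^ 2 * Nat.card K := by
    calc p ^ 3 * Nat.card K = p * (p * (p * Nat.card K)) := by ring
      _ ≤ p * (p * (p * Nat.card (ch N K 3))) := by gcongr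
      _ ≤ p * (p * Nat.card (ch N K 2)) := by gcongr
      _ ≤ p * Nat.card (ch N K 1) := by gcongr
      _ ≤ Nat.card (ch N K 0) := c1
      _ ≤ Nat.card G := c0
      _ = p ^ 2 * Nat.card K := hidx
  have h3 : p ^ 3 ≤ p ^ 2 := Nat.le_of_mul_le_mul_right this hKpos
  have : p ^ 2 < p ^ 3 := Nat.pow_lt_pow_right hp.one_lt (by norm_num)
  omega

theorem lift_key [Finite G] {p n : ℕ} (hp : p.Prime) (hp5 : 5 ≤ p) (hcard : Nat.card G = p ^ n)
    (U : AddMonoid.End G) (hU : U ^ p = 1) (K : AddSubgroup G)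
    (hK : ∀ a, a ∈ K ↔ ∃ b, p • b = a) (hidx : Nat.card G = p ^ 2 * Nat.card K)
    (htor : ∀ a : G, p • a = 0 → a ∈ K) (a : G) : (U - 1) a ∈ K := by
  obtain ⟨N, hN⟩ : ∃ N : AddMonoid.End G, N = U - 1 := ⟨_, rfl⟩
  rw [← hN]
  have hUN : N + 1 = U := by rw [hN, sub_add_cancel]
  have hNK : ∀ f : AddMonoid.End G, ∀ c ∈ K, f c ∈ K := by
    intro f c hc
    obtain ⟨b, rfl⟩ := (hK c).mp hc
    rw [map_nsmul]
    exact (hK _).mpr ⟨f b, rfl⟩
  -- the expansion
  have hstar : ∀ a : G, 0 = ∑ m ∈ Finset.range (p - 1), (p.choose (m + 1)) • (N ^ (m + 1)) a +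
      (N ^ p) a := by
    intro a
    have h1 := binom_apply N p a
    rw [hUN, hU, end_apply_one, Finset.sum_range_succ, Nat.choose_self, one_smul] at h1
    have hp1 : p = (p - 1) + 1 := by have := hp.two_le; omega
    rw [hp1, Finset.sum_range_succ', ← hp1] at h1
    simp only [Nat.choose_zero_right, pow_zero, one_smul, end_apply_one] at h1
    have h2 : a = a + (∑ m ∈ Finset.range (p - 1), (p.choose (m + 1)) • (N ^ (m + 1)) a +
        (N ^ p) a) := by
      conv_lhs => rw [h1]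
      abel
    exact (add_eq_left.mp h2.symm).symm
  have hdvd : ∀ m, m < p - 1 → p ∣ p.choose (m + 1) := by
    intro m hm
    exact hp.dvd_choose_self (Nat.succ_ne_zero m) (by omega)
  -- step 1
  have hq : ∀ a, (N ^ p) a ∈ K := by
    intro a
    have h1 := hstar a
    have h2 : (N ^ p) a = -∑ m ∈ Finset.range (p - 1), (p.choose (m + 1)) • (N ^ (m + 1)) a := by
      rw [eq_neg_iff_add_eq_zero, add_comm]
      exact h1.symm
    rw [h2]
    apply K.neg_mem
    apply K.sum_mem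
    intro m hm
    obtain ⟨c, hc⟩ := hdvd m (Finset.mem_range.mp hm)
    rw [hc, mul_smul]
    exact (hK _).mpr ⟨_, rfl⟩
  -- step 2
  have hsq : ∀ a, N (N a) ∈ K := sq_mem hp hcard N K (hNK N) p hq hidx
  -- step 3
  let K2 : AddSubgroup G := AddMonoidHom.range (nsmulAddMonoidHom (p ^ 2) : G →+ G)
  have hK2 : ∀ x, x ∈ K2 ↔ ∃ c, (p ^ 2) • c = x := by
    intro x
    show x ∈ AddMonoidHom.range (nsmulAddMonoidHom (p ^ 2) : G →+ G) ↔ _
    rw [AddMonoidHom.mem_range]
    rfl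
  have hpowsq : ∀ (m : ℕ) (a : G), ∃ y, (N ^ (m + 2)) a = p • y := by
    intro m a
    obtain ⟨b, hb⟩ := (hK _).mp (hsq a)
    refine ⟨(N ^ m) b, ?_⟩
    rw [end_pow_add_apply, pow_two, end_apply_mul, ← hb, map_nsmul]
  have hfour : ∀ (m : ℕ) (a : G), (N ^ (m + 4)) a ∈ K2 := by
    intro m a
    obtain ⟨b, hb⟩ := (hK _).mp (hsq a)
    obtain ⟨b', hb'⟩ := (hK _).mp (hsq b)
    rw [hK2]
    refine ⟨(N ^ m) b', ?_⟩
    have e : (N ^ 4) a = N (N (N (N a))) := by
      rw [show (4 : ℕ) = 1 + 1 + 1 + 1 from rfl, pow_succ, pow_succ, pow_succ, pow_one]; rfl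
    rw [end_pow_add_apply, e, ← hb, map_nsmul, map_nsmul, ← hb', pow_two, mul_smul, map_nsmul,
      map_nsmul]
  have h1 := hstar a
  have hp2 : p - 1 = (p - 2) + 1 := by omega
  rw [hp2, Finset.sum_range_succ'] at h1
  simp only [zero_add, Nat.choose_one_right, pow_one] at h1
  have hmid : ∑ m ∈ Finset.range (p - 2), (p.choose (m + 1 + 1)) • (N ^ (m + 1 + 1)) a ∈ K2 := by
    apply K2.sum_mem
    intro m hm
    have hm' := Finset.mem_range.mp hm
    obtain ⟨c, hc⟩ := hdvd (m + 1) (by omega)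
    obtain ⟨y, hy⟩ := hpowsq m a
    rw [hK2]
    refine ⟨c • y, ?_⟩
    rw [hc, show m + 1 + 1 = m + 2 from rfl, hy, pow_two, mul_smul, mul_smul, smul_comm c p y]
  have hlast : (N ^ p) a ∈ K2 := by
    have : p = (p - 4) + 4 := by omega
    rw [this]
    exact hfour _ a
  have hpN : p • N a ∈ K2 := by
    have : p • N a = -(∑ m ∈ Finset.range (p - 2), (p.choose (m + 1 + 1)) • (N ^ (m + 1 + 1)) a)
        - (N ^ p) a := by
      rw [eq_sub_iff_add_eq, eq_neg_iff_add_eq_zero]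
      have h1' := h1.symm
      rw [← h1']
      abel
    rw [this]
    exact K2.sub_mem (K2.neg_mem hmid) hlast
  obtain ⟨c, hc⟩ := (hK2 _).mp hpN
  have h3 : p • (N a - p • c) = 0 := by
    rw [smul_sub, ← hc, pow_two, mul_smul, sub_self]
  have h4 := htor _ h3
  have : N a = (N a - p • c) + p • c := by abel
  rw [this]
  exact K.add_mem h4 ((hK _).mpr ⟨c, rfl⟩)

end Cfsg.Agent.Lib.Helper27.AbAutLift
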