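import Mathlib
import Cfsg.Agent.Lib.Helper1.Frat
import Cfsg.Agent.Lib.Helper1.BurnsideBasis
import Cfsg.Agent.Lib.Helper27.AbAutLift

set_option autoImplicit false

namespace Cfsg.Agent.Lib.Helper27.AbAut

variable {H : Type*} [CommGroup H]

/-- the subgroup of `n`-th powers -/
def pw (n : ℕ) : Subgroup H := (powMonoidHom n : H →* H).range

/-- the subgroup of elements killed by `n` -/
def kr (n : ℕ) : Subgroup H := (powMonoidHom n : H →* H).ker

theorem mem_pw {n : ℕ} {x : H} : x ∈ pw n ↔ ∃ y : H, y ^ n = x := by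
  unfold pw
  rw [MonoidHom.mem_range]
  rfl

theorem mem_kr {n : ℕ} {x : H} : x ∈ kr n ↔ x ^ n = 1 := by
  unfold kr
  rw [MonoidHom.mem_ker]
  rfl

theorem pow_mem_pw (n : ℕ) (x : H) : x ^ n ∈ pw n := mem_pw.mpr ⟨x, rfl⟩

theorem aut_mem_pw {n : ℕ} (φ : MulAut H) {x : H} (hx : x ∈ pw n) : φ x ∈ pw n := by
  obtain ⟨y, rfl⟩ := mem_pw.mp hx
  rw [map_pow]
  exact pow_mem_pw n _

theorem aut_mem_kr {n : ℕ} (φ : MulAut H) {x : H} (hx : x ∈ kr n) : φ x ∈ kr n := by
  rw [mem_kr] at hx ⊢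
  rw [← map_pow, hx, map_one]

theorem frattini_eq_pw [Finite H] {p : ℕ} [Fact p.Prime] (hH : IsPGroup p H) :
    frattini H = pw p := by
  apply le_antisymm
  · haveI : (pw p : Subgroup H).Normal := Subgroup.normal_of_isMulCommutative _
    apply Cfsg.Agent.Lib.Helper1.frattini_le_of_elementary_quotient (p := p) (pw p)
    · rw [commutator_def, Subgroup.commutator_le]
      intro a _ b _
      rw [commutatorElement_eq_one_iff_commute.mpr (Commute.all a b)]
      exact Subgroup.one_mem _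
    · intro x
      exact pow_mem_pw p x
  · intro x hx
    obtain ⟨y, rfl⟩ := mem_pw.mp hx
    exact Cfsg.Agent.Lib.Helper1.pgroup_pow_mem_frattini hH y

theorem aut_mem_frattini (φ : MulAut H) {x : H} (hx : x ∈ frattini H) : φ x ∈ frattini H := by
  have h := (frattini_characteristic (G := H)).fixed φ⁻¹
  rw [← h, Subgroup.mem_comap]
  simpa using hx

/-- the defect map `x ↦ φ x * x⁻¹` is a homomorphism -/
def df (φ : MulAut H) : H →* H where
  toFun x := φ x * x⁻¹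
  map_one' := by simp
  map_mul' a b := by
    rw [map_mul, mul_inv]
    exact mul_mul_mul_comm _ _ _ _

@[simp] theorem df_apply (φ : MulAut H) (x : H) : df φ x = φ x * x⁻¹ := rfl

theorem aut_eq (φ : MulAut H) (x : H) : φ x = x * df φ x := by
  rw [df_apply, mul_comm, inv_mul_cancel_right]

/-- `φ^j x * x⁻¹` lies in an invariant subgroup as soon as `φ x * x⁻¹` does for all `x`. -/
theorem pow_df_mem (φ : MulAut H) (K : Subgroup H) (hK : ∀ x ∈ K, φ x ∈ K)
    (h : ∀ x, φ x * x⁻¹ ∈ K) (j : ℕ) (x : H) : (φ ^ j) x * x⁻¹ ∈ K := by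
  induction j with
  | zero => simp
  | succ j ih =>
    have e : (φ ^ (j + 1)) x * x⁻¹ = φ ((φ ^ j) x * x⁻¹) * (φ x * x⁻¹) := by
      rw [pow_succ', MulAut.mul_apply, map_mul, map_inv]
      rw [mul_assoc, inv_mul_cancel_left]
    rw [e]
    exact K.mul_mem (hK _ ih) (h x)

theorem eq_one_of_coprime_of_frattini [Finite H] {p : ℕ} [Fact p.Prime] (hH : IsPGroup p H)
    (φ : MulAut H) (hcop : (orderOf φ).Coprime p)
    (htriv : ∀ x, φ x * x⁻¹ ∈ frattini H) : φ = 1 := by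
  classical
  set m := orderOf φ with hm
  have hm1 : φ ^ m = 1 := pow_orderOf_eq_one φ
  let C : Subgroup H :=
    { carrier := {x | φ x = x}
      one_mem' := map_one φ
      mul_mem' := by
        intro a b ha hb
        show φ (a * b) = a * b
        rw [map_mul, ha, hb]
      inv_mem' := by
        intro a ha
        show φ a⁻¹ = a⁻¹
        rw [map_inv, ha] }
  have key : ∀ x : H, x ^ m ∈ C ⊔ frattini H := by
    intro x
    set c : H := ∏ j ∈ Finset.range m, (φ ^ j) x with hc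
    have hcC : c ∈ C := by
      show φ c = c
      rw [hc, map_prod]
      have e1 : ∀ j ∈ Finset.range m, φ ((φ ^ j) x) = (φ ^ (j + 1)) x := by
        intro j _
        rw [pow_succ', MulAut.mul_apply]
      rw [Finset.prod_congr rfl e1]
      have e2 := Finset.prod_range_succ' (fun j => (φ ^ j) x) m
      have e3 := Finset.prod_range_succ (fun j => (φ ^ j) x) m
      rw [e3] at e2
      simp only [hm1, pow_zero, MulAut.one_apply] at e2
      exact (mul_right_cancel e2).symm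
    have hf : c * (x ^ m)⁻¹ ∈ frattini H := by
      have e : c * (x ^ m)⁻¹ = ∏ j ∈ Finset.range m, ((φ ^ j) x * x⁻¹) := by
        rw [Finset.prod_mul_distrib, Finset.prod_const, Finset.card_range, inv_pow]
      rw [e]
      apply Subgroup.prod_mem
      intro j _
      exact pow_df_mem φ (frattini H) (fun y hy => aut_mem_frattini φ hy) htriv j x
    have e : x ^ m = c * (c * (x ^ m)⁻¹)⁻¹ := by
      rw [mul_inv, inv_inv, mul_inv_cancel_left]
    rw [e]
    exact Subgroup.mul_mem_sup hcC ((frattini H).inv_mem hf)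
  have hcard : (Nat.card H).Coprime m := by
    obtain ⟨n, hn⟩ := hH.exists_card_eq
    rw [hn]
    exact (Nat.Coprime.pow_left n hcop.symm)
  have htop : C ⊔ frattini H = ⊤ := by
    rw [eq_top_iff]
    intro x _
    obtain ⟨y, hy⟩ := (powCoprime hcard).surjective x
    have : y ^ m = x := hy
    rw [← this]
    exact key y
  have hC : C = ⊤ := frattini_nongenerating htop
  ext x
  have : x ∈ C := hC ▸ Subgroup.mem_top x
  exact this

/-- an automorphism acting trivially on the Frattini quotient has `p`-power order -/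
theorem pow_eq_one_of_frattini [Finite H] {p : ℕ} [hp : Fact p.Prime] (hH : IsPGroup p H)
    (φ : MulAut H) (htriv : ∀ x, φ x * x⁻¹ ∈ frattini H) : ∃ j : ℕ, φ ^ (p ^ j) = 1 := by
  obtain ⟨j, m, hm, hn⟩ := Nat.exists_eq_pow_mul_and_not_dvd (orderOf_pos φ).ne' p hp.out.ne_one
  refine ⟨j, ?_⟩
  obtain ⟨ψ, hψ⟩ : ∃ ψ : MulAut H, ψ = φ ^ (p ^ j) := ⟨_, rfl⟩
  rw [← hψ]
  have hψm : ψ ^ m = 1 := by
    rw [hψ, ← pow_mul, ← hn, pow_orderOf_eq_one]
  have hcop : (orderOf ψ).Coprime p := by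
    have h1 : orderOf ψ ∣ m := orderOf_dvd_of_pow_eq_one hψm
    exact Nat.Coprime.coprime_dvd_left h1 ((Nat.Prime.coprime_iff_not_dvd hp.out).mpr hm).symm
  apply eq_one_of_coprime_of_frattini hH ψ hcop
  intro x
  rw [hψ]
  exact pow_df_mem φ (frattini H) (fun y hy => aut_mem_frattini φ hy) htriv _ x

/-- if `φ` is trivial on `H/X` and on `X/Y` and `X^p ≤ Y` then `φ^p` is trivial on `H/Y` -/
theorem pow_p_df_mem (p : ℕ) (φ : MulAut H) (X Y : Subgroup H) (hY : ∀ x ∈ Y, φ x ∈ Y)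
    (h1 : ∀ x, φ x * x⁻¹ ∈ X) (h2 : ∀ x ∈ X, φ x * x⁻¹ ∈ Y) (hpw : ∀ x ∈ X, x ^ p ∈ Y) (x : H) :
    (φ ^ p) x * x⁻¹ ∈ Y := by
  have key : ∀ n : ℕ, ∃ y ∈ Y, (φ ^ n) x = x * (df φ x) ^ n * y := by
    intro n
    induction n with
    | zero => exact ⟨1, Y.one_mem, by simp⟩
    | succ n ih =>
      obtain ⟨y, hy, he⟩ := ih
      refine ⟨(df φ (df φ x)) ^ n * φ y, Y.mul_mem (Y.pow_mem (h2 _ (h1 x)) n) (hY y hy), ?_⟩
      rw [pow_succ', MulAut.mul_apply, he, map_mul, map_mul, map_pow, aut_eq φ x,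
        aut_eq φ (df φ x), mul_pow, pow_succ]
      simp only [df_apply]
      ac_rfl
  obtain ⟨y, hy, he⟩ := key p
  rw [he]
  have : x * df φ x ^ p * y * x⁻¹ = df φ x ^ p * y := by
    rw [mul_comm x, mul_assoc, mul_assoc, mul_comm x, mul_assoc, inv_mul_cancel, mul_one]
  rw [this]
  exact Y.mul_mem (hpw _ (h1 x)) hy

theorem zpow_mem_imp_dvd {p : ℕ} [hp : Fact p.Prime] (Y : Subgroup H) (x₀ : H) (hx₀ : x₀ ∉ Y)
    (hxp : x₀ ^ p ∈ Y) (k : ℤ) (hk : x₀ ^ k ∈ Y) : (p : ℤ) ∣ k := by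
  by_contra hnd
  have hcop : IsCoprime k (p : ℤ) := by
    rw [Int.isCoprime_iff_gcd_eq_one]
    have := (Nat.Prime.coprime_iff_not_dvd hp.out).mpr (fun h : p ∣ k.natAbs => hnd (Int.natCast_dvd.mpr h))
    rw [Int.gcd, Int.natAbs_natCast]
    exact this.symm
  obtain ⟨a, b, hab⟩ := hcop
  apply hx₀
  have : x₀ = (x₀ ^ k) ^ a * (x₀ ^ p) ^ b := by
    rw [← zpow_natCast x₀ p, ← zpow_mul, ← zpow_mul, ← zpow_add, mul_comm k a, mul_comm (p : ℤ) b,
      hab, zpow_one]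
  rw [this]
  exact Y.mul_mem (Y.zpow_mem hk a) (Y.zpow_mem hxp b)

/-- an automorphism of `p`-power order (here `u^p = 1`) acts trivially on an invariant section
of order at most `p`. -/
theorem df_mem_of_card_le [Finite H] {p : ℕ} [hp : Fact p.Prime] (hH : IsPGroup p H)
    (u : MulAut H) (hu : u ^ p = 1) (X Y : Subgroup H) (hYX : Y ≤ X)
    (hX : ∀ x ∈ X, u x ∈ X) (hY : ∀ x ∈ Y, u x ∈ Y) (hpw : ∀ x ∈ X, x ^ p ∈ Y)
    (hcard : Nat.card X ≤ p * Nat.card Y) : ∀ x ∈ X, u x * x⁻¹ ∈ Y := by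
  by_cases hXY : X ≤ Y
  · intro x hx
    exact hXY (X.mul_mem (hX x hx) (X.inv_mem hx))
  obtain ⟨x₀, hx₀X, hx₀Y⟩ := SetLike.not_le_iff_exists.mp hXY
  set T := Y ⊔ Subgroup.zpowers x₀ with hT
  have hTX : T ≤ X := sup_le hYX (by rw [Subgroup.zpowers_le]; exact hx₀X)
  have hYT : Y < T := by
    refine lt_of_le_of_ne le_sup_left ?_
    intro h
    apply hx₀Y
    rw [h]
    exact Subgroup.mem_sup_right (Subgroup.mem_zpowers x₀)
  have hTeq : T = X := by
    apply Subgroup.eq_of_le_of_card_ge hTX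
    obtain ⟨a, ha⟩ := (hH.to_subgroup Y).exists_card_eq
    obtain ⟨b, hb⟩ := (hH.to_subgroup T).exists_card_eq
    have hlt : Nat.card Y < Nat.card T :=
      lt_of_not_ge fun hge => hYT.ne (Subgroup.eq_of_le_of_card_ge hYT.le hge)
    rw [ha, hb] at hlt
    have hab : a < b := (Nat.pow_lt_pow_iff_right hp.out.one_lt).mp hlt
    have : p * p ^ a ≤ p ^ b := by
      rw [← pow_succ']
      exact Nat.pow_le_pow_right hp.out.pos hab
    rw [ha] at hcard
    rw [hb]
    omega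
  have hdec : ∀ x ∈ X, ∃ y ∈ Y, ∃ k : ℤ, x = y * x₀ ^ k := by
    intro x hx
    rw [← hTeq, hT, Subgroup.mem_sup] at hx
    obtain ⟨y, hy, z, hz, rfl⟩ := hx
    obtain ⟨k, rfl⟩ := Subgroup.mem_zpowers_iff.mp hz
    exact ⟨y, hy, k, rfl⟩
  obtain ⟨y₀, hy₀, c, hc⟩ := hdec (u x₀) (hX x₀ hx₀X)
  have hYpow : ∀ (n : ℕ), ∀ x ∈ Y, (u ^ n) x ∈ Y := by
    intro n
    induction n with
    | zero => intro x hx; simpa using hx
    | succ n ih =>
      intro x hx
      rw [pow_succ', MulAut.mul_apply]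
      exact hY _ (ih x hx)
  have key : ∀ n : ℕ, ∃ y ∈ Y, (u ^ n) x₀ = y * x₀ ^ (c ^ n) := by
    intro n
    induction n with
    | zero => exact ⟨1, Y.one_mem, by simp⟩
    | succ n ih =>
      obtain ⟨y, hy, he⟩ := ih
      refine ⟨u y * y₀ ^ (c ^ n), Y.mul_mem (hY y hy) (Y.zpow_mem hy₀ _), ?_⟩
      rw [pow_succ', MulAut.mul_apply, he, map_mul, map_zpow, hc, mul_zpow, ← zpow_mul, pow_succ',
        mul_assoc]
  obtain ⟨y, hy, he⟩ := key p
  rw [hu, MulAut.one_apply] at he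
  have h1 : x₀ ^ (c ^ p - 1) ∈ Y := by
    have : x₀ ^ (c ^ p - 1) = y⁻¹ := by
      rw [zpow_sub, zpow_one]
      nth_rewrite 2 [he]
      rw [mul_inv, mul_comm y⁻¹, ← mul_assoc, mul_inv_cancel, one_mul]
    rw [this]
    exact Y.inv_mem hy
  have h2 : (p : ℤ) ∣ c ^ p - 1 := zpow_mem_imp_dvd Y x₀ hx₀Y (hpw x₀ hx₀X) _ h1
  have h3 : (p : ℤ) ∣ c - 1 := by
    have e1 : ((c ^ p - 1 : ℤ) : ZMod p) = 0 := (ZMod.intCast_zmod_eq_zero_iff_dvd _ p).mpr h2
    have e2 : ((c - 1 : ℤ) : ZMod p) = 0 := by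
      push_cast at e1 ⊢
      rw [ZMod.pow_card] at e1
      exact e1
    exact (ZMod.intCast_zmod_eq_zero_iff_dvd _ p).mp e2
  have h4 : u x₀ * x₀⁻¹ ∈ Y := by
    obtain ⟨t, ht⟩ := h3
    have : u x₀ * x₀⁻¹ = y₀ * (x₀ ^ p) ^ t := by
      rw [hc, ← zpow_natCast x₀ p, ← zpow_mul, ← ht, zpow_sub, zpow_one, mul_assoc]
    rw [this]
    exact Y.mul_mem hy₀ (Y.zpow_mem (hpw x₀ hx₀X) t)
  intro x hx
  obtain ⟨y, hy, k, rfl⟩ := hdec x hx
  have : u (y * x₀ ^ k) * (y * x₀ ^ k)⁻¹ = (u y * y⁻¹) * (u x₀ * x₀⁻¹) ^ k := by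
    rw [map_mul, map_zpow, mul_zpow, mul_inv, inv_zpow]
    ac_rfl
  rw [this]
  exact Y.mul_mem (Y.mul_mem (hY y hy) (Y.inv_mem hy)) (Y.zpow_mem h4 k)

/-- automorphisms in `A` acting trivially on `H/X` and on `X/Y` -/
def stab2 (A : Subgroup (MulAut H)) (X Y : Subgroup H) (hX : ∀ φ ∈ A, ∀ x ∈ X, φ x ∈ X)
    (hY : ∀ φ ∈ A, ∀ x ∈ Y, φ x ∈ Y) : Subgroup A where
  carrier := {φ | (∀ x, (φ : MulAut H) x * x⁻¹ ∈ X) ∧ ∀ x ∈ X, (φ : MulAut H) x * x⁻¹ ∈ Y}
  one_mem' := by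
    constructor
    · intro x; simp
    · intro x _; simp
  mul_mem' := by
    rintro φ ψ ⟨ha1, ha2⟩ ⟨hb1, hb2⟩
    have e : ∀ x, ((φ * ψ : A) : MulAut H) x * x⁻¹ =
        (φ : MulAut H) ((ψ : MulAut H) x * x⁻¹) * ((φ : MulAut H) x * x⁻¹) := by
      intro x
      rw [Subgroup.coe_mul, MulAut.mul_apply, map_mul, map_inv, mul_assoc, inv_mul_cancel_left]
    constructor
    · intro x
      rw [e]
      exact X.mul_mem (hX _ φ.2 _ (hb1 x)) (ha1 x)
    · intro x hx
      rw [e]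
      exact Y.mul_mem (hY _ φ.2 _ (hb2 x hx)) (ha2 x hx)
  inv_mem' := by
    rintro φ ⟨ha1, ha2⟩
    have e : ∀ x, ((φ⁻¹ : A) : MulAut H) x * x⁻¹ =
        ((φ : MulAut H) ((φ : MulAut H)⁻¹ x) * ((φ : MulAut H)⁻¹ x)⁻¹)⁻¹ := by
      intro x
      rw [Subgroup.coe_inv, MulAut.apply_inv_self, mul_inv, inv_inv, mul_comm]
    constructor
    · intro x
      rw [e]
      exact X.inv_mem (ha1 _)
    · intro x hx
      rw [e]
      exact Y.inv_mem (ha2 _ (hX _ (A.inv_mem φ.2) x hx))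

theorem mem_stab2 {A : Subgroup (MulAut H)} {X Y : Subgroup H} {hX : ∀ φ ∈ A, ∀ x ∈ X, φ x ∈ X}
    {hY : ∀ φ ∈ A, ∀ x ∈ Y, φ x ∈ Y} {φ : A} :
    φ ∈ stab2 A X Y hX hY ↔
      (∀ x, (φ : MulAut H) x * x⁻¹ ∈ X) ∧ ∀ x ∈ X, (φ : MulAut H) x * x⁻¹ ∈ Y := Iff.rfl

theorem stab2_normal (A : Subgroup (MulAut H)) (X Y : Subgroup H) (hX : ∀ φ ∈ A, ∀ x ∈ X, φ x ∈ X)
    (hY : ∀ φ ∈ A, ∀ x ∈ Y, φ x ∈ Y) : (stab2 A X Y hX hY).Normal := by
  refine ⟨fun φ hφ ψ => ?_⟩
  obtain ⟨h1, h2⟩ := hφ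
  have e : ∀ x, ((ψ * φ * ψ⁻¹ : A) : MulAut H) x * x⁻¹ =
      (ψ : MulAut H) ((φ : MulAut H) ((ψ : MulAut H)⁻¹ x) * ((ψ : MulAut H)⁻¹ x)⁻¹) := by
    intro x
    rw [Subgroup.coe_mul, Subgroup.coe_mul, Subgroup.coe_inv, MulAut.mul_apply, MulAut.mul_apply,
      map_mul, map_inv, MulAut.apply_inv_self]
  constructor
  · intro x
    rw [e]
    exact hX _ ψ.2 _ (h1 _)
  · intro x hx
    rw [e]
    exact hY _ ψ.2 _ (h2 _ (hX _ (A.inv_mem ψ.2) x hx))

theorem stab2_isPGroup [Finite H] {p : ℕ} [hp : Fact p.Prime] (hH : IsPGroup p H)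
    (A : Subgroup (MulAut H)) (X Y : Subgroup H) (hX : ∀ φ ∈ A, ∀ x ∈ X, φ x ∈ X)
    (hY : ∀ φ ∈ A, ∀ x ∈ Y, φ x ∈ Y) (hYF : Y ≤ frattini H) (hpw : ∀ x ∈ X, x ^ p ∈ Y) :
    IsPGroup p (stab2 A X Y hX hY) := by
  rintro ⟨φ, h1, h2⟩
  have h3 : ∀ x, ((φ : MulAut H) ^ p) x * x⁻¹ ∈ frattini H := fun x =>
    hYF (pow_p_df_mem p (φ : MulAut H) X Y (hY _ φ.2) h1 h2 hpw x)
  obtain ⟨j, hj⟩ := pow_eq_one_of_frattini hH _ h3
  refine ⟨j + 1, ?_⟩
  apply Subtype.ext
  apply Subtype.ext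
  show (φ : MulAut H) ^ (p ^ (j + 1)) = 1
  rw [pow_succ', pow_mul, hj]

theorem exists_exp [Finite H] [Nontrivial H] {p : ℕ} [hp : Fact p.Prime] (hH : IsPGroup p H) :
    ∃ e : ℕ, 1 ≤ e ∧ (∀ x : H, x ^ (p ^ e) = 1) ∧ ∃ x : H, x ^ (p ^ (e - 1)) ≠ 1 := by
  obtain ⟨n, hn⟩ := hH.exists_card_eq
  have hdvd : Monoid.exponent H ∣ p ^ n := hn ▸ Group.exponent_dvd_nat_card
  obtain ⟨e, -, he⟩ := (Nat.dvd_prime_pow hp.out).mp hdvd
  have he0 : e ≠ 0 := by
    rintro rfl
    rw [pow_zero, Monoid.exp_eq_one_iff] at he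
    exact not_subsingleton H he
  refine ⟨e, Nat.one_le_iff_ne_zero.mpr he0, fun x => he ▸ Monoid.pow_exponent_eq_one x, ?_⟩
  by_contra hcon
  push Not at hcon
  have h1 : Monoid.exponent H ∣ p ^ (e - 1) := Monoid.exponent_dvd_of_forall_pow_eq_one hcon
  rw [he] at h1
  have h2 := (Nat.pow_dvd_pow_iff_le_right hp.out.one_lt).mp h1
  omega

theorem caseB [Finite H] {p : ℕ} [hp : Fact p.Prime] (hH : IsPGroup p H) (A : Subgroup (MulAut H))
    (h2 : ∀ B : Subgroup A, B.Normal → IsPGroup p B → B = ⊥)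
    (u : MulAut H) (huA : u ∈ A) (hu : u ^ p = 1) (hu1 : u ≠ 1)
    (M : Subgroup H) (hM : ∀ φ ∈ A, ∀ x ∈ M, φ x ∈ M) (hFM : frattini H ≤ M)
    (hc1 : Nat.card H ≤ p * Nat.card M) (hc2 : Nat.card M ≤ p * Nat.card (frattini H)) : False := by
  have hΦ : ∀ φ ∈ A, ∀ x ∈ frattini H, φ x ∈ frattini H := fun φ _ x hx => aut_mem_frattini φ hx
  have hpwM : ∀ x ∈ M, x ^ p ∈ frattini H := fun x _ =>
    Cfsg.Agent.Lib.Helper1.pgroup_pow_mem_frattini hH x
  have hB := h2 (stab2 A M (frattini H) hM hΦ) (stab2_normal A M _ hM hΦ)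
    (stab2_isPGroup hH A M _ hM hΦ le_rfl hpwM)
  have huB : (⟨u, huA⟩ : A) ∈ stab2 A M (frattini H) hM hΦ := by
    rw [mem_stab2]
    constructor
    · intro x
      have := df_mem_of_card_le hH u hu ⊤ M le_top (fun _ _ => Subgroup.mem_top _) (hM u huA)
        (fun x _ => hFM (Cfsg.Agent.Lib.Helper1.pgroup_pow_mem_frattini hH x))
        (by rw [Subgroup.card_top]; exact hc1) x (Subgroup.mem_top x)
      exact this
    · exact df_mem_of_card_le hH u hu M (frattini H) hFM (hM u huA) (hΦ u huA) hpwM hc2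
  rw [hB, Subgroup.mem_bot] at huB
  apply hu1
  have := congrArg Subtype.val huB
  exact this

/-- no lift of a "transvection" of order `p ≥ 5` to a homocyclic group of exponent `≥ p²` -/
theorem lift_mul [Finite H] {p : ℕ} [hp : Fact p.Prime] (hH : IsPGroup p H) (hp5 : 5 ≤ p)
    (u : MulAut H) (hu : u ^ p = 1)
    (hidx : Nat.card H = p ^ 2 * Nat.card (frattini H))
    (htor : ∀ x : H, x ^ p = 1 → x ∈ frattini H) (x : H) : u x * x⁻¹ ∈ frattini H := by
  obtain ⟨n, hn⟩ := hH.exists_card_eq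
  let U : AddMonoid.End (Additive H) := MonoidHom.toAdditive u.toMonoidHom
  have hUa : ∀ a : Additive H, U a = Additive.ofMul (u a.toMul) := fun a => rfl
  have hUpow : ∀ (k : ℕ) (a : Additive H), (U ^ k) a = Additive.ofMul ((u ^ k) a.toMul) := by
    intro k
    induction k with
    | zero => intro a; rfl
    | succ k ih =>
      intro a
      rw [pow_succ', AbAutLift.end_apply_mul, ih, hUa, pow_succ', MulAut.mul_apply]
      rfl
  have hU : U ^ p = 1 := by
    ext a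
    rw [hUpow, hu]
    rfl
  let K : AddSubgroup (Additive H) := Subgroup.toAddSubgroup (frattini H)
  have hKmem : ∀ a : Additive H, a ∈ K ↔ a.toMul ∈ frattini H := fun a => Iff.rfl
  have hK : ∀ a : Additive H, a ∈ K ↔ ∃ b : Additive H, p • b = a := by
    intro a
    rw [hKmem, frattini_eq_pw hH, mem_pw]
    constructor
    · rintro ⟨y, hy⟩
      exact ⟨Additive.ofMul y, by rw [← ofMul_pow, hy]; rfl⟩
    · rintro ⟨b, rfl⟩
      exact ⟨b.toMul, rfl⟩
  have hcardK : Nat.card K = Nat.card (frattini H) := rfl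
  have hcardG : Nat.card (Additive H) = Nat.card H := rfl
  have key := AbAutLift.lift_key (G := Additive H) hp.out hp5 (hcardG.trans hn) U hU K hK
    (by rw [hcardG, hcardK]; exact hidx)
    (by
      intro a ha
      rw [hKmem]
      apply htor
      have : (p • a).toMul = a.toMul ^ p := rfl
      rw [← this, ha]
      rfl)
    (Additive.ofMul x)
  rw [hKmem] at key
  have e : ((U - 1) (Additive.ofMul x)).toMul = u x * x⁻¹ := by
    rw [AbAutLift.end_apply_sub, hUa, AbAutLift.end_apply_one]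
    rw [← div_eq_mul_inv]
    rfl
  rw [e] at key
  exact key

theorem homocyclic_iso [Finite H] {p : ℕ} [hp : Fact p.Prime] (hH : IsPGroup p H) (e : ℕ)
    (hexp : ∀ x : H, x ^ (p ^ e) = 1) (hM : kr (p ^ (e - 1)) = frattini H) (he : 1 ≤ e)
    (hidx : Nat.card H = p ^ 2 * Nat.card (frattini H)) :
    Nonempty (H ≃* Multiplicative (ZMod (p ^ e) × ZMod (p ^ e))) := by
  have hp1 : 1 < p := hp.out.one_lt
  have hΦpos : 0 < Nat.card (frattini H) := Nat.card_pos
  have hpowΦ : ∀ x : H, x ^ p ∈ frattini H := Cfsg.Agent.Lib.Helper1.pgroup_pow_mem_frattini hH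
  -- choose x
  have h1 : ∃ x : H, x ∉ frattini H := by
    by_contra hcon
    push Not at hcon
    have : frattini H = ⊤ := by rw [eq_top_iff]; intro x _; exact hcon x
    rw [this, Subgroup.card_top] at hidx
    have : 1 < p ^ 2 := Nat.one_lt_pow (by norm_num) hp1
    have hHpos : 0 < Nat.card H := Nat.card_pos
    nlinarith
  obtain ⟨x, hx⟩ := h1
  set T₁ := frattini H ⊔ Subgroup.zpowers x with hT₁
  have hc1 : Nat.card T₁ = p * Nat.card (frattini H) :=
    Cfsg.Agent.Lib.Helper1.card_sup_zpowers_of_not_mem hH _ le_rfl x hx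
  have h2 : ∃ y : H, y ∉ T₁ := by
    by_contra hcon
    push Not at hcon
    have : T₁ = ⊤ := by rw [eq_top_iff]; intro x _; exact hcon x
    rw [this, Subgroup.card_top, hidx] at hc1
    have : p ^ 2 = p := Nat.eq_of_mul_eq_mul_right hΦpos hc1
    have : p < p ^ 2 := by nlinarith
    omega
  obtain ⟨y, hy⟩ := h2
  have hc2 : Nat.card (T₁ ⊔ Subgroup.zpowers y : Subgroup H) = p * Nat.card T₁ :=
    Cfsg.Agent.Lib.Helper1.card_sup_zpowers_of_not_mem hH _ le_sup_left y hy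
  have hT₂ : T₁ ⊔ Subgroup.zpowers y = ⊤ := by
    apply Subgroup.eq_top_of_card_eq
    rw [hc2, hc1, hidx]
    ring
  have hgen : Subgroup.zpowers x ⊔ Subgroup.zpowers y = ⊤ := by
    apply frattini_nongenerating
    rw [← hT₂, hT₁]
    rw [sup_comm (frattini H), sup_assoc, sup_assoc, sup_comm (frattini H)]
  -- independence mod Frattini
  have hind : ∀ a b : ℤ, x ^ a * y ^ b ∈ frattini H → (p : ℤ) ∣ a ∧ (p : ℤ) ∣ b := by
    intro a b hab
    have hyb : y ^ b ∈ T₁ := by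
      have : y ^ b = (x ^ a)⁻¹ * (x ^ a * y ^ b) := by rw [inv_mul_cancel_left]
      rw [this]
      exact T₁.mul_mem (T₁.inv_mem (T₁.zpow_mem
        (Subgroup.mem_sup_right (Subgroup.mem_zpowers x)) a)) (Subgroup.mem_sup_left hab)
    have hb : (p : ℤ) ∣ b := zpow_mem_imp_dvd T₁ y hy (Subgroup.mem_sup_left (hpowΦ y)) b hyb
    refine ⟨?_, hb⟩
    obtain ⟨t, rfl⟩ := hb
    have hyΦ : y ^ ((p : ℤ) * t) ∈ frattini H := by
      rw [zpow_mul, zpow_natCast]
      exact (frattini H).zpow_mem (hpowΦ y) t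
    have hxa : x ^ a ∈ frattini H := by
      have : x ^ a = (x ^ a * y ^ ((p : ℤ) * t)) * (y ^ ((p : ℤ) * t))⁻¹ := by
        rw [mul_inv_cancel_right]
      rw [this]
      exact (frattini H).mul_mem hab ((frattini H).inv_mem hyΦ)
    exact zpow_mem_imp_dvd (frattini H) x hx (hpowΦ x) a hxa
  -- the kernel
  have hker : ∀ t : ℕ, t ≤ e → ∀ i j : ℤ, x ^ i * y ^ j = 1 →
      ((p : ℤ) ^ t ∣ i) ∧ ((p : ℤ) ^ t ∣ j) := by
    intro t
    induction t with
    | zero => intro _ i j _; simp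
    | succ t ih =>
      intro hte i j hij
      obtain ⟨⟨i', rfl⟩, ⟨j', rfl⟩⟩ := ih (by omega) i j hij
      set w := x ^ i' * y ^ j' with hw
      have hwt : w ^ (p ^ t) = 1 := by
        rw [hw, mul_pow, ← zpow_natCast, ← zpow_natCast, ← zpow_mul, ← zpow_mul,
          mul_comm i', mul_comm j']
        push_cast
        exact hij
      have hwM : w ∈ kr (p ^ (e - 1)) := by
        rw [mem_kr]
        have : p ^ (e - 1) = p ^ t * p ^ (e - 1 - t) := by
          rw [← pow_add]; congr 1; omega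
        rw [this, pow_mul, hwt, one_pow]
      rw [hM] at hwM
      obtain ⟨⟨a, rfl⟩, ⟨b, rfl⟩⟩ := hind i' j' hwM
      constructor
      · exact ⟨a, by rw [pow_succ]; ring⟩
      · exact ⟨b, by rw [pow_succ]; ring⟩
  -- the homomorphism
  haveI : NeZero (p ^ e) := ⟨pow_ne_zero _ hp.out.ne_zero⟩
  have hxq : (zmultiplesHom (Additive H) (Additive.ofMul x)) ((p ^ e : ℕ) : ℤ) = 0 := by
    rw [zmultiplesHom_apply, natCast_zsmul, ← ofMul_pow, hexp]
    rfl
  have hyq : (zmultiplesHom (Additive H) (Additive.ofMul y)) ((p ^ e : ℕ) : ℤ) = 0 := by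
    rw [zmultiplesHom_apply, natCast_zsmul, ← ofMul_pow, hexp]
    rfl
  let fx : ZMod (p ^ e) →+ Additive H := ZMod.lift (p ^ e) ⟨_, hxq⟩
  let fy : ZMod (p ^ e) →+ Additive H := ZMod.lift (p ^ e) ⟨_, hyq⟩
  let f : ZMod (p ^ e) × ZMod (p ^ e) →+ Additive H := fx.coprod fy
  have hf : ∀ i j : ℤ, f ((i : ZMod (p ^ e)), (j : ZMod (p ^ e))) = Additive.ofMul (x ^ i * y ^ j) := by
    intro i j
    show fx (i : ZMod (p ^ e)) + fy (j : ZMod (p ^ e)) = _
    rw [ZMod.lift_coe, ZMod.lift_coe]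
    show (zmultiplesHom (Additive H) (Additive.ofMul x)) i +
      (zmultiplesHom (Additive H) (Additive.ofMul y)) j = _
    rw [zmultiplesHom_apply, zmultiplesHom_apply, ← ofMul_zpow, ← ofMul_zpow]
    rfl
  let F : Multiplicative (ZMod (p ^ e) × ZMod (p ^ e)) →* H := AddMonoidHom.toMultiplicativeLeft f
  have hF : ∀ i j : ℤ, F (Multiplicative.ofAdd ((i : ZMod (p ^ e)), (j : ZMod (p ^ e)))) =
      x ^ i * y ^ j := by
    intro i j
    show (f ((i : ZMod (p ^ e)), (j : ZMod (p ^ e)))).toMul = _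
    rw [hf]
    rfl
  have hinj : Function.Injective F := by
    rw [injective_iff_map_eq_one]
    intro v hv
    obtain ⟨i, hi⟩ := ZMod.intCast_surjective v.toAdd.1
    obtain ⟨j, hj⟩ := ZMod.intCast_surjective v.toAdd.2
    have hv' : v = Multiplicative.ofAdd ((i : ZMod (p ^ e)), (j : ZMod (p ^ e))) := by
      rw [hi, hj]
      rfl
    rw [hv', hF] at hv
    obtain ⟨hdi, hdj⟩ := hker e le_rfl i j hv
    have hi0 : (i : ZMod (p ^ e)) = 0 := by
      rw [ZMod.intCast_zmod_eq_zero_iff_dvd]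
      push_cast
      exact hdi
    have hj0 : (j : ZMod (p ^ e)) = 0 := by
      rw [ZMod.intCast_zmod_eq_zero_iff_dvd]
      push_cast
      exact hdj
    rw [hv', hi0, hj0]
    rfl
  have hsurj : Function.Surjective F := by
    intro h
    have hh : h ∈ Subgroup.zpowers x ⊔ Subgroup.zpowers y := hgen ▸ Subgroup.mem_top h
    rw [Subgroup.mem_sup] at hh
    obtain ⟨a, ha, b, hb, rfl⟩ := hh
    obtain ⟨i, rfl⟩ := Subgroup.mem_zpowers_iff.mp ha
    obtain ⟨j, rfl⟩ := Subgroup.mem_zpowers_iff.mp hb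
    exact ⟨_, hF i j⟩
  exact ⟨(MulEquiv.ofBijective F ⟨hinj, hsurj⟩).symm⟩

theorem main [Finite H] {p : ℕ} [hp : Fact p.Prime] (hH : IsPGroup p H) (A : Subgroup (MulAut H))
    (h1 : p ∣ Nat.card A)
    (h2 : ∀ B : Subgroup A, B.Normal → IsPGroup p B → B = ⊥)
    (hrk : (frattini H).index ≤ p ^ 2) :
    ((∀ x : H, x ^ p = 1) ∧ Nat.card H = p ^ 2) ∨
      (p ≤ 3 ∧ ∃ k : ℕ, Nonempty (H ≃* Multiplicative (ZMod (p ^ k) × ZMod (p ^ k)))) := by
  have hp1 : 1 < p := hp.out.one_lt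
  obtain ⟨u, hu⟩ := exists_prime_orderOf_dvd_card' p h1
  have hu0 : orderOf (u : MulAut H) = p := by rw [Subgroup.orderOf_coe]; exact hu
  have hup : (u : MulAut H) ^ p = 1 := by rw [← hu0]; exact pow_orderOf_eq_one _
  have hu1 : (u : MulAut H) ≠ 1 := by
    intro h
    rw [h, orderOf_one] at hu0
    omega
  haveI : Nontrivial H := by
    by_contra hnt
    rw [not_nontrivial_iff_subsingleton] at hnt
    apply hu1
    ext x
    exact Subsingleton.elim _ _
  obtain ⟨e, he, hexp, x₁, hx₁⟩ := exists_exp hH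
  set M : Subgroup H := kr (p ^ (e - 1)) with hMdef
  have hMinv : ∀ φ ∈ A, ∀ x ∈ M, φ x ∈ M := fun φ _ x hx => aut_mem_kr φ hx
  have hFM : frattini H ≤ M := by
    rw [frattini_eq_pw hH]
    intro x hx
    obtain ⟨y, rfl⟩ := mem_pw.mp hx
    rw [hMdef, mem_kr, ← pow_mul, ← pow_succ']
    have : e - 1 + 1 = e := by omega
    rw [this]
    exact hexp y
  have hMtop : M ≠ ⊤ := by
    intro h
    apply hx₁
    have : x₁ ∈ M := h ▸ Subgroup.mem_top x₁
    exact mem_kr.mp this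
  obtain ⟨f, hf⟩ := (hH.to_subgroup (frattini H)).exists_card_eq
  obtain ⟨m, hm⟩ := (hH.to_subgroup M).exists_card_eq
  obtain ⟨h, hh⟩ := hH.exists_card_eq
  have hfm : f ≤ m := by
    have := Subgroup.card_le_of_le hFM
    rw [hf, hm] at this
    exact (Nat.pow_le_pow_iff_right hp1).mp this
  have hmh : m < h := by
    have : Nat.card M < Nat.card H := by
      refine lt_of_not_ge fun hge => hMtop ?_
      exact Subgroup.eq_top_of_le_card M hge
    rw [hm, hh] at this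
    exact (Nat.pow_lt_pow_iff_right hp1).mp this
  have hhf : h ≤ f + 2 := by
    have h3 := (frattini H).card_mul_index
    rw [hf, hh] at h3
    have h4 : p ^ h ≤ p ^ f * p ^ 2 := by
      rw [← h3]
      exact Nat.mul_le_mul_left _ hrk
    rw [← pow_add] at h4
    exact (Nat.pow_le_pow_iff_right hp1).mp h4
  by_cases hA : m = f ∧ h = f + 2
  · -- case A
    obtain ⟨hmf, hhf2⟩ := hA
    have hMΦ : M = frattini H := by
      symm
      apply Subgroup.eq_of_le_of_card_ge hFM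
      rw [hf, hm, hmf]
    have hidx : Nat.card H = p ^ 2 * Nat.card (frattini H) := by
      rw [hf, hh, hhf2, pow_add, mul_comm]
    rcases Nat.lt_or_ge e 2 with he2 | he2
    · left
      have he1 : e = 1 := by omega
      have hxp : ∀ x : H, x ^ p = 1 := by
        intro x
        have := hexp x
        rw [he1, pow_one] at this
        exact this
      refine ⟨hxp, ?_⟩
      have hbot : frattini H = ⊥ := by
        rw [frattini_eq_pw hH, eq_bot_iff]
        intro x hx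
        obtain ⟨y, rfl⟩ := mem_pw.mp hx
        rw [Subgroup.mem_bot]
        exact hxp y
      rw [hidx, hbot, Subgroup.card_bot, mul_one]
    · right
      refine ⟨?_, e, homocyclic_iso hH e hexp hMΦ he hidx⟩
      by_contra hp3
      have hp5 : 5 ≤ p := by
        have h4 : p ≠ 4 := by
          intro h
          have := hp.out
          rw [h] at this
          exact absurd this (by norm_num)
        omega
      have htor : ∀ x : H, x ^ p = 1 → x ∈ frattini H := by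
        intro x hx
        rw [← hMΦ, hMdef, mem_kr]
        have : p ^ (e - 1) = p * p ^ (e - 2) := by
          rw [← pow_succ']; congr 1; omega
        rw [this, pow_mul, hx, one_pow]
      have htriv := lift_mul hH hp5 (u : MulAut H) hup hidx htor
      have hΦ : ∀ φ ∈ A, ∀ x ∈ frattini H, φ x ∈ frattini H := fun φ _ x hx => aut_mem_frattini φ hx
      have hB := h2 (stab2 A (frattini H) (frattini H) hΦ hΦ) (stab2_normal A _ _ hΦ hΦ)
        (stab2_isPGroup hH A _ _ hΦ hΦ le_rfl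
          (fun x _ => Cfsg.Agent.Lib.Helper1.pgroup_pow_mem_frattini hH x))
      have huB : u ∈ stab2 A (frattini H) (frattini H) hΦ hΦ := by
        rw [mem_stab2]
        exact ⟨htriv, fun x _ => htriv x⟩
      rw [hB, Subgroup.mem_bot] at huB
      apply hu1
      rw [huB]
      rfl
  · -- case B
    exfalso
    have hcases : h ≤ m + 1 ∧ m ≤ f + 1 := by
      by_cases hmf : m = f
      · have : h ≠ f + 2 := fun hh2 => hA ⟨hmf, hh2⟩
        omega
      · omega
    apply caseB hH A h2 (u : MulAut H) u.2 hup hu1 M hMinv hFM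
    · rw [hh, hm, ← pow_succ']
      exact Nat.pow_le_pow_right hp.out.pos hcases.1
    · rw [hf, hm, ← pow_succ']
      exact Nat.pow_le_pow_right hp.out.pos hcases.2

end Cfsg.Agent.Lib.Helper27.AbAut
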