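import Mathlib
import Cfsg.Agent.Lib.Helper18.SylowIn
import Cfsg.Agent.Lib.Helper26.FusionSat2
import Cfsg.Agent.Lib.Helper26.FusionAut

/-!
# A Frattini-type adjustment and an extension lemma

* `exists_mul_mem_normalizer`: in a finite group with Sylow `p`-subgroup `T`, normal subgroups
  `A₁`, `K` and `α₂ ∈ A₁` commuting with `T ⊓ A₁` modulo `K`, some `k ∈ K ⊓ A₁` has `k * α₂`
  normalizing `T ⊓ A₁`.
* `exists_extension`: an automorphism `α ∈ Aut_F(R)` of a fully normalized `R` in a saturated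
  system extends to `R ⊔ M` whenever every `c_u`, `u ∈ M`, transported by `α`, is induced by `S`.
-/

set_option autoImplicit false

namespace Cfsg.Agent.Lib.Helper27.EssExt

open Cfsg.Agent.Lib.Helper18
open scoped Pointwise

theorem exists_mul_mem_normalizer {G : Type*} [Group G] [Finite G] {p : ℕ} [Fact p.Prime]
    (T A₁ K : Subgroup G) (hT : IsSylowIn p T ⊤) [hA : A₁.Normal] [hK : K.Normal]
    (α₂ : G) (hα₂ : α₂ ∈ A₁) (hcomm : ∀ t ∈ T ⊓ A₁, α₂ * t * α₂⁻¹ * t⁻¹ ∈ K) :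
    ∃ k ∈ K ⊓ A₁, k * α₂ ∈ Subgroup.normalizer ((T ⊓ A₁ : Subgroup G) : Set G) := by
  have hT₁ : IsSylowIn p (T ⊓ A₁) A₁ := by
    refine hT.inf_of_normal le_top ?_
    rw [Subgroup.normalizer_eq_top]
  haveI hK₁n : (K ⊓ A₁).Normal := inferInstance
  have hLA : (T ⊓ A₁) ⊔ (K ⊓ A₁) ≤ A₁ := sup_le inf_le_right inf_le_right
  have hT₁L : IsSylowIn p (T ⊓ A₁) ((T ⊓ A₁) ⊔ (K ⊓ A₁)) := hT₁.of_le le_sup_left hLA
  have hXL : conjSub α₂ (T ⊓ A₁) ≤ (T ⊓ A₁) ⊔ (K ⊓ A₁) := by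
    intro x hx
    rw [mem_conjSub] at hx
    have h1 := hcomm _ hx
    have e : x = (α₂ * (α₂⁻¹ * x * α₂) * α₂⁻¹ * (α₂⁻¹ * x * α₂)⁻¹) * (α₂⁻¹ * x * α₂) := by group
    rw [e]
    refine Subgroup.mul_mem _ ((le_sup_right : K ⊓ A₁ ≤ _) ⟨h1, ?_⟩)
      ((le_sup_left : T ⊓ A₁ ≤ _) hx)
    exact A₁.mul_mem (A₁.mul_mem (A₁.mul_mem hα₂ hx.2) (A₁.inv_mem hα₂)) (A₁.inv_mem hx.2)
  obtain ⟨x, hxL, hle⟩ := hT₁L.exists_conj_le hXL (conjSub_isPGroup hT₁.isPGroup)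
  rw [conjSub_mul] at hle
  have hN : x * α₂ ∈ Subgroup.normalizer ((T ⊓ A₁ : Subgroup G) : Set G) :=
    mem_normalizer_of_conjSub_le hle
  have hx' : x ∈ ((T ⊓ A₁ : Subgroup G) : Set G) * ((K ⊓ A₁ : Subgroup G) : Set G) := by
    rw [← Subgroup.mul_normal]
    exact hxL
  obtain ⟨t, ht, k, hk, rfl⟩ := Set.mem_mul.mp hx'
  refine ⟨k, hk, ?_⟩
  have e : k * α₂ = t⁻¹ * (t * k * α₂) := by group
  rw [e]
  exact Subgroup.mul_mem _ (Subgroup.inv_mem _ (Subgroup.le_normalizer ht)) hN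

open Cfsg Cfsg.FusionSystem Cfsg.Agent.Lib.Helper26

variable {Ω : Type*} [Group Ω] {S : Subgroup Ω}

theorem exists_extension [Finite S] {p : ℕ} [Fact p.Prime] (hS : IsPGroup p S) (F : FusionSystem S)
    (hF : F.IsSaturated p) {R : Subgroup Ω} (hfn : F.IsFullyNormalized R) (α : MulAut R)
    (hα : α ∈ F.autGroup R) (M : Subgroup Ω) (hMS : M ≤ S)
    (hMR : M ≤ Subgroup.normalizer (R : Set Ω))
    (hM : ∀ u (hu : u ∈ M), ∃ h ∈ S, ∀ x : R,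
      ((α ⟨u * x * u⁻¹, conj_mem_of_mem_normalizer (hMR hu) x⟩ : R) : Ω) =
        h * ((α x : R) : Ω) * h⁻¹) :
    ∃ ψ : ↥(R ⊔ M) →* Ω, ψ ∈ F.Hom (R ⊔ M) ∧
      ∀ x : R, ψ (Subgroup.inclusion le_sup_left x) = ((α x : R) : Ω) := by
  have hRS : R ≤ S := hfn.1
  obtain ⟨-, -, hrec⟩ := saturated_fullyNormalized hS F hF hfn
  have hφ : R.subtype.comp α.toMonoidHom ∈ F.Hom R := (mem_autGroup_iff F hRS).mp hα
  have hrange : (R.subtype.comp α.toMonoidHom).range = R := by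
    ext y
    constructor
    · rintro ⟨x, rfl⟩
      exact (α x).2
    · intro hy
      exact ⟨α⁻¹ ⟨y, hy⟩, by simp⟩
  obtain ⟨ψ₀, hψ₀, hext⟩ := hrec.2 R _ hφ hrange
  have hle : R ⊔ M ≤ extender S R (R.subtype.comp α.toMonoidHom) := by
    apply sup_le (le_extender F hφ)
    intro u hu
    obtain ⟨h, hh, hx⟩ := hM u hu
    exact mem_extender_iff.mpr ⟨hMS hu, hMR hu, h, hh, fun x => hx x⟩
  refine ⟨ψ₀.comp (Subgroup.inclusion hle), restrict_mem F hψ₀ hle, fun x => ?_⟩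
  exact hext x x.2 (hle (le_sup_left (a := R) (b := M) x.2))

end Cfsg.Agent.Lib.Helper27.EssExt
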