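import Cfsg.Prelude.Def_FusionSystem

set_option autoImplicit false

namespace Cfsg.Agent.Lib.Helper27

open Cfsg Cfsg.FusionSystem

variable {Ω : Type*} [Group Ω] {S : Subgroup Ω}

theorem hom_cast (F : FusionSystem S) {P P' : Subgroup Ω} (h : P = P') (φ : P →* Ω) (hφ : φ ∈ F.Hom P) :
    ∃ φ' ∈ F.Hom P', ∀ (x : Ω) (hx : x ∈ P) (hx' : x ∈ P'), φ' ⟨x, hx'⟩ = φ ⟨x, hx⟩ := by
  subst h
  exact ⟨φ, hφ, fun _ _ _ => rfl⟩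

theorem hom_cast' (F : FusionSystem S) {P P' : Subgroup Ω} (h : P = P') (φ : P →* Ω) (hφ : φ ∈ F.Hom P) :
    ∃ φ' ∈ F.Hom P', (∀ (x : Ω) (hx : x ∈ P) (hx' : x ∈ P'), φ' ⟨x, hx'⟩ = φ ⟨x, hx⟩) ∧
      ∀ Q : Subgroup Ω, (Q.subgroupOf P').map φ' = (Q.subgroupOf P).map φ := by
  subst h
  exact ⟨φ, hφ, fun _ _ _ => rfl, fun _ => rfl⟩

theorem finite_le_set (S : Subgroup Ω) [Finite S] : {Q : Subgroup Ω | Q ≤ S}.Finite := by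
  have : {Q : Subgroup Ω | Q ≤ S} ⊆ Set.range (fun K : Subgroup S => K.map S.subtype) := by
    intro Q hQ
    refine ⟨Q.subgroupOf S, ?_⟩
    simp only [Subgroup.subgroupOf_map_subtype]
    exact inf_eq_left.mpr hQ
  exact (Set.finite_range _).subset this

theorem sSup_mem_of_sup_closed (S : Subgroup Ω) [Finite S] (p : Subgroup Ω → Prop)
    (hle : ∀ Q, p Q → Q ≤ S) (hbot : p ⊥) (hsup : ∀ Q₁ Q₂, p Q₁ → p Q₂ → p (Q₁ ⊔ Q₂)) :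
    p (sSup {Q | p Q}) := by
  have hfin : {Q : Subgroup Ω | p Q}.Finite := (finite_le_set S).subset (fun Q hQ => hle Q hQ)
  obtain ⟨M, -, hM⟩ := hfin.exists_le_maximal (a := ⊥) hbot
  have : sSup {Q | p Q} = M := by
    apply le_antisymm
    · apply sSup_le
      intro Q hQ
      have h1 : p (M ⊔ Q) := hsup M Q hM.prop hQ
      have h2 : M ⊔ Q ≤ M := hM.le_of_ge h1 le_sup_left
      exact le_sup_right.trans h2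
    · exact le_sSup hM.prop
  rw [this]
  exact hM.prop

theorem isCentral_bot (F : FusionSystem S) : F.IsCentral ⊥ := by
  refine ⟨bot_le, fun P φ hφ => ?_⟩
  obtain ⟨ψ, hψ, hψeq⟩ := hom_cast F (sup_bot_eq P).symm φ hφ
  refine ⟨ψ, hψ, fun x => hψeq x.1 x.2 _, ?_⟩
  rintro ⟨x, hx⟩
  have hx1 : x = 1 := Subgroup.mem_bot.mp hx
  subst hx1
  exact map_one ψ

theorem isCentral_sup (F : FusionSystem S) {Q₁ Q₂ : Subgroup Ω} (h1 : F.IsCentral Q₁)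
    (h2 : F.IsCentral Q₂) : F.IsCentral (Q₁ ⊔ Q₂) := by
  refine ⟨sup_le h1.1 h2.1, fun P φ hφ => ?_⟩
  obtain ⟨ψ1, hψ1, hext1, hfix1⟩ := h1.2 P φ hφ
  obtain ⟨ψ2, hψ2, hext2, hfix2⟩ := h2.2 (P ⊔ Q₁) ψ1 hψ1
  obtain ⟨ψ, hψ, hψeq⟩ := hom_cast F (sup_assoc P Q₁ Q₂) ψ2 hψ2
  have hP1 : P ≤ P ⊔ Q₁ := le_sup_left
  have hP2 : P ⊔ Q₁ ≤ P ⊔ Q₁ ⊔ Q₂ := le_sup_left
  refine ⟨ψ, hψ, ?_, ?_⟩
  · intro x
    have e1 := hψeq x.1 (hP2 (hP1 x.2)) (le_sup_left (a := P) (b := Q₁ ⊔ Q₂) x.2)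
    have e2 := hext2 ⟨x.1, hP1 x.2⟩
    have e3 := hext1 x
    exact e1.trans (e2.trans e3)
  · intro x
    let K : Subgroup Ω := (MonoidHom.eqLocus ψ2 (P ⊔ Q₁ ⊔ Q₂).subtype).map (P ⊔ Q₁ ⊔ Q₂).subtype
    have hK1 : Q₁ ≤ K := by
      intro y hy
      have hy1 : y ∈ P ⊔ Q₁ := (le_sup_right : Q₁ ≤ P ⊔ Q₁) hy
      refine ⟨⟨y, hP2 hy1⟩, ?_, rfl⟩
      show ψ2 ⟨y, hP2 hy1⟩ = y
      have e2 := hext2 ⟨y, hy1⟩
      have e1 := hfix1 ⟨y, hy⟩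
      exact e2.trans e1
    have hK2 : Q₂ ≤ K := by
      intro y hy
      refine ⟨⟨y, (le_sup_right : Q₂ ≤ P ⊔ Q₁ ⊔ Q₂) hy⟩, ?_, rfl⟩
      exact hfix2 ⟨y, hy⟩
    obtain ⟨y, hy, hyx⟩ := (sup_le hK1 hK2) x.2
    have hy' : ψ2 y = (y : Ω) := hy
    have e1 := hψeq x.1 (by rw [← hyx]; exact y.2) (le_sup_right (a := P) (b := Q₁ ⊔ Q₂) x.2)
    have : (⟨x.1, by rw [← hyx]; exact y.2⟩ : ↥(P ⊔ Q₁ ⊔ Q₂)) = y := Subtype.ext hyx.symm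
    rw [this, hy'] at e1
    have hyx' : (y : Ω) = x.1 := hyx
    rw [hyx'] at e1
    exact e1

theorem isCentral_center (F : FusionSystem S) [Finite S] : F.IsCentral F.center :=
  sSup_mem_of_sup_closed S (fun Q => F.IsCentral Q) (fun _ h => h.1) (isCentral_bot F)
    (fun _ _ h1 h2 => isCentral_sup F h1 h2)

theorem isNormal_bot (F : FusionSystem S) : F.IsNormal ⊥ := by
  refine ⟨bot_le, fun P φ hφ => ?_⟩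
  obtain ⟨ψ, hψ, hψeq⟩ := hom_cast F (sup_bot_eq P).symm φ hφ
  refine ⟨ψ, hψ, fun x => hψeq x.1 x.2 _, ?_⟩
  rw [Subgroup.bot_subgroupOf, Subgroup.map_bot]

theorem isNormal_sup (F : FusionSystem S) {Q₁ Q₂ : Subgroup Ω} (h1 : F.IsNormal Q₁)
    (h2 : F.IsNormal Q₂) : F.IsNormal (Q₁ ⊔ Q₂) := by
  refine ⟨sup_le h1.1 h2.1, fun P φ hφ => ?_⟩
  obtain ⟨ψ1, hψ1, hext1, hn1⟩ := h1.2 P φ hφ
  obtain ⟨ψ2, hψ2, hext2, hn2⟩ := h2.2 (P ⊔ Q₁) ψ1 hψ1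
  obtain ⟨ψ, hψ, hψeq, hψmap⟩ := hom_cast' F (sup_assoc P Q₁ Q₂) ψ2 hψ2
  have hP1 : P ≤ P ⊔ Q₁ := le_sup_left
  have hP2 : P ⊔ Q₁ ≤ P ⊔ Q₁ ⊔ Q₂ := le_sup_left
  have hQ1 : Q₁ ≤ P ⊔ Q₁ := le_sup_right
  have hQ2 : Q₂ ≤ P ⊔ Q₁ ⊔ Q₂ := le_sup_right
  refine ⟨ψ, hψ, ?_, ?_⟩
  · intro x
    have e1 := hψeq x.1 (hP2 (hP1 x.2)) (le_sup_left (a := P) (b := Q₁ ⊔ Q₂) x.2)
    have e2 := hext2 ⟨x.1, hP1 x.2⟩
    have e3 := hext1 x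
    exact e1.trans (e2.trans e3)
  · rw [hψmap, Subgroup.subgroupOf_sup (hQ1.trans hP2) hQ2, Subgroup.map_sup, hn2]
    congr 1
    refine Eq.trans ?_ hn1
    ext z
    constructor
    · rintro ⟨y, hy, rfl⟩
      have hyQ : (y : Ω) ∈ Q₁ := Subgroup.mem_subgroupOf.mp hy
      refine ⟨⟨y.1, hQ1 hyQ⟩, Subgroup.mem_subgroupOf.mpr hyQ, ?_⟩
      exact (hext2 ⟨y.1, hQ1 hyQ⟩).symm
    · rintro ⟨y, hy, rfl⟩
      have hyQ : (y : Ω) ∈ Q₁ := Subgroup.mem_subgroupOf.mp hy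
      refine ⟨⟨y.1, hP2 y.2⟩, Subgroup.mem_subgroupOf.mpr hyQ, ?_⟩
      exact hext2 y

theorem isNormal_core (F : FusionSystem S) [Finite S] : F.IsNormal F.core :=
  sSup_mem_of_sup_closed S (fun Q => F.IsNormal Q) (fun _ h => h.1) (isNormal_bot F)
    (fun _ _ h1 h2 => isNormal_sup F h1 h2)

end Cfsg.Agent.Lib.Helper27
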