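import Cfsg.Agent.Lib.Helper26.FusionSat3
import Cfsg.Agent.Lib.Helper27.FusJoin

set_option autoImplicit false

namespace Cfsg.Agent.Lib.Helper27

open Cfsg Cfsg.FusionSystem Cfsg.Agent.Lib.Helper26

variable {Ω : Type*} [Group Ω] {S : Subgroup Ω}

/-- the image of a subgroup `Q ≤ R` under an isomorphism `e : R ≃* R'`, inside `Ω` -/
def imgSub {R R' : Subgroup Ω} (e : R ≃* R') (Q : Subgroup Ω) : Subgroup Ω :=
  (Q.subgroupOf R).map (R'.subtype.comp e.toMonoidHom)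

theorem mem_imgSub {R R' : Subgroup Ω} (e : R ≃* R') (Q : Subgroup Ω) {y : Ω} :
    y ∈ imgSub e Q ↔ ∃ x : R, (x : Ω) ∈ Q ∧ ((e x : R') : Ω) = y := by
  constructor
  · rintro ⟨x, hx, rfl⟩
    exact ⟨x, Subgroup.mem_subgroupOf.mp hx, rfl⟩
  · rintro ⟨x, hx, rfl⟩
    exact ⟨x, Subgroup.mem_subgroupOf.mpr hx, rfl⟩

theorem imgSub_le {R R' : Subgroup Ω} (e : R ≃* R') (Q : Subgroup Ω) : imgSub e Q ≤ R' := by
  intro y hy
  obtain ⟨x, -, rfl⟩ := (mem_imgSub e Q).mp hy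
  exact (e x).2

theorem apply_mem_imgSub {R R' : Subgroup Ω} (e : R ≃* R') {Q : Subgroup Ω} {x : R}
    (hx : (x : Ω) ∈ Q) : ((e x : R') : Ω) ∈ imgSub e Q :=
  (mem_imgSub e Q).mpr ⟨x, hx, rfl⟩

theorem isConj_imgSub (F : FusionSystem S) {R R' : Subgroup Ω} {e : R ≃* R'} (he : IsIso F e)
    {Q : Subgroup Ω} (hQR : Q ≤ R) : F.IsConj Q (imgSub e Q) := by
  refine ⟨_, restrict_mem F he hQR, ?_⟩
  ext y
  rw [mem_imgSub]
  constructor
  · rintro ⟨x, rfl⟩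
    exact ⟨Subgroup.inclusion hQR x, x.2, rfl⟩
  · rintro ⟨x, hx, rfl⟩
    exact ⟨⟨x, hx⟩, rfl⟩

theorem isCentric_of_isConj (F : FusionSystem S) {Q Q' : Subgroup Ω} (hQ : F.IsCentric Q)
    (h : F.IsConj Q Q') : F.IsCentric Q' :=
  ⟨isConj_le_right F h, fun Q'' h' => hQ.2 Q'' (isConj_trans F h h')⟩

/-- an overgroup (inside `S`) of a centric subgroup is centric -/
theorem isCentric_of_le (F : FusionSystem S) {Q R : Subgroup Ω} (hQ : F.IsCentric Q) (hQR : Q ≤ R)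
    (hRS : R ≤ S) : F.IsCentric R := by
  refine ⟨hRS, fun R' h => ?_⟩
  obtain ⟨e, he⟩ := exists_iso_of_isConj F h
  have hc := (isCentric_of_isConj F hQ (isConj_imgSub F he hQR)).2 _
    (isConj_refl F (isConj_le_right F (isConj_imgSub F he hQR)))
  intro x hx
  apply imgSub_le e Q
  apply hc
  exact ⟨hx.1, fun y hy => hx.2 y (imgSub_le e Q hy)⟩

/-- powers of an automorphism moving `x` by an element it fixes -/
theorem aut_pow_apply_of_fixed {P : Type*} [Group P] (α : MulAut P) (x t : P)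
    (hx : α x = x * t) (ht : α t = t) (j : ℕ) : (α ^ j) x = x * t ^ j := by
  induction j with
  | zero => simp
  | succ j ih =>
    rw [pow_succ', MulAut.mul_apply, ih, map_mul, map_pow, hx, ht, pow_succ', mul_assoc]

/-- An `F`-automorphism of `R` that is the identity on a normal centric subgroup `Q` of `R` is
conjugation by an element of `Z(Q)`. -/
theorem aut_eq_conj_of_fix_centric [Finite S] {p : ℕ} [Fact p.Prime] (hS : IsPGroup p S)
    (F : FusionSystem S) (hF : F.IsSaturated p) {Q R : Subgroup Ω} (hQR : Q ≤ R) (hRS : R ≤ S)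
    (hnorm : ∀ x ∈ R, ∀ y ∈ Q, x * y * x⁻¹ ∈ Q) (hQ : F.IsCentric Q) {β : MulAut R}
    (hβ : β ∈ F.autGroup R) (hfix : ∀ x : R, (x : Ω) ∈ Q → β x = x) :
    ∃ z ∈ Q, z ∈ Subgroup.centralizer (Q : Set Ω) ∧
      ∀ x : R, ((β x : R) : Ω) = z * (x : Ω) * z⁻¹ := by
  have hfinR : Finite R := finite_of_le hRS
  have hQS : Q ≤ S := hQ.1
  have hfinQ : Finite Q := finite_of_le hQS
  have hQp : IsPGroup p Q := hS.to_le hQS
  -- `x⁻¹ β x ∈ Z(Q)`
  have hdiff : ∀ x : R, ((x⁻¹ * β x : R) : Ω) ∈ Q ∧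
      ((x⁻¹ * β x : R) : Ω) ∈ Subgroup.centralizer (Q : Set Ω) := by
    intro x
    have hcen : ((x⁻¹ * β x : R) : Ω) ∈ Subgroup.centralizer (Q : Set Ω) := by
      rw [Subgroup.mem_centralizer_iff]
      intro y hy
      -- β (x y x⁻¹) = x y x⁻¹
      have hxy : (x : Ω) * y * (x : Ω)⁻¹ ∈ Q := hnorm x x.2 y hy
      have h1 : β (x * ⟨y, hQR hy⟩ * x⁻¹) = x * ⟨y, hQR hy⟩ * x⁻¹ := hfix _ hxy
      have h2 : β (⟨y, hQR hy⟩ : R) = ⟨y, hQR hy⟩ := hfix _ hy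
      rw [map_mul, map_mul, map_inv, h2] at h1
      have h3 : (⟨y, hQR hy⟩ : R) * (x⁻¹ * β x) = (x⁻¹ * β x) * ⟨y, hQR hy⟩ := by
        symm
        calc (x⁻¹ * β x) * (⟨y, hQR hy⟩ : R)
            = x⁻¹ * (β x * ⟨y, hQR hy⟩ * (β x)⁻¹) * β x := by group
          _ = x⁻¹ * (x * ⟨y, hQR hy⟩ * x⁻¹) * β x := by rw [h1]
          _ = (⟨y, hQR hy⟩ : R) * (x⁻¹ * β x) := by group
      exact congrArg Subtype.val h3
    refine ⟨?_, hcen⟩
    exact hQ.2 Q (isConj_refl F hQS) ⟨hRS (x⁻¹ * β x).2, hcen⟩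
  -- `β` is a `p`-element
  obtain ⟨k, hk⟩ := IsPGroup.iff_card.mp hQp
  have hβpow : β ^ (p ^ k) = 1 := by
    ext x
    have ht : β (x⁻¹ * β x) = x⁻¹ * β x := hfix _ (hdiff x).1
    have hx : β x = x * (x⁻¹ * β x) := by group
    rw [aut_pow_apply_of_fixed β x _ hx ht, MulAut.one_apply]
    have h1 : (⟨((x⁻¹ * β x : R) : Ω), (hdiff x).1⟩ : Q) ^ (p ^ k) = 1 := by
      rw [← hk]
      exact pow_card_eq_one'
    have h2 : (x⁻¹ * β x) ^ (p ^ k) = 1 := by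
      apply Subtype.ext
      have := congrArg Subtype.val h1
      simpa using this
    rw [h2, mul_one]
  -- move to a fully normalized conjugate
  obtain ⟨R', hconj, hfn⟩ := exists_fullyNormalized_conj F hRS
  obtain ⟨θ, hθ⟩ := exists_iso_of_isConj F hconj
  have hR'S : R' ≤ S := hfn.1
  have hfinR' : Finite R' := finite_of_le hR'S
  have hβ' : MulAut.congr θ β ∈ F.autGroup R' := congr_mem_autGroup hθ hβ
  have hβ'pow : (MulAut.congr θ β) ^ (p ^ k) = 1 := by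
    rw [← map_pow, hβpow, map_one]
  obtain ⟨-, hauto, -⟩ := saturated_fullyNormalized hS F hF hfn
  have hsyl : IsSylowIn p (F.autGroup R') (autInducedBy S R') := hauto.2
  have hLH : Subgroup.zpowers (MulAut.congr θ β) ≤ F.autGroup R' := by
    rw [Subgroup.zpowers_le]
    exact hβ'
  obtain ⟨γ, hγ, hγL⟩ := hsyl.exists_conj_le hLH (isPGroup_zpowers_of_pow_eq_one hβ'pow)
  obtain ⟨g, hgS, hg⟩ := mem_autInducedBy_iff.mp (hγL _ (Subgroup.mem_zpowers _))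
  have hδ : IsIso F (θ.trans γ) := hθ.trans ((isIso_iff_mem_autGroup F hR'S γ).mpr hγ)
  have hkey : ∀ x : R, (((θ.trans γ) (β x) : R') : Ω) = g * (((θ.trans γ) x : R') : Ω) * g⁻¹ := by
    intro x
    rw [← hg ((θ.trans γ) x)]
    simp [MulAut.mul_apply, MulAut.congr]
  have hcen' := isCentric_of_isConj F hQ (isConj_imgSub F hδ hQR)
  have hgQ' : g ∈ imgSub (θ.trans γ) Q := by
    apply hcen'.2 _ (isConj_refl F hcen'.1)
    refine ⟨hgS, ?_⟩
    apply Subgroup.mem_centralizer_iff.mpr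
    intro y hy
    obtain ⟨x, hx, rfl⟩ := (mem_imgSub _ Q).mp hy
    have h1 := hkey x
    rw [hfix x hx] at h1
    calc (((θ.trans γ) x : R') : Ω) * g = (g * (((θ.trans γ) x : R') : Ω) * g⁻¹) * g := by rw [← h1]
      _ = g * (((θ.trans γ) x : R') : Ω) := by group
  obtain ⟨z₀, hz₀Q, hz₀g⟩ := (mem_imgSub _ Q).mp hgQ'
  have hconj : ∀ x : R, β x = z₀ * x * z₀⁻¹ := by
    intro x
    apply (θ.trans γ).injective
    apply Subtype.ext
    rw [hkey x, ← hz₀g, map_mul, map_mul, map_inv]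
    rfl
  refine ⟨(z₀ : Ω), hz₀Q, ?_, fun x => by rw [hconj x]; rfl⟩
  rw [Subgroup.mem_centralizer_iff]
  intro y hy
  have h1 := hconj ⟨y, hQR hy⟩
  rw [hfix _ hy] at h1
  have h2 : (y : Ω) = (z₀ : Ω) * y * (z₀ : Ω)⁻¹ := congrArg Subtype.val h1
  calc y * (z₀ : Ω) = ((z₀ : Ω) * y * (z₀ : Ω)⁻¹) * z₀ := by rw [← h2]
    _ = (z₀ : Ω) * y := by group

/-- Two maps of `F` defined on `R` that agree on a normal centric subgroup `Q` of `R` differ by
conjugation by an element of `Z(Q)` (S5095 for `Q` normal in `R`). -/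
theorem eq_comp_conj_of_agree_centric [Finite S] {p : ℕ} [Fact p.Prime] (hS : IsPGroup p S)
    (F : FusionSystem S) (hF : F.IsSaturated p) {Q R : Subgroup Ω} (hQR : Q ≤ R) (hRS : R ≤ S)
    (hnorm : ∀ x ∈ R, ∀ y ∈ Q, x * y * x⁻¹ ∈ Q) (hQ : F.IsCentric Q) {ψ ψ' : R →* Ω}
    (hψ : ψ ∈ F.Hom R) (hψ' : ψ' ∈ F.Hom R) (hagree : ∀ x : R, (x : Ω) ∈ Q → ψ x = ψ' x) :
    ∃ (z : Ω) (hz : z ∈ Q), z ∈ Subgroup.centralizer (Q : Set Ω) ∧
      ∀ x : R, ψ' x = ψ ⟨z * x * z⁻¹, R.mul_mem (R.mul_mem (hQR hz) x.2) (R.inv_mem (hQR hz))⟩ := by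
  have hfinR : Finite R := finite_of_le hRS
  -- the image of `Q`
  obtain ⟨e, he, hex⟩ := exists_iso_of_hom F hψ' rfl
  have hcen₂ := isCentric_of_isConj F hQ (isConj_imgSub F he hQR)
  have hmemQ₂ : ∀ y : R, (y : Ω) ∈ Q → ψ' y ∈ imgSub e Q := by
    intro y hy
    rw [← hex]
    exact apply_mem_imgSub e hy
  have hrange : ψ.range ≤ ψ'.range := by
    rintro _ ⟨x, rfl⟩
    have ht : (ψ' x)⁻¹ * ψ x ∈ imgSub e Q := by
      apply hcen₂.2 _ (isConj_refl F hcen₂.1)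
      refine ⟨S.mul_mem (S.inv_mem (apply_mem F hψ' x)) (apply_mem F hψ x), ?_⟩
      apply Subgroup.mem_centralizer_iff.mpr
      intro w hw
      obtain ⟨y, hy, rfl⟩ := (mem_imgSub e Q).mp hw
      rw [hex]
      have hxy : (x : Ω) * y * (x : Ω)⁻¹ ∈ Q := hnorm x x.2 y hy
      have h1 : ψ (x * y * x⁻¹) = ψ' (x * y * x⁻¹) := hagree _ hxy
      rw [map_mul, map_mul, map_inv, map_mul, map_mul, map_inv, hagree y hy] at h1
      calc ψ' y * ((ψ' x)⁻¹ * ψ x)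
          = (ψ' x)⁻¹ * (ψ' x * ψ' y * (ψ' x)⁻¹) * ψ x := by group
        _ = (ψ' x)⁻¹ * (ψ x * ψ' y * (ψ x)⁻¹) * ψ x := by rw [h1]
        _ = (ψ' x)⁻¹ * ψ x * ψ' y := by group
    obtain ⟨y₀, -, hy₀⟩ := (mem_imgSub e Q).mp ht
    rw [hex] at hy₀
    refine ⟨x * y₀, ?_⟩
    rw [map_mul, hy₀]
    group
  have hreq : ψ.range = ψ'.range := by
    have hfin' : Finite ψ'.range := finite_of_le (range_le F hψ')
    apply Subgroup.eq_of_le_of_card_ge hrange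
    rw [← Nat.card_congr (MonoidHom.ofInjective (F.injective_of_mem hψ)).toEquiv,
      ← Nat.card_congr (MonoidHom.ofInjective (F.injective_of_mem hψ')).toEquiv]
  obtain ⟨e₂, he₂, he₂x⟩ := exists_iso_of_hom F hψ hreq
  have hβ : IsIso F (e.trans e₂.symm) := he.trans he₂.symm
  have hβmem : (e.trans e₂.symm : MulAut R) ∈ F.autGroup R :=
    (isIso_iff_mem_autGroup F hRS _).mp hβ
  have hβfix : ∀ x : R, (x : Ω) ∈ Q → (e.trans e₂.symm : MulAut R) x = x := by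
    intro x hx
    show e₂.symm (e x) = x
    rw [MulEquiv.symm_apply_eq]
    apply Subtype.ext
    rw [hex, he₂x, hagree x hx]
  obtain ⟨z, hz, hzc, hzβ⟩ :=
    aut_eq_conj_of_fix_centric hS F hF hQR hRS hnorm hQ hβmem hβfix
  refine ⟨z, hz, hzc, fun x => ?_⟩
  have h1 : (⟨z * x * z⁻¹, R.mul_mem (R.mul_mem (hQR hz) x.2) (R.inv_mem (hQR hz))⟩ : R) =
      (e.trans e₂.symm : MulAut R) x := Subtype.ext (hzβ x).symm
  rw [h1, ← he₂x]
  show ψ' x = ((e₂ (e₂.symm (e x)) : _) : Ω)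
  rw [e₂.apply_symm_apply, hex]

end Cfsg.Agent.Lib.Helper27
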