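import Cfsg.Agent.Lib.Helper27.FusAbelian

set_option autoImplicit false

namespace Cfsg.Agent.Lib.Helper27

open Cfsg Cfsg.FusionSystem Cfsg.Agent.Lib.Helper26

variable {Ω : Type*} [Group Ω]

theorem inner_mem_iff {T P : Subgroup Ω} {φ : P →* Ω} :
    φ ∈ (innerFusionSystem T).Hom P ↔ P ≤ T ∧ ∃ g ∈ T, ∀ x : P, φ x = g * (x : Ω) * g⁻¹ :=
  Iff.rfl

theorem inner_autGroup_eq (T : Subgroup Ω) {P : Subgroup Ω} (hP : P ≤ T) :
    (innerFusionSystem T).autGroup P = autInducedBy T P := by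
  apply le_antisymm _ (autInducedBy_le_autGroup _ hP)
  intro α hα
  rw [mem_autGroup_iff _ hP] at hα
  obtain ⟨-, g, hg, h⟩ := hα
  exact mem_autInducedBy_iff.mpr ⟨g, hg, fun x => h x⟩

/-- The inner fusion system of a finite `p`-group is saturated. -/
theorem inner_saturated {T : Subgroup Ω} [Finite T] {p : ℕ} [Fact p.Prime] (hT : IsPGroup p T) :
    (innerFusionSystem T).IsSaturated p := by
  intro P hP
  refine ⟨P, isConj_refl _ hP, ⟨hP, ?_⟩, ⟨hP, ?_⟩⟩
  · have hpg : IsPGroup p ((innerFusionSystem T).autGroup P) := by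
      rw [inner_autGroup_eq T hP]
      exact isPGroup_autInducedBy hT P
    have hidx : ¬ p ∣ (⊤ : Subgroup ((innerFusionSystem T).autGroup P)).index := by
      rw [Subgroup.index_top]
      exact (Fact.out : p.Prime).not_dvd_one
    refine ⟨(hpg.to_subgroup ⊤).toSylow hidx, ?_⟩
    rw [IsPGroup.toSylow_coe, eq_comm, Subgroup.subgroupOf_eq_top, inner_autGroup_eq T hP]
  · intro Q φ hφ _
    obtain ⟨hQ, g, hg, h⟩ := hφ
    have hle : extender T Q φ ≤ T := (extender_le_normalizerIn T Q φ).trans inf_le_left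
    refine ⟨conjHom (extender T Q φ) g, ⟨hle, g, hg, fun x => rfl⟩, fun x hxQ hxN => ?_⟩
    exact (h ⟨x, hxQ⟩).symm

/-- Over an abelian `S`, the inner system of a strongly closed subgroup is a normal subsystem. -/
theorem inner_normal_of_abelian {S : Subgroup Ω} [Finite S] {p : ℕ} [Fact p.Prime]
    (hS : IsPGroup p S) (F : FusionSystem S) (hF : F.IsSaturated p)
    (hab : ∀ x ∈ S, ∀ y ∈ S, x * y = y * x) {T : Subgroup Ω} (hT : F.StronglyClosed T) :
    (innerFusionSystem T).IsNormalIn F p := by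
  have hTS : T ≤ S := hT.1
  have hfinT : Finite T := finite_of_le hTS
  have hTp : IsPGroup p T := hS.to_le hTS
  have hinner : ∀ {P : Subgroup Ω} {φ : P →* Ω}, φ ∈ (innerFusionSystem T).Hom P →
      ∀ x : P, φ x = x := by
    rintro P φ ⟨hPT, g, hg, h⟩ x
    rw [h x]
    exact conj_eq_of_abelian hab (hTS hg) (hTS (hPT x.2))
  refine ⟨⟨inner_saturated hTp, hF, ?_, hT, ?_, ?_⟩, ?_⟩
  · rintro P φ ⟨hPT, g, hg, h⟩
    exact mem_of_forall_eq F (F.conj_mem (hPT.trans hTS) (hTS hg)) (fun x => h x)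
  · intro P hPT φ hφ α _
    have hle : (P.subgroupOf T).map (T.subtype.comp α.toMonoidHom) ≤ T := by
      rintro _ ⟨y, -, rfl⟩
      exact (α y).2
    refine ⟨_, subtype_mem _ hle, fun x hφx hαx => ?_⟩
    show ((α ⟨x, hPT x.2⟩ : T) : Ω) = ((α ⟨φ x, hφx⟩ : T) : Ω)
    congr 2
    exact Subtype.ext (hinner hφ x).symm
  · intro P hPT φ hφ
    obtain ⟨α, hα, hαφ⟩ := abelian_extend hS F hF hab hφ
    have hα' := (mem_autGroup_iff F (le_refl S)).mp hα
    have hψ := restrict_mem F hα' hTS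
    have hψT := hT.2 T (le_refl T) _ hψ
    have hr : ((S.subtype.comp α.toMonoidHom).comp (Subgroup.inclusion hTS)).range = T := by
      apply Subgroup.eq_of_le_of_card_ge
      · rintro _ ⟨x, rfl⟩
        exact hψT x
      · exact (Nat.card_congr (MonoidHom.ofInjective (F.injective_of_mem hψ)).toEquiv).le
    refine ⟨autOfHom F hψ hr, autOfHom_mem F hψ hr, P.subtype, subtype_mem _ hPT, fun x hx => ?_⟩
    rw [autOfHom_apply]
    exact (hαφ x).symm
  · intro α hα
    rw [mem_autGroup_iff _ (le_refl T)] at hα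
    refine ⟨1, Subgroup.one_mem _, fun x => ?_, fun c _ => ?_⟩
    · exact (hinner hα x).symm
    · show (c : Ω)⁻¹ * (c : Ω) ∈ _
      rw [inv_mul_cancel]
      exact Subgroup.one_mem _

end Cfsg.Agent.Lib.Helper27
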