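import Cfsg.Agent.Lib.Helper21.OmegaLemma

set_option autoImplicit false

namespace Cfsg.Agent.Lib.Helper27

open SemidirectProduct

/-- An automorphism of order prime to `p` of a finite group that stabilizes a `p`-subgroup `T` and
fixes its elements of small order fixes `T` pointwise. -/
theorem aut_fix_of_fix_small {R : Type*} [Group R] [Finite R] {p : ℕ} [Fact p.Prime]
    (δ : MulAut R) (hcop : (orderOf δ).Coprime p) (T : Subgroup R) (hT : IsPGroup p T)
    (hδT : ∀ x ∈ T, δ x ∈ T) (hδT' : ∀ x ∈ T, δ⁻¹ x ∈ T)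
    (hsmall : ∀ a ∈ T, (a ^ p = 1 ∨ (p = 2 ∧ a ^ 4 = 1)) → δ a = a) : ∀ x ∈ T, δ x = x := by
  haveI : Finite (R ⋊[MonoidHom.id (MulAut R)] MulAut R) :=
    Finite.of_equiv _ (SemidirectProduct.equivProd (φ := MonoidHom.id (MulAut R))).symm
  have hconj : ∀ x : R, (inr δ : R ⋊[MonoidHom.id (MulAut R)] MulAut R) * inl x * (inr δ)⁻¹ =
      inl (δ x) := by
    intro x
    rw [← map_inv]
    exact (inl_aut (φ := MonoidHom.id (MulAut R)) δ x).symm
  have hconj' : ∀ x : R, (inr δ : R ⋊[MonoidHom.id (MulAut R)] MulAut R)⁻¹ * inl x * (inr δ) =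
      inl (δ⁻¹ x) := by
    intro x
    rw [← map_inv]
    exact (inl_aut_inv (φ := MonoidHom.id (MulAut R)) δ x).symm
  have hord : orderOf (inr δ : R ⋊[MonoidHom.id (MulAut R)] MulAut R) = orderOf δ :=
    orderOf_injective _ inr_injective δ
  have hg : (inr δ : R ⋊[MonoidHom.id (MulAut R)] MulAut R) ∈
      Subgroup.normalizer ((T.map (inl : R →* R ⋊[MonoidHom.id (MulAut R)] MulAut R) :
        Subgroup _) : Set _) := by
    rw [Subgroup.mem_normalizer_iff]
    intro h
    constructor
    · rintro ⟨x, hx, rfl⟩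
      rw [hconj]
      exact ⟨δ x, hδT x hx, rfl⟩
    · rintro ⟨y, hy, hyh⟩
      have e : h = (inr δ)⁻¹ * inl y * inr δ := by
        rw [hyh]; group
      rw [e, hconj']
      exact ⟨_, hδT' y hy, rfl⟩
  have hcent := Cfsg.Agent.Lib.Helper21.comm_of_comm_small
    (inr δ : R ⋊[MonoidHom.id (MulAut R)] MulAut R) (by rw [hord]; exact hcop)
    (T.map inl) (hT.map _) hg (by
      rintro _ ⟨x, hx, rfl⟩ hsm
      have hx' : x ^ p = 1 ∨ (p = 2 ∧ x ^ 4 = 1) := by
        rcases hsm with h1 | ⟨h2, h1⟩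
        · left
          rw [← map_pow] at h1
          exact inl_injective (by rw [h1, map_one])
        · right
          refine ⟨h2, ?_⟩
          rw [← map_pow] at h1
          exact inl_injective (by rw [h1, map_one])
      have h3 := hsmall x hx hx'
      have h4 := hconj x
      rw [h3] at h4
      calc inr δ * inl x = inr δ * inl x * (inr δ)⁻¹ * inr δ := by group
        _ = inl x * inr δ := by rw [h4])
  intro x hx
  have h1 := Subgroup.mem_centralizer_iff.mp hcent (inl x) ⟨x, hx, rfl⟩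
  have h2 := hconj x
  have h3 : (inr δ : R ⋊[MonoidHom.id (MulAut R)] MulAut R) * inl x * (inr δ)⁻¹ = inl x := by
    rw [← h1]; group
  rw [h3] at h2
  exact (inl_injective h2).symm

end Cfsg.Agent.Lib.Helper27
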