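import Mathlib
import Cfsg.Agent.S5083
import Cfsg.Agent.Lib.Helper26.StrongEmb
import Cfsg.Agent.Lib.helper17.FusSmall
import Cfsg.Agent.Lib.Helper27.FusCentric

/-!
# Stabilizers of invariant chains in automizers of essential subgroups, second form

`mem_of_stab'`: let `R` be essential, `Q ≤ R` invariant under `Aut_F(R)` and `B` a
`p`-subgroup of `Aut(Q)` normalized by the restrictions of `Aut_F(R)`.  An element `u ∈ N_S(R)` with
`[R, u] ≤ Q` whose conjugation action on `Q` lies in `B` belongs to `R`.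
-/

set_option autoImplicit false

namespace Cfsg.Agent.Lib.Helper27.EssStab2

open Cfsg Cfsg.FusionSystem Cfsg.Agent.Lib.Helper26 Cfsg.Agent.Lib.helper17.FusSmall
  Cfsg.Agent.Lib.Helper27

variable {Ω : Type*} [Group Ω] {S : Subgroup Ω}

theorem mem_of_stab' [Finite S] {p : ℕ} [Fact p.Prime] (hS : IsPGroup p S) (F : FusionSystem S)
    {R : Subgroup Ω} (hR : F.IsEssential p R) {Q : Subgroup Ω} (hQR : Q ≤ R)
    (hinv : ∀ α ∈ F.autGroup R, ∀ z (hz : z ∈ Q), ((α ⟨z, hQR hz⟩ : R) : Ω) ∈ Q)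
    [Finite Q] (B : Subgroup (MulAut Q))
    (hBn : ∀ γ (hγ : γ ∈ F.autGroup R), ∀ β ∈ B,
      restrictAut γ Q hQR (hinv γ hγ) * β * (restrictAut γ Q hQR (hinv γ hγ))⁻¹ ∈ B)
    (hBp : IsPGroup p B)
    (u : Ω) (huS : u ∈ S) (huR : u ∈ Subgroup.normalizer (R : Set Ω))
    (hcomm : ∀ x ∈ R, x⁻¹ * (u * x * u⁻¹) ∈ Q)
    (huB : ∃ β ∈ B, ∀ y : Q, ((β y : Q) : Ω) = u * y * u⁻¹) : u ∈ R := by
  classical
  obtain ⟨hcen, hfn, hnorm, E, hE⟩ := hR
  have hRS : R ≤ S := hcen.1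
  have hcenR : centralizerIn S R ≤ R := hcen.2 R (isConj_refl F hRS)
  haveI hfinR : Finite R := finite_of_le hRS
  have hQp : IsPGroup p Q := hS.to_le (hQR.trans hRS)
  -- the stabilizer subgroup
  let K : Subgroup ↥(F.autGroup R) :=
    { carrier := {α | (∀ x : R, (x : Ω)⁻¹ * (((α : MulAut R) x : R) : Ω) ∈ Q) ∧
        ∃ β ∈ B, ∀ y : Q, ((β y : Q) : Ω) = (((α : MulAut R) ⟨y, hQR y.2⟩ : R) : Ω)}
      one_mem' := by
        refine ⟨fun x => ?_, 1, B.one_mem, fun y => ?_⟩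
        · simp
        · simp
      mul_mem' := by
        rintro α α' ⟨h1, β, hβ, h2⟩ ⟨h1', β', hβ', h2'⟩
        refine ⟨fun x => ?_, β * β', B.mul_mem hβ hβ', fun y => ?_⟩
        · have e : (x : Ω)⁻¹ * ((((α * α' : ↥(F.autGroup R)) : MulAut R) x : R) : Ω) =
              ((x : Ω)⁻¹ * ((((α' : MulAut R) x : R)) : Ω)) *
                (((((α' : MulAut R) x : R)) : Ω)⁻¹ *
                  (((α : MulAut R) ((α' : MulAut R) x) : R) : Ω)) := by
            rw [Subgroup.coe_mul, MulAut.mul_apply]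
            group
          rw [e]
          exact Q.mul_mem (h1' x) (h1 _)
        · rw [Subgroup.coe_mul, MulAut.mul_apply, MulAut.mul_apply, h2 (β' y)]
          have e : (⟨((β' y : Q) : Ω), hQR (β' y).2⟩ : R) = (α' : MulAut R) ⟨y, hQR y.2⟩ :=
            Subtype.ext (h2' y)
          rw [e]
      inv_mem' := by
        rintro α ⟨h1, β, hβ, h2⟩
        refine ⟨fun x => ?_, β⁻¹, B.inv_mem hβ, fun y => ?_⟩
        · have h3 := h1 (((α : MulAut R)⁻¹) x)
          have e : (x : Ω)⁻¹ * ((((α⁻¹ : ↥(F.autGroup R)) : MulAut R) x : R) : Ω) =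
              (((((α : MulAut R)⁻¹) x : R) : Ω)⁻¹ *
                (((α : MulAut R) (((α : MulAut R)⁻¹) x) : R) : Ω))⁻¹ := by
            rw [Subgroup.coe_inv, MulAut.apply_inv_self, mul_inv_rev, inv_inv]
          rw [e]
          exact Q.inv_mem h3
        · have h3 := h2 (β⁻¹ y)
          rw [MulAut.apply_inv_self] at h3
          have e : (⟨((β⁻¹ y : Q) : Ω), hQR (β⁻¹ y).2⟩ : R) =
              ((α : MulAut R)⁻¹) ⟨y, hQR y.2⟩ := by
            apply (α : MulAut R).injective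
            rw [MulAut.apply_inv_self]
            exact Subtype.ext h3.symm
          rw [Subgroup.coe_inv, ← e] }
  have hKn : K.Normal := by
    constructor
    rintro α ⟨h1, β, hβ, h2⟩ γ
    have hγ : (γ : MulAut R) ∈ F.autGroup R := γ.2
    refine ⟨fun x => ?_, ?_⟩
    · have h3 := h1 (((γ : MulAut R)⁻¹) x)
      have h4 := hinv (γ : MulAut R) hγ _ h3
      have e : (x : Ω)⁻¹ * ((((γ * α * γ⁻¹ : ↥(F.autGroup R)) : MulAut R) x : R) : Ω) =
          (((γ : MulAut R) ⟨((((γ : MulAut R)⁻¹) x : R) : Ω)⁻¹ *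
            (((α : MulAut R) (((γ : MulAut R)⁻¹) x) : R) : Ω), hQR h3⟩ : R) : Ω) := by
        have e1 : (⟨((((γ : MulAut R)⁻¹) x : R) : Ω)⁻¹ *
            (((α : MulAut R) (((γ : MulAut R)⁻¹) x) : R) : Ω), hQR h3⟩ : R) =
            (((γ : MulAut R)⁻¹) x)⁻¹ * (α : MulAut R) (((γ : MulAut R)⁻¹) x) := Subtype.ext rfl
        rw [e1, map_mul, map_inv, MulAut.apply_inv_self, Subgroup.coe_mul, Subgroup.coe_mul,
          Subgroup.coe_inv, MulAut.mul_apply, MulAut.mul_apply, Subgroup.coe_mul, Subgroup.coe_inv]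
      rw [e]
      exact h4
    · refine ⟨restrictAut (γ : MulAut R) Q hQR (hinv _ hγ) * β *
        (restrictAut (γ : MulAut R) Q hQR (hinv _ hγ))⁻¹, hBn (γ : MulAut R) hγ β hβ, fun y => ?_⟩
      rw [MulAut.mul_apply, MulAut.mul_apply, restrictAut_apply,
        Subgroup.coe_mul, Subgroup.coe_mul, Subgroup.coe_inv, MulAut.mul_apply, MulAut.mul_apply]
      congr 2
      apply Subtype.ext
      rw [h2]
      congr 2
      apply (γ : MulAut R).injective
      rw [MulAut.apply_inv_self]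
      apply Subtype.ext
      have h5 := restrictAut_apply (γ : MulAut R) Q hQR (hinv _ hγ)
        ((restrictAut (γ : MulAut R) Q hQR (hinv _ hγ))⁻¹ y)
      rw [MulAut.apply_inv_self] at h5
      exact h5.symm
  have hKp : IsPGroup p ↥K := by
    rintro ⟨α, h1, β, hβ, h2⟩
    obtain ⟨k, hk⟩ := hBp ⟨β, hβ⟩
    have hβk : β ^ (p ^ k) = 1 := by
      have h3 := congrArg Subtype.val hk
      rwa [Subgroup.coe_pow] at h3
    have hpow : ∀ j : ℕ, ∀ y : Q, (((β ^ j) y : Q) : Ω) =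
        ((((α : MulAut R) ^ j) ⟨y, hQR y.2⟩ : R) : Ω) := by
      intro j
      induction j with
      | zero =>
        intro y
        simp
      | succ j ih =>
        intro y
        rw [pow_succ, pow_succ, MulAut.mul_apply, MulAut.mul_apply, ih (β y)]
        have e : (⟨((β y : Q) : Ω), hQR (β y).2⟩ : R) = (α : MulAut R) ⟨y, hQR y.2⟩ :=
          Subtype.ext (h2 y)
        rw [e]
    obtain ⟨l, hl⟩ := IsPGroup.iff_card.mp hQp
    refine ⟨k + l, ?_⟩
    apply Subtype.ext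
    apply Subtype.ext
    rw [Subgroup.coe_pow, Subgroup.coe_pow, Subgroup.coe_one, Subgroup.coe_one, pow_add, pow_mul]
    have hKk : α ^ (p ^ k) ∈ K := K.pow_mem ⟨h1, β, hβ, h2⟩ (p ^ k)
    have hfix : ∀ y : Q, ((α : MulAut R) ^ (p ^ k)) ⟨y, hQR y.2⟩ = ⟨y, hQR y.2⟩ := by
      intro y
      apply Subtype.ext
      rw [← hpow (p ^ k) y, hβk]
      rfl
    ext x
    have hxK := hKk.1 x
    rw [Subgroup.coe_pow] at hxK
    have hx : ((α : MulAut R) ^ (p ^ k)) x =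
        x * ⟨(x : Ω)⁻¹ * ((((α : MulAut R) ^ (p ^ k)) x : R) : Ω), hQR hxK⟩ := by
      apply Subtype.ext
      rw [Subgroup.coe_mul]
      simp
    have ht := hfix ⟨_, hxK⟩
    rw [aut_pow_apply_of_fixed _ x _ hx ht (p ^ l)]
    have h3 : (⟨(x : Ω)⁻¹ * ((((α : MulAut R) ^ (p ^ k)) x : R) : Ω), hxK⟩ : Q) ^ (p ^ l) = 1 := by
      rw [← hl]
      exact pow_card_eq_one'
    have h4 : (⟨(x : Ω)⁻¹ * ((((α : MulAut R) ^ (p ^ k)) x : R) : Ω), hQR hxK⟩ : R) ^ (p ^ l) = 1 := by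
      apply Subtype.ext
      have h5 := congrArg (fun z : Q => (z : Ω)) h3
      simpa using h5
    rw [h4, mul_one, MulAut.one_apply]
  have hmap : K.map (QuotientGroup.mk' ((Cfsg.Inn R).subgroupOf (F.autGroup R))) = ⊥ :=
    eq_bot_of_normal_of_stronglyPEmbedded hE (hKn.map _ (QuotientGroup.mk'_surjective _))
      (hKp.map _)
  have hcu : conjAut R u huR ∈ F.autGroup R :=
    autInducedBy_le_autGroup F hRS (conjAut_mem_autInducedBy huS huR)
  have hcuK : (⟨conjAut R u huR, hcu⟩ : ↥(F.autGroup R)) ∈ K := by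
    refine ⟨fun x => hcomm x x.2, ?_⟩
    obtain ⟨β, hβ, h2⟩ := huB
    exact ⟨β, hβ, fun y => h2 y⟩
  have h2 : QuotientGroup.mk' ((Cfsg.Inn R).subgroupOf (F.autGroup R)) ⟨conjAut R u huR, hcu⟩ ∈
      K.map (QuotientGroup.mk' ((Cfsg.Inn R).subgroupOf (F.autGroup R))) :=
    Subgroup.mem_map_of_mem _ hcuK
  rw [hmap, Subgroup.mem_bot, QuotientGroup.mk'_apply, QuotientGroup.eq_one_iff,
    Subgroup.mem_subgroupOf] at h2
  obtain ⟨r, hr⟩ := h2
  change MulAut.conj r = conjAut R u huR at hr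
  have hcen2 : (r : Ω)⁻¹ * u ∈ centralizerIn S R := by
    refine ⟨S.mul_mem (S.inv_mem (hRS r.2)) huS, ?_⟩
    change (r : Ω)⁻¹ * u ∈ Subgroup.centralizer (R : Set Ω)
    rw [Subgroup.mem_centralizer_iff]
    intro x hx
    have h3 := congrArg (fun γ : MulAut R => ((γ ⟨x, hx⟩ : R) : Ω)) hr
    simp only [MulAut.conj_apply, conjAut_apply, Subgroup.coe_mul, Subgroup.coe_inv] at h3
    have h4 : u * x * u⁻¹ = (r : Ω) * x * (r : Ω)⁻¹ := h3.symm
    calc x * ((r : Ω)⁻¹ * u) = (r : Ω)⁻¹ * ((r : Ω) * x * (r : Ω)⁻¹) * u := by group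
      _ = (r : Ω)⁻¹ * (u * x * u⁻¹) * u := by rw [h4]
      _ = (r : Ω)⁻¹ * u * x := by group
  have h5 := hcenR hcen2
  have e : u = (r : Ω) * ((r : Ω)⁻¹ * u) := by group
  rw [e]
  exact R.mul_mem r.2 h5

end Cfsg.Agent.Lib.Helper27.EssStab2
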