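import Mathlib
import Cfsg.Agent.Lib.Helper10.RES.Defs

set_option autoImplicit false

namespace Cfsg.Agent.Lib.Helper10.RES

variable {Ω : Type*} [Group Ω]
variable {p n s : ℕ} [Fact p.Prime] {S : Subgroup Ω} {x y z : Ω}

/-- a power `z^k` with `p ∣ k` lies in any subgroup containing `z^p` -/
theorem resgm3_zk_mem (H : Subgroup Ω) (z : Ω) (p k : ℕ) (hz : z ^ p ∈ H) (hk : p ∣ k) :
    z ^ k ∈ H := by
  obtain ⟨m, rfl⟩ := hk
  rw [pow_mul]
  exact H.pow_mem hz m

/-- **GM3**. `M_k = Q` when `p ∣ k`. -/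
theorem F2Set.Mk_eq_Q (hF : F2Set p n s S x y z) (k : ℕ) (hk : p ∣ k) :
    MM p x y z k = QQ p x y z := by
  apply le_antisymm
  · rw [MM, Subgroup.closure_le]
    intro g hg
    have hy : y ∈ QQ p x y z := Subgroup.subset_closure (by simp)
    have hzp : z ^ p ∈ QQ p x y z := Subgroup.subset_closure (by simp)
    have hx : x ∈ QQ p x y z := Subgroup.subset_closure (by simp)
    rcases hg with h | h | h
    · rw [h]; exact hy
    · rw [h]; exact hzp
    · rw [h]; exact (QQ p x y z).mul_mem hx (resgm3_zk_mem _ z p k hzp hk)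
  · rw [QQ, Subgroup.closure_le]
    intro g hg
    have hy : y ∈ MM p x y z k := Subgroup.subset_closure (by simp)
    have hzp : z ^ p ∈ MM p x y z k := Subgroup.subset_closure (by simp)
    have hxz : x * z ^ k ∈ MM p x y z k := Subgroup.subset_closure (by simp)
    rcases hg with h | h | h
    · rw [h]; exact hy
    · rw [h]; exact hzp
    · rw [h]
      have h1 : z ^ k ∈ MM p x y z k := resgm3_zk_mem _ z p k hzp hk
      have h2 : x * z ^ k * (z ^ k)⁻¹ ∈ MM p x y z k :=
        (MM p x y z k).mul_mem hxz ((MM p x y z k).inv_mem h1)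
      simpa using h2

end Cfsg.Agent.Lib.Helper10.RES
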