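import Mathlib
import Cfsg.Agent.Lib.Helper10.RES.Defs

set_option autoImplicit false

namespace Cfsg.Agent.Lib.Helper10.RES

variable {Ω : Type*} [Group Ω]
variable {p n s : ℕ} [Fact p.Prime] {S : Subgroup Ω} {x y z : Ω}

/-- core of **GP1**: all the earlier pieces enter as hypotheses. -/
theorem resgp1_core (hn4 : 4 ≤ n)
    (hmems : x ∈ S ∧ y ∈ S ∧ z ∈ S ∧ AA y z ≤ S)
    (hord : orderOf z = p ^ (n - 2))
    (hcardT : Nat.card (TT p y z) = p ^ (n - 2))
    (hzc : (∀ g ∈ S, g * z ^ p = z ^ p * g) ∧ z ^ p ^ (n - 3) ≠ 1)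
    (hTexp : ∀ t ∈ TT p y z, t ^ p ^ (n - 3) = 1)
    (hTz : ∀ t ∈ TT p y z, z * t * z⁻¹ = t)
    (hQom : n = 4 → ∀ g ∈ S, (g ∈ QQ p x y z ↔ g ^ p = 1))
    (E : Subgroup Ω) (hES : E ≤ S)
    (hcen : SelfCent S E) (hel : Cfsg.IsElementaryAbelian p E) (hcard : Nat.card E = p ^ 2) :
    n = 4 ∧ ZZ p z ≤ E ∧ y ∉ E ∧ E ≤ QQ p x y z := by
  have hp : p.Prime := Fact.out
  obtain ⟨hxS, hyS, hzS, hAS⟩ := hmems
  -- `Z ≤ E`
  have hZE : ZZ p z ≤ E := by
    intro k₀ hk₀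
    obtain ⟨m, rfl⟩ := Subgroup.mem_zpowers_iff.1 hk₀
    apply hcen _ (S.zpow_mem (S.pow_mem hzS p) m)
    intro e he
    have h1 : Commute e (z ^ p) := hzc.1 e (hES he)
    exact ((h1.zpow_right m).eq).symm
  -- `n = 4`
  have hzpE : z ^ p ∈ E := hZE (Subgroup.mem_zpowers _)
  have hn : n = 4 := by
    have h1 : (z ^ p) ^ p = 1 := hel.2 _ hzpE
    rw [← pow_mul] at h1
    have h2 : orderOf z ∣ p * p := orderOf_dvd_of_pow_eq_one h1
    rw [hord, ← sq, Nat.pow_dvd_pow_iff_le_right hp.one_lt] at h2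
    omega
  refine ⟨hn, hZE, ?_, ?_⟩
  · -- `y ∉ E`
    intro hyE
    have hTE : TT p y z ≤ E := by
      rw [TT, Subgroup.closure_le]
      intro g hg
      rcases hg with h | h
      · rw [h]; exact hyE
      · rw [Set.mem_singleton_iff] at h
        rw [h]; exact hzpE
    have hfin : Finite E := Nat.finite_of_card_ne_zero (by
      rw [hcard]; exact pow_ne_zero _ hp.ne_zero)
    have hTeq : TT p y z = E := by
      apply Subgroup.eq_of_le_of_card_ge hTE
      rw [hcard, hcardT, hn]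
    have hzE : z ∈ E := by
      apply hcen z hzS
      intro e he
      have h1 := hTz e (hTeq ▸ he)
      calc z * e = (z * e * z⁻¹) * z := by group
        _ = e * z := by rw [h1]
    have h2 := hTexp z (hTeq ▸ hzE)
    exact hzc.2 h2
  · -- `E ≤ Q`
    intro g hg
    exact (hQom hn g (hES hg)).2 (hel.2 g hg)

end Cfsg.Agent.Lib.Helper10.RES
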