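import Mathlib
import Cfsg.Agent.Lib.Helper10.RES.Defs
import Cfsg.Agent.Lib.Helper27.RESGM3

set_option autoImplicit false

namespace Cfsg.Agent.Lib.Helper10.RES

variable {Ω : Type*} [Group Ω]
variable {p n s : ℕ} [Fact p.Prime] {S : Subgroup Ω} {x y z : Ω}

/-- core of **GQ2**: all the earlier pieces enter as hypotheses. -/
theorem resgq2_core (hn : n = 4)
    (hrepr : (∀ g ∈ S, ∃ i : ℕ, ∃ a ∈ AA y z, g = x ^ i * a) ∧
      ∀ a ∈ AA y z, ∃ j k : ℕ, a = y ^ j * z ^ k)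
    (hnf : ∀ i j k : ℕ, x ^ i * (y ^ j * z ^ k) = 1 → p ∣ i ∧ p ∣ j ∧ p ^ (n - 2) ∣ k)
    (hTA : TT p y z ≤ AA y z) (hTexp : ∀ t ∈ TT p y z, t ^ p ^ (n - 3) = 1)
    (hpow : ∀ i j k : ℕ, (x ^ i * (y ^ j * z ^ k)) ^ p = z ^ (k * p))
    (hQform : ∀ q ∈ QQ p x y z, ∃ i : ℕ, ∃ t ∈ TT p y z, q = x ^ i * t)
    (g : Ω) (hg : g ∈ S) : g ∈ QQ p x y z ↔ g ^ p = 1 := by
  have hp : p.Prime := Fact.out
  subst hn
  constructor
  · intro hq
    obtain ⟨i, t, ht, rfl⟩ := hQform g hq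
    obtain ⟨j, k, rfl⟩ := hrepr.2 t (hTA ht)
    have h1 : (y ^ j * z ^ k) ^ p = 1 := by
      have := hTexp _ ht
      simpa using this
    have h2 : z ^ (k * p) = 1 := by
      have := hpow 0 j k
      rw [pow_zero, one_mul] at this
      rw [← this, h1]
    rw [hpow, h2]
  · intro hgp
    obtain ⟨i, a, ha, rfl⟩ := hrepr.1 g hg
    obtain ⟨j, k, rfl⟩ := hrepr.2 a ha
    rw [hpow] at hgp
    have h3 : p ^ (4 - 2) ∣ k * p := by
      have := hnf 0 0 (k * p) (by rw [pow_zero, pow_zero, one_mul, one_mul]; exact hgp)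
      exact this.2.2
    have hpk : p ∣ k := by
      have h4 : p * p ∣ k * p := by
        have : p ^ (4 - 2) = p * p := by norm_num [sq]
        rwa [this] at h3
      exact Nat.dvd_of_mul_dvd_mul_right hp.pos h4
    have hy : y ∈ QQ p x y z := Subgroup.subset_closure (by simp)
    have hzp : z ^ p ∈ QQ p x y z := Subgroup.subset_closure (by simp)
    have hx : x ∈ QQ p x y z := Subgroup.subset_closure (by simp)
    exact (QQ p x y z).mul_mem ((QQ p x y z).pow_mem hx i)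
      ((QQ p x y z).mul_mem ((QQ p x y z).pow_mem hy j) (resgm3_zk_mem _ z p k hzp hpk))

end Cfsg.Agent.Lib.Helper10.RES
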