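import Mathlib
import Cfsg.Agent.Lib.Helper10.RES.Defs
import Cfsg.Agent.Lib.Helper25.RESGA4
import Cfsg.Agent.Lib.Helper25.RESGA5
import Cfsg.Agent.Lib.Helper22.RESGZ4
import Cfsg.Agent.Lib.Helper11.RESGZ5
import Cfsg.Agent.Lib.Helper22.RESGQ1a
import Cfsg.Agent.Lib.Helper27.RESGQ2core

set_option autoImplicit false

namespace Cfsg.Agent.Lib.Helper10.RES

variable {Ω : Type*} [Group Ω]
variable {p n s : ℕ} [Fact p.Prime] {S : Subgroup Ω} {x y z : Ω}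

/-- **GQ2**. for `n = 4`, `Q = Ω₁(S)`. -/
theorem F2Set.Q_omega (hF : F2Set p n s S x y z) (hp5 : 5 ≤ p) (hn : n = 4) (g : Ω) (hg : g ∈ S) :
    g ∈ QQ p x y z ↔ g ^ p = 1 :=
  resgq2_core hn hF.repr (fun i j k => hF.normal_form i j k) hF.T_facts.2.1 hF.T_facts.2.2.2.2.1
    (fun i j k => hF.pow_p hp5 i j k) hF.Q_basic.2.2.2.2.2 g hg

end Cfsg.Agent.Lib.Helper10.RES
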