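import Mathlib
import Cfsg.Agent.Lib.Helper10.RES.Defs
import Cfsg.Agent.Lib.Helper25.RESGA1
import Cfsg.Agent.Lib.Helper16.RESGA6a
import Cfsg.Agent.Lib.Helper10.RESGA6b
import Cfsg.Agent.Lib.Helper11.RESGZ1
import Cfsg.Agent.Lib.Helper22.RESGZ4
import Cfsg.Agent.Lib.Helper27.RESGQ2
import Cfsg.Agent.Lib.Helper27.RESGP1core

set_option autoImplicit false

namespace Cfsg.Agent.Lib.Helper10.RES

variable {Ω : Type*} [Group Ω]
variable {p n s : ℕ} [Fact p.Prime] {S : Subgroup Ω} {x y z : Ω}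

/-- **GP1**. a self-centralizing elementary abelian subgroup of order `p²`: first facts. -/
theorem F2Set.pearl_a (hF : F2Set p n s S x y z) (hp5 : 5 ≤ p) (E : Subgroup Ω) (hES : E ≤ S)
    (hcen : SelfCent S E) (hel : Cfsg.IsElementaryAbelian p E) (hcard : Nat.card E = p ^ 2) :
    n = 4 ∧ ZZ p z ≤ E ∧ y ∉ E ∧ E ≤ QQ p x y z :=
  resgp1_core hF.hn4 hF.mems hF.orders.1 hF.cards.2.1 ⟨hF.zp_central.1, hF.zp_central.2.1⟩
    hF.T_facts.2.2.2.2.1 hF.T_facts.2.2.2.2.2 (fun hn g hg => hF.Q_omega hp5 hn g hg)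
    E hES hcen hel hcard

end Cfsg.Agent.Lib.Helper10.RES
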