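import Mathlib
import Cfsg.Agent.Lib.Helper10.RES.Defs
import Cfsg.Agent.Lib.Helper27.RESGM3

set_option autoImplicit false

namespace Cfsg.Agent.Lib.Helper10.RES

variable {Ω : Type*} [Group Ω]

/-- if `g^N = 1` and `c` is prime to `N`, then `g` is a power of `g^c` -/
theorem resgp2_root (g : Ω) (N c : ℕ) (hN : N ≠ 0) (h : g ^ N = 1) (hc : Nat.Coprime c N) :
    ∃ r : ℕ, (g ^ c) ^ r = g := by
  obtain ⟨m, -, hm⟩ := Nat.exists_mul_mod_eq_of_coprime 1 hc hN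
  refine ⟨m, ?_⟩
  rw [← pow_mul, pow_eq_pow_mod (c * m) h, hm, ← pow_eq_pow_mod 1 h, pow_one]

/-- if `g^N = 1` and `i` is prime to `N`, every power of `g` is a power of `g^i` -/
theorem resgp2_solve (g : Ω) (N i m : ℕ) (hN : N ≠ 0) (h : g ^ N = 1) (hc : Nat.Coprime i N) :
    ∃ r : ℕ, g ^ (i * r) = g ^ m := by
  obtain ⟨r, -, hr⟩ := Nat.exists_mul_mod_eq_of_coprime m hc hN
  refine ⟨r, ?_⟩
  rw [pow_eq_pow_mod (i * r) h, hr, ← pow_eq_pow_mod m h]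

variable {p n s : ℕ} [Fact p.Prime] {S : Subgroup Ω} {x y z : Ω}

/-- core of **GP2**: all the earlier pieces enter as hypotheses. -/
theorem resgp2_core (hn : n = 4) (xp : x ^ p = 1) (yp : y ^ p = 1) (zp : z ^ p ^ (n - 2) = 1)
    (hmems : x ∈ S ∧ y ∈ S ∧ z ∈ S ∧ AA y z ≤ S)
    (hAcomm : ∀ a ∈ AA y z, ∀ b ∈ AA y z, a * b = b * a)
    (hrepr : (∀ g ∈ S, ∃ i : ℕ, ∃ a ∈ AA y z, g = x ^ i * a) ∧
      ∀ a ∈ AA y z, ∃ j k : ℕ, a = y ^ j * z ^ k)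
    (hconj : ∀ i : ℕ, (x ^ i)⁻¹ * z * x ^ i = z * (y ^ i * (z ^ (s * p ^ (n - 3))) ^ (i.choose 2)))
    (hzne : z ^ p ^ (n - 3) ≠ 1)
    (hZT : ZZ p z ≤ TT p y z) (hTA : TT p y z ≤ AA y z)
    (hTS : ∀ g ∈ S, ∀ t ∈ TT p y z, t⁻¹ * (g * t * g⁻¹) ∈ ZZ p z)
    (hTexp : ∀ t ∈ TT p y z, t ^ p ^ (n - 3) = 1)
    (hTz : ∀ t ∈ TT p y z, z * t * z⁻¹ = t)
    (hQform : ∀ q ∈ QQ p x y z, ∃ i : ℕ, ∃ t ∈ TT p y z, q = x ^ i * t)
    (hQcomm : ∀ q ∈ QQ p x y z, ∀ q' ∈ QQ p x y z, q⁻¹ * q'⁻¹ * q * q' ∈ ZZ p z)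
    (E : Subgroup Ω) (hcen : SelfCent S E)
    (hZE : ZZ p z ≤ E) (hyE : y ∉ E) (hEQ : E ≤ QQ p x y z) :
    (∀ q ∈ QQ p x y z, ∃ e ∈ E, ∃ t ∈ TT p y z, q = e * t) ∧
      QQ p x y z ≤ Subgroup.normalizer (E : Set Ω) ∧
      ∀ g ∈ S, g ∈ Subgroup.normalizer (E : Set Ω) → g ∈ QQ p x y z := by
  have hp : p.Prime := Fact.out
  subst hn
  obtain ⟨hxS, hyS, hzS, hAS⟩ := hmems
  have hyQ : y ∈ QQ p x y z := Subgroup.subset_closure (by simp)
  have hzpQ : z ^ p ∈ QQ p x y z := Subgroup.subset_closure (by simp)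
  have hxQ : x ∈ QQ p x y z := Subgroup.subset_closure (by simp)
  have hyT : y ∈ TT p y z := Subgroup.subset_closure (by simp)
  have hzpT : z ^ p ∈ TT p y z := Subgroup.subset_closure (by simp)
  -- `T` is normalized by `S`
  have hTn : ∀ g ∈ S, ∀ t ∈ TT p y z, g * t * g⁻¹ ∈ TT p y z := by
    intro g hg t ht
    have h1 := hZT (hTS g hg t ht)
    have h2 : g * t * g⁻¹ = t * (t⁻¹ * (g * t * g⁻¹)) := by group
    rw [h2]
    exact (TT p y z).mul_mem ht h1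
  -- `T` is abelian
  have hTcomm : ∀ a ∈ TT p y z, ∀ b ∈ TT p y z, a * b = b * a :=
    fun a ha b hb => hAcomm a (hTA ha) b (hTA hb)
  -- an element of `E` outside `T`
  have hex : ∃ e₀ ∈ E, e₀ ∉ TT p y z := by
    by_contra hcon0
    have hcon : ∀ e ∈ E, e ∈ TT p y z := fun e he => by
      by_contra h
      exact hcon0 ⟨e, he, h⟩
    have hzE : z ∈ E := by
      apply hcen z hzS
      intro e he
      have h1 := hTz e (hcon e he)
      calc z * e = (z * e * z⁻¹) * z := by group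
        _ = e * z := by rw [h1]
    exact hzne (hTexp z (hcon z hzE))
  obtain ⟨e₀, he₀E, he₀T⟩ := hex
  obtain ⟨i, t₀, ht₀, he₀⟩ := hQform e₀ (hEQ he₀E)
  have hpi : ¬ p ∣ i := by
    rintro ⟨m, rfl⟩
    apply he₀T
    rw [he₀, pow_mul, xp, one_pow, one_mul]
    exact ht₀
  have hcop : Nat.Coprime i p := ((Nat.Prime.coprime_iff_not_dvd hp).2 hpi).symm
  -- powers of `e₀`
  have hpow : ∀ r : ℕ, ∃ t' ∈ TT p y z, e₀ ^ r = x ^ (i * r) * t' := by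
    intro r
    induction r with
    | zero => exact ⟨1, (TT p y z).one_mem, by simp⟩
    | succ r ih =>
      obtain ⟨t', ht', hr⟩ := ih
      refine ⟨(x ^ i)⁻¹ * t' * ((x ^ i)⁻¹)⁻¹ * t₀, ?_, ?_⟩
      · exact (TT p y z).mul_mem (hTn _ (S.inv_mem (S.pow_mem hxS i)) t' ht') ht₀
      · rw [pow_succ, hr, he₀, Nat.mul_succ, pow_add]
        group
  refine ⟨?_, ?_, ?_⟩
  · -- `Q = E T`
    intro q hq
    obtain ⟨m, t, ht, rfl⟩ := hQform q hq
    obtain ⟨r, hr⟩ := resgp2_solve x p i m hp.ne_zero xp hcop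
    obtain ⟨t', ht', hr'⟩ := hpow r
    refine ⟨e₀ ^ r, E.pow_mem he₀E r, t'⁻¹ * t, (TT p y z).mul_mem ((TT p y z).inv_mem ht') ht, ?_⟩
    rw [hr', hr]
    group
  · -- `Q ≤ N(E)`
    have key : ∀ q ∈ QQ p x y z, ∀ e ∈ E, q * e * q⁻¹ ∈ E := by
      intro q hq e he
      have h1 := hQcomm e (hEQ he) q⁻¹ ((QQ p x y z).inv_mem hq)
      have h2 : q * e * q⁻¹ = e * (e⁻¹ * q⁻¹⁻¹ * e * q⁻¹) := by group
      rw [h2]
      exact E.mul_mem he (hZE h1)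
    intro q hq
    rw [Subgroup.mem_normalizer_iff]
    intro h
    constructor
    · exact key q hq h
    · intro hh
      have h1 := key q⁻¹ ((QQ p x y z).inv_mem hq) _ hh
      have h2 : q⁻¹ * (q * h * q⁻¹) * q⁻¹⁻¹ = h := by group
      rwa [h2] at h1
  · -- `N_S(E) ≤ Q`
    intro g hg hgN
    by_contra hgQ
    obtain ⟨a, w, hw, rfl⟩ := hrepr.1 g hg
    obtain ⟨b, c, rfl⟩ := hrepr.2 w hw
    have hpc : ¬ p ∣ c := by
      intro hpc
      apply hgQ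
      exact (QQ p x y z).mul_mem ((QQ p x y z).pow_mem hxQ a)
        ((QQ p x y z).mul_mem ((QQ p x y z).pow_mem hyQ b) (resgm3_zk_mem _ z p c hzpQ hpc))
    -- `z^c` normalizes `E`
    have hQN : ∀ q ∈ QQ p x y z, q ∈ Subgroup.normalizer (E : Set Ω) := by
      intro q hq
      have key : ∀ q ∈ QQ p x y z, ∀ e ∈ E, q * e * q⁻¹ ∈ E := by
        intro q hq e he
        have h1 := hQcomm e (hEQ he) q⁻¹ ((QQ p x y z).inv_mem hq)
        have h2 : q * e * q⁻¹ = e * (e⁻¹ * q⁻¹⁻¹ * e * q⁻¹) := by group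
        rw [h2]
        exact E.mul_mem he (hZE h1)
      rw [Subgroup.mem_normalizer_iff]
      intro h
      constructor
      · exact key q hq h
      · intro hh
        have h1 := key q⁻¹ ((QQ p x y z).inv_mem hq) _ hh
        have h2 : q⁻¹ * (q * h * q⁻¹) * q⁻¹⁻¹ = h := by group
        rwa [h2] at h1
    have hu : x ^ a * y ^ b ∈ Subgroup.normalizer (E : Set Ω) :=
      hQN _ ((QQ p x y z).mul_mem ((QQ p x y z).pow_mem hxQ a) ((QQ p x y z).pow_mem hyQ b))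
    have hzc : z ^ c ∈ Subgroup.normalizer (E : Set Ω) := by
      have h1 := (Subgroup.normalizer (E : Set Ω)).mul_mem
        ((Subgroup.normalizer (E : Set Ω)).inv_mem hu) hgN
      have h2 : (x ^ a * y ^ b)⁻¹ * (x ^ a * (y ^ b * z ^ c)) = z ^ c := by group
      rwa [h2] at h1
    have hcop2 : Nat.Coprime c (p ^ (4 - 2)) :=
      Nat.Coprime.pow_right _ (((Nat.Prime.coprime_iff_not_dvd hp).2 hpc).symm)
    obtain ⟨r, hr⟩ := resgp2_root z (p ^ (4 - 2)) c (pow_ne_zero _ hp.ne_zero) zp hcop2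
    have hzN : z ∈ Subgroup.normalizer (E : Set Ω) := by
      rw [← hr]
      exact (Subgroup.normalizer (E : Set Ω)).pow_mem hzc r
    -- the commutator of `e₀` and `z`
    have h1 : z * e₀ * z⁻¹ ∈ E := (Subgroup.mem_normalizer_iff.1 hzN e₀).1 he₀E
    have h2 : e₀⁻¹ * (z * e₀ * z⁻¹) ∈ E := E.mul_mem (E.inv_mem he₀E) h1
    set ζ : Ω := z ^ (s * p ^ (4 - 3)) with hζ
    have hζZ : ζ ∈ ZZ p z := by
      rw [hζ]
      have : s * p ^ (4 - 3) = p * s := by norm_num [mul_comm]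
      rw [this, pow_mul]
      exact Subgroup.pow_mem _ (Subgroup.mem_zpowers _) s
    set w : Ω := y ^ i * ζ ^ (i.choose 2) with hw
    have hwT : w ∈ TT p y z :=
      (TT p y z).mul_mem ((TT p y z).pow_mem hyT i) ((TT p y z).pow_mem (hZT hζZ) _)
    have h3 : e₀⁻¹ * (z * e₀ * z⁻¹) = w := by
      have hc1 : (x ^ i)⁻¹ * z * x ^ i = z * w := hconj i
      have hc2 : z * (w * t₀) * z⁻¹ = w * t₀ := hTz _ ((TT p y z).mul_mem hwT ht₀)
      have hc3 : t₀⁻¹ * (w * t₀) = w := by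
        rw [hTcomm w hwT t₀ ht₀]; group
      calc e₀⁻¹ * (z * e₀ * z⁻¹)
          = t₀⁻¹ * (((x ^ i)⁻¹ * z * x ^ i) * t₀ * z⁻¹) := by rw [he₀]; group
        _ = t₀⁻¹ * (z * (w * t₀) * z⁻¹) := by rw [hc1]; group
        _ = w := by rw [hc2, hc3]
    rw [h3] at h2
    have hyi : y ^ i ∈ E := by
      have h4 : w * (ζ ^ (i.choose 2))⁻¹ ∈ E :=
        E.mul_mem h2 (E.inv_mem (E.pow_mem (hZE hζZ) _))
      have h5 : w * (ζ ^ (i.choose 2))⁻¹ = y ^ i := by rw [hw]; group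
      rwa [h5] at h4
    obtain ⟨r', hr'⟩ := resgp2_root y p i hp.ne_zero yp hcop
    apply hyE
    rw [← hr']
    exact E.pow_mem hyi r'

end Cfsg.Agent.Lib.Helper10.RES
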