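import Mathlib
import Cfsg.Agent.Lib.Helper10.RES.Defs
import Cfsg.Agent.Lib.Helper25.RESGA1
import Cfsg.Agent.Lib.Helper25.RESGA4
import Cfsg.Agent.Lib.Helper11.RESGZ1
import Cfsg.Agent.Lib.Helper11.RESGZ2
import Cfsg.Agent.Lib.Helper22.RESGZ4
import Cfsg.Agent.Lib.Helper22.RESGQ1a
import Cfsg.Agent.Lib.Helper22.RESGQ1c
import Cfsg.Agent.Lib.Helper27.RESGP1
import Cfsg.Agent.Lib.Helper27.RESGP2core

set_option autoImplicit false

namespace Cfsg.Agent.Lib.Helper10.RES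

variable {Ω : Type*} [Group Ω]
variable {p n s : ℕ} [Fact p.Prime] {S : Subgroup Ω} {x y z : Ω}

/-- **GP2**. a self-centralizing elementary abelian subgroup of order `p²`: `Q = E T = N_S(E)`. -/
theorem F2Set.pearl_b (hF : F2Set p n s S x y z) (hp5 : 5 ≤ p) (E : Subgroup Ω) (hES : E ≤ S)
    (hcen : SelfCent S E) (hel : Cfsg.IsElementaryAbelian p E) (hcard : Nat.card E = p ^ 2) :
    (∀ q ∈ QQ p x y z, ∃ e ∈ E, ∃ t ∈ TT p y z, q = e * t) ∧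
      QQ p x y z ≤ Subgroup.normalizer (E : Set Ω) ∧
      ∀ g ∈ S, g ∈ Subgroup.normalizer (E : Set Ω) → g ∈ QQ p x y z := by
  obtain ⟨h1, h2, h3, h4⟩ := hF.pearl_a hp5 E hES hcen hel hcard
  obtain ⟨t1, t2, t3, t4, t5, t6⟩ := hF.T_facts
  exact resgp2_core h1 hF.xp hF.yp hF.zp hF.mems hF.A_comm hF.repr (fun i => (hF.conj_pow i).1)
    hF.zp_central.2.1 t1 t2 t4 t5 t6 hF.Q_basic.2.2.2.2.2 (hF.Q_quot hp5).2.1 E hcen h2 h3 h4

end Cfsg.Agent.Lib.Helper10.RES
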