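import Mathlib
import Cfsg.Agent.Lib.Helper26.FusionAut
import Cfsg.Agent.Lib.helper17.FusSmall

/-!
# Restriction homomorphisms for automizers

* `resPow`: restriction of automorphisms of `H` to the subgroup `V = {x | x ^ p = 1}`.
* `resSub`: restriction `Aut_F(R) → Aut(Q)` for an invariant subgroup `Q ≤ R`.
* `stabSub`: the automorphisms in `Aut_F(R)` acting trivially on `R / Q` (a normal subgroup).
-/

set_option autoImplicit false

namespace Cfsg.Agent.Lib.Helper27.EssRes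

open Cfsg Cfsg.FusionSystem Cfsg.Agent.Lib.Helper26 Cfsg.Agent.Lib.helper17.FusSmall

/-- restriction to the subgroup of elements with `x ^ p = 1` -/
def resPow {H : Type*} [Group H] (V : Subgroup H) (p : ℕ) (hV : ∀ x : H, x ∈ V ↔ x ^ p = 1) :
    MulAut H →* MulAut V where
  toFun β :=
    { toFun := fun v => ⟨β v, (hV _).mpr (by rw [← map_pow, (hV _).mp v.2, map_one])⟩
      invFun := fun v => ⟨β⁻¹ v, (hV _).mpr (by rw [← map_pow, (hV _).mp v.2, map_one])⟩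
      left_inv := fun v => Subtype.ext (by simp)
      right_inv := fun v => Subtype.ext (by simp)
      map_mul' := fun v w => Subtype.ext (by simp) }
  map_one' := by
    ext v
    rfl
  map_mul' := fun β γ => by
    ext v
    rfl

theorem resPow_apply {H : Type*} [Group H] (V : Subgroup H) (p : ℕ)
    (hV : ∀ x : H, x ∈ V ↔ x ^ p = 1) (β : MulAut H) (v : V) :
    ((resPow V p hV β v : V) : H) = β v := rfl

variable {Ω : Type*} [Group Ω] {S : Subgroup Ω}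

/-- restriction `Aut_F(R) → Aut(Q)` for an invariant `Q ≤ R` -/
noncomputable def resSub (F : FusionSystem S) (R Q : Subgroup Ω) [Finite Q] (hQR : Q ≤ R)
    (hinv : ∀ α ∈ F.autGroup R, ∀ z (hz : z ∈ Q), ((α ⟨z, hQR hz⟩ : R) : Ω) ∈ Q) :
    ↥(F.autGroup R) →* MulAut Q where
  toFun α := restrictAut (α : MulAut R) Q hQR (hinv _ α.2)
  map_one' := by
    ext y
    rfl
  map_mul' := fun α β => by
    ext y
    rfl

theorem resSub_apply (F : FusionSystem S) (R Q : Subgroup Ω) [Finite Q] (hQR : Q ≤ R)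
    (hinv : ∀ α ∈ F.autGroup R, ∀ z (hz : z ∈ Q), ((α ⟨z, hQR hz⟩ : R) : Ω) ∈ Q)
    (α : ↥(F.autGroup R)) (y : Q) :
    ((resSub F R Q hQR hinv α y : Q) : Ω) = (((α : MulAut R) ⟨y, hQR y.2⟩ : R) : Ω) := rfl

theorem resSub_eq (F : FusionSystem S) (R Q : Subgroup Ω) [Finite Q] (hQR : Q ≤ R)
    (hinv : ∀ α ∈ F.autGroup R, ∀ z (hz : z ∈ Q), ((α ⟨z, hQR hz⟩ : R) : Ω) ∈ Q)
    (α : MulAut R) (hα : α ∈ F.autGroup R) :
    resSub F R Q hQR hinv ⟨α, hα⟩ = restrictAut α Q hQR (hinv α hα) := rfl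

/-- the automorphisms in `Aut_F(R)` acting trivially on `R / Q` -/
def stabSub (F : FusionSystem S) (R Q : Subgroup Ω) (hQR : Q ≤ R)
    (hinv : ∀ α ∈ F.autGroup R, ∀ z (hz : z ∈ Q), ((α ⟨z, hQR hz⟩ : R) : Ω) ∈ Q) :
    Subgroup ↥(F.autGroup R) where
  carrier := {α | ∀ x : R, (x : Ω)⁻¹ * (((α : MulAut R) x : R) : Ω) ∈ Q}
  one_mem' := by
    intro x
    simp
  mul_mem' := by
    intro α α' h1 h1' x
    have e : (x : Ω)⁻¹ * ((((α * α' : ↥(F.autGroup R)) : MulAut R) x : R) : Ω) =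
        ((x : Ω)⁻¹ * ((((α' : MulAut R) x : R)) : Ω)) *
          (((((α' : MulAut R) x : R)) : Ω)⁻¹ *
            (((α : MulAut R) ((α' : MulAut R) x) : R) : Ω)) := by
      rw [Subgroup.coe_mul, MulAut.mul_apply]
      group
    rw [e]
    exact Q.mul_mem (h1' x) (h1 _)
  inv_mem' := by
    intro α h1 x
    have h3 := h1 (((α : MulAut R)⁻¹) x)
    have e : (x : Ω)⁻¹ * ((((α⁻¹ : ↥(F.autGroup R)) : MulAut R) x : R) : Ω) =
        (((((α : MulAut R)⁻¹) x : R) : Ω)⁻¹ *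
          (((α : MulAut R) (((α : MulAut R)⁻¹) x) : R) : Ω))⁻¹ := by
      rw [Subgroup.coe_inv, MulAut.apply_inv_self, mul_inv_rev, inv_inv]
    rw [e]
    exact Q.inv_mem h3

theorem mem_stabSub (F : FusionSystem S) (R Q : Subgroup Ω) (hQR : Q ≤ R)
    (hinv : ∀ α ∈ F.autGroup R, ∀ z (hz : z ∈ Q), ((α ⟨z, hQR hz⟩ : R) : Ω) ∈ Q)
    (α : ↥(F.autGroup R)) :
    α ∈ stabSub F R Q hQR hinv ↔ ∀ x : R, (x : Ω)⁻¹ * (((α : MulAut R) x : R) : Ω) ∈ Q := Iff.rfl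

instance stabSub_normal (F : FusionSystem S) (R Q : Subgroup Ω) (hQR : Q ≤ R)
    (hinv : ∀ α ∈ F.autGroup R, ∀ z (hz : z ∈ Q), ((α ⟨z, hQR hz⟩ : R) : Ω) ∈ Q) :
    (stabSub F R Q hQR hinv).Normal := by
  constructor
  intro α h1 γ x
  have hγ : (γ : MulAut R) ∈ F.autGroup R := γ.2
  have h3 := h1 (((γ : MulAut R)⁻¹) x)
  have h4 := hinv (γ : MulAut R) hγ _ h3
  have e : (x : Ω)⁻¹ * ((((γ * α * γ⁻¹ : ↥(F.autGroup R)) : MulAut R) x : R) : Ω) =
      (((γ : MulAut R) ⟨((((γ : MulAut R)⁻¹) x : R) : Ω)⁻¹ *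
        (((α : MulAut R) (((γ : MulAut R)⁻¹) x) : R) : Ω), hQR h3⟩ : R) : Ω) := by
    have e1 : (⟨((((γ : MulAut R)⁻¹) x : R) : Ω)⁻¹ *
        (((α : MulAut R) (((γ : MulAut R)⁻¹) x) : R) : Ω), hQR h3⟩ : R) =
        (((γ : MulAut R)⁻¹) x)⁻¹ * (α : MulAut R) (((γ : MulAut R)⁻¹) x) := Subtype.ext rfl
    rw [e1, map_mul, map_inv, MulAut.apply_inv_self, Subgroup.coe_mul, Subgroup.coe_mul,
      Subgroup.coe_inv, MulAut.mul_apply, MulAut.mul_apply, Subgroup.coe_mul, Subgroup.coe_inv]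
  rw [e]
  exact h4

end Cfsg.Agent.Lib.Helper27.EssRes
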