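import Cfsg.Agent.Lib.Helper26.FusionSeries2
import Cfsg.Agent.Lib.Helper27.FusJoin
import Cfsg.Agent.Lib.helper17.SylowNormal

set_option autoImplicit false

namespace Cfsg.Agent.Lib.Helper27

open Cfsg Cfsg.FusionSystem Cfsg.Agent.Lib.Helper26

variable {Ω : Type*} [Group Ω] {S : Subgroup Ω}

/-- `φ` lifts modulo `T`: some map of the system on `P ⊔ T` agrees with `φ` modulo `T`. -/
def LiftsMod (F : FusionSystem S) (T : Subgroup Ω) {P : Subgroup Ω} (φ : P →* Ω) : Prop :=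
  ∃ ψ ∈ F.Hom (P ⊔ T), ∀ x : P, (φ x)⁻¹ * ψ (Subgroup.inclusion le_sup_left x) ∈ T

theorem liftsMod_of_le (F : FusionSystem S) {T P : Subgroup Ω} (hTP : T ≤ P) {φ : P →* Ω}
    (hφ : φ ∈ F.Hom P) : LiftsMod F T φ := by
  obtain ⟨ψ, hψ, hψeq⟩ := hom_cast F (sup_eq_left.mpr hTP).symm φ hφ
  refine ⟨ψ, hψ, fun x => ?_⟩
  have : ψ (Subgroup.inclusion le_sup_left x) = φ x := hψeq x.1 x.2 _
  rw [this, inv_mul_cancel]
  exact T.one_mem

theorem apply_mem_of_stronglyClosed (F : FusionSystem S) {T : Subgroup Ω} (hT : F.StronglyClosed T)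
    {P : Subgroup Ω} {φ : P →* Ω} (hφ : φ ∈ F.Hom P) (x : P) (hx : (x : Ω) ∈ T) : φ x ∈ T :=
  hT.2 (P ⊓ T) inf_le_right _ (restrict_mem F hφ inf_le_left) ⟨x, x.2, hx⟩

theorem exists_preimage_of_stronglyClosed [Finite S] (F : FusionSystem S) {T : Subgroup Ω}
    (hT : F.StronglyClosed T) {P : Subgroup Ω} (hTP : T ≤ P) {φ : P →* Ω} (hφ : φ ∈ F.Hom P)
    {t : Ω} (ht : t ∈ T) : ∃ y : P, (y : Ω) ∈ T ∧ φ y = t := by
  have hfin : Finite T := finite_of_le hT.1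
  have hφT : φ.comp (Subgroup.inclusion hTP) ∈ F.Hom T := restrict_mem F hφ hTP
  have hmem : ∀ y : T, (φ.comp (Subgroup.inclusion hTP)) y ∈ T := fun y =>
    hT.2 T le_rfl _ hφT y
  have hinj : Function.Injective ((φ.comp (Subgroup.inclusion hTP)).codRestrict T hmem) := by
    intro a b hab
    exact F.injective_of_mem hφT (congrArg Subtype.val hab)
  have hsurj := Finite.surjective_of_injective hinj
  obtain ⟨y, hy⟩ := hsurj ⟨t, ht⟩
  refine ⟨Subgroup.inclusion hTP y, y.2, ?_⟩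
  exact congrArg Subtype.val hy

theorem exists_mul_of_mem_sup {P T : Subgroup Ω} (hPT : P ≤ Subgroup.normalizer (T : Set Ω))
    {z : Ω} (hz : z ∈ P ⊔ T) : ∃ x ∈ P, ∃ t ∈ T, z = x * t := by
  have hz' : z ∈ ((P ⊔ T : Subgroup Ω) : Set Ω) := hz
  rw [Subgroup.coe_mul_of_left_le_normalizer_right P T hPT] at hz'
  obtain ⟨a, ha, q, hq, rfl⟩ := Set.mem_mul.mp hz'
  exact ⟨a, ha, q, hq, rfl⟩

theorem liftsMod_cancel [Finite S] (F : FusionSystem S) {T : Subgroup Ω} (hT : F.StronglyClosed T)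
    {P Q : Subgroup Ω} {φ : P →* Ω} {ρ : Q →* Ω} (hφ : φ ∈ F.Hom P) (hρ : ρ ∈ F.Hom Q)
    (h : ∀ x, φ x ∈ Q)
    (ha : LiftsMod F T (ρ.comp (φ.codRestrict Q h))) (hb : LiftsMod F T ρ) : LiftsMod F T φ := by
  obtain ⟨ψa, hψa, hae⟩ := ha
  obtain ⟨ψb, hψb, hbe⟩ := hb
  have hPS : P ≤ S := source_le F hφ
  have hSn : S ≤ Subgroup.normalizer (T : Set Ω) := le_normalizer_of_stronglyClosed F hT
  obtain ⟨ψb', hψb', -, hinv1, -⟩ := exists_inv F hψb rfl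
  have key1 : ∀ t ∈ T, t ∈ ψb.range := by
    intro t ht
    obtain ⟨y, -, hy⟩ := exists_preimage_of_stronglyClosed F hT le_sup_right hψb ht
    exact ⟨y, hy⟩
  have key2 : ∀ x : P, ∃ y : ↥(Q ⊔ T), (y : Ω) ∈ T ∧
      ψa (Subgroup.inclusion le_sup_left x) =
        ψb (Subgroup.inclusion le_sup_left (⟨φ x, h x⟩ : Q) * y) := by
    intro x
    have h1 := hae x
    have h2 := hbe ⟨φ x, h x⟩
    have h3 : (ψb (Subgroup.inclusion le_sup_left (⟨φ x, h x⟩ : Q)))⁻¹ *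
        ψa (Subgroup.inclusion le_sup_left x) ∈ T := by
      have e : (ψb (Subgroup.inclusion le_sup_left (⟨φ x, h x⟩ : Q)))⁻¹ *
          ψa (Subgroup.inclusion le_sup_left x) =
          ((ρ ⟨φ x, h x⟩)⁻¹ * ψb (Subgroup.inclusion le_sup_left (⟨φ x, h x⟩ : Q)))⁻¹ *
          ((ρ ⟨φ x, h x⟩)⁻¹ * ψa (Subgroup.inclusion le_sup_left x)) := by group
      rw [e]
      exact T.mul_mem (T.inv_mem h2) h1
    obtain ⟨y, hyT, hy⟩ := exists_preimage_of_stronglyClosed F hT le_sup_right hψb h3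
    refine ⟨y, hyT, ?_⟩
    rw [map_mul, hy]
    group
  have key3 : ∀ z : ↥(P ⊔ T), ψa z ∈ ψb.range := by
    intro z
    obtain ⟨x, hx, t, ht, hz⟩ := exists_mul_of_mem_sup (hPS.trans hSn) z.2
    have hz' : z = Subgroup.inclusion le_sup_left (⟨x, hx⟩ : P) *
        Subgroup.inclusion le_sup_right (⟨t, ht⟩ : T) := Subtype.ext hz
    rw [hz', map_mul]
    refine Subgroup.mul_mem _ ?_ ?_
    · obtain ⟨y, -, hy⟩ := key2 ⟨x, hx⟩
      rw [hy]
      exact ⟨_, rfl⟩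
    · exact key1 _ (apply_mem_of_stronglyClosed F hT hψa _ ht)
  refine ⟨ψb'.comp (ψa.codRestrict ψb.range key3), F.comp_mem hψa hψb' key3, fun x => ?_⟩
  obtain ⟨y, hyT, hy⟩ := key2 x
  have hmem : ψb (Subgroup.inclusion le_sup_left (⟨φ x, h x⟩ : Q) * y) ∈ ψb.range := ⟨_, rfl⟩
  have e1 : (ψa.codRestrict ψb.range key3) (Subgroup.inclusion le_sup_left x) =
      ⟨ψb (Subgroup.inclusion le_sup_left (⟨φ x, h x⟩ : Q) * y), hmem⟩ := Subtype.ext hy
  rw [MonoidHom.comp_apply, e1, hinv1 _ hmem]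
  have e2 : (φ x)⁻¹ * ((Subgroup.inclusion le_sup_left (⟨φ x, h x⟩ : Q) * y : ↥(Q ⊔ T)) : Ω) =
      (y : Ω) := by
    show (φ x)⁻¹ * (φ x * (y : Ω)) = y
    group
  rw [e2]
  exact hyT

theorem exists_conj_le_sylow_of_normal {A : Type*} [Group A] [Finite A] {p : ℕ} [Fact p.Prime]
    (Sy : Sylow p A) (K : Subgroup A) [K.Normal] (B : Subgroup A) (hB : IsPGroup p B)
    (hBK : B ≤ K) : ∃ k ∈ K, ∀ b ∈ B, k * b * k⁻¹ ∈ (Sy : Subgroup A) := by
  have hB' : IsPGroup p (B.subgroupOf K) := hB.comap_subtype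
  obtain ⟨Q', hQ'⟩ := hB'.exists_le_sylow
  obtain ⟨k, hk⟩ := MulAction.exists_smul_eq K Q' (Cfsg.Agent.Lib.helper17.sylowInfNormal Sy K)
  refine ⟨k, k.2, fun b hb => ?_⟩
  have h1 : (⟨b, hBK hb⟩ : K) ∈ Q' := hQ' (Subgroup.mem_subgroupOf.mpr hb)
  have h2 : k * ⟨b, hBK hb⟩ * k⁻¹ ∈ (k • Q' : Sylow p K) := by
    rw [← SetLike.mem_coe, Sylow.coe_smul]
    exact ⟨_, h1, rfl⟩
  rw [hk] at h2
  have h3 : k * ⟨b, hBK hb⟩ * k⁻¹ ∈ (Sy : Subgroup A).subgroupOf K := h2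
  exact Subgroup.mem_subgroupOf.mp h3

theorem congr_apply_coe {R R'' : Subgroup Ω} (e : R ≃* R'') (α : MulAut R) (y : R'') :
    (MulAut.congr e α) y = e (α (e.symm y)) := rfl

theorem lift_step [Finite S] {p : ℕ} [Fact p.Prime] (hS : IsPGroup p S) (F : FusionSystem S)
    (hF : F.IsSaturated p) {T : Subgroup Ω} (hT : F.StronglyClosed T) {R R'' : Subgroup Ω}
    (IH : ∀ R₁ : Subgroup Ω, R₁ ≤ S → Nat.card R < Nat.card R₁ →
      ∀ θ₁ : R₁ →* Ω, θ₁ ∈ F.Hom R₁ → LiftsMod F T θ₁)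
    {θ : R →* Ω} (hθ : θ ∈ F.Hom R) (hr : θ.range = R'') (hR'' : F.IsFullyNormalized R'') :
    LiftsMod F T θ := by
  by_cases hTR : T ≤ R
  · exact liftsMod_of_le F hTR hθ
  have hRS : R ≤ S := source_le F hθ
  have hR''S : R'' ≤ S := hR''.1
  have hSn := le_normalizer_of_stronglyClosed F hT
  obtain ⟨-, h₁, h₂⟩ := saturated_fullyNormalized hS F hF hR''
  have hnot : ¬ (T ⊓ Subgroup.normalizer (R : Set Ω) ≤ R) := fun h =>
    hTR (le_of_inf_normalizer_le hS hRS hT.1 hSn h)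
  obtain ⟨t₀, ht₀, ht₀R⟩ := SetLike.not_le_iff_exists.mp hnot
  obtain ⟨e, he, hex⟩ := exists_iso_of_hom F hθ hr
  have hfinR'' : Finite R'' := finite_of_le hR''S
  have hfinR : Finite R := finite_of_le hRS
  have hNTS : T ⊓ Subgroup.normalizer (R : Set Ω) ≤ S := inf_le_left.trans hT.1
  have hKn : ((linkStab R'' T R'').subgroupOf (F.autGroup R'')).Normal :=
    linkStab_subgroupOf_normal (F.autGroup R'') (autInvariant_of_stronglyClosed F hT hR''S)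
      (autInvariant_self (F.autGroup R''))
  obtain ⟨Sy, hSy⟩ := h₁.2
  have haux : ∀ α ∈ autInducedBy (T ⊓ Subgroup.normalizer (R : Set Ω)) R, ∀ y : R'',
      (y : Ω)⁻¹ * ((MulAut.congr e α) y : R'') ∈ T := by
    intro α hα y
    obtain ⟨g, hg, hgα⟩ := mem_autInducedBy_iff.mp hα
    rw [congr_apply_coe]
    have hy : y = e (e.symm y) := (e.apply_symm_apply y).symm
    have e1 : (y : Ω)⁻¹ * ((e (α (e.symm y)) : R'') : Ω) =
        ((e ((e.symm y)⁻¹ * α (e.symm y)) : R'') : Ω) := by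
      rw [map_mul, map_inv, e.apply_symm_apply]
      rfl
    rw [e1, hex]
    refine apply_mem_of_stronglyClosed F hT hθ _ ?_
    show ((e.symm y : R) : Ω)⁻¹ * ((α (e.symm y) : R) : Ω) ∈ T
    rw [hgα]
    have hx : ((e.symm y : R) : Ω) ∈ S := hRS (e.symm y).2
    have h1 : ((e.symm y : R) : Ω)⁻¹ * g * ((e.symm y : R) : Ω)⁻¹⁻¹ ∈ T :=
      (Subgroup.mem_normalizer_iff.mp (hSn (S.inv_mem hx)) g).mp hg.1
    have e2 : ((e.symm y : R) : Ω)⁻¹ * (g * ((e.symm y : R) : Ω) * g⁻¹) =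
        (((e.symm y : R) : Ω)⁻¹ * g * ((e.symm y : R) : Ω)⁻¹⁻¹) * g⁻¹ := by group
    rw [e2]
    exact T.mul_mem h1 (T.inv_mem hg.1)
  have hBmem : ∀ α ∈ autInducedBy (T ⊓ Subgroup.normalizer (R : Set Ω)) R,
      MulAut.congr e α ∈ F.autGroup R'' := fun α hα =>
    congr_mem_autGroup he (autInducedBy_le_autGroup F hRS (autInducedBy_mono hNTS R hα))
  have hBK : ((autInducedBy (T ⊓ Subgroup.normalizer (R : Set Ω)) R).map
      (MulAut.congr e).toMonoidHom).subgroupOf (F.autGroup R'') ≤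
      (linkStab R'' T R'').subgroupOf (F.autGroup R'') := by
    intro b hb
    rw [Subgroup.mem_subgroupOf] at hb ⊢
    obtain ⟨α, hα, hαb⟩ := hb
    rw [← hαb]
    intro y _
    refine ⟨⟨(_ : R'').2, (_ : R'').2⟩, haux α hα y, ?_⟩
    have hinv : ((MulAut.congr e).toMonoidHom α)⁻¹ = MulAut.congr e α⁻¹ := by
      rw [← map_inv]; rfl
    rw [hinv]
    exact haux α⁻¹ (Subgroup.inv_mem _ hα) y
  have hBp : IsPGroup p ↥(((autInducedBy (T ⊓ Subgroup.normalizer (R : Set Ω)) R).map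
      (MulAut.congr e).toMonoidHom).subgroupOf (F.autGroup R'')) :=
    ((isPGroup_autInducedBy (hS.to_le hNTS) R).map _).comap_subtype
  obtain ⟨κ, hκK, hκ⟩ := exists_conj_le_sylow_of_normal Sy _ _ hBp hBK
  have hκT : ∀ y : R'', (y : Ω)⁻¹ * (((κ : MulAut R'') y : R'') : Ω) ∈ T := fun y =>
    ((Subgroup.mem_subgroupOf.mp hκK) y y.2).2.1
  have hκF : R''.subtype.comp (κ : MulAut R'').toMonoidHom ∈ F.Hom R'' :=
    (mem_autGroup_iff F hR''S).mp κ.2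
  have hθR'' : ∀ x : R, θ x ∈ R'' := fun x => hr.le ⟨x, rfl⟩
  have hθ' : (R''.subtype.comp (κ : MulAut R'').toMonoidHom).comp (θ.codRestrict R'' hθR'') ∈
      F.Hom R := F.comp_mem hθ hκF hθR''
  have hθ'apply : ∀ x : R, ((R''.subtype.comp (κ : MulAut R'').toMonoidHom).comp
      (θ.codRestrict R'' hθR'')) x = (((κ : MulAut R'') (e x) : R'') : Ω) := by
    intro x
    show (((κ : MulAut R'') ⟨θ x, hθR'' x⟩ : R'') : Ω) = _
    congr 2
    exact Subtype.ext (hex x).symm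
  have hθ'r : ((R''.subtype.comp (κ : MulAut R'').toMonoidHom).comp
      (θ.codRestrict R'' hθR'')).range = R'' := by
    ext z
    constructor
    · rintro ⟨x, rfl⟩
      rw [hθ'apply]
      exact ((κ : MulAut R'') (e x)).2
    · intro hz
      refine ⟨e.symm ((κ : MulAut R'')⁻¹ ⟨z, hz⟩), ?_⟩
      rw [hθ'apply, e.apply_symm_apply, MulAut.apply_inv_self]
  have hext : T ⊓ Subgroup.normalizer (R : Set Ω) ≤ extender S R
      ((R''.subtype.comp (κ : MulAut R'').toMonoidHom).comp (θ.codRestrict R'' hθR'')) := by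
    intro g hg
    have hgN : g ∈ Subgroup.normalizer (R : Set Ω) := hg.2
    have hb : (⟨MulAut.congr e (conjAut R g hgN),
        hBmem _ (conjAut_mem_autInducedBy hg hgN)⟩ : F.autGroup R'') ∈
        ((autInducedBy (T ⊓ Subgroup.normalizer (R : Set Ω)) R).map
          (MulAut.congr e).toMonoidHom).subgroupOf (F.autGroup R'') := by
      rw [Subgroup.mem_subgroupOf]
      exact ⟨_, conjAut_mem_autInducedBy hg hgN, rfl⟩
    have h3 := hκ _ hb
    rw [hSy] at h3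
    obtain ⟨h, hhS, hh⟩ := mem_autInducedBy_iff.mp (Subgroup.mem_subgroupOf.mp h3)
    refine mem_extender_iff.mpr ⟨hNTS hg, hgN, h, hhS, fun x => ?_⟩
    rw [hθ'apply, hθ'apply]
    have h4 := hh ((κ : MulAut R'') (e x))
    rw [← h4]
    show _ = ((((κ : MulAut R'') * MulAut.congr e (conjAut R g hgN) * (κ : MulAut R'')⁻¹)
      ((κ : MulAut R'') (e x)) : R'') : Ω)
    rw [MulAut.mul_apply, MulAut.mul_apply, MulAut.inv_apply_self, congr_apply_coe,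
      e.symm_apply_apply]
    rfl
  obtain ⟨ψ₀, hψ₀, hψ₀e⟩ := h₂.2 R _ hθ' hθ'r
  have hR₁ext : R ⊔ (T ⊓ Subgroup.normalizer (R : Set Ω)) ≤ extender S R
      ((R''.subtype.comp (κ : MulAut R'').toMonoidHom).comp (θ.codRestrict R'' hθR'')) :=
    sup_le (le_extender F hθ') hext
  have hR₁S : R ⊔ (T ⊓ Subgroup.normalizer (R : Set Ω)) ≤ S := sup_le hRS hNTS
  have hfinR₁ : Finite ↥(R ⊔ (T ⊓ Subgroup.normalizer (R : Set Ω))) := finite_of_le hR₁S
  have hlt : Nat.card R < Nat.card ↥(R ⊔ (T ⊓ Subgroup.normalizer (R : Set Ω))) := by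
    apply card_lt_card_of_lt
    refine lt_of_le_of_ne le_sup_left (fun heq => ht₀R ?_)
    have h8 : t₀ ∈ R ⊔ (T ⊓ Subgroup.normalizer (R : Set Ω)) :=
      (le_sup_right : T ⊓ Subgroup.normalizer (R : Set Ω) ≤ R ⊔ (T ⊓ Subgroup.normalizer (R : Set Ω))) ht₀
    rwa [← heq] at h8
  obtain ⟨ψ₁, hψ₁, hψ₁e⟩ := IH _ hR₁S hlt _ (restrict_mem F hψ₀ hR₁ext)
  have hsup : R ⊔ (T ⊓ Subgroup.normalizer (R : Set Ω)) ⊔ T = R ⊔ T := by
    rw [sup_assoc, sup_eq_right.mpr (inf_le_left : T ⊓ Subgroup.normalizer (R : Set Ω) ≤ T)]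
  obtain ⟨ψ, hψ, hψe⟩ := hom_cast F hsup ψ₁ hψ₁
  refine ⟨ψ, hψ, fun x => ?_⟩
  have hxR₁ : (x : Ω) ∈ R ⊔ (T ⊓ Subgroup.normalizer (R : Set Ω)) :=
    (le_sup_left : R ≤ R ⊔ (T ⊓ Subgroup.normalizer (R : Set Ω))) x.2
  have h5 := hψ₁e ⟨x, hxR₁⟩
  have h6 : ψ (Subgroup.inclusion le_sup_left x) =
      ψ₁ (Subgroup.inclusion le_sup_left ⟨x, hxR₁⟩) :=
    hψe x.1 ((le_sup_left : R ⊔ (T ⊓ Subgroup.normalizer (R : Set Ω)) ≤
      R ⊔ (T ⊓ Subgroup.normalizer (R : Set Ω)) ⊔ T) hxR₁) _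
  have h7 : (ψ₀.comp (Subgroup.inclusion hR₁ext)) ⟨x, hxR₁⟩ =
      (((κ : MulAut R'') (e x) : R'') : Ω) := by
    rw [← hθ'apply]
    exact hψ₀e x.1 x.2 _
  rw [h7] at h5
  rw [h6]
  have e3 : (θ x)⁻¹ * ψ₁ (Subgroup.inclusion le_sup_left ⟨x, hxR₁⟩) =
      (((e x : R'') : Ω)⁻¹ * (((κ : MulAut R'') (e x) : R'') : Ω)) *
      ((((κ : MulAut R'') (e x) : R'') : Ω)⁻¹ *
        ψ₁ (Subgroup.inclusion le_sup_left ⟨x, hxR₁⟩)) := by
    rw [hex]; group
  rw [e3]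
  exact T.mul_mem (hκT (e x)) h5

/-- Puig's lifting theorem: modulo a strongly closed subgroup `T`, every map of a saturated
fusion system with source `P` is induced by a map with source `P ⊔ T`. -/
theorem exists_lift [Finite S] {p : ℕ} [Fact p.Prime] (hS : IsPGroup p S) (F : FusionSystem S)
    (hF : F.IsSaturated p) {T : Subgroup Ω} (hT : F.StronglyClosed T) :
    ∀ (P : Subgroup Ω) (φ : P →* Ω), φ ∈ F.Hom P → LiftsMod F T φ := by
  intro P
  induction' hk : Nat.card S - Nat.card P using Nat.strong_induction_on with k ih generalizing P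
  intro φ hφ
  have hPS : P ≤ S := source_le F hφ
  have hfinP : Finite P := finite_of_le hPS
  have IH : ∀ R₁ : Subgroup Ω, R₁ ≤ S → Nat.card P < Nat.card R₁ →
      ∀ θ₁ : R₁ →* Ω, θ₁ ∈ F.Hom R₁ → LiftsMod F T θ₁ := by
    intro R₁ hR₁S hlt θ₁ hθ₁
    have hle : Nat.card R₁ ≤ Nat.card S := card_le_card_of_le_of_finite hR₁S
    refine ih (Nat.card S - Nat.card R₁) ?_ R₁ rfl θ₁ hθ₁
    omega
  have hP'S : φ.range ≤ S := range_le F hφ
  obtain ⟨P'', hconj, hP''⟩ := exists_fullyNormalized_conj F hP'S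
  obtain ⟨-, h₁, h₂⟩ := saturated_fullyNormalized hS F hF hP''
  obtain ⟨N⟩ := nonempty_normalizerHom hS F h₁ h₂ hconj
  have hφr : ∀ x : P, φ x ∈ φ.range := fun x => ⟨x, rfl⟩
  have hcard : Nat.card φ.range = Nat.card P :=
    (Nat.card_congr (MonoidHom.ofInjective (F.injective_of_mem hφ)).toEquiv).symm
  have hρ := N.restrictQ_mem hP'S
  have hρr := N.restrictQ_range hP'S
  have hb : LiftsMod F T (N.restrictQ hP'S) := by
    refine lift_step hS F hF hT ?_ hρ hρr hP''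
    intro R₁ hR₁S hlt
    rw [hcard] at hlt
    exact IH R₁ hR₁S hlt
  have hφ₂ : (N.restrictQ hP'S).comp (φ.codRestrict φ.range hφr) ∈ F.Hom P :=
    F.comp_mem hφ hρ hφr
  have hφ₂r : ((N.restrictQ hP'S).comp (φ.codRestrict φ.range hφr)).range = P'' := by
    refine Eq.trans ?_ hρr
    ext z
    constructor
    · rintro ⟨x, rfl⟩
      exact ⟨_, rfl⟩
    · rintro ⟨⟨y, x, rfl⟩, rfl⟩
      exact ⟨x, rfl⟩
  have ha : LiftsMod F T ((N.restrictQ hP'S).comp (φ.codRestrict φ.range hφr)) :=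
    lift_step hS F hF hT IH hφ₂ hφ₂r hP''
  exact liftsMod_cancel F hT hφ hρ hφr ha hb

end Cfsg.Agent.Lib.Helper27
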