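import Mathlib
import Cfsg.Agent.Lib.Helper24.Taussky
import Cfsg.Agent.Lib.Helper9.KleinCentralizer

/-!
# Self-centralizing small subgroups of metacyclic `2`-groups

A finite `2`-group `X` with a cyclic normal subgroup `N` and cyclic quotient `X ⧸ N`:
* a self-centralizing Klein four-subgroup or quaternion subgroup of order eight forces `X` to be
  dihedral, semidihedral or generalized quaternion;
* a homocyclic subgroup of rank two and exponent at least four admits no "transvection" from its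
  normalizer.
-/

set_option autoImplicit false

namespace Cfsg.Agent.Lib.Helper27.MetaTwo

open Cfsg.Agent.Lib.Helper24 Cfsg.Agent.Lib.Helper9

section Cyc

/-- in a finite cyclic `2`-group a non-square is a generator -/
theorem zpowers_eq_top_of_not_sq {Y : Type*} [Group Y] [Finite Y] [IsCyclic Y] (hY : IsPGroup 2 Y)
    (y : Y) (hy : ∀ z : Y, z * z ≠ y) : Subgroup.zpowers y = ⊤ := by
  haveI : Fact (Nat.Prime 2) := ⟨Nat.prime_two⟩
  obtain ⟨g, hg⟩ := IsCyclic.exists_generator (α := Y)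
  obtain ⟨j, hj⟩ := Subgroup.mem_zpowers_iff.mp (hg y)
  obtain ⟨k, hk⟩ := IsPGroup.iff_card.mp hY
  have hgk : g ^ ((2 : ℤ) ^ k) = 1 := by
    have h1 : g ^ (2 ^ k : ℕ) = 1 := by rw [← hk]; exact pow_card_eq_one'
    have h2 : ((2 : ℤ) ^ k) = ((2 ^ k : ℕ) : ℤ) := by push_cast; rfl
    rw [h2, zpow_natCast]
    exact h1
  rcases Int.even_or_odd j with ⟨i, hi⟩ | ⟨i, hi⟩
  · exfalso
    apply hy (g ^ i)
    rw [← zpow_add, ← hi, hj]
  · have hcop : IsCoprime j ((2 : ℤ) ^ k) := by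
      apply IsCoprime.pow_right
      exact ⟨1, -i, by rw [hi]; ring⟩
    obtain ⟨a, b, hab⟩ := hcop
    have hgy : g ∈ Subgroup.zpowers y := by
      rw [Subgroup.mem_zpowers_iff]
      refine ⟨a, ?_⟩
      rw [← hj, ← zpow_mul]
      have e : j * a = 1 - b * (2 : ℤ) ^ k := by linarith
      rw [e, zpow_sub, zpow_one, mul_comm b, zpow_mul, hgk, one_zpow, inv_one, mul_one]
    rw [eq_top_iff]
    intro x _
    obtain ⟨l, hl⟩ := Subgroup.mem_zpowers_iff.mp (hg x)
    rw [← hl]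
    exact Subgroup.zpow_mem _ hgy l

end Cyc

section Sq

variable {X : Type*} [Group X]

/-- squares centralize an element of order four of a cyclic normal subgroup -/
theorem sq_commute_of_order_four (N : Subgroup X) [hNn : N.Normal] (c : X)
    (hN : N = Subgroup.zpowers c) (q : X) (hqN : q ∈ N) (hq4 : orderOf q = 4) (d : X) :
    (d * d) * q = q * (d * d) := by
  have hcN : c ∈ N := by rw [hN]; exact Subgroup.mem_zpowers c
  have hdc : d * c * d⁻¹ ∈ N := hNn.conj_mem c hcN d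
  rw [hN] at hdc hqN
  obtain ⟨i, hi⟩ := Subgroup.mem_zpowers_iff.mp hdc
  obtain ⟨a, ha⟩ := Subgroup.mem_zpowers_iff.mp hqN
  have hdq : d * q * d⁻¹ = q ^ i := by
    rw [← ha, ← conj_zpow, ← hi, ← zpow_mul, ← zpow_mul, mul_comm]
  have hq4' : q ^ (4 : ℤ) = 1 := by
    have : q ^ (4 : ℕ) = 1 := by rw [← hq4]; exact pow_orderOf_eq_one q
    exact_mod_cast this
  have hodd : Odd i := by
    rcases Int.even_or_odd i with ⟨j, hj⟩ | h
    · exfalso
      have h1 : (d * q * d⁻¹) ^ (2 : ℕ) = 1 := by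
        rw [hdq, ← zpow_natCast, ← zpow_mul, hj]
        have e : (j + j) * ((2 : ℕ) : ℤ) = 4 * j := by push_cast; ring
        rw [e, zpow_mul, hq4', one_zpow]
      have h2 : q ^ 2 = 1 := by
        have h3 : (d * q * d⁻¹) ^ 2 = d * q ^ 2 * d⁻¹ := conj_pow
        rw [h3] at h1
        have h4 : q ^ 2 = d⁻¹ * (d * q ^ 2 * d⁻¹) * d := by group
        rw [h4, h1]
        group
      have h5 := orderOf_dvd_of_pow_eq_one h2
      rw [hq4] at h5
      omega
    · exact h
  obtain ⟨j, hj⟩ := hodd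
  have h2 : (d * d) * q * (d * d)⁻¹ = q := by
    have e1 : (d * d) * q * (d * d)⁻¹ = d * (d * q * d⁻¹) * d⁻¹ := by group
    rw [e1, hdq, ← conj_zpow, hdq, ← zpow_mul, hj]
    have e : (2 * j + 1) * (2 * j + 1) = 4 * (j * (j + 1)) + 1 := by ring
    rw [e, zpow_add, zpow_mul, hq4', one_zpow, one_mul, zpow_one]
  calc (d * d) * q = ((d * d) * q * (d * d)⁻¹) * (d * d) := by group
    _ = q * (d * d) := by rw [h2]

end Sq

section Centric

variable {X : Type*} [Group X] [Finite X]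

/-- **A self-centralizing subgroup with a cyclic part of index two forces maximal class.** -/
theorem maxclass_of_centric (hX : IsPGroup 2 X)
    (N : Subgroup X) [hNn : N.Normal] [hNc : IsCyclic N] [hQc : IsCyclic (X ⧸ N)]
    (P : Subgroup X) (hcen : Subgroup.centralizer (P : Set X) ≤ P)
    (h : X) (hhN : h ∉ N) (hsq : h * h ∈ N)
    (hcos : ∀ x ∈ P, x ∈ N ∨ x * h⁻¹ ∈ N)
    (hsmall : Nat.card ↥(P ⊓ N ⊓ Subgroup.centralizer ({h} : Set X)) ≤ 2) :
    P = ⊤ ∨ (∃ k : ℕ, Nonempty (X ≃* DihedralGroup (2 ^ (k + 2)))) ∨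
      (∃ k : ℕ, Nat.card X = 2 ^ (k + 4) ∧ ∃ a b : X, orderOf a = 2 ^ (k + 3) ∧ orderOf b = 2 ∧
        b * a * b⁻¹ = a ^ (2 ^ (k + 2) - 1)) ∨
      (∃ k : ℕ, Nonempty (X ≃* QuaternionGroup (2 ^ (k + 1)))) := by
  haveI : Fact (Nat.Prime 2) := ⟨Nat.prime_two⟩
  obtain ⟨⟨c, hcN⟩, hgen⟩ := hNc.exists_generator
  have hN : N = Subgroup.zpowers c := by
    apply le_antisymm
    · intro u hu
      obtain ⟨i, hi⟩ := Subgroup.mem_zpowers_iff.mp (hgen ⟨u, hu⟩)
      rw [Subgroup.mem_zpowers_iff]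
      refine ⟨i, ?_⟩
      have := congrArg Subtype.val hi
      simpa using this
    · rw [Subgroup.zpowers_le]; exact hcN
  have hNab : ∀ u ∈ N, ∀ v ∈ N, u * v = v * u := by
    intro u hu v hv
    rw [hN] at hu hv
    obtain ⟨i, rfl⟩ := Subgroup.mem_zpowers_iff.mp hu
    obtain ⟨j, rfl⟩ := Subgroup.mem_zpowers_iff.mp hv
    rw [← zpow_add, ← zpow_add, add_comm]
  have hle : N ⊓ Subgroup.centralizer ({h} : Set X) ≤
      P ⊓ N ⊓ Subgroup.centralizer ({h} : Set X) := by
    intro u hu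
    obtain ⟨huN, huh⟩ := Subgroup.mem_inf.mp hu
    rw [Subgroup.mem_centralizer_singleton_iff] at huh
    refine Subgroup.mem_inf.mpr ⟨Subgroup.mem_inf.mpr ⟨?_, huN⟩, ?_⟩
    · apply hcen
      rw [Subgroup.mem_centralizer_iff]
      intro x hx
      rcases hcos x hx with hxN | hxN
      · exact hNab x hxN u huN
      · have e : x = (x * h⁻¹) * h := by group
        rw [e, mul_assoc, ← huh, ← mul_assoc, hNab _ hxN u huN, mul_assoc]
    · rw [Subgroup.mem_centralizer_singleton_iff]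
      exact huh
  have hcent : Nat.card ↥(N ⊓ Subgroup.centralizer ({h} : Set X)) ≤ 2 :=
    (Subgroup.card_le_of_le hle).trans hsmall
  obtain ⟨m, hm⟩ := IsPGroup.iff_card.mp (hX.to_subgroup N)
  have hord : orderOf c = 2 ^ m := by
    rw [← Nat.card_zpowers, ← hN, hm]
  by_cases hm2 : 2 ≤ m
  · right
    set q := c ^ 2 ^ (m - 2) with hq
    have hqN : q ∈ N := N.pow_mem hcN _
    have hq4 : orderOf q = 4 := by
      rw [hq, orderOf_pow_of_dvd (by positivity) (by rw [hord]; exact pow_dvd_pow 2 (by omega)),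
        hord, Nat.pow_div (by omega) (by norm_num)]
      have : m - (m - 2) = 2 := by omega
      rw [this]
    have hns : ∀ z : X ⧸ N, z * z ≠ (QuotientGroup.mk h : X ⧸ N) := by
      intro z
      induction z using QuotientGroup.induction_on with
      | H d =>
        intro heq
        have h1 : (QuotientGroup.mk (d * d) : X ⧸ N) = QuotientGroup.mk h := heq
        rw [QuotientGroup.eq] at h1
        have hqd := sq_commute_of_order_four N c hN q hqN hq4 d
        have hqn := hNab q hqN _ h1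
        have hqh : q * h = h * q := by
          have e : h = (d * d) * ((d * d)⁻¹ * h) := by group
          rw [e, ← mul_assoc, ← hqd, mul_assoc, hqn, ← mul_assoc]
        have hzq : Subgroup.zpowers q ≤ N ⊓ Subgroup.centralizer ({h} : Set X) := by
          rw [Subgroup.zpowers_le]
          refine Subgroup.mem_inf.mpr ⟨hqN, ?_⟩
          rw [Subgroup.mem_centralizer_singleton_iff]
          exact hqh
        have h4 := Subgroup.card_le_of_le hzq
        rw [Nat.card_zpowers, hq4] at h4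
        omega
    have htop := zpowers_eq_top_of_not_sq (hX.to_quotient N) _ hns
    have hidxN : N.index = 2 := by
      rw [Subgroup.index_eq_card, ← Subgroup.card_top, ← htop, Nat.card_zpowers]
      apply orderOf_eq_prime
      · rw [pow_two, ← QuotientGroup.mk_mul]
        exact (QuotientGroup.eq_one_iff _).mpr hsq
      · intro h1
        exact hhN ((QuotientGroup.eq_one_iff _).mp h1)
    have hidx : (Subgroup.zpowers c).index = 2 := by rw [← hN]; exact hidxN
    have hg : h ∉ Subgroup.zpowers c := by rw [← hN]; exact hhN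
    have hcent' : Nat.card ↥(Subgroup.zpowers c ⊓ Subgroup.centralizer ({h} : Set X)) ≤ 2 := by
      rw [← hN]; exact hcent
    obtain ⟨hwo, hcases, hgg, hgc⟩ := tk_facts c h m (by omega) hord hidx hg hcent'
    rcases hgc with hgc | hgc
    · rcases hgg with hgg | hgg
      · left
        exact tk_dihedral c h m hm2 hord hidx hg hgg hgc
      · right; right
        exact tk_quaternion c h m hm2 hord hidx hg hgg hgc
    · right; left
      exact tk_semidihedral c h m hm2 hord hidx hg hwo hcases hgg hgc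
  · left
    have hc2 : c * c = 1 := by
      have h1 : orderOf c ∣ 2 := by
        rw [hord]
        have : m = 0 ∨ m = 1 := by omega
        rcases this with rfl | rfl <;> norm_num
      rw [← pow_two]
      exact orderOf_dvd_iff_pow_eq_one.mp h1
    have hccen : ∀ d : X, d * c * d⁻¹ = c := by
      intro d
      have h1 : d * c * d⁻¹ ∈ N := hNn.conj_mem c hcN d
      rw [hN] at h1
      obtain ⟨i, hi⟩ := Subgroup.mem_zpowers_iff.mp h1
      rcases Int.even_or_odd i with ⟨j, hj⟩ | ⟨j, hj⟩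
      · have h2 : c ^ i = 1 := by
          rw [hj, ← two_mul, zpow_mul, zpow_two, hc2, one_zpow]
        rw [h2] at hi
        have h3 : c = 1 := by
          have : c = d⁻¹ * (d * c * d⁻¹) * d := by group
          rw [this, ← hi]
          group
        rw [h3]
        group
      · have h2 : c ^ i = c := by
          rw [hj, zpow_add, zpow_mul, zpow_two, hc2, one_zpow, one_mul, zpow_one]
        rw [← hi, h2]
    have hNcen : N ≤ Subgroup.center X := by
      intro u hu
      rw [hN] at hu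
      obtain ⟨i, rfl⟩ := Subgroup.mem_zpowers_iff.mp hu
      rw [Subgroup.mem_center_iff]
      intro d
      have h1 : d * c ^ i * d⁻¹ = c ^ i := by
        rw [← conj_zpow, hccen]
      calc d * c ^ i = (d * c ^ i * d⁻¹) * d := by group
        _ = c ^ i * d := by rw [h1]
    have hcomm : IsMulCommutative X :=
      MonoidHom.isMulCommutative_of_isCyclic_of_ker_le_center (QuotientGroup.mk' N)
        (by rw [QuotientGroup.ker_mk']; exact hNcen)
    rw [eq_top_iff]
    intro x _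
    apply hcen
    rw [Subgroup.mem_centralizer_iff]
    intro y _
    exact hcomm.is_comm.comm y x

/-- a subgroup whose squares lie in `N` and which is not inside `N` is `(P ⊓ N) ∪ (P ⊓ N) h` -/
theorem exists_outer (N : Subgroup X) [hNn : N.Normal] [hQc : IsCyclic (X ⧸ N)] (P : Subgroup X)
    (hsqP : ∀ x ∈ P, x * x ∈ N) (hPN : ¬ P ≤ N) :
    ∃ h ∈ P, h ∉ N ∧ ∀ x ∈ P, x ∈ N ∨ x * h⁻¹ ∈ N := by
  haveI : IsCyclic ↥(P.map (QuotientGroup.mk' N)) := inferInstance
  obtain ⟨⟨y, hyP⟩, hgen⟩ := IsCyclic.exists_generator (α := ↥(P.map (QuotientGroup.mk' N)))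
  obtain ⟨h₀, hh₀P, hh₀⟩ := hyP
  have hkey : ∀ x ∈ P, x ∈ N ∨ x * h₀⁻¹ ∈ N := by
    intro x hx
    have hxm : QuotientGroup.mk' N x ∈ P.map (QuotientGroup.mk' N) := ⟨x, hx, rfl⟩
    obtain ⟨i, hi⟩ := Subgroup.mem_zpowers_iff.mp (hgen ⟨_, hxm⟩)
    have hi' : (QuotientGroup.mk' N h₀) ^ i = QuotientGroup.mk' N x := by
      have := congrArg Subtype.val hi
      rw [Subgroup.coe_zpow] at this
      simp only at this
      rw [hh₀]
      exact this
    have hsq0 : (QuotientGroup.mk' N h₀) ^ (2 : ℤ) = 1 := by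
      rw [zpow_two, ← map_mul, QuotientGroup.mk'_apply]
      exact (QuotientGroup.eq_one_iff _).mpr (hsqP h₀ hh₀P)
    rcases Int.even_or_odd i with ⟨j, hj⟩ | ⟨j, hj⟩
    · left
      rw [hj, ← two_mul, zpow_mul, hsq0, one_zpow] at hi'
      exact (QuotientGroup.eq_one_iff x).mp hi'.symm
    · right
      rw [hj, zpow_add, zpow_mul, hsq0, one_zpow, one_mul, zpow_one] at hi'
      rw [← QuotientGroup.eq_one_iff, ← QuotientGroup.mk'_apply, map_mul, map_inv, ← hi',
        mul_inv_cancel]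
  refine ⟨h₀, hh₀P, ?_, hkey⟩
  intro hh₀N
  apply hPN
  intro x hx
  rcases hkey x hx with h1 | h1
  · exact h1
  · have : x = (x * h₀⁻¹) * h₀ := by group
    rw [this]
    exact N.mul_mem h1 hh₀N

/-- a self-centralizing Klein four-subgroup -/
theorem klein_case (hX : IsPGroup 2 X)
    (N : Subgroup X) [hNn : N.Normal] [hNc : IsCyclic N] [hQc : IsCyclic (X ⧸ N)]
    (P : Subgroup X) (hcen : Subgroup.centralizer (P : Set X) ≤ P)
    (hP4 : Nat.card ↥P = 4) (hP2 : ∀ x ∈ P, x * x = 1) :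
    P = ⊤ ∨ (∃ k : ℕ, Nonempty (X ≃* DihedralGroup (2 ^ (k + 2)))) ∨
      (∃ k : ℕ, Nat.card X = 2 ^ (k + 4) ∧ ∃ a b : X, orderOf a = 2 ^ (k + 3) ∧ orderOf b = 2 ∧
        b * a * b⁻¹ = a ^ (2 ^ (k + 2) - 1)) ∨
      (∃ k : ℕ, Nonempty (X ≃* QuaternionGroup (2 ^ (k + 1)))) := by
  have hPN : ¬ P ≤ N := by
    intro hle
    have := card_le_two_of_le_cyclic N P hle hP2
    omega
  obtain ⟨h, hhP, hhN, hcos⟩ := exists_outer N P
    (fun x hx => by rw [hP2 x hx]; exact N.one_mem) hPN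
  refine maxclass_of_centric hX N P hcen h hhN (by rw [hP2 h hhP]; exact N.one_mem) hcos ?_
  exact card_le_two_of_le_cyclic N _ (inf_le_left.trans inf_le_right)
    (fun w hw => hP2 w (Subgroup.mem_inf.mp (Subgroup.mem_inf.mp hw).1).1)

theorem q8_sq : ∀ x : QuaternionGroup 2, x * x = 1 ∨ x * x = QuaternionGroup.a 2 := by decide

theorem q8_invol : ∀ x : QuaternionGroup 2, x * x = 1 → x = 1 ∨ x = QuaternionGroup.a 2 := by
  decide

theorem q8_cent : ∀ w h : QuaternionGroup 2, w * h = h * w → w * w ≠ 1 →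
    (h = 1 ∨ h = w ∨ h = w * w ∨ h = w * w * w) := by decide

theorem q8_noncomm : ∃ u v : QuaternionGroup 2, u * v ≠ v * u := by decide

/-- a self-centralizing quaternion subgroup of order eight -/
theorem quat_case (hX : IsPGroup 2 X)
    (N : Subgroup X) [hNn : N.Normal] [hNc : IsCyclic N] [hQc : IsCyclic (X ⧸ N)]
    (P : Subgroup X) (hcen : Subgroup.centralizer (P : Set X) ≤ P)
    (e : ↥P ≃* QuaternionGroup 2) :
    P = ⊤ ∨ (∃ k : ℕ, Nonempty (X ≃* DihedralGroup (2 ^ (k + 2)))) ∨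
      (∃ k : ℕ, Nat.card X = 2 ^ (k + 4) ∧ ∃ a b : X, orderOf a = 2 ^ (k + 3) ∧ orderOf b = 2 ∧
        b * a * b⁻¹ = a ^ (2 ^ (k + 2) - 1)) ∨
      (∃ k : ℕ, Nonempty (X ≃* QuaternionGroup (2 ^ (k + 1)))) := by
  set z : X := ((e.symm (QuaternionGroup.a 2) : ↥P) : X) with hz
  have hzP : z ∈ P := (e.symm (QuaternionGroup.a 2)).2
  have hsqz : ∀ x ∈ P, x * x = 1 ∨ x * x = z := by
    intro x hx
    rcases q8_sq (e ⟨x, hx⟩) with h1 | h1
    · left
      rw [← map_mul] at h1
      have h2 := e.injective (h1.trans (map_one e).symm)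
      exact congrArg Subtype.val h2
    · right
      rw [← map_mul] at h1
      have h2 : (⟨x, hx⟩ * ⟨x, hx⟩ : ↥P) = e.symm (QuaternionGroup.a 2) := by
        rw [← h1, e.symm_apply_apply]
      exact congrArg Subtype.val h2
  have hinv : ∀ x ∈ P, x * x = 1 → x = 1 ∨ x = z := by
    intro x hx hxx
    have h0 : e ⟨x, hx⟩ * e ⟨x, hx⟩ = 1 := by
      rw [← map_mul]
      have : (⟨x, hx⟩ * ⟨x, hx⟩ : ↥P) = 1 := Subtype.ext hxx
      rw [this, map_one]
    rcases q8_invol (e ⟨x, hx⟩) h0 with h1 | h1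
    · left
      have h2 := e.injective (h1.trans (map_one e).symm)
      exact congrArg Subtype.val h2
    · right
      have h2 : (⟨x, hx⟩ : ↥P) = e.symm (QuaternionGroup.a 2) := by
        rw [← h1, e.symm_apply_apply]
      exact congrArg Subtype.val h2
  have hcentQ : ∀ w ∈ P, ∀ h ∈ P, w * h = h * w → w * w ≠ 1 →
      (h = 1 ∨ h = w ∨ h = w * w ∨ h = w * w * w) := by
    intro w hw h hh hwh hww
    have h0 : e ⟨w, hw⟩ * e ⟨h, hh⟩ = e ⟨h, hh⟩ * e ⟨w, hw⟩ := by
      rw [← map_mul, ← map_mul]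
      congr 1
      exact Subtype.ext hwh
    have h0' : e ⟨w, hw⟩ * e ⟨w, hw⟩ ≠ 1 := by
      intro h1
      apply hww
      rw [← map_mul] at h1
      have h2 := e.injective (h1.trans (map_one e).symm)
      exact congrArg Subtype.val h2
    rcases q8_cent _ _ h0 h0' with h1 | h1 | h1 | h1
    · left
      have h2 := e.injective (h1.trans (map_one e).symm)
      exact congrArg Subtype.val h2
    · right; left
      exact congrArg Subtype.val (e.injective h1)
    · right; right; left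
      rw [← map_mul] at h1
      exact congrArg Subtype.val (e.injective h1)
    · right; right; right
      rw [← map_mul, ← map_mul] at h1
      exact congrArg Subtype.val (e.injective h1)
  have hnc : ∃ u ∈ P, ∃ v ∈ P, u * v ≠ v * u := by
    obtain ⟨u, v, huv⟩ := q8_noncomm
    refine ⟨(e.symm u : ↥P), (e.symm u).2, (e.symm v : ↥P), (e.symm v).2, ?_⟩
    intro h1
    apply huv
    have h2 : e.symm u * e.symm v = e.symm v * e.symm u := Subtype.ext h1
    rw [← map_mul, ← map_mul] at h2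
    exact e.symm.injective h2
  -- the quotient is commutative
  have hQab : ∀ a b : X, a * b * a⁻¹ * b⁻¹ ∈ N := by
    intro a b
    rw [← QuotientGroup.eq_one_iff]
    have hc : IsMulCommutative (X ⧸ N) := IsCyclic.isMulCommutative
    rw [QuotientGroup.mk_mul, QuotientGroup.mk_mul, QuotientGroup.mk_mul, QuotientGroup.mk_inv,
      QuotientGroup.mk_inv, hc.is_comm.comm (QuotientGroup.mk a) (QuotientGroup.mk b),
      mul_inv_cancel_right, mul_inv_cancel]
  have hzN : z ∈ N := by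
    obtain ⟨u, hu, v, hv, huv⟩ := hnc
    have hw : u * v * u⁻¹ * v⁻¹ ∈ P :=
      P.mul_mem (P.mul_mem (P.mul_mem hu hv) (P.inv_mem hu)) (P.inv_mem hv)
    have hwN := hQab u v
    have hw1 : u * v * u⁻¹ * v⁻¹ ≠ 1 := by
      intro h1
      apply huv
      calc u * v = (u * v * u⁻¹ * v⁻¹) * (v * u) := by group
        _ = v * u := by rw [h1, one_mul]
    rcases hsqz _ hw with h1 | h1
    · rcases hinv _ hw h1 with h2 | h2
      · exact absurd h2 hw1
      · rw [← h2]; exact hwN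
    · rw [← h1]; exact N.mul_mem hwN hwN
  have hsqP : ∀ x ∈ P, x * x ∈ N := by
    intro x hx
    rcases hsqz x hx with h1 | h1
    · rw [h1]; exact N.one_mem
    · rw [h1]; exact hzN
  have hNab : ∀ u ∈ N, ∀ v ∈ N, u * v = v * u := by
    intro u hu v hv
    have hc : IsMulCommutative ↥N := IsCyclic.isMulCommutative
    exact congrArg Subtype.val (hc.is_comm.comm ⟨u, hu⟩ ⟨v, hv⟩)
  have hPN : ¬ P ≤ N := by
    intro hle
    obtain ⟨u, hu, v, hv, huv⟩ := hnc
    exact huv (hNab u (hle hu) v (hle hv))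
  obtain ⟨h, hhP, hhN, hcos⟩ := exists_outer N P hsqP hPN
  refine maxclass_of_centric hX N P hcen h hhN (hsqP h hhP) hcos ?_
  refine card_le_two_of_le_cyclic N _ (inf_le_left.trans inf_le_right) ?_
  intro w hw
  obtain ⟨hw1, hwh⟩ := Subgroup.mem_inf.mp hw
  obtain ⟨hwP, hwN⟩ := Subgroup.mem_inf.mp hw1
  rw [Subgroup.mem_centralizer_singleton_iff] at hwh
  by_contra hww
  rcases hcentQ w hwP h hhP hwh hww with h1 | h1 | h1 | h1
  · exact hhN (h1 ▸ N.one_mem)
  · exact hhN (h1 ▸ hwN)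
  · exact hhN (h1 ▸ N.mul_mem hwN hwN)
  · exact hhN (h1 ▸ N.mul_mem (N.mul_mem hwN hwN) hwN)

theorem comm_mem (N : Subgroup X) [hNn : N.Normal] [hQc : IsCyclic (X ⧸ N)] (a b : X) :
    a * b * a⁻¹ * b⁻¹ ∈ N := by
  rw [← QuotientGroup.eq_one_iff]
  have hc : IsMulCommutative (X ⧸ N) := IsCyclic.isMulCommutative
  rw [QuotientGroup.mk_mul, QuotientGroup.mk_mul, QuotientGroup.mk_mul, QuotientGroup.mk_inv,
    QuotientGroup.mk_inv, hc.is_comm.comm (QuotientGroup.mk a) (QuotientGroup.mk b),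
    mul_inv_cancel_right, mul_inv_cancel]

/-- **No transvections on homocyclic subgroups of exponent at least four.** -/
theorem no_transvection (hX : IsPGroup 2 X)
    (N : Subgroup X) [hNn : N.Normal] [hNc : IsCyclic N] [hQc : IsCyclic (X ⧸ N)]
    (P : Subgroup X) (hPab : ∀ x ∈ P, ∀ y ∈ P, x * y = y * x)
    (n : ℕ) (hn : 2 ≤ n)
    (hexp : ∀ x ∈ P, (∀ z ∈ P, z * z ≠ x) → orderOf x = 2 ^ n)
    (hexp' : ∀ x ∈ P, x ^ (2 ^ n) = 1)
    (t : X) (htP : ∀ x ∈ P, t * x * t⁻¹ ∈ P) (ht2 : t * t ∈ P)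
    (x₀ : X) (hx₀ : x₀ ∈ P) (hns : ∀ z ∈ P, z * z ≠ t * x₀ * t⁻¹ * x₀⁻¹) : False := by
  obtain ⟨⟨c, hcN⟩, hgen⟩ := hNc.exists_generator
  have hN : N = Subgroup.zpowers c := by
    apply le_antisymm
    · intro u hu
      obtain ⟨i, hi⟩ := Subgroup.mem_zpowers_iff.mp (hgen ⟨u, hu⟩)
      rw [Subgroup.mem_zpowers_iff]
      refine ⟨i, ?_⟩
      have := congrArg Subtype.val hi
      simpa using this
    · rw [Subgroup.zpowers_le]; exact hcN
  have hNab : ∀ u ∈ N, ∀ v ∈ N, u * v = v * u := by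
    intro u hu v hv
    rw [hN] at hu hv
    obtain ⟨i, rfl⟩ := Subgroup.mem_zpowers_iff.mp hu
    obtain ⟨j, rfl⟩ := Subgroup.mem_zpowers_iff.mp hv
    rw [← zpow_add, ← zpow_add, add_comm]
  set y := t * x₀ * t⁻¹ * x₀⁻¹ with hy
  have hyP : y ∈ P := P.mul_mem (htP x₀ hx₀) (P.inv_mem hx₀)
  have hyN : y ∈ N := comm_mem N t x₀
  have hyo : orderOf y = 2 ^ n := hexp y hyP hns
  have hty : t * y * t⁻¹ = y⁻¹ := by
    have h1 : (t * t) * x₀ * (t * t)⁻¹ = x₀ := by
      rw [hPab (t * t) ht2 x₀ hx₀]; group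
    have h2 : (t * t) * x₀ * (t * t)⁻¹ = (t * y * t⁻¹) * y * x₀ := by
      rw [hy]; group
    rw [h1] at h2
    have h3 : (t * y * t⁻¹) * y = 1 := by
      have : (t * y * t⁻¹) * y = ((t * y * t⁻¹) * y * x₀) * x₀⁻¹ := by group
      rw [this, ← h2, mul_inv_cancel]
    exact eq_inv_of_mul_eq_one_left h3
  have htz : ∀ u ∈ Subgroup.zpowers y, t * u * t⁻¹ = u⁻¹ := by
    intro u hu
    obtain ⟨k, rfl⟩ := Subgroup.mem_zpowers_iff.mp hu
    rw [← conj_zpow, hty, inv_zpow]
  set q := y ^ 2 ^ (n - 2) with hq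
  have hqz : q ∈ Subgroup.zpowers y := Subgroup.pow_mem _ (Subgroup.mem_zpowers y) _
  have hqN : q ∈ N := N.pow_mem hyN _
  have hqP : q ∈ P := P.pow_mem hyP _
  have hq4 : orderOf q = 4 := by
    rw [hq, orderOf_pow_of_dvd (by positivity) (by rw [hyo]; exact pow_dvd_pow 2 (by omega)),
      hyo, Nat.pow_div (by omega) (by norm_num)]
    have : n - (n - 2) = 2 := by omega
    rw [this]
  have htq : t * q * t⁻¹ = q⁻¹ := htz q hqz
  have hqne : q ≠ q⁻¹ := by
    intro h1
    have h2 : q ^ 2 = 1 := by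
      rw [pow_two]
      nth_rewrite 2 [h1]
      exact mul_inv_cancel q
    have h3 := orderOf_dvd_of_pow_eq_one h2
    rw [hq4] at h3
    omega
  have htq' : ¬ (t * q = q * t) := by
    intro h1
    apply hqne
    rw [← htq, h1]
    group
  have hns' : ∀ z : X ⧸ N, z * z ≠ (QuotientGroup.mk t : X ⧸ N) := by
    intro z
    induction z using QuotientGroup.induction_on with
    | H d =>
      intro heq
      have h1 : (QuotientGroup.mk (d * d) : X ⧸ N) = QuotientGroup.mk t := heq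
      rw [QuotientGroup.eq] at h1
      have hqd := sq_commute_of_order_four N c hN q hqN hq4 d
      have hqn := hNab q hqN _ h1
      apply htq'
      have e : t = (d * d) * ((d * d)⁻¹ * t) := by group
      rw [e, mul_assoc, ← hqn, ← mul_assoc, hqd, mul_assoc]
  have htop := zpowers_eq_top_of_not_sq (hX.to_quotient N) _ hns'
  -- the intersection with `N`
  have hPN : P ⊓ N = Subgroup.zpowers y := by
    symm
    apply Subgroup.eq_of_le_of_card_ge
    · rw [Subgroup.zpowers_le]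
      exact Subgroup.mem_inf.mpr ⟨hyP, hyN⟩
    · rw [Nat.card_zpowers, hyo]
      haveI : IsCyclic ↥(P ⊓ N) := Subgroup.isCyclic_of_le (inf_le_right : P ⊓ N ≤ N)
      obtain ⟨g, hg⟩ := IsCyclic.exists_generator (α := ↥(P ⊓ N))
      have h1 : Nat.card ↥(P ⊓ N) = orderOf g := by
        rw [← Nat.card_zpowers, (Subgroup.eq_top_iff' _).mpr hg, Subgroup.card_top]
      rw [h1]
      apply Nat.le_of_dvd (by positivity)
      apply orderOf_dvd_of_pow_eq_one
      apply Subtype.ext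
      rw [Subgroup.coe_pow]
      exact hexp' _ (Subgroup.mem_inf.mp g.2).1
  -- every `x ∈ P` has `[t, x]` a square
  have hkey : ∀ x ∈ P, ∃ z ∈ P, z * z = t * x * t⁻¹ * x⁻¹ := by
    intro x hx
    have hxm : (QuotientGroup.mk x : X ⧸ N) ∈ Subgroup.zpowers (QuotientGroup.mk t : X ⧸ N) := by
      rw [htop]; exact Subgroup.mem_top _
    obtain ⟨j, hj⟩ := Subgroup.mem_zpowers_iff.mp hxm
    have h1 : (QuotientGroup.mk (t ^ j) : X ⧸ N) = QuotientGroup.mk x := by
      rw [QuotientGroup.mk_zpow]; exact hj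
    rw [QuotientGroup.eq] at h1
    -- `t ^ j` commutes with `q`
    have hxq : x * q = q * x := hPab x hx q hqP
    have hnq := hNab q hqN _ h1
    have htjq : t ^ j * q = q * t ^ j := by
      have e : t ^ j = x * ((t ^ j)⁻¹ * x)⁻¹ := by group
      have hnq' : ((t ^ j)⁻¹ * x)⁻¹ * q = q * ((t ^ j)⁻¹ * x)⁻¹ := by
        have := hNab q hqN _ (N.inv_mem h1)
        exact this.symm
      rw [e, mul_assoc, hnq', ← mul_assoc, hxq, mul_assoc]
    rcases Int.even_or_odd j with ⟨i, hi⟩ | ⟨i, hi⟩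
    · have hta : t ^ j = (t * t) ^ i := by
        rw [hi, ← two_mul, zpow_mul, zpow_two]
      have haP : t ^ j ∈ P := by rw [hta]; exact P.zpow_mem ht2 i
      have hn1P : (t ^ j)⁻¹ * x ∈ P := P.mul_mem (P.inv_mem haP) hx
      have hn1z : (t ^ j)⁻¹ * x ∈ Subgroup.zpowers y := by
        rw [← hPN]; exact Subgroup.mem_inf.mpr ⟨hn1P, h1⟩
      have hconj := htz _ hn1z
      refine ⟨((t ^ j)⁻¹ * x)⁻¹, P.inv_mem hn1P, ?_⟩
      have hcomm_t : t * t ^ j = t ^ j * t := by
        rw [← zpow_one_add, ← zpow_add_one, add_comm]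
      have e1 : t * x * t⁻¹ = t ^ j * (t * ((t ^ j)⁻¹ * x) * t⁻¹) := by
        have : t * x * t⁻¹ = (t * t ^ j) * ((t ^ j)⁻¹ * x) * t⁻¹ := by group
        rw [this, hcomm_t]
        group
      rw [e1, hconj]
      have e2 : x⁻¹ = ((t ^ j)⁻¹ * x)⁻¹ * (t ^ j)⁻¹ := by group
      rw [e2]
      have hc := hPab (t ^ j) haP (((t ^ j)⁻¹ * x)⁻¹ * ((t ^ j)⁻¹ * x)⁻¹)
        (P.mul_mem (P.inv_mem hn1P) (P.inv_mem hn1P))
      calc ((t ^ j)⁻¹ * x)⁻¹ * ((t ^ j)⁻¹ * x)⁻¹
          = (((t ^ j)⁻¹ * x)⁻¹ * ((t ^ j)⁻¹ * x)⁻¹) * t ^ j * (t ^ j)⁻¹ := by group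
        _ = t ^ j * (((t ^ j)⁻¹ * x)⁻¹ * ((t ^ j)⁻¹ * x)⁻¹) * (t ^ j)⁻¹ := by rw [← hc]
        _ = t ^ j * ((t ^ j)⁻¹ * x)⁻¹ * (((t ^ j)⁻¹ * x)⁻¹ * (t ^ j)⁻¹) := by group
    · exfalso
      apply htq'
      have hta : t ^ j = (t * t) ^ i * t := by
        rw [hi, zpow_add, zpow_mul, zpow_two, zpow_one]
      have haq : (t * t) ^ i * q = q * (t * t) ^ i := hPab _ (P.zpow_mem ht2 i) q hqP
      have e : t = ((t * t) ^ i)⁻¹ * t ^ j := by rw [hta]; group
      have haq' : ((t * t) ^ i)⁻¹ * q = q * ((t * t) ^ i)⁻¹ := by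
        have : ((t * t) ^ i)⁻¹ * q = ((t * t) ^ i)⁻¹ * (q * (t * t) ^ i) * ((t * t) ^ i)⁻¹ := by
          group
        rw [this, ← haq]
        group
      rw [e, mul_assoc, htjq, ← mul_assoc, haq', mul_assoc]
  obtain ⟨z, hzP, hz⟩ := hkey x₀ hx₀
  exact hns z hzP hz

end Centric

end Cfsg.Agent.Lib.Helper27.MetaTwo
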