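import Mathlib
import Cfsg.Agent.S1447
import Cfsg.Agent.S0638
import Cfsg.Agent.S5212

/-!
# Automorphisms of metacyclic `p`-groups, `p` odd

Consequences of the coprime-action theorem `S1447` for an abstract automorphism `γ` of a finite
metacyclic `p`-group `M` (`p` odd), obtained inside the semidirect product `M ⋊ ⟨γ⟩`.

* `eq_one_of_coprime_of_fix`: an automorphism of order prime to `p` fixing all `x` with `x ^ p = 1`
  is trivial.
* `exists_fixed_of_coprime`: if `M` is not abelian, an automorphism of order prime to `p` fixes some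
  `x ≠ 1` with `x ^ p = 1`.
* `pow_eq_one_of_fix`: an automorphism fixing all `x` with `x ^ p = 1` has `p`-power order.
* `not_invert`: if `M` is not abelian, no automorphism inverts all `x` with `x ^ p = 1`.
* `omega_sub`: in a non-cyclic `M` the `x` with `x ^ p = 1` form an abelian subgroup of order `p²`.
-/

set_option autoImplicit false

namespace Cfsg.Agent.Lib.Helper27.OddMeta

open SemidirectProduct
open scoped commutatorElement

variable {M : Type*} [Group M] [Finite M] {p : ℕ} [Fact p.Prime]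

/-- a nontrivial finite `p`-group (as a subgroup) has an element of order `p` -/
theorem exists_orderOf_eq_of_ne_bot {G : Type*} [Group G] [Finite G] (K : Subgroup G)
    (hK : IsPGroup p K) (hne : K ≠ ⊥) : ∃ w ∈ K, orderOf w = p := by
  have hp : p.Prime := Fact.out
  obtain ⟨k, hk⟩ := IsPGroup.iff_card.mp hK
  have hk0 : k ≠ 0 := by
    intro h0
    apply hne
    apply Subgroup.eq_bot_of_card_eq
    rw [hk, h0, pow_zero]
  have hdvd : p ∣ Nat.card K := by
    rw [hk]
    exact dvd_pow_self p hk0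
  obtain ⟨w, hw⟩ := exists_prime_orderOf_dvd_card' p hdvd
  exact ⟨w.1, w.2, by rw [← hw, Subgroup.orderOf_coe]⟩

/-- the two facts extracted from `S1447` in the semidirect product -/
theorem semidirect_core (hp : p ≠ 2) (hM : IsPGroup p M) (hm : Cfsg.IsMetacyclic M) (γ : MulAut M)
    (hcop : (orderOf γ).Coprime p) :
    ((∀ x : M, x ^ p = 1 → γ x = x) → γ = 1) ∧
      ((¬ ∀ a b : M, a * b = b * a) → γ ≠ 1 → ∃ x : M, x ≠ 1 ∧ x ^ p = 1 ∧ γ x = x) := by
  have hpp : p.Prime := Fact.out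
  let Z : Subgroup (MulAut M) := Subgroup.zpowers γ
  let φ : Z →* MulAut M := Z.subtype
  let G := M ⋊[φ] Z
  haveI : Finite G := Finite.of_equiv _ (equivProd (φ := φ)).symm
  let R : Subgroup G := (inl : M →* G).range
  let A : Subgroup G := (inr : Z →* G).range
  have hRn : R.Normal := by
    have : R = (rightHom : G →* Z).ker := range_inl_eq_ker_rightHom
    rw [this]
    infer_instance
  have hR : IsPGroup p R := by
    have hs : Function.Surjective ((inl : M →* G).rangeRestrict) :=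
      MonoidHom.rangeRestrict_surjective _
    exact hM.of_surjective _ hs
  have hRm : Cfsg.IsMetacyclic R :=
    Cfsg.Agent.S5212.isMetacyclic_of_injective
      ((MonoidHom.ofInjective (inl_injective (φ := φ))).symm.toMonoidHom)
      (MonoidHom.ofInjective (inl_injective (φ := φ))).symm.injective hm
  have hA : A ≤ Subgroup.normalizer (R : Set G) := by
    rw [Subgroup.normalizer_eq_top]
    exact le_top
  have hcardA : Nat.card A = orderOf γ := by
    rw [← Nat.card_zpowers]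
    exact Nat.card_congr (MonoidHom.ofInjective (inr_injective (φ := φ))).toEquiv.symm
  have hcopA : (Nat.card A).Coprime p := by rw [hcardA]; exact hcop
  obtain ⟨-, -, hint, hfix⟩ := Cfsg.Agent.S1447.result p hp R A hR hRm hA hcopA
  have γZ : γ ∈ Z := Subgroup.mem_zpowers γ
  have hconj : ∀ (g : Z) (x : M), (inr g : G) * inl x * (inr g)⁻¹ = inl ((g : MulAut M) x) := by
    intro g x
    rw [← map_inv, ← inl_aut]
    rfl
  have hmemR : ∀ w ∈ R, ∃ v : M, w = inl v := by
    rintro w ⟨v, rfl⟩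
    exact ⟨v, rfl⟩
  constructor
  · intro hall
    by_contra hγ
    obtain ⟨x₀, hx₀⟩ : ∃ x₀, γ x₀ ≠ x₀ := by
      by_contra hno
      push Not at hno
      exact hγ (MulEquiv.ext hno)
    have hall' : ∀ g : Z, ∀ x : M, x ^ p = 1 → (g : MulAut M) x = x := by
      rintro ⟨g, hg⟩ x hx
      obtain ⟨i, rfl⟩ := Subgroup.mem_zpowers_iff.mp hg
      have hfixed : γ x = x := hall x hx
      have hmem : γ ∈ MulAction.stabilizer (MulAut M) x := hfixed
      exact (MulAction.stabilizer (MulAut M) x).zpow_mem hmem i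
    have hcne : ⁅R, A⁆ ≠ ⊥ := by
      intro hbot
      have h1 : ⁅(inl x₀ : G), (inr ⟨γ, γZ⟩ : G)⁆ ∈ ⁅R, A⁆ :=
        Subgroup.commutator_mem_commutator ⟨x₀, rfl⟩ ⟨⟨γ, γZ⟩, rfl⟩
      rw [hbot, Subgroup.mem_bot, commutatorElement_eq_one_iff_mul_comm] at h1
      have h2 : (inr ⟨γ, γZ⟩ : G) * inl x₀ * (inr ⟨γ, γZ⟩)⁻¹ = inl x₀ := by
        rw [← h1]
        group
      rw [hconj] at h2
      exact hx₀ (inl_injective h2)
    have hcR : ⁅R, A⁆ ≤ R := Subgroup.commutator_le_left R A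
    obtain ⟨w, hw, hwo⟩ := exists_orderOf_eq_of_ne_bot (p := p) ⁅R, A⁆ (hR.to_le hcR) hcne
    obtain ⟨v, rfl⟩ := hmemR w (hcR hw)
    have hvp : v ^ p = 1 := by
      apply inl_injective (φ := φ)
      rw [map_pow, map_one, ← hwo]
      exact pow_orderOf_eq_one _
    have hcent : (inl v : G) ∈ Subgroup.centralizer (A : Set G) := by
      rw [Subgroup.mem_centralizer_iff]
      rintro _ ⟨g, rfl⟩
      have h3 := hconj g v
      rw [hall' g v hvp] at h3
      calc (inr g : G) * inl v = ((inr g : G) * inl v * (inr g)⁻¹) * inr g := by group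
        _ = inl v * inr g := by rw [h3]
    have h4 : (inl v : G) ∈ ⁅R, A⁆ ⊓ (R ⊓ Subgroup.centralizer (A : Set G)) :=
      ⟨hw, hcR hw, hcent⟩
    rw [hint, Subgroup.mem_bot] at h4
    rw [h4, orderOf_one] at hwo
    exact hpp.one_lt.ne hwo
  · intro hnc hγ
    obtain ⟨x₀, hx₀⟩ : ∃ x₀, γ x₀ ≠ x₀ := by
      by_contra hno
      push Not at hno
      exact hγ (MulEquiv.ext hno)
    have hRnc : ¬ IsMulCommutative R := by
      intro hc
      apply hnc
      intro a b
      have h1 := hc.is_comm.comm (⟨inl a, a, rfl⟩ : R) ⟨inl b, b, rfl⟩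
      have h2 : (inl a : G) * inl b = inl b * inl a := congrArg Subtype.val h1
      rw [← map_mul, ← map_mul] at h2
      exact inl_injective h2
    have hAnc : ¬ A ≤ Subgroup.centralizer (R : Set G) := by
      intro hle
      have h1 : (inr ⟨γ, γZ⟩ : G) ∈ Subgroup.centralizer (R : Set G) := hle ⟨⟨γ, γZ⟩, rfl⟩
      rw [Subgroup.mem_centralizer_iff] at h1
      have h2 := h1 (inl x₀) ⟨x₀, rfl⟩
      have h3 : (inr ⟨γ, γZ⟩ : G) * inl x₀ * (inr ⟨γ, γZ⟩)⁻¹ = inl x₀ := by
        rw [← h2]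
        group
      rw [hconj] at h3
      exact hx₀ (inl_injective h3)
    obtain ⟨-, -, hne, -, -⟩ := hfix hRnc hAnc
    obtain ⟨w, hw, hwo⟩ := exists_orderOf_eq_of_ne_bot (p := p)
      (R ⊓ Subgroup.centralizer (A : Set G)) (hR.to_le inf_le_left) hne
    obtain ⟨v, rfl⟩ := hmemR w hw.1
    refine ⟨v, ?_, ?_, ?_⟩
    · rintro rfl
      rw [map_one, orderOf_one] at hwo
      exact hpp.one_lt.ne hwo
    · apply inl_injective (φ := φ)
      rw [map_pow, map_one, ← hwo]
      exact pow_orderOf_eq_one _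
    · have h1 := Subgroup.mem_centralizer_iff.mp hw.2 (inr ⟨γ, γZ⟩) ⟨⟨γ, γZ⟩, rfl⟩
      have h3 : (inr ⟨γ, γZ⟩ : G) * inl v * (inr ⟨γ, γZ⟩)⁻¹ = inl v := by
        rw [h1]
        group
      rw [hconj] at h3
      exact inl_injective h3

theorem eq_one_of_coprime_of_fix (hp : p ≠ 2) (hM : IsPGroup p M) (hm : Cfsg.IsMetacyclic M)
    (γ : MulAut M) (hcop : (orderOf γ).Coprime p) (h : ∀ x : M, x ^ p = 1 → γ x = x) : γ = 1 :=
  (semidirect_core hp hM hm γ hcop).1 h

theorem exists_fixed_of_coprime (hp : p ≠ 2) (hM : IsPGroup p M) (hm : Cfsg.IsMetacyclic M)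
    (hnc : ¬ ∀ a b : M, a * b = b * a) (γ : MulAut M) (hcop : (orderOf γ).Coprime p) :
    ∃ x : M, x ≠ 1 ∧ x ^ p = 1 ∧ γ x = x := by
  have hpp : p.Prime := Fact.out
  by_cases hγ : γ = 1
  · have hne : (⊤ : Subgroup M) ≠ ⊥ := by
      intro h
      apply hnc
      intro a b
      have ha : a ∈ (⊤ : Subgroup M) := Subgroup.mem_top a
      have hb : b ∈ (⊤ : Subgroup M) := Subgroup.mem_top b
      rw [h, Subgroup.mem_bot] at ha hb
      rw [ha, hb]
    have htop : IsPGroup p (⊤ : Subgroup M) := hM.to_subgroup ⊤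
    obtain ⟨w, -, hwo⟩ := exists_orderOf_eq_of_ne_bot (p := p) (⊤ : Subgroup M) htop hne
    refine ⟨w, ?_, ?_, ?_⟩
    · rintro rfl
      rw [orderOf_one] at hwo
      exact hpp.one_lt.ne hwo
    · rw [← hwo]
      exact pow_orderOf_eq_one _
    · rw [hγ]
      rfl
  · exact (semidirect_core hp hM hm γ hcop).2 hnc hγ

/-- the `p'`-part of an automorphism -/
theorem exists_pprime_pow (β : MulAut M) :
    ∃ e : ℕ, (orderOf (β ^ (p ^ e))).Coprime p := by
  have hpp : p.Prime := Fact.out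
  have hne : orderOf β ≠ 0 := (orderOf_pos β).ne'
  obtain ⟨e, m, hm, hem⟩ := Nat.exists_eq_pow_mul_and_not_dvd hne p hpp.ne_one
  refine ⟨e, ?_⟩
  have hγm : (β ^ (p ^ e)) ^ m = 1 := by
    rw [← pow_mul, ← hem, pow_orderOf_eq_one]
  have hd : orderOf (β ^ (p ^ e)) ∣ m := orderOf_dvd_of_pow_eq_one hγm
  have hm2 : m.Coprime p := ((Nat.Prime.coprime_iff_not_dvd hpp).mpr hm).symm
  exact Nat.Coprime.coprime_dvd_left hd hm2

theorem pow_eq_one_of_fix (hp : p ≠ 2) (hM : IsPGroup p M) (hm : Cfsg.IsMetacyclic M)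
    (β : MulAut M) (h : ∀ x : M, x ^ p = 1 → β x = x) : ∃ k : ℕ, β ^ (p ^ k) = 1 := by
  obtain ⟨e, he⟩ := exists_pprime_pow (p := p) β
  refine ⟨e, eq_one_of_coprime_of_fix hp hM hm _ he ?_⟩
  intro x hx
  have hmem : β ∈ MulAction.stabilizer (MulAut M) x := h x hx
  exact (MulAction.stabilizer (MulAut M) x).pow_mem hmem _

theorem not_invert (hp : p ≠ 2) (hM : IsPGroup p M) (hm : Cfsg.IsMetacyclic M)
    (hnc : ¬ ∀ a b : M, a * b = b * a) (β : MulAut M) (h : ∀ x : M, x ^ p = 1 → β x = x⁻¹) :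
    False := by
  have hpp : p.Prime := Fact.out
  have hodd : Odd p := hpp.odd_of_ne_two hp
  obtain ⟨e, he⟩ := exists_pprime_pow (p := p) β
  have hpow : ∀ n : ℕ, ∀ x : M, x ^ p = 1 → (β ^ n) x = if Even n then x else x⁻¹ := by
    intro n
    induction n with
    | zero =>
      intro x _
      simp
    | succ n ih =>
      intro x hx
      rw [pow_succ, MulAut.mul_apply, h x hx]
      have hx' : (x⁻¹) ^ p = 1 := by rw [inv_pow, hx, inv_one]
      rw [ih _ hx', inv_inv]
      by_cases hn : Even n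
      · have h1 : ¬ Even (n + 1) := by
          rw [Nat.even_add_one]
          exact not_not.mpr hn
        rw [if_pos hn, if_neg h1]
      · have h1 : Even (n + 1) := by
          rw [Nat.even_add_one]
          exact hn
        rw [if_neg hn, if_pos h1]
  have hoddpe : ¬ Even (p ^ e) := by
    rw [Nat.not_even_iff_odd]
    exact hodd.pow
  obtain ⟨x, hx1, hxp, hfix⟩ := exists_fixed_of_coprime hp hM hm hnc (β ^ (p ^ e)) he
  rw [hpow (p ^ e) x hxp, if_neg hoddpe] at hfix
  have hx2 : x ^ 2 = 1 := by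
    rw [pow_two]
    calc x * x = x⁻¹ * x := by rw [hfix]
      _ = 1 := inv_mul_cancel x
  have h1 : orderOf x ∣ 2 := orderOf_dvd_of_pow_eq_one hx2
  have h2 : orderOf x ∣ p := orderOf_dvd_of_pow_eq_one hxp
  have h3 : orderOf x ∣ Nat.gcd 2 p := Nat.dvd_gcd h1 h2
  have h4 : Nat.gcd 2 p = 1 := Nat.coprime_two_left.mpr hodd
  rw [h4, Nat.dvd_one, orderOf_eq_one_iff] at h3
  exact hx1 h3

/-- in a non-cyclic metacyclic `p`-group, `p` odd, the elements with `x ^ p = 1` form an abelian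
subgroup of order `p²` -/
theorem omega_sub (hp : p ≠ 2) (hM : IsPGroup p M) (hm : Cfsg.IsMetacyclic M) (hnc : ¬ IsCyclic M) :
    ∃ V : Subgroup M, (∀ x : M, x ∈ V ↔ x ^ p = 1) ∧ Nat.card V = p ^ 2 ∧
      ∀ x ∈ V, ∀ y ∈ V, x * y = y * x := by
  obtain ⟨⟨hc, hexp⟩, hcard⟩ := Cfsg.Agent.S0638.result hp hM hm hnc
  refine ⟨Cfsg.omegaOne p (⊤ : Subgroup M), ?_, hcard, ?_⟩
  · intro x
    constructor
    · exact hexp x
    · intro hx
      exact Subgroup.subset_closure ⟨Subgroup.mem_top x, hx⟩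
  · intro x hx y hy
    have h1 := hc.is_comm.comm (⟨x, hx⟩ : ↥(Cfsg.omegaOne p (⊤ : Subgroup M))) ⟨y, hy⟩
    exact congrArg Subtype.val h1

end Cfsg.Agent.Lib.Helper27.OddMeta
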