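import Mathlib

/-!
# Automorphisms of an elementary abelian group of order `p²`

`inversion_mem_closure`: if `a`, `b` are automorphisms of `p`-power order of an elementary abelian
group `V` of order `p²`, with `a ≠ 1` and `b ∉ ⟨a⟩`, then the subgroup generated by `a` and `b`
contains the inversion `v ↦ v⁻¹`.
-/

set_option autoImplicit false

namespace Cfsg.Agent.Lib.Helper27.PlaneAut

variable {V : Type*} [Group V] [Finite V] {p : ℕ} [Fact p.Prime]

/-- a `p`-automorphism of a finite group of order divisible by `p` has a nontrivial fixed point -/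
theorem exists_fixed (hcard : p ∣ Nat.card V) (a : MulAut V) (k : ℕ) (ha : a ^ (p ^ k) = 1) :
    ∃ e : V, e ≠ 1 ∧ a e = e := by
  have hpp : p.Prime := Fact.out
  have hG : IsPGroup p ↥(Subgroup.zpowers a) := by
    rintro ⟨g, hg⟩
    obtain ⟨i, rfl⟩ := Subgroup.mem_zpowers_iff.mp hg
    refine ⟨k, Subtype.ext ?_⟩
    rw [Subgroup.coe_pow, Subgroup.coe_one, ← zpow_natCast, ← zpow_mul, mul_comm, zpow_mul,
      zpow_natCast, ha, one_zpow]
  have h := hG.card_modEq_card_fixedPoints V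
  have h0 : Nat.card V ≡ 0 [MOD p] := (Nat.modEq_zero_iff_dvd).mpr hcard
  have hdvd : p ∣ Nat.card (MulAction.fixedPoints ↥(Subgroup.zpowers a) V) :=
    (Nat.modEq_zero_iff_dvd).mp (h.symm.trans h0)
  have h1 : (1 : V) ∈ MulAction.fixedPoints ↥(Subgroup.zpowers a) V := by
    intro g
    change (g : MulAut V) 1 = 1
    exact map_one _
  haveI : Nonempty (MulAction.fixedPoints ↥(Subgroup.zpowers a) V) := ⟨⟨1, h1⟩⟩
  have hpos : 0 < Nat.card (MulAction.fixedPoints ↥(Subgroup.zpowers a) V) := Nat.card_pos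
  have hle : p ≤ Nat.card (MulAction.fixedPoints ↥(Subgroup.zpowers a) V) :=
    Nat.le_of_dvd hpos hdvd
  have hlt : 1 < Nat.card (MulAction.fixedPoints ↥(Subgroup.zpowers a) V) :=
    lt_of_lt_of_le hpp.one_lt hle
  haveI := (Finite.one_lt_card_iff_nontrivial).mp hlt
  obtain ⟨x, hx⟩ := exists_ne (⟨1, h1⟩ : MulAction.fixedPoints ↥(Subgroup.zpowers a) V)
  refine ⟨x.1, fun h => hx (Subtype.ext h), ?_⟩
  exact x.2 ⟨a, Subgroup.mem_zpowers a⟩

section plane

variable (hcard : Nat.card V = p ^ 2) (hcomm : ∀ x y : V, x * y = y * x) (hexp : ∀ x : V, x ^ p = 1)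

include hexp in
theorem orderOf_eq {e : V} (he : e ≠ 1) : orderOf e = p :=
  orderOf_eq_prime (hexp e) he

include hexp in
theorem zpowers_eq_of_mem {e f : V} (he : e ≠ 1) (hf : f ≠ 1) (h : f ∈ Subgroup.zpowers e) :
    Subgroup.zpowers f = Subgroup.zpowers e := by
  apply Subgroup.eq_of_le_of_card_ge (Subgroup.zpowers_le.mpr h)
  rw [Nat.card_zpowers, Nat.card_zpowers, orderOf_eq hexp he, orderOf_eq hexp hf]

include hcard hexp in
theorem sup_eq_top {e f : V} (he : e ≠ 1) (hf : f ∉ Subgroup.zpowers e) :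
    Subgroup.zpowers e ⊔ Subgroup.zpowers f = ⊤ := by
  have hpp : p.Prime := Fact.out
  have h1 : Nat.card ↥(Subgroup.zpowers e) = p := by rw [Nat.card_zpowers, orderOf_eq hexp he]
  have h2 : Nat.card ↥(Subgroup.zpowers e ⊔ Subgroup.zpowers f) ∣ p ^ 2 := by
    rw [← hcard]
    exact Subgroup.card_subgroup_dvd_card _
  have h3 : p ∣ Nat.card ↥(Subgroup.zpowers e ⊔ Subgroup.zpowers f) := by
    rw [← h1]
    exact Subgroup.card_dvd_of_le le_sup_left
  obtain ⟨i, hi, hi2⟩ := (Nat.dvd_prime_pow hpp).mp h2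
  have hne : Nat.card ↥(Subgroup.zpowers e ⊔ Subgroup.zpowers f) ≠ p := by
    intro h
    apply hf
    have : Subgroup.zpowers e = Subgroup.zpowers e ⊔ Subgroup.zpowers f :=
      Subgroup.eq_of_le_of_card_ge le_sup_left (by rw [h, h1])
    rw [this]
    exact (le_sup_right : Subgroup.zpowers f ≤ _) (Subgroup.mem_zpowers f)
  apply Subgroup.eq_top_of_card_eq
  rw [hcard, hi2]
  interval_cases i
  · exfalso
    rw [hi2, pow_zero, Nat.dvd_one] at h3
    exact hpp.one_lt.ne' h3
  · exfalso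
    exact hne (by rw [hi2, pow_one])
  · rfl

include hcard hcomm hexp in
/-- every element is a product of powers of the two generators -/
theorem exists_zpow_mul {e f : V} (he : e ≠ 1) (hf : f ∉ Subgroup.zpowers e) (v : V) :
    ∃ x ∈ Subgroup.zpowers e, ∃ y ∈ Subgroup.zpowers f, x * y = v := by
  letI : CommGroup V := { (inferInstance : Group V) with mul_comm := hcomm }
  have hv : v ∈ Subgroup.zpowers e ⊔ Subgroup.zpowers f := by
    rw [sup_eq_top hcard hexp he hf]
    exact Subgroup.mem_top v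
  exact Subgroup.mem_sup.mp hv

include hcard hcomm hexp in
/-- two endomorphisms agreeing on generators agree -/
theorem eq_of_agree {e f : V} (he : e ≠ 1) (hf : f ∉ Subgroup.zpowers e) (w₁ w₂ : V →* V)
    (h1 : w₁ e = w₂ e) (h2 : w₁ f = w₂ f) (v : V) : w₁ v = w₂ v := by
  obtain ⟨x, hx, y, hy, rfl⟩ := exists_zpow_mul hcard hcomm hexp he hf v
  obtain ⟨i, rfl⟩ := Subgroup.mem_zpowers_iff.mp hx
  obtain ⟨j, rfl⟩ := Subgroup.mem_zpowers_iff.mp hy
  rw [map_mul, map_mul, map_zpow, map_zpow, map_zpow, map_zpow, h1, h2]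

include hcard hcomm hexp in
theorem inv_of_gens {e f : V} (he : e ≠ 1) (hf : f ∉ Subgroup.zpowers e) (w : V →* V)
    (h1 : w e = e⁻¹) (h2 : w f = f⁻¹) (v : V) : w v = v⁻¹ := by
  obtain ⟨x, hx, y, hy, rfl⟩ := exists_zpow_mul hcard hcomm hexp he hf v
  obtain ⟨i, rfl⟩ := Subgroup.mem_zpowers_iff.mp hx
  obtain ⟨j, rfl⟩ := Subgroup.mem_zpowers_iff.mp hy
  rw [map_mul, map_zpow, map_zpow, h1, h2, mul_inv_rev, inv_zpow, inv_zpow, hcomm]

omit [Fact p.Prime] in
/-- elements of `⟨f⟩` are natural powers -/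
theorem exists_pow_of_mem_zpowers {f y : V} (hy : y ∈ Subgroup.zpowers f) : ∃ j : ℕ, y = f ^ j := by
  have h := (isOfFinOrder_of_finite f).mem_powers_iff_mem_zpowers.mpr hy
  obtain ⟨j, hj⟩ := (Submonoid.mem_powers_iff _ _).mp h
  exact ⟨j, hj.symm⟩

include hcard hcomm hexp in
/-- a `p`-automorphism fixing `e` acts on `f ∉ ⟨e⟩` as a shear -/
theorem shear {e f : V} (he : e ≠ 1) (hf : f ∉ Subgroup.zpowers e) (w : MulAut V) (k : ℕ)
    (hw : w ^ (p ^ k) = 1) (hwe : w e = e) : ∃ i : ℕ, w f = f * e ^ i := by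
  have hpp : p.Prime := Fact.out
  have hf1 : f ≠ 1 := by
    rintro rfl
    exact hf (Subgroup.one_mem _)
  have hof : orderOf f = p := orderOf_eq hexp hf1
  obtain ⟨x, hx, y, hy, hxy⟩ := exists_zpow_mul hcard hcomm hexp he hf (w f)
  obtain ⟨j, rfl⟩ := exists_pow_of_mem_zpowers hy
  obtain ⟨i, rfl⟩ := exists_pow_of_mem_zpowers hx
  have hwx : ∀ z ∈ Subgroup.zpowers e, w z = z := by
    intro z hz
    obtain ⟨m, rfl⟩ := Subgroup.mem_zpowers_iff.mp hz
    rw [map_zpow, hwe]
  -- iterate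
  have hiter : ∀ n : ℕ, ∃ z ∈ Subgroup.zpowers e, (w ^ n) f = z * f ^ (j ^ n) := by
    intro n
    induction n with
    | zero => exact ⟨1, Subgroup.one_mem _, by simp⟩
    | succ n ih =>
      obtain ⟨z, hz, hzn⟩ := ih
      refine ⟨z * (e ^ i) ^ (j ^ n), Subgroup.mul_mem _ hz
        (Subgroup.pow_mem _ (Subgroup.pow_mem _ (Subgroup.mem_zpowers e) _) _), ?_⟩
      rw [pow_succ', MulAut.mul_apply, hzn, map_mul, hwx z hz, map_pow, ← hxy,
        (show Commute (e ^ i) (f ^ j) from hcomm _ _).mul_pow, ← pow_mul f, ← pow_succ',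
        mul_assoc]
  obtain ⟨z, hz, hzn⟩ := hiter (p ^ k)
  rw [hw, MulAut.one_apply] at hzn
  -- `f * (f ^ (j ^ p ^ k))⁻¹ ∈ ⟨e⟩`
  have hg : f * (f ^ (j ^ (p ^ k)))⁻¹ ∈ Subgroup.zpowers e := by
    have : f * (f ^ (j ^ (p ^ k)))⁻¹ = z := by
      rw [mul_inv_eq_iff_eq_mul]
      exact hzn
    rw [this]
    exact hz
  have hg1 : f * (f ^ (j ^ (p ^ k)))⁻¹ = 1 := by
    by_contra hne
    apply hf
    have h1 : f * (f ^ (j ^ (p ^ k)))⁻¹ ∈ Subgroup.zpowers f :=
      Subgroup.mul_mem _ (Subgroup.mem_zpowers f)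
        (Subgroup.inv_mem _ (Subgroup.pow_mem _ (Subgroup.mem_zpowers f) _))
    have h2 := zpowers_eq_of_mem hexp hf1 hne h1
    have h3 : Subgroup.zpowers (f * (f ^ (j ^ (p ^ k)))⁻¹) ≤ Subgroup.zpowers e :=
      Subgroup.zpowers_le.mpr hg
    rw [h2] at h3
    exact h3 (Subgroup.mem_zpowers f)
  have hpow : f ^ (j ^ (p ^ k)) = f ^ 1 := by
    rw [pow_one]
    exact (mul_inv_eq_one.mp hg1).symm
  rw [pow_eq_pow_iff_modEq, hof] at hpow
  have hz1 : ((j : ZMod p)) ^ (p ^ k) = 1 := by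
    have := (ZMod.natCast_eq_natCast_iff _ _ _).mpr hpow
    push_cast at this
    exact this
  rw [ZMod.pow_card_pow] at hz1
  have hj1 : j ≡ 1 [MOD p] := by
    apply (ZMod.natCast_eq_natCast_iff _ _ _).mp
    rw [hz1, Nat.cast_one]
  have hfj : f ^ j = f := by
    have : f ^ j = f ^ 1 := by
      rw [pow_eq_pow_iff_modEq, hof]
      exact hj1
    rwa [pow_one] at this
  refine ⟨i, ?_⟩
  rw [← hxy, hfj, hcomm]

omit [Finite V] [Fact p.Prime] in
theorem shear_pow {e f : V} (w : MulAut V) (hwe : w e = e) (i : ℕ) (hwf : w f = f * e ^ i)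
    (t : ℕ) : (w ^ t) f = f * e ^ (i * t) := by
  have hwe' : ∀ t : ℕ, (w ^ t) e = e := by
    intro t
    induction t with
    | zero => simp
    | succ t ih => rw [pow_succ, MulAut.mul_apply, hwe, ih]
  induction t with
  | zero => simp
  | succ t ih =>
    rw [pow_succ, MulAut.mul_apply, hwf, map_mul, map_pow, ih, hwe', mul_assoc, ← pow_add,
      Nat.mul_succ]

include hexp in
theorem exists_inverse_exp {e : V} (he : e ≠ 1) (i : ℕ) (hi : e ^ i ≠ 1) :
    ∃ s : ℕ, e ^ (i * s) = e := by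
  have hpp : p.Prime := Fact.out
  have hoe : orderOf e = p := orderOf_eq hexp he
  have hnd : ¬ p ∣ i := by
    intro hd
    apply hi
    rw [← hoe] at hd
    exact orderOf_dvd_iff_pow_eq_one.mp hd
  have hcop : Nat.Coprime i p := (Nat.Prime.coprime_iff_not_dvd hpp).mpr hnd |>.symm
  obtain ⟨s, -, hs⟩ := Nat.exists_mul_mod_eq_one_of_coprime hcop hpp.one_lt
  refine ⟨s, ?_⟩
  have : e ^ (i * s) = e ^ 1 := by
    rw [pow_eq_pow_iff_modEq, hoe]
    change i * s % p = 1 % p
    rw [hs, Nat.mod_eq_of_lt hpp.one_lt]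
  rwa [pow_one] at this

include hcard hcomm hexp in
/-- **Inversion lies in the group generated by two distinct `p`-subgroups.** -/
theorem inversion_mem_closure (a b : MulAut V) (k : ℕ) (ha : a ^ (p ^ k) = 1)
    (hb : b ^ (p ^ k) = 1) (ha1 : a ≠ 1) (hba : b ∉ Subgroup.zpowers a) :
    ∃ w ∈ Subgroup.closure ({a, b} : Set (MulAut V)), ∀ v : V, w v = v⁻¹ := by
  have hpp : p.Prime := Fact.out
  have hdvd : p ∣ Nat.card V := by
    rw [hcard]
    exact dvd_pow_self p (by norm_num)
  have hb1 : b ≠ 1 := by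
    rintro rfl
    exact hba (Subgroup.one_mem _)
  obtain ⟨e, he, hae⟩ := exists_fixed hdvd a k ha
  obtain ⟨f, hf, hbf⟩ := exists_fixed hdvd b k hb
  have hamem : a ∈ Subgroup.closure ({a, b} : Set (MulAut V)) :=
    Subgroup.subset_closure (Set.mem_insert a _)
  have hbmem : b ∈ Subgroup.closure ({a, b} : Set (MulAut V)) :=
    Subgroup.subset_closure (Set.mem_insert_of_mem a rfl)
  by_cases hfe : f ∈ Subgroup.zpowers e
  · -- both fix `e`: then `b` is a power of `a`
    exfalso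
    have hzz := zpowers_eq_of_mem hexp he hf hfe
    have hbe : b e = e := by
      have hem : e ∈ Subgroup.zpowers f := by rw [hzz]; exact Subgroup.mem_zpowers e
      obtain ⟨m, rfl⟩ := Subgroup.mem_zpowers_iff.mp hem
      rw [map_zpow, hbf]
    obtain ⟨g, hg⟩ : ∃ g : V, g ∉ Subgroup.zpowers e := by
      by_contra hno
      push Not at hno
      have htop : Subgroup.zpowers e = ⊤ := by
        rw [eq_top_iff]
        intro x _
        exact hno x
      have h1 : Nat.card ↥(Subgroup.zpowers e) = p := by rw [Nat.card_zpowers, orderOf_eq hexp he]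
      rw [htop, Subgroup.card_top, hcard] at h1
      have h2 : p ^ 2 = p ^ 1 := by rw [pow_one]; exact h1
      have := Nat.pow_right_injective hpp.two_le h2
      omega
    obtain ⟨i, hi⟩ := shear hcard hcomm hexp he hg a k ha hae
    obtain ⟨j, hj⟩ := shear hcard hcomm hexp he hg b k hb hbe
    have hi1 : e ^ i ≠ 1 := by
      intro h
      apply ha1
      apply MulEquiv.ext
      intro v
      have := eq_of_agree hcard hcomm hexp he hg a.toMonoidHom (MonoidHom.id V)
        (by simpa using hae) (by simpa [h] using hi) v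
      simpa using this
    obtain ⟨s, hs⟩ := exists_inverse_exp hexp he i hi1
    apply hba
    rw [Subgroup.mem_zpowers_iff]
    refine ⟨((s * j : ℕ) : ℤ), ?_⟩
    rw [zpow_natCast]
    apply MulEquiv.ext
    intro v
    have hae' : (a ^ (s * j)) e = e := by
      have hmem : a ∈ MulAction.stabilizer (MulAut V) e := hae
      exact (MulAction.stabilizer (MulAut V) e).pow_mem hmem _
    have hag : (a ^ (s * j)) g = b g := by
      rw [shear_pow a hae i hi (s * j), hj, ← mul_assoc, pow_mul, hs]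
    exact eq_of_agree hcard hcomm hexp he hg (a ^ (s * j)).toMonoidHom b.toMonoidHom
      (by simpa [hbe] using hae') (by simpa using hag) v
  · have hef : e ∉ Subgroup.zpowers f := by
      intro h
      apply hfe
      rw [zpowers_eq_of_mem hexp hf he h]
      exact Subgroup.mem_zpowers f
    obtain ⟨i, hi⟩ := shear hcard hcomm hexp he hfe a k ha hae
    obtain ⟨j, hj⟩ := shear hcard hcomm hexp hf hef b k hb hbf
    have hi1 : e ^ i ≠ 1 := by
      intro h
      apply ha1
      apply MulEquiv.ext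
      intro v
      have := eq_of_agree hcard hcomm hexp he hfe a.toMonoidHom (MonoidHom.id V)
        (by simpa using hae) (by simpa [h] using hi) v
      simpa using this
    have hj1 : f ^ j ≠ 1 := by
      intro h
      apply hb1
      apply MulEquiv.ext
      intro v
      have := eq_of_agree hcard hcomm hexp hf hef b.toMonoidHom (MonoidHom.id V)
        (by simpa using hbf) (by simpa [h] using hj) v
      simpa using this
    obtain ⟨s, hs⟩ := exists_inverse_exp hexp he i hi1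
    obtain ⟨t, ht⟩ := exists_inverse_exp hexp hf j hj1
    -- `a' = a ^ s`, `b' = b ^ (t * (p - 1))`
    have ha'e : (a ^ s) e = e := by
      have hmem : a ∈ MulAction.stabilizer (MulAut V) e := hae
      exact (MulAction.stabilizer (MulAut V) e).pow_mem hmem _
    have ha'f : (a ^ s) f = f * e := by
      rw [shear_pow a hae i hi s, hs]
    have hb'f : (b ^ (t * (p - 1))) f = f := by
      have hmem : b ∈ MulAction.stabilizer (MulAut V) f := hbf
      exact (MulAction.stabilizer (MulAut V) f).pow_mem hmem _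
    have hfinv : f ^ (p - 1) = f⁻¹ := by
      apply eq_inv_of_mul_eq_one_left
      rw [← pow_succ, Nat.sub_add_cancel hpp.one_le, hexp]
    have hb'e : (b ^ (t * (p - 1))) e = e * f⁻¹ := by
      rw [shear_pow b hbf j hj (t * (p - 1)), ← mul_assoc, pow_mul, ht, hfinv]
    refine ⟨(a ^ s * b ^ (t * (p - 1)) * a ^ s) ^ 2, ?_, ?_⟩
    · exact Subgroup.pow_mem _ (Subgroup.mul_mem _ (Subgroup.mul_mem _ (Subgroup.pow_mem _ hamem _)
        (Subgroup.pow_mem _ hbmem _)) (Subgroup.pow_mem _ hamem _)) _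
    · have hxe : (a ^ s * b ^ (t * (p - 1)) * a ^ s) e = f⁻¹ := by
        rw [MulAut.mul_apply, MulAut.mul_apply, ha'e, hb'e, map_mul, map_inv, ha'e, ha'f,
          mul_inv_rev, hcomm e⁻¹ f⁻¹, ← mul_assoc, hcomm e f⁻¹, mul_assoc, mul_inv_cancel, mul_one]
      have hxf : (a ^ s * b ^ (t * (p - 1)) * a ^ s) f = e := by
        rw [MulAut.mul_apply, MulAut.mul_apply, ha'f, map_mul, hb'f, hb'e, map_mul, map_mul,
          map_inv, ha'f, ha'e, mul_inv_rev, hcomm e⁻¹ f⁻¹]
        calc f * e * (e * (f⁻¹ * e⁻¹)) = f * (e * e * f⁻¹ * e⁻¹) := by group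
          _ = f * (f⁻¹ * (e * e) * e⁻¹) := by rw [hcomm (e * e) f⁻¹]
          _ = e := by group
      intro v
      refine inv_of_gens hcard hcomm hexp he hfe
        ((a ^ s * b ^ (t * (p - 1)) * a ^ s) ^ 2).toMonoidHom ?_ ?_ v
      · change ((a ^ s * b ^ (t * (p - 1)) * a ^ s) ^ 2) e = e⁻¹
        rw [pow_two, MulAut.mul_apply, hxe, map_inv, hxf]
      · change ((a ^ s * b ^ (t * (p - 1)) * a ^ s) ^ 2) f = f⁻¹
        rw [pow_two, MulAut.mul_apply, hxf, hxe]

end plane

end Cfsg.Agent.Lib.Helper27.PlaneAut
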