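import Mathlib
import Cfsg.Agent.Lib.Helper27.AbAut

/-!
# Automorphisms trivial modulo the Frattini subgroup

`fratStab H` is the group of automorphisms of `H` inducing the identity on `H ⧸ Φ(H)`; it is normal
in `Aut H`, and a `p`-group when `H` is a finite abelian `p`-group.
-/

set_option autoImplicit false

namespace Cfsg.Agent.Lib.Helper27.FratStab

open Cfsg.Agent.Lib.Helper27

variable (H : Type*) [Group H]

/-- automorphisms inducing the identity modulo the Frattini subgroup -/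
def fratStab : Subgroup (MulAut H) where
  carrier := {β | ∀ y, β y * y⁻¹ ∈ frattini H}
  one_mem' := by
    intro y
    simp
  mul_mem' := by
    intro β γ hβ hγ y
    have e : (β * γ) y * y⁻¹ = (β (γ y) * (γ y)⁻¹) * (γ y * y⁻¹) := by
      rw [MulAut.mul_apply]
      group
    rw [e]
    exact mul_mem (hβ _) (hγ _)
  inv_mem' := by
    intro β hβ y
    have h1 := hβ (β⁻¹ y)
    have e : β⁻¹ y * y⁻¹ = (β (β⁻¹ y) * (β⁻¹ y)⁻¹)⁻¹ := by
      rw [MulAut.apply_inv_self, mul_inv_rev, inv_inv]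
    rw [e]
    exact inv_mem h1

variable {H}

theorem mem_fratStab {β : MulAut H} : β ∈ fratStab H ↔ ∀ y, β y * y⁻¹ ∈ frattini H := Iff.rfl

theorem fratStab_normal : (fratStab H).Normal := by
  constructor
  intro β hβ γ y
  have h1 := hβ (γ⁻¹ y)
  have e : (γ * β * γ⁻¹) y * y⁻¹ = γ (β (γ⁻¹ y) * (γ⁻¹ y)⁻¹) := by
    rw [MulAut.mul_apply, MulAut.mul_apply, map_mul, map_inv, MulAut.apply_inv_self]
  rw [e]
  exact (Subgroup.characteristic_iff_le_comap.mp frattini_characteristic γ) h1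

theorem fratStab_isPGroup [Finite H] {p : ℕ} [Fact p.Prime] (hab : ∀ a b : H, a * b = b * a)
    (hH : IsPGroup p H) : IsPGroup p ↥(fratStab H) := by
  classical
  letI : CommGroup H := { (inferInstance : Group H) with mul_comm := hab }
  have hp : p.Prime := Fact.out
  intro β
  have hne : orderOf (β : MulAut H) ≠ 0 := (orderOf_pos (β : MulAut H)).ne'
  obtain ⟨e, m, hm, hem⟩ := Nat.exists_eq_pow_mul_and_not_dvd hne p hp.ne_one
  refine ⟨e, ?_⟩
  have hγK : (β : MulAut H) ^ (p ^ e) ∈ fratStab H := (fratStab H).pow_mem β.2 _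
  have hγm : ((β : MulAut H) ^ (p ^ e)) ^ m = 1 := by
    rw [← pow_mul, ← hem, pow_orderOf_eq_one]
  have hcop : (orderOf ((β : MulAut H) ^ (p ^ e))).Coprime p := by
    have hd : orderOf ((β : MulAut H) ^ (p ^ e)) ∣ m := orderOf_dvd_of_pow_eq_one hγm
    have hm2 : m.Coprime p := ((Nat.Prime.coprime_iff_not_dvd hp).mpr hm).symm
    exact Nat.Coprime.coprime_dvd_left hd hm2
  have h1 := AbAut.eq_one_of_coprime_of_frattini hH _ hcop hγK
  apply Subtype.ext
  rw [Subgroup.coe_pow, Subgroup.coe_one]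
  exact h1

theorem mem_fratStab_of_sq [Finite H] (hab : ∀ a b : H, a * b = b * a) (hH : IsPGroup 2 H)
    (β : MulAut H) (h : ∀ y, ∃ z : H, z * z = β y * y⁻¹) : β ∈ fratStab H := by
  haveI : Fact (Nat.Prime 2) := ⟨Nat.prime_two⟩
  letI : CommGroup H := { (inferInstance : Group H) with mul_comm := hab }
  intro y
  rw [AbAut.frattini_eq_pw hH, AbAut.mem_pw]
  obtain ⟨z, hz⟩ := h y
  exact ⟨z, by rw [pow_two, hz]⟩

end Cfsg.Agent.Lib.Helper27.FratStab
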