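import Mathlib
import Cfsg.Agent.Lib.Helper27.MetaTwo

/-!
# Metacyclic `2`-groups of maximal class, element form

* `maxclass_of_invert`: a finite `2`-group `X` with cyclic normal `N`, cyclic `X ⧸ N`, and an element
  `h ∉ N` with `h² ∈ N` not centralizing an element of order four of `N` is dihedral, semidihedral
  or generalized quaternion.
* `klein_invert`, `quat_invert`: a self-centralizing Klein four-subgroup or quaternion subgroup of
  order eight of such a group (not the whole group) yields such an `h`.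
-/

set_option autoImplicit false

namespace Cfsg.Agent.Lib.Helper27.MetaTwoB

open Cfsg.Agent.Lib.Helper24 Cfsg.Agent.Lib.Helper9 Cfsg.Agent.Lib.Helper27.MetaTwo

variable {X : Type*} [Group X] [Finite X]

/-- **Maximal class from an inverted element of order four.** -/
theorem maxclass_of_invert (hX : IsPGroup 2 X)
    (N : Subgroup X) [hNn : N.Normal] [hNc : IsCyclic N] [hQc : IsCyclic (X ⧸ N)]
    (h : X) (hhN : h ∉ N) (hsq : h * h ∈ N) (q : X) (hqN : q ∈ N) (hq4 : orderOf q = 4)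
    (hqh : q * h ≠ h * q) :
    (∃ k : ℕ, Nonempty (X ≃* DihedralGroup (2 ^ (k + 2)))) ∨
      (∃ k : ℕ, Nat.card X = 2 ^ (k + 4) ∧ ∃ a b : X, orderOf a = 2 ^ (k + 3) ∧ orderOf b = 2 ∧
        b * a * b⁻¹ = a ^ (2 ^ (k + 2) - 1)) ∨
      (∃ k : ℕ, Nonempty (X ≃* QuaternionGroup (2 ^ (k + 1)))) := by
  haveI : Fact (Nat.Prime 2) := ⟨Nat.prime_two⟩
  obtain ⟨⟨c, hcN⟩, hgen⟩ := hNc.exists_generator
  have hN : N = Subgroup.zpowers c := by
    apply le_antisymm
    · intro u hu
      obtain ⟨i, hi⟩ := Subgroup.mem_zpowers_iff.mp (hgen ⟨u, hu⟩)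
      rw [Subgroup.mem_zpowers_iff]
      refine ⟨i, ?_⟩
      have := congrArg Subtype.val hi
      simpa using this
    · rw [Subgroup.zpowers_le]; exact hcN
  have hNab : ∀ u ∈ N, ∀ v ∈ N, u * v = v * u := by
    intro u hu v hv
    rw [hN] at hu hv
    obtain ⟨i, rfl⟩ := Subgroup.mem_zpowers_iff.mp hu
    obtain ⟨j, rfl⟩ := Subgroup.mem_zpowers_iff.mp hv
    rw [← zpow_add, ← zpow_add, add_comm]
  -- conjugation by `h` is a power map on `N`
  have hcc : h * c * h⁻¹ ∈ N := hNn.conj_mem c hcN h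
  obtain ⟨r, hr⟩ : ∃ r : ℤ, c ^ r = h * c * h⁻¹ := by
    rw [hN] at hcc
    exact Subgroup.mem_zpowers_iff.mp hcc
  have hpow : ∀ w ∈ N, h * w * h⁻¹ = w ^ r := by
    intro w hw
    rw [hN] at hw
    obtain ⟨i, rfl⟩ := Subgroup.mem_zpowers_iff.mp hw
    rw [← conj_zpow, ← hr, ← zpow_mul, ← zpow_mul, mul_comm]
  have h4 : ¬ (4 : ℤ) ∣ r - 1 := by
    intro hd
    apply hqh
    have h1 : q ^ (r - 1) = 1 := by
      rw [← orderOf_dvd_iff_zpow_eq_one, hq4]
      exact_mod_cast hd
    have h2 : h * q * h⁻¹ = q := by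
      rw [hpow q hqN]
      have e : r = (r - 1) + 1 := by ring
      rw [e, zpow_add, h1, one_mul, zpow_one]
    calc q * h = (h * q * h⁻¹) * h := by rw [h2]
      _ = h * q := by group
  have hcentsq : ∀ w ∈ N ⊓ Subgroup.centralizer ({h} : Set X), w * w = 1 := by
    intro w hw
    obtain ⟨hwN, hwh⟩ := Subgroup.mem_inf.mp hw
    rw [Subgroup.mem_centralizer_singleton_iff] at hwh
    obtain ⟨k, hk⟩ := (IsPGroup.iff_orderOf.mp hX) w
    have h2 : h * w * h⁻¹ = w := by
      rw [← hwh]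
      group
    have h1 : w ^ (r - 1) = 1 := by
      have h3 := hpow w hwN
      rw [h2] at h3
      rw [zpow_sub, zpow_one, ← h3, mul_inv_cancel]
    have h5 : ((orderOf w : ℕ) : ℤ) ∣ r - 1 := orderOf_dvd_iff_zpow_eq_one.mpr h1
    have hk1 : k ≤ 1 := by
      by_contra hk2
      push Not at hk2
      apply h4
      refine dvd_trans ?_ h5
      rw [hk]
      have h6 : (4 : ℕ) ∣ 2 ^ k := by
        have h7 : (2 : ℕ) ^ 2 ∣ 2 ^ k := pow_dvd_pow 2 hk2
        simpa using h7
      exact_mod_cast h6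
    have h8 : orderOf w ∣ 2 := by
      rw [hk]
      interval_cases k <;> norm_num
    rw [← pow_two]
    exact orderOf_dvd_iff_pow_eq_one.mp h8
  have hcent : Nat.card ↥(N ⊓ Subgroup.centralizer ({h} : Set X)) ≤ 2 :=
    card_le_two_of_le_cyclic N _ inf_le_left hcentsq
  obtain ⟨m, hm⟩ := IsPGroup.iff_card.mp (hX.to_subgroup N)
  have hord : orderOf c = 2 ^ m := by
    rw [← Nat.card_zpowers, ← hN, hm]
  have hm2 : 2 ≤ m := by
    have h1 : orderOf (⟨q, hqN⟩ : ↥N) ∣ Nat.card ↥N := orderOf_dvd_natCard _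
    rw [Subgroup.orderOf_mk, hq4, hm] at h1
    by_contra hlt
    have : m = 0 ∨ m = 1 := by omega
    rcases this with rfl | rfl <;> norm_num at h1
  have hns : ∀ z : X ⧸ N, z * z ≠ (QuotientGroup.mk h : X ⧸ N) := by
    intro z
    induction z using QuotientGroup.induction_on with
    | H d =>
      intro heq
      have h1 : (QuotientGroup.mk (d * d) : X ⧸ N) = QuotientGroup.mk h := heq
      rw [QuotientGroup.eq] at h1
      have hqd := sq_commute_of_order_four N c hN q hqN hq4 d
      have hqn := hNab q hqN _ h1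
      apply hqh
      have e : h = (d * d) * ((d * d)⁻¹ * h) := by group
      rw [e, ← mul_assoc, ← hqd, mul_assoc, hqn, ← mul_assoc]
  have htop := zpowers_eq_top_of_not_sq (hX.to_quotient N) _ hns
  have hidxN : N.index = 2 := by
    rw [Subgroup.index_eq_card, ← Subgroup.card_top, ← htop, Nat.card_zpowers]
    apply orderOf_eq_prime
    · rw [pow_two, ← QuotientGroup.mk_mul]
      exact (QuotientGroup.eq_one_iff _).mpr hsq
    · intro h1
      exact hhN ((QuotientGroup.eq_one_iff _).mp h1)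
  have hidx : (Subgroup.zpowers c).index = 2 := by rw [← hN]; exact hidxN
  have hg : h ∉ Subgroup.zpowers c := by rw [← hN]; exact hhN
  have hcent' : Nat.card ↥(Subgroup.zpowers c ⊓ Subgroup.centralizer ({h} : Set X)) ≤ 2 := by
    rw [← hN]; exact hcent
  obtain ⟨hwo, hcases, hgg, hgc⟩ := tk_facts c h m (by omega) hord hidx hg hcent'
  rcases hgc with hgc | hgc
  · rcases hgg with hgg | hgg
    · left
      exact tk_dihedral c h m hm2 hord hidx hg hgg hgc
    · right; right
      exact tk_quaternion c h m hm2 hord hidx hg hgg hgc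
  · right; left
    exact tk_semidihedral c h m hm2 hord hidx hg hwo hcases hgg hgc

/-- element form of `maxclass_of_centric` -/
theorem centric_invert (hX : IsPGroup 2 X)
    (N : Subgroup X) [hNn : N.Normal] [hNc : IsCyclic N] [hQc : IsCyclic (X ⧸ N)]
    (P : Subgroup X) (hcen : Subgroup.centralizer (P : Set X) ≤ P)
    (h : X) (hhN : h ∉ N) (hsq : h * h ∈ N)
    (hcos : ∀ x ∈ P, x ∈ N ∨ x * h⁻¹ ∈ N)
    (hsmall : Nat.card ↥(P ⊓ N ⊓ Subgroup.centralizer ({h} : Set X)) ≤ 2) :
    P = ⊤ ∨ ∃ q ∈ N, orderOf q = 4 ∧ q * h ≠ h * q := by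
  haveI : Fact (Nat.Prime 2) := ⟨Nat.prime_two⟩
  obtain ⟨⟨c, hcN⟩, hgen⟩ := hNc.exists_generator
  have hN : N = Subgroup.zpowers c := by
    apply le_antisymm
    · intro u hu
      obtain ⟨i, hi⟩ := Subgroup.mem_zpowers_iff.mp (hgen ⟨u, hu⟩)
      rw [Subgroup.mem_zpowers_iff]
      refine ⟨i, ?_⟩
      have := congrArg Subtype.val hi
      simpa using this
    · rw [Subgroup.zpowers_le]; exact hcN
  have hNab : ∀ u ∈ N, ∀ v ∈ N, u * v = v * u := by
    intro u hu v hv
    rw [hN] at hu hv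
    obtain ⟨i, rfl⟩ := Subgroup.mem_zpowers_iff.mp hu
    obtain ⟨j, rfl⟩ := Subgroup.mem_zpowers_iff.mp hv
    rw [← zpow_add, ← zpow_add, add_comm]
  have hle : N ⊓ Subgroup.centralizer ({h} : Set X) ≤
      P ⊓ N ⊓ Subgroup.centralizer ({h} : Set X) := by
    intro u hu
    obtain ⟨huN, huh⟩ := Subgroup.mem_inf.mp hu
    rw [Subgroup.mem_centralizer_singleton_iff] at huh
    refine Subgroup.mem_inf.mpr ⟨Subgroup.mem_inf.mpr ⟨?_, huN⟩, ?_⟩
    · apply hcen
      rw [Subgroup.mem_centralizer_iff]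
      intro x hx
      rcases hcos x hx with hxN | hxN
      · exact hNab x hxN u huN
      · have e : x = (x * h⁻¹) * h := by group
        rw [e, mul_assoc, ← huh, ← mul_assoc, hNab _ hxN u huN, mul_assoc]
    · rw [Subgroup.mem_centralizer_singleton_iff]
      exact huh
  have hcent : Nat.card ↥(N ⊓ Subgroup.centralizer ({h} : Set X)) ≤ 2 :=
    (Subgroup.card_le_of_le hle).trans hsmall
  obtain ⟨m, hm⟩ := IsPGroup.iff_card.mp (hX.to_subgroup N)
  have hord : orderOf c = 2 ^ m := by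
    rw [← Nat.card_zpowers, ← hN, hm]
  by_cases hm2 : 2 ≤ m
  · right
    set q := c ^ 2 ^ (m - 2) with hq
    have hqN : q ∈ N := N.pow_mem hcN _
    have hq4 : orderOf q = 4 := by
      rw [hq, orderOf_pow_of_dvd (by positivity) (by rw [hord]; exact pow_dvd_pow 2 (by omega)),
        hord, Nat.pow_div (by omega) (by norm_num)]
      have : m - (m - 2) = 2 := by omega
      rw [this]
    refine ⟨q, hqN, hq4, ?_⟩
    intro hqh
    have hzq : Subgroup.zpowers q ≤ N ⊓ Subgroup.centralizer ({h} : Set X) := by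
      rw [Subgroup.zpowers_le]
      refine Subgroup.mem_inf.mpr ⟨hqN, ?_⟩
      rw [Subgroup.mem_centralizer_singleton_iff]
      exact hqh
    have h4 := Subgroup.card_le_of_le hzq
    rw [Nat.card_zpowers, hq4] at h4
    omega
  · left
    have hc2 : c * c = 1 := by
      have h1 : orderOf c ∣ 2 := by
        rw [hord]
        have : m = 0 ∨ m = 1 := by omega
        rcases this with rfl | rfl <;> norm_num
      rw [← pow_two]
      exact orderOf_dvd_iff_pow_eq_one.mp h1
    have hccen : ∀ d : X, d * c * d⁻¹ = c := by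
      intro d
      have h1 : d * c * d⁻¹ ∈ N := hNn.conj_mem c hcN d
      rw [hN] at h1
      obtain ⟨i, hi⟩ := Subgroup.mem_zpowers_iff.mp h1
      rcases Int.even_or_odd i with ⟨j, hj⟩ | ⟨j, hj⟩
      · have h2 : c ^ i = 1 := by
          rw [hj, ← two_mul, zpow_mul, zpow_two, hc2, one_zpow]
        rw [h2] at hi
        have h3 : c = 1 := by
          have : c = d⁻¹ * (d * c * d⁻¹) * d := by group
          rw [this, ← hi]
          group
        rw [h3]
        group
      · have h2 : c ^ i = c := by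
          rw [hj, zpow_add, zpow_mul, zpow_two, hc2, one_zpow, one_mul, zpow_one]
        rw [← hi, h2]
    have hNcen : N ≤ Subgroup.center X := by
      intro u hu
      rw [hN] at hu
      obtain ⟨i, rfl⟩ := Subgroup.mem_zpowers_iff.mp hu
      rw [Subgroup.mem_center_iff]
      intro d
      have h1 : d * c ^ i * d⁻¹ = c ^ i := by
        rw [← conj_zpow, hccen]
      calc d * c ^ i = (d * c ^ i * d⁻¹) * d := by group
        _ = c ^ i * d := by rw [h1]
    have hcomm : IsMulCommutative X :=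
      MonoidHom.isMulCommutative_of_isCyclic_of_ker_le_center (QuotientGroup.mk' N)
        (by rw [QuotientGroup.ker_mk']; exact hNcen)
    rw [eq_top_iff]
    intro x _
    apply hcen
    rw [Subgroup.mem_centralizer_iff]
    intro y _
    exact hcomm.is_comm.comm y x

/-- element form of `klein_case` -/
theorem klein_invert (hX : IsPGroup 2 X)
    (N : Subgroup X) [hNn : N.Normal] [hNc : IsCyclic N] [hQc : IsCyclic (X ⧸ N)]
    (P : Subgroup X) (hcen : Subgroup.centralizer (P : Set X) ≤ P)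
    (hP4 : Nat.card ↥P = 4) (hP2 : ∀ x ∈ P, x * x = 1) :
    P = ⊤ ∨ ∃ h ∈ P, h ∉ N ∧ h * h ∈ N ∧ ∃ q ∈ N, orderOf q = 4 ∧ q * h ≠ h * q := by
  have hPN : ¬ P ≤ N := by
    intro hle
    have := card_le_two_of_le_cyclic N P hle hP2
    omega
  obtain ⟨h, hhP, hhN, hcos⟩ := exists_outer N P
    (fun x hx => by rw [hP2 x hx]; exact N.one_mem) hPN
  have hsmall : Nat.card ↥(P ⊓ N ⊓ Subgroup.centralizer ({h} : Set X)) ≤ 2 :=
    card_le_two_of_le_cyclic N _ (inf_le_left.trans inf_le_right)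
      (fun w hw => hP2 w (Subgroup.mem_inf.mp (Subgroup.mem_inf.mp hw).1).1)
  have hsq : h * h ∈ N := by rw [hP2 h hhP]; exact N.one_mem
  rcases centric_invert hX N P hcen h hhN hsq hcos hsmall with h1 | ⟨q, hqN, hq4, hqh⟩
  · exact Or.inl h1
  · exact Or.inr ⟨h, hhP, hhN, hsq, q, hqN, hq4, hqh⟩

/-- element form of `quat_case` -/
theorem quat_invert (hX : IsPGroup 2 X)
    (N : Subgroup X) [hNn : N.Normal] [hNc : IsCyclic N] [hQc : IsCyclic (X ⧸ N)]
    (P : Subgroup X) (hcen : Subgroup.centralizer (P : Set X) ≤ P)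
    (e : ↥P ≃* QuaternionGroup 2) :
    P = ⊤ ∨ ∃ h ∈ P, h ∉ N ∧ h * h ∈ N ∧ ∃ q ∈ N, orderOf q = 4 ∧ q * h ≠ h * q := by
  set z : X := ((e.symm (QuaternionGroup.a 2) : ↥P) : X) with hz
  have hzP : z ∈ P := (e.symm (QuaternionGroup.a 2)).2
  have hsqz : ∀ x ∈ P, x * x = 1 ∨ x * x = z := by
    intro x hx
    rcases q8_sq (e ⟨x, hx⟩) with h1 | h1
    · left
      rw [← map_mul] at h1
      have h2 := e.injective (h1.trans (map_one e).symm)
      exact congrArg Subtype.val h2
    · right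
      rw [← map_mul] at h1
      have h2 : (⟨x, hx⟩ * ⟨x, hx⟩ : ↥P) = e.symm (QuaternionGroup.a 2) := by
        rw [← h1, e.symm_apply_apply]
      exact congrArg Subtype.val h2
  have hinv : ∀ x ∈ P, x * x = 1 → x = 1 ∨ x = z := by
    intro x hx hxx
    have h0 : e ⟨x, hx⟩ * e ⟨x, hx⟩ = 1 := by
      rw [← map_mul]
      have : (⟨x, hx⟩ * ⟨x, hx⟩ : ↥P) = 1 := Subtype.ext hxx
      rw [this, map_one]
    rcases q8_invol (e ⟨x, hx⟩) h0 with h1 | h1
    · left
      have h2 := e.injective (h1.trans (map_one e).symm)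
      exact congrArg Subtype.val h2
    · right
      have h2 : (⟨x, hx⟩ : ↥P) = e.symm (QuaternionGroup.a 2) := by
        rw [← h1, e.symm_apply_apply]
      exact congrArg Subtype.val h2
  have hcentQ : ∀ w ∈ P, ∀ h ∈ P, w * h = h * w → w * w ≠ 1 →
      (h = 1 ∨ h = w ∨ h = w * w ∨ h = w * w * w) := by
    intro w hw h hh hwh hww
    have h0 : e ⟨w, hw⟩ * e ⟨h, hh⟩ = e ⟨h, hh⟩ * e ⟨w, hw⟩ := by
      rw [← map_mul, ← map_mul]
      congr 1
      exact Subtype.ext hwh
    have h0' : e ⟨w, hw⟩ * e ⟨w, hw⟩ ≠ 1 := by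
      intro h1
      apply hww
      rw [← map_mul] at h1
      have h2 := e.injective (h1.trans (map_one e).symm)
      exact congrArg Subtype.val h2
    rcases q8_cent _ _ h0 h0' with h1 | h1 | h1 | h1
    · left
      have h2 := e.injective (h1.trans (map_one e).symm)
      exact congrArg Subtype.val h2
    · right; left
      exact congrArg Subtype.val (e.injective h1)
    · right; right; left
      rw [← map_mul] at h1
      exact congrArg Subtype.val (e.injective h1)
    · right; right; right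
      rw [← map_mul, ← map_mul] at h1
      exact congrArg Subtype.val (e.injective h1)
  have hnc : ∃ u ∈ P, ∃ v ∈ P, u * v ≠ v * u := by
    obtain ⟨u, v, huv⟩ := q8_noncomm
    refine ⟨(e.symm u : ↥P), (e.symm u).2, (e.symm v : ↥P), (e.symm v).2, ?_⟩
    intro h1
    apply huv
    have h2 : e.symm u * e.symm v = e.symm v * e.symm u := Subtype.ext h1
    rw [← map_mul, ← map_mul] at h2
    exact e.symm.injective h2
  -- the quotient is commutative
  have hQab : ∀ a b : X, a * b * a⁻¹ * b⁻¹ ∈ N := by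
    intro a b
    rw [← QuotientGroup.eq_one_iff]
    have hc : IsMulCommutative (X ⧸ N) := IsCyclic.isMulCommutative
    rw [QuotientGroup.mk_mul, QuotientGroup.mk_mul, QuotientGroup.mk_mul, QuotientGroup.mk_inv,
      QuotientGroup.mk_inv, hc.is_comm.comm (QuotientGroup.mk a) (QuotientGroup.mk b),
      mul_inv_cancel_right, mul_inv_cancel]
  have hzN : z ∈ N := by
    obtain ⟨u, hu, v, hv, huv⟩ := hnc
    have hw : u * v * u⁻¹ * v⁻¹ ∈ P :=
      P.mul_mem (P.mul_mem (P.mul_mem hu hv) (P.inv_mem hu)) (P.inv_mem hv)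
    have hwN := hQab u v
    have hw1 : u * v * u⁻¹ * v⁻¹ ≠ 1 := by
      intro h1
      apply huv
      calc u * v = (u * v * u⁻¹ * v⁻¹) * (v * u) := by group
        _ = v * u := by rw [h1, one_mul]
    rcases hsqz _ hw with h1 | h1
    · rcases hinv _ hw h1 with h2 | h2
      · exact absurd h2 hw1
      · rw [← h2]; exact hwN
    · rw [← h1]; exact N.mul_mem hwN hwN
  have hsqP : ∀ x ∈ P, x * x ∈ N := by
    intro x hx
    rcases hsqz x hx with h1 | h1
    · rw [h1]; exact N.one_mem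
    · rw [h1]; exact hzN
  have hNab : ∀ u ∈ N, ∀ v ∈ N, u * v = v * u := by
    intro u hu v hv
    have hc : IsMulCommutative ↥N := IsCyclic.isMulCommutative
    exact congrArg Subtype.val (hc.is_comm.comm ⟨u, hu⟩ ⟨v, hv⟩)
  have hPN : ¬ P ≤ N := by
    intro hle
    obtain ⟨u, hu, v, hv, huv⟩ := hnc
    exact huv (hNab u (hle hu) v (hle hv))
  obtain ⟨h, hhP, hhN, hcos⟩ := exists_outer N P hsqP hPN
  have hsmall : Nat.card ↥(P ⊓ N ⊓ Subgroup.centralizer ({h} : Set X)) ≤ 2 := by
    refine card_le_two_of_le_cyclic N _ (inf_le_left.trans inf_le_right) ?_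
    intro w hw
    obtain ⟨hw1, hwh⟩ := Subgroup.mem_inf.mp hw
    obtain ⟨hwP, hwN⟩ := Subgroup.mem_inf.mp hw1
    rw [Subgroup.mem_centralizer_singleton_iff] at hwh
    by_contra hww
    rcases hcentQ w hwP h hhP hwh hww with h1 | h1 | h1 | h1
    · exact hhN (h1 ▸ N.one_mem)
    · exact hhN (h1 ▸ hwN)
    · exact hhN (h1 ▸ N.mul_mem hwN hwN)
    · exact hhN (h1 ▸ N.mul_mem (N.mul_mem hwN hwN) hwN)
  rcases centric_invert hX N P hcen h hhN (hsqP h hhP) hcos hsmall with h1 | ⟨q, hqN, hq4, hqh⟩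
  · exact Or.inl h1
  · exact Or.inr ⟨h, hhP, hhN, hsqP h hhP, q, hqN, hq4, hqh⟩

end Cfsg.Agent.Lib.Helper27.MetaTwoB
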