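import Mathlib
import Cfsg.Agent.Lib.Helper10.SLB.Defs

/-! Project SLB (helper10), row G07: a constant matrix has rank at most one. -/

set_option autoImplicit false

namespace Cfsg.Agent.Lib.Helper10.SLB

/-- G07: the constant matrix has rank at most one -/
theorem rank_const_le_one {R : Type*} [Field R] {ι : Type*} [Fintype ι] (c : R) :
    (Matrix.of fun _ _ : ι => c).rank ≤ 1 := by
  have h : (Matrix.of fun _ _ : ι => c) = Matrix.vecMulVec (fun _ : ι => c) (fun _ : ι => (1 : R)) := by
    ext i j
    simp [Matrix.vecMulVec_apply]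
  rw [h]
  exact Matrix.rank_vecMulVec_le _ _

end Cfsg.Agent.Lib.Helper10.SLB
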