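import Mathlib
import Cfsg.Agent.Lib.Helper10.SLB.Defs
import Cfsg.Agent.Lib.Helper27.SLBG07
import Cfsg.Agent.S4443

/-! Project SLB (helper10), row G08 (core): at most one block of defect zero, from Robinson's
theorem S4443 and the statements of G05 (`omega_congr`) and G06 (`good_adm`). -/

set_option autoImplicit false

namespace Cfsg.Agent.Lib.Helper10.SLB

/-- G08 with the statements of G05 and G06 as hypotheses -/
theorem slbg08_core {G : Type*} [Group G] [Fintype G] (p : ℕ) [Fact p.Prime]
    (hG05 : ∀ (S : Sylow p G) (K₁ K₂ K₁' K₂' : Set G), Adm p K₁ → Adm p K₂ → Adm p K₁' →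
      Adm p K₂' →
      (∀ g : G, cnt (S : Subgroup G) K₁ g ≡ cnt (S : Subgroup G) K₁' g [MOD p]) →
      (∀ g : G, cnt (S : Subgroup G) K₂ g ≡ cnt (S : Subgroup G) K₂' g [MOD p]) →
      p ^ (Nat.card G).factorization p ∣ omega (S : Subgroup G) K₁ K₂ ∧
        ((omega (S : Subgroup G) K₁ K₂ / p ^ (Nat.card G).factorization p : ℕ) : ZMod p) =
          ((omega (S : Subgroup G) K₁' K₂' / p ^ (Nat.card G).factorization p : ℕ) : ZMod p))
    (hG06 : ∀ C : ConjClasses G, Good p C → Adm p C.carrier)
    (M : Ideal Cfsg.AlgInt) (hM : Cfsg.IsPModular p M) (S : Sylow p G)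
    (h : ∀ C C' : ConjClasses G, Good p C → Good p C' → ∀ g : G,
      cnt (S : Subgroup G) C.carrier g ≡ cnt (S : Subgroup G) C'.carrier g [MOD p]) :
    Nat.card {B : Set (Cfsg.IrrCharacter G) // Cfsg.IsPBlock M B ∧
      Cfsg.IsDefectGroup p M B (⊥ : Subgroup G)} ≤ 1 := by
  classical
  haveI : Fintype {C : ConjClasses G // Good p C} := Fintype.ofFinite _
  have key := Cfsg.Agent.S4443.result p M hM (⊥ : Subgroup G) IsPGroup.of_bot S
    (ι := {C : ConjClasses G // Good p C}) (fun i => i.1) Subtype.val_injective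
    (by
      intro C
      constructor
      · rintro ⟨i, rfl⟩
        exact i.2
      · intro hC
        exact ⟨⟨C, hC⟩, rfl⟩)
  rw [key]
  have hbot : (Nat.card (⊥ : Subgroup G)).factorization p = 0 := by
    rw [Subgroup.card_bot]
    simp
  rw [hbot, Nat.sub_zero]
  by_cases hne : Nonempty {C : ConjClasses G // Good p C}
  · obtain ⟨i0⟩ := hne
    have hconst : (Matrix.of fun i j : {C : ConjClasses G // Good p C} =>
        ((Nat.card {yz : G × G // yz.1 ∈ (i.1).carrier ∧ yz.2 ∈ (j.1).carrier ∧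
          yz.2 * yz.1⁻¹ ∈ (S : Subgroup G)} / p ^ (Nat.card G).factorization p : ℕ) : ZMod p)) =
        Matrix.of fun _ _ : {C : ConjClasses G // Good p C} =>
          ((omega (S : Subgroup G) (i0.1).carrier (i0.1).carrier /
            p ^ (Nat.card G).factorization p : ℕ) : ZMod p) := by
      ext i j
      exact (hG05 S _ _ _ _ (hG06 _ i.2) (hG06 _ j.2) (hG06 _ i0.2) (hG06 _ i0.2)
        (h _ _ i.2 i0.2) (h _ _ j.2 i0.2)).2
    rw [hconst]
    exact rank_const_le_one _
  · haveI : IsEmpty {C : ConjClasses G // Good p C} := not_nonempty_iff.mp hne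
    refine le_trans (Matrix.rank_le_card_width _) ?_
    rw [Fintype.card_eq_zero]
    exact Nat.zero_le _

end Cfsg.Agent.Lib.Helper10.SLB
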