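import Mathlib
import Cfsg.Agent.Lib.Helper10.TEM.Defs

/-!
# TEM row F3 (core): `A_r = K` as soon as it contains some `t0 ∉ k`.
Core on the statements of the rows N1 F1 F2 G3 G4 R2.
-/

set_option autoImplicit false

namespace Cfsg.Agent.Lib.Helper10.TEM

open Cfsg.Lie Cfsg.Lie.ChevalleyDatum Matrix
open Cfsg.Agent.Lib.helper8

universe u

variable {K : Type u} [Field K] {q : ℕ} {f : K ≃+* K} {M H : Subgroup (GG K)}

theorem temf3_core (C : Ctx q f M H) (r : ℕ) (hr : r < 72) (hσ : h8sE6 r ≠ r)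
    (hN1 : ∀ (A : AddSubgroup K), (∀ c t : K, f c = c → t ∈ A → c * t ∈ A) → (1 : K) ∈ A →
      ∀ a : K, a ∈ A → f a ≠ a → ∀ x : K, x ∈ A)
    (hF1 : ∀ s t : K, XS q r (s + t) = XS q r s * XS q r t)
    (hF2 : ∃ a < 72, h8sE6 a = a ∧ ∀ c : K, c ≠ 0 → c ^ q = c → ∀ t : K,
      hh a c * XS q r t * (hh a c)⁻¹ = XS q r (c * t))
    (hG3 : ∀ t : K, XS q r t ∈ twistedE6 K q)
    (hG4 : ∀ a < 72, h8sE6 a = a → ∀ c : K, c ≠ 0 → c ^ q = c → hh a c ∈ twistedE6 K q)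
    (hR2h : ∀ (a : ℕ) (c : K), c ^ q = c → Rat q (hh a c))
    (hR2X : ∀ t : K, t ^ q = t → Rat q (XS q r t))
    (t0 : K) (h0 : XS q r t0 ∈ H) (ht0 : t0 ^ q ≠ t0) : ∀ t : K, XS q r t ∈ H := by
  have hz : XS q r (0 : K) = 1 := by
    have h := hF1 0 0
    rw [add_zero] at h
    exact (mul_eq_left.mp h.symm)
  have hneg : ∀ t : K, XS q r (-t) = (XS q r t)⁻¹ := by
    intro t
    have h := hF1 (-t) t
    rw [neg_add_cancel, hz] at h
    exact eq_inv_of_mul_eq_one_left h.symm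
  let A : AddSubgroup K :=
    { carrier := {t | XS q r t ∈ H}
      zero_mem' := by
        show XS q r (0 : K) ∈ H
        rw [hz]; exact H.one_mem
      add_mem' := by
        intro a b ha hb
        show XS q r (a + b) ∈ H
        rw [hF1]; exact H.mul_mem ha hb
      neg_mem' := by
        intro a ha
        show XS q r (-a) ∈ H
        rw [hneg]; exact H.inv_mem ha }
  have hmem : ∀ t : K, t ∈ A ↔ XS q r t ∈ H := fun t => Iff.rfl
  obtain ⟨a, ha, hσa, hconj⟩ := hF2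
  have hstab : ∀ c t : K, f c = c → t ∈ A → c * t ∈ A := by
    intro c t hc ht
    by_cases hc0 : c = 0
    · subst hc0
      rw [zero_mul]; exact A.zero_mem
    · have hcq : c ^ q = c := by rw [← C.hF.pow]; exact hc
      have hhM : hh a c ∈ M := (C.hM _).mpr ⟨hG4 a ha hσa c hc0 hcq, hR2h a c hcq⟩
      have hhH : hh a c ∈ H := C.hMH hhM
      rw [hmem, ← hconj c hc0 hcq t]
      exact H.mul_mem (H.mul_mem hhH ((hmem t).mp ht)) (H.inv_mem hhH)
  have h1 : (1 : K) ∈ A := by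
    rw [hmem]
    exact C.hMH ((C.hM _).mpr ⟨hG3 1, hR2X 1 (one_pow q)⟩)
  have hfa : f t0 ≠ t0 := by rw [C.hF.pow]; exact ht0
  intro t
  exact (hmem t).mp (hN1 A hstab h1 t0 ((hmem t0).mpr h0) hfa t)

end Cfsg.Agent.Lib.Helper10.TEM
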