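import Mathlib
import Cfsg.Agent.Lib.Helper10.TEM.Defs
import Cfsg.Agent.Lib.Helper27.TEMF3core
import Cfsg.Agent.Lib.Helper13.TEMN1
import Cfsg.Agent.Lib.Helper16.TEMF1
import Cfsg.Agent.Lib.Helper16.TEMF2
import Cfsg.Agent.Lib.helper15.TEMG3
import Cfsg.Agent.Lib.Helper5.TEMG4
import Cfsg.Agent.Lib.helper4.TEMR2

/-!
# TEM row F3 (verbatim): `XS_full`.
-/

set_option autoImplicit false

namespace Cfsg.Agent.Lib.Helper10.TEM

open Cfsg.Lie Cfsg.Lie.ChevalleyDatum Matrix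
open Cfsg.Agent.Lib.helper8

universe u

variable {K : Type u} [Field K] {q : ℕ} {f : K ≃+* K} {M H : Subgroup (GG K)}

theorem XS_full (C : Ctx q f M H) (r : ℕ) (hr : r < 72) (hσ : h8sE6 r ≠ r) (t0 : K)
    (h0 : XS q r t0 ∈ H) (ht0 : t0 ^ q ≠ t0) : ∀ t : K, XS q r t ∈ H :=
  temf3_core C r hr hσ
    (fun A hA h1 a ha hfa x => sub_full C.hF.inv A hA h1 a ha hfa x)
    (fun s t => XS_add C.hF r hr hσ s t)
    (tor_XS C.hF r hr hσ)
    (fun t => XS_mem_G1 C.hF r hr hσ t)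
    (fun a ha hσa c hc hcq => hh_mem_G1 C.hF a ha hσa c hc hcq)
    (fun a c hc => rat_hh C.hF a c hc)
    (fun t ht => rat_XS C.hF r t ht)
    t0 h0 ht0

end Cfsg.Agent.Lib.Helper10.TEM
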