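import Mathlib
import Cfsg.Agent.Lib.Helper10.TEM.Defs

/-!
# TEM row P3 (core): `UPsi K [r] ⊓ G¹` is rational for `r = 39, 71, 32, 0`.
Core on the statement of the row R2 (`rat_X`).
-/

set_option autoImplicit false

namespace Cfsg.Agent.Lib.Helper10.TEM

open Cfsg.Lie Cfsg.Lie.ChevalleyDatum Matrix
open Cfsg.Agent.Lib.helper8

universe u

variable {K : Type u} [Field K] {q : ℕ} {f : K ≃+* K} {M H : Subgroup (GG K)}

theorem temp3_nroots : chevE6.nroots = 72 := by decide +kernel

/-- the elements of `UPsi K [r]` are root elements -/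
theorem temp3_single (r : ℕ) (hr : r < 72) (g : GG K) (hg : g ∈ UPsi K [r]) :
    ∃ s : K, g = X r s := by
  have hr' : r < chevE6.nroots := by rw [temp3_nroots]; exact hr
  unfold UPsi at hg
  induction hg using Subgroup.closure_induction with
  | mem x hx =>
    obtain ⟨r', hr'', t, rfl⟩ := hx
    rw [List.mem_singleton] at hr''
    subst hr''
    exact ⟨t, rfl⟩
  | one => exact ⟨0, (h8xU_zero chevE6 hB r).symm⟩
  | mul x y _ _ hx hy =>
    obtain ⟨a, rfl⟩ := hx
    obtain ⟨b, rfl⟩ := hy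
    exact ⟨a + b, h8xU_add chevE6 hB r hr' a b⟩
  | inv x _ hx =>
    obtain ⟨a, rfl⟩ := hx
    exact ⟨-a, h8xU_inv chevE6 hB r a⟩

theorem temp3_core (hF : Frob q f)
    (hR2 : ∀ (r : ℕ) (t : K), t ^ q = t → Rat q (X r t))
    (r : ℕ) (hr : r ∈ [39, 71, 32, 0]) (g : GG K)
    (hg : g ∈ UPsi K [r] ⊓ twistedE6 K q) : Rat q g := by
  have hr72 : r < 72 := by
    simp only [List.mem_cons, List.not_mem_nil, or_false] at hr
    omega
  have hfix : h8sE6 r = r := by
    simp only [List.mem_cons, List.not_mem_nil, or_false] at hr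
    rcases hr with rfl | rfl | rfl | rfl <;> decide +kernel
  have hrd := root_data r hr72
  have he : h8eE6 r = 1 := hrd.2.2.2.2.2.2.2.1 hfix
  obtain ⟨s, rfl⟩ := temp3_single r hr72 g hg.1
  have h1 : Sg f (X r s) = X r s := sig_fix hF _ hg.2
  rw [Sg_X f r hr72, hfix, he] at h1
  have h2 : f s = s := by
    have := h8xU_inj_t chevE6 hB hA hW r hrd.1 _ _ h1
    simpa using this
  apply hR2
  rw [← hF.pow]; exact h2

end Cfsg.Agent.Lib.Helper10.TEM
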