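import Mathlib
import Cfsg.Agent.Lib.Helper10.TEM.Defs
import Cfsg.Agent.Lib.Helper27.TEMP3core
import Cfsg.Agent.Lib.helper4.TEMR2

/-!
# TEM row P3 (verbatim): `one_rat`.
-/

set_option autoImplicit false

namespace Cfsg.Agent.Lib.Helper10.TEM

open Cfsg.Lie Cfsg.Lie.ChevalleyDatum Matrix
open Cfsg.Agent.Lib.helper8

universe u

variable {K : Type u} [Field K] {q : ℕ} {f : K ≃+* K} {M H : Subgroup (GG K)}

theorem one_rat (hF : Frob q f) (r : ℕ) (hr : r ∈ [39, 71, 32, 0]) (g : GG K)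
    (hg : g ∈ UPsi K [r] ⊓ twistedE6 K q) : Rat q g :=
  temp3_core hF (fun r t ht => rat_X hF r t ht) r hr g hg

end Cfsg.Agent.Lib.Helper10.TEM
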