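import Mathlib
import Cfsg.Agent.Lib.Helper19.G2V.Defs
import Cfsg.Agent.S1032
import Cfsg.Agent.Lib.Lead.SLn

/-!
# G2V row I1: `hb_phiA` (verbatim from `Helper19/G2V/Skel.lean.txt`), with extras `g2vi1_*`.
-/

set_option autoImplicit false

namespace Cfsg.Agent.Lib.Helper19.G2V

open Cfsg.Lie Cfsg.Lie.ChevalleyDatum Matrix
open Cfsg.Agent.Lib.helper8
open Cfsg.Agent.Lib.helper23.P4V

universe u

variable {F : Type u} [Field F]

/-- S1032 for `h_b(c)` at the level of units. -/
theorem g2vi1_hb_X (c : F) (hc : c ≠ 0) (s : ℕ) (hs : s < 12) (t : F) :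
    hb c * X s t = X s (c ^ (chevG2.cartan 1 s) * t) * hb c := by
  apply Units.ext
  rw [Units.val_mul, Units.val_mul]
  have h := Cfsg.Agent.S1032.result (F := F) chevG2 (by simp) 1 s (by decide) hs c hc t
  exact h

theorem g2vi1_hb_X7 (c : F) (hc : c ≠ 0) (t : F) : hb c * X 7 t = X 7 (t * c⁻¹) * hb c := by
  rw [g2vi1_hb_X c hc 7 (by decide) t]
  have : chevG2.cartan 1 7 = -1 := by decide
  rw [this, _root_.zpow_neg_one, mul_comm]

theorem g2vi1_hb_X4 (c : F) (hc : c ≠ 0) (t : F) : hb c * X 4 t = X 4 (c * t) * hb c := by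
  rw [g2vi1_hb_X c hc 4 (by decide) t]
  have : chevG2.cartan 1 4 = 1 := by decide
  rw [this, zpow_one]

/-- the predicate of the transvection induction -/
theorem g2vi1_aux (c : F) (hc : c ≠ 0) (S : Matrix.SpecialLinearGroup (Fin 2) F) :
    ∀ S' : Matrix.SpecialLinearGroup (Fin 2) F,
      (S' : M2 F) = !![1, 0; 0, c] * (S : M2 F) * !![1, 0; 0, c⁻¹] →
      hb c * phiA S = phiA S' * hb c := by
  have hdd : (!![1, 0; 0, c⁻¹] : M2 F) * !![1, 0; 0, c] = 1 := by
    ext i j
    fin_cases i <;> fin_cases j <;> simp [Matrix.mul_apply, Fin.sum_univ_two, hc]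
  induction S using Cfsg.Agent.Lib.Lead.SL_transvection_induction with
  | htransvec i j hij t =>
    intro S' hS'
    fin_cases i <;> fin_cases j
    · exact absurd rfl hij
    · -- upper
      have e1 : ((Matrix.SpecialLinearGroup.transvection hij t :
          Matrix.SpecialLinearGroup (Fin 2) F) : M2 F) = !![1, t; 0, 1] := by
        rw [Matrix.SpecialLinearGroup.transvection_coe]
        ext a b
        fin_cases a <;> fin_cases b <;> simp [Matrix.single_apply]
      have e2 : (S' : M2 F) = !![1, t * c⁻¹; 0, 1] := by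
        rw [hS', e1]
        ext a b
        fin_cases a <;> fin_cases b <;>
          simp [Matrix.mul_apply, Fin.sum_univ_two, hc]
      rw [phiA_upper _ t e1, phiA_upper _ (t * c⁻¹) e2]
      exact g2vi1_hb_X7 c hc t
    · -- lower
      have e1 : ((Matrix.SpecialLinearGroup.transvection hij t :
          Matrix.SpecialLinearGroup (Fin 2) F) : M2 F) = !![1, 0; t, 1] := by
        rw [Matrix.SpecialLinearGroup.transvection_coe]
        ext a b
        fin_cases a <;> fin_cases b <;> simp [Matrix.single_apply]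
      have e2 : (S' : M2 F) = !![1, 0; c * t, 1] := by
        rw [hS', e1]
        ext a b
        fin_cases a <;> fin_cases b <;>
          simp [Matrix.mul_apply, Fin.sum_univ_two, hc]
      rw [phiA_lower _ t e1, phiA_lower _ (c * t) e2]
      exact g2vi1_hb_X4 c hc t
    · exact absurd rfl hij
  | hmul A B hA hB =>
    intro S' hS'
    have hdetd : (!![1, 0; 0, c] : M2 F).det = c := by simp [Matrix.det_fin_two_of]
    have hdetd' : (!![1, 0; 0, c⁻¹] : M2 F).det = c⁻¹ := by simp [Matrix.det_fin_two_of]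
    have hdet : ∀ T : Matrix.SpecialLinearGroup (Fin 2) F,
        (!![1, 0; 0, c] * (T : M2 F) * !![1, 0; 0, c⁻¹]).det = 1 := by
      intro T
      rw [Matrix.det_mul, Matrix.det_mul, hdetd, hdetd', T.det_coe, mul_one, mul_inv_cancel₀ hc]
    set A' : Matrix.SpecialLinearGroup (Fin 2) F := ⟨_, hdet A⟩ with hA'
    set B' : Matrix.SpecialLinearGroup (Fin 2) F := ⟨_, hdet B⟩ with hB'
    have hS'eq : S' = A' * B' := by
      apply Subtype.ext
      rw [hS', Matrix.SpecialLinearGroup.coe_mul, Matrix.SpecialLinearGroup.coe_mul]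
      show _ = (!![1, 0; 0, c] * (A : M2 F) * !![1, 0; 0, c⁻¹]) *
        (!![1, 0; 0, c] * (B : M2 F) * !![1, 0; 0, c⁻¹])
      calc !![1, 0; 0, c] * ((A : M2 F) * (B : M2 F)) * !![1, 0; 0, c⁻¹]
          = !![1, 0; 0, c] * (A : M2 F) * 1 * (B : M2 F) * !![1, 0; 0, c⁻¹] := by
            simp only [Matrix.mul_one, Matrix.mul_assoc]
        _ = _ := by rw [← hdd]; simp only [Matrix.mul_assoc]
    rw [hS'eq, map_mul, map_mul, ← mul_assoc, hA A' rfl, mul_assoc, hB B' rfl, mul_assoc]

/-- **I1** [M].  For fixed `c` the set of `S` with `hb c * phiA S * (hb c)⁻¹ = phiA (d S d⁻¹)`, `d = diag(1, c)`,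
is a subgroup of `SL₂(F)` containing the transvections (`SL_transvection_induction`; on them `phiA_upper`,
`phiA_lower` and S1032 with `i = 1` (`chevG2.simple 1 = 6`): `chevG2.cartan 1 7 = -1`, `chevG2.cartan 1 4 = 1`,
so `hb c * X 7 t = X 7 (c⁻¹ t) * hb c`, `hb c * X 4 t = X 4 (c t) * hb c`). -/
theorem hb_phiA (c : F) (hc : c ≠ 0) (S S' : Matrix.SpecialLinearGroup (Fin 2) F)
    (h : (S' : M2 F) = !![1, 0; 0, c] * (S : M2 F) * !![1, 0; 0, c⁻¹]) :
    hb c * phiA S = phiA S' * hb c :=
  g2vi1_aux c hc S S' h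

end Cfsg.Agent.Lib.Helper19.G2V
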