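import Mathlib
import Cfsg.Agent.Lib.Helper19.G2V.Defs
import Cfsg.Agent.Lib.helper8.ChevCent2
import Cfsg.Agent.Lib.helper8.ChevSt27
import Cfsg.Agent.Lib.Helper27.G2VI1

/-!
# G2V row I2: `iota_mul`, `iota_one`, `iota_inv` (verbatim from `Helper19/G2V/Skel.lean.txt`), extras `g2vi2_*`.
-/

set_option autoImplicit false

namespace Cfsg.Agent.Lib.Helper19.G2V

open Cfsg.Lie Cfsg.Lie.ChevalleyDatum Matrix
open Cfsg.Agent.Lib.helper8
open Cfsg.Agent.Lib.helper23.P4V

universe u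

variable {F : Type u} [Field F]

theorem g2vi2_det_ne (A : GL (Fin 2) F) : (A : M2 F).det ≠ 0 := by
  have := A.isUnit.map (Matrix.detMonoidHom (n := Fin 2) (R := F))
  exact this.ne_zero

theorem g2vi2_hb_mul (a b : F) (ha : a ≠ 0) (hb' : b ≠ 0) : (hb a : GG F) * hb b = hb (a * b) :=
  h8hU_mul chevG2 hB 6 (by decide) a b ha hb'

theorem g2vi2_hb_one : (hb (1 : F) : GG F) = 1 := h8hU_one chevG2 hB 6

/-- **I2** [M] (all three).  `iota A * iota B = phiA (sl2of A) * hb (det A) * phiA (sl2of B) * hb (det B)`;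
move `hb (det A)` to the right by I1; `h8hU_mul`, `h8hU_one`; in `SL₂`:
`sl2of A * (d_A (sl2of B) d_A⁻¹) = sl2of (A * B)`. -/
theorem iota_mul (A B : GL (Fin 2) F) : iota (A * B) = iota A * iota B := by
  set a : F := (A : M2 F).det with ha
  set b : F := (B : M2 F).det with hb'
  have ha0 : a ≠ 0 := g2vi2_det_ne A
  have hb0 : b ≠ 0 := g2vi2_det_ne B
  have hdetAB : ((A * B : GL (Fin 2) F) : M2 F).det = a * b := by
    rw [Units.val_mul, Matrix.det_mul]
  -- the conjugate of `sl2of B`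
  have hdetd : (!![1, 0; 0, a] : M2 F).det = a := by simp [Matrix.det_fin_two_of]
  have hdetd' : (!![1, 0; 0, a⁻¹] : M2 F).det = a⁻¹ := by simp [Matrix.det_fin_two_of]
  have hdet : (!![1, 0; 0, a] * ((sl2of B : Matrix.SpecialLinearGroup (Fin 2) F) : M2 F) *
      !![1, 0; 0, a⁻¹]).det = 1 := by
    rw [Matrix.det_mul, Matrix.det_mul, hdetd, hdetd', (sl2of B).det_coe, mul_one,
      mul_inv_cancel₀ ha0]
  set S' : Matrix.SpecialLinearGroup (Fin 2) F := ⟨_, hdet⟩ with hS'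
  have hI1 : hb a * phiA (sl2of B) = phiA S' * hb a := hb_phiA a ha0 (sl2of B) S' rfl
  have hprod : sl2of (A * B) = sl2of A * S' := by
    apply Subtype.ext
    rw [Matrix.SpecialLinearGroup.coe_mul, sl2of_val, sl2of_val, hdetAB]
    show _ = ((A : M2 F) * !![1, 0; 0, a⁻¹]) *
      (!![1, 0; 0, a] * ((B : M2 F) * !![1, 0; 0, b⁻¹]) * !![1, 0; 0, a⁻¹])
    have hdd : (!![1, 0; 0, a⁻¹] : M2 F) * !![1, 0; 0, a] = 1 := by
      ext i j
      fin_cases i <;> fin_cases j <;> simp [Matrix.mul_apply, Fin.sum_univ_two, ha0]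
    have hdd2 : (!![1, 0; 0, b⁻¹] : M2 F) * !![1, 0; 0, a⁻¹] = !![1, 0; 0, (a * b)⁻¹] := by
      ext i j
      fin_cases i <;> fin_cases j <;> simp [Matrix.mul_apply, Fin.sum_univ_two, mul_comm]
    calc ((A * B : GL (Fin 2) F) : M2 F) * !![1, 0; 0, (a * b)⁻¹]
        = (A : M2 F) * 1 * (B : M2 F) * (!![1, 0; 0, b⁻¹] * !![1, 0; 0, a⁻¹]) := by
          rw [hdd2, Units.val_mul, Matrix.mul_one]
      _ = _ := by rw [← hdd]; simp only [Matrix.mul_assoc]
  unfold iota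
  rw [hdetAB, hprod, map_mul, ← g2vi2_hb_mul a b ha0 hb0]
  calc phiA (sl2of A) * phiA S' * (hb a * hb b)
      = phiA (sl2of A) * (phiA S' * hb a) * hb b := by simp only [mul_assoc]
    _ = phiA (sl2of A) * (hb a * phiA (sl2of B)) * hb b := by rw [hI1]
    _ = phiA (sl2of A) * hb a * (phiA (sl2of B) * hb b) := by simp only [mul_assoc]

theorem iota_one : iota (1 : GL (Fin 2) F) = 1 := by
  have h1 : sl2of (1 : GL (Fin 2) F) = 1 := by
    apply Subtype.ext
    rw [sl2of_val]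
    ext i j
    fin_cases i <;> fin_cases j <;> simp
  unfold iota
  rw [h1, map_one, one_mul]
  have : ((1 : GL (Fin 2) F) : M2 F).det = 1 := by simp
  rw [this]
  exact g2vi2_hb_one

theorem iota_inv (A : GL (Fin 2) F) : iota A⁻¹ = (iota A)⁻¹ := by
  have h : iota A⁻¹ * iota A = 1 := by rw [← iota_mul, inv_mul_cancel, iota_one]
  exact eq_inv_of_mul_eq_one_left h

end Cfsg.Agent.Lib.Helper19.G2V
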