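import Mathlib
import Cfsg.Agent.Lib.Helper19.SO8.Defs

set_option autoImplicit false

/-!
# Project SO8 (designer helper19), row C1 (helper27): the characteristic polynomial of a symplectic matrix is self-reciprocal
(characteristic 2).
-/

namespace Cfsg.Agent.Lib.Helper19.SO8

open Polynomial Matrix

/-- a square root of `1` is `1` in characteristic 2 -/
theorem so8c1_eq_one_of_sq {F : Type*} [Field F] [CharP F 2] (d : F) (h : d * d = 1) : d = 1 := by
  have h2 : (2 : F) = 0 := CharTwo.two_eq_zero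
  have : (d - 1) * (d - 1) = 0 := by
    have : (d - 1) * (d - 1) = d * d - 2 * d + 1 := by ring
    rw [this, h, h2]; ring_nf
    exact h2
  have := mul_self_eq_zero.mp this
  exact sub_eq_zero.mp this

/-- the determinant of a symplectic matrix is `1` in characteristic 2 -/
theorem so8c1_det {F : Type*} [Field F] [CharP F 2] (m : ℕ)
    (M : Matrix (Fin m ⊕ Fin m) (Fin m ⊕ Fin m) F) (hM : M * J (Fin m) F * Mᵀ = J (Fin m) F) :
    M.det = 1 := by
  have hJ : (J (Fin m) F).det ≠ 0 := by
    intro h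
    have := Matrix.J_det_mul_J_det (l := Fin m) (R := F)
    rw [h, mul_zero] at this
    exact zero_ne_one this
  have h1 := congrArg Matrix.det hM
  rw [Matrix.det_mul, Matrix.det_mul, Matrix.det_transpose] at h1
  apply so8c1_eq_one_of_sq
  have : (M.det * M.det) * (J (Fin m) F).det = 1 * (J (Fin m) F).det := by
    rw [one_mul]; linear_combination h1
  exact mul_right_cancel₀ hJ this

/-- the self-reciprocity of the characteristic polynomial, for a matrix with `M J Mᵀ = J` and `det M = 1` -/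
theorem so8c1_core {F : Type*} [Field F] (m : ℕ)
    (M : Matrix (Fin m ⊕ Fin m) (Fin m ⊕ Fin m) F) (hM : M * J (Fin m) F * Mᵀ = J (Fin m) F)
    (hdet : M.det = 1) : M.charpoly.reverse = M.charpoly := by
  rw [Matrix.reverse_charpoly]
  unfold Matrix.charpolyRev
  set P : Matrix (Fin m ⊕ Fin m) (Fin m ⊕ Fin m) F →+* Matrix (Fin m ⊕ Fin m) (Fin m ⊕ Fin m) F[X] :=
    (C : F →+* F[X]).mapMatrix with hP
  have hPmap : ∀ N : Matrix (Fin m ⊕ Fin m) (Fin m ⊕ Fin m) F, N.map C = P N := fun N => rfl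
  have hJ : (J (Fin m) F).det ≠ 0 := by
    intro h
    have := Matrix.J_det_mul_J_det (l := Fin m) (R := F)
    rw [h, mul_zero] at this
    exact zero_ne_one this
  have hrel : P M * P (J (Fin m) F) * P Mᵀ = P (J (Fin m) F) := by
    rw [← map_mul, ← map_mul, hM]
  have key : (1 - (X : F[X]) • P M) * (P (J (Fin m) F) * P Mᵀ) =
      -(P (J (Fin m) F) * charmatrix Mᵀ) := by
    have h1 : (1 - (X : F[X]) • P M) * (P (J (Fin m) F) * P Mᵀ) =
        P (J (Fin m) F) * P Mᵀ - (X : F[X]) • (P M * P (J (Fin m) F) * P Mᵀ) := by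
      rw [sub_mul, one_mul, Matrix.smul_mul, ← mul_assoc]
    rw [h1, hrel]
    unfold charmatrix
    rw [mul_sub, neg_sub]
    congr 1
    ext i j
    simp [Matrix.mul_apply, Matrix.scalar_apply, Matrix.diagonal_apply, mul_comm]
  have hdetP : ∀ N : Matrix (Fin m ⊕ Fin m) (Fin m ⊕ Fin m) F, (P N).det = C N.det := by
    intro N
    exact (RingHom.map_det (C : F →+* F[X]) N).symm
  have h2 := congrArg Matrix.det key
  rw [Matrix.det_mul, Matrix.det_mul, Matrix.det_neg, Matrix.det_mul, hdetP, hdetP,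
    Matrix.det_transpose, hdet, map_one, mul_one, Fintype.card_sum, Fintype.card_fin] at h2
  have h3 : ((-1 : F[X]) ^ (m + m)) = 1 := by
    rw [← two_mul, pow_mul]; simp
  rw [h3, one_mul] at h2
  have hCJ : (C (J (Fin m) F).det : F[X]) ≠ 0 := by
    rw [Ne, C_eq_zero]; exact hJ
  have h4 : (1 - (X : F[X]) • P M).det = (charmatrix Mᵀ).det := by
    apply mul_left_cancel₀ hCJ
    rw [mul_comm, h2]
  rw [hPmap, h4]
  exact Matrix.charpoly_transpose M

/-- C1 [M] -/
theorem charpoly_reverse {F : Type*} [Field F] [CharP F 2] (m : ℕ) (A : Matrix.symplecticGroup (Fin m) F) :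
    (A : Matrix (Fin m ⊕ Fin m) (Fin m ⊕ Fin m) F).charpoly.reverse =
      (A : Matrix (Fin m ⊕ Fin m) (Fin m ⊕ Fin m) F).charpoly := by
  have hA := SymplecticGroup.mem_iff.mp A.2
  exact so8c1_core m _ hA (so8c1_det m _ hA)

end Cfsg.Agent.Lib.Helper19.SO8
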