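import Mathlib
import Cfsg.Agent.Lib.Helper19.SO8.Defs

set_option autoImplicit false

/-!
# Project SO8, row PEELS (helper27): peeling the full power of a self-reciprocal irreducible factor off a
self-reciprocal polynomial.
-/

namespace Cfsg.Agent.Lib.Helper19.SO8

open Polynomial Cfsg.Agent.Lib.Helper13.OTS

/-- `reverse` commutes with powers over a field. -/
theorem so8peels_reverse_pow {F : Type*} [Field F] (f : F[X]) (n : ℕ) :
    (f ^ n).reverse = f.reverse ^ n := by
  induction n with
  | zero => rw [pow_zero, pow_zero, ← C_1, reverse_C]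
  | succ n ih => rw [pow_succ, reverse_mul_of_domain, ih, pow_succ]

/-- PEELS [M] -/
theorem peel_self {F : Type*} [Field F] (χ f : F[X]) (hχ : χ ≠ 0) (hr : χ.reverse = χ)
    (hf : Irreducible f) (hfr : f.reverse = f) (hdvd : f ∣ χ) :
    ∃ (j : ℕ) (g : F[X]), 1 ≤ j ∧ χ = f ^ j * g ∧ IsCoprime f g ∧ g.reverse = g := by
  obtain ⟨j, g, hndvd, hχg⟩ := WfDvdMonoid.max_power_factor hχ hf
  refine ⟨j, g, ?_, hχg, ?_, ?_⟩
  · by_contra hj
    have hj0 : j = 0 := by omega
    subst hj0
    rw [pow_zero, one_mul] at hχg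
    exact hndvd (hχg ▸ hdvd)
  · exact (hf.coprime_iff_not_dvd).mpr hndvd
  · have h1 : χ.reverse = f ^ j * g.reverse := by
      conv_lhs => rw [hχg]
      rw [reverse_mul_of_domain, so8peels_reverse_pow, hfr]
    rw [hr] at h1
    have h2 : f ^ j * g.reverse = f ^ j * g := by rw [← h1, ← hχg]
    exact mul_left_cancel₀ (pow_ne_zero _ hf.ne_zero) h2

end Cfsg.Agent.Lib.Helper19.SO8
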