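import Mathlib
import Cfsg.Prelude.Def_Characters
import Cfsg.Prelude.Def_Blocks
import Cfsg.Agent.Lib.Helper25.CharLinear
import Cfsg.Agent.Lib.Helper29.LeoOrbit
import Cfsg.Agent.Lib.helper7.BR.Defs
import Cfsg.Agent.S0998
import Cfsg.Agent.S0253

/-!
# Project BT3 (S4501), piece FIN98 : `|G| = 3·r·2^s` (verbatim vs `BT3/Skel`)
-/

set_option autoImplicit false
set_option linter.unusedVariables false
set_option linter.unusedSectionVars false

namespace Cfsg.Agent.Lib.Helper13.BT3

open Classical
open scoped ComplexConjugate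
open Cfsg.Agent.Lib.Helper25 Cfsg.Agent.Lib.Helper29
open Cfsg.Agent.Lib.helper7.BR

universe u

/-- the centre is carried to the centre by an isomorphism of groups -/
theorem bt3fin98_map_center {A B : Type*} [Group A] [Group B] (e : A ≃* B) :
    (Subgroup.center A).map e.toMonoidHom = Subgroup.center B := by
  ext x
  rw [Subgroup.mem_map, Subgroup.mem_center_iff]
  constructor
  · rintro ⟨a, ha, rfl⟩ g
    rw [Subgroup.mem_center_iff] at ha
    obtain ⟨g', rfl⟩ := e.surjective g
    show e g' * e a = e a * e g'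
    rw [← map_mul, ← map_mul, ha g']
  · intro hx
    refine ⟨e.symm x, ?_, by simp⟩
    rw [Subgroup.mem_center_iff]
    intro g
    apply e.injective
    rw [map_mul, map_mul, e.apply_symm_apply]
    exact hx (e g)

/-- special linear groups over isomorphic rings -/
noncomputable def bt3fin98SlCongr {n : Type*} [Fintype n] [DecidableEq n] {K K' : Type*}
    [CommRing K] [CommRing K'] (e : K ≃+* K') :
    Matrix.SpecialLinearGroup n K ≃* Matrix.SpecialLinearGroup n K' where
  toFun := Matrix.SpecialLinearGroup.map e.toRingHom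
  invFun := Matrix.SpecialLinearGroup.map e.symm.toRingHom
  left_inv := by
    intro A
    ext i j
    show e.symm (e ((A : Matrix n n K) i j)) = _
    simp
  right_inv := by
    intro A
    ext i j
    show e (e.symm ((A : Matrix n n K') i j)) = _
    simp
  map_mul' := fun A B => map_mul _ A B

/-- projective special linear groups over isomorphic rings -/
noncomputable def bt3fin98PslCongr {n : Type*} [Fintype n] [DecidableEq n] {K K' : Type*}
    [CommRing K] [CommRing K'] (e : K ≃+* K') :
    Matrix.ProjectiveSpecialLinearGroup n K ≃* Matrix.ProjectiveSpecialLinearGroup n K' :=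
  QuotientGroup.congr _ _ (bt3fin98SlCongr e) (bt3fin98_map_center (bt3fin98SlCongr e))

variable {G : Type u} [Group G] [Fintype G]

/-- FIN98 : `|G| = 3·r·2^s` (S0998 = `Cfsg.Agent.S0998.result` with `p := 3`, `q := 2`; `PSL₂(F) ≅ A₅` for `|F| = 5` is
`Cfsg.Agent.S0253.result`; for `|F| = 7` transport along `ZMod.ringEquivOfPrime`) -/
theorem finish_98 [IsSimpleGroup G] (hnc : ¬ ∀ x y : G, x * y = y * x) (r s : ℕ) (hr : r.Prime)
    (hr2 : r ≠ 2) (hr3 : r ≠ 3) (hcard : Nat.card G = 3 * r * 2 ^ s) :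
    Nonempty (G ≃* alternatingGroup (Fin 5)) ∨
      Nonempty (G ≃* Matrix.ProjectiveSpecialLinearGroup (Fin 2) (ZMod 7)) := by
  have hncyc : ¬ IsCyclic G := by
    intro hc
    apply hnc
    intro x y
    obtain ⟨g, hg⟩ := hc.exists_generator
    obtain ⟨a, rfl⟩ := Subgroup.mem_zpowers_iff.mp (hg x)
    obtain ⟨b, rfl⟩ := Subgroup.mem_zpowers_iff.mp (hg y)
    rw [← zpow_add, ← zpow_add, add_comm]
  rcases Cfsg.Agent.S0998.result hncyc 3 2 r s Nat.prime_three Nat.prime_two hr (by norm_num)
    (Ne.symm hr3) (Ne.symm hr2) hcard with ⟨F, _, _, hF, ⟨e⟩⟩ | ⟨F, _, _, hF, ⟨e⟩⟩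
  · left
    obtain ⟨e5⟩ := Cfsg.Agent.S0253.result hF
    exact ⟨e.trans e5⟩
  · right
    haveI : Fact (Nat.Prime 7) := ⟨by norm_num⟩
    have hc : Fintype.card F = Fintype.card (ZMod 7) := by rw [hF, ZMod.card]
    exact ⟨e.trans (bt3fin98PslCongr (FiniteField.ringEquivOfCardEq hc))⟩

end Cfsg.Agent.Lib.Helper13.BT3
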