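import Cfsg.Agent.Lib.helper15.SLM.Defs
import Cfsg.Agent.Lib.Helper24.SLMA4
import Cfsg.Agent.Lib.Helper25.SLMA5
import Cfsg.Agent.Lib.Helper1.SLMA7

/-! Project SLM (S2332), piece A8 : the thin step. -/

set_option autoImplicit false
set_option linter.unusedSectionVars false
set_option linter.unusedVariables false

namespace Cfsg.Agent.Lib.helper15.SLM

open Matrix

section A

variable {F : Type*} [Field F] [Fintype F] [DecidableEq F]
  {κ : Type*} [Fintype κ] [DecidableEq κ]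
  {H : Type*} [Group H] {W : Type*} [AddCommGroup W] [Module ℂ W] [FiniteDimensional ℂ W]

/-- in the thin case every nonzero Fourier idempotent has rank one -/
theorem h27_rank_one (χ₀ : AddChar F ℂ) (hχ₀ : χ₀.IsPrimitive)
    (σ : Representation ℂ H W) (ξ : (κ → F) → H) (hξ : ∀ u u', ξ (u + u') = ξ u * ξ u')
    (c : ℂ) (hc : ∀ u, u ≠ 0 → σ.character (ξ u) = c)
    (hthin : (Module.finrank ℂ W : ℂ) - c = (Fintype.card F : ℂ) ^ Fintype.card κ)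
    (w : κ → F) (hw : w ≠ 0) :
    Module.finrank ℂ (LinearMap.range (eIdem χ₀ σ ξ w)) = 1 := by
  have h1 := (mult_of_const χ₀ hχ₀ σ ξ hξ c hc).1 w hw
  rw [hthin] at h1
  have hq : ((Fintype.card F : ℂ) ^ Fintype.card κ) ≠ 0 := by
    apply pow_ne_zero
    exact_mod_cast Fintype.card_ne_zero
  have h2 : (Module.finrank ℂ (LinearMap.range (eIdem χ₀ σ ξ w)) : ℂ) = 1 := by
    have := mul_right_cancel₀ hq (h1.trans (one_mul _).symm)
    exact this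
  exact_mod_cast h2

/-- A8 : the thin step -/
theorem thin_step (χ₀ : AddChar F ℂ) (hχ₀ : χ₀.IsPrimitive)
    (σ : Representation ℂ H W) (ξ : (κ → F) → H) (hξ : ∀ u u', ξ (u + u') = ξ u * ξ u')
    (c : ℂ) (hc : ∀ u, u ≠ 0 → σ.character (ξ u) = c)
    (hthin : (Module.finrank ℂ W : ℂ) - c = (Fintype.card F : ℂ) ^ Fintype.card κ)
    (t : H) (M : Matrix κ κ F) (hM : IsUnit M.det) (ht : ∀ u, t * ξ u = ξ (M *ᵥ u) * t)
    (hE : ∀ w : κ → F, w ≠ 0 → w ᵥ* M = w →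
      ∃ (s₁ s₂ : H) (M₁ M₂ : Matrix κ κ F), IsUnit M₁.det ∧ IsUnit M₂.det ∧
        (∀ u, s₁ * ξ u = ξ (M₁ *ᵥ u) * s₁) ∧ (∀ u, s₂ * ξ u = ξ (M₂ *ᵥ u) * s₂) ∧
        w ᵥ* M₁ = w ∧ w ᵥ* M₂ = w ∧ t = s₁ * s₂ * s₁⁻¹ * s₂⁻¹) :
    σ.character t = LinearMap.trace ℂ W (σ t * eIdem χ₀ σ ξ 0) +
      ((Finset.univ.filter (fun w : κ → F => w ≠ 0 ∧ w ᵥ* M = w)).card : ℂ) := by
  classical
  rw [character_eq_sum χ₀ hχ₀ σ ξ hξ t]
  -- the value of each term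
  have hterm : ∀ w : κ → F, w ≠ 0 →
      LinearMap.trace ℂ W (σ t * eIdem χ₀ σ ξ w) = if w ᵥ* M = w then 1 else 0 := by
    intro w hw
    by_cases hfix : w ᵥ* M = w
    · rw [if_pos hfix]
      obtain ⟨s₁, s₂, M₁, M₂, hM₁, hM₂, hs₁, hs₂, hw₁, hw₂, rfl⟩ := hE w hw hfix
      have he : eIdem χ₀ σ ξ w * eIdem χ₀ σ ξ w = eIdem χ₀ σ ξ w := by
        rw [eIdem_mul_self χ₀ hχ₀ σ ξ hξ w w, if_pos rfl]
      have hrk := h27_rank_one χ₀ hχ₀ σ ξ hξ c hc hthin w hw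
      have h₁ : σ s₁ * eIdem χ₀ σ ξ w = eIdem χ₀ σ ξ w * σ s₁ := by
        have := eIdem_conj χ₀ σ ξ s₁ M₁ hM₁ hs₁ w
        rwa [hw₁] at this
      have h₂ : σ s₂ * eIdem χ₀ σ ξ w = eIdem χ₀ σ ξ w * σ s₂ := by
        have := eIdem_conj χ₀ σ ξ s₂ M₂ hM₂ hs₂ w
        rwa [hw₂] at this
      exact trace_comm_mul_idem σ _ he hrk s₁ s₂ h₁ h₂
    · rw [if_neg hfix]
      exact trace_mul_eIdem_eq_zero χ₀ hχ₀ σ ξ hξ t M hM ht w hfix
  rw [← Finset.add_sum_erase Finset.univ _ (Finset.mem_univ (0 : κ → F))]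
  congr 1
  have h1 : ∑ w ∈ Finset.univ.erase (0 : κ → F), LinearMap.trace ℂ W (σ t * eIdem χ₀ σ ξ w) =
      ∑ w ∈ Finset.univ.erase (0 : κ → F), (if w ᵥ* M = w then (1 : ℂ) else 0) := by
    refine Finset.sum_congr rfl fun w hw => ?_
    exact hterm w (Finset.ne_of_mem_erase hw)
  rw [h1, ← Finset.sum_filter, Finset.sum_const, nsmul_eq_mul, mul_one]
  congr 2
  ext w
  simp only [Finset.mem_filter, Finset.mem_erase, Finset.mem_univ, and_true, true_and]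

end A

end Cfsg.Agent.Lib.helper15.SLM
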