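import Cfsg.Agent.Lib.helper15.SLM.Defs
import Cfsg.Agent.Lib.Helper10.SLMB1
import Cfsg.Agent.Lib.Helper10.SLMB3
import Cfsg.Agent.Lib.Helper20.SLMB2

/-! Project SLM (S2332), piece B4 : combination of the commutator expressions. -/

set_option autoImplicit false
set_option linter.unusedSectionVars false
set_option linter.unusedVariables false

namespace Cfsg.Agent.Lib.helper15.SLM

open Matrix

section B

variable {F : Type*} [Field F] [Fintype F] [DecidableEq F]
  {κ : Type*} [Fintype κ] [DecidableEq κ]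

/-- B4 (E0) : combination -/
theorem comm_expr_SL (hκ : 2 ≤ Fintype.card κ)
    (hex : (Fintype.card κ + 1, Fintype.card F) ≠ (3, 2) ∧
      (Fintype.card κ + 1, Fintype.card F) ≠ (3, 4) ∧
      (Fintype.card κ + 1, Fintype.card F) ≠ (4, 2) ∧
      (Fintype.card κ + 1, Fintype.card F) ≠ (4, 3))
    (y η w : κ → F) (hy : y ≠ 0) (hη : η ≠ 0) (hw : w ≠ 0)
    (h0 : η ⬝ᵥ y = 0) (hw0 : η ⬝ᵥ w = 0) :
    ∃ B₁ B₂ : Matrix κ κ F, B₁.det ≠ 0 ∧ B₂.det ≠ 0 ∧
      B₁ *ᵥ w = (B₁.det)⁻¹ • w ∧ B₂ *ᵥ w = (B₂.det)⁻¹ • w ∧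
      tvMat y η * B₂ * B₁ = B₁ * B₂ := by
  obtain ⟨hex1, hex2, hex3, hex4⟩ := hex
  have hq1 : 1 < Fintype.card F := Fintype.one_lt_card
  -- the unipotent case, packaged
  have hunip : (4 ≤ Fintype.card κ ∨ (3 ≤ Fintype.card κ ∧ ∃ a : F, w = a • y)) →
      ∃ B₁ B₂ : Matrix κ κ F, B₁.det ≠ 0 ∧ B₂.det ≠ 0 ∧
        B₁ *ᵥ w = (B₁.det)⁻¹ • w ∧ B₂ *ᵥ w = (B₂.det)⁻¹ • w ∧
        tvMat y η * B₂ * B₁ = B₁ * B₂ := by
    intro hdim
    obtain ⟨B₁, B₂, hd1, hd2, hw1, hw2, hcomm⟩ := comm_expr_unip y η w hy hη hw h0 hw0 hdim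
    refine ⟨B₁, B₂, by rw [hd1]; exact one_ne_zero, by rw [hd2]; exact one_ne_zero, ?_, ?_, hcomm⟩
    · rw [hd1, inv_one, one_smul, hw1]
    · rw [hd2, inv_one, one_smul, hw2]
  rcases Nat.lt_or_ge (Fintype.card κ) 4 with hlt | hge
  · -- card κ ∈ {2, 3}
    have h23 : Fintype.card κ = 2 ∨ Fintype.card κ = 3 := by omega
    rcases h23 with h2 | h3
    · -- two dimensions
      have hq2 : Fintype.card F ≠ 2 := by
        intro h
        apply hex1
        rw [h2, h]
      have hq4 : Fintype.card F ≠ 4 := by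
        intro h
        apply hex2
        rw [h2, h]
      exact comm_expr_two h2 hq2 hq4 y η w hy hη hw h0 hw0
    · -- three dimensions
      by_cases hyw : ∃ a : F, w = a • y
      · exact hunip (Or.inr ⟨by omega, hyw⟩)
      · have hq2 : Fintype.card F ≠ 2 := by
          intro h
          apply hex3
          rw [h3, h]
        have hq3 : Fintype.card F ≠ 3 := by
          intro h
          apply hex4
          rw [h3, h]
        have hq : 3 < Fintype.card F := by omega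
        exact comm_expr_three h3 hq y η w hy hη hw h0 hw0 hyw
  · exact hunip (Or.inl hge)

end B

end Cfsg.Agent.Lib.helper15.SLM
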