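import Mathlib
import Cfsg.Agent.Lib.helper14.SQD.Defs
import Cfsg.Agent.Lib.Helper28.SQDT1

/-!
# Project SQD (designer helper14), row T3 (helper27): the number of upper unitriangular matrices

`uut_card` (T3a) and `card_uutGL` (T3b), verbatim.  Cites the landed T1c (`uut_det`) and T2 (`mem_uutGL`) of helper28.
-/

set_option autoImplicit false

namespace Cfsg.Agent.Lib.helper14.SQD

open Cfsg Cfsg.Lie Matrix

universe u v

/-- the number of pairs `i < j` in `Fin n` -/
theorem sqdt3_card_pairs (n : ℕ) :
    Fintype.card {p : Fin n × Fin n // p.1 < p.2} = n * (n - 1) / 2 := by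
  have h : ∀ j : Fin n, (∑ i : Fin n, if i < j then 1 else 0) = (j : ℕ) := by
    intro j
    rw [← Finset.card_filter]
    have e : Finset.univ.filter (fun i : Fin n => i < j) = Finset.Iio j := by
      ext i
      simp
    rw [e, Fin.card_Iio]
  rw [Fintype.card_subtype, Finset.card_filter, Fintype.sum_prod_type_right]
  simp only [h]
  rw [Fin.sum_univ_eq_sum_range (fun i => i) n, Finset.sum_range_id]

/-- the matrix with `1` on the diagonal, the given entries above and `0` below -/
def sqdt3_mk {n : ℕ} {R : Type u} [CommRing R] (f : {p : Fin n × Fin n // p.1 < p.2} → R) :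
    Matrix (Fin n) (Fin n) R :=
  fun i j => if h : i < j then f ⟨(i, j), h⟩ else if i = j then 1 else 0

theorem sqdt3_mk_uut {n : ℕ} {R : Type u} [CommRing R] (f : {p : Fin n × Fin n // p.1 < p.2} → R) :
    IsUUT (sqdt3_mk f) := by
  refine ⟨?_, ?_⟩
  · intro i j hij
    have hij' : j < i := hij
    unfold sqdt3_mk
    rw [dif_neg (not_lt.mpr hij'.le), if_neg hij'.ne']
  · intro i
    unfold sqdt3_mk
    rw [dif_neg (lt_irrefl i), if_pos rfl]

/-- the bijection between upper unitriangular matrices and families of entries above the diagonal -/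
def sqdt3_equiv (n : ℕ) (R : Type u) [CommRing R] :
    {A : Matrix (Fin n) (Fin n) R // IsUUT A} ≃ ({p : Fin n × Fin n // p.1 < p.2} → R) where
  toFun A := fun p => A.1 p.1.1 p.1.2
  invFun f := ⟨sqdt3_mk f, sqdt3_mk_uut f⟩
  left_inv := by
    rintro ⟨A, hA⟩
    apply Subtype.ext
    ext i j
    show sqdt3_mk (fun p : {p : Fin n × Fin n // p.1 < p.2} => A p.1.1 p.1.2) i j = A i j
    unfold sqdt3_mk
    by_cases h : i < j
    · rw [dif_pos h]
    · rw [dif_neg h]
      by_cases h' : i = j
      · rw [if_pos h', h', hA.2]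
      · rw [if_neg h']
        have hji : j < i := lt_of_le_of_ne (not_lt.mp h) (Ne.symm h')
        exact (hA.1 hji).symm
  right_inv := by
    intro f
    funext p
    show sqdt3_mk f p.1.1 p.1.2 = f p
    unfold sqdt3_mk
    rw [dif_pos p.2]

/-- T3a [M]. `A ↦ (fun p : {p : Fin n × Fin n // p.1 < p.2} => A p.1.1 p.1.2)` is a bijection onto all functions
(inverse: `1` on the diagonal, the function above, `0` below); the number of pairs `i < j` is `n * (n - 1) / 2`
(`Finset.sum_range_id_mul_two`, or induction on `n`). -/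
theorem uut_card {F : Type u} [Field F] [Fintype F] (n : ℕ) :
    Nat.card {A : Matrix (Fin n) (Fin n) F // IsUUT A} = Fintype.card F ^ (n * (n - 1) / 2) := by
  classical
  rw [Nat.card_congr (sqdt3_equiv n F), Nat.card_eq_fintype_card, Fintype.card_fun,
    sqdt3_card_pairs]

/-- the bijection `uutGL n R ≃ {A // IsUUT A}` -/
noncomputable def sqdt3_equivGL (n : ℕ) (R : Type u) [CommRing R] :
    uutGL n R ≃ {A : Matrix (Fin n) (Fin n) R // IsUUT A} where
  toFun g := ⟨((g : GL (Fin n) R) : Matrix (Fin n) (Fin n) R), (mem_uutGL g.1).1 g.2⟩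
  invFun A :=
    ⟨Matrix.GeneralLinearGroup.mk'' A.1 (by rw [uut_det A.2]; exact isUnit_one),
      (mem_uutGL _).2 A.2⟩
  left_inv := by
    rintro ⟨g, hg⟩
    apply Subtype.ext
    apply Units.ext
    rfl
  right_inv := by
    rintro ⟨A, hA⟩
    rfl

/-- T3b [E-M]. T2, T1c, T3a: `g ↦ ⟨↑g, _⟩` is a bijection `uutGL n F ≃ {A // IsUUT A}` (an `IsUUT` matrix has
determinant 1, so it is a unit). -/
theorem card_uutGL {F : Type u} [Field F] [Fintype F] (n : ℕ) :
    Nat.card (uutGL n F) = Fintype.card F ^ (n * (n - 1) / 2) := by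
  rw [Nat.card_congr (sqdt3_equivGL n F), uut_card]

end Cfsg.Agent.Lib.helper14.SQD
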