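import Cfsg.Agent.Lib.Helper21.TOO.LDefs
import Cfsg.Agent.Lib.Helper28.TOOPERP

/-!
# Project TOO, LOCAL block, row LQ7 (pure_shape): the shape of an isometry in `Q_{A ⊗ w}` with a pure class.
-/

set_option autoImplicit false
set_option linter.unusedSectionVars false
set_option linter.unusedVariables false

namespace Cfsg.Agent.Lib.Helper28.TOO

open Matrix
open scoped Kronecker
open Cfsg.Agent.Lib.helper7.TP Cfsg.Agent.Lib.Helper21.TS

variable {ι : Type*} [Fintype ι] [DecidableEq ι] {a b : ℕ} {F : Type*} [Field F]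
  {J1 : Matrix (Fin a) (Fin a) F} {J2 : Matrix (Fin b) (Fin b) F}
  {M : Subgroup (Matrix.GeneralLinearGroup (Fin a × Fin b) F)}

theorem toolq7_dot_ten (v : Fin a × Fin b → F) (p : Fin a → F) (q : Fin b → F) :
    v ⬝ᵥ ten p q = ctr q v ⬝ᵥ p := by
  simp only [dotProduct, ten, ctr, Fintype.sum_prod_type, Finset.sum_mul]
  apply Finset.sum_congr rfl
  intro i _
  apply Finset.sum_congr rfl
  intro j _
  ring

/-- `f (v, x ⊗ n) = f₁ (ctr (J2 n) v, x)`. -/
theorem toolq7_bf_ten_right (J1 : Matrix (Fin a) (Fin a) F) (J2 : Matrix (Fin b) (Fin b) F)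
    (v : Fin a × Fin b → F) (x : Fin a → F) (n : Fin b → F) :
    bf (JV J1 J2) v (ten x n) = bf J1 (ctr (J2 *ᵥ n) v) x := by
  simp only [bf, JV]
  rw [kron_mulVec_ten, toolq7_dot_ten]

/-- a vector perpendicular to `w^⊥` is a multiple of `w`. -/
theorem toolq7_row_span {J : Matrix ι ι F} (hJ : Jᵀ = J) (hdet : J.det ≠ 0) (w r : ι → F)
    (h : ∀ n : ι → F, bf J w n = 0 → bf J r n = 0) : ∃ c : F, r = c • w := by
  have hmem : r ∈ perp J (perp J (Submodule.span F {w})) := by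
    rw [mem_perp]
    intro s hs
    rw [mem_perp] at hs
    apply h
    rw [bf_symm hJ]
    exact hs w (Submodule.subset_span rfl)
  rw [tooperp_perp_perp hJ hdet] at hmem
  obtain ⟨c, hc⟩ := Submodule.mem_span_singleton.mp hmem
  exact ⟨c, hc.symm⟩

/-- a vector of `V` all of whose contractions with `J2 n`, `n ⊥ w`, vanish lies in `A ⊗ w`. -/
theorem toolq7_in_line (hJ2 : J2ᵀ = J2) (hdet2 : J2.det ≠ 0) {w φ : Fin b → F} (hφ : φ ⬝ᵥ w = 1)
    (R : Fin a × Fin b → F) (h : ∀ n : Fin b → F, bf J2 w n = 0 → ctr (J2 *ᵥ n) R = 0) :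
    R = ten (ctr φ R) w := by
  funext p
  obtain ⟨i, j⟩ := p
  have hr : ∀ n : Fin b → F, bf J2 w n = 0 → bf J2 (fun j => R (i, j)) n = 0 := by
    intro n hn
    have := congrFun (h n hn) i
    simp only [ctr, Pi.zero_apply] at this
    simp only [bf, dotProduct]
    exact this
  obtain ⟨c, hc⟩ := toolq7_row_span hJ2 hdet2 w (fun j => R (i, j)) hr
  have hR : ∀ j, R (i, j) = c * w j := by
    intro j
    have := congrFun hc j
    simpa using this
  have hctr : ctr φ R i = c := by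
    simp only [ctr]
    have : ∑ j, R (i, j) * φ j = c * (φ ⬝ᵥ w) := by
      simp only [dotProduct, Finset.mul_sum]
      apply Finset.sum_congr rfl
      intro j _
      rw [hR j]
      ring
    rw [this, hφ, mul_one]
  simp only [ten]
  rw [hctr, hR j]

theorem toolq7_PureM_mulVec_ten (J2 : Matrix (Fin b) (Fin b) F) (θ θs κ : Matrix (Fin a) (Fin a) F)
    (w w₁ : Fin b → F) (x : Fin a → F) (y : Fin b → F) :
    PureM J2 θ θs κ w w₁ *ᵥ ten x y = ten x y + bf J2 w₁ y • ten (θ *ᵥ x) w - bf J2 w y • ten (θs *ᵥ x) w₁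
      + bf J2 w y • ten (κ *ᵥ x) w := by
  rw [PureM, Matrix.add_mulVec, Matrix.sub_mulVec, Matrix.add_mulVec, Matrix.one_mulVec, kron_mulVec_ten,
    kron_mulVec_ten, kron_mulVec_ten, opm_mulVec, opm_mulVec, opm_mulVec, ten_smul_right, ten_smul_right,
    ten_smul_right]

theorem toolq7_bf_neg_mat (J : Matrix ι ι F) (x y : ι → F) : bf (-J) x y = - bf J x y := by
  simp only [bf, Matrix.neg_mulVec, dotProduct_neg]

/-- LQ7 (L2') [M-L]. the shape of an isometry in `Q` with a pure class. -/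
theorem pure_shape (C : OCtx J1 J2) {g : Matrix.GeneralLinearGroup (Fin a × Fin b) F}
    (hg : g ∈ OV J1 J2) {w w₁ φ : Fin b → F} (hw0 : w ≠ 0) (hw : bf J2 w w = 0) (hφ : φ ⬝ᵥ w = 1)
    (hQ : InQ J2 (g : Matrix (Fin a × Fin b) (Fin a × Fin b) F) w)
    (hw₁ : bf J2 w₁ w₁ = 0) (hww₁ : bf J2 w w₁ = 0)
    (θ θs : Matrix (Fin a) (Fin a) F) (hθs : θsᵀ * J1 = J1 * θ)
    (hcl : ∀ y : Fin b → F, bf J2 w y = 0 →
      Zc (g : Matrix (Fin a × Fin b) (Fin a × Fin b) F) φ y = bf J2 w₁ y • θ) :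
    ∃ κ : Matrix (Fin a) (Fin a) F, SkewAdj J1 κ ∧
      (g : Matrix (Fin a × Fin b) (Fin a × Fin b) F) = PureM J2 θ θs κ w w₁ := by
  have hs₁ := bf_symm C.sym1
  have hs₂ := bf_symm C.sym2
  have hiso := (mem_Iso_iff_bf (JV J1 J2) g).mp hg
  have hadj : ∀ x x', bf J1 (θs *ᵥ x) x' = bf J1 x (θ *ᵥ x') := by
    intro x x'
    rw [bf_mulVec_left, bf_mulVec_right, hθs]
  -- a partner of `w`
  obtain ⟨ws, hwws⟩ : ∃ ws : Fin b → F, bf J2 w ws = 1 := by
    obtain ⟨y, hy⟩ := bf_nondeg C.det2 hw0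
    exact ⟨(bf J2 w y)⁻¹ • y, by rw [bf_smul_right, inv_mul_cancel₀ hy]⟩
  have hwsw : bf J2 ws w = 1 := by rw [hs₂]; exact hwws
  have hw₁w : bf J2 w₁ w = 0 := by rw [hs₂]; exact hww₁
  -- the action on `x ⊗ y`, `y ⊥ w`
  have hgy : ∀ y : Fin b → F, bf J2 w y = 0 → ∀ x : Fin a → F,
      (g : Matrix (Fin a × Fin b) (Fin a × Fin b) F) *ᵥ ten x y = ten x y + bf J2 w₁ y • ten (θ *ᵥ x) w := by
    intro y hy x
    rw [Zc_spec hQ hφ hy, hcl y hy, Matrix.smul_mulVec, ten_smul_left]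
  set c := bf J2 w₁ ws with hc
  -- the remainder
  have hR0 : ∀ (x x' : Fin a → F) (n : Fin b → F), bf J2 w n = 0 →
      bf (JV J1 J2) ((g : Matrix (Fin a × Fin b) (Fin a × Fin b) F) *ᵥ ten x ws - ten x ws + ten (θs *ᵥ x) w₁)
        (ten x' n) = 0 := by
    intro x x' n hn
    have e := hiso (ten x ws) (ten x' n)
    rw [hgy n hn, bf_add_right, bf_smul_right] at e
    have e2 := hiso (ten x ws) (ten (θ *ᵥ x') w)
    rw [hQ.1] at e2
    rw [e2, bf_JV_ten, bf_JV_ten, hwsw] at e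
    rw [bf_add_left, bf_sub_left, bf_JV_ten, bf_JV_ten, hadj]
    linear_combination e
  have hR1 : ∀ (x : Fin a → F),
      (g : Matrix (Fin a × Fin b) (Fin a × Fin b) F) *ᵥ ten x ws - ten x ws + ten (θs *ᵥ x) w₁ =
      ten (ctr φ ((g : Matrix (Fin a × Fin b) (Fin a × Fin b) F) *ᵥ ten x ws - ten x ws + ten (θs *ᵥ x) w₁)) w := by
    intro x
    apply toolq7_in_line C.sym2 C.det2 hφ
    intro n hn
    by_contra hne
    obtain ⟨x', hx'⟩ := bf_nondeg C.det1 hne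
    apply hx'
    rw [← toolq7_bf_ten_right]
    exact hR0 x x' n hn
  set κ' : Matrix (Fin a) (Fin a) F :=
    Zc (g : Matrix (Fin a × Fin b) (Fin a × Fin b) F) φ ws + (φ ⬝ᵥ w₁) • θs with hκ'
  have hctr : ∀ x : Fin a → F,
      ctr φ ((g : Matrix (Fin a × Fin b) (Fin a × Fin b) F) *ᵥ ten x ws - ten x ws + ten (θs *ᵥ x) w₁) = κ' *ᵥ x := by
    intro x
    rw [ctr_add, ← Zc_mulVec, ctr_ten, hκ', Matrix.add_mulVec, Matrix.smul_mulVec]
  have hgws : ∀ x : Fin a → F, (g : Matrix (Fin a × Fin b) (Fin a × Fin b) F) *ᵥ ten x ws =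
      ten x ws - ten (θs *ᵥ x) w₁ + ten (κ' *ᵥ x) w := by
    intro x
    have := hR1 x
    rw [hctr] at this
    rw [← this]
    abel
  refine ⟨κ' - c • θ, ?_, ?_⟩
  · -- skew-adjoint
    have hκ'sk : ∀ x x', bf J1 x (κ' *ᵥ x') + bf J1 (κ' *ᵥ x) x' =
        c * (bf J1 x (θs *ᵥ x') + bf J1 (θs *ᵥ x) x') := by
      intro x x'
      have e := hiso (ten x ws) (ten x' ws)
      rw [hgws, hgws] at e
      simp only [bf_add_left, bf_add_right, bf_sub_left, bf_sub_right, bf_JV_ten, hw, hw₁, hww₁, hw₁w,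
        hwws, hwsw, mul_zero, mul_one, sub_zero, add_zero, ← hc, hs₂ ws w₁] at e
      linear_combination e
    unfold SkewAdj
    apply bf_ext
    intro x y
    rw [← bf_mulVec_left, toolq7_bf_neg_mat, ← bf_mulVec_right]
    have h1 := hκ'sk x y
    rw [Matrix.sub_mulVec, Matrix.sub_mulVec, Matrix.smul_mulVec, Matrix.smul_mulVec, bf_sub_left, bf_sub_right,
      bf_smul_left, bf_smul_right]
    have h2 : bf J1 x (θs *ᵥ y) = bf J1 (θ *ᵥ x) y := by
      rw [hs₁ x (θs *ᵥ y), hadj, hs₁]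
    rw [h2, hadj] at h1
    linear_combination h1
  · apply Cfsg.Agent.Lib.helper7.TO.mat_ext_ten
    intro x y
    obtain ⟨y₀, t, hy₀, rfl⟩ : ∃ (y₀ : Fin b → F) (t : F), bf J2 w y₀ = 0 ∧ y = y₀ + t • ws := by
      refine ⟨y - bf J2 w y • ws, bf J2 w y, ?_, ?_⟩
      · rw [bf_sub_right, bf_smul_right, hwws, mul_one, sub_self]
      · abel
    rw [toolq7_PureM_mulVec_ten, ten_add_right, ten_smul_right, Matrix.mulVec_add, Matrix.mulVec_smul, hgy y₀ hy₀,
      hgws]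
    have e1 : bf J2 w (y₀ + t • ws) = t := by
      rw [bf_add_right, bf_smul_right, hy₀, hwws]
      ring
    have e2 : bf J2 w₁ (y₀ + t • ws) = bf J2 w₁ y₀ + t * c := by
      rw [bf_add_right, bf_smul_right]
    rw [e1, e2, Matrix.sub_mulVec, Matrix.smul_mulVec]
    have e3 : ten (κ' *ᵥ x - c • θ *ᵥ x) w = ten (κ' *ᵥ x) w - c • ten (θ *ᵥ x) w := by
      funext p
      simp only [ten, Pi.sub_apply, Pi.smul_apply, smul_eq_mul]
      ring
    rw [e3]
    module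

end Cfsg.Agent.Lib.Helper28.TOO
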