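import Cfsg.Agent.Lib.helper7.TP.Defs

/-!
# Project TP (S5637, leader helper7), piece FINAL : `final_lin` (helper27)

`S = g (A ⊗ w₀)` has dimension `≤ a` and, by the hypothesis, contains a non-zero pure tensor `u ⊗ w_u` for EVERY `u`
(the map `w ↦ ctr ψ₀ (g⁻¹ (u ⊗ w))`, `F^b → F^a`, has a kernel because `a < b`).  The `a` tensors `e_i ⊗ w_i` are independent,
so they span `S`; applying this to `e_i + e_k` shows that all `w_i` are parallel: `S = A ⊗ w'`.
-/

set_option autoImplicit false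
set_option linter.unusedVariables false

namespace Cfsg.Agent.Lib.helper7.TP

open Matrix
open scoped Kronecker

variable {a b : ℕ} {F : Type*} [Field F]

/-- evaluation of `∑ i, c i • ten (e i) (w i)` -/
theorem tpfinal_eval (c : Fin a → F) (w : Fin a → (Fin b → F)) (k : Fin a) (j : Fin b) :
    (∑ i, c i • ten (Pi.single i (1 : F)) (w i)) (k, j) = c k * w k j := by
  rw [Finset.sum_apply]
  rw [Finset.sum_eq_single k]
  · simp [ten]
  · intro i _ hik
    simp [ten, Ne.symm hik]
  · intro hk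
    exact absurd (Finset.mem_univ k) hk

/-- the tensors `e_i ⊗ w_i` (`w_i ≠ 0`) are linearly independent -/
theorem tpfinal_li (w : Fin a → (Fin b → F)) (hw : ∀ i, w i ≠ 0) :
    LinearIndependent F (fun i : Fin a => ten (Pi.single i (1 : F)) (w i)) := by
  rw [Fintype.linearIndependent_iff]
  intro c hc k
  by_contra hk
  apply hw k
  funext j
  have := congrFun hc (k, j)
  rw [tpfinal_eval] at this
  simpa [hk] using this

/-- for every `u` some non-zero `w` has `ctr ψ₀ (g⁻¹ (u ⊗ w)) = 0` (`a < b`) -/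
theorem tpfinal_ker (hab : a < b) (G : Matrix (Fin a × Fin b) (Fin a × Fin b) F) (ψ₀ : Fin b → F)
    (u : Fin a → F) : ∃ w : Fin b → F, w ≠ 0 ∧ ctr ψ₀ (G *ᵥ ten u w) = 0 := by
  let L : (Fin b → F) →ₗ[F] (Fin a → F) :=
    { toFun := fun w => ctr ψ₀ (G *ᵥ ten u w)
      map_add' := by
        intro w w'
        rw [ten_add_right, Matrix.mulVec_add, ctr_add]
      map_smul' := by
        intro c w
        rw [ten_smul_right, Matrix.mulVec_smul, ctr_smul]
        rfl }
  have hlt : Module.finrank F (Fin a → F) < Module.finrank F (Fin b → F) := by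
    rw [Module.finrank_fin_fun, Module.finrank_fin_fun]
    exact hab
  have hne : LinearMap.ker L ≠ ⊥ := LinearMap.ker_ne_bot_of_finrank_lt hlt
  obtain ⟨w, hw, hw0⟩ := (Submodule.ne_bot_iff _).mp hne
  exact ⟨w, hw0, LinearMap.mem_ker.mp hw⟩

/-- FINAL: pure linear algebra.  If every pure tensor of `K = g (A ⊗ ker ψ₀)` lies in
`S = g (A ⊗ w₀)`, then (`a < b`) `S` is a `B`-line. -/
theorem final_lin (ha : 1 ≤ a) (hab : a < b)
    (g : Matrix.GeneralLinearGroup (Fin a × Fin b) F)
    (w₀ ψ₀ : Fin b → F) (hw₀ : w₀ ≠ 0) (hψ₀ : ψ₀ ≠ 0) (h₀ : ψ₀ ⬝ᵥ w₀ = 0)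
    (h : ∀ (w : Fin b → F) (u : Fin a → F), w ≠ 0 →
      ctr ψ₀ (((g⁻¹ : Matrix.GeneralLinearGroup (Fin a × Fin b) F) :
        Matrix (Fin a × Fin b) (Fin a × Fin b) F) *ᵥ ten u w) = 0 →
      ∃ u₀ : Fin a → F,
        ten u w = (g : Matrix (Fin a × Fin b) (Fin a × Fin b) F) *ᵥ ten u₀ w₀) :
    ∃ w' : Fin b → F, w' ≠ 0 ∧ ∀ u : Fin a → F, ∃ u' : Fin a → F,
      (g : Matrix (Fin a × Fin b) (Fin a × Fin b) F) *ᵥ ten u w₀ = ten u' w' := by
  classical
  -- (★) every `u` has a non-zero `w` with `u ⊗ w ∈ S`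
  have hstar : ∀ u : Fin a → F, ∃ w : Fin b → F, w ≠ 0 ∧ ∃ u₀ : Fin a → F,
      ten u w = (g : Matrix (Fin a × Fin b) (Fin a × Fin b) F) *ᵥ ten u₀ w₀ := by
    intro u
    obtain ⟨w, hw, hk⟩ := tpfinal_ker hab
      ((g⁻¹ : Matrix.GeneralLinearGroup (Fin a × Fin b) F) :
        Matrix (Fin a × Fin b) (Fin a × Fin b) F) ψ₀ u
    exact ⟨w, hw, h w u hw hk⟩
  -- the subspace `S`
  let σ : (Fin a → F) →ₗ[F] (Fin a × Fin b → F) :=
    { toFun := fun u => (g : Matrix (Fin a × Fin b) (Fin a × Fin b) F) *ᵥ ten u w₀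
      map_add' := by
        intro u u'
        rw [ten_add_left, Matrix.mulVec_add]
      map_smul' := by
        intro c u
        rw [ten_smul_left, Matrix.mulVec_smul]
        rfl }
  have hσ : ∀ u, σ u = (g : Matrix (Fin a × Fin b) (Fin a × Fin b) F) *ᵥ ten u w₀ := fun u => rfl
  have hSdim : Module.finrank F (LinearMap.range σ) ≤ a := by
    have := LinearMap.finrank_range_le σ
    rwa [Module.finrank_fin_fun] at this
  -- the vectors `w i`
  choose w hw hwS using fun i : Fin a => hstar (Pi.single i (1 : F))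
  have hli := tpfinal_li w hw
  have hle : Submodule.span F (Set.range fun i : Fin a => ten (Pi.single i (1 : F)) (w i)) ≤
      LinearMap.range σ := by
    rw [Submodule.span_le]
    rintro _ ⟨i, rfl⟩
    obtain ⟨u₀, hu₀⟩ := hwS i
    exact ⟨u₀, by rw [hσ]; exact hu₀.symm⟩
  have hspan : Submodule.span F (Set.range fun i : Fin a => ten (Pi.single i (1 : F)) (w i)) =
      LinearMap.range σ := by
    apply Submodule.eq_of_le_of_finrank_le hle
    rw [finrank_span_eq_card hli, Fintype.card_fin]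
    exact hSdim
  -- every element of `S` is `(k, j) ↦ c k * w k j`
  have hS : ∀ s ∈ LinearMap.range σ, ∃ c : Fin a → F, ∀ k j, s (k, j) = c k * w k j := by
    intro s hs
    rw [← hspan, Submodule.mem_span_range_iff_exists_fun] at hs
    obtain ⟨c, rfl⟩ := hs
    exact ⟨c, fun k j => tpfinal_eval c w k j⟩
  -- all `w i` are parallel
  have hpar : ∀ i k : Fin a, ∃ d : F, w i = d • w k := by
    intro i k
    by_cases hik : i = k
    · exact ⟨1, by rw [hik, one_smul]⟩
    · obtain ⟨x, hx, u₀, hu₀⟩ := hstar (Pi.single i (1 : F) + Pi.single k (1 : F))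
      obtain ⟨c, hc⟩ := hS (ten (Pi.single i (1 : F) + Pi.single k (1 : F)) x) ⟨u₀, hu₀.symm⟩
      have hi : ∀ j, x j = c i * w i j := by
        intro j
        have := hc i j
        simpa [ten, Pi.single_apply, hik, Ne.symm hik] using this
      have hk : ∀ j, x j = c k * w k j := by
        intro j
        have := hc k j
        simpa [ten, Pi.single_apply, hik, Ne.symm hik] using this
      have hci : c i ≠ 0 := by
        intro h0
        apply hx
        funext j
        rw [hi j, h0, zero_mul]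
        rfl
      refine ⟨(c i)⁻¹ * c k, ?_⟩
      funext j
      rw [Pi.smul_apply, smul_eq_mul, mul_assoc, ← hk j, hi j, ← mul_assoc, inv_mul_cancel₀ hci,
        one_mul]
  -- conclusion
  let i₀ : Fin a := ⟨0, ha⟩
  choose d hd using fun i => hpar i i₀
  refine ⟨w i₀, hw i₀, ?_⟩
  intro u
  obtain ⟨c, hc⟩ := hS _ ⟨u, rfl⟩
  refine ⟨fun k => c k * d k, ?_⟩
  funext p
  obtain ⟨k, j⟩ := p
  rw [← hσ, hc k j]
  have : w k j = d k * w i₀ j := by
    rw [hd k]
    rfl
  rw [this]
  simp only [ten]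
  ring

end Cfsg.Agent.Lib.helper7.TP
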