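import Cfsg.Agent.Lib.Helper27.FusInvariant
import Cfsg.Agent.Lib.Helper27.FusJoin

set_option autoImplicit false

namespace Cfsg.Agent.Lib.Helper27

open Cfsg Cfsg.FusionSystem Cfsg.Agent.Lib.Helper26

variable {Ω : Type*} [Group Ω] {S : Subgroup Ω}

/-- `Aut_E(R)` is normalized by `Aut_F(R)` when `E` is invariant in `F`. -/
theorem autGroup_conj_mem {T : Subgroup Ω} {E : FusionSystem T} {F : FusionSystem S}
    (hinv : E.IsInvariantIn F) {R : Subgroup Ω} (hRT : R ≤ T) {β γ : MulAut R}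
    (hβ : β ∈ F.autGroup R) (hγ : γ ∈ E.autGroup R) : β * γ * β⁻¹ ∈ E.autGroup R := by
  have hTS : T ≤ S := hinv.2.1.1
  have hφ : R.subtype.comp β.toMonoidHom ∈ F.Hom R := (mem_autGroup_iff F (hRT.trans hTS)).mp hβ
  obtain ⟨α, hα, φ₀, hφ₀, h⟩ := hinv.2.2.2 R hRT _ hφ
  have hφ₀T : ∀ x : R, φ₀ x ∈ T := fun x => apply_mem E hφ₀ x
  obtain ⟨e₀, he₀, he₀x⟩ := exists_iso_of_hom E hφ₀ rfl
  have hR'T : φ₀.range ≤ T := range_le E hφ₀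
  have hγ' : MulAut.congr e₀ γ ∈ E.autGroup φ₀.range := congr_mem_autGroup he₀ hγ
  have hγ'Hom := (mem_autGroup_iff E hR'T).mp hγ'
  obtain ⟨χ, hχ, hχe⟩ := hinv.2.2.1 φ₀.range hR'T _ hγ'Hom α hα
  have hβx : ∀ r : R, ((β r : R) : Ω) = ((α ⟨φ₀ r, hφ₀T r⟩ : T) : Ω) := fun r => h r (hφ₀T r)
  have himg : (φ₀.range.subgroupOf T).map (T.subtype.comp α.toMonoidHom) = R := by
    ext y
    constructor
    · rintro ⟨t, ht, rfl⟩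
      obtain ⟨r, hr⟩ := Subgroup.mem_subgroupOf.mp ht
      have e : t = ⟨φ₀ r, hφ₀T r⟩ := Subtype.ext hr.symm
      show ((α t : T) : Ω) ∈ R
      rw [e, ← hβx r]
      exact (β r).2
    · intro hy
      refine ⟨⟨φ₀ (β⁻¹ ⟨y, hy⟩), hφ₀T _⟩, Subgroup.mem_subgroupOf.mpr ⟨_, rfl⟩, ?_⟩
      show ((α ⟨φ₀ (β⁻¹ ⟨y, hy⟩), hφ₀T _⟩ : T) : Ω) = y
      rw [← hβx, MulAut.apply_inv_self]
  obtain ⟨ψ, hψ, hψe⟩ := hom_cast E himg χ hχ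
  rw [mem_autGroup_iff E hRT]
  refine mem_of_forall_eq E hψ (fun y => ?_)
  show (((β * γ * β⁻¹) y : R) : Ω) = ψ y
  obtain ⟨r, rfl⟩ : ∃ r : R, β r = y := ⟨β⁻¹ y, MulAut.apply_inv_self _ β y⟩
  have hmem : φ₀ r ∈ φ₀.range := ⟨r, rfl⟩
  have hαx : ((α ⟨φ₀ r, hR'T hmem⟩ : T) : Ω) ∈
      (φ₀.range.subgroupOf T).map (T.subtype.comp α.toMonoidHom) :=
    ⟨⟨φ₀ r, hR'T hmem⟩, Subgroup.mem_subgroupOf.mpr hmem, rfl⟩
  have hγ'r : ((MulAut.congr e₀ γ) ⟨φ₀ r, hmem⟩ : Ω) = φ₀ (γ r) := by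
    have e1 : (⟨φ₀ r, hmem⟩ : φ₀.range) = e₀ r := Subtype.ext (he₀x r).symm
    rw [e1]
    show ((e₀ (γ (e₀.symm (e₀ r))) : φ₀.range) : Ω) = φ₀ (γ r)
    rw [MulEquiv.symm_apply_apply, he₀x]
  have hφx : (φ₀.range.subtype.comp (MulAut.congr e₀ γ).toMonoidHom) ⟨φ₀ r, hmem⟩ ∈ T := by
    show ((MulAut.congr e₀ γ) ⟨φ₀ r, hmem⟩ : Ω) ∈ T
    rw [hγ'r]
    exact hφ₀T _
  have h1 := hχe ⟨φ₀ r, hmem⟩ hφx hαx
  have h2 : ((β r : R) : Ω) = ((α ⟨φ₀ r, hR'T hmem⟩ : T) : Ω) := hβx r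
  have h3 := hψe ((β r : R) : Ω) (by rw [h2]; exact hαx) (β r).2
  have e2 : (⟨((β r : R) : Ω), (β r).2⟩ : R) = β r := rfl
  rw [e2] at h3
  rw [h3]
  have e3 : (⟨((β r : R) : Ω), (by rw [h2]; exact hαx)⟩ :
      ↥((φ₀.range.subgroupOf T).map (T.subtype.comp α.toMonoidHom))) =
      ⟨((α ⟨φ₀ r, hR'T hmem⟩ : T) : Ω), hαx⟩ := Subtype.ext h2
  rw [e3, h1]
  show (((β * γ * β⁻¹) (β r) : R) : Ω) = _
  rw [MulAut.mul_apply, MulAut.mul_apply, MulAut.inv_apply_self, hβx (γ r)]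
  congr 2
  apply Subtype.ext
  exact hγ'r.symm

/-- A normal subgroup containing a Sylow `p`-subgroup contains every `p`-element. -/
theorem mem_of_pow_eq_one_of_sylow_le {A : Type*} [Group A] [Finite A] {p : ℕ} [Fact p.Prime]
    {N : Subgroup A} (hN : N.Normal) (R : Sylow p A) (hRN : (R : Subgroup A) ≤ N) {β : A} {k : ℕ}
    (hβ : β ^ (p ^ k) = 1) : β ∈ N := by
  have hp : IsPGroup p (Subgroup.zpowers β) := by
    rintro ⟨_, j, rfl⟩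
    refine ⟨k, ?_⟩
    apply Subtype.ext
    show (β ^ j) ^ (p ^ k) = 1
    rw [← zpow_natCast, ← zpow_mul, mul_comm, zpow_mul, zpow_natCast, hβ, one_zpow]
  obtain ⟨Q, hQ⟩ := hp.exists_le_sylow
  obtain ⟨a, ha⟩ := MulAction.exists_smul_eq A R Q
  have h1 : β ∈ (Q : Subgroup A) := hQ (Subgroup.mem_zpowers β)
  rw [← ha, Sylow.coe_subgroup_smul, Subgroup.mem_pointwise_smul_iff_inv_smul_mem] at h1
  have h2 : a⁻¹ * β * a ∈ N := by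
    have := hRN h1
    simpa [MulAut.smul_def] using this
  have h3 := hN.conj_mem _ h2 a
  have e : a * (a⁻¹ * β * a) * a⁻¹ = β := by group
  rwa [e] at h3

end Cfsg.Agent.Lib.Helper27
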