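import Mathlib
import Cfsg.Agent.S5076
import Cfsg.Agent.Lib.Helper26.FusionAut

set_option autoImplicit false

/-! A criterion for the fusion system of a finite group on a Sylow subgroup to be simple. -/

namespace Cfsg.Agent.Lib.Helper27.FusSimple

open Cfsg Cfsg.FusionSystem Cfsg.Agent.Lib.Helper26

/-- a subsystem over the whole of `S`, invariant in `F`, is all of `F` as soon as every element of
`Aut_F(S)` is inner -/
theorem eq_of_invariant_of_aut_inner {Ω : Type*} [Group Ω] {S : Subgroup Ω} (F E : FusionSystem S)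
    (hE : E.IsInvariantIn F)
    (hinn : ∀ α ∈ F.autGroup S, ∃ s ∈ S, ∀ x : S, ((α x : S) : Ω) = s * (x : Ω) * s⁻¹) :
    ∀ P : Subgroup Ω, E.Hom P = F.Hom P := by
  intro P
  apply Set.Subset.antisymm (hE.1 P)
  intro φ hφ
  have hPS : P ≤ S := source_le F hφ
  obtain ⟨α, hα, φ₀, hφ₀, h⟩ := hE.2.2.2 P hPS φ hφ
  obtain ⟨s, hs, hsα⟩ := hinn α hα
  have hS0 : ∀ x : P, φ₀ x ∈ S := fun x => apply_mem E hφ₀ x
  have hcomp := E.comp_mem hφ₀ (E.conj_mem (le_refl S) hs) hS0
  have heq : (conjHom S s).comp (φ₀.codRestrict S hS0) = φ := by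
    ext x
    rw [h x (hS0 x), hsα]
    rfl
  rw [← heq]
  exact hcomp

/-- the simplicity criterion -/
theorem isSimple_of_stronglyClosed {G : Type*} [Group G] [Finite G] (p : ℕ) [Fact p.Prime]
    (S : Sylow p G) (hne : (S : Subgroup G) ≠ ⊥)
    (hN : ∀ g ∈ Subgroup.normalizer ((S : Subgroup G) : Set G), ∃ s ∈ (S : Subgroup G),
      ∀ x ∈ (S : Subgroup G), g * x * g⁻¹ = s * x * s⁻¹)
    (hsc : ∀ T : Subgroup G, (groupFusionSystem (S : Subgroup G)).StronglyClosed T → T ≠ ⊥ →
      T = (S : Subgroup G)) :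
    (groupFusionSystem (S : Subgroup G)).IsSimple p := by
  refine ⟨Cfsg.Agent.S5076.result p S, hne, fun T E hE => ?_⟩
  by_cases hT : T = ⊥
  · exact Or.inl hT
  · right
    have hinv := hE.1.2.2
    have hTS : T = (S : Subgroup G) := hsc T hinv.2.1 hT
    subst hTS
    refine ⟨rfl, eq_of_invariant_of_aut_inner _ E hinv ?_⟩
    intro α hα
    have h1 := (mem_autGroup_iff _ (le_refl _)).mp hα
    obtain ⟨-, -, g, hg⟩ := h1
    have hgN : g ∈ Subgroup.normalizer ((S : Subgroup G) : Set G) := by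
      rw [Subgroup.mem_normalizer_iff_map_conj_eq]
      have hle : (S : Subgroup G).map (MulAut.conj g).toMonoidHom ≤ (S : Subgroup G) := by
        rintro _ ⟨x, hx, rfl⟩
        have := hg ⟨x, hx⟩
        show g * x * g⁻¹ ∈ (S : Subgroup G)
        rw [← this]
        exact (α ⟨x, hx⟩).2
      refine Subgroup.eq_of_le_of_card_ge hle ?_
      rw [Subgroup.card_map_of_injective (MulAut.conj g).injective]
    obtain ⟨s, hs, hsx⟩ := hN g hgN
    refine ⟨s, hs, fun x => ?_⟩
    rw [← hsx x x.2]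
    exact hg x

end Cfsg.Agent.Lib.Helper27.FusSimple
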