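import Mathlib
import Cfsg.Agent.S1202
import Cfsg.Agent.S3116
import Cfsg.Agent.S1200
import Cfsg.Agent.S1241
import Cfsg.Agent.Lib.Helper27.FusSimple
import Cfsg.Agent.Lib.Helper26.FusionBasic

set_option autoImplicit false

/-! Quasi-dihedral and wreathed Sylow 2-subgroups: abstract facts used for the simplicity of
fusion systems of groups of 2-rank two. -/

namespace Cfsg.Agent.Lib.Helper27.QDWr

open Cfsg Cfsg.FusionSystem Cfsg.Agent.Lib.Helper26
open scoped Pointwise

/-- being quasi-dihedral is invariant under isomorphism -/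
theorem isQuasiDihedral_of_mulEquiv {A B : Type*} [Group A] [Group B] (e : A ≃* B)
    (h : Cfsg.IsQuasiDihedral A) : Cfsg.IsQuasiDihedral B := by
  obtain ⟨n, hn, hcard, x, y, hx, hy, hxy⟩ := h
  refine ⟨n, hn, ?_, e x, e y, ?_, ?_, ?_⟩
  · rw [← hcard]; exact (Nat.card_congr e.toEquiv).symm
  · rw [MulEquiv.orderOf_eq]; exact hx
  · rw [MulEquiv.orderOf_eq]; exact hy
  · rw [← map_inv, ← map_mul, ← map_mul, hxy, map_pow]

/-- being wreathed is invariant under isomorphism -/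
theorem isWreathed_of_mulEquiv {A B : Type*} [Group A] [Group B] (e : A ≃* B)
    (h : Cfsg.IsWreathed A) : Cfsg.IsWreathed B := by
  obtain ⟨n, hn, hcard, x, y, z, hx, hxy, hdisj, hz, hzx⟩ := h
  refine ⟨n, hn, ?_, e x, e y, e z, ?_, ?_, ?_, ?_, ?_⟩
  · rw [← hcard]; exact (Nat.card_congr e.toEquiv).symm
  · rw [MulEquiv.orderOf_eq]; exact hx
  · rw [← map_mul, ← map_mul, hxy]
  · rw [eq_bot_iff]
    intro w hw
    obtain ⟨⟨i, hi⟩, ⟨j, hj⟩⟩ := hw
    have h1 : e.symm w ∈ Subgroup.zpowers x ⊓ Subgroup.zpowers y := by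
      constructor
      · refine ⟨i, ?_⟩
        show x ^ i = e.symm w
        rw [← hi]
        simp
      · refine ⟨j, ?_⟩
        show y ^ j = e.symm w
        rw [← hj]
        simp
    rw [hdisj, Subgroup.mem_bot] at h1
    rw [Subgroup.mem_bot]
    have := congrArg e h1
    simpa using this
  · rw [MulEquiv.orderOf_eq]; exact hz
  · rw [← map_inv, ← map_mul, ← map_mul, hzx]

/-- the automorphism group of a wreathed 2-group is a 2-group -/
theorem mulAut_isPGroup_of_isWreathed {S : Type*} [Group S] [Finite S] (hS : Cfsg.IsWreathed S) :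
    IsPGroup 2 (MulAut S) := by
  obtain ⟨n, hn2, hcard, -⟩ := id hS
  by_contra hA
  have hA' : ¬ IsPGroup 2 (MulAut (⊤ : Subgroup S)) := by
    intro h
    apply hA
    exact h.of_equiv (MulAut.congr Subgroup.topEquiv)
  have h1 := (Cfsg.Agent.S1202.result hS n hcard ⊤ le_top hA').1
  have h2 : Subgroup.normalizer (((⊤ : Subgroup S)) : Set S) = ⊤ := by
    rw [eq_top_iff]
    intro g _
    rw [Subgroup.mem_normalizer_iff]
    intro x
    simp
  rw [h2, Subgroup.relIndex_top_left] at h1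
  omega

/-- if `Aut(S)` is a `p`-group for a Sylow `p`-subgroup `S`, then `N_G(S) = S C_G(S)` -/
theorem normalizer_inner_of_mulAut_isPGroup {G : Type*} [Group G] [Finite G] (p : ℕ)
    [Fact p.Prime] (S : Sylow p G) (hA : IsPGroup p (MulAut (S : Subgroup G))) :
    ∀ g ∈ Subgroup.normalizer ((S : Subgroup G) : Set G), ∃ s ∈ (S : Subgroup G),
      ∀ x ∈ (S : Subgroup G), g * x * g⁻¹ = s * x * s⁻¹ := by
  intro g hg
  have hp : p.Prime := Fact.out
  obtain ⟨a, m, hm, hgm⟩ := Nat.exists_eq_pow_mul_and_not_dvd (orderOf_pos g).ne' p hp.ne_one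
  -- the `p'`-part of `g` centralizes `S`
  set N := Subgroup.normalizer ((S : Subgroup G) : Set G) with hN
  have hhN : g ^ (p ^ a) ∈ N := Subgroup.pow_mem _ hg _
  have hcent : ∀ x ∈ (S : Subgroup G), g ^ (p ^ a) * x * (g ^ (p ^ a))⁻¹ = x := by
    set κ := (S : Subgroup G).normalizerMonoidHom ⟨g ^ (p ^ a), hhN⟩ with hκ
    have hκm : κ ^ m = 1 := by
      rw [hκ, ← map_pow]
      have : (⟨g ^ (p ^ a), hhN⟩ : N) ^ m = 1 := by
        apply Subtype.ext
        rw [Subgroup.coe_pow, Subgroup.coe_one]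
        show (g ^ (p ^ a)) ^ m = 1
        rw [← pow_mul, ← hgm]
        exact pow_orderOf_eq_one g
      rw [this, map_one]
    obtain ⟨k, hk⟩ := hA κ
    have hκ1 : κ = 1 := by
      have h1 : orderOf κ ∣ m := orderOf_dvd_of_pow_eq_one hκm
      have h2 : orderOf κ ∣ p ^ k := orderOf_dvd_of_pow_eq_one hk
      have hcop : Nat.Coprime (p ^ k) m :=
        Nat.Coprime.pow_left k ((Nat.Prime.coprime_iff_not_dvd hp).mpr hm)
      have h3 : orderOf κ ∣ Nat.gcd (p ^ k) m := Nat.dvd_gcd h2 h1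
      rw [hcop] at h3
      exact orderOf_eq_one_iff.mp (Nat.dvd_one.mp h3)
    intro x hx
    have h1 : κ ⟨x, hx⟩ = ⟨x, hx⟩ := by rw [hκ1]; rfl
    have h2 := congrArg (fun y : (S : Subgroup G) => (y : G)) h1
    exact h2
  -- the `p`-part of `g` lies in `S`
  have hsS : g ^ m ∈ (S : Subgroup G) := by
    have hsN : g ^ m ∈ N := Subgroup.pow_mem _ hg _
    have hz : IsPGroup p (Subgroup.zpowers (g ^ m)) := by
      have hdvd : orderOf (g ^ m) ∣ p ^ a := by
        apply orderOf_dvd_of_pow_eq_one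
        rw [← pow_mul, mul_comm, ← hgm]
        exact pow_orderOf_eq_one g
      obtain ⟨j, -, hj⟩ := (Nat.dvd_prime_pow hp).mp hdvd
      exact IsPGroup.of_card (n := j) (by rw [Nat.card_zpowers, hj])
    have hle : Subgroup.zpowers (g ^ m) ≤ N := (Subgroup.zpowers_le).mpr hsN
    have hsup : IsPGroup p ↥(Subgroup.zpowers (g ^ m) ⊔ (S : Subgroup G)) :=
      IsPGroup.to_sup_of_normal_right' hz S.isPGroup' hle
    have heq := S.is_maximal' hsup le_sup_right
    have : g ^ m ∈ Subgroup.zpowers (g ^ m) ⊔ (S : Subgroup G) :=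
      (le_sup_left : Subgroup.zpowers (g ^ m) ≤ _) (Subgroup.mem_zpowers _)
    rw [heq] at this
    exact this
  -- Bezout
  have hcop : IsCoprime ((p ^ a : ℕ) : ℤ) (m : ℤ) := by
    rw [Nat.isCoprime_iff_coprime]
    exact Nat.Coprime.pow_left a ((Nat.Prime.coprime_iff_not_dvd hp).mpr hm)
  obtain ⟨u, v, huv⟩ := hcop
  have hgdec : g = (g ^ (p ^ a)) ^ u * (g ^ m) ^ v := by
    rw [← zpow_natCast g (p ^ a), ← zpow_natCast g m, ← zpow_mul, ← zpow_mul, ← zpow_add]
    have : ((p ^ a : ℕ) : ℤ) * u + (m : ℤ) * v = 1 := by linarith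
    rw [this, zpow_one]
  refine ⟨(g ^ m) ^ v, Subgroup.zpow_mem _ hsS v, fun x hx => ?_⟩
  have hcentu : ∀ y ∈ (S : Subgroup G), (g ^ (p ^ a)) ^ u * y * ((g ^ (p ^ a)) ^ u)⁻¹ = y := by
    intro y hy
    have hmem : g ^ (p ^ a) ∈ Subgroup.centralizer ({y} : Set G) := by
      rw [Subgroup.mem_centralizer_singleton_iff]
      have := hcent y hy
      rw [mul_inv_eq_iff_eq_mul] at this
      exact this
    have := Subgroup.zpow_mem _ hmem u
    rw [Subgroup.mem_centralizer_singleton_iff] at this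
    rw [mul_inv_eq_iff_eq_mul]
    exact this
  have hy : (g ^ m) ^ v * x * ((g ^ m) ^ v)⁻¹ ∈ (S : Subgroup G) :=
    Subgroup.mul_mem _ (Subgroup.mul_mem _ (Subgroup.zpow_mem _ hsS v) hx)
      (Subgroup.inv_mem _ (Subgroup.zpow_mem _ hsS v))
  have := hcentu _ hy
  conv_lhs => rw [hgdec]
  rw [← this]
  group

/-- a quotient by a normal subgroup which together with one element generates is cyclic -/
theorem isCyclic_quotient_of_sup_zpowers {S : Type*} [Group S] (N : Subgroup S) [N.Normal] (s : S)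
    (h : N ⊔ Subgroup.zpowers s = ⊤) : IsCyclic (S ⧸ N) := by
  refine ⟨⟨QuotientGroup.mk s, fun q => ?_⟩⟩
  obtain ⟨a, rfl⟩ := QuotientGroup.mk_surjective q
  have ha : a ∈ N ⊔ Subgroup.zpowers s := by rw [h]; trivial
  have ha' : a ∈ (N : Set S) * (Subgroup.zpowers s : Set S) := by
    rw [← Subgroup.normal_mul]; exact ha
  obtain ⟨n, hn, z, ⟨k, rfl⟩, rfl⟩ := Set.mem_mul.mp ha'
  refine ⟨k, ?_⟩
  show (QuotientGroup.mk s : S ⧸ N) ^ k = QuotientGroup.mk (n * s ^ k)
  rw [QuotientGroup.mk_mul, (QuotientGroup.eq_one_iff n).mpr hn, one_mul, QuotientGroup.mk_zpow]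

/-- in a quasi-dihedral group, a subgroup containing all involutions has a cyclic supplement -/
theorem exists_sup_zpowers_of_isQuasiDihedral {S : Type*} [Group S] [Finite S]
    (hS : Cfsg.IsQuasiDihedral S) (N : Subgroup S) (hN : ∀ x : S, orderOf x = 2 → x ∈ N) :
    ∃ s : S, N ⊔ Subgroup.zpowers s = ⊤ := by
  obtain ⟨n, hn, hcard, x, y, hx, hy, hxy⟩ := hS
  obtain ⟨k, rfl⟩ : ∃ k, n = k + 1 := ⟨n - 1, by omega⟩
  have hk2 : 2 ≤ k := by omega
  have h4 : 4 ≤ 2 ^ k := by
    calc 4 = 2 ^ 2 := by norm_num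
      _ ≤ 2 ^ k := Nat.pow_le_pow_right (by norm_num) hk2
  rw [Nat.add_sub_cancel] at hxy
  refine ⟨x, ?_⟩
  set K := N ⊔ Subgroup.zpowers x with hK
  have hyK : y ∈ K := (le_sup_left : N ≤ K) (hN y hy)
  have hxK : Subgroup.zpowers x ≤ K := le_sup_right
  by_contra hne
  have hdvd : Nat.card K ∣ 2 ^ (k + 1 + 1) := hcard ▸ Subgroup.card_subgroup_dvd_card K
  obtain ⟨j, hj, hKj⟩ := (Nat.dvd_prime_pow Nat.prime_two).mp hdvd
  have hjn : j ≤ k + 1 := by
    by_contra h
    have hj' : j = k + 1 + 1 := by omega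
    apply hne
    apply Subgroup.eq_top_of_card_eq
    rw [hKj, hj', hcard]
  have hKx : Subgroup.zpowers x = K := by
    apply Subgroup.eq_of_le_of_card_ge hxK
    rw [Nat.card_zpowers, hx, hKj]
    exact Nat.pow_le_pow_right (by norm_num) hjn
  have hyx : y ∈ Subgroup.zpowers x := by rw [hKx]; exact hyK
  obtain ⟨i, hi⟩ := hyx
  have hcomm : y * x = x * y := by
    have hi' : x ^ i = y := hi
    rw [← hi']
    exact ((Commute.refl x).zpow_left i).eq
  have hyxy : y * x * y⁻¹ = x := by rw [hcomm, mul_inv_cancel_right]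
  rw [hyxy] at hxy
  have h1 : x ^ (2 ^ k - 2) = 1 := by
    have h2 : x ^ (2 ^ k - 1) = x ^ (2 ^ k - 2) * x := by
      rw [← pow_succ]
      congr 1
      omega
    rw [h2] at hxy
    have h3 : x ^ (2 ^ k - 2) * x = 1 * x := by rw [one_mul]; exact hxy.symm
    exact mul_right_cancel h3
  have h2 := orderOf_dvd_of_pow_eq_one h1
  rw [hx] at h2
  have h3 := Nat.le_of_dvd (by omega) h2
  have h5 : 2 ^ (k + 1) = 2 * 2 ^ k := by rw [pow_succ]; ring
  omega

/-- in a wreathed group, a subgroup containing all involutions has a cyclic supplement -/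
theorem exists_sup_zpowers_of_isWreathed {S : Type*} [Group S] [Finite S]
    (hS : Cfsg.IsWreathed S) (N : Subgroup S) (hN : ∀ x : S, orderOf x = 2 → x ∈ N) :
    ∃ s : S, N ⊔ Subgroup.zpowers s = ⊤ := by
  obtain ⟨n, hn2, hcard, -⟩ := id hS
  obtain ⟨-, s, hs⟩ := Cfsg.Agent.S1200.result hS n hcard
  refine ⟨s, ?_⟩
  rw [eq_top_iff, ← hs]
  exact sup_le_sup_right ((Subgroup.closure_le _).mpr hN) _

/-- a cyclic group has at most one involution -/
theorem eq_of_sq_eq_one_of_isCyclic {Q : Type*} [Group Q] [Finite Q] [IsCyclic Q] {a b : Q}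
    (ha : a ^ 2 = 1) (hb : b ^ 2 = 1) (ha1 : a ≠ 1) (hb1 : b ≠ 1) : a = b := by
  classical
  have := Fintype.ofFinite Q
  by_contra hab
  have h := IsCyclic.card_pow_eq_one_le (α := Q) (n := 2) (by norm_num)
  have hsub : ({1, a, b} : Finset Q) ⊆ Finset.univ.filter (fun x => x ^ 2 = 1) := by
    intro x hx
    simp only [Finset.mem_insert, Finset.mem_singleton] at hx
    rw [Finset.mem_filter]
    refine ⟨Finset.mem_univ _, ?_⟩
    rcases hx with rfl | rfl | rfl
    · exact one_pow 2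
    · exact ha
    · exact hb
  have hcard : ({1, a, b} : Finset Q).card = 3 := by
    rw [Finset.card_insert_of_notMem, Finset.card_insert_of_notMem, Finset.card_singleton]
    · simpa using hab
    · simp only [Finset.mem_insert, Finset.mem_singleton]
      push Not
      exact ⟨ha1.symm, hb1.symm⟩
  have := Finset.card_le_card hsub
  omega

/-- the elementwise form of strong closure in the fusion system of a group -/
theorem conj_mem_of_stronglyClosed {G : Type*} [Group G] {S T : Subgroup G}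
    (hT : (groupFusionSystem S).StronglyClosed T) {x : G} (hx : x ∈ T) (g : G)
    (hg : g * x * g⁻¹ ∈ S) : g * x * g⁻¹ ∈ T := by
  have hle : Subgroup.zpowers x ≤ T := (Subgroup.zpowers_le).mpr hx
  have hφ : conjHom (Subgroup.zpowers x) g ∈ (groupFusionSystem S).Hom (Subgroup.zpowers x) := by
    refine ⟨hle.trans hT.1, ?_, g, fun y => rfl⟩
    rintro ⟨y, n, rfl⟩
    show g * x ^ n * g⁻¹ ∈ S
    rw [← conj_zpow]
    exact Subgroup.zpow_mem _ hg n
  have := hT.2 _ hle _ hφ ⟨x, Subgroup.mem_zpowers _⟩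
  rwa [conjHom_apply] at this

/-- the main criterion: in a perfect group with one class of involutions whose Sylow 2-subgroup
is cyclic modulo any normal subgroup containing its involutions, the only nontrivial strongly
closed subgroup is the Sylow 2-subgroup itself -/
theorem eq_of_stronglyClosed {G : Type*} [Group G] [Finite G] (S : Sylow 2 G)
    (hperf : commutator G = ⊤)
    (hinv : ∀ t s : G, orderOf t = 2 → orderOf s = 2 → ∃ g : G, g * t * g⁻¹ = s)
    (hcyc : ∀ N : Subgroup ↥(S : Subgroup G), N.Normal →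
      (∀ x : ↥(S : Subgroup G), orderOf x = 2 → x ∈ N) → ∃ s, N ⊔ Subgroup.zpowers s = ⊤)
    (T : Subgroup G) (hT : (groupFusionSystem (S : Subgroup G)).StronglyClosed T) (hT1 : T ≠ ⊥) :
    T = (S : Subgroup G) := by
  classical
  have hTS := hT.1
  have sc : ∀ x ∈ T, ∀ g : G, g * x * g⁻¹ ∈ (S : Subgroup G) → g * x * g⁻¹ ∈ T :=
    fun x hx g hg => conj_mem_of_stronglyClosed hT hx g hg
  -- an involution in `T`
  have hT2 : IsPGroup 2 ↥T := S.isPGroup'.to_le hTS
  have hTnt : Nontrivial ↥T := (Subgroup.nontrivial_iff_ne_bot T).mpr hT1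
  obtain ⟨m, hm⟩ := hT2.exists_card_eq
  have hm0 : m ≠ 0 := by
    intro h0
    rw [h0, pow_zero] at hm
    have := Finite.one_lt_card_iff_nontrivial.mpr hTnt
    omega
  obtain ⟨t, ht⟩ := exists_prime_orderOf_dvd_card' (G := ↥T) 2 (by
    rw [hm]; exact dvd_pow_self 2 hm0)
  have ht2 : orderOf (t : G) = 2 := by rw [Subgroup.orderOf_coe]; exact ht
  have hinvT : ∀ s ∈ (S : Subgroup G), orderOf s = 2 → s ∈ T := by
    intro s hs hs2
    obtain ⟨g, hg⟩ := hinv t s ht2 hs2
    rw [← hg]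
    exact sc t t.2 g (hg ▸ hs)
  -- normality
  have hnorm : (T.subgroupOf (S : Subgroup G)).Normal := by
    constructor
    intro n hn g
    rw [Subgroup.mem_subgroupOf] at hn ⊢
    simp only [Subgroup.coe_mul, InvMemClass.coe_inv]
    exact sc n hn g (Subgroup.mul_mem _ (Subgroup.mul_mem _ g.2 n.2) (Subgroup.inv_mem _ g.2))
  obtain ⟨s, hs⟩ := hcyc _ hnorm (fun x hx => by
    rw [Subgroup.mem_subgroupOf]
    exact hinvT x x.2 (by rw [Subgroup.orderOf_coe]; exact hx))
  have hcycQ : IsCyclic (↥(S : Subgroup G) ⧸ T.subgroupOf (S : Subgroup G)) :=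
    isCyclic_quotient_of_sup_zpowers _ s hs
  have hmk : ∀ x : ↥(S : Subgroup G),
      (QuotientGroup.mk x : ↥(S : Subgroup G) ⧸ T.subgroupOf (S : Subgroup G)) = 1 ↔
        (x : G) ∈ T := fun x => by
    rw [QuotientGroup.eq_one_iff, Subgroup.mem_subgroupOf]
  by_contra hne
  have hlt : ∃ u ∈ (S : Subgroup G), u ∉ T := by
    by_contra h
    push Not at h
    exact hne (le_antisymm hTS h)
  -- an element of minimal order outside `T`
  have hex : ∃ k, ∃ u ∈ (S : Subgroup G), u ∉ T ∧ orderOf u = k := by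
    obtain ⟨u, hu, huT⟩ := hlt
    exact ⟨orderOf u, u, hu, huT, rfl⟩
  obtain ⟨u, huS, huT, huk⟩ := Nat.find_spec hex
  have hmin : ∀ w ∈ (S : Subgroup G), w ∉ T → orderOf u ≤ orderOf w := fun w hw hwT => by
    rw [huk]
    exact Nat.find_min' hex ⟨w, hw, hwT, rfl⟩
  obtain ⟨k, hk⟩ : ∃ k, orderOf u = 2 ^ k := by
    obtain ⟨k, hk⟩ := (IsPGroup.iff_orderOf.mp S.isPGroup') ⟨u, huS⟩
    refine ⟨k, ?_⟩
    rw [← hk, Subgroup.orderOf_mk]
  have hk0 : k ≠ 0 := by
    rintro rfl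
    rw [pow_zero, orderOf_eq_one_iff] at hk
    exact huT (hk ▸ T.one_mem)
  have hu2 : u ^ 2 ∈ T := by
    by_contra h
    have h1 := hmin (u ^ 2) (Subgroup.pow_mem _ huS 2) h
    have h2 : orderOf (u ^ 2) ∣ 2 ^ (k - 1) := by
      apply orderOf_dvd_of_pow_eq_one
      rw [← pow_mul, ← pow_succ']
      have : k - 1 + 1 = k := by omega
      rw [this, ← hk]
      exact pow_orderOf_eq_one u
    have h3 := Nat.le_of_dvd (by positivity) h2
    have h4 : 2 ^ (k - 1) < 2 ^ k := Nat.pow_lt_pow_right (by norm_num) (by omega)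
    omega
  have hidx : Nat.Coprime 2 (S : Subgroup G).index :=
    (Nat.Prime.coprime_iff_not_dvd Nat.prime_two).mpr S.not_dvd_index
  have hab : ∀ x ∈ (S : Subgroup G), ∀ y ∈ (S : Subgroup G), x * y * x⁻¹ * y⁻¹ ∈ T := by
    intro x hx y hy
    have h1 := (hmk (⟨x, hx⟩ * ⟨y, hy⟩ * ⟨x, hx⟩⁻¹ * ⟨y, hy⟩⁻¹)).mp (by
      rw [QuotientGroup.mk_mul, QuotientGroup.mk_mul, QuotientGroup.mk_mul, QuotientGroup.mk_inv,
        QuotientGroup.mk_inv]
      rw [(IsCyclic.isMulCommutative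
        (α := ↥(S : Subgroup G) ⧸ T.subgroupOf (S : Subgroup G))).is_comm.comm
        (QuotientGroup.mk ⟨x, hx⟩) (QuotientGroup.mk ⟨y, hy⟩)]
      group)
    exact h1
  have hctrl : ∀ (m : ℤ) (a : G), a * u ^ m * a⁻¹ ∈ (S : Subgroup G) →
      (a * u ^ m * a⁻¹) * (u ^ m)⁻¹ ∈ T := by
    intro m a hw
    have hvS : u ^ m ∈ (S : Subgroup G) := Subgroup.zpow_mem _ huS m
    by_cases hvT : u ^ m ∈ T
    · exact T.mul_mem (sc _ hvT a hw) (T.inv_mem hvT)
    · have hwT : a * u ^ m * a⁻¹ ∉ T := by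
        intro h
        have h1 := sc _ h a⁻¹ (by
          have : a⁻¹ * (a * u ^ m * a⁻¹) * a⁻¹⁻¹ = u ^ m := by group
          rw [this]; exact hvS)
        apply hvT
        have h2 : a⁻¹ * (a * u ^ m * a⁻¹) * a⁻¹⁻¹ = u ^ m := by group
        rw [h2] at h1
        exact h1
      have hv2 : (u ^ m) ^ 2 ∈ T := by
        have h1 : (u ^ m) ^ 2 = (u ^ 2) ^ m := by
          rw [← zpow_natCast, ← zpow_mul, mul_comm, zpow_mul, zpow_natCast]
        rw [h1]
        exact T.zpow_mem hu2 m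
      have hw2 : (a * u ^ m * a⁻¹) ^ 2 ∈ T := by
        rw [conj_pow]
        apply sc _ hv2 a
        rw [← conj_pow]
        exact Subgroup.pow_mem _ hw 2
      have e1 : (QuotientGroup.mk (⟨u ^ m, hvS⟩ : ↥(S : Subgroup G)) :
          ↥(S : Subgroup G) ⧸ T.subgroupOf (S : Subgroup G)) ^ 2 = 1 := by
        rw [← QuotientGroup.mk_pow, hmk]
        exact hv2
      have e2 : (QuotientGroup.mk (⟨a * u ^ m * a⁻¹, hw⟩ : ↥(S : Subgroup G)) :
          ↥(S : Subgroup G) ⧸ T.subgroupOf (S : Subgroup G)) ^ 2 = 1 := by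
        rw [← QuotientGroup.mk_pow, hmk]
        exact hw2
      have n1 : (QuotientGroup.mk (⟨u ^ m, hvS⟩ : ↥(S : Subgroup G)) :
          ↥(S : Subgroup G) ⧸ T.subgroupOf (S : Subgroup G)) ≠ 1 := by
        rw [Ne, hmk]; exact hvT
      have n2 : (QuotientGroup.mk (⟨a * u ^ m * a⁻¹, hw⟩ : ↥(S : Subgroup G)) :
          ↥(S : Subgroup G) ⧸ T.subgroupOf (S : Subgroup G)) ≠ 1 := by
        rw [Ne, hmk]; exact hwT
      have heq := eq_of_sq_eq_one_of_isCyclic e2 e1 n2 n1
      have h3 : (QuotientGroup.mk ((⟨a * u ^ m * a⁻¹, hw⟩ : ↥(S : Subgroup G)) *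
          (⟨u ^ m, hvS⟩ : ↥(S : Subgroup G))⁻¹) :
          ↥(S : Subgroup G) ⧸ T.subgroupOf (S : Subgroup G)) = 1 := by
        rw [QuotientGroup.mk_mul, QuotientGroup.mk_inv, heq, mul_inv_cancel]
      exact (hmk _).mp h3
  have hnot := Cfsg.Agent.S1241.result (p := 2) (S : Subgroup G) T hTS hnorm hab hidx u huS huT
    ⟨k, hk⟩ hctrl
  apply hnot
  rw [hperf]
  trivial

end Cfsg.Agent.Lib.Helper27.QDWr
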