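import Mathlib
import Cfsg.Agent.S5076
import Cfsg.Agent.S5111
import Cfsg.Agent.Lib.Helper26.FusionAut
import Cfsg.Agent.Lib.Helper27.FusInvariant2
import Cfsg.Agent.Lib.Helper27.FusSimple
import Cfsg.Agent.Lib.Helper27.QDWr

set_option autoImplicit false

/-! A second criterion for the fusion system of a finite group on a Sylow subgroup to be simple:
the normalizer of the Sylow subgroup is generated by the Sylow subgroup together with elements
lying in the subgroup generated by the `p`-elements of the normalizer of a self-centralizing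
normal subgroup of the Sylow subgroup. -/

namespace Cfsg.Agent.Lib.Helper27.FusSimpleGen

open Cfsg Cfsg.FusionSystem Cfsg.Agent.Lib.Helper26 Cfsg.Agent.Lib.Helper27

/-- an element normalizing `S` and centralizing a self-centralizing normal subgroup of `S` acts on `S`
as an element of `S` -/
theorem inner_of_centralizes {G : Type*} [Group G] [Finite G] (p : ℕ) [Fact p.Prime] (S : Sylow p G)
    {R : Subgroup G} (hnorm : (S : Subgroup G) ≤ Subgroup.normalizer (R : Set G))
    (hC : ∀ s ∈ (S : Subgroup G), (∀ r ∈ R, s * r = r * s) → s ∈ R)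
    {z : G} (hzN : z ∈ Subgroup.normalizer ((S : Subgroup G) : Set G))
    (hzR : ∀ r ∈ R, z * r = r * z) :
    ∃ s ∈ (S : Subgroup G), ∀ x ∈ (S : Subgroup G), z * x * z⁻¹ = s * x * s⁻¹ := by
  have hp : p.Prime := Fact.out
  obtain ⟨a, m, hm, hzm⟩ := Nat.exists_eq_pow_mul_and_not_dvd (orderOf_pos z).ne' p hp.ne_one
  set N := Subgroup.normalizer ((S : Subgroup G) : Set G) with hN
  have hwN : z ^ (p ^ a) ∈ N := Subgroup.pow_mem _ hzN _
  have hwm : (z ^ (p ^ a)) ^ m = 1 := by
    rw [← pow_mul, ← hzm]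
    exact pow_orderOf_eq_one z
  have hwR : ∀ r ∈ R, z ^ (p ^ a) * r = r * z ^ (p ^ a) := by
    intro r hr
    have h1 : Commute z r := hzR r hr
    exact h1.pow_left _
  have hwS : ∀ x ∈ (S : Subgroup G), z ^ (p ^ a) * x * (z ^ (p ^ a))⁻¹ ∈ (S : Subgroup G) :=
    fun x hx => (Subgroup.mem_normalizer_iff.mp hwN x).mp hx
  have hcent : ∀ x ∈ (S : Subgroup G), z ^ (p ^ a) * x * (z ^ (p ^ a))⁻¹ = x := by
    intro x hx
    generalize hwdef : z ^ (p ^ a) = w at hwN hwm hwR hwS
    have hcS : x⁻¹ * (w * x * w⁻¹) ∈ (S : Subgroup G) :=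
      Subgroup.mul_mem _ (Subgroup.inv_mem _ hx) (hwS x hx)
    have hxR : ∀ r ∈ R, x * r * x⁻¹ ∈ R :=
      fun r hr => (Subgroup.mem_normalizer_iff.mp (hnorm hx) r).mp hr
    have hcR : x⁻¹ * (w * x * w⁻¹) ∈ R := by
      apply hC _ hcS
      intro r hr
      have h1 : w⁻¹ * r = r * w⁻¹ := by
        have h0 := hwR r hr
        calc w⁻¹ * r = w⁻¹ * (r * w) * w⁻¹ := by group
          _ = w⁻¹ * (w * r) * w⁻¹ := by rw [h0]
          _ = r * w⁻¹ := by group
      have h2 := hwR (x * r * x⁻¹) (hxR r hr)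
      calc x⁻¹ * (w * x * w⁻¹) * r = x⁻¹ * (w * x * (w⁻¹ * r)) := by group
        _ = x⁻¹ * (w * x * (r * w⁻¹)) := by rw [h1]
        _ = x⁻¹ * ((w * (x * r * x⁻¹)) * x * w⁻¹) := by group
        _ = x⁻¹ * (((x * r * x⁻¹) * w) * x * w⁻¹) := by rw [h2]
        _ = r * (x⁻¹ * (w * x * w⁻¹)) := by group
    set c := x⁻¹ * (w * x * w⁻¹) with hc
    have hwc : Commute w c := hwR c hcR
    have hxc : w * x * w⁻¹ = x * c := by rw [hc]; group
    have hpow : ∀ k : ℕ, w ^ k * x * (w ^ k)⁻¹ = x * c ^ k := by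
      intro k
      induction k with
      | zero => simp
      | succ k ih =>
        have h3 : w * c ^ k * w⁻¹ = c ^ k := by
          have : Commute w (c ^ k) := hwc.pow_right k
          rw [this.eq]
          group
        calc w ^ (k + 1) * x * (w ^ (k + 1))⁻¹ = w * (w ^ k * x * (w ^ k)⁻¹) * w⁻¹ := by
              rw [pow_succ']; group
          _ = w * (x * c ^ k) * w⁻¹ := by rw [ih]
          _ = (w * x * w⁻¹) * (w * c ^ k * w⁻¹) := by group
          _ = x * c ^ (k + 1) := by rw [hxc, h3, pow_succ']; group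
    have hcm : c ^ m = 1 := by
      have := hpow m
      rw [hwm] at this
      simp at this
      exact this
    have hc1 : c = 1 := by
      obtain ⟨j, hj⟩ := (S.isPGroup'.to_le (le_refl _)) ⟨c, hcS⟩
      have hj' : c ^ (p ^ j) = 1 := by
        have := congrArg (fun y : (S : Subgroup G) => (y : G)) hj
        simpa using this
      have h1 : orderOf c ∣ m := orderOf_dvd_of_pow_eq_one hcm
      have h2 : orderOf c ∣ p ^ j := orderOf_dvd_of_pow_eq_one hj'
      have hcop : Nat.Coprime (p ^ j) m :=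
        Nat.Coprime.pow_left j ((Nat.Prime.coprime_iff_not_dvd hp).mpr hm)
      have h3 : orderOf c ∣ Nat.gcd (p ^ j) m := Nat.dvd_gcd h2 h1
      rw [hcop] at h3
      exact orderOf_eq_one_iff.mp (Nat.dvd_one.mp h3)
    rw [hxc, hc1, mul_one]
  -- the `p`-part of `z` lies in `S`
  have hsS : z ^ m ∈ (S : Subgroup G) := by
    have hsN : z ^ m ∈ N := Subgroup.pow_mem _ hzN _
    have hz : IsPGroup p (Subgroup.zpowers (z ^ m)) := by
      have hdvd : orderOf (z ^ m) ∣ p ^ a := by
        apply orderOf_dvd_of_pow_eq_one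
        rw [← pow_mul, mul_comm, ← hzm]
        exact pow_orderOf_eq_one z
      obtain ⟨j, -, hj⟩ := (Nat.dvd_prime_pow hp).mp hdvd
      exact IsPGroup.of_card (n := j) (by rw [Nat.card_zpowers, hj])
    have hle : Subgroup.zpowers (z ^ m) ≤ N := (Subgroup.zpowers_le).mpr hsN
    have hsup : IsPGroup p ↥(Subgroup.zpowers (z ^ m) ⊔ (S : Subgroup G)) :=
      IsPGroup.to_sup_of_normal_right' hz S.isPGroup' hle
    have heq := S.is_maximal' hsup le_sup_right
    have : z ^ m ∈ Subgroup.zpowers (z ^ m) ⊔ (S : Subgroup G) :=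
      (le_sup_left : Subgroup.zpowers (z ^ m) ≤ _) (Subgroup.mem_zpowers _)
    rw [heq] at this
    exact this
  have hcop : IsCoprime ((p ^ a : ℕ) : ℤ) (m : ℤ) := by
    rw [Nat.isCoprime_iff_coprime]
    exact Nat.Coprime.pow_left a ((Nat.Prime.coprime_iff_not_dvd hp).mpr hm)
  obtain ⟨u, v, huv⟩ := hcop
  have hgdec : z = (z ^ (p ^ a)) ^ u * (z ^ m) ^ v := by
    rw [← zpow_natCast z (p ^ a), ← zpow_natCast z m, ← zpow_mul, ← zpow_mul, ← zpow_add]
    have : ((p ^ a : ℕ) : ℤ) * u + (m : ℤ) * v = 1 := by linarith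
    rw [this, zpow_one]
  refine ⟨(z ^ m) ^ v, Subgroup.zpow_mem _ hsS v, fun x hx => ?_⟩
  have hcentu : ∀ y ∈ (S : Subgroup G), (z ^ (p ^ a)) ^ u * y * ((z ^ (p ^ a)) ^ u)⁻¹ = y := by
    intro y hy
    have hmem : z ^ (p ^ a) ∈ Subgroup.centralizer ({y} : Set G) := by
      rw [Subgroup.mem_centralizer_singleton_iff]
      have := hcent y hy
      rw [mul_inv_eq_iff_eq_mul] at this
      exact this
    have := Subgroup.zpow_mem _ hmem u
    rw [Subgroup.mem_centralizer_singleton_iff] at this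
    rw [mul_inv_eq_iff_eq_mul]
    exact this
  have hy : (z ^ m) ^ v * x * ((z ^ m) ^ v)⁻¹ ∈ (S : Subgroup G) :=
    Subgroup.mul_mem _ (Subgroup.mul_mem _ (Subgroup.zpow_mem _ hsS v) hx)
      (Subgroup.inv_mem _ (Subgroup.zpow_mem _ hsS v))
  have := hcentu _ hy
  conv_lhs => rw [hgdec]
  rw [← this]
  group


/-- the elements allowed as generators of the normalizer of the Sylow subgroup -/
def GoodElt {G : Type*} [Group G] (p : ℕ) (S : Subgroup G) (h : G) : Prop :=
  h ∈ Subgroup.normalizer (S : Set G) ∧ ∃ R : Subgroup G, R ≤ S ∧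
    S ≤ Subgroup.normalizer (R : Set G) ∧
    (∀ s ∈ S, (∀ r ∈ R, s * r = r * s) → s ∈ R) ∧
    h ∈ Subgroup.closure {x : G | x ∈ Subgroup.normalizer (R : Set G) ∧ ∃ k : ℕ, x ^ (p ^ k) = 1}

/-- elements generated by `p`-elements of the normalizer of a normal subgroup `R` of `S` induce
automorphisms of `R` lying in any subsystem over `S` invariant in the fusion system of the group -/
theorem conjAut_mem_of_closure {G : Type*} [Group G] [Finite G] (p : ℕ) [Fact p.Prime] (S : Sylow p G)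
    (E : FusionSystem (S : Subgroup G))
    (hinv : E.IsInvariantIn (groupFusionSystem (S : Subgroup G)))
    {R : Subgroup G} (hRS : R ≤ (S : Subgroup G))
    (hnorm : (S : Subgroup G) ≤ Subgroup.normalizer (R : Set G)) {h : G}
    (hh : h ∈ Subgroup.closure
      {x : G | x ∈ Subgroup.normalizer (R : Set G) ∧ ∃ k : ℕ, x ^ (p ^ k) = 1}) :
    ∃ hN : h ∈ Subgroup.normalizer (R : Set G), conjAut R h hN ∈ E.autGroup R := by
  set A := Subgroup.normalizer (R : Set G) with hA
  set N : Subgroup A := (E.autGroup R).comap (Subgroup.normalizerMonoidHom R) with hNdef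
  have hF : ∀ a : A, Subgroup.normalizerMonoidHom R a ∈
      (groupFusionSystem (S : Subgroup G)).autGroup R := by
    intro a
    rw [mem_autGroup_iff _ hRS]
    exact ⟨hRS, fun x => hRS (Subgroup.normalizerMonoidHom R a x).2, (a : G), fun x => rfl⟩
  have hNn : N.Normal := by
    refine ⟨fun n hn a => ?_⟩
    show Subgroup.normalizerMonoidHom R (a * n * a⁻¹) ∈ E.autGroup R
    rw [map_mul, map_mul, map_inv]
    exact autGroup_conj_mem hinv hRS (hF a) hn
  have hle : ((S.subtype hnorm : Sylow p A) : Subgroup A) ≤ N := by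
    intro s hs
    rw [Sylow.coe_subtype, Subgroup.mem_subgroupOf] at hs
    show Subgroup.normalizerMonoidHom R s ∈ E.autGroup R
    exact autInducedBy_le_autGroup E hRS (conjAut_mem_autInducedBy hs s.2)
  have hcl : Subgroup.closure
      {x : G | x ∈ Subgroup.normalizer (R : Set G) ∧ ∃ k : ℕ, x ^ (p ^ k) = 1} ≤
      N.map A.subtype := by
    rw [Subgroup.closure_le]
    rintro x ⟨hx, k, hk⟩
    refine ⟨⟨x, hx⟩, ?_, rfl⟩
    exact mem_of_pow_eq_one_of_sylow_le hNn (S.subtype hnorm) hle (β := ⟨x, hx⟩) (k := k)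
      (Subtype.ext (by simpa using hk))
  obtain ⟨⟨h', hh'⟩, hmem, rfl⟩ := hcl hh
  exact ⟨hh', hmem⟩

/-- an automorphism of a self-centralizing normal subgroup `R` of `S`, induced by an element of
the normalizer of `S` and lying in a saturated subsystem `E` over `S`, extends to `S` inside `E` -/
theorem conjHom_top_mem {G : Type*} [Group G] [Finite G] (p : ℕ) [Fact p.Prime] (S : Sylow p G)
    (E : FusionSystem (S : Subgroup G)) (hsat : E.IsSaturated p)
    (hsub : E.IsSubsystemOf (groupFusionSystem (S : Subgroup G)))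
    {R : Subgroup G} (hRS : R ≤ (S : Subgroup G))
    (hnorm : (S : Subgroup G) ≤ Subgroup.normalizer (R : Set G))
    (hC : ∀ s ∈ (S : Subgroup G), (∀ r ∈ R, s * r = r * s) → s ∈ R) {h : G}
    (hhS : h ∈ Subgroup.normalizer ((S : Subgroup G) : Set G))
    (hhR : h ∈ Subgroup.normalizer (R : Set G)) (hmem : conjAut R h hhR ∈ E.autGroup R) :
    conjHom (S : Subgroup G) h ∈ E.Hom (S : Subgroup G) := by
  have hSp : IsPGroup p ↥(S : Subgroup G) := S.isPGroup'
  have hfn : E.IsFullyNormalized R := by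
    refine ⟨hRS, fun Q _ => ?_⟩
    have h1 : normalizerIn (S : Subgroup G) R = (S : Subgroup G) := inf_eq_left.mpr hnorm
    rw [h1]
    exact Subgroup.card_le_of_le inf_le_left
  have hrec : E.IsReceptive R := ((Cfsg.Agent.S5111.result p hSp E).mp hsat).2 R hfn
  have hφ : conjHom R h ∈ E.Hom R :=
    mem_of_forall_eq E ((mem_autGroup_iff E hRS).mp hmem) (fun x => rfl)
  have hrange : (conjHom R h).range = R := by
    ext y
    constructor
    · rintro ⟨x, rfl⟩
      exact conj_mem_of_mem_normalizer hhR x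
    · intro hy
      refine ⟨⟨h⁻¹ * y * h, conj_inv_mem_of_mem_normalizer hhR ⟨y, hy⟩⟩, ?_⟩
      rw [conjHom_apply]
      show h * (h⁻¹ * y * h) * h⁻¹ = y
      group
  obtain ⟨ψ, hψ, hψe⟩ := hrec.2 R (conjHom R h) hφ hrange
  have hext : extender (S : Subgroup G) R (conjHom R h) = (S : Subgroup G) := by
    apply le_antisymm ((extender_le_normalizerIn _ _ _).trans inf_le_left)
    intro g hg
    rw [mem_extender_iff]
    refine ⟨hg, hnorm hg, h * g * h⁻¹, (Subgroup.mem_normalizer_iff.mp hhS g).mp hg, fun x => ?_⟩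
    rw [conjHom_apply, conjHom_apply]
    show h * (g * (x : G) * g⁻¹) * h⁻¹ = h * g * h⁻¹ * (h * (x : G) * h⁻¹) * (h * g * h⁻¹)⁻¹
    group
  obtain ⟨ψ', hψ', hψ'e⟩ := hom_cast E hext ψ hψ
  obtain ⟨-, hψS, g, hg⟩ := hsub _ hψ'
  have hgN : g ∈ Subgroup.normalizer ((S : Subgroup G) : Set G) := by
    rw [Subgroup.mem_normalizer_iff_map_conj_eq]
    have hle : (S : Subgroup G).map (MulAut.conj g).toMonoidHom ≤ (S : Subgroup G) := by
      rintro _ ⟨x, hx, rfl⟩
      have := hψS ⟨x, hx⟩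
      rw [hg] at this
      exact this
    refine Subgroup.eq_of_le_of_card_ge hle ?_
    rw [Subgroup.card_map_of_injective (MulAut.conj g).injective]
  have hzN : g⁻¹ * h ∈ Subgroup.normalizer ((S : Subgroup G) : Set G) :=
    Subgroup.mul_mem _ (Subgroup.inv_mem _ hgN) hhS
  have hzR : ∀ r ∈ R, g⁻¹ * h * r = r * (g⁻¹ * h) := by
    intro r hr
    have hrS : r ∈ (S : Subgroup G) := hRS hr
    have hrE : r ∈ extender (S : Subgroup G) R (conjHom R h) := by rw [hext]; exact hrS
    have h1 := hψ'e r hrE hrS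
    have h2 := hψe r hr hrE
    rw [h2, hg, conjHom_apply] at h1
    have h3 : g * r * g⁻¹ = h * r * h⁻¹ := h1
    calc g⁻¹ * h * r = g⁻¹ * (h * r * h⁻¹) * h := by group
      _ = g⁻¹ * (g * r * g⁻¹) * h := by rw [h3]
      _ = r * (g⁻¹ * h) := by group
  obtain ⟨s, hs, hsx⟩ := inner_of_centralizes p S hnorm hC hzN hzR
  have hcomp := E.comp_mem (E.conj_mem (le_refl _) hs) hψ'
    (fun x => (groupFusionSystem (S : Subgroup G)).conj_mem (le_refl _) hs |>.2.1 x)
  refine mem_of_forall_eq E hcomp (fun x => ?_)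
  rw [conjHom_apply]
  show h * (x : G) * h⁻¹ = ψ' ⟨s * (x : G) * s⁻¹, _⟩
  rw [hg]
  show h * (x : G) * h⁻¹ = g * (s * (x : G) * s⁻¹) * g⁻¹
  rw [← hsx x x.2]
  group

/-- the simplicity criterion -/
theorem isSimple_of_generation {G : Type*} [Group G] [Finite G] (p : ℕ) [Fact p.Prime]
    (S : Sylow p G) (hne : (S : Subgroup G) ≠ ⊥)
    (hsc : ∀ T : Subgroup G, T ≤ (S : Subgroup G) → T ≠ ⊥ →
      (∀ x ∈ T, ∀ g : G, g * x * g⁻¹ ∈ (S : Subgroup G) → g * x * g⁻¹ ∈ T) →
      T = (S : Subgroup G))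
    (hgen : Subgroup.normalizer ((S : Subgroup G) : Set G) ≤
      Subgroup.closure (((S : Subgroup G) : Set G) ∪ {h : G | GoodElt p (S : Subgroup G) h})) :
    (groupFusionSystem (S : Subgroup G)).IsSimple p := by
  refine ⟨Cfsg.Agent.S5076.result p S, hne, fun T E hE => ?_⟩
  by_cases hT : T = ⊥
  · exact Or.inl hT
  right
  have hinv := hE.1.2.2
  have hsatE := hE.1.1
  have hTS : T = (S : Subgroup G) :=
    hsc T hinv.2.1.1 hT (fun x hx g hg => QDWr.conj_mem_of_stronglyClosed hinv.2.1 hx g hg)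
  subst hTS
  refine ⟨rfl, ?_⟩
  -- the set of good elements
  have hmul : ∀ a b : G, (a ∈ Subgroup.normalizer ((S : Subgroup G) : Set G) ∧
      conjHom (S : Subgroup G) a ∈ E.Hom (S : Subgroup G)) →
      (b ∈ Subgroup.normalizer ((S : Subgroup G) : Set G) ∧
      conjHom (S : Subgroup G) b ∈ E.Hom (S : Subgroup G)) →
      (a * b ∈ Subgroup.normalizer ((S : Subgroup G) : Set G) ∧
      conjHom (S : Subgroup G) (a * b) ∈ E.Hom (S : Subgroup G)) := by
    rintro a b ⟨haN, haE⟩ ⟨hbN, hbE⟩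
    refine ⟨Subgroup.mul_mem _ haN hbN, ?_⟩
    have hb' : ∀ x : (S : Subgroup G), conjHom (S : Subgroup G) b x ∈ (S : Subgroup G) :=
      fun x => apply_mem E hbE x
    refine mem_of_forall_eq E (E.comp_mem hbE haE hb') (fun x => ?_)
    rw [conjHom_apply]
    show a * b * (x : G) * (a * b)⁻¹ = a * (b * (x : G) * b⁻¹) * a⁻¹
    group
  have hone : (1 : G) ∈ Subgroup.normalizer ((S : Subgroup G) : Set G) ∧
      conjHom (S : Subgroup G) 1 ∈ E.Hom (S : Subgroup G) :=
    ⟨Subgroup.one_mem _, E.conj_mem (le_refl _) (Subgroup.one_mem _)⟩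
  have key : ∀ h ∈ Subgroup.normalizer ((S : Subgroup G) : Set G),
      conjHom (S : Subgroup G) h ∈ E.Hom (S : Subgroup G) := by
    intro h hh
    have h1 := hgen hh
    refine (Subgroup.closure_induction (p := fun h _ =>
      h ∈ Subgroup.normalizer ((S : Subgroup G) : Set G) ∧
      conjHom (S : Subgroup G) h ∈ E.Hom (S : Subgroup G)) ?_ hone
      (fun a b _ _ ha hb => hmul a b ha hb) ?_ h1).2
    · rintro x (hx | ⟨hxN, R, hRS, hnorm, hC, hcl⟩)
      · exact ⟨Subgroup.le_normalizer hx, E.conj_mem (le_refl _) hx⟩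
      · obtain ⟨hN, hmem⟩ := conjAut_mem_of_closure p S E hinv hRS hnorm hcl
        exact ⟨hxN, conjHom_top_mem p S E hsatE hinv.1 hRS hnorm hC hxN hN hmem⟩
    · rintro a _ ha
      have hpow : ∀ n : ℕ, a ^ n ∈ Subgroup.normalizer ((S : Subgroup G) : Set G) ∧
          conjHom (S : Subgroup G) (a ^ n) ∈ E.Hom (S : Subgroup G) := by
        intro n
        induction n with
        | zero => rw [pow_zero]; exact hone
        | succ n ih => rw [pow_succ]; exact hmul _ _ ih ha
      have hainv : a⁻¹ = a ^ (orderOf a - 1) := by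
        symm
        apply eq_inv_of_mul_eq_one_left
        rw [← pow_succ, Nat.sub_add_cancel (orderOf_pos a)]
        exact pow_orderOf_eq_one a
      rw [hainv]
      exact hpow _
  intro P
  apply Set.Subset.antisymm (hinv.1 P)
  intro φ hφ
  have hPS : P ≤ (S : Subgroup G) := source_le _ hφ
  obtain ⟨α, hα, φ₀, hφ₀, h⟩ := hinv.2.2.2 P hPS φ hφ
  have h1 := (mem_autGroup_iff _ (le_refl _)).mp hα
  obtain ⟨-, -, g, hg⟩ := h1
  have hgN : g ∈ Subgroup.normalizer ((S : Subgroup G) : Set G) :=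
    mem_normalizer_of_conj_aut (α := α) (fun x => hg x)
  have hS0 : ∀ x : P, φ₀ x ∈ (S : Subgroup G) := fun x => apply_mem E hφ₀ x
  have hcomp := E.comp_mem hφ₀ (key g hgN) hS0
  refine mem_of_forall_eq E hcomp (fun x => ?_)
  rw [h x (hS0 x)]
  exact hg _

end Cfsg.Agent.Lib.Helper27.FusSimpleGen
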