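import Mathlib
import Cfsg.Agent.Lib.Helper27.FusSimpleGen

set_option autoImplicit false

/-! Transfer of the simplicity criterion of `FusSimpleGen` to a quotient by a central subgroup of
order prime to `p`. -/

namespace Cfsg.Agent.Lib.Helper27.FusSimpleQuot

open Cfsg Cfsg.FusionSystem Cfsg.Agent.Lib.Helper27.FusSimpleGen

section

variable {H G : Type*} [Group H] [Group G] [Finite H] (p : ℕ) [Fact p.Prime]
  (π : H →* G) (hcop : (Nat.card π.ker).Coprime p) (S' : Sylow p H)

include hcop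

/-- a `p`-power torsion element of the kernel is trivial -/
theorem ker_pow_eq_one {z : H} (hz : z ∈ π.ker) {k : ℕ} (hk : z ^ (p ^ k) = 1) : z = 1 := by
  have h1 : orderOf z ∣ p ^ k := orderOf_dvd_of_pow_eq_one hk
  have h2 : orderOf z ∣ Nat.card π.ker := by
    have := orderOf_dvd_natCard (⟨z, hz⟩ : π.ker)
    rwa [Subgroup.orderOf_mk] at this
  have h3 : Nat.Coprime (Nat.card π.ker) (p ^ k) := Nat.Coprime.pow_right k hcop
  have h4 : orderOf z ∣ Nat.gcd (Nat.card π.ker) (p ^ k) := Nat.dvd_gcd h2 h1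
  rw [h3] at h4
  exact orderOf_eq_one_iff.mp (Nat.dvd_one.mp h4)

theorem eq_one_of_mem_sylow {x : H} (hx : x ∈ (S' : Subgroup H)) (h : π x = 1) : x = 1 := by
  obtain ⟨k, hk⟩ := S'.isPGroup' ⟨x, hx⟩
  have hk' : x ^ (p ^ k) = 1 := by
    have := congrArg (fun y : (S' : Subgroup H) => (y : H)) hk
    simpa using this
  exact ker_pow_eq_one p π hcop (MonoidHom.mem_ker.mpr h) hk'

theorem eq_of_mem_sylow {x y : H} (hx : x ∈ (S' : Subgroup H)) (hy : y ∈ (S' : Subgroup H))
    (h : π x = π y) : x = y := by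
  have h1 : x * y⁻¹ ∈ (S' : Subgroup H) := Subgroup.mul_mem _ hx (Subgroup.inv_mem _ hy)
  have h2 : π (x * y⁻¹) = 1 := by rw [map_mul, map_inv, h, mul_inv_cancel]
  have := eq_one_of_mem_sylow p π hcop S' h1 h2
  exact mul_inv_eq_one.mp this

end

theorem mem_normalizer_of_map {H G : Type*} [Group H] [Group G] [Finite H] (p : ℕ) [Fact p.Prime]
    (π : H →* G) (hker : π.ker ≤ Subgroup.center H) (hcop : (Nat.card π.ker).Coprime p)
    (S' : Sylow p H) {g : H}
    (hg : π g ∈ Subgroup.normalizer (((S' : Subgroup H).map π : Subgroup G) : Set G)) :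
    g ∈ Subgroup.normalizer ((S' : Subgroup H) : Set H) := by
  have hconj : ∀ s ∈ (S' : Subgroup H), g * s * g⁻¹ ∈ (S' : Subgroup H) := by
    intro s hs
    have h1 : π g * π s * (π g)⁻¹ ∈ (S' : Subgroup H).map π :=
      (Subgroup.mem_normalizer_iff.mp hg (π s)).mp ⟨s, hs, rfl⟩
    obtain ⟨s', hs', hs'e⟩ := h1
    have hz : s'⁻¹ * (g * s * g⁻¹) ∈ π.ker := by
      rw [MonoidHom.mem_ker, map_mul, map_inv, hs'e, map_mul, map_mul, map_inv]
      group
    have hzc := hker hz
    obtain ⟨n, hn⟩ := S'.isPGroup'.exists_card_eq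
    have e1 : s ^ (p ^ n) = 1 := by
      have := pow_card_eq_one' (G := (S' : Subgroup H)) (x := ⟨s, hs⟩)
      rw [hn] at this
      have := congrArg (fun y : (S' : Subgroup H) => (y : H)) this
      simpa using this
    have e2 : s' ^ (p ^ n) = 1 := by
      have := pow_card_eq_one' (G := (S' : Subgroup H)) (x := ⟨s', hs'⟩)
      rw [hn] at this
      have := congrArg (fun y : (S' : Subgroup H) => (y : H)) this
      simpa using this
    have e3 : (g * s * g⁻¹) ^ (p ^ n) = 1 := by
      rw [conj_pow, e1]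
      group
    have hcomm : Commute s'⁻¹ (g * s * g⁻¹) := by
      -- s'⁻¹ commutes with s'⁻¹ * (g s g⁻¹) since the latter is central; deduce
      have hc : Commute (s'⁻¹ * (g * s * g⁻¹)) s'⁻¹ :=
        (Subgroup.mem_center_iff.mp hzc s'⁻¹).symm
      have : s'⁻¹ * (g * s * g⁻¹) * s'⁻¹ = s'⁻¹ * (s'⁻¹ * (g * s * g⁻¹)) := hc.eq
      have h2 : (g * s * g⁻¹) * s'⁻¹ = s'⁻¹ * (g * s * g⁻¹) := by
        have := congrArg (fun t => s' * t) this
        simpa [mul_assoc] using this
      exact h2.symm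
    have e4 : (s'⁻¹ * (g * s * g⁻¹)) ^ (p ^ n) = 1 := by
      rw [hcomm.mul_pow, inv_pow, e2, e3]
      simp
    have hz1 := ker_pow_eq_one p π hcop hz e4
    have : g * s * g⁻¹ = s' := by
      have := congrArg (fun t => s' * t) hz1
      simpa [mul_assoc] using this
    rw [this]
    exact hs'
  rw [Subgroup.mem_normalizer_iff_map_conj_eq]
  have hle : (S' : Subgroup H).map (MulAut.conj g).toMonoidHom ≤ (S' : Subgroup H) := by
    rintro _ ⟨x, hx, rfl⟩
    exact hconj x hx
  refine Subgroup.eq_of_le_of_card_ge hle ?_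
  rw [Subgroup.card_map_of_injective (MulAut.conj g).injective]

theorem goodElt_map {H G : Type*} [Group H] [Group G] [Finite H] (p : ℕ) [Fact p.Prime]
    (π : H →* G) (hcop : (Nat.card π.ker).Coprime p)
    (S' : Sylow p H) {h : H} (hh : GoodElt p (S' : Subgroup H) h) :
    GoodElt p ((S' : Subgroup H).map π) (π h) := by
  obtain ⟨hN, R, hRS, hnorm, hC, hcl⟩ := hh
  have hmapN : ∀ (K : Subgroup H) (x : H), x ∈ Subgroup.normalizer (K : Set H) →
      π x ∈ Subgroup.normalizer ((K.map π : Subgroup G) : Set G) := by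
    intro K x hx
    exact Subgroup.le_normalizer_map π ⟨x, hx, rfl⟩
  refine ⟨hmapN _ _ hN, R.map π, Subgroup.map_mono hRS, ?_, ?_, ?_⟩
  · rintro _ ⟨s, hs, rfl⟩
    exact hmapN _ _ (hnorm hs)
  · rintro _ ⟨s, hs, rfl⟩ hcomm
    refine ⟨s, hC s hs (fun r hr => ?_), rfl⟩
    have h1 := hcomm (π r) ⟨r, hr, rfl⟩
    rw [← map_mul, ← map_mul] at h1
    exact eq_of_mem_sylow p π hcop S' (Subgroup.mul_mem _ hs (hRS hr))
      (Subgroup.mul_mem _ (hRS hr) hs) h1
  · have h1 : π h ∈ (Subgroup.closure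
        {x : H | x ∈ Subgroup.normalizer (R : Set H) ∧ ∃ k : ℕ, x ^ (p ^ k) = 1}).map π :=
      ⟨h, hcl, rfl⟩
    rw [MonoidHom.map_closure] at h1
    refine Subgroup.closure_mono ?_ h1
    rintro _ ⟨x, ⟨hxN, k, hk⟩, rfl⟩
    exact ⟨hmapN _ _ hxN, k, by rw [← map_pow, hk, map_one]⟩

/-- the simplicity criterion for a quotient by a central subgroup of order prime to `p` -/
theorem isSimple_of_central_quotient {H G : Type*} [Group H] [Group G] [Finite H] (p : ℕ)
    [Fact p.Prime] (π : H →* G) (hπ : Function.Surjective π)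
    (hker : π.ker ≤ Subgroup.center H) (hcop : (Nat.card π.ker).Coprime p)
    (S' : Sylow p H) (S : Sylow p G) (hS : (S : Subgroup G) = (S' : Subgroup H).map π)
    (hne : (S' : Subgroup H) ≠ ⊥)
    (hsc : ∀ T : Subgroup H, T ≤ (S' : Subgroup H) → T ≠ ⊥ →
      (∀ x ∈ T, ∀ g : H, g * x * g⁻¹ ∈ (S' : Subgroup H) → g * x * g⁻¹ ∈ T) →
      T = (S' : Subgroup H))
    (hgen : Subgroup.normalizer ((S' : Subgroup H) : Set H) ≤
      Subgroup.closure (((S' : Subgroup H) : Set H) ∪ {h : H | GoodElt p (S' : Subgroup H) h})) :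
    (groupFusionSystem (S : Subgroup G)).IsSimple p := by
  have : Finite G := Finite.of_surjective π hπ
  apply isSimple_of_generation p S
  · -- nontrivial
    intro hbot
    apply hne
    rw [Subgroup.eq_bot_iff_forall]
    intro x hx
    apply eq_one_of_mem_sylow p π hcop S' hx
    have : π x ∈ (S : Subgroup G) := by rw [hS]; exact ⟨x, hx, rfl⟩
    rw [hbot] at this
    exact Subgroup.mem_bot.mp this
  · -- strongly closed subgroups
    intro T hTS hT hcl
    have hT' := hsc (T.comap π ⊓ (S' : Subgroup H)) inf_le_right ?_ ?_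
    · apply le_antisymm hTS
      rw [hS]
      rintro _ ⟨x, hx, rfl⟩
      have : x ∈ T.comap π ⊓ (S' : Subgroup H) := by rw [hT']; exact hx
      exact this.1
    · intro hbot
      apply hT
      rw [Subgroup.eq_bot_iff_forall]
      intro t ht
      have htS := hTS ht
      rw [hS] at htS
      obtain ⟨s, hs, rfl⟩ := htS
      have : s ∈ T.comap π ⊓ (S' : Subgroup H) := ⟨ht, hs⟩
      rw [hbot] at this
      rw [Subgroup.mem_bot.mp this, map_one]
    · rintro x ⟨hxT, hxS⟩ g hg
      refine ⟨?_, hg⟩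
      show π (g * x * g⁻¹) ∈ T
      rw [map_mul, map_mul, map_inv]
      apply hcl _ hxT
      rw [← map_inv, ← map_mul, ← map_mul, hS]
      exact ⟨_, hg, rfl⟩
  · -- generation
    intro g hg
    obtain ⟨g', rfl⟩ := hπ g
    rw [hS] at hg
    have hg' := mem_normalizer_of_map p π hker hcop S' hg
    have h1 : π g' ∈ (Subgroup.closure (((S' : Subgroup H) : Set H) ∪
        {h : H | GoodElt p (S' : Subgroup H) h})).map π := ⟨g', hgen hg', rfl⟩
    rw [MonoidHom.map_closure] at h1
    refine Subgroup.closure_mono ?_ h1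
    rintro _ ⟨x, hx | hx, rfl⟩
    · left
      show π x ∈ (S : Subgroup G)
      rw [hS]
      exact ⟨x, hx, rfl⟩
    · right
      show GoodElt p (S : Subgroup G) (π x)
      rw [hS]
      exact goodElt_map p π hcop S' hx

end Cfsg.Agent.Lib.Helper27.FusSimpleQuot
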