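import Mathlib
import Cfsg.Agent.Lib.helper14.SpBNm
import Cfsg.Agent.Lib.Helper16.SPA3
import Cfsg.Agent.Lib.Helper16.SympTrans
import Cfsg.Agent.S0246
import Cfsg.Agent.Lib.Helper27.FusSimpleQuot

set_option autoImplicit false

/-! The unitriangular subgroup of `Sp_{2m}(K)` as a Sylow subgroup, its normalizer, and the order
of the centre. -/

namespace Cfsg.Agent.Lib.Helper27.SpFus

open Matrix Cfsg.Agent.Lib.helper6 Cfsg.Agent.Lib.Helper26 Cfsg.Agent.Lib.Helper16.SPA
open Cfsg.Agent.Lib.helper14.SpBN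

universe u
variable {K : Type u} [Field K] [Fintype K] {m : ℕ}

/-- in a finite group, an element conjugating a subgroup into itself normalizes it -/
theorem mem_normalizer_of_conj_mem {G : Type*} [Group G] [Finite G] (R : Subgroup G) (g : G)
    (h : ∀ r ∈ R, g * r * g⁻¹ ∈ R) : g ∈ Subgroup.normalizer (R : Set G) := by
  rw [Subgroup.mem_normalizer_iff_map_conj_eq]
  have hle : R.map (MulAut.conj g).toMonoidHom ≤ R := by
    rintro _ ⟨r, hr, rfl⟩
    exact h r hr
  refine Subgroup.eq_of_le_of_card_ge hle ?_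
  rw [Subgroup.card_map_of_injective (MulAut.conj g).injective]

theorem card_Uup_ppart (hm : 0 < m) (p : ℕ) [Fact p.Prime] [CharP K p] :
    Nat.card ↥(Uup m K) = p ^ (Nat.card ↥(Matrix.symplecticGroup (Fin m) K)).factorization p := by
  have hp : p.Prime := Fact.out
  obtain ⟨a, r, h1, h2, h3⟩ := card_sp_ppart (F := K) hm p
  have e : Nat.card ((Uup m K).subgroupOf (Bsp m K)) = Nat.card ↥(Uup m K) :=
    Nat.card_congr (Subgroup.subgroupOfEquivOfLe (Uup_le_Bsp (m := m) (F := K))).toEquiv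
  rw [e] at h1
  have hr0 : r ≠ 0 := fun h0 => h3 (h0 ▸ dvd_zero p)
  have hpa0 : p ^ a ≠ 0 := pow_ne_zero _ hp.ne_zero
  rw [h1, h2, Nat.factorization_mul hpa0 hr0]
  simp only [Finsupp.coe_add, Pi.add_apply]
  rw [Nat.factorization_eq_zero_of_not_dvd h3, add_zero, hp.factorization_pow]
  simp

/-- the unitriangular subgroup as a Sylow subgroup -/
noncomputable def uSylow (hm : 0 < m) (p : ℕ) [Fact p.Prime] [CharP K p] :
    Sylow p ↥(Matrix.symplecticGroup (Fin m) K) :=
  Sylow.ofCard (Uup m K) (card_Uup_ppart hm p)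

theorem coe_uSylow (hm : 0 < m) (p : ℕ) [Fact p.Prime] [CharP K p] :
    ((uSylow (K := K) hm p : Sylow p ↥(Matrix.symplecticGroup (Fin m) K)) :
      Subgroup ↥(Matrix.symplecticGroup (Fin m) K)) = Uup m K := rfl

/-- the two descriptions of the unitriangular subgroup agree -/
theorem Usp_eq_Uup (hm : 0 < m) (p : ℕ) [Fact p.Prime] [CharP K p] : Usp m K = Uup m K := by
  have h1 : Uup m K ≤ Usp m K := Uup_le_Usp
  have h2 := (uSylow (K := K) hm p).is_maximal' (Usp_isPGroup (m := m) (F := K) p)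
    (by rw [coe_uSylow]; exact h1)
  rw [coe_uSylow] at h2
  exact h2

/-- the normalizer of the unitriangular subgroup is upper triangular -/
theorem normalizer_Uup_le (hm : 0 < m) :
    Subgroup.normalizer ((Uup m K : Subgroup ↥(Matrix.symplecticGroup (Fin m) K)) : Set _) ≤
      Bsp m K := by
  intro g hg
  apply mem_Bsp_of_fixed hm
  intro u hu
  apply Uup_le_Bsp
  have hg' := Subgroup.inv_mem _ hg
  have := (Subgroup.mem_normalizer_iff.mp hg' u).mp hu
  rwa [inv_inv] at this

theorem Bsp_le_normalizer_Uup :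
    Bsp m K ≤
      Subgroup.normalizer ((Uup m K : Subgroup ↥(Matrix.symplecticGroup (Fin m) K)) : Set _) := by
  intro b hb
  apply mem_normalizer_of_conj_mem
  intro u hu
  exact Uup_conj_mem b u hb hu

/-- the centre of `Sp_{2m}(K)` has order prime to the characteristic -/
theorem center_coprime (hm : 1 ≤ m) (p : ℕ) [Fact p.Prime] [CharP K p] :
    (Nat.card (Subgroup.center ↥(Matrix.symplecticGroup (Fin m) K))).Coprime p := by
  have hp : p.Prime := Fact.out
  rw [Cfsg.Agent.S0246.result (F := K) rfl m hm]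
  rw [Nat.coprime_comm, Nat.Prime.coprime_iff_not_dvd hp]
  intro hdvd
  have h2 : p ∣ 2 := hdvd.trans (Nat.gcd_dvd_left _ _)
  have hp2 : p = 2 := (Nat.prime_dvd_prime_iff_eq hp Nat.prime_two).mp h2
  have h3 : p ∣ Fintype.card K - 1 := hdvd.trans (Nat.gcd_dvd_right _ _)
  obtain ⟨n, _, hn⟩ := FiniteField.card K p
  have h4 : p ∣ Fintype.card K := by
    rw [hn]
    exact dvd_pow_self p n.ne_zero
  have h5 : 1 ≤ Fintype.card K := Fintype.card_pos
  have h6 : p ∣ 1 := by
    have := Nat.dvd_sub h4 h3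
    rwa [Nat.sub_sub_self h5] at this
  exact hp.one_lt.ne' (Nat.dvd_one.mp h6)

end Cfsg.Agent.Lib.Helper27.SpFus
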