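import Cfsg.Agent.Lib.helper15.UD.Defs

/-!
# Project UD (S5655, leader helper15), piece REAL : core (helper27)

`real_core` : the statement of `real` with the conclusions of HYP, PERPA, PERPB (for the given `W`) as hypotheses.
-/

set_option autoImplicit false
set_option linter.unusedVariables false
set_option linter.unusedSectionVars false

namespace Cfsg.Agent.Lib.helper15.UD

open Matrix Cfsg.Agent.Lib.Helper28 Cfsg.Agent.Lib.Helper29.ExtrL

variable {n q : ℕ} {F : Type*} [Field F] [Fintype F] {σ : F ≃+* F}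

section blockB
variable {f : (Fin n → F) → (Fin n → F) → F}

/-- REAL with HYP / PERPA / PERPB as hypotheses -/
theorem real_core (hf : Cfsg.Geo.IsUnitaryForm σ f) (W : Submodule F (Fin n → F))
    (Hhyp : ∀ c ∈ W, c ≠ 0 → f c c = 0 → ∃ d ∈ W, f d d = 0 ∧ f c d = 1)
    (Hpa : 2 ≤ Module.finrank F W → ∀ c ∈ W, f c c ≠ 0 → ∃ d ∈ W, f d c = 0 ∧ f d d ≠ 0)
    (Hpb : 3 ≤ Module.finrank F W → ∀ c ∈ W, c ≠ 0 → f c c = 0 → ∃ d ∈ W, f d c = 0 ∧ f d d ≠ 0)
    (hk : 2 ≤ Module.finrank F W) (c : Fin n → F)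
    (hcW : c ∈ W) (hc0 : c ≠ 0) (s ν : F) (hν : σ ν = ν) (hs : Module.finrank F W = 2 → s ≠ 0) :
    ∃ x ∈ W, f x c = s ∧ f x x = ν := by
  by_cases hcc : f c c = 0
  · by_cases hs0 : s = 0
    · -- `x = y • d`
      have h3 : 3 ≤ Module.finrank F W := by
        rcases Nat.lt_or_ge (Module.finrank F W) 3 with h | h
        · exact absurd hs0 (hs (by omega))
        · exact h
      obtain ⟨d, hdW, hdc, hdd⟩ := Hpb h3 c hcW hc0 hcc
      have hddfix : σ (f d d) = f d d := UForm.f_self_fixed hf d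
      obtain ⟨y, hy⟩ := UForm.norm_surj hf (ν / f d d) (by rw [map_div₀, hν, hddfix])
      refine ⟨y • d, W.smul_mem y hdW, ?_, ?_⟩
      · rw [hf.smul_left, hdc, mul_zero, hs0]
      · rw [hf.smul_left, UForm.f_smul_right hf]
        rw [← mul_assoc, hy]
        field_simp
    · -- `x = α • c + s • c'`
      obtain ⟨c', hc'W, hc'c', hcc'⟩ := Hhyp c hcW hc0 hcc
      obtain ⟨β, hβ⟩ := UForm.trace_surj hf ν hν
      have hσs : σ s ≠ 0 := fun h => hs0 (by simpa using h)
      have hc'c : f c' c = 1 := by rw [hf.herm, hcc', map_one]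
      refine ⟨(β / σ s) • c + s • c', W.add_mem (W.smul_mem _ hcW) (W.smul_mem _ hc'W), ?_, ?_⟩
      · rw [hf.add_left, hf.smul_left, hf.smul_left, hcc, hc'c, mul_zero, zero_add, mul_one]
      · rw [hf.add_left, hf.smul_left, hf.smul_left, UForm.f_add_right hf, UForm.f_add_right hf,
          UForm.f_smul_right hf, UForm.f_smul_right hf, UForm.f_smul_right hf, UForm.f_smul_right hf,
          hcc, hc'c', hcc', hc'c, ← hβ, map_div₀, hf.involutive]
        field_simp
        ring
  · -- `x = (s / f c c) • c + y • d`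
    obtain ⟨d, hdW, hdc, hdd⟩ := Hpa hk c hcW hcc
    have hddfix : σ (f d d) = f d d := UForm.f_self_fixed hf d
    have hccfix : σ (f c c) = f c c := UForm.f_self_fixed hf c
    have hcd : f c d = 0 := UForm.f_swap_zero hf hdc
    obtain ⟨y, hy⟩ := UForm.norm_surj hf ((ν - s * σ s / f c c) / f d d) (by
      rw [map_div₀, map_sub, map_div₀, map_mul, hν, hddfix, hccfix, hf.involutive, mul_comm (σ s) s])
    refine ⟨(s / f c c) • c + y • d, W.add_mem (W.smul_mem _ hcW) (W.smul_mem _ hdW), ?_, ?_⟩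
    · rw [hf.add_left, hf.smul_left, hf.smul_left, hdc, mul_zero, add_zero]
      field_simp
    · rw [hf.add_left, hf.smul_left, hf.smul_left, UForm.f_add_right hf, UForm.f_add_right hf,
        UForm.f_smul_right hf, UForm.f_smul_right hf, UForm.f_smul_right hf, UForm.f_smul_right hf,
        hcd, hdc, map_div₀, hccfix]
      have hy' : y * (σ y * f d d) = ν - s * σ s / f c c := by
        rw [← mul_assoc, hy]
        field_simp
      rw [mul_zero, mul_zero, add_zero, zero_add, hy']
      field_simp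
      ring

end blockB

end Cfsg.Agent.Lib.helper15.UD
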