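import Cfsg.Agent.Lib.helper15.UD.Defs
import Cfsg.Agent.Lib.Helper27.UDREALcore
import Cfsg.Agent.Lib.helper4.UDPERPA
import Cfsg.Agent.Lib.helper4.UDPERPB

/-!
# Project UD (S5655, leader helper15), piece REAL (helper27): `real`, verbatim statement of the skeleton

`real_core` with PERPA, PERPB (helper4) plugged in; the hyperbolic partner is taken from `perpb_hyp` (helper4's copy of the content of HYP),
so this file does not wait for the piece HYP.
-/

set_option autoImplicit false
set_option linter.unusedVariables false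
set_option linter.unusedSectionVars false

namespace Cfsg.Agent.Lib.helper15.UD

open Matrix Cfsg.Agent.Lib.Helper28 Cfsg.Agent.Lib.Helper29.ExtrL

variable {n q : ℕ} {F : Type*} [Field F] [Fintype F] {σ : F ≃+* F}

section blockB
variable {f : (Fin n → F) → (Fin n → F) → F}

/-- REAL [M] realisation: a vector of `W` with prescribed product with `c ≠ 0` and prescribed norm. -/
theorem real (hf : Cfsg.Geo.IsUnitaryForm σ f) (W : Submodule F (Fin n → F))
    (hW : Cfsg.Geo.IsNondegenerateOn f W) (hk : 2 ≤ Module.finrank F W) (c : Fin n → F)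
    (hcW : c ∈ W) (hc0 : c ≠ 0) (s ν : F) (hν : σ ν = ν) (hs : Module.finrank F W = 2 → s ≠ 0) :
    ∃ x ∈ W, f x c = s ∧ f x x = ν :=
  real_core hf W (fun c hcW hc0 hcc => perpb_hyp hf W hW c hcW hc0 hcc)
    (fun hk c hcW hcc => perp_noniso hf W hW hk c hcW hcc)
    (fun hk c hcW hc0 hcc => perp_noniso' hf W hW hk c hcW hc0 hcc)
    hk c hcW hc0 s ν hν hs

end blockB

end Cfsg.Agent.Lib.helper15.UD
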