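import Cfsg.Agent.Lib.helper7.TP.Defs

/-!
# Project TP (S5637, leader helper7), piece PGRP : core (helper27)

`tppgrp_core` : the statement of `pgroup_le` with the statements of `sqzero_kron` (C1) and `stab_of_nt` (STAB) as hypotheses.
-/

set_option autoImplicit false
set_option linter.unusedVariables false

namespace Cfsg.Agent.Lib.helper7.TP

open Matrix
open scoped Kronecker

variable {a b : ℕ} {F : Type*} [Field F]

/-- `ELm 1 w ψ = 1 ⊗ (1 + w ψᵀ)` -/
theorem tppgrp_ELm_one (w ψ : Fin b → F) :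
    ELm (1 : Matrix (Fin a) (Fin a) F) w ψ =
      (1 : Matrix (Fin a) (Fin a) F) ⊗ₖ ((1 : Matrix (Fin b) (Fin b) F) + Matrix.vecMulVec w ψ) := by
  rw [ELm, Matrix.kronecker_add, Matrix.one_kronecker_one]

/-- `(w ψᵀ)(w ψᵀ) = 0` for `ψ · w = 0` -/
theorem tppgrp_vmv_sq (w ψ : Fin b → F) (h : ψ ⬝ᵥ w = 0) :
    Matrix.vecMulVec w ψ * Matrix.vecMulVec w ψ = 0 := by
  ext i k
  simp only [Matrix.mul_apply, Matrix.vecMulVec_apply, Matrix.zero_apply]
  have : ∑ x, w i * ψ x * (w x * ψ k) = w i * ψ k * ∑ x, ψ x * w x := by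
    rw [Finset.mul_sum]
    apply Finset.sum_congr rfl
    intro x _
    ring
  rw [this]
  have h' : ∑ x, ψ x * w x = 0 := h
  rw [h', mul_zero]

/-- the `B`-transvection `EL 1 w ψ` lies in `K0` -/
theorem tppgrp_EL_mem_K0 (w ψ : Fin b → F) (h : ψ ⬝ᵥ w = 0) :
    EL (1 : Matrix (Fin a) (Fin a) F) w ψ h ∈ K0 a b F := by
  rw [mem_K0]
  have hsq := tppgrp_vmv_sq w ψ h
  refine ⟨1, ⟨1 + Matrix.vecMulVec w ψ, 1 - Matrix.vecMulVec w ψ, ?_, ?_⟩, ?_⟩
  · rw [add_mul, mul_sub, mul_sub, one_mul, mul_one, one_mul, hsq]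
    abel
  · rw [sub_mul, mul_add, mul_add, one_mul, mul_one, one_mul, hsq]
    abel
  · rw [EL_coe, tppgrp_ELm_one]
    rfl

/-- `(x - 1) v = (ctr ψ v) ⊗ w` for `x = ELm 1 w ψ` -/
theorem tppgrp_sub_one_mulVec (w ψ : Fin b → F) (v : Fin a × Fin b → F) :
    (ELm (1 : Matrix (Fin a) (Fin a) F) w ψ - 1) *ᵥ v = ten (ctr ψ v) w := by
  rw [Matrix.sub_mulVec, ELm_mulVec, Matrix.one_mulVec, Matrix.one_mulVec, add_sub_cancel_left]

/-- `(x - 1)² = 0` -/
theorem tppgrp_sub_one_sq (w ψ : Fin b → F) (h : ψ ⬝ᵥ w = 0) :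
    (ELm (1 : Matrix (Fin a) (Fin a) F) w ψ - 1) * (ELm (1 : Matrix (Fin a) (Fin a) F) w ψ - 1) = 0 := by
  rw [Matrix.ext_iff_mulVec]
  intro v
  rw [← Matrix.mulVec_mulVec, tppgrp_sub_one_mulVec, tppgrp_sub_one_mulVec, ctr_ten, h, zero_smul,
    Matrix.zero_mulVec]
  funext p
  simp [ten]

/-- a vector `w₂` with `ψ · w₂ = 1` -/
theorem tppgrp_dual (ψ : Fin b → F) (hψ : ψ ≠ 0) : ∃ w₂ : Fin b → F, ψ ⬝ᵥ w₂ = 1 := by
  have : ∃ i, ψ i ≠ 0 := by
    by_contra hcon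
    push Not at hcon
    exact hψ (funext hcon)
  obtain ⟨i, hi⟩ := this
  refine ⟨Pi.single i (ψ i)⁻¹, ?_⟩
  rw [dotProduct_single, mul_inv_cancel₀ hi]

/-- `rank (x - 1) = a` -/
theorem tppgrp_rank (w ψ : Fin b → F) (hw : w ≠ 0) (hψ : ψ ≠ 0) :
    (ELm (1 : Matrix (Fin a) (Fin a) F) w ψ - 1).rank = a := by
  classical
  obtain ⟨w₂, hw₂⟩ := tppgrp_dual ψ hψ
  let τ : (Fin a → F) →ₗ[F] (Fin a × Fin b → F) :=
    { toFun := fun u => ten u w
      map_add' := fun u u' => ten_add_left u u' w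
      map_smul' := fun c u => ten_smul_left c u w }
  have hτinj : Function.Injective τ := by
    intro u u' huu
    have : ∃ j, w j ≠ 0 := by
      by_contra hcon
      push Not at hcon
      exact hw (funext hcon)
    obtain ⟨j, hj⟩ := this
    funext i
    have := congrFun huu (i, j)
    simp only [τ, LinearMap.coe_mk, AddHom.coe_mk, ten] at this
    exact mul_right_cancel₀ hj this
  have hrange : LinearMap.range (ELm (1 : Matrix (Fin a) (Fin a) F) w ψ - 1).mulVecLin =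
      LinearMap.range τ := by
    ext v
    constructor
    · rintro ⟨v', rfl⟩
      rw [Matrix.mulVecLin_apply, tppgrp_sub_one_mulVec]
      exact ⟨ctr ψ v', rfl⟩
    · rintro ⟨u, rfl⟩
      refine ⟨ten u w₂, ?_⟩
      rw [Matrix.mulVecLin_apply, tppgrp_sub_one_mulVec, ctr_ten, hw₂, one_smul]
      rfl
  rw [Matrix.rank, hrange, LinearMap.finrank_range_of_inj hτinj, Module.finrank_fin_fun]

/-- PGRP with the statements of C1 (`sqzero_kron`) and STAB (`stab_of_nt`) as hypotheses -/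
theorem tppgrp_core [Fintype F] (p : ℕ) [Fact p.Prime] [CharP F p] (ha : 1 ≤ a) (hab : a < b)
    (hb : 3 ≤ b) (M : Subgroup (Matrix.GeneralLinearGroup (Fin a × Fin b) F)) (hTM : T0 a b F ≤ M)
    (hMS : M ≤ Cfsg.Geo.specialLinear (Fin a × Fin b) F) (hNT : NT M)
    (hC1 : ∀ (t : Matrix.GeneralLinearGroup (Fin a × Fin b) F), t ∈ K0 a b F →
      ((t : Matrix (Fin a × Fin b) (Fin a × Fin b) F) - 1) *
        ((t : Matrix (Fin a × Fin b) (Fin a × Fin b) F) - 1) = 0 →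
      ((t : Matrix (Fin a × Fin b) (Fin a × Fin b) F) - 1).rank = a →
      ∃ w' : Fin b → F, w' ≠ 0 ∧ ∀ v : Fin a × Fin b → F,
        (∃ v' : Fin a × Fin b → F,
          v = ((t : Matrix (Fin a × Fin b) (Fin a × Fin b) F) - 1) *ᵥ v') ↔ v ∈ Bline (a := a) w')
    (hSTAB : ∀ (w w' : Fin b → F), w ≠ 0 → w' ≠ 0 →
      ∀ g : Matrix.GeneralLinearGroup (Fin a × Fin b) F, g ∈ M →
      (∀ u : Fin a → F, ∃ u' : Fin a → F,
        (g : Matrix (Fin a × Fin b) (Fin a × Fin b) F) *ᵥ ten u w = ten u' w') →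
      g ∈ K0 a b F)
    (Q : Subgroup (Matrix.GeneralLinearGroup (Fin a × Fin b) F)) (hQM : Q ≤ M) (hQ : IsPGroup p Q)
    (w ψ : Fin b → F) (hw : w ≠ 0) (hψ : ψ ≠ 0) (hψw : ψ ⬝ᵥ w = 0)
    (hx : EL (1 : Matrix (Fin a) (Fin a) F) w ψ hψw ∈ Q) : Q ≤ K0 a b F := by
  classical
  by_contra hcon
  have : Group.IsNilpotent Q := hQ.isNilpotent
  have hnc : NormalizerCondition Q := Group.normalizerCondition_of_isNilpotent
  set H : Subgroup Q := (K0 a b F).subgroupOf Q with hH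
  have hHlt : H < ⊤ := by
    rw [lt_top_iff_ne_top]
    intro htop
    apply hcon
    intro y hy
    have : (⟨y, hy⟩ : Q) ∈ H := by rw [htop]; exact Subgroup.mem_top _
    exact Subgroup.mem_subgroupOf.mp this
  obtain ⟨hle, hnle⟩ := (hnc H hHlt)
  obtain ⟨v', hv'N, hv'H⟩ := SetLike.not_le_iff_exists.mp hnle
  have hvK : (v' : Matrix.GeneralLinearGroup (Fin a × Fin b) F) ∉ K0 a b F := fun h =>
    hv'H (Subgroup.mem_subgroupOf.mpr h)
  set v : Matrix.GeneralLinearGroup (Fin a × Fin b) F := v'.1 with hv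
  set x : Matrix.GeneralLinearGroup (Fin a × Fin b) F := EL (1 : Matrix (Fin a) (Fin a) F) w ψ hψw
    with hxdef
  have hxH : (⟨x, hx⟩ : Q) ∈ H := Subgroup.mem_subgroupOf.mpr (tppgrp_EL_mem_K0 w ψ hψw)
  have htH := (Subgroup.mem_normalizer_iff.mp hv'N ⟨x, hx⟩).mp hxH
  have htK : v * x * v⁻¹ ∈ K0 a b F := Subgroup.mem_subgroupOf.mp htH
  -- the matrix of `t - 1`
  have hvv : (v : Matrix (Fin a × Fin b) (Fin a × Fin b) F) *
      ((v⁻¹ : Matrix.GeneralLinearGroup (Fin a × Fin b) F) :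
        Matrix (Fin a × Fin b) (Fin a × Fin b) F) = 1 := by
    rw [← Units.val_mul, mul_inv_cancel, Units.val_one]
  have hvv' : ((v⁻¹ : Matrix.GeneralLinearGroup (Fin a × Fin b) F) :
        Matrix (Fin a × Fin b) (Fin a × Fin b) F) *
      (v : Matrix (Fin a × Fin b) (Fin a × Fin b) F) = 1 := by
    rw [← Units.val_mul, inv_mul_cancel, Units.val_one]
  have ht1 : ((v * x * v⁻¹ : Matrix.GeneralLinearGroup (Fin a × Fin b) F) :
      Matrix (Fin a × Fin b) (Fin a × Fin b) F) - 1 =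
      (v : Matrix (Fin a × Fin b) (Fin a × Fin b) F) *
        (ELm (1 : Matrix (Fin a) (Fin a) F) w ψ - 1) *
        ((v⁻¹ : Matrix.GeneralLinearGroup (Fin a × Fin b) F) :
          Matrix (Fin a × Fin b) (Fin a × Fin b) F) := by
    rw [Units.val_mul, Units.val_mul, hxdef, EL_coe, mul_sub, sub_mul, mul_one, hvv]
  have hsq : (((v * x * v⁻¹ : Matrix.GeneralLinearGroup (Fin a × Fin b) F) :
      Matrix (Fin a × Fin b) (Fin a × Fin b) F) - 1) *
      (((v * x * v⁻¹ : Matrix.GeneralLinearGroup (Fin a × Fin b) F) :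
      Matrix (Fin a × Fin b) (Fin a × Fin b) F) - 1) = 0 := by
    rw [ht1]
    calc (v : Matrix (Fin a × Fin b) (Fin a × Fin b) F) *
          (ELm (1 : Matrix (Fin a) (Fin a) F) w ψ - 1) *
          ((v⁻¹ : Matrix.GeneralLinearGroup (Fin a × Fin b) F) :
            Matrix (Fin a × Fin b) (Fin a × Fin b) F) *
          ((v : Matrix (Fin a × Fin b) (Fin a × Fin b) F) *
          (ELm (1 : Matrix (Fin a) (Fin a) F) w ψ - 1) *
          ((v⁻¹ : Matrix.GeneralLinearGroup (Fin a × Fin b) F) :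
            Matrix (Fin a × Fin b) (Fin a × Fin b) F))
        = (v : Matrix (Fin a × Fin b) (Fin a × Fin b) F) *
          ((ELm (1 : Matrix (Fin a) (Fin a) F) w ψ - 1) *
          (((v⁻¹ : Matrix.GeneralLinearGroup (Fin a × Fin b) F) :
            Matrix (Fin a × Fin b) (Fin a × Fin b) F) *
          (v : Matrix (Fin a × Fin b) (Fin a × Fin b) F)) *
          (ELm (1 : Matrix (Fin a) (Fin a) F) w ψ - 1)) *
          ((v⁻¹ : Matrix.GeneralLinearGroup (Fin a × Fin b) F) :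
            Matrix (Fin a × Fin b) (Fin a × Fin b) F) := by
          simp only [mul_assoc]
      _ = 0 := by
          rw [hvv', mul_one, tppgrp_sub_one_sq w ψ hψw, mul_zero, zero_mul]
  have hdetv : IsUnit (v : Matrix (Fin a × Fin b) (Fin a × Fin b) F).det :=
    (Matrix.isUnit_iff_isUnit_det _).mp (Units.isUnit v)
  have hdetvi : IsUnit ((v⁻¹ : Matrix.GeneralLinearGroup (Fin a × Fin b) F) :
      Matrix (Fin a × Fin b) (Fin a × Fin b) F).det :=
    (Matrix.isUnit_iff_isUnit_det _).mp (Units.isUnit v⁻¹)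
  have hrk : (((v * x * v⁻¹ : Matrix.GeneralLinearGroup (Fin a × Fin b) F) :
      Matrix (Fin a × Fin b) (Fin a × Fin b) F) - 1).rank = a := by
    rw [ht1, Matrix.rank_mul_eq_left_of_isUnit_det _ _ hdetvi,
      Matrix.rank_mul_eq_right_of_isUnit_det _ _ hdetv, tppgrp_rank w ψ hw hψ]
  obtain ⟨w', hw', hiff⟩ := hC1 (v * x * v⁻¹) htK hsq hrk
  obtain ⟨w₂, hw₂⟩ := tppgrp_dual ψ hψ
  apply hvK
  apply hSTAB w w' hw hw' v (hQM v'.2)
  intro u
  have hmem : (v : Matrix (Fin a × Fin b) (Fin a × Fin b) F) *ᵥ ten u w ∈ Bline (a := a) w' := by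
    apply (hiff _).mp
    refine ⟨(v : Matrix (Fin a × Fin b) (Fin a × Fin b) F) *ᵥ ten u w₂, ?_⟩
    rw [ht1, Matrix.mulVec_mulVec, Matrix.mul_assoc, hvv', Matrix.mul_one, ← Matrix.mulVec_mulVec,
      tppgrp_sub_one_mulVec, ctr_ten, hw₂, one_smul]
  exact (mem_Bline w' _).mp hmem

end Cfsg.Agent.Lib.helper7.TP
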