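import Cfsg.Agent.Lib.helper6.UTP.Defs
import Cfsg.Agent.Lib.Helper27.TPPGRPcore

/-!
# Project UTP (S5670, leader helper6), piece PGRP : core (helper27)

`utppgrp_gen` : the form-free version of `Helper27.TPPGRPcore.tppgrp_core` (no hypotheses on `M`).
`utppgrp_core` : the statement of `pgroup_le_u` with the statements of `sqzero_kron_gen` (C1G) and `stab_u` (STAB) as hypotheses.
-/

set_option autoImplicit false
set_option linter.unusedVariables false
set_option linter.unusedSectionVars false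

namespace Cfsg.Agent.Lib.helper6.UTP

open Matrix
open scoped Kronecker
open Cfsg.Agent.Lib.helper7.TP

variable {F : Type*} [Field F] {a b : ℕ}

/-- the form-free normaliser-growth argument: a `p`-group `Q` containing the `B`-transvection `EL 1 w ψ`, such that C1 holds for
the conjugates and every element of `Q` mapping `A ⊗ w` into a `B`-line is in `K0`, lies in `K0`. -/
theorem utppgrp_gen [Fintype F] (p : ℕ) [Fact p.Prime] [CharP F p]
    (hC1 : ∀ (t : Matrix.GeneralLinearGroup (Fin a × Fin b) F), t ∈ K0 a b F →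
      ((t : Matrix (Fin a × Fin b) (Fin a × Fin b) F) - 1) *
        ((t : Matrix (Fin a × Fin b) (Fin a × Fin b) F) - 1) = 0 →
      ((t : Matrix (Fin a × Fin b) (Fin a × Fin b) F) - 1).rank = a →
      ∃ w' : Fin b → F, w' ≠ 0 ∧ ∀ v : Fin a × Fin b → F,
        (∃ v' : Fin a × Fin b → F,
          v = ((t : Matrix (Fin a × Fin b) (Fin a × Fin b) F) - 1) *ᵥ v') ↔ v ∈ Bline (a := a) w')
    (Q : Subgroup (Matrix.GeneralLinearGroup (Fin a × Fin b) F)) (hQ : IsPGroup p Q)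
    (w ψ : Fin b → F) (hw : w ≠ 0) (hψ : ψ ≠ 0) (hψw : ψ ⬝ᵥ w = 0)
    (hSTAB : ∀ (w' : Fin b → F), w' ≠ 0 →
      ∀ g : Matrix.GeneralLinearGroup (Fin a × Fin b) F, g ∈ Q →
      (∀ u : Fin a → F, ∃ u' : Fin a → F,
        (g : Matrix (Fin a × Fin b) (Fin a × Fin b) F) *ᵥ ten u w = ten u' w') →
      g ∈ K0 a b F)
    (hx : EL (1 : Matrix (Fin a) (Fin a) F) w ψ hψw ∈ Q) : Q ≤ K0 a b F := by
  classical
  by_contra hcon
  have : Group.IsNilpotent Q := hQ.isNilpotent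
  have hnc : NormalizerCondition Q := Group.normalizerCondition_of_isNilpotent
  set H : Subgroup Q := (K0 a b F).subgroupOf Q with hH
  have hHlt : H < ⊤ := by
    rw [lt_top_iff_ne_top]
    intro htop
    apply hcon
    intro y hy
    have : (⟨y, hy⟩ : Q) ∈ H := by rw [htop]; exact Subgroup.mem_top _
    exact Subgroup.mem_subgroupOf.mp this
  obtain ⟨hle, hnle⟩ := (hnc H hHlt)
  obtain ⟨v', hv'N, hv'H⟩ := SetLike.not_le_iff_exists.mp hnle
  have hvK : (v' : Matrix.GeneralLinearGroup (Fin a × Fin b) F) ∉ K0 a b F := fun h =>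
    hv'H (Subgroup.mem_subgroupOf.mpr h)
  set v : Matrix.GeneralLinearGroup (Fin a × Fin b) F := v'.1 with hv
  set x : Matrix.GeneralLinearGroup (Fin a × Fin b) F := EL (1 : Matrix (Fin a) (Fin a) F) w ψ hψw
    with hxdef
  have hxH : (⟨x, hx⟩ : Q) ∈ H := Subgroup.mem_subgroupOf.mpr (tppgrp_EL_mem_K0 w ψ hψw)
  have htH := (Subgroup.mem_normalizer_iff.mp hv'N ⟨x, hx⟩).mp hxH
  have htK : v * x * v⁻¹ ∈ K0 a b F := Subgroup.mem_subgroupOf.mp htH
  -- the matrix of `t - 1`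
  have hvv : (v : Matrix (Fin a × Fin b) (Fin a × Fin b) F) *
      ((v⁻¹ : Matrix.GeneralLinearGroup (Fin a × Fin b) F) :
        Matrix (Fin a × Fin b) (Fin a × Fin b) F) = 1 := by
    rw [← Units.val_mul, mul_inv_cancel, Units.val_one]
  have hvv' : ((v⁻¹ : Matrix.GeneralLinearGroup (Fin a × Fin b) F) :
        Matrix (Fin a × Fin b) (Fin a × Fin b) F) *
      (v : Matrix (Fin a × Fin b) (Fin a × Fin b) F) = 1 := by
    rw [← Units.val_mul, inv_mul_cancel, Units.val_one]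
  have ht1 : ((v * x * v⁻¹ : Matrix.GeneralLinearGroup (Fin a × Fin b) F) :
      Matrix (Fin a × Fin b) (Fin a × Fin b) F) - 1 =
      (v : Matrix (Fin a × Fin b) (Fin a × Fin b) F) *
        (ELm (1 : Matrix (Fin a) (Fin a) F) w ψ - 1) *
        ((v⁻¹ : Matrix.GeneralLinearGroup (Fin a × Fin b) F) :
          Matrix (Fin a × Fin b) (Fin a × Fin b) F) := by
    rw [Units.val_mul, Units.val_mul, hxdef, EL_coe, mul_sub, sub_mul, mul_one, hvv]
  have hsq : (((v * x * v⁻¹ : Matrix.GeneralLinearGroup (Fin a × Fin b) F) :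
      Matrix (Fin a × Fin b) (Fin a × Fin b) F) - 1) *
      (((v * x * v⁻¹ : Matrix.GeneralLinearGroup (Fin a × Fin b) F) :
      Matrix (Fin a × Fin b) (Fin a × Fin b) F) - 1) = 0 := by
    rw [ht1]
    calc (v : Matrix (Fin a × Fin b) (Fin a × Fin b) F) *
          (ELm (1 : Matrix (Fin a) (Fin a) F) w ψ - 1) *
          ((v⁻¹ : Matrix.GeneralLinearGroup (Fin a × Fin b) F) :
            Matrix (Fin a × Fin b) (Fin a × Fin b) F) *
          ((v : Matrix (Fin a × Fin b) (Fin a × Fin b) F) *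
          (ELm (1 : Matrix (Fin a) (Fin a) F) w ψ - 1) *
          ((v⁻¹ : Matrix.GeneralLinearGroup (Fin a × Fin b) F) :
            Matrix (Fin a × Fin b) (Fin a × Fin b) F))
        = (v : Matrix (Fin a × Fin b) (Fin a × Fin b) F) *
          ((ELm (1 : Matrix (Fin a) (Fin a) F) w ψ - 1) *
          (((v⁻¹ : Matrix.GeneralLinearGroup (Fin a × Fin b) F) :
            Matrix (Fin a × Fin b) (Fin a × Fin b) F) *
          (v : Matrix (Fin a × Fin b) (Fin a × Fin b) F)) *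
          (ELm (1 : Matrix (Fin a) (Fin a) F) w ψ - 1)) *
          ((v⁻¹ : Matrix.GeneralLinearGroup (Fin a × Fin b) F) :
            Matrix (Fin a × Fin b) (Fin a × Fin b) F) := by
          simp only [mul_assoc]
      _ = 0 := by
          rw [hvv', mul_one, tppgrp_sub_one_sq w ψ hψw, mul_zero, zero_mul]
  have hdetv : IsUnit (v : Matrix (Fin a × Fin b) (Fin a × Fin b) F).det :=
    (Matrix.isUnit_iff_isUnit_det _).mp (Units.isUnit v)
  have hdetvi : IsUnit ((v⁻¹ : Matrix.GeneralLinearGroup (Fin a × Fin b) F) :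
      Matrix (Fin a × Fin b) (Fin a × Fin b) F).det :=
    (Matrix.isUnit_iff_isUnit_det _).mp (Units.isUnit v⁻¹)
  have hrk : (((v * x * v⁻¹ : Matrix.GeneralLinearGroup (Fin a × Fin b) F) :
      Matrix (Fin a × Fin b) (Fin a × Fin b) F) - 1).rank = a := by
    rw [ht1, Matrix.rank_mul_eq_left_of_isUnit_det _ _ hdetvi,
      Matrix.rank_mul_eq_right_of_isUnit_det _ _ hdetv, tppgrp_rank w ψ hw hψ]
  obtain ⟨w', hw', hiff⟩ := hC1 (v * x * v⁻¹) htK hsq hrk
  obtain ⟨w₂, hw₂⟩ := tppgrp_dual ψ hψ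
  apply hvK
  apply hSTAB w' hw' v v'.2
  intro u
  have hmem : (v : Matrix (Fin a × Fin b) (Fin a × Fin b) F) *ᵥ ten u w ∈ Bline (a := a) w' := by
    apply (hiff _).mp
    refine ⟨(v : Matrix (Fin a × Fin b) (Fin a × Fin b) F) *ᵥ ten u w₂, ?_⟩
    rw [ht1, Matrix.mulVec_mulVec, Matrix.mul_assoc, hvv', Matrix.mul_one, ← Matrix.mulVec_mulVec,
      tppgrp_sub_one_mulVec, ctr_ten, hw₂, one_smul]
  exact (mem_Bline w' _).mp hmem

/-- `ELm (c • 1) w ψ = ELm 1 w (c • ψ)` -/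
theorem utppgrp_ELm_smul (c : F) (w ψ : Fin b → F) :
    ELm (c • (1 : Matrix (Fin a) (Fin a) F)) w ψ = ELm (1 : Matrix (Fin a) (Fin a) F) w (c • ψ) := by
  rw [ELm, ELm, Matrix.smul_kronecker, ← Matrix.kronecker_smul]
  congr 2
  ext i j
  simp only [Matrix.smul_apply, Matrix.vecMulVec_apply, Pi.smul_apply, smul_eq_mul]
  ring

/-- PGRP with the statements of C1G (`sqzero_kron_gen`) and STAB (`stab_u`) as hypotheses -/
theorem utppgrp_core [Fintype F] (p : ℕ) [Fact p.Prime] [CharP F p] (σ : F ≃+* F) (hσ : Inv2 σ)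
    (ha : 1 ≤ a) (hb : 3 ≤ b) (hdiv : ¬ b ∣ a)
    (M : Subgroup (Matrix.GeneralLinearGroup (Fin a × Fin b) F)) (hTM : T0u σ a b ≤ M)
    (hMS : M ≤ SUm σ (Fin a × Fin b)) (hNT : NTu σ M)
    (hC1 : ∀ (t : Matrix.GeneralLinearGroup (Fin a × Fin b) F), t ∈ K0 a b F →
      ((t : Matrix (Fin a × Fin b) (Fin a × Fin b) F) - 1) *
        ((t : Matrix (Fin a × Fin b) (Fin a × Fin b) F) - 1) = 0 →
      ((t : Matrix (Fin a × Fin b) (Fin a × Fin b) F) - 1).rank = a →
      ∃ w' : Fin b → F, w' ≠ 0 ∧ ∀ v : Fin a × Fin b → F,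
        (∃ v' : Fin a × Fin b → F,
          v = ((t : Matrix (Fin a × Fin b) (Fin a × Fin b) F) - 1) *ᵥ v') ↔ v ∈ Bline (a := a) w')
    (hSTAB : ∀ (w w' : Fin b → F), w ≠ 0 → w' ≠ 0 → cj σ w ⬝ᵥ w = 0 →
      ∀ g : Matrix.GeneralLinearGroup (Fin a × Fin b) F, g ∈ M →
      (∀ u : Fin a → F, ∃ u' : Fin a → F,
        (g : Matrix (Fin a × Fin b) (Fin a × Fin b) F) *ᵥ ten u w = ten u' w') →
      g ∈ K0 a b F)
    (Q : Subgroup (Matrix.GeneralLinearGroup (Fin a × Fin b) F)) (hQM : Q ≤ M) (hQ : IsPGroup p Q)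
    (c : F) (hc : σ c = -c) (hc0 : c ≠ 0) (w : Fin b → F) (hw : w ≠ 0) (h : cj σ w ⬝ᵥ w = 0)
    (hx : EL (c • (1 : Matrix (Fin a) (Fin a) F)) w (cj σ w) h ∈ Q) : Q ≤ K0 a b F := by
  have hψw : (c • cj σ w) ⬝ᵥ w = 0 := by
    rw [smul_dotProduct, h, smul_zero]
  have hψ : c • cj σ w ≠ 0 := by
    intro h0
    rcases smul_eq_zero.mp h0 with h1 | h1
    · exact hc0 h1
    · exact hw ((cj_eq_zero σ).mp h1)
  have hEL : EL (c • (1 : Matrix (Fin a) (Fin a) F)) w (cj σ w) h =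
      EL (1 : Matrix (Fin a) (Fin a) F) w (c • cj σ w) hψw := by
    apply Units.ext
    rw [EL_coe, EL_coe, utppgrp_ELm_smul]
  rw [hEL] at hx
  exact utppgrp_gen p hC1 Q hQ w (c • cj σ w) hw hψ hψw
    (fun w' hw' g hg hl => hSTAB w w' hw hw' h g (hQM hg) hl) hx

end Cfsg.Agent.Lib.helper6.UTP
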