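import Mathlib
import Cfsg.Agent.Lib.helper17.SLP.Defs
import Cfsg.Agent.Lib.Helper27.SLPK1

/-!
# SLP row K3: `k2_char_two` (verbatim from `helper17/SLP/Skel.lean.txt`), with extras `slpk3_*`.
-/

set_option autoImplicit false

namespace Cfsg.Agent.Lib.helper17.SLP

open Polynomial

universe u v

/-- `relK1 (x 1) w = 1` is the rank-one relation at `t = 1` with `c = 1`. -/
theorem slpk3_K_one {G : Type*} [Group G] {F : Type*} [Field F] (x : F → G) (w : G)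
    (hK1 : relK1 (x 1) w = 1) : x 1 * (w * x (1 : F)⁻¹ * w⁻¹) * x 1 = 1 * w := by
  have h1 : x 1 * w * x 1 * w⁻¹ * x 1 * w⁻¹ = 1 := hK1
  rw [inv_one, one_mul]
  have h2 := mul_inv_eq_one.mp h1
  calc x 1 * (w * x 1 * w⁻¹) * x 1 = x 1 * w * x 1 * w⁻¹ * x 1 := by group
    _ = w := h2

/-- the rank-one relation at `t = ζ` with `c = h` gives `relK2`. -/
theorem slpk3_relK2_of_K {G : Type*} [Group G] {F : Type*} [Field F] (ζ : Fˣ)
    (x : F → G) (h w : G) (hconj : ∀ t, h * x t * h⁻¹ = x ((ζ : F) ^ 2 * t))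
    (hK : x (ζ : F) * (w * x (ζ : F)⁻¹ * w⁻¹) * x (ζ : F) = h * w) :
    relK2 (x (ζ : F)) h w = 1 := by
  have hlam : (ζ : F) ^ 2 ≠ 0 := pow_ne_zero 2 ζ.ne_zero
  have h1 : h⁻¹ * x (ζ : F) * h = x (ζ : F)⁻¹ := by
    rw [slpk1_conj_inv ((ζ : F) ^ 2) hlam x h hconj]
    congr 1
    have := ζ.ne_zero
    field_simp
  unfold relK2
  rw [h1]
  calc x (ζ : F) * w * x (ζ : F)⁻¹ * w⁻¹ * x (ζ : F) * w⁻¹ * h⁻¹
      = (x (ζ : F) * (w * x (ζ : F)⁻¹ * w⁻¹) * x (ζ : F)) * w⁻¹ * h⁻¹ := by group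
    _ = 1 := by rw [hK]; group

/-- conversely `relK2` gives the rank-one relation at `t = ζ` with `c = h`. -/
theorem slpk3_K_of_relK2 {G : Type*} [Group G] {F : Type*} [Field F] (ζ : Fˣ)
    (x : F → G) (h w : G) (hconj : ∀ t, h * x t * h⁻¹ = x ((ζ : F) ^ 2 * t))
    (hK2 : relK2 (x (ζ : F)) h w = 1) :
    x (ζ : F) * (w * x (ζ : F)⁻¹ * w⁻¹) * x (ζ : F) = h * w := by
  have hlam : (ζ : F) ^ 2 ≠ 0 := pow_ne_zero 2 ζ.ne_zero
  have h1 : h⁻¹ * x (ζ : F) * h = x (ζ : F)⁻¹ := by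
    rw [slpk1_conj_inv ((ζ : F) ^ 2) hlam x h hconj]
    congr 1
    have := ζ.ne_zero
    field_simp
  unfold relK2 at hK2
  rw [h1] at hK2
  have h2 : x (ζ : F) * w * x (ζ : F)⁻¹ * w⁻¹ * x (ζ : F) * w⁻¹ * h⁻¹ =
      (x (ζ : F) * (w * x (ζ : F)⁻¹ * w⁻¹) * x (ζ : F)) * (h * w)⁻¹ := by group
  rw [h2] at hK2
  exact mul_inv_eq_one.mp hK2

/-- K3 [S-M]  dep K1.  Characteristic 2: `q = 2 j`, `ζ^(2 j) = ζ^q = ζ`, so K1 with `t = 1`, `c = 1`, `i = j` gives `K(ζ)` with `c = h^(2j) = h^q = h` (`hN`). -/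
theorem k2_char_two {G : Type*} [Group G] {F : Type*} [Field F] [Fintype F] [CharP F 2] (ζ : Fˣ)
    (x : F → G) (h w : G) (hadd : ∀ s t, x (s + t) = x s * x t)
    (hconj : ∀ t, h * x t * h⁻¹ = x ((ζ : F) ^ 2 * t)) (hwh : w * h * w⁻¹ = h⁻¹)
    (hN : h ^ (Fintype.card F - 1) = 1) (hK1 : relK1 (x 1) w = 1) :
    relK2 (x (ζ : F)) h w = 1 := by
  have hlam : (ζ : F) ^ 2 ≠ 0 := pow_ne_zero 2 ζ.ne_zero
  have hev : Fintype.card F % 2 = 0 :=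
    FiniteField.even_card_of_char_two (ringChar.eq F 2)
  obtain ⟨j, hj⟩ : ∃ j, Fintype.card F = 2 * j := ⟨Fintype.card F / 2, by omega⟩
  have hpos : 0 < Fintype.card F := Fintype.card_pos
  have hkey := k_conj ((ζ : F) ^ 2) hlam x h w hconj hwh 1 1 (one_mem _)
    (slpk3_K_one x w hK1) (j : ℤ)
  have e1 : ((ζ : F) ^ 2) ^ (j : ℤ) * 1 = (ζ : F) := by
    rw [mul_one, zpow_natCast, ← pow_mul, ← hj]
    exact FiniteField.pow_card (ζ : F)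
  have e2 : h ^ (2 * (j : ℤ)) * 1 = h := by
    have : (2 * (j : ℤ)) = ((Fintype.card F : ℕ) : ℤ) := by rw [hj]; push_cast; ring
    rw [mul_one, this, zpow_natCast]
    have h3 : Fintype.card F = (Fintype.card F - 1) + 1 := by omega
    rw [h3, pow_succ, hN, one_mul]
  rw [e1, e2] at hkey
  exact slpk3_relK2_of_K ζ x h w hconj hkey

end Cfsg.Agent.Lib.helper17.SLP
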