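import Mathlib
import Cfsg.Agent.Lib.helper17.SLP.Defs
import Cfsg.Agent.Lib.Helper27.SLPK1
import Cfsg.Agent.Lib.Helper27.SLPK3

/-!
# SLP row K2: `k_all` (verbatim from `helper17/SLP/Skel.lean.txt`), with extras `slpk2_*`.
-/

set_option autoImplicit false

namespace Cfsg.Agent.Lib.helper17.SLP

open Polynomial

universe u v

/-- `x 0 = 1` for an additive `x`. -/
theorem slpk2_x_zero {G : Type*} [Group G] {F : Type*} [Field F] (x : F → G)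
    (hadd : ∀ s t, x (s + t) = x s * x t) : x 0 = 1 := by
  have h1 := hadd 0 0
  rw [add_zero] at h1
  exact (left_eq_mul.mp h1)

/-- `x (-t) = (x t)⁻¹` for an additive `x`. -/
theorem slpk2_x_neg {G : Type*} [Group G] {F : Type*} [Field F] (x : F → G)
    (hadd : ∀ s t, x (s + t) = x s * x t) (t : F) : x (-t) = (x t)⁻¹ := by
  have h1 := hadd (-t) t
  rw [neg_add_cancel, slpk2_x_zero x hadd] at h1
  exact eq_inv_of_mul_eq_one_left h1.symm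

/-- solve the rank-one relation for `w * x t * w⁻¹`. -/
theorem slpk2_solve {G : Type*} [Group G] {F : Type*} [Field F] (x : F → G)
    (hadd : ∀ s t, x (s + t) = x s * x t) (w c : G) (τ t : F)
    (hK : x τ * (w * x t * w⁻¹) * x τ = c * w) :
    w * x t * w⁻¹ = x (-τ) * c * w * x (-τ) := by
  rw [slpk2_x_neg x hadd τ]
  calc w * x t * w⁻¹ = (x τ)⁻¹ * (x τ * (w * x t * w⁻¹) * x τ) * (x τ)⁻¹ := by group
    _ = (x τ)⁻¹ * c * w * (x τ)⁻¹ := by rw [hK]; group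

/-- K2 [M]  dep K1.  `hK1` is `K(1)` with `c = 1`; `hK2` is `K(ζ)` with `c = h` (`h⁻¹ * x ζ * h = x (ζ⁻²  ζ) = x ζ⁻¹`).  For `t ≠ 0`, `t⁻¹ = ζ^(2i)` or `ζ^(2i+1)`; `K(t⁻¹)` from K1, and
`K(τ)` gives `w * x τ⁻¹ * w⁻¹ = x (-τ) * c * w * x (-τ)` (`x (-τ) = (x τ)⁻¹`). -/
theorem k_all {G : Type*} [Group G] {F : Type*} [Field F] (ζ : Fˣ) (hζ : ∀ y : Fˣ, y ∈ Subgroup.zpowers ζ)
    (x : F → G) (h w : G) (hadd : ∀ s t, x (s + t) = x s * x t)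
    (hconj : ∀ t, h * x t * h⁻¹ = x ((ζ : F) ^ 2 * t)) (hwh : w * h * w⁻¹ = h⁻¹)
    (hK1 : relK1 (x 1) w = 1) (hK2 : relK2 (x (ζ : F)) h w = 1) :
    ∀ t : F, t ≠ 0 → ∃ (s s' : F) (c : G), c ∈ Subgroup.zpowers h ∧
      w * x t * w⁻¹ = x s * c * w * x s' := by
  intro t ht
  have hlam : (ζ : F) ^ 2 ≠ 0 := pow_ne_zero 2 ζ.ne_zero
  obtain ⟨m, hm⟩ := Subgroup.mem_zpowers_iff.mp (hζ (Units.mk0 t⁻¹ (inv_ne_zero ht)))
  have hm' : (ζ : F) ^ m = t⁻¹ := by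
    have := congrArg (fun y : Fˣ => (y : F)) hm
    simpa using this
  have hmdiv : m = 2 * (m / 2) + m % 2 := (Int.mul_ediv_add_emod m 2).symm
  rcases Int.emod_two_eq_zero_or_one m with h0 | h1
  · -- `t⁻¹ = lam ^ i * 1`
    set i : ℤ := m / 2 with hi
    have e1 : ((ζ : F) ^ 2) ^ i * 1 = t⁻¹ := by
      rw [mul_one, ← hm', hmdiv, h0, add_zero, zpow_mul, zpow_ofNat]
    have hkey := k_conj ((ζ : F) ^ 2) hlam x h w hconj hwh 1 1 (one_mem _)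
      (slpk3_K_one x w hK1) i
    rw [e1, inv_inv] at hkey
    refine ⟨-t⁻¹, -t⁻¹, h ^ (2 * i) * 1, ?_, slpk2_solve x hadd w _ t⁻¹ t hkey⟩
    rw [mul_one]
    exact Subgroup.zpow_mem_zpowers h _
  · -- `t⁻¹ = lam ^ i * ζ`
    set i : ℤ := m / 2 with hi
    have e1 : ((ζ : F) ^ 2) ^ i * (ζ : F) = t⁻¹ := by
      rw [← hm']
      conv_rhs => rw [hmdiv, h1, zpow_add₀ ζ.ne_zero, zpow_one, zpow_mul, zpow_ofNat]
    have hkey := k_conj ((ζ : F) ^ 2) hlam x h w hconj hwh (ζ : F) h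
      (Subgroup.mem_zpowers h) (slpk3_K_of_relK2 ζ x h w hconj hK2) i
    rw [e1, inv_inv] at hkey
    refine ⟨-t⁻¹, -t⁻¹, h ^ (2 * i) * h, ?_, slpk2_solve x hadd w _ t⁻¹ t hkey⟩
    exact mul_mem (Subgroup.zpow_mem_zpowers h _) (Subgroup.mem_zpowers h)

end Cfsg.Agent.Lib.helper17.SLP
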