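import Mathlib
import Cfsg.Agent.Lib.helper17.SLP.Defs

/-!
# SLP row N4: `w_sq_of_u_sq` (verbatim from `helper17/SLP/Skel.lean.txt`).
-/

set_option autoImplicit false

namespace Cfsg.Agent.Lib.helper17.SLP

open Polynomial

universe u v

/-- N4 [S]  `relK1 u w = 1` says `w = u * (w u w⁻¹) * u`; square it. -/
theorem w_sq_of_u_sq {G : Type*} [Group G] (u w : G) (hu : u ^ 2 = 1) (hK1 : relK1 u w = 1) : w ^ 2 = 1 := by
  have hw : u * w * u * w⁻¹ * u = w := by
    have h1 : u * w * u * w⁻¹ * u * w⁻¹ = 1 := hK1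
    exact mul_inv_eq_one.mp h1
  have hu' : u * u = 1 := by rwa [pow_two] at hu
  have h2 : w * w = (u * w * u * w⁻¹ * u) * (u * w * u * w⁻¹ * u) := by rw [hw]
  rw [pow_two, h2]
  have h3 : ∀ y : G, u * (u * y) = y := fun y => by rw [← mul_assoc, hu', one_mul]
  simp only [mul_assoc, h3, inv_mul_cancel_left, mul_inv_cancel_left, hu']

end Cfsg.Agent.Lib.helper17.SLP
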