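import Mathlib
import Cfsg.Agent.Lib.helper15.St2
import Cfsg.Agent.Lib.helper7.StA
import Cfsg.Agent.Lib.helper7.StC
import Cfsg.Agent.Lib.helper7.StE
import Cfsg.Agent.Lib.helper3.STC.Defs
import Cfsg.Agent.Lib.helper3.STC.Defs2
import Cfsg.Agent.Lib.helper3.STC.Defs3
import Cfsg.Agent.Lib.Helper24.STCI1
import Cfsg.Agent.Lib.Helper24.STCB1
import Cfsg.Agent.Lib.helper23.STCH1
import Cfsg.Agent.Lib.helper23.STCX2
import Cfsg.Agent.Lib.Helper26.STCN1
import Cfsg.Agent.Lib.helper2.STCN3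

/-!
# STC row F11 (`ww_same`), with own-name copies of the statements of row F2 (`NP_mul`, `NP_h`, `NP_w`)

(helper27)  `w o k 1 * w o k 1 = h o k (-1)` (`w_mul_w`), and torus elements are in `NP o`.
-/

set_option autoImplicit false

namespace Cfsg.Agent.Lib.helper3.STC

open Cfsg.Agent.Lib.helper15.St2 Cfsg.Agent.Lib.helper7.St

namespace SysC

variable {K : Type*} [Field K] {ι : Type*} {G : Type*} [Group G] (S : SysC K ι G)

section F
variable [DecidableEq ι] (o : ι ⊕ ι)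

/-- own-name copy of the statement of F2 `NP_mul` -/
theorem stcf11_NP_mul {n n' : G} (h : S.NP o n) (h' : S.NP o n') : S.NP o (n * n') := by
  refine ⟨mul_mem h.1 h'.1, fun y hy => ?_⟩
  rw [← cj_cj]
  exact h.2 _ (h'.2 y hy)

/-- own-name copy of the statement of F2 `NP_h` -/
theorem stcf11_NP_h (hH : S.HH) {b : ι ⊕ ι} (hb : b ≠ o) {t : K} (ht : t ≠ 0) : S.NP o (S.h o b t) := by
  refine ⟨S.h_mem_Phat o hb ht, ?_⟩
  exact IsMon.cj_mem_Yg S o (hH o b hb.symm t ht) rfl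

/-- own-name copy of the statement of F2 `NP_w` -/
theorem stcf11_NP_w (hW : S.HW) {a b : ι ⊕ ι} (hab : a ≠ b) (ha : a ≠ o) (ha' : a ≠ ng o) (hb : b ≠ o) (hb' : b ≠ ng o) {u : K}
    (hu : u ≠ 0) : S.NP o (S.w a b u) := by
  refine ⟨S.Pg_le_Phat o (S.Lg_le_Pg o (S.w_mem_Lg o hab ha ha' hb hb' u)), ?_⟩
  refine IsMon.cj_mem_Yg S o (hW a b hab u hu) ?_
  refine wpm_of_ne ha.symm hb.symm ?_ ?_
  · intro h
    exact ha' (by rw [h, ng_ng])
  · intro h
    exact hb' (by rw [h, ng_ng])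

/-- F11 [S-M]  `w o k 1 * w o k 1 = h o k (-1)` (`w_mul_w`). -/
theorem ww_same [Finite K] (hH : S.HH) {k : ι ⊕ ι} (hk : k ≠ o) : S.NP o (S.w o k 1 * S.w o k 1) := by
  rw [S.w_mul_w hk.symm 1 1 one_ne_zero one_ne_zero]
  exact S.stcf11_NP_h o hH hk (neg_ne_zero.mpr (mul_ne_zero one_ne_zero (inv_ne_zero one_ne_zero)))

end F

end SysC

end Cfsg.Agent.Lib.helper3.STC
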