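import Mathlib
import Cfsg.Agent.Lib.helper3.CEUO.Defs2
import Cfsg.Agent.Lib.Helper27.STU.Defs3
import Cfsg.Agent.Lib.Helper27.STU.Frob
import Cfsg.Agent.Lib.Helper24.STCI1
import Cfsg.Agent.Lib.Helper24.STUB1
import Cfsg.Agent.Lib.Helper24.STUM0
import Cfsg.Agent.Lib.helper8.STULA1
import Cfsg.Agent.Lib.Helper25.STULA2
import Cfsg.Agent.Lib.Helper12.CEUOD1

/-!
# Project CEUO (sub-designer helper3, the odd case of S2089), rows D2 D3a D3b D4a D4b, VERBATIM vs `helper3/CEUO/Skel.lean.txt` (helper27):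
`Dq_map Dq_cj Dq_mul Dq_zero Do_map Do_mul Do_cj`.
-/

set_option autoImplicit false

namespace Cfsg.Agent.Lib.helper3.CEUO

open Cfsg.Agent.Lib.helper15.St2 Cfsg.Agent.Lib.helper7.Ce Cfsg.Agent.Lib.helper3.STC Cfsg.Agent.Lib.Helper27.STU
  Cfsg.Agent.Lib.helper7.CEU

open Cfsg.Agent.Lib.helper7.CEC (I2 I3 I4 U2 U3)

section D

variable {F : Type*} [Field F] [StarRing F] {od : Prop} {ι : Type*} {Γ G : Type*} [Group Γ] [Group G] {S : SysU F od ι G} {σ : Γ →* G}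
  {h : IsCE σ}

/-- D2 [S]  `Zq_map`, `L.map`. -/
theorem Dq_map (L : ShortLift S h) {a b : ι ⊕ ι} (hab : ab a ≠ ab b) (ξ : Lam F od) (u : F) :
    σ (Dq L a b ξ u) = S.xl (ng b) (Lam.act (star u) (Lam.bar ξ)) := by
  unfold Dq
  rw [map_mul, map_inv, L.map a b hab, Zq_map h hab, inv_mul_cancel_left]

/-- D2 [S-M]  `Zq_cj`, `L.eqv`. -/
theorem Dq_cj (L : ShortLift S h) {g : G} {π : Equiv.Perm (ι ⊕ ι)} {d : ι ⊕ ι → F} {d0 : F} (hg : S.IsMon g π d d0) {e : Γ} (he : σ e = g)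
    {a b : ι ⊕ ι} (hab : ab a ≠ ab b) (ξ : Lam F od) (u : F) :
    cj e (Dq L a b ξ u) = Dq L (π a) (π b) (Lam.act (d a * d0⁻¹) ξ) (d (ng a) * (d b)⁻¹ * u) := by
  have hcj : ∀ x y : Γ, cj e (x⁻¹ * y) = (cj e x)⁻¹ * cj e y := by
    intro x y
    unfold cj
    group
  unfold Dq
  rw [hcj, Zq_cj h hg he hab, L.eqv g π d d0 hg e he a b hab]
  congr 3
  have h1 := hg.1.d_ng a
  have h2 := hg.1.d0_norm
  have hd0 : d0 ≠ 0 := hg.1.d0_ne
  have hsd0 : star d0 ≠ 0 := fun h0 => hd0 (by simpa using congrArg star h0)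
  simp only [Lam.act_c, star_mul', star_inv₀]
  have e0 : d0⁻¹ * (star d0)⁻¹ = 1 := by
    rw [← mul_inv, h2, inv_one]
  calc d a * (d b)⁻¹ * (ξ.c * u)
      = (d (ng a) * star (d a)) * (d0⁻¹ * (star d0)⁻¹) * (d a * (d b)⁻¹ * (ξ.c * u)) := by rw [h1, e0, one_mul, one_mul]
    _ = d a * d0⁻¹ * (star (d a) * (star d0)⁻¹) * ξ.c * (d (ng a) * (d b)⁻¹ * u) := by ring

/-- D3 [M-L]  ANTI-multiplicative. -/
theorem Dq_mul (hCl : HCl S σ) (L : ShortLift S h) (hK : HK L) {a b : ι ⊕ ι} (hab : ab a ≠ ab b) (ξ ξ' : Lam F od) (u : F) :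
    Dq L a b (ξ * ξ') u = Dq L a b ξ' u * Dq L a b ξ u := by
  obtain ⟨hne, hne'⟩ := ceuod1_ne hab
  set p := lf h (S.xl a ξ) with hp
  set p' := lf h (S.xl a ξ') with hp'
  set q := lf h (S.xs (ng a) b u) with hq
  have mp : σ p = S.xl a ξ := map_lf h _
  have mp' : σ p' = S.xl a ξ' := map_lf h _
  have mq : σ q = S.xs (ng a) b u := map_lf h _
  have mpp : σ (p * p') = S.xl a (ξ * ξ') := by rw [map_mul, mp, mp', S.addl]
  -- the three `Zq`
  have z1 : Zq S h a b (ξ * ξ') u = cm (p * p') q := (Zq_eq h mpp mq).symm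
  have z2 : Zq S h a b ξ u = cm p q := rfl
  have z3 : Zq S h a b ξ' u = cm p' q := rfl
  set D' := Dq L a b ξ' u with hD'
  set D := Dq L a b ξ u with hD
  have e3 : cm p' q = L.X a b (ξ'.c * u) * D' := by
    rw [hD', ← z3]
    unfold Dq
    rw [mul_inv_cancel_left]
  have e2 : cm p q = L.X a b (ξ.c * u) * D := by
    rw [hD, ← z2]
    unfold Dq
    rw [mul_inv_cancel_left]
  -- commutation facts
  have hba : ab b ≠ ab a := fun e => hab e.symm
  have c1 : ∀ t, p * L.X a b t = L.X a b t * p := by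
    intro t
    refine hCl a a b hne hne' ?_ ?_ ξ t p (L.X a b t) mp (L.map a b hab t)
    · intro e
      exact ng_ne a e.symm
    · exact hne.symm
  have mD' : σ D' = S.xl (ng b) (Lam.act (star u) (Lam.bar ξ')) := Dq_map L hab ξ' u
  have c2 : ∀ t, D' * L.X a b t = L.X a b t * D' := by
    intro t
    refine hCl (ng b) a b hne hne' ?_ ?_ _ t D' (L.X a b t) mD' (L.map a b hab t)
    · intro e
      rw [ng_ng] at e
      exact hne e
    · intro e
      exact ng_ne b e.symm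
  have hanb : ab a ≠ ab (ng b) := by
    rw [ab_ng]
    exact hab
  have c3 : cm p D' = L.X a b (-(ξ.v * (u * star ξ'.v))) := by
    have := hK a (ng b) hanb ξ (Lam.act (star u) (Lam.bar ξ')) p D' mp mD'
    rw [ng_ng] at this
    rw [this]
    congr 1
    simp only [Lam.act_v, Lam.bar_v, star_mul', star_star]
  -- assemble
  have key : cm (p * p') q = L.X a b ((ξ * ξ').c * u) * (D' * D) := by
    rw [cm_mul_left, e3, e2]
    have e4 : p * (L.X a b (ξ'.c * u) * D') * p⁻¹ = L.X a b (ξ'.c * u) * (cm p D' * D') := by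
      have : p * (L.X a b (ξ'.c * u) * D') * p⁻¹ = (p * L.X a b (ξ'.c * u)) * D' * p⁻¹ := by group
      rw [this, c1]
      unfold cm
      group
    rw [e4, c3]
    have e5 : L.X a b (ξ'.c * u) * (L.X a b (-(ξ.v * (u * star ξ'.v))) * D') * (L.X a b (ξ.c * u) * D) =
        L.X a b (ξ'.c * u) * L.X a b (-(ξ.v * (u * star ξ'.v))) * (D' * L.X a b (ξ.c * u)) * D := by group
    rw [e5, c2, ← L.add a b hab]
    have e6 : L.X a b (ξ'.c * u + -(ξ.v * (u * star ξ'.v))) * (L.X a b (ξ.c * u) * D') * D =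
        L.X a b (ξ'.c * u + -(ξ.v * (u * star ξ'.v))) * L.X a b (ξ.c * u) * (D' * D) := by group
    rw [e6, ← L.add a b hab]
    congr 2
    simp only [Lam.mul_c]
    ring
  unfold Dq
  rw [z1, key, inv_mul_cancel_left]

/-- D3 [S] -/
theorem Dq_zero (L : ShortLift S h) {a b : ι ⊕ ι} (hab : ab a ≠ ab b) (ξ : Lam F od) : Dq L a b ξ 0 = 1 := by
  obtain ⟨hne, hne'⟩ := ceuod1_ne hab
  have hnab : ng a ≠ b ∧ ng a ≠ ng b := by
    constructor
    · intro e2
      exact hne' (by rw [← e2, ng_ng])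
    · intro e2
      exact hne (ng_inj.1 e2)
  have hX0 : L.X a b 0 = 1 := by
    have := L.add a b hab 0 0
    rw [add_zero] at this
    exact (mul_eq_left.mp this.symm)
  have hq : σ (lf h (S.xs (ng a) b 0)) = 1 := by
    rw [map_lf, S.xs_zero hnab.1 hnab.2]
  have hz : Zq S h a b ξ 0 = 1 := by
    unfold Zq
    rw [cm_eq_one_iff]
    exact (h.comm_of_map_one hq _).symm
  unfold Dq
  rw [mul_zero, hX0, hz, inv_one, one_mul]

/-- D4 [S] -/
theorem Do_map (L : ShortLift S h) {a b : ι ⊕ ι} (hab : ab a ≠ ab b) {u : F} (hu : u ≠ 0) (η : Lam F od) :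
    σ (Do L a b u η) = S.xl (ng b) η := by
  have hsu : star u ≠ 0 := fun h0 => hu (by simpa using congrArg star h0)
  unfold Do
  rw [Dq_map L hab, Lam.bar_bar, Lam.act_act, mul_inv_cancel₀ hsu, Lam.act_one]

/-- D4 [S] -/
theorem Do_mul (hCl : HCl S σ) (L : ShortLift S h) (hK : HK L) {a b : ι ⊕ ι} (hab : ab a ≠ ab b) (u : F) (η η' : Lam F od) :
    Do L a b u (η * η') = Do L a b u η * Do L a b u η' := by
  unfold Do
  rw [Lam.act_mul, Lam.bar_mul, Dq_mul hCl L hK hab]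

/-- D4 [M] -/
theorem Do_cj (L : ShortLift S h) {g : G} {π : Equiv.Perm (ι ⊕ ι)} {d : ι ⊕ ι → F} {d0 : F} (hg : S.IsMon g π d d0) {e : Γ} (he : σ e = g)
    {a b : ι ⊕ ι} (hab : ab a ≠ ab b) (u : F) (η : Lam F od) :
    cj e (Do L a b u η) = Do L (π a) (π b) (d (ng a) * (d b)⁻¹ * u) (Lam.act (d (ng b) * d0⁻¹) η) := by
  unfold Do
  rw [Dq_cj L hg he hab]
  congr 1
  rw [← Lam.bar_act, Lam.act_act, Lam.act_act]
  congr 2
  -- scalar identity
  have hda : d a ≠ 0 := hg.1.d_ne a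
  have hdb : d b ≠ 0 := hg.1.d_ne b
  have hdna : d (ng a) ≠ 0 := hg.1.d_ne (ng a)
  have hdnb : d (ng b) ≠ 0 := hg.1.d_ne (ng b)
  have hd0 : d0 ≠ 0 := hg.1.d0_ne
  have h1 : d a * star (d (ng a)) = 1 := by
    have := hg.1.d_ng (ng a)
    rwa [ng_ng] at this
  have h2 : d (ng b) * star (d b) = 1 := hg.1.d_ng b
  have hsna : star (d (ng a)) = (d a)⁻¹ := eq_inv_of_mul_eq_one_right h1
  have hsb : star (d b) = (d (ng b))⁻¹ := eq_inv_of_mul_eq_one_right h2
  by_cases hu : u = 0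
  · subst hu
    simp
  have hsu : star u ≠ 0 := fun h0 => hu (by simpa using congrArg star h0)
  simp only [star_mul', star_inv₀, hsna, hsb, inv_inv, mul_inv]
  field_simp

end D

end Cfsg.Agent.Lib.helper3.CEUO
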