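import Mathlib
import Cfsg.Agent.Lib.helper3.CEUO.Defs2
import Cfsg.Agent.Lib.Helper27.STU.Defs3
import Cfsg.Agent.Lib.Helper27.STU.Frob
import Cfsg.Agent.Lib.Helper24.STCI1
import Cfsg.Agent.Lib.Helper24.STUB1
import Cfsg.Agent.Lib.Helper24.STUM0
import Cfsg.Agent.Lib.helper8.STULA1
import Cfsg.Agent.Lib.Helper25.STULA2
import Cfsg.Agent.Lib.Helper12.CEUOD1
import Cfsg.Agent.Lib.Helper18.CEUOA2
import Cfsg.Agent.Lib.Helper27.CEUOD2

/-!
# Project CEUO (sub-designer helper3, the odd case of S2089), rows D5 D6 D7, VERBATIM vs `helper3/CEUO/Skel.lean.txt` (helper27):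
`Do_indep Zo_eq longLift_odd hls_odd hhh_odd`.
-/

set_option autoImplicit false

namespace Cfsg.Agent.Lib.helper3.CEUO

open Cfsg.Agent.Lib.helper15.St2 Cfsg.Agent.Lib.helper7.Ce Cfsg.Agent.Lib.helper3.STC Cfsg.Agent.Lib.Helper27.STU
  Cfsg.Agent.Lib.helper7.CEU

open Cfsg.Agent.Lib.helper7.CEC (I2 I3 I4 U2 U3)

section D

variable {F : Type*} [Field F] [StarRing F] {od : Prop} {ι : Type*} {Γ G : Type*} [Group Γ] [Group G] {S : SysU F od ι G} {σ : Γ →* G}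
  {h : IsCE σ}

/-- the torus element of `Tor1` at `(a, b)` scales `Do L a b u` (own-name step of D5). -/
theorem ceuod5_step (hF : Hyp F) (hod : od) (hCl : HCl S σ) (L : ShortLift S h) (hK : HK L) (ht1 : Tor1 S) {a b : ι ⊕ ι}
    (hab : ab a ≠ ab b) {u u' : F} (hu : u ≠ 0) (hu' : u' ≠ 0) (η : Lam F od) :
    Do L a b u η = Do L a b u' η := by
  obtain ⟨g, d, d0, hg, hd, hs⟩ := ht1 a b hab
  have hdb : d b ≠ 0 := hg.1.d_ne b
  have hone : d (ng a) * (d b)⁻¹ = 1 := by rw [hd, mul_inv_cancel₀ hdb]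
  have hcj : ∀ (v : F) (ξ : Lam F od), cj (lf h g) (Do L a b v ξ) = Do L a b v (Lam.act (d (ng b) * d0⁻¹) ξ) := by
    intro v ξ
    have := Do_cj L hg (map_lf h g) hab v ξ
    rw [hone, one_mul] at this
    exact this
  exact lift_unique h hF hod (Do L a b u) (Do L a b u') (fun ξ ζ => Do_mul hCl L hK hab u ξ ζ)
    (fun ξ ζ => Do_mul hCl L hK hab u' ξ ζ) (fun ξ => by rw [Do_map L hab hu, Do_map L hab hu']) (lf h g) hs
    (fun ξ => hcj u ξ) (fun ξ => hcj u' ξ) η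

/-- D5 [M]  independence of `u` and of the auxiliary index `a`, by `lift_unique`. -/
theorem Do_indep (hF : Hyp F) (hod : od) (hCl : HCl S σ) (L : ShortLift S h) (hK : HK L) (ht1 : Tor1 S) {a a' b : ι ⊕ ι}
    (hab : ab a ≠ ab b) (hab' : ab a' ≠ ab b) {u u' : F} (hu : u ≠ 0) (hu' : u' ≠ 0) (η : Lam F od) :
    Do L a b u η = Do L a' b u' η := by
  obtain ⟨g, d, d0, hg, hd, hs⟩ := ht1 a b hab
  have hdb : d b ≠ 0 := hg.1.d_ne b
  have hdna' : d (ng a') ≠ 0 := hg.1.d_ne (ng a')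
  have hone : d (ng a) * (d b)⁻¹ = 1 := by rw [hd, mul_inv_cancel₀ hdb]
  have hcj : ∀ ξ : Lam F od, cj (lf h g) (Do L a b u ξ) = Do L a b u (Lam.act (d (ng b) * d0⁻¹) ξ) := by
    intro ξ
    have := Do_cj L hg (map_lf h g) hab u ξ
    rw [hone, one_mul] at this
    exact this
  have hcj' : ∀ ξ : Lam F od, cj (lf h g) (Do L a' b u' ξ) = Do L a' b u' (Lam.act (d (ng b) * d0⁻¹) ξ) := by
    intro ξ
    have := Do_cj L hg (map_lf h g) hab' u' ξ
    rw [this]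
    have hne : d (ng a') * (d b)⁻¹ * u' ≠ 0 := mul_ne_zero (mul_ne_zero hdna' (inv_ne_zero hdb)) hu'
    exact ceuod5_step hF hod hCl L hK ht1 hab' hne hu' _
  exact lift_unique h hF hod (Do L a b u) (Do L a' b u') (fun ξ ζ => Do_mul hCl L hK hab u ξ ζ)
    (fun ξ ζ => Do_mul hCl L hK hab' u' ξ ζ) (fun ξ => by rw [Do_map L hab hu, Do_map L hab' hu']) (lf h g) hs hcj hcj' η

/-- D5 [S]  `Do_indep` (unfold `Zo`; `Classical.choose_spec (h2 (ng c))`). -/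
theorem Zo_eq (hF : Hyp F) (hod : od) (hCl : HCl S σ) (L : ShortLift S h) (hK : HK L) (ht1 : Tor1 S) (h2 : I2 ι) {a c : ι ⊕ ι}
    (hac : ab a ≠ ab (ng c)) {u : F} (hu : u ≠ 0) (η : Lam F od) : Do L a (ng c) u η = Zo L h2 c η := by
  unfold Zo
  exact Do_indep hF hod hCl L hK ht1 hac (Classical.choose_spec (h2 (ng c))) hu one_ne_zero η

/-- D6 [M]  the structure. -/
theorem longLift_odd (hF : Hyp F) (hod : od) (hCl : HCl S σ) (L : ShortLift S h) (hK : HK L) (ht1 : Tor1 S) (h2 : I2 ι) :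
    ∃ Z : LongLift S h, ∀ c η, Z.Z c η = Zo L h2 c η := by
  have hsp : ∀ c : ι ⊕ ι, ab (Classical.choose (h2 (ng c))) ≠ ab (ng c) := fun c => Classical.choose_spec (h2 (ng c))
  refine ⟨{ Z := fun c η => Zo L h2 c η, map := ?_, mul := ?_, eqv := ?_ }, fun c η => rfl⟩
  · intro c η
    show σ (Do L _ (ng c) 1 η) = _
    rw [Do_map L (hsp c) one_ne_zero, ng_ng]
  · intro c ξ η
    show Do L _ (ng c) 1 (ξ * η) = Do L _ (ng c) 1 ξ * Do L _ (ng c) 1 η
    exact Do_mul hCl L hK (hsp c) 1 ξ η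
  · intro g π d d0 hg e he c η
    show cj e (Do L (Classical.choose (h2 (ng c))) (ng c) 1 η) = Zo L h2 (π c) _
    have h0 := hsp c
    generalize Classical.choose (h2 (ng c)) = a₀ at h0 ⊢
    rw [Do_cj L hg he h0, hg.1.pi_ng c, ng_ng]
    have hne : d (ng a₀) * (d (ng c))⁻¹ * 1 ≠ 0 :=
      mul_ne_zero (mul_ne_zero (hg.1.d_ne _) (inv_ne_zero (hg.1.d_ne _))) one_ne_zero
    refine Zo_eq hF hod hCl L hK ht1 h2 ?_ hne _
    rw [ab_ng]
    intro hπ
    rw [ab_ng] at h0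
    apply h0
    rcases ab_eq_iff.1 hπ with h1 | h1
    · exact ab_eq_iff.2 (Or.inl (π.injective h1))
    · rw [← hg.1.pi_ng c] at h1
      exact ab_eq_iff.2 (Or.inr (π.injective h1))

/-- D7 [M]  the lifted relation `ls`. -/
theorem hls_odd (hF : Hyp F) (hod : od) (hCl : HCl S σ) (L : ShortLift S h) (hK : HK L) (ht1 : Tor1 S) (h2 : I2 ι) (Z : LongLift S h)
    (hZ : ∀ c η, Z.Z c η = Zo L h2 c η) :
    ∀ a b : ι ⊕ ι, ab a ≠ ab b → ∀ (ξ : Lam F od) (u : F),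
      cm (Z.Z a ξ) (L.X (ng a) b u) = L.X a b (ξ.c * u) * Z.Z (ng b) (Lam.act (star u) (Lam.bar ξ)) := by
  intro a b hab ξ u
  have hnab : ab (ng a) ≠ ab b := by
    rw [ab_ng]
    exact hab
  have e1 : cm (Z.Z a ξ) (L.X (ng a) b u) = Zq S h a b ξ u := Zq_eq h (Z.map a ξ) (L.map (ng a) b hnab u)
  have e2 : Zq S h a b ξ u = L.X a b (ξ.c * u) * Dq L a b ξ u := by
    unfold Dq
    rw [mul_inv_cancel_left]
  rw [e1, e2]
  congr 1
  by_cases hu : u = 0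
  · subst hu
    rw [Dq_zero L hab, star_zero, Lam.act_zero]
    have := Z.mul (ng b) 1 1
    rw [mul_one] at this
    exact (mul_eq_left.mp this.symm).symm
  · have hsu : star u ≠ 0 := fun h0 => hu (by simpa using congrArg star h0)
    have e3 : Dq L a b ξ u = Do L a b u (Lam.act (star u) (Lam.bar ξ)) := by
      unfold Do
      rw [Lam.act_act, inv_mul_cancel₀ hsu, Lam.act_one, Lam.bar_bar]
    rw [e3, hZ]
    have hac : ab a ≠ ab (ng (ng b)) := by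
      rw [ng_ng]
      exact hab
    have := Zo_eq hF hod hCl L hK ht1 h2 hac hu (Lam.act (star u) (Lam.bar ξ))
    rw [ng_ng] at this
    exact this

/-- D7 [S] -/
theorem hhh_odd (L : ShortLift S h) (hK : HK L) (Z : LongLift S h) :
    ∀ a b : ι ⊕ ι, ab a ≠ ab b → ∀ ξ η : Lam F od, cm (Z.Z a ξ) (Z.Z b η) = L.X a (ng b) (-(ξ.v * star η.v)) :=
  fun a b hab ξ η => hK a b hab ξ η _ _ (Z.map a ξ) (Z.map b η)

end D

end Cfsg.Agent.Lib.helper3.CEUO
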