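import Mathlib
import Cfsg.Agent.Lib.Helper13.OTS.Defs

set_option autoImplicit false
set_option linter.unusedVariables false
set_option linter.unusedSectionVars false

/-!
# Project OTS, row HJARITH: the divisibility `HJ` in terms of `i = ord_r q`.
-/

namespace Cfsg.Agent.Lib.Helper13.OTS

open Polynomial Module Cfsg.Agent.Lib.Helper13.S5955 Cfsg.Agent.Lib.helper15.S5972

/-- `r ∣ q ^ e - 1` gives `ord_r q ∣ e`. -/
theorem otshjarith_minus (q r e : ℕ) (h : (r : ℤ) ∣ (q : ℤ) ^ e - 1) : orderOf (q : ZMod r) ∣ e := by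
  rw [orderOf_dvd_iff_pow_eq_one]
  have h1 := (ZMod.intCast_zmod_eq_zero_iff_dvd ((q : ℤ) ^ e - 1) r).mpr h
  push_cast at h1
  exact sub_eq_zero.mp h1

/-- `r ∣ q ^ e + 1` (`r` an odd prime) gives `ord_r q` even and `e ≡ ord_r q / 2`. -/
theorem otshjarith_plus (q r e : ℕ) [Fact r.Prime] (hr2 : r ≠ 2) (h : (r : ℤ) ∣ (q : ℤ) ^ e + 1) :
    Even (orderOf (q : ZMod r)) ∧ e % orderOf (q : ZMod r) = orderOf (q : ZMod r) / 2 := by
  have h1 := (ZMod.intCast_zmod_eq_zero_iff_dvd ((q : ℤ) ^ e + 1) r).mpr h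
  push_cast at h1
  have hx : (q : ZMod r) ^ e = -1 := eq_neg_of_add_eq_zero_left h1
  have hne : (-1 : ZMod r) ≠ 1 := by
    have hr3 : 2 < r := lt_of_le_of_ne (Fact.out : r.Prime).two_le (Ne.symm hr2)
    haveI : Fact (2 < r) := ⟨hr3⟩
    exact ZMod.neg_one_ne_one
  have h2e : orderOf (q : ZMod r) ∣ 2 * e := by
    rw [orderOf_dvd_iff_pow_eq_one, mul_comm, pow_mul, hx]
    norm_num
  have hne' : ¬ orderOf (q : ZMod r) ∣ e := by
    rw [orderOf_dvd_iff_pow_eq_one, hx]
    exact hne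
  generalize orderOf (q : ZMod r) = i at *
  obtain ⟨k, hk⟩ := h2e
  rcases Nat.even_or_odd' k with ⟨k', rfl | rfl⟩
  · exfalso
    apply hne'
    refine ⟨k', ?_⟩
    have : 2 * e = 2 * (i * k') := by rw [hk]; ring
    omega
  · have hieven : Even i := by
      by_contra hodd
      have hodd' : Odd i := Nat.not_even_iff_odd.mp hodd
      have : Odd (i * (2 * k' + 1)) := hodd'.mul ⟨k', rfl⟩
      rw [← hk] at this
      exact (Nat.not_odd_iff_even.mpr (even_two_mul e)) this
    obtain ⟨i', hi'⟩ := hieven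
    have hi'pos : 0 < i' := by
      rcases Nat.eq_zero_or_pos i' with h0 | h0
      · exfalso
        apply hne'
        have hi0 : i = 0 := by omega
        rw [hi0] at hk
        have : e = 0 := by omega
        rw [this]
        exact dvd_zero _
      · exact h0
    refine ⟨⟨i', hi'⟩, ?_⟩
    have he : e = i * k' + i' := by
      have : 2 * e = 2 * (i * k' + i') := by
        rw [hk, hi']
        ring
      omega
    have hdiv : i / 2 = i' := by omega
    rw [hdiv, he, Nat.mul_add_mod]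
    exact Nat.mod_eq_of_lt (by omega)

/-- HJARITH [M]: `r ∣ q^e - 1 ↔ i ∣ e` (`orderOf_dvd_iff_pow_eq_one` in `ZMod r`), `r ∣ q^e + 1 ↔ (Even i ∧ e % i = i / 2)` (`r` odd: `q^e = -1` iff `q^(2e) = 1 ≠ q^e`). -/
theorem q_hj_arith (q r d m i : ℕ) (ε : ℤ) [Fact r.Prime] (hr2 : r ≠ 2) (hε : ε = 1 ∨ ε = -1)
    (hi : i = orderOf (q : ZMod r)) (hm : m + 1 ≤ d) (hj : HJ q r d m ε) : HJi i d m ε := by
  obtain ⟨j, hjm, hdvd⟩ := hj
  have hrp : Prime (r : ℤ) := Nat.prime_iff_prime_int.mp (Fact.out : r.Prime)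
  refine ⟨j, hjm, ?_⟩
  rcases hε with rfl | rfl
  · left
    refine ⟨rfl, ?_⟩
    rcases hrp.dvd_or_dvd hdvd with h | h
    · left
      rw [hi]
      exact otshjarith_minus q r _ h
    · right
      rw [hi]
      exact otshjarith_plus q r _ hr2 h
  · right
    refine ⟨rfl, ?_⟩
    rcases hrp.dvd_or_dvd hdvd with h | h
    · left
      rw [hi]
      apply otshjarith_plus q r _ hr2
      have : (q : ℤ) ^ (d - j) - -1 = (q : ℤ) ^ (d - j) + 1 := by ring
      rwa [this] at h
    · right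
      rw [hi]
      apply otshjarith_minus q r _
      have : (q : ℤ) ^ (d - 1 - j) + -1 = (q : ℤ) ^ (d - 1 - j) - 1 := by ring
      rwa [this] at h

end Cfsg.Agent.Lib.Helper13.OTS
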