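import Mathlib
import Cfsg.Agent.Lib.Helper13.OTS.Defs

set_option autoImplicit false
set_option linter.unusedVariables false
set_option linter.unusedSectionVars false

/-!
# Project OTS, rows NEGEVEN (part R) and SCALRED.
-/

namespace Cfsg.Agent.Lib.Helper13.OTS

open Polynomial Module Cfsg.Agent.Lib.Helper13.S5955 Cfsg.Agent.Lib.helper15.S5972

/-- NEGEVEN [S-M]: `x² = -1`, `-1` a non-square: invariant subspaces have even dimension (`det (x|_W)² = (-1)^(dim W)`). -/
theorem q_neg_even {F : Type*} [Field F] (hns : ¬ IsSquare (-1 : F)) {V : Type*} [AddCommGroup V]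
    [Module F V] [FiniteDimensional F V] (x : Module.End F V) (hx : ∀ v, x (x v) = -v)
    (W : Submodule F V) (hW : SInv x W) : Even (finrank F W) := by
  by_contra hodd
  rw [Nat.not_even_iff_odd] at hodd
  apply hns
  have hW' : ∀ w ∈ W, x w ∈ W := hW
  have hyy : (x.restrict hW') * (x.restrict hW') = (-1 : F) • (1 : Module.End F W) := by
    apply LinearMap.ext
    intro w
    apply Subtype.ext
    rw [Module.End.mul_apply, LinearMap.restrict_apply, LinearMap.smul_apply, Module.End.one_apply]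
    simp only [LinearMap.restrict_apply, Submodule.coe_smul, neg_smul, one_smul]
    exact hx _
  have hdet := congrArg LinearMap.det hyy
  rw [map_mul, LinearMap.det_smul, map_one, mul_one, hodd.neg_one_pow] at hdet
  exact ⟨LinearMap.det (x.restrict hW'), hdet.symm⟩

/-- membership in the isometry group of the Prelude. -/
theorem otsscalred_mem {F : Type*} [Field F] {ι : Type} [Fintype ι] [DecidableEq ι]
    (Q : (ι → F) → F) (g : GL ι F) :
    g ∈ Cfsg.isometryGroup F Q ↔ ∀ u, Q (Matrix.mulVec (g : Matrix ι ι F) u) = Q u := by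
  constructor
  · intro h u
    exact h u u
  · intro h u v
    exact h u

/-- SCALRED [M]: an isometry `x` with `x ^ r = z • 1`: `z² = 1` (`Qs (z v) = z² Qs v`, some `Qs v ≠ 0`), and `y = z • x` (`r` odd) is an isometry with `y ^ r = z^(r+1) = 1`,
the same invariant subspaces, and `y ≠ 1` if `x` is not scalar. -/
theorem q_scal_red {F : Type*} [Field F] {ι : Type} [Fintype ι] [DecidableEq ι]
    (Qs : QuadraticForm F (ι → F)) (hne : ∃ v, Qs v ≠ 0) (r : ℕ) (hr : Odd r) (x : GL ι F)
    (hx : x ∈ Cfsg.isometryGroup F (⇑Qs))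
    (hxr : ∃ z : F, ((x ^ r : GL ι F) : Matrix ι ι F) = z • (1 : Matrix ι ι F))
    (hns : ∀ z : F, (x : Matrix ι ι F) ≠ z • (1 : Matrix ι ι F)) :
    ∃ y : GL ι F, y ∈ Cfsg.isometryGroup F (⇑Qs) ∧ y ^ r = 1 ∧ y ≠ 1 ∧
      ∀ W : Submodule F (ι → F), W.map (Matrix.toLin' (y : Matrix ι ι F)) ≤ W ↔
        W.map (Matrix.toLin' (x : Matrix ι ι F)) ≤ W := by
  obtain ⟨z, hz⟩ := hxr
  obtain ⟨v0, hv0⟩ := hne
  -- `z * z = 1`
  have hxr_mem : x ^ r ∈ Cfsg.isometryGroup F (⇑Qs) := Subgroup.pow_mem _ hx r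
  have hzz : z * z = 1 := by
    have h1 := (otsscalred_mem (⇑Qs) (x ^ r)).mp hxr_mem v0
    rw [hz, Matrix.smul_mulVec, Matrix.one_mulVec, QuadraticMap.map_smul, smul_eq_mul] at h1
    have h2 : (z * z - 1) * Qs v0 = 0 := by linear_combination h1
    rcases mul_eq_zero.mp h2 with h3 | h3
    · linear_combination h3
    · exact absurd h3 hv0
  have hz0 : z ≠ 0 := by
    rintro rfl
    simp at hzz
  -- the scalar matrix as an element of `GL`
  let s : GL ι F := Units.map (Matrix.scalar ι).toMonoidHom (Units.mk0 z hz0)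
  have hs : (s : Matrix ι ι F) = z • (1 : Matrix ι ι F) := by
    show Matrix.scalar ι z = _
    rw [Matrix.scalar_apply, Matrix.smul_one_eq_diagonal]
  have hs_mem : s ∈ Cfsg.isometryGroup F (⇑Qs) := by
    rw [otsscalred_mem]
    intro u
    rw [hs, Matrix.smul_mulVec, Matrix.one_mulVec, QuadraticMap.map_smul, hzz, smul_eq_mul, one_mul]
  have hcomm : Commute s x := by
    apply Units.ext
    show (s : Matrix ι ι F) * (x : Matrix ι ι F) = (x : Matrix ι ι F) * (s : Matrix ι ι F)
    rw [hs, Matrix.smul_mul, Matrix.one_mul, Matrix.mul_smul, Matrix.mul_one]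
  have hy : ((s * x : GL ι F) : Matrix ι ι F) = z • (x : Matrix ι ι F) := by
    show (s : Matrix ι ι F) * (x : Matrix ι ι F) = _
    rw [hs, Matrix.smul_mul, Matrix.one_mul]
  refine ⟨s * x, Subgroup.mul_mem _ hs_mem hx, ?_, ?_, ?_⟩
  · rw [hcomm.mul_pow]
    apply Units.ext
    show ((s ^ r : GL ι F) : Matrix ι ι F) * ((x ^ r : GL ι F) : Matrix ι ι F) = 1
    rw [hz, Units.val_pow_eq_pow_val, hs, _root_.smul_pow, one_pow, Matrix.smul_mul, Matrix.one_mul,
      smul_smul]
    obtain ⟨k, rfl⟩ := hr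
    have : z ^ (2 * k + 1) * z = 1 := by
      have : z ^ (2 * k + 1) * z = (z * z) ^ (k + 1) := by ring
      rw [this, hzz, one_pow]
    rw [this, one_smul]
  · intro h1
    apply hns z⁻¹
    have h2 : ((s * x : GL ι F) : Matrix ι ι F) = 1 := by rw [h1]; rfl
    rw [hy] at h2
    calc (x : Matrix ι ι F) = z⁻¹ • (z • (x : Matrix ι ι F)) := by
          rw [smul_smul, inv_mul_cancel₀ hz0, one_smul]
      _ = z⁻¹ • (1 : Matrix ι ι F) := by rw [h2]
  · intro W
    rw [hy, map_smul]
    constructor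
    · intro h w hw
      obtain ⟨u, hu, rfl⟩ := hw
      have h1 : (z • Matrix.toLin' (x : Matrix ι ι F)) u ∈ W := h ⟨u, hu, rfl⟩
      rw [LinearMap.smul_apply] at h1
      have h2 := W.smul_mem z⁻¹ h1
      rwa [smul_smul, inv_mul_cancel₀ hz0, one_smul] at h2
    · intro h w hw
      obtain ⟨u, hu, rfl⟩ := hw
      rw [LinearMap.smul_apply]
      exact W.smul_mem z (h ⟨u, hu, rfl⟩)

end Cfsg.Agent.Lib.Helper13.OTS
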