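import Mathlib
import Cfsg.Agent.Lib.helper17.SLP.Defs
import Cfsg.Agent.Lib.helper3.SP4.Defs
import Cfsg.Agent.Lib.Helper25.SP4H3
import Cfsg.Agent.Lib.Helper28.SLPFIN1core
import Cfsg.Agent.Lib.Helper26.SLPX1
import Cfsg.Agent.Lib.Helper20.SLPC1
import Cfsg.Agent.Lib.Helper20.SLPN1
import Cfsg.Agent.Lib.Helper20.SLPF4
import Cfsg.Agent.Lib.helper6.SLPM3
import Cfsg.Agent.Lib.helper6.SLPM4
import Cfsg.Agent.Lib.helper2.SLPM1
import Cfsg.Agent.Lib.helper15.SL2Card

/-!
# Project SP4 (designer helper3), row H4 (helper27): `sl_hom_odd`, verbatim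

The proof of SLP `slpfin1_core` (Helper28) with the given `ζ`, fed with the landed SLP rows X1 C1 N1 F4 M1 M3 M4, and with
`pres_hom` (H3, Helper25) in place of `pres_of_card`.
-/

set_option autoImplicit false

namespace Cfsg.Agent.Lib.helper3.SP4

open Cfsg.Agent.Lib.helper17.SLP
open Polynomial

universe u v

/-- the data of the SLP presentation of `SL₂(F)`, `|F|` odd, for a GIVEN generator `ζ`: the relator list `L = A ++ wordsSL n az`,
the word `az` of `x(ζ)`, and the two verifications (the relators hold in `SL₂(F)`; every abstract group generated by three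
elements satisfying them has at most `|SL₂(F)|` elements). -/
theorem sp4h4_data {F : Type u} [Field F] [Fintype F] (h2 : (2 : F) ≠ 0) (ζ : Fˣ)
    (hζ : ∀ y : Fˣ, y ∈ Subgroup.zpowers ζ) :
    ∃ (L : List (FreeGroup (Fin 3))) (az : FreeGroup (Fin 3)), L.length ≤ 9 ∧
      (∀ r ∈ L, ev (xM (1 : F)) (hM ζ) wM r = 1) ∧ ev (xM (1 : F)) (hM ζ) wM az = xM (ζ : F) ∧
      ∀ (G : Type) [Group G] (u h w : G), Subgroup.closure {u, h, w} = ⊤ →
        (∀ r ∈ L, ev u h w r = 1) →
        Finite G ∧ Nat.card G ≤ Nat.card (Matrix.SpecialLinearGroup (Fin 2) F) := by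
  classical
  have hp : (ringChar F).Prime := CharP.char_is_prime F (ringChar F)
  haveI hfact : Fact (ringChar F).Prime := ⟨hp⟩
  have hp2 : ringChar F ≠ 2 := by
    intro h
    apply h2
    have := CharP.cast_eq_zero F (ringChar F)
    rw [h] at this
    exact_mod_cast this
  obtain ⟨A, az, hlen, hrelA, haz, habs⟩ := ascheme_odd (ringChar F) hp2 ζ hζ
  set q := Fintype.card F with hq
  set n := (q - 1) / 2 with hn
  have hq2 : 2 ≤ q := Fintype.one_lt_card
  have hq3 : 3 ≤ q := by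
    rcases Nat.lt_or_ge 2 q with h | h
    · exact h
    · exfalso
      have h2q : q = 2 := le_antisymm h hq2
      apply h2
      have := Nat.cast_card_eq_zero F
      rw [← hq, h2q] at this
      exact_mod_cast this
  have hn1 : 1 ≤ n := by omega
  have h2n : 2 * n ≤ q - 1 := by omega
  refine ⟨A ++ wordsSL n az, az, ?_, ?_, haz, ?_⟩
  · rw [List.length_append]
    have : (wordsSL n az).length = 4 := rfl
    omega
  · intro r hr
    rcases List.mem_append.1 hr with hr | hr
    · exact hrelA r hr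
    · refine (slpfin1_ev_wordsSL (xM (1 : F)) (hM ζ) wM n az).2
        ⟨wM_hM ζ, ?_, relK1_M, ?_⟩ r hr
      · rw [wM_sq, slpfin1_hM_pow hM_mul]
        congr 1
        apply Units.ext
        rw [Units.val_pow_eq_pow_val, zeta_pow_half h2 ζ hζ]
        simp
      · rw [haz]
        exact relK2_M ζ
  · intro G _ u h w hgen hL
    have hA : ∀ r ∈ A, ev u h w r = 1 := fun r hr => hL r (List.mem_append_left _ hr)
    have hW : ∀ r ∈ wordsSL n az, ev u h w r = 1 :=
      fun r hr => hL r (List.mem_append_right _ hr)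
    obtain ⟨hwh, hw2, hK1, hK2⟩ := (slpfin1_ev_wordsSL u h w n az).1 hW
    obtain ⟨x, hadd, hconj, hx1, hxζ⟩ := habs G u h w hA
    have hN : h ^ (2 * n) = 1 := n_sl h w n hwh hw2
    have hw2' : w ^ 2 ∈ Subgroup.zpowers h := by
      rw [hw2]
      exact Subgroup.pow_mem _ (Subgroup.mem_zpowers h) n
    obtain ⟨hfin, hcard⟩ := card_le_of_struct ζ hζ u h w (2 * n) (by omega) hgen x hadd hconj hx1
      hN hwh hw2' hK1 (by rw [hxζ]; exact hK2)
    refine ⟨hfin, le_trans hcard ?_⟩
    rw [Cfsg.Agent.Lib.helper15.card_SL2, ← hq]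
    obtain ⟨m, hm⟩ : ∃ m, q = m + 1 := ⟨q - 1, by omega⟩
    rw [hm] at h2n ⊢
    have e1 : (m + 1) ^ 2 - 1 = m * (m + 1 + 1) := by
      have : (m + 1) ^ 2 = m * (m + 1 + 1) + 1 := by ring
      omega
    rw [e1, mul_assoc]
    apply Nat.mul_le_mul_left
    apply Nat.mul_le_mul_right
    simpa using h2n

/-- H4 [M-L]  deps H3.  COPY the proof of `slpfin1_core` (`Helper28.SLPFIN1core`, all its hypotheses are landed rows: see `Helper28.SLPFIN1` for how they are fed) with the given `ζ`: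
`(A, az)` from `ascheme_odd`, `n := (q-1)/2`, `L := A ++ wordsSL n az` (`≤ 5 + 4`).  The two verifications (`hrel` in `SL₂(F)`, `hcard` for an abstract group) are literally those of `slpfin1_core`;
feed them to `pres_hom` instead of `pres_of_card`.  `az` is the `az` of `ascheme_odd`. -/
theorem sl_hom_odd {F : Type u} [Field F] [Fintype F] (h2 : (2 : F) ≠ 0) (ζ : Fˣ)
    (hζ : ∀ y : Fˣ, y ∈ Subgroup.zpowers ζ) :
    ∃ (L : List (FreeGroup (Fin 3))) (az : FreeGroup (Fin 3)), L.length ≤ 9 ∧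
      (∀ r ∈ L, ev (xM (1 : F)) (hM ζ) wM r = 1) ∧ ev (xM (1 : F)) (hM ζ) wM az = xM (ζ : F) ∧
      ∀ (G : Type) [Group G] (u h w : G), (∀ r ∈ L, ev u h w r = 1) →
        ∃ φ : Matrix.SpecialLinearGroup (Fin 2) F →* G, φ (xM 1) = u ∧ φ (hM ζ) = h ∧ φ wM = w := by
  classical
  obtain ⟨L, az, hlen, hrel, haz, hcard⟩ := sp4h4_data h2 ζ hζ
  refine ⟨L, az, hlen, hrel, haz, ?_⟩
  intro G _ u h w hL
  exact pres_hom L (xM 1) (hM ζ) wM (closure_M ζ hζ) hrel hcard G u h w hL

end Cfsg.Agent.Lib.helper3.SP4
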