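import Mathlib
import Cfsg.Agent.Lib.Helper24.STCI1
import Cfsg.Agent.Lib.Helper11.STUX1
import Cfsg.Agent.Lib.Helper27.STU.Defs
import Cfsg.Agent.Lib.Helper27.STU.Defs2
import Cfsg.Agent.Lib.Helper27.STU.Defs3

/-!
# Project STU (designer helper27, S2291), rows Q1 Q2 Q3 (helper27), VERBATIM: `SUm.mat_even`, `SysU.Rep.phi_r1`, `SysU.Rep.ker_trivial_of_subsingleton`

The rank one case of the main theorem, directly through `S.r1`: the composition of `ρ : SUm F od →* G` with a representation acts on `fr a`, `dv`, `fr (ng a)` by the `3 × 3` matrix.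
-/

set_option autoImplicit false

namespace Cfsg.Agent.Lib.Helper27.STU

open Cfsg.Agent.Lib.helper15.St2 Cfsg.Agent.Lib.helper7.St Cfsg.Agent.Lib.helper3.STC

section mat
variable {F : Type*} [Field F] [StarRing F] {od : Prop}

theorem stuq1_XpM_mul (ξ η : Lam F od) : XpM ξ * XpM η = XpM (ξ * η) := by
  ext i j
  fin_cases i <;> fin_cases j <;>
    simp [XpM, Matrix.mul_apply, Fin.sum_univ_three] <;> ring

theorem stuq1_XmM_mul (ξ η : Lam F od) : XmM ξ * XmM η = XmM (ξ * η) := by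
  ext i j
  fin_cases i <;> fin_cases j <;>
    simp [XmM, Matrix.mul_apply, Fin.sum_univ_three] <;> ring

theorem stuq1_XpM_one : XpM (1 : Lam F od) = 1 := by
  ext i j
  fin_cases i <;> fin_cases j <;> simp [XpM, Matrix.one_apply]

theorem stuq1_XmM_one : XmM (1 : Lam F od) = 1 := by
  ext i j
  fin_cases i <;> fin_cases j <;> simp [XmM, Matrix.one_apply]

theorem stuq1_XpS_inv (ξ : Lam F od) : (XpS ξ)⁻¹ = XpS ξ⁻¹ := by
  symm
  apply eq_inv_of_mul_eq_one_left
  apply Subtype.ext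
  show XpM ξ⁻¹ * XpM ξ = 1
  rw [stuq1_XpM_mul, inv_mul_cancel, stuq1_XpM_one]

theorem stuq1_XmS_inv (ξ : Lam F od) : (XmS ξ)⁻¹ = XmS ξ⁻¹ := by
  symm
  apply eq_inv_of_mul_eq_one_left
  apply Subtype.ext
  show XmM ξ⁻¹ * XmM ξ = 1
  rw [stuq1_XmM_mul, inv_mul_cancel, stuq1_XmM_one]

/-- induction on the rank one group -/
theorem stuq1_induction {p : ↥(SUm F od) → Prop} (hp : ∀ ξ, p (XpU ξ)) (hm : ∀ ξ, p (XmU ξ)) (one : p 1)
    (mul : ∀ M N, p M → p N → p (M * N)) (M : ↥(SUm F od)) : p M := by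
  obtain ⟨m, hmem⟩ := M
  unfold SUm at hmem
  induction hmem using Subgroup.closure_induction'' with
  | mem x hx =>
    rcases hx with ⟨ξ, rfl⟩ | ⟨ξ, rfl⟩
    · exact hp ξ
    · exact hm ξ
  | inv_mem x hx =>
    rcases hx with ⟨ξ, rfl⟩ | ⟨ξ, rfl⟩
    · have h := hp ξ⁻¹
      have e : (XpU ξ⁻¹ : ↥(SUm F od)) = ⟨(XpS ξ)⁻¹, inv_mem (Subgroup.subset_closure (Or.inl ⟨ξ, rfl⟩))⟩ :=
        Subtype.ext (stuq1_XpS_inv ξ).symm
      rw [e] at h
      exact h
    · have h := hm ξ⁻¹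
      have e : (XmU ξ⁻¹ : ↥(SUm F od)) = ⟨(XmS ξ)⁻¹, inv_mem (Subgroup.subset_closure (Or.inr ⟨ξ, rfl⟩))⟩ :=
        Subtype.ext (stuq1_XmS_inv ξ).symm
      rw [e] at h
      exact h
  | one => exact one
  | mul x y hx hy hpx hpy => exact mul ⟨x, hx⟩ ⟨y, hy⟩ hpx hpy

/-- Q1 [S-M]  in the even case the rank one group consists of matrices with trivial middle row and column (closure induction; `ξ.v = 0` by `ξ.hv`). -/
theorem SUm.mat_even {F : Type*} [Field F] [StarRing F] {od : Prop} (hod : ¬ od) (M : ↥(SUm F od)) :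
    SUm.mat M 1 0 = 0 ∧ SUm.mat M 1 2 = 0 ∧ SUm.mat M 0 1 = 0 ∧ SUm.mat M 2 1 = 0 ∧ SUm.mat M 1 1 = 1 := by
  induction M using stuq1_induction with
  | hp ξ =>
    rw [SUm.mat_XpU]
    simp [XpM, ξ.hv hod]
  | hm ξ =>
    rw [SUm.mat_XmU]
    simp [XmM, ξ.hv hod]
  | one =>
    rw [SUm.mat_one]
    simp
  | mul M N hM hN =>
    obtain ⟨a1, a2, a3, a4, a5⟩ := hM
    obtain ⟨b1, b2, b3, b4, b5⟩ := hN
    rw [SUm.mat_mul]
    simp [Matrix.mul_apply, Fin.sum_univ_three, a1, a2, a3, a4, a5, b1, b2, b3, b4, b5]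

end mat

namespace SysU

namespace Rep

variable {F : Type*} [Field F] [StarRing F] {od : Prop} {ι : Type*} {G : Type*} [Group G] {S : SysU F od ι G}
  {V : Type*} [AddCommGroup V] [Module F V] (R : S.Rep V)

theorem stuq1_B_dv (a : ι ⊕ ι) : R.B (R.fr a) R.dv = 0 := by
  rw [R.B_herm, R.gram_d, star_zero]

theorem stuq1_B_self (a : ι ⊕ ι) : R.B (R.fr a) (R.fr a) = 0 :=
  R.gram0 a a (ne_ng a)

theorem stuq1_B_ng (a : ι ⊕ ι) : R.B (R.fr (ng a)) (R.fr a) = 1 := by
  have := R.gram1 (ng a)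
  rwa [ng_ng] at this

theorem stuq1_xl_fr (a : ι ⊕ ι) (ξ : Lam F od) : R.φ (S.xl a ξ) (R.fr a) = R.fr a := by
  rw [R.hxl, stuq1_B_dv, stuq1_B_self]
  simp

theorem stuq1_xl_ng (a : ι ⊕ ι) (ξ : Lam F od) :
    R.φ (S.xl a ξ) (R.fr (ng a)) = R.fr (ng a) + ξ.c • R.fr a - star ξ.v • R.dv := by
  rw [R.hxl, stuq1_B_dv, stuq1_B_ng]
  simp

theorem stuq1_xl_dv (hod : od) (a : ι ⊕ ι) (ξ : Lam F od) : R.φ (S.xl a ξ) R.dv = R.dv + ξ.v • R.fr a := by
  rw [R.hxl, R.gram_d, R.gram_dd hod]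
  simp

/-- Q2 [M]  the homomorphism `ρ` of `S.r1 a`, composed with `R.φ`, acts on `fr a`, `dv`, `fr (ng a)` by the matrix. -/
theorem phi_r1 (a : ι ⊕ ι) (ρ : ↥(SUm F od) →* G) (hρ : ∀ ξ, ρ (XpU ξ) = S.xl a ξ ∧ ρ (XmU ξ) = S.xl (ng a) ξ) (M : ↥(SUm F od)) :
    (R.φ (ρ M) (R.fr a) = SUm.mat M 0 0 • R.fr a + SUm.mat M 1 0 • R.dv + SUm.mat M 2 0 • R.fr (ng a)) ∧
    (R.φ (ρ M) (R.fr (ng a)) = SUm.mat M 0 2 • R.fr a + SUm.mat M 1 2 • R.dv + SUm.mat M 2 2 • R.fr (ng a)) ∧
    (od → R.φ (ρ M) R.dv = SUm.mat M 0 1 • R.fr a + SUm.mat M 1 1 • R.dv + SUm.mat M 2 1 • R.fr (ng a)) := by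
  induction M using stuq1_induction with
  | hp ξ =>
    rw [(hρ ξ).1, SUm.mat_XpU]
    refine ⟨?_, ?_, fun hod => ?_⟩
    · rw [stuq1_xl_fr]
      simp [XpM]
    · rw [stuq1_xl_ng]
      simp [XpM]
      module
    · rw [stuq1_xl_dv R hod]
      simp [XpM]
      module
  | hm ξ =>
    rw [(hρ ξ).2, SUm.mat_XmU]
    refine ⟨?_, ?_, fun hod => ?_⟩
    · have h := stuq1_xl_ng R (ng a) ξ
      rw [ng_ng] at h
      rw [h]
      simp [XmM]
      module
    · have h := stuq1_xl_fr R (ng a) ξ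
      rw [h]
      simp [XmM]
    · rw [stuq1_xl_dv R hod]
      simp [XmM]
  | one =>
    rw [map_one, map_one, SUm.mat_one]
    refine ⟨?_, ?_, fun _ => ?_⟩ <;> simp
  | mul M N hM hN =>
    obtain ⟨a1, a2, a3⟩ := hM
    obtain ⟨b1, b2, b3⟩ := hN
    rw [map_mul, map_mul, SUm.mat_mul]
    by_cases hod : od
    · have a3' := a3 hod
      have b3' := b3 hod
      refine ⟨?_, ?_, fun _ => ?_⟩
      · rw [LinearEquiv.mul_apply, b1, map_add, map_add, map_smul, map_smul, map_smul, a1, a2, a3']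
        simp only [Matrix.mul_apply, Fin.sum_univ_three]
        module
      · rw [LinearEquiv.mul_apply, b2, map_add, map_add, map_smul, map_smul, map_smul, a1, a2, a3']
        simp only [Matrix.mul_apply, Fin.sum_univ_three]
        module
      · rw [LinearEquiv.mul_apply, b3', map_add, map_add, map_smul, map_smul, map_smul, a1, a2, a3']
        simp only [Matrix.mul_apply, Fin.sum_univ_three]
        module
    · obtain ⟨c1, c2, -, -, -⟩ := SUm.mat_even hod N
      refine ⟨?_, ?_, fun h => absurd h hod⟩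
      · rw [LinearEquiv.mul_apply, b1, c1, zero_smul, add_zero, map_add, map_smul, map_smul, a1, a2]
        simp only [Matrix.mul_apply, Fin.sum_univ_three, c1]
        module
      · rw [LinearEquiv.mul_apply, b2, c2, zero_smul, add_zero, map_add, map_smul, map_smul, a1, a2]
        simp only [Matrix.mul_apply, Fin.sum_univ_three, c2]
        module

theorem stuq1_pair [Subsingleton ι] (a b : ι ⊕ ι) : a = b ∨ a = ng b := by
  rcases a with i | i <;> rcases b with j | j
  · left; rw [Subsingleton.elim i j]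
  · right; rw [Subsingleton.elim i j]; rfl
  · right; rw [Subsingleton.elim i j]; rfl
  · left; rw [Subsingleton.elim i j]

/-- Q3 [M]  rank one: the kernel is trivial. -/
theorem ker_trivial_of_subsingleton [Subsingleton ι] (i₀ : ι) (hgen : S.XQ (fun _ _ => True) = ⊤) (g : G) (hg : R.φ g = 1) : g = 1 := by
  obtain ⟨ρ, hρ⟩ := S.r1 (Sum.inl i₀)
  have hle : S.XQ (fun _ _ => True) ≤ ρ.range := by
    apply S.XQ_le
    · intro a b t hab hab' _
      rcases stuq1_pair a b with h | h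
      · exact absurd h hab
      · exact absurd h hab'
    · intro a ξ _
      rcases a with i | i
      · rw [Subsingleton.elim i i₀]
        exact ⟨XpU ξ, (hρ ξ).1⟩
      · rw [Subsingleton.elim i i₀]
        exact ⟨XmU ξ, (hρ ξ).2⟩
  obtain ⟨M, rfl⟩ : g ∈ ρ.range := hle (by rw [hgen]; exact Subgroup.mem_top g)
  obtain ⟨h1, h2, h3⟩ := R.phi_r1 (Sum.inl i₀) ρ hρ M
  rw [hg] at h1 h2 h3
  simp only [LinearEquiv.coe_one, id_eq] at h1 h2 h3
  set a : ι ⊕ ι := Sum.inl i₀ with ha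
  -- pair the identities with the frame
  have B1 : ∀ x y z : V, ∀ r s t : F, ∀ w : V, R.B (r • x + s • y + t • z) w = r * R.B x w + s * R.B y w + t * R.B z w := by
    intro x y z r s t w
    rw [R.B_add_left, R.B_add_left, R.B_smul_left, R.B_smul_left, R.B_smul_left]
  have g1 : R.B (R.fr a) (R.fr (ng a)) = 1 := R.gram1 a
  have g2 : R.B (R.fr (ng a)) (R.fr a) = 1 := stuq1_B_ng R a
  have g3 : R.B (R.fr a) (R.fr a) = 0 := stuq1_B_self R a
  have g4 : R.B (R.fr (ng a)) (R.fr (ng a)) = 0 := stuq1_B_self R (ng a)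
  have g5 : R.B R.dv (R.fr a) = 0 := R.gram_d a
  have g6 : R.B R.dv (R.fr (ng a)) = 0 := R.gram_d (ng a)
  have g7 : R.B (R.fr a) R.dv = 0 := stuq1_B_dv R a
  have g8 : R.B (R.fr (ng a)) R.dv = 0 := stuq1_B_dv R (ng a)
  -- column 0
  have c00 : SUm.mat M 0 0 = 1 := by
    have := congrArg (fun x => R.B x (R.fr (ng a))) h1
    simp only [B1, g1, g6, g4] at this
    linear_combination -this
  have c20 : SUm.mat M 2 0 = 0 := by
    have := congrArg (fun x => R.B x (R.fr a)) h1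
    simp only [B1, g3, g5, g2] at this
    linear_combination -this
  have c02 : SUm.mat M 0 2 = 0 := by
    have := congrArg (fun x => R.B x (R.fr (ng a))) h2
    simp only [B1, g1, g6, g4] at this
    linear_combination -this
  have c22 : SUm.mat M 2 2 = 1 := by
    have := congrArg (fun x => R.B x (R.fr a)) h2
    simp only [B1, g3, g5, g2] at this
    linear_combination -this
  have hmid : SUm.mat M 1 0 = 0 ∧ SUm.mat M 1 2 = 0 ∧ SUm.mat M 0 1 = 0 ∧ SUm.mat M 2 1 = 0 ∧ SUm.mat M 1 1 = 1 := by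
    by_cases hod : od
    · have gd : R.B R.dv R.dv = 1 := R.gram_dd hod
      have h3' := h3 hod
      refine ⟨?_, ?_, ?_, ?_, ?_⟩
      · have := congrArg (fun x => R.B x R.dv) h1
        simp only [B1, g7, g8, gd] at this
        linear_combination -this
      · have := congrArg (fun x => R.B x R.dv) h2
        simp only [B1, g7, g8, gd] at this
        linear_combination -this
      · have := congrArg (fun x => R.B x (R.fr (ng a))) h3'
        simp only [B1, g1, g6, g4] at this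
        linear_combination -this
      · have := congrArg (fun x => R.B x (R.fr a)) h3'
        simp only [B1, g3, g5, g2] at this
        linear_combination -this
      · have := congrArg (fun x => R.B x R.dv) h3'
        simp only [B1, g7, g8, gd] at this
        linear_combination -this
    · exact SUm.mat_even hod M
  obtain ⟨c10, c12, c01, c21, c11⟩ := hmid
  have hM : M = 1 := by
    apply SUm.mat_injective
    rw [SUm.mat_one]
    ext i j
    fin_cases i <;> fin_cases j <;> simp [c00, c20, c02, c22, c10, c12, c01, c21, c11]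
  rw [hM, map_one]

end Rep

end SysU

end Cfsg.Agent.Lib.Helper27.STU
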