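import Cfsg.Agent.Lib.Helper28.TOO.Defs2

/-!
# Project TOO, row GC1 (sqzero_kron_scalar): `(α ⊗ β - 1)² = 0`, `2 ≠ 0` ⇒ `α` scalar or `β` scalar.

Entrywise: `(α²)_{ii'} β² - 2 α_{ii'} β + δ_{ii'} = 0` for all `i, i'`; two such equations `p β² - 2 q β + r = 0`,
`p' β² - 2 q' β + r' = 0` with `q r' - q' r ≠ 0` force `β` to be scalar; if `α` is not scalar such a pair exists.
-/

set_option autoImplicit false
set_option linter.unusedVariables false
set_option linter.unusedSectionVars false

namespace Cfsg.Agent.Lib.Helper28.TOO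

open Matrix
open scoped Kronecker
open Cfsg.Agent.Lib.helper7.TP Cfsg.Agent.Lib.Helper21.TS

/-- two independent quadratic relations force `β` to be scalar. -/
theorem toogc1_core {b : ℕ} {F : Type*} [Field F] (h2 : (2 : F) ≠ 0) (β : Matrix (Fin b) (Fin b) F) (hb : 0 < b)
    (p q r p' q' r' : F)
    (hE : ∀ j j', p * (β * β) j j' - 2 * (q * β j j') + r * (1 : Matrix (Fin b) (Fin b) F) j j' = 0)
    (hE' : ∀ j j', p' * (β * β) j j' - 2 * (q' * β j j') + r' * (1 : Matrix (Fin b) (Fin b) F) j j' = 0)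
    (hD : q * r' - q' * r ≠ 0) : ∃ c : F, β = c • (1 : Matrix (Fin b) (Fin b) F) := by
  set D := q * r' - q' * r with hDdef
  set P := r' * p - r * p' with hP
  set Q := q' * p - q * p' with hQ
  have e1 : ∀ j j', P * (β * β) j j' - 2 * D * β j j' = 0 := by
    intro j j'
    linear_combination r' * hE j j' - r * hE' j j'
  have e2 : ∀ j j', Q * (β * β) j j' - D * (1 : Matrix (Fin b) (Fin b) F) j j' = 0 := by
    intro j j'
    linear_combination q' * hE j j' - q * hE' j j'
  have hQ0 : Q ≠ 0 := by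
    intro h0
    have := e2 ⟨0, hb⟩ ⟨0, hb⟩
    rw [h0, zero_mul, Matrix.one_apply_eq, mul_one, zero_sub, neg_eq_zero] at this
    exact hD this
  refine ⟨P / (2 * Q), ?_⟩
  ext j j'
  rw [Matrix.smul_apply, smul_eq_mul]
  have key : 2 * Q * D * β j j' = P * D * (1 : Matrix (Fin b) (Fin b) F) j j' := by
    linear_combination (-Q) * e1 j j' + P * e2 j j'
  have h2Q : (2 : F) * Q ≠ 0 := mul_ne_zero h2 hQ0
  apply mul_left_cancel₀ hD
  apply mul_left_cancel₀ h2Q
  rw [show 2 * Q * (D * (P / (2 * Q) * (1 : Matrix (Fin b) (Fin b) F) j j')) =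
    (2 * Q) / (2 * Q) * (P * D * (1 : Matrix (Fin b) (Fin b) F) j j') by ring, div_self h2Q, one_mul, ← key]
  ring

/-- GC1 [M]. `(α ⊗ β - 1)² = 0`, `2 ≠ 0` ⇒ `α` scalar or `β` scalar. -/
theorem sqzero_kron_scalar {a b : ℕ} {F : Type*} [Field F] (h2 : (2 : F) ≠ 0) (α : Matrix (Fin a) (Fin a) F)
    (β : Matrix (Fin b) (Fin b) F)
    (h : (α ⊗ₖ β - 1) * (α ⊗ₖ β - 1) = 0) :
    (∃ c : F, α = c • (1 : Matrix (Fin a) (Fin a) F)) ∨ (∃ c : F, β = c • (1 : Matrix (Fin b) (Fin b) F)) := by
  rcases Nat.eq_zero_or_pos b with hb | hb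
  · right
    subst hb
    exact ⟨0, by ext j; exact j.elim0⟩
  have hK : (α * α) ⊗ₖ (β * β) - α ⊗ₖ β - α ⊗ₖ β + 1 = 0 := by
    rw [Matrix.mul_kronecker_mul, ← h]
    noncomm_ring
  have hent : ∀ i i' j j', (α * α) i i' * (β * β) j j' - 2 * (α i i' * β j j') +
      (if i = i' then (1 : F) else 0) * (1 : Matrix (Fin b) (Fin b) F) j j' = 0 := by
    intro i i' j j'
    have h1 := congrFun (congrFun hK (i, j)) (i', j')
    simp only [Matrix.add_apply, Matrix.sub_apply, Matrix.kroneckerMap_apply, Matrix.zero_apply,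
      Matrix.one_apply, Prod.mk.injEq] at h1
    rw [Matrix.one_apply]
    by_cases hi : i = i'
    · by_cases hj : j = j'
      · simp only [hi, hj, and_self, if_true] at h1 ⊢
        linear_combination h1
      · simp only [hi, hj, and_false, if_false, if_true] at h1 ⊢
        linear_combination h1
    · simp only [hi, false_and, if_false] at h1 ⊢
      linear_combination h1
  by_cases hoff : ∃ i i', i ≠ i' ∧ α i i' ≠ 0
  · obtain ⟨i, i', hii', hα⟩ := hoff
    right
    refine toogc1_core h2 β hb ((α * α) i i') (α i i') 0 ((α * α) i i) (α i i) 1 ?_ ?_ ?_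
    · intro j j'
      have := hent i i' j j'
      rw [if_neg hii'] at this
      exact this
    · intro j j'
      have := hent i i j j'
      rw [if_pos rfl] at this
      exact this
    · rw [mul_one, mul_zero, sub_zero]
      exact hα
  · push Not at hoff
    by_cases hdiag : ∃ i k, α i i ≠ α k k
    · obtain ⟨i, k, hik⟩ := hdiag
      right
      refine toogc1_core h2 β hb ((α * α) i i) (α i i) 1 ((α * α) k k) (α k k) 1 ?_ ?_ ?_
      · intro j j'
        have := hent i i j j'
        rw [if_pos rfl] at this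
        exact this
      · intro j j'
        have := hent k k j j'
        rw [if_pos rfl] at this
        exact this
      · rw [mul_one, mul_one]
        exact sub_ne_zero.mpr hik
    · push Not at hdiag
      left
      rcases Nat.eq_zero_or_pos a with ha | ha
      · subst ha
        exact ⟨0, by ext i; exact i.elim0⟩
      · refine ⟨α ⟨0, ha⟩ ⟨0, ha⟩, ?_⟩
        ext i i'
        rw [Matrix.smul_apply, smul_eq_mul, Matrix.one_apply]
        by_cases hi : i = i'
        · rw [if_pos hi, mul_one, ← hi]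
          exact hdiag i ⟨0, ha⟩
        · rw [if_neg hi, mul_zero]
          exact hoff i i' hi

end Cfsg.Agent.Lib.Helper28.TOO
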