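import Cfsg.Agent.Lib.Helper28.TOO.Defs2
import Cfsg.Agent.Lib.Helper16.TSDSKEWh16

/-!
# Project TOO, row GC3 (sqzero_iso_rank_ne_one): a square-zero isometry `1 + ν` of a symmetric non-degenerate form
(`2 ≠ 0`) has `rank ν ≠ 1` (`ν` is skew-adjoint, `J ν` is skew-symmetric, of even rank).
-/

set_option autoImplicit false
set_option linter.unusedVariables false
set_option linter.unusedSectionVars false

namespace Cfsg.Agent.Lib.Helper28.TOO

open Matrix
open scoped Kronecker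
open Cfsg.Agent.Lib.helper7.TP Cfsg.Agent.Lib.Helper21.TS

/-- the nilpotent part of a square-zero isometry is skew-adjoint: `νᵀ J = -(J ν)`. -/
theorem toogc3_skewAdj {ι : Type*} [Fintype ι] [DecidableEq ι] {F : Type*} [Field F] {J : Matrix ι ι F}
    (ν : Matrix ι ι F) (hiso : (1 + ν)ᵀ * J * (1 + ν) = J) (hsq : ν * ν = 0) : νᵀ * J = -(J * ν) := by
  have h1 : (1 + ν) * (1 - ν) = 1 := by
    rw [Matrix.add_mul, Matrix.mul_sub, Matrix.mul_sub, hsq, Matrix.one_mul, Matrix.mul_one, Matrix.one_mul]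
    abel
  have h2 : (1 + ν)ᵀ * J = J * (1 - ν) := by
    calc (1 + ν)ᵀ * J = (1 + ν)ᵀ * J * ((1 + ν) * (1 - ν)) := by rw [h1, Matrix.mul_one]
      _ = ((1 + ν)ᵀ * J * (1 + ν)) * (1 - ν) := by simp only [Matrix.mul_assoc]
      _ = J * (1 - ν) := by rw [hiso]
  rw [Matrix.transpose_add, Matrix.transpose_one, Matrix.add_mul, Matrix.one_mul, Matrix.mul_sub,
    Matrix.mul_one] at h2
  have h3 : νᵀ * J = (J + νᵀ * J) - J := by abel
  rw [h3, h2]
  abel

/-- in bilinear terms. -/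
theorem toogc3_skew_bf {ι : Type*} [Fintype ι] [DecidableEq ι] {F : Type*} [Field F] {J : Matrix ι ι F}
    (ν : Matrix ι ι F) (hiso : (1 + ν)ᵀ * J * (1 + ν) = J) (hsq : ν * ν = 0) (x y : ι → F) :
    bf J (ν *ᵥ x) y = - bf J x (ν *ᵥ y) := by
  rw [bf_mulVec_left, bf_mulVec_right, toogc3_skewAdj ν hiso hsq]
  simp only [bf, Matrix.neg_mulVec, dotProduct_neg]

/-- GC3 [S-M]. a square-zero isometry `1 + ν` of a symmetric non-degenerate form (`2 ≠ 0`) has `rank ν ≠ 1`. -/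
theorem sqzero_iso_rank_ne_one {F : Type*} [Field F] {n : ℕ} {J : Matrix (Fin n) (Fin n) F} (h2 : (2 : F) ≠ 0)
    (hJ : Jᵀ = J) (hdet : J.det ≠ 0)
    (ν : Matrix (Fin n) (Fin n) F) (hiso : (1 + ν)ᵀ * J * (1 + ν) = J) (hsq : ν * ν = 0) : ν.rank ≠ 1 := by
  have hskew : (J * ν)ᵀ = -(J * ν) := by
    rw [Matrix.transpose_mul, hJ, toogc3_skewAdj ν hiso hsq]
  have heven := Cfsg.Agent.Lib.helper4.TSD.tsdskew_h16_rank_even h2 (J * ν) hskew
  have hrk : (J * ν).rank = ν.rank :=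
    Matrix.rank_mul_eq_right_of_isUnit_det J ν (isUnit_iff_ne_zero.mpr hdet)
  rw [hrk] at heven
  intro h1
  rw [h1] at heven
  exact absurd heven (by decide)

end Cfsg.Agent.Lib.Helper28.TOO
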