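import Cfsg.Agent.Lib.Helper28.TOO.Defs2
import Cfsg.Agent.Lib.Helper27.TOOGC3

/-!
# Project TOO, row GC2 (sqzero_iso_rank2): a square-zero isometry `1 + ν` of a symmetric non-degenerate `J` (`2 ≠ 0`) with
`rank ν = 2` is a long root element: `ν = c • N_{w₁,w₂}` with `⟨w₁,w₂⟩` totally singular.
-/

set_option autoImplicit false
set_option linter.unusedVariables false
set_option linter.unusedSectionVars false

namespace Cfsg.Agent.Lib.Helper28.TOO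

open Matrix
open scoped Kronecker
open Cfsg.Agent.Lib.helper7.TP Cfsg.Agent.Lib.Helper21.TS

theorem toogc2_Nw_mulVec {ι : Type*} [Fintype ι] [DecidableEq ι] {F : Type*} [Field F] (J : Matrix ι ι F)
    (w₁ w₂ x : ι → F) : Nw J w₁ w₂ *ᵥ x = bf J w₂ x • w₁ - bf J w₁ x • w₂ := by
  rw [Nw, Matrix.sub_mulVec, opm_mulVec, opm_mulVec]

/-- a matrix of rank `2`: two independent vectors `ν z₁`, `ν z₂` spanning the range. -/
theorem toogc2_rank_two {ι : Type*} [Fintype ι] [DecidableEq ι] {F : Type*} [Field F]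
    (ν : Matrix ι ι F) (hrk : ν.rank = 2) :
    ∃ z₁ z₂ : ι → F, (∀ c₁ c₂ : F, c₁ • (ν *ᵥ z₁) + c₂ • (ν *ᵥ z₂) = 0 → c₁ = 0 ∧ c₂ = 0) ∧
      ∀ x : ι → F, ∃ p q : F, ν *ᵥ x = p • (ν *ᵥ z₁) + q • (ν *ᵥ z₂) := by
  classical
  have hfr : Module.finrank F ↥(LinearMap.range ν.mulVecLin) = 2 := hrk
  let bs := Module.finBasisOfFinrankEq F ↥(LinearMap.range ν.mulVecLin) hfr
  obtain ⟨z₁, hz₁⟩ := (bs 0).2
  obtain ⟨z₂, hz₂⟩ := (bs 1).2
  rw [Matrix.mulVecLin_apply] at hz₁ hz₂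
  refine ⟨z₁, z₂, ?_, ?_⟩
  · intro c₁ c₂ h
    rw [hz₁, hz₂] at h
    have h' : c₁ • bs 0 + c₂ • bs 1 = 0 := by
      apply Subtype.ext
      simpa using h
    have h'' := congrArg bs.repr h'
    rw [map_add, map_smul, map_smul, Module.Basis.repr_self, Module.Basis.repr_self, map_zero] at h''
    have e0 := DFunLike.congr_fun h'' 0
    have e1 := DFunLike.congr_fun h'' 1
    simp at e0 e1
    exact ⟨e0, e1⟩
  · intro x
    have hx : ν *ᵥ x ∈ LinearMap.range ν.mulVecLin := ⟨x, rfl⟩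
    have hsum := bs.sum_repr ⟨ν *ᵥ x, hx⟩
    rw [Fin.sum_univ_two] at hsum
    refine ⟨bs.repr ⟨ν *ᵥ x, hx⟩ 0, bs.repr ⟨ν *ᵥ x, hx⟩ 1, ?_⟩
    have := congrArg Subtype.val hsum
    rw [hz₁, hz₂]
    simpa using this.symm

/-- GC2 [M-L]. -/
theorem sqzero_iso_rank2 {F : Type*} [Field F] {n : ℕ} {J : Matrix (Fin n) (Fin n) F} (h2 : (2 : F) ≠ 0)
    (hJ : Jᵀ = J) (hdet : J.det ≠ 0)
    (ν : Matrix (Fin n) (Fin n) F) (hiso : (1 + ν)ᵀ * J * (1 + ν) = J) (hsq : ν * ν = 0) (hrk : ν.rank = 2) :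
    ∃ (w₁ w₂ : Fin n → F) (c : F), IsTS J w₁ w₂ ∧ c ≠ 0 ∧ ν = c • Nw J w₁ w₂ := by
  have hskew := toogc3_skew_bf ν hiso hsq
  have hsym := bf_symm hJ
  have hνν : ∀ y, ν *ᵥ (ν *ᵥ y) = 0 := by
    intro y
    rw [Matrix.mulVec_mulVec, hsq, Matrix.zero_mulVec]
  -- the range is totally singular
  have hts : ∀ x y, bf J (ν *ᵥ x) (ν *ᵥ y) = 0 := by
    intro x y
    rw [hskew, hνν, bf_zero_right, neg_zero]
  -- `f (ν z, z) = 0`
  have hzz : ∀ z, bf J (ν *ᵥ z) z = 0 := by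
    intro z
    have h1 := hskew z z
    rw [hsym z (ν *ᵥ z)] at h1
    have : (2 : F) * bf J (ν *ᵥ z) z = 0 := by linear_combination h1
    rcases mul_eq_zero.mp this with h | h
    · exact absurd h h2
    · exact h
  obtain ⟨z₁, z₂, hind, hspan⟩ := toogc2_rank_two ν hrk
  set w₁ := ν *ᵥ z₁ with hw₁
  set w₂ := ν *ᵥ z₂ with hw₂
  set c' := bf J w₁ z₂ with hc'
  have h21 : bf J w₂ z₁ = -c' := by
    rw [hw₂, hskew, ← hw₁, hsym z₂ w₁]
  -- the coefficients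
  have hcoef : ∀ x p q, ν *ᵥ x = p • w₁ + q • w₂ → p * c' = -bf J w₂ x ∧ q * c' = bf J w₁ x := by
    intro x p q hx
    constructor
    · have h1 := hskew x z₂
      rw [← hw₂, hx, bf_add_left, bf_smul_left, bf_smul_left, ← hc', hw₂, hzz z₂, ← hw₂, hsym x w₂] at h1
      linear_combination h1
    · have h1 := hskew x z₁
      rw [← hw₁, hx, bf_add_left, bf_smul_left, bf_smul_left, hw₁, hzz z₁, ← hw₁, h21, hsym x w₁] at h1
      linear_combination -h1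
  have hw₁0 : w₁ ≠ 0 := by
    intro h0
    have := (hind 1 0 (by rw [h0]; simp)).1
    exact one_ne_zero this
  have hc'0 : c' ≠ 0 := by
    intro h0
    obtain ⟨y, hy⟩ := bf_nondeg hdet hw₁0
    obtain ⟨p, q, hpq⟩ := hspan y
    have := (hcoef y p q hpq).2
    rw [h0, mul_zero] at this
    exact hy this.symm
  refine ⟨w₁, w₂, -c'⁻¹, ⟨hts z₁ z₁, hts z₁ z₂, hts z₂ z₂, hind⟩, neg_ne_zero.mpr (inv_ne_zero hc'0), ?_⟩
  rw [Matrix.ext_iff_mulVec]
  intro x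
  obtain ⟨p, q, hpq⟩ := hspan x
  obtain ⟨hp, hq⟩ := hcoef x p q hpq
  have hp' : p = -c'⁻¹ * bf J w₂ x := by
    field_simp
    linear_combination hp
  have hq' : q = c'⁻¹ * bf J w₁ x := by
    field_simp
    linear_combination hq
  rw [Matrix.smul_mulVec, toogc2_Nw_mulVec, hpq, hp', hq', smul_sub, smul_smul, smul_smul]
  rw [sub_eq_add_neg, ← neg_smul]
  congr 2
  ring

end Cfsg.Agent.Lib.Helper28.TOO
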