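import Cfsg.Agent.Lib.Helper21.TOO.LDefs

/-!
# Project TOO, LOCAL block, rows LQ1–LQ4: the class calculus in `Q_{A ⊗ w}` (products, inverses, conjugation by `1 ⊗ σ` and `α ⊗ 1`).
-/

set_option autoImplicit false
set_option linter.unusedSectionVars false
set_option linter.unusedVariables false

namespace Cfsg.Agent.Lib.Helper28.TOO

open Matrix
open scoped Kronecker
open Cfsg.Agent.Lib.helper7.TP Cfsg.Agent.Lib.Helper21.TS

variable {ι : Type*} [Fintype ι] [DecidableEq ι] {a b : ℕ} {F : Type*} [Field F]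
  {J1 : Matrix (Fin a) (Fin a) F} {J2 : Matrix (Fin b) (Fin b) F}
  {M : Subgroup (Matrix.GeneralLinearGroup (Fin a × Fin b) F)}

/-- the class is determined by the action on the pure tensors `x ⊗ n`. -/
theorem toolq_Zc_eq {h : Matrix (Fin a × Fin b) (Fin a × Fin b) F} {w φ n : Fin b → F} (hφ : φ ⬝ᵥ w = 1)
    (Y : Matrix (Fin a) (Fin a) F) (hY : ∀ x : Fin a → F, h *ᵥ ten x n = ten x n + ten (Y *ᵥ x) w) :
    Zc h φ n = Y := by
  rw [Matrix.ext_iff_mulVec]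
  intro x
  rw [Zc_mulVec, hY, add_sub_cancel_left, ctr_ten, hφ, one_smul]

/-- `InQ` from an explicit class. -/
theorem toolq_inQ_of {h : Matrix (Fin a × Fin b) (Fin a × Fin b) F} {w : Fin b → F}
    (h1 : ∀ x : Fin a → F, h *ᵥ ten x w = ten x w)
    (h2 : ∀ n : Fin b → F, bf J2 w n = 0 → ∃ Y : Matrix (Fin a) (Fin a) F,
      ∀ x : Fin a → F, h *ᵥ ten x n = ten x n + ten (Y *ᵥ x) w) : InQ J2 h w := by
  refine ⟨h1, ?_⟩
  intro n hn x
  obtain ⟨Y, hY⟩ := h2 n hn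
  exact ⟨Y *ᵥ x, hY x⟩

/-- LQ1 [S-M]. products: `InQ` and the classes add. -/
theorem inQ_mul {h h' : Matrix (Fin a × Fin b) (Fin a × Fin b) F} {w φ : Fin b → F}
    (hQ : InQ J2 h w) (hQ' : InQ J2 h' w) (hφ : φ ⬝ᵥ w = 1) :
    InQ J2 (h * h') w ∧ ∀ n : Fin b → F, bf J2 w n = 0 → Zc (h * h') φ n = Zc h φ n + Zc h' φ n := by
  have key : ∀ n : Fin b → F, bf J2 w n = 0 → ∀ x : Fin a → F,
      (h * h') *ᵥ ten x n = ten x n + ten ((Zc h φ n + Zc h' φ n) *ᵥ x) w := by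
    intro n hn x
    rw [← Matrix.mulVec_mulVec, Zc_spec hQ' hφ hn, Matrix.mulVec_add, Zc_spec hQ hφ hn, hQ.1,
      Matrix.add_mulVec, ten_add_left]
    abel
  refine ⟨toolq_inQ_of ?_ ?_, ?_⟩
  · intro x
    rw [← Matrix.mulVec_mulVec, hQ'.1, hQ.1]
  · intro n hn
    exact ⟨_, key n hn⟩
  · intro n hn
    exact toolq_Zc_eq hφ _ (key n hn)

/-- LQ2 [S-M]. inverses. -/
theorem inQ_inv {g : Matrix.GeneralLinearGroup (Fin a × Fin b) F} {w φ : Fin b → F}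
    (hQ : InQ J2 (g : Matrix (Fin a × Fin b) (Fin a × Fin b) F) w) (hφ : φ ⬝ᵥ w = 1) :
    InQ J2 ((g⁻¹ : Matrix.GeneralLinearGroup (Fin a × Fin b) F) : Matrix (Fin a × Fin b) (Fin a × Fin b) F) w ∧
      ∀ n : Fin b → F, bf J2 w n = 0 →
        Zc ((g⁻¹ : Matrix.GeneralLinearGroup (Fin a × Fin b) F) : Matrix (Fin a × Fin b) (Fin a × Fin b) F) φ n
          = - Zc (g : Matrix (Fin a × Fin b) (Fin a × Fin b) F) φ n := by
  have hgi : ∀ v, ((g⁻¹ : Matrix.GeneralLinearGroup (Fin a × Fin b) F) : Matrix (Fin a × Fin b) (Fin a × Fin b) F) *ᵥ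
      ((g : Matrix (Fin a × Fin b) (Fin a × Fin b) F) *ᵥ v) = v := by
    intro v
    rw [Matrix.mulVec_mulVec, ← Units.val_mul, inv_mul_cancel, Units.val_one, Matrix.one_mulVec]
  have h1 : ∀ x : Fin a → F, ((g⁻¹ : Matrix.GeneralLinearGroup (Fin a × Fin b) F) :
      Matrix (Fin a × Fin b) (Fin a × Fin b) F) *ᵥ ten x w = ten x w := by
    intro x
    have := hgi (ten x w)
    rw [hQ.1] at this
    exact this
  have key : ∀ n : Fin b → F, bf J2 w n = 0 → ∀ x : Fin a → F,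
      ((g⁻¹ : Matrix.GeneralLinearGroup (Fin a × Fin b) F) : Matrix (Fin a × Fin b) (Fin a × Fin b) F) *ᵥ ten x n
        = ten x n + ten ((-Zc (g : Matrix (Fin a × Fin b) (Fin a × Fin b) F) φ n) *ᵥ x) w := by
    intro n hn x
    have := hgi (ten x n)
    rw [Zc_spec hQ hφ hn, Matrix.mulVec_add, h1] at this
    rw [Matrix.neg_mulVec]
    have hneg : ten (-(Zc (g : Matrix (Fin a × Fin b) (Fin a × Fin b) F) φ n *ᵥ x)) w =
        -ten (Zc (g : Matrix (Fin a × Fin b) (Fin a × Fin b) F) φ n *ᵥ x) w := by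
      have := ten_smul_left (-1 : F) (Zc (g : Matrix (Fin a × Fin b) (Fin a × Fin b) F) φ n *ᵥ x) w
      simpa using this
    rw [hneg]
    rw [← sub_eq_add_neg, eq_sub_iff_add_eq]
    exact this
  refine ⟨toolq_inQ_of h1 ?_, ?_⟩
  · intro n hn
    exact ⟨_, key n hn⟩
  · intro n hn
    exact toolq_Zc_eq hφ _ (key n hn)

/-- LQ3 [S-M]. conjugation by `1 ⊗ σ`, `σ ∈ O(B)` fixing `w`: the class is precomposed with `σ⁻¹`. -/
theorem inQ_conjB {g : Matrix.GeneralLinearGroup (Fin a × Fin b) F} {w φ : Fin b → F}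
    (hQ : InQ J2 (g : Matrix (Fin a × Fin b) (Fin a × Fin b) F) w) (hφ : φ ⬝ᵥ w = 1)
    {σ : Matrix.GeneralLinearGroup (Fin b) F} (hσ : σ ∈ Iso J2) (hσw : (σ : Matrix (Fin b) (Fin b) F) *ᵥ w = w) :
    InQ J2 ((Cfsg.Agent.Lib.helper7.TO.kB a b F σ * g * (Cfsg.Agent.Lib.helper7.TO.kB a b F σ)⁻¹ :
        Matrix.GeneralLinearGroup (Fin a × Fin b) F) : Matrix (Fin a × Fin b) (Fin a × Fin b) F) w ∧
      ∀ n : Fin b → F, bf J2 w n = 0 →
        Zc ((Cfsg.Agent.Lib.helper7.TO.kB a b F σ * g * (Cfsg.Agent.Lib.helper7.TO.kB a b F σ)⁻¹ :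
          Matrix.GeneralLinearGroup (Fin a × Fin b) F) : Matrix (Fin a × Fin b) (Fin a × Fin b) F) φ n
          = Zc (g : Matrix (Fin a × Fin b) (Fin a × Fin b) F) φ
              (((σ⁻¹ : Matrix.GeneralLinearGroup (Fin b) F) : Matrix (Fin b) (Fin b) F) *ᵥ n) := by
  have hσi : ∀ y, (σ : Matrix (Fin b) (Fin b) F) *ᵥ
      (((σ⁻¹ : Matrix.GeneralLinearGroup (Fin b) F) : Matrix (Fin b) (Fin b) F) *ᵥ y) = y := by
    intro y
    rw [Matrix.mulVec_mulVec, ← Units.val_mul, mul_inv_cancel, Units.val_one, Matrix.one_mulVec]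
  have hσiw : ((σ⁻¹ : Matrix.GeneralLinearGroup (Fin b) F) : Matrix (Fin b) (Fin b) F) *ᵥ w = w := by
    have : ((σ⁻¹ : Matrix.GeneralLinearGroup (Fin b) F) : Matrix (Fin b) (Fin b) F) *ᵥ
        ((σ : Matrix (Fin b) (Fin b) F) *ᵥ w) = w := by
      rw [Matrix.mulVec_mulVec, ← Units.val_mul, inv_mul_cancel, Units.val_one, Matrix.one_mulVec]
    rw [hσw] at this
    exact this
  have hiso := (mem_Iso_iff_bf J2 σ).mp hσ
  have hperp : ∀ n : Fin b → F, bf J2 w n = 0 →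
      bf J2 w (((σ⁻¹ : Matrix.GeneralLinearGroup (Fin b) F) : Matrix (Fin b) (Fin b) F) *ᵥ n) = 0 := by
    intro n hn
    have := hiso w (((σ⁻¹ : Matrix.GeneralLinearGroup (Fin b) F) : Matrix (Fin b) (Fin b) F) *ᵥ n)
    rw [hσw, hσi] at this
    rw [← this]
    exact hn
  have hact : ∀ (x : Fin a → F) (y : Fin b → F),
      ((Cfsg.Agent.Lib.helper7.TO.kB a b F σ * g * (Cfsg.Agent.Lib.helper7.TO.kB a b F σ)⁻¹ :
        Matrix.GeneralLinearGroup (Fin a × Fin b) F) : Matrix (Fin a × Fin b) (Fin a × Fin b) F) *ᵥ ten x y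
      = ((Cfsg.Agent.Lib.helper7.TO.kB a b F σ : Matrix.GeneralLinearGroup (Fin a × Fin b) F) :
          Matrix (Fin a × Fin b) (Fin a × Fin b) F) *ᵥ
        ((g : Matrix (Fin a × Fin b) (Fin a × Fin b) F) *ᵥ
          ten x (((σ⁻¹ : Matrix.GeneralLinearGroup (Fin b) F) : Matrix (Fin b) (Fin b) F) *ᵥ y)) := by
    intro x y
    rw [← map_inv, Units.val_mul, Units.val_mul, ← Matrix.mulVec_mulVec, ← Matrix.mulVec_mulVec,
      Cfsg.Agent.Lib.helper7.TO.kB_mulVec_ten]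
  have h1 : ∀ x : Fin a → F,
      ((Cfsg.Agent.Lib.helper7.TO.kB a b F σ * g * (Cfsg.Agent.Lib.helper7.TO.kB a b F σ)⁻¹ :
        Matrix.GeneralLinearGroup (Fin a × Fin b) F) : Matrix (Fin a × Fin b) (Fin a × Fin b) F) *ᵥ ten x w
      = ten x w := by
    intro x
    rw [hact, hσiw, hQ.1, Cfsg.Agent.Lib.helper7.TO.kB_mulVec_ten, hσw]
  have key : ∀ n : Fin b → F, bf J2 w n = 0 → ∀ x : Fin a → F,
      ((Cfsg.Agent.Lib.helper7.TO.kB a b F σ * g * (Cfsg.Agent.Lib.helper7.TO.kB a b F σ)⁻¹ :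
        Matrix.GeneralLinearGroup (Fin a × Fin b) F) : Matrix (Fin a × Fin b) (Fin a × Fin b) F) *ᵥ ten x n
      = ten x n + ten ((Zc (g : Matrix (Fin a × Fin b) (Fin a × Fin b) F) φ
              (((σ⁻¹ : Matrix.GeneralLinearGroup (Fin b) F) : Matrix (Fin b) (Fin b) F) *ᵥ n)) *ᵥ x) w := by
    intro n hn x
    rw [hact, Zc_spec hQ hφ (hperp n hn), Matrix.mulVec_add, Cfsg.Agent.Lib.helper7.TO.kB_mulVec_ten,
      Cfsg.Agent.Lib.helper7.TO.kB_mulVec_ten, hσi, hσw]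
  refine ⟨toolq_inQ_of h1 ?_, ?_⟩
  · intro n hn
    exact ⟨_, key n hn⟩
  · intro n hn
    exact toolq_Zc_eq hφ _ (key n hn)

/-- LQ4 [S-M]. conjugation by `α ⊗ 1`: the class is conjugated by `α`. -/
theorem inQ_conjA {g : Matrix.GeneralLinearGroup (Fin a × Fin b) F} {w φ : Fin b → F}
    (hQ : InQ J2 (g : Matrix (Fin a × Fin b) (Fin a × Fin b) F) w) (hφ : φ ⬝ᵥ w = 1)
    (α : Matrix.GeneralLinearGroup (Fin a) F) :
    InQ J2 ((Cfsg.Agent.Lib.helper7.TO.kA a b F α * g * (Cfsg.Agent.Lib.helper7.TO.kA a b F α)⁻¹ :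
        Matrix.GeneralLinearGroup (Fin a × Fin b) F) : Matrix (Fin a × Fin b) (Fin a × Fin b) F) w ∧
      ∀ n : Fin b → F, bf J2 w n = 0 →
        Zc ((Cfsg.Agent.Lib.helper7.TO.kA a b F α * g * (Cfsg.Agent.Lib.helper7.TO.kA a b F α)⁻¹ :
          Matrix.GeneralLinearGroup (Fin a × Fin b) F) : Matrix (Fin a × Fin b) (Fin a × Fin b) F) φ n
          = (α : Matrix (Fin a) (Fin a) F) * Zc (g : Matrix (Fin a × Fin b) (Fin a × Fin b) F) φ n *
              ((α⁻¹ : Matrix.GeneralLinearGroup (Fin a) F) : Matrix (Fin a) (Fin a) F) := by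
  have hαi : ∀ x, (α : Matrix (Fin a) (Fin a) F) *ᵥ
      (((α⁻¹ : Matrix.GeneralLinearGroup (Fin a) F) : Matrix (Fin a) (Fin a) F) *ᵥ x) = x := by
    intro x
    rw [Matrix.mulVec_mulVec, ← Units.val_mul, mul_inv_cancel, Units.val_one, Matrix.one_mulVec]
  have hact : ∀ (x : Fin a → F) (y : Fin b → F),
      ((Cfsg.Agent.Lib.helper7.TO.kA a b F α * g * (Cfsg.Agent.Lib.helper7.TO.kA a b F α)⁻¹ :
        Matrix.GeneralLinearGroup (Fin a × Fin b) F) : Matrix (Fin a × Fin b) (Fin a × Fin b) F) *ᵥ ten x y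
      = ((Cfsg.Agent.Lib.helper7.TO.kA a b F α : Matrix.GeneralLinearGroup (Fin a × Fin b) F) :
          Matrix (Fin a × Fin b) (Fin a × Fin b) F) *ᵥ
        ((g : Matrix (Fin a × Fin b) (Fin a × Fin b) F) *ᵥ
          ten (((α⁻¹ : Matrix.GeneralLinearGroup (Fin a) F) : Matrix (Fin a) (Fin a) F) *ᵥ x) y) := by
    intro x y
    rw [← map_inv, Units.val_mul, Units.val_mul, ← Matrix.mulVec_mulVec, ← Matrix.mulVec_mulVec,
      Cfsg.Agent.Lib.helper7.TO.kA_mulVec_ten]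
  have h1 : ∀ x : Fin a → F,
      ((Cfsg.Agent.Lib.helper7.TO.kA a b F α * g * (Cfsg.Agent.Lib.helper7.TO.kA a b F α)⁻¹ :
        Matrix.GeneralLinearGroup (Fin a × Fin b) F) : Matrix (Fin a × Fin b) (Fin a × Fin b) F) *ᵥ ten x w
      = ten x w := by
    intro x
    rw [hact, hQ.1, Cfsg.Agent.Lib.helper7.TO.kA_mulVec_ten, hαi]
  have key : ∀ n : Fin b → F, bf J2 w n = 0 → ∀ x : Fin a → F,
      ((Cfsg.Agent.Lib.helper7.TO.kA a b F α * g * (Cfsg.Agent.Lib.helper7.TO.kA a b F α)⁻¹ :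
        Matrix.GeneralLinearGroup (Fin a × Fin b) F) : Matrix (Fin a × Fin b) (Fin a × Fin b) F) *ᵥ ten x n
      = ten x n + ten (((α : Matrix (Fin a) (Fin a) F) * Zc (g : Matrix (Fin a × Fin b) (Fin a × Fin b) F) φ n *
              ((α⁻¹ : Matrix.GeneralLinearGroup (Fin a) F) : Matrix (Fin a) (Fin a) F)) *ᵥ x) w := by
    intro n hn x
    rw [hact, Zc_spec hQ hφ hn, Matrix.mulVec_add, Cfsg.Agent.Lib.helper7.TO.kA_mulVec_ten,
      Cfsg.Agent.Lib.helper7.TO.kA_mulVec_ten, hαi, ← Matrix.mulVec_mulVec, ← Matrix.mulVec_mulVec]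
  refine ⟨toolq_inQ_of h1 ?_, ?_⟩
  · intro n hn
    exact ⟨_, key n hn⟩
  · intro n hn
    exact toolq_Zc_eq hφ _ (key n hn)

end Cfsg.Agent.Lib.Helper28.TOO
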