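import Cfsg.Agent.Lib.Helper21.TOO.LG1
import Cfsg.Agent.Lib.Helper27.TOOLQ14

/-!
# Project TOO, LOCAL block, row LQ6 (pure_of_class): purification `g = (k² h k⁻²) (k h k⁻¹)⁻² h`, `k = 1 ⊗ ρ_{w₁,n}`.
-/

set_option autoImplicit false
set_option linter.unusedSectionVars false
set_option linter.unusedVariables false

namespace Cfsg.Agent.Lib.Helper28.TOO

open Matrix
open scoped Kronecker
open Cfsg.Agent.Lib.helper7.TP Cfsg.Agent.Lib.Helper21.TS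

variable {ι : Type*} [Fintype ι] [DecidableEq ι] {a b : ℕ} {F : Type*} [Field F]
  {J1 : Matrix (Fin a) (Fin a) F} {J2 : Matrix (Fin b) (Fin b) F}
  {M : Subgroup (Matrix.GeneralLinearGroup (Fin a × Fin b) F)}

/-- LQ6 (L2) [M-L]. purification. -/
theorem pure_of_class (C : OCtx J1 J2) (hT : T1 J1 J2 ≤ M)
    {h : Matrix.GeneralLinearGroup (Fin a × Fin b) F} (hh : h ∈ M) {w w₁ n φ : Fin b → F}
    (hw : bf J2 w w = 0) (hφ : φ ⬝ᵥ w = 1)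
    (hQ : InQ J2 (h : Matrix (Fin a × Fin b) (Fin a × Fin b) F) w)
    (hw₁ : bf J2 w₁ w₁ = 0) (hww₁ : bf J2 w w₁ = 0) (hwn : bf J2 w n = 0) (hw₁n : bf J2 w₁ n = 0) :
    ∃ g ∈ M, InQ J2 (g : Matrix (Fin a × Fin b) (Fin a × Fin b) F) w ∧
      ∀ y : Fin b → F, bf J2 w y = 0 →
        Zc (g : Matrix (Fin a × Fin b) (Fin a × Fin b) F) φ y
          = (-(bf J2 n n) * bf J2 w₁ y) • Zc (h : Matrix (Fin a × Fin b) (Fin a × Fin b) F) φ w₁ := by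
  have hs := bf_symm C.sym2
  set σ : Matrix.GeneralLinearGroup (Fin b) F := toolg1_siegG C.sym2 C.two hw₁ hw₁n with hσdef
  have hσval : (σ : Matrix (Fin b) (Fin b) F) = sieg J2 w₁ n := rfl
  have hσinvval : ((σ⁻¹ : Matrix.GeneralLinearGroup (Fin b) F) : Matrix (Fin b) (Fin b) F) = sieg J2 w₁ (-n) := rfl
  have hσOm : σ ∈ Om J2 := by
    obtain ⟨β, hβ, hβm⟩ := sieg_mem_Om C.sym2 C.two C.det2 hw₁ hw₁n
    have : β = σ := Units.ext hβm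
    rw [← this]
    exact hβ
  have hσIso : σ ∈ Iso J2 := toolg1_siegG_mem C.sym2 C.two hw₁ hw₁n
  have hσw : (σ : Matrix (Fin b) (Fin b) F) *ᵥ w = w := by
    rw [hσval, sieg_mulVec, hs n w, hwn, hs w₁ w, hww₁]
    simp
  have hσinv : ∀ y, ((σ⁻¹ : Matrix.GeneralLinearGroup (Fin b) F) : Matrix (Fin b) (Fin b) F) *ᵥ y =
      y + (-(bf J2 n y) - bf J2 n n / 2 * bf J2 w₁ y) • w₁ + bf J2 w₁ y • n := by
    intro y
    rw [hσinvval, sieg_mulVec, bf_neg_left, bf_neg_left, bf_neg_right, neg_neg]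
    module
  set k : Matrix.GeneralLinearGroup (Fin a × Fin b) F := Cfsg.Agent.Lib.helper7.TO.kB a b F σ with hk
  have hkM : k ∈ M := hT (Subgroup.mem_sup_right (Subgroup.mem_map_of_mem _ hσOm))
  set h1 : Matrix.GeneralLinearGroup (Fin a × Fin b) F := k * h * k⁻¹ with hh1
  obtain ⟨hQ1, hZ1⟩ := inQ_conjB (a := a) hQ hφ hσIso hσw
  rw [← hk, ← hh1] at hQ1 hZ1
  set h2 : Matrix.GeneralLinearGroup (Fin a × Fin b) F := k * h1 * k⁻¹ with hh2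
  obtain ⟨hQ2, hZ2⟩ := inQ_conjB (a := a) hQ1 hφ hσIso hσw
  rw [← hk, ← hh2] at hQ2 hZ2
  obtain ⟨hQ1i, hZ1i⟩ := inQ_inv hQ1 hφ
  have hh1M : h1 ∈ M := M.mul_mem (M.mul_mem hkM hh) (M.inv_mem hkM)
  have hh2M : h2 ∈ M := M.mul_mem (M.mul_mem hkM hh1M) (M.inv_mem hkM)
  obtain ⟨hQa, hZa⟩ := inQ_mul hQ2 hQ1i hφ
  obtain ⟨hQb, hZb⟩ := inQ_mul hQa hQ1i hφ
  obtain ⟨hQc, hZc⟩ := inQ_mul hQb hQ hφ
  refine ⟨h2 * h1⁻¹ * h1⁻¹ * h, M.mul_mem (M.mul_mem (M.mul_mem hh2M (M.inv_mem hh1M)) (M.inv_mem hh1M)) hh,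
    ?_, ?_⟩
  · rw [Units.val_mul, Units.val_mul, Units.val_mul]
    exact hQc
  · intro y hy
    rw [Units.val_mul, Units.val_mul, Units.val_mul, hZc y hy, hZb y hy, hZa y hy, hZ1i y hy, hZ2 y hy,
      hZ1 y hy]
    have hperp : bf J2 w (((σ⁻¹ : Matrix.GeneralLinearGroup (Fin b) F) : Matrix (Fin b) (Fin b) F) *ᵥ y) = 0 := by
      rw [hσinv, bf_add_right, bf_add_right, bf_smul_right, bf_smul_right, hy, hww₁, hwn]
      ring
    rw [hZ1 _ hperp]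
    have e1 := hσinv y
    set a0 := -(bf J2 n y) - bf J2 n n / 2 * bf J2 w₁ y with ha0
    set c0 := bf J2 w₁ y with hc0
    have e2 : ((σ⁻¹ : Matrix.GeneralLinearGroup (Fin b) F) : Matrix (Fin b) (Fin b) F) *ᵥ
        (((σ⁻¹ : Matrix.GeneralLinearGroup (Fin b) F) : Matrix (Fin b) (Fin b) F) *ᵥ y) =
        y + (2 * a0 - c0 * bf J2 n n) • w₁ + (2 * c0) • n := by
      rw [e1, hσinv]
      simp only [bf_add_right, bf_smul_right, hw₁, hw₁n, hs n w₁, mul_zero, add_zero, ← hc0]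
      rw [ha0]
      module
    rw [e2, e1]
    simp only [Zc_add_right, Zc_smul_right]
    module

end Cfsg.Agent.Lib.Helper28.TOO
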