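import Cfsg.Agent.Lib.Helper27.FusCentric

set_option autoImplicit false

namespace Cfsg.Agent.Lib.Helper27

open Cfsg Cfsg.FusionSystem Cfsg.Agent.Lib.Helper26

variable {Ω : Type*} [Group Ω] {S : Subgroup Ω}

/-- Let `F' ≤ F` be saturated. A map of `F` defined on `R` whose restriction to a normal
`F`-centric subgroup `Q` of `R` lies in `F'` lies itself in `F'`. -/
theorem mem_of_restrict_centric_normal [Finite S] {p : ℕ} [Fact p.Prime] (hS : IsPGroup p S)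
    (F : FusionSystem S) (hF : F.IsSaturated p) (F' : FusionSystem S) (hF' : F'.IsSaturated p)
    (hle : F' ≤ F) {Q R : Subgroup Ω} (hQR : Q ≤ R) (hRS : R ≤ S)
    (hnorm : ∀ x ∈ R, ∀ y ∈ Q, x * y * x⁻¹ ∈ Q) (hQ : F.IsCentric Q) {ψ : R →* Ω}
    (hψ : ψ ∈ F.Hom R) (hψ₀ : ψ.comp (Subgroup.inclusion hQR) ∈ F'.Hom Q) : ψ ∈ F'.Hom R := by
  have hQS : Q ≤ S := hQ.1
  have hQ₂S : (ψ.comp (Subgroup.inclusion hQR)).range ≤ S := range_le F' hψ₀
  obtain ⟨Q₃, hconj, hfn⟩ := exists_fullyNormalized_conj F' hQ₂S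
  obtain ⟨-, h₁, h₂⟩ := saturated_fullyNormalized hS F' hF' hfn
  obtain ⟨M⟩ := nonempty_normalizerHom hS F' h₁ h₂ hconj
  have hconjmem : ∀ (x : R) (w : Ω), w ∈ (ψ.comp (Subgroup.inclusion hQR)).range →
      ψ x * w * (ψ x)⁻¹ ∈ (ψ.comp (Subgroup.inclusion hQR)).range := by
    rintro x _ ⟨y, rfl⟩
    refine ⟨⟨x * y * x⁻¹, hnorm x x.2 y y.2⟩, ?_⟩
    show ψ ⟨(x : Ω) * y * (x : Ω)⁻¹, _⟩ = ψ x * ψ ⟨y, _⟩ * (ψ x)⁻¹
    rw [← map_inv, ← map_mul, ← map_mul]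
    rfl
  have hψN : ∀ x : R, ψ x ∈ normalizerIn S (ψ.comp (Subgroup.inclusion hQR)).range := by
    intro x
    refine ⟨apply_mem F hψ x, mem_normalizer_of_forall (hconjmem x) (fun w hw => ?_)⟩
    have := hconjmem x⁻¹ w hw
    rwa [map_inv, inv_inv] at this
  have hψ₁ : M.φ.comp (ψ.codRestrict _ hψN) ∈ F.Hom R := F.comp_mem hψ (hle _ M.mem) hψN
  have hψ₁Q : (M.φ.comp (ψ.codRestrict _ hψN)).comp (Subgroup.inclusion hQR) ∈ F'.Hom Q := by
    have h := F'.comp_mem hψ₀ M.mem (fun y => hψN (Subgroup.inclusion hQR y))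
    exact mem_of_forall_eq F' h (fun y => rfl)
  have hr : ((M.φ.comp (ψ.codRestrict _ hψN)).comp (Subgroup.inclusion hQR)).range = Q₃ := by
    apply le_antisymm
    · rintro _ ⟨y, rfl⟩
      exact M.img.le
        ⟨⟨ψ (Subgroup.inclusion hQR y), hψN _⟩, Subgroup.mem_subgroupOf.mpr ⟨y, rfl⟩, rfl⟩
    · intro w hw
      obtain ⟨n, hn, rfl⟩ := M.img.ge hw
      obtain ⟨y, hy⟩ := Subgroup.mem_subgroupOf.mp hn
      refine ⟨y, ?_⟩
      show M.φ ⟨ψ (Subgroup.inclusion hQR y), _⟩ = M.φ n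
      congr 1
      exact Subtype.ext hy
  have hRext : R ≤ extender S Q
      ((M.φ.comp (ψ.codRestrict _ hψN)).comp (Subgroup.inclusion hQR)) := by
    intro x hx
    have hxN : x ∈ Subgroup.normalizer (Q : Set Ω) := by
      refine mem_normalizer_of_forall (fun y hy => hnorm x hx y hy) (fun y hy => ?_)
      have := hnorm x⁻¹ (R.inv_mem hx) y hy
      rwa [inv_inv] at this
    refine mem_extender_iff.mpr ⟨hRS hx, hxN,
      (M.φ.comp (ψ.codRestrict _ hψN)) ⟨x, hx⟩, apply_mem F hψ₁ _, fun y => ?_⟩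
    show (M.φ.comp (ψ.codRestrict _ hψN)) ⟨x * (y : Ω) * x⁻¹, _⟩ =
      (M.φ.comp (ψ.codRestrict _ hψN)) ⟨x, hx⟩ *
        (M.φ.comp (ψ.codRestrict _ hψN)) ⟨y, hQR y.2⟩ *
        ((M.φ.comp (ψ.codRestrict _ hψN)) ⟨x, hx⟩)⁻¹
    rw [← map_inv, ← map_mul, ← map_mul]
    rfl
  obtain ⟨τ, hτ, hτeq⟩ := h₂.2 Q _ hψ₁Q hr
  have hτR := restrict_mem F' hτ hRext
  have hagree : ∀ x : R, (x : Ω) ∈ Q →
      (τ.comp (Subgroup.inclusion hRext)) x = (M.φ.comp (ψ.codRestrict _ hψN)) x :=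
    fun x hx => hτeq x hx _
  obtain ⟨z, hz, -, hzeq⟩ :=
    eq_comp_conj_of_agree_centric hS F hF hQR hRS hnorm hQ (hle _ hτR) hψ₁ hagree
  have hψ₁F' : M.φ.comp (ψ.codRestrict _ hψN) ∈ F'.Hom R := by
    have hc : conjHom R z ∈ F'.Hom R := F'.conj_mem hRS (hQS hz)
    have hcm : ∀ x : R, conjHom R z x ∈ R := fun x =>
      R.mul_mem (R.mul_mem (hQR hz) x.2) (R.inv_mem (hQR hz))
    have := F'.comp_mem hc hτR hcm
    exact mem_of_forall_eq F' this (fun x => hzeq x)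
  obtain ⟨χ, hχ, hχinv⟩ := F'.inv_mem M.mem
  have hmem : ∀ x : R, (M.φ.comp (ψ.codRestrict _ hψN)) x ∈ M.φ.range := fun x => ⟨_, rfl⟩
  have := F'.comp_mem hψ₁F' hχ hmem
  refine mem_of_forall_eq F' this (fun x => ?_)
  exact (hχinv (ψ.codRestrict _ hψN x)).symm

/-- Let `F' ≤ F` be saturated. A map of `F` defined on `R` whose restriction to an `F`-centric
subgroup `Q` of `R` lies in `F'` lies itself in `F'`. -/
theorem mem_of_restrict_centric [Finite S] {p : ℕ} [Fact p.Prime] (hS : IsPGroup p S)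
    (F : FusionSystem S) (hF : F.IsSaturated p) (F' : FusionSystem S) (hF' : F'.IsSaturated p)
    (hle : F' ≤ F) :
    ∀ (n : ℕ) {Q R : Subgroup Ω} (hQR : Q ≤ R), R ≤ S → F.IsCentric Q →
      Nat.card R - Nat.card Q = n → ∀ {ψ : R →* Ω}, ψ ∈ F.Hom R →
      ψ.comp (Subgroup.inclusion hQR) ∈ F'.Hom Q → ψ ∈ F'.Hom R := by
  intro n
  induction n using Nat.strong_induction_on with
  | _ n ih =>
    intro Q R hQR hRS hQ hn ψ hψ hψ₀
    have hfinR : Finite R := finite_of_le hRS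
    by_cases hne : Q = R
    · subst hne
      exact mem_of_forall_eq F' hψ₀ (fun x => rfl)
    have hRp : IsPGroup p R := hS.to_le hRS
    obtain ⟨x₀, hx₀R, hx₀Q, hx₀N⟩ := exists_normalizing_of_lt hRp hQR hne
    have hQN : Q ≤ R ⊓ Subgroup.normalizer (Q : Set Ω) := le_inf hQR Subgroup.le_normalizer
    have hNR : R ⊓ Subgroup.normalizer (Q : Set Ω) ≤ R := inf_le_left
    have hnormN : ∀ x ∈ R ⊓ Subgroup.normalizer (Q : Set Ω), ∀ y ∈ Q, x * y * x⁻¹ ∈ Q := by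
      intro x hx y hy
      exact conj_mem_of_mem_normalizer hx.2 ⟨y, hy⟩
    have hψN : ψ.comp (Subgroup.inclusion hNR) ∈ F.Hom _ := restrict_mem F hψ hNR
    have hψNQ : (ψ.comp (Subgroup.inclusion hNR)).comp (Subgroup.inclusion hQN) ∈ F'.Hom Q :=
      mem_of_forall_eq F' hψ₀ (fun x => rfl)
    have hψN' := mem_of_restrict_centric_normal hS F hF F' hF' hle hQN (hNR.trans hRS) hnormN hQ
      hψN hψNQ
    have hNcen := isCentric_of_le F hQ hQN (hNR.trans hRS)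
    have hfinN : Finite ↥(R ⊓ Subgroup.normalizer (Q : Set Ω)) := finite_of_le (hNR.trans hRS)
    have hlt : Nat.card Q < Nat.card ↥(R ⊓ Subgroup.normalizer (Q : Set Ω)) := by
      apply card_lt_card_of_lt
      refine lt_of_le_of_ne hQN ?_
      intro h
      apply hx₀Q
      rw [h]
      exact ⟨hx₀R, hx₀N⟩
    have hle' : Nat.card ↥(R ⊓ Subgroup.normalizer (Q : Set Ω)) ≤ Nat.card R :=
      Nat.card_le_card_of_injective (Subgroup.inclusion hNR) (Subgroup.inclusion_injective hNR)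
    exact ih (Nat.card R - Nat.card ↥(R ⊓ Subgroup.normalizer (Q : Set Ω))) (by omega) hNR hRS
      hNcen rfl hψ hψN'

end Cfsg.Agent.Lib.Helper27
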