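import Cfsg.Agent.Lib.Helper26.FusionSat2
import Cfsg.Agent.Lib.Helper27.FusJoin

set_option autoImplicit false

namespace Cfsg.Agent.Lib.Helper27

open Cfsg Cfsg.FusionSystem Cfsg.Agent.Lib.Helper26

variable {Ω : Type*} [Group Ω] {S : Subgroup Ω}

theorem range_eq_top_of_hom [Finite S] (F : FusionSystem S) {ψ : S →* Ω} (hψ : ψ ∈ F.Hom S) :
    ψ.range = S := by
  apply Subgroup.eq_of_le_of_card_ge (range_le F hψ)
  exact (Nat.card_congr (MonoidHom.ofInjective (F.injective_of_mem hψ)).toEquiv).le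

/-- The maps of `F` which extend to a map of `F` defined on all of `S`. -/
def topExt [Finite S] (F : FusionSystem S) : FusionSystem S where
  Hom P := {φ | φ ∈ F.Hom P ∧ ∃ ψ ∈ F.Hom S, ∀ (x : P) (hx : (x : Ω) ∈ S), ψ ⟨x, hx⟩ = φ x}
  le_of_mem h := F.le_of_mem h.1
  injective_of_mem h := F.injective_of_mem h.1
  conj_mem := by
    intro P g hP hg
    exact ⟨F.conj_mem hP hg, conjHom S g, F.conj_mem le_rfl hg, fun x hx => rfl⟩
  comp_mem := by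
    rintro P Q φ ψ ⟨hφ, φ', hφ', hφe⟩ ⟨hψ, ψ', hψ', hψe⟩ h
    have hS' : ∀ x : S, φ' x ∈ S := fun x => apply_mem F hφ' x
    refine ⟨F.comp_mem hφ hψ h, ψ'.comp (φ'.codRestrict S hS'), F.comp_mem hφ' hψ' hS',
      fun x hx => ?_⟩
    have hQS : Q ≤ S := source_le F hψ
    show ψ' ⟨φ' ⟨x, hx⟩, _⟩ = ψ ⟨φ x, h x⟩
    have e1 : φ' ⟨x, hx⟩ = φ x := hφe x hx
    have e2 := hψe ⟨φ x, h x⟩ (hQS (h x))
    rw [← e2]
    congr 1
    exact Subtype.ext e1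
  inv_mem := by
    rintro P φ ⟨hφ, φ', hφ', hφe⟩
    have hPS : P ≤ S := source_le F hφ
    obtain ⟨ψ, hψ, hinv⟩ := F.inv_mem hφ
    obtain ⟨χ, hχ, hχinv⟩ := F.inv_mem hφ'
    obtain ⟨χ', hχ', hχ'eq⟩ := hom_cast F (range_eq_top_of_hom F hφ') χ hχ
    refine ⟨ψ, ⟨hψ, χ', hχ', ?_⟩, hinv⟩
    rintro ⟨_, x, rfl⟩ hx
    have e1 : φ' ⟨x, hPS x.2⟩ = φ x := hφe x (hPS x.2)
    have hx' : φ x ∈ φ'.range := ⟨⟨x, hPS x.2⟩, e1⟩
    rw [hχ'eq (φ x) hx' hx]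
    have e2 : (⟨φ x, hx'⟩ : φ'.range) = ⟨φ' ⟨x, hPS x.2⟩, ⟨_, rfl⟩⟩ := Subtype.ext e1.symm
    rw [e2, hχinv, hinv]

theorem autGroup_top_le_topExt [Finite S] (F : FusionSystem S) :
    F.autGroup S ≤ (topExt F).autGroup S := by
  apply Subgroup.closure_mono
  intro α hα
  exact ⟨hα, _, hα, fun x hx => rfl⟩

/-- If every map of `F` extends to `S`, then `S` is normal in `F`. -/
theorem isNormal_top_of_le_topExt [Finite S] (F : FusionSystem S) (h : F ≤ topExt F) :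
    F.IsNormal S := by
  refine ⟨le_rfl, fun P φ hφ => ?_⟩
  obtain ⟨-, ψ, hψ, hψe⟩ := h P hφ
  have hPS : P ≤ S := source_le F hφ
  have heq : S = P ⊔ S := (sup_eq_right.mpr hPS).symm
  obtain ⟨χ, hχ, hχeq, hχmap⟩ := hom_cast' F heq ψ hψ
  refine ⟨χ, hχ, fun x => ?_, ?_⟩
  · have := hχeq x (hPS x.2) (le_sup_left (a := P) (b := S) x.2)
    exact this.trans (hψe x (hPS x.2))
  · rw [hχmap S, Subgroup.subgroupOf_self, ← MonoidHom.range_eq_map]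
    exact range_eq_top_of_hom F hψ

end Cfsg.Agent.Lib.Helper27
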