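import Mathlib
import Cfsg.Agent.Lib.Helper18.OPE.Defs2
import Cfsg.Agent.Lib.Helper16.OB25
import Cfsg.Agent.Lib.Helper16.PlusFam
import Cfsg.Agent.Lib.Helper16.SpinA

set_option autoImplicit false
set_option linter.unusedVariables false
set_option linter.unusedSectionVars false

/-!
# Project OPE, rows OMEGAODD (q_omega_odd) and SCALRED (scal_red).
-/

namespace Cfsg.Agent.Lib.Helper18.OPE

open Polynomial Module Cfsg.Agent.Lib.Helper13.S5955 Cfsg.Agent.Lib.helper15.S5972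
open scoped Matrix

/-- a vector on which `quadFormPlus` does not vanish (`d ≥ 1`). -/
theorem opescalred_ne {F : Type*} [Field F] (d : ℕ) (hd : 1 ≤ d) :
    ∃ v, (Cfsg.Agent.Lib.Helper16.qfPlus d F) v ≠ 0 := by
  refine ⟨Sum.elim (fun i => if i = (⟨0, by omega⟩ : Fin d) then 1 else 0)
    (fun i => if i = (⟨0, by omega⟩ : Fin d) then 1 else 0), ?_⟩
  rw [Cfsg.Agent.Lib.Helper16.qfPlus_coe]
  unfold Cfsg.quadFormPlus
  simp

/-- OMEGAODD [S-M]: isometries of odd order lie in `Ω⁺_{2d}(q)`, all characteristics (copy of Helper9/OPHOMEGA.lean `ophomega_h9` with `r` for `p`: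
`x = (x ^ ((r+1)/2))²` and `Cfsg.Agent.Lib.Helper16.OB.sq_mem_omega_all`). -/
theorem q_omega_odd {F : Type*} [Field F] [Fintype F] (d : ℕ) (hd : 3 ≤ d) (r : ℕ) (hr : Odd r)
    (x : GL (Fin d ⊕ Fin d) F) (hx : x ∈ Cfsg.isometryGroup F (Cfsg.quadFormPlus d F))
    (hxr : x ^ r = 1) : x ∈ Cfsg.Geo.omegaGL (Cfsg.quadFormPlus d F) := by
  classical
  set g : ↥(Cfsg.isometryGroup F (Cfsg.quadFormPlus d F)) := ⟨x, hx⟩ with hg
  have hgp : g ^ r = 1 := by
    apply Subtype.ext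
    rw [Subgroup.coe_pow]
    exact hxr
  obtain ⟨t, ht⟩ := hr
  have hzz : g ^ (t + 1) * g ^ (t + 1) = g := by
    rw [← pow_add, show t + 1 + (t + 1) = r + 1 by omega, pow_succ, hgp, one_mul]
  have hne : ∃ v, (Cfsg.Agent.Lib.Helper16.qfPlus d F) v ≠ 0 := opescalred_ne d (by omega)
  have hn : 5 ≤ Fintype.card (Fin d ⊕ Fin d) := by
    rw [Fintype.card_sum, Fintype.card_fin]
    omega
  have hmem := Cfsg.Agent.Lib.Helper16.OB.sq_mem_omega_all (Cfsg.Agent.Lib.Helper16.qfPlus d F)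
    (Cfsg.Agent.Lib.Helper16.qfPlus_nondeg d F) hn hne (g ^ (t + 1))
  have hmem' : g ^ (t + 1) * g ^ (t + 1) ∈ Cfsg.Omega F (Cfsg.quadFormPlus d F) := hmem
  rw [hzz] at hmem'
  unfold Cfsg.Geo.omegaGL
  exact Subgroup.mem_map.mpr ⟨g, hmem', rfl⟩

/-- the general reduction: `x ^ r = z • 1` for an isometry of a quadratic form that is not identically zero. -/
theorem opescalred_gen {F : Type*} [Field F] {ι : Type} [Fintype ι] [DecidableEq ι]
    (Qs : QuadraticForm F (ι → F)) (hne : ∃ v, Qs v ≠ 0) (r : ℕ) (x : GL ι F)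
    (hx : x ∈ Cfsg.isometryGroup F (⇑Qs)) (z : F)
    (hz : ((x ^ r : GL ι F) : Matrix ι ι F) = z • (1 : Matrix ι ι F))
    (hns : ∀ z : F, (x : Matrix ι ι F) ≠ z • (1 : Matrix ι ι F)) :
    (z = 1 ∨ z = -1) ∧
      (Odd r → ∃ y : GL ι F, y ∈ Cfsg.isometryGroup F (⇑Qs) ∧ y ^ r = 1 ∧ y ≠ 1 ∧
      ∀ W : Submodule F (ι → F), W.map (Matrix.toLin' (y : Matrix ι ι F)) ≤ W →
        W.map (Matrix.toLin' (x : Matrix ι ι F)) ≤ W) := by
  obtain ⟨v0, hv0⟩ := hne
  have hmem : ∀ g : GL ι F, g ∈ Cfsg.isometryGroup F (⇑Qs) ↔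
      ∀ u, Qs (Matrix.mulVec (g : Matrix ι ι F) u) = Qs u := by
    intro g
    constructor
    · intro h u
      exact h u u
    · intro h u v
      exact h u
  have hxr_mem : x ^ r ∈ Cfsg.isometryGroup F (⇑Qs) := Subgroup.pow_mem _ hx r
  have hzz : z * z = 1 := by
    have h1 := (hmem (x ^ r)).mp hxr_mem v0
    rw [hz, Matrix.smul_mulVec, Matrix.one_mulVec, QuadraticMap.map_smul, smul_eq_mul] at h1
    have h2 : (z * z - 1) * Qs v0 = 0 := by linear_combination h1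
    rcases mul_eq_zero.mp h2 with h3 | h3
    · linear_combination h3
    · exact absurd h3 hv0
  have hz0 : z ≠ 0 := by
    rintro rfl
    simp at hzz
  refine ⟨?_, ?_⟩
  · have h3 : (z - 1) * (z + 1) = 0 := by linear_combination hzz
    rcases mul_eq_zero.mp h3 with h4 | h4
    · left
      linear_combination h4
    · right
      linear_combination h4
  intro hr
  let s : GL ι F := Units.map (Matrix.scalar ι).toMonoidHom (Units.mk0 z hz0)
  have hs : (s : Matrix ι ι F) = z • (1 : Matrix ι ι F) := by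
    show Matrix.scalar ι z = _
    rw [Matrix.scalar_apply, Matrix.smul_one_eq_diagonal]
  have hs_mem : s ∈ Cfsg.isometryGroup F (⇑Qs) := by
    rw [hmem]
    intro u
    rw [hs, Matrix.smul_mulVec, Matrix.one_mulVec, QuadraticMap.map_smul, hzz, smul_eq_mul, one_mul]
  have hcomm : Commute s x := by
    apply Units.ext
    show (s : Matrix ι ι F) * (x : Matrix ι ι F) = (x : Matrix ι ι F) * (s : Matrix ι ι F)
    rw [hs, Matrix.smul_mul, Matrix.one_mul, Matrix.mul_smul, Matrix.mul_one]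
  have hy : ((s * x : GL ι F) : Matrix ι ι F) = z • (x : Matrix ι ι F) := by
    show (s : Matrix ι ι F) * (x : Matrix ι ι F) = _
    rw [hs, Matrix.smul_mul, Matrix.one_mul]
  refine ⟨s * x, Subgroup.mul_mem _ hs_mem hx, ?_, ?_, ?_⟩
  · rw [hcomm.mul_pow]
    apply Units.ext
    show ((s ^ r : GL ι F) : Matrix ι ι F) * ((x ^ r : GL ι F) : Matrix ι ι F) = 1
    rw [hz, Units.val_pow_eq_pow_val, hs, _root_.smul_pow, one_pow, Matrix.smul_mul, Matrix.one_mul,
      smul_smul]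
    obtain ⟨k, rfl⟩ := hr
    have : z ^ (2 * k + 1) * z = 1 := by
      have : z ^ (2 * k + 1) * z = (z * z) ^ (k + 1) := by ring
      rw [this, hzz, one_pow]
    rw [this, one_smul]
  · intro h1
    apply hns z⁻¹
    have h2 : ((s * x : GL ι F) : Matrix ι ι F) = 1 := by rw [h1]; rfl
    rw [hy] at h2
    calc (x : Matrix ι ι F) = z⁻¹ • (z • (x : Matrix ι ι F)) := by
          rw [smul_smul, inv_mul_cancel₀ hz0, one_smul]
      _ = z⁻¹ • (1 : Matrix ι ι F) := by rw [h2]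
  · intro W
    rw [hy, map_smul]
    intro h w hw
    obtain ⟨u, hu, rfl⟩ := hw
    have h1 : (z • Matrix.toLin' (x : Matrix ι ι F)) u ∈ W := h ⟨u, hu, rfl⟩
    rw [LinearMap.smul_apply] at h1
    have h2 := W.smul_mem z⁻¹ h1
    rwa [smul_smul, inv_mul_cancel₀ hz0, one_smul] at h2

/-- SCALRED [M]: `x ^ r = z • 1` for an isometry: `z² = 1` (`Q (z v) = z² Q v` and `Q ≠ 0`, `d ≥ 1`); for odd `r` the element `x' = x ^ (r + 1) = z • x` has `x' ^ r = z ^ (r + 1) • 1 = 1`,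
is not scalar, lies in the same subgroups, and has the same invariant subspaces. -/
theorem scal_red {F : Type*} [Field F] (d : ℕ) (hd : 1 ≤ d) (r : ℕ) (x : GL (Fin d ⊕ Fin d) F)
    (hx : x ∈ Cfsg.isometryGroup F (Cfsg.quadFormPlus d F)) (z : F)
    (hxr : ((x ^ r : GL (Fin d ⊕ Fin d) F) : Matrix (Fin d ⊕ Fin d) (Fin d ⊕ Fin d) F) =
      z • (1 : Matrix (Fin d ⊕ Fin d) (Fin d ⊕ Fin d) F))
    (hns : ∀ z : F, (x : Matrix (Fin d ⊕ Fin d) (Fin d ⊕ Fin d) F) ≠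
      z • (1 : Matrix (Fin d ⊕ Fin d) (Fin d ⊕ Fin d) F)) :
    (z = 1 ∨ z = -1) ∧
      (Odd r → ∃ x' : GL (Fin d ⊕ Fin d) F, x' ∈ Cfsg.isometryGroup F (Cfsg.quadFormPlus d F) ∧
        x' ^ r = 1 ∧ x' ≠ 1 ∧
        ∀ W : Submodule F (Fin d ⊕ Fin d → F),
          W.map (Matrix.toLin' (x' : Matrix (Fin d ⊕ Fin d) (Fin d ⊕ Fin d) F)) ≤ W →
          W.map (Matrix.toLin' (x : Matrix (Fin d ⊕ Fin d) (Fin d ⊕ Fin d) F)) ≤ W) :=
  opescalred_gen (Cfsg.Agent.Lib.Helper16.qfPlus d F) (opescalred_ne d hd) r x hx z hxr hns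

end Cfsg.Agent.Lib.Helper18.OPE
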