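import Mathlib
import Cfsg.Agent.Lib.helper3.S5953.Defs
import Cfsg.Agent.Lib.Helper24.ElM
import Cfsg.Agent.Lib.Lead.S5955T2

/-!
# Project S5953, row T5 (split): `V = C_V(y) ⟂ ker Φ_r(y)`, both non-degenerate (hermitian transplant of `Lead/S5955T2`).
-/

set_option autoImplicit false
set_option linter.unusedSectionVars false
set_option linter.unusedVariables false

namespace Cfsg.Agent.Lib.helper3.S5953

open Polynomial Module

theorem s5953t5_add_right {F : Type*} [Field F] {ι : Type*} [Fintype ι] (q : ℕ) (hF : ∀ a b : F, (a + b) ^ q = a ^ q + b ^ q)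
    (u v v' : ι → F) : hermI ι F q u (v + v') = hermI ι F q u v + hermI ι F q u v' := by
  simp only [hermI, Pi.add_apply, hF, mul_add, Finset.sum_add_distrib]

/-- the Frobenius `a ↦ a ^ q` is additive when `|F| = q ^ 2`. -/
theorem s5953t5_frob_add {F : Type*} [Field F] [Fintype F] {p : ℕ} [Fact p.Prime] [CharP F p] {q : ℕ}
    (hF : Fintype.card F = q ^ 2) (a b : F) : (a + b) ^ q = a ^ q + b ^ q := by
  obtain ⟨k, hk, hcard⟩ := FiniteField.card F p
  have hq : ∃ j : ℕ, q = p ^ j := by
    have h1 : q ^ 2 = p ^ (k : ℕ) := by rw [← hF, hcard]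
    have hpq : q ∣ p ^ (k : ℕ) := by
      rw [← h1]
      exact dvd_pow_self q (by norm_num)
    obtain ⟨j, _, hj⟩ := (Nat.dvd_prime_pow (Fact.out : p.Prime)).mp hpq
    exact ⟨j, hj⟩
  obtain ⟨j, rfl⟩ := hq
  exact add_pow_char_pow a b p j

theorem s5953t5_zero_right {F : Type*} [Field F] {ι : Type*} [Fintype ι] (q : ℕ) (hq : q ≠ 0) (u : ι → F) :
    hermI ι F q u 0 = 0 := by
  simp [hermI, hq]

theorem s5953t5_sum_right {F : Type*} [Field F] {ι : Type*} [Fintype ι] (q : ℕ) (hq : q ≠ 0)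
    (hF : ∀ a b : F, (a + b) ^ q = a ^ q + b ^ q)
    (u : ι → F) {κ : Type*} (s : Finset κ) (v : κ → ι → F) :
    hermI ι F q u (∑ j ∈ s, v j) = ∑ j ∈ s, hermI ι F q u (v j) := by
  classical
  induction s using Finset.induction_on with
  | empty => simp [s5953t5_zero_right q hq]
  | insert a s ha ih => rw [Finset.sum_insert ha, Finset.sum_insert ha, s5953t5_add_right q hF, ih]

theorem s5953t5_sum_left {F : Type*} [Field F] {ι : Type*} [Fintype ι] (q : ℕ)
    (v : ι → F) {κ : Type*} (s : Finset κ) (u : κ → ι → F) :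
    hermI ι F q (∑ j ∈ s, u j) v = ∑ j ∈ s, hermI ι F q (u j) v := by
  classical
  induction s using Finset.induction_on with
  | empty => simp [hermI_zero_left]
  | insert a s ha ih => rw [Finset.sum_insert ha, Finset.sum_insert ha, hermI_add_left, ih]

/-- non-degeneracy on the whole space. -/
theorem s5953t5_nd {F : Type*} [Field F] {ι : Type*} [Fintype ι] (q : ℕ) (hq : q ≠ 0) (u : ι → F)
    (h : ∀ v, hermI ι F q u v = 0) : u = 0 := by
  classical
  funext i
  have := h (Pi.single i 1)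
  simp only [hermI, Pi.single_apply] at this
  rw [Finset.sum_eq_single i] at this
  · simpa using this
  · intro j _ hji
    rw [if_neg hji, zero_pow hq, mul_zero]
  · intro hi
    exact absurd (Finset.mem_univ i) hi

theorem s5953t5_pres_pow {F : Type*} [Field F] {ι : Type*} [Fintype ι] {q r : ℕ} {z : F}
    {x : Module.End F (ι → F)} (h : HCtx q r z x) (j : ℕ) (u v : ι → F) :
    hermI ι F q ((x ^ j) u) ((x ^ j) v) = hermI ι F q u v := by
  induction j generalizing u v with
  | zero => rw [pow_zero, Module.End.one_apply, Module.End.one_apply]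
  | succ j ih => rw [pow_succ, Module.End.mul_apply, Module.End.mul_apply, ih, h.pres]

/-- T5 [M] SPLIT: `V = C_V(y) ⟂ ker Φ_r(y)`, both non-degenerate. -/
theorem split {F : Type*} [Field F] [Fintype F] {p : ℕ} [Fact p.Prime] [CharP F p] {q n : ℕ}
    (hF : Fintype.card F = q ^ 2) {r : ℕ} [Fact r.Prime] (hrp : r ≠ p)
    {y : Module.End F (Fin n → F)} (h : HCtx q r 1 y) :
    HOrth q (fixS y) (cycS r y) ∧ IsCompl (fixS y) (cycS r y) ∧ HND q (fixS y) ∧
      HND q (cycS r y) := by
  have hq0 : q ≠ 0 := by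
    rintro rfl
    rw [zero_pow (by norm_num)] at hF
    exact Fintype.card_ne_zero hF
  have hfrob := s5953t5_frob_add (p := p) hF
  have hpow : y ^ r = 1 := by rw [h.pow, one_smul]
  have hcop : IsCoprime (X - 1 : F[X]) (cyclotomic r F) :=
    Cfsg.Agent.Lib.Helper24.el_cyc_coprime (F := F) (p := p) r hrp
  have hkill : aeval y ((X - 1) * cyclotomic r F) = 0 :=
    Cfsg.Agent.Lib.Helper24.el_cyc_kill r y hpow
  have hrF : (r : F) ≠ 0 := Cfsg.Agent.Lib.Helper24.el_cast_ne_zero (F := F) (p := p) r hrp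
  have hcompl : IsCompl (fixS y) (cycS r y) := by
    constructor
    · exact disjoint_ker_aeval_of_isCoprime y hcop
    · rw [codisjoint_iff]
      show Cfsg.Agent.Lib.Helper13.S5955.fixS y ⊔ Cfsg.Agent.Lib.Helper13.S5955.cycS r y = ⊤
      unfold Cfsg.Agent.Lib.Helper13.S5955.fixS Cfsg.Agent.Lib.Helper13.S5955.cycS
      rw [sup_ker_aeval_eq_ker_aeval_mul_of_coprime y hcop, hkill, LinearMap.ker_zero]
  have hcyc : ∀ w ∈ cycS r y, ∑ j ∈ Finset.range r, (y ^ j) w = 0 := by
    intro w hw
    have hw' : w ∈ Cfsg.Agent.Lib.Helper13.S5955.cycS r y := hw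
    unfold Cfsg.Agent.Lib.Helper13.S5955.cycS at hw'
    rw [LinearMap.mem_ker, cyclotomic_prime, map_sum, LinearMap.sum_apply] at hw'
    simp only [map_pow, aeval_X] at hw'
    exact hw'
  have hfix : ∀ v ∈ fixS y, ∀ j : ℕ, (y ^ j) v = v := by
    intro v hv j
    exact Cfsg.Agent.Lib.Helper13.S5955.s5955t2_pow_fix y v
      ((Cfsg.Agent.Lib.Helper13.S5955.s5955t2_mem_fixS y v).mp hv) j
  have horth : HOrth q (fixS y) (cycS r y) := by
    intro v hv w hw
    have h0 : hermI (Fin n) F q v (∑ j ∈ Finset.range r, (y ^ j) w) = 0 := by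
      rw [hcyc w hw, s5953t5_zero_right q hq0]
    rw [s5953t5_sum_right q hq0 hfrob] at h0
    have h1 : ∀ j ∈ Finset.range r, hermI (Fin n) F q v ((y ^ j) w) = hermI (Fin n) F q v w := by
      intro j _
      have := s5953t5_pres_pow h j v w
      rw [hfix v hv j] at this
      exact this
    rw [Finset.sum_congr rfl h1, Finset.sum_const, Finset.card_range, nsmul_eq_mul] at h0
    exact (mul_eq_zero.mp h0).resolve_left hrF
  have horth' : ∀ w ∈ cycS r y, ∀ v ∈ fixS y, hermI (Fin n) F q w v = 0 := by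
    intro w hw v hv
    have h0 : hermI (Fin n) F q (∑ j ∈ Finset.range r, (y ^ j) w) v = 0 := by
      rw [hcyc w hw, hermI_zero_left]
    rw [s5953t5_sum_left] at h0
    have h1 : ∀ j ∈ Finset.range r, hermI (Fin n) F q ((y ^ j) w) v = hermI (Fin n) F q w v := by
      intro j _
      have := s5953t5_pres_pow h j w v
      rw [hfix v hv j] at this
      exact this
    rw [Finset.sum_congr rfl h1, Finset.sum_const, Finset.card_range, nsmul_eq_mul] at h0
    exact (mul_eq_zero.mp h0).resolve_left hrF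
  have hdec : ∀ v : Fin n → F, ∃ a ∈ fixS y, ∃ b ∈ cycS r y, a + b = v := by
    intro v
    have hv : v ∈ fixS y ⊔ cycS r y := by rw [hcompl.sup_eq_top]; trivial
    obtain ⟨a, ha, b, hb, hab⟩ := Submodule.mem_sup.mp hv
    exact ⟨a, ha, b, hb, hab⟩
  refine ⟨horth, hcompl, ?_, ?_⟩
  · intro u hu huv
    apply s5953t5_nd q hq0 u
    intro v
    obtain ⟨a, ha, b, hb, rfl⟩ := hdec v
    rw [s5953t5_add_right q hfrob, huv a ha, horth u hu b hb, add_zero]
  · intro u hu huv
    apply s5953t5_nd q hq0 u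
    intro v
    obtain ⟨a, ha, b, hb, rfl⟩ := hdec v
    rw [s5953t5_add_right q hfrob, huv b hb, add_zero, horth' u hu a ha]

end Cfsg.Agent.Lib.helper3.S5953
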