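import Mathlib
import Cfsg.Agent.Lib.helper14.SQD.Defs

/-!
# Project SQD (designer helper14), row X12 (helper27): `two_part_of_formula`, verbatim (pure `ℕ`)
-/

set_option autoImplicit false

namespace Cfsg.Agent.Lib.helper14.SQD

open Cfsg Cfsg.Lie Matrix

universe u v

/-- X12 [E-M]. The 2-part of a number given by an order formula `d * n = (2 ^ f) ^ N * M` with `d`, `M` odd:
`n = 2 ^ (f * N) * r` with `r` odd (`Nat.Coprime.dvd_of_dvd_mul_left`; or `helper8.h8lo_core` for the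
factorization and `Nat.ordProj_mul_ordCompl_eq_self`). -/
theorem two_part_of_formula (f N n M d : ℕ) (hn : 0 < n) (hd : d * n = (2 ^ f) ^ N * M) (hdo : ¬ 2 ∣ d)
    (hMo : ¬ 2 ∣ M) : ∃ r, n = 2 ^ (f * N) * r ∧ ¬ 2 ∣ r := by
  have hpow : (2 ^ f) ^ N = 2 ^ (f * N) := (pow_mul 2 f N).symm
  rw [hpow] at hd
  have hcop : Nat.Coprime (2 ^ (f * N)) d :=
    Nat.Coprime.pow_left _ ((Nat.Prime.coprime_iff_not_dvd Nat.prime_two).mpr hdo)
  have hdvd : 2 ^ (f * N) ∣ n := hcop.dvd_of_dvd_mul_left ⟨M, hd⟩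
  obtain ⟨r, rfl⟩ := hdvd
  refine ⟨r, rfl, fun h2 => hMo ?_⟩
  have hpos : 0 < 2 ^ (f * N) := Nat.pos_of_ne_zero (by positivity)
  have e : 2 ^ (f * N) * (d * r) = 2 ^ (f * N) * M := by
    rw [← hd]
    ring
  rw [← Nat.eq_of_mul_eq_mul_left hpos e]
  exact Dvd.dvd.mul_left h2 d

end Cfsg.Agent.Lib.helper14.SQD
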