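import Mathlib
import Cfsg.Prelude.Def_GeometricClasses
import Cfsg.Agent.Lib.Helper27.ASC.Defs
import Cfsg.Agent.Lib.helper15.SN2
import Cfsg.Agent.Lib.Helper28.SubF

/-!
# ASC piece F34 : `(r, q) = (3, 4)`: the normaliser of a degree-3 field subalgebra of `M_3(F_4)` meets `SL_3(4)` inside
the subfield group over `F_2`.
-/

set_option autoImplicit false
set_option linter.unusedVariables false
set_option linter.unusedSectionVars false
set_option linter.unusedSimpArgs false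
set_option linter.style.haveILetI false

namespace Cfsg.Agent.Lib.Helper27.ASC

open Cfsg Cfsg.Geo
open scoped MatrixGroups Matrix
open Cfsg.Agent.Lib.helper15.SN
open Cfsg.Agent.Lib.Helper28.SubF

variable {F : Type*} [Field F] [Fintype F]

theorem ascf34_two (hq : Fintype.card F = 4) : (2 : F) = 0 := by
  have hch : ringChar F = 2 := FiniteField.even_card_iff_char_two.mpr (by rw [hq])
  have : CharP F 2 := hch ▸ ringChar.charP F
  exact CharTwo.two_eq_zero

theorem ascf34_cube (hq : Fintype.card F = 4) (c : F) (hc : c ≠ 0) : c ^ 3 = 1 := by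
  have := FiniteField.pow_card_sub_one_eq_one c hc
  rwa [hq] at this

/-- an element of order 7 in `K`, with its cubic relation -/
theorem ascf34_theta (hq : Fintype.card F = 4) (K : Subalgebra F (Matrix (Fin 3) (Fin 3) F))
    (hK : IsFieldSubalgebra 3 K) :
    ∃ θ ∈ K, θ ^ 7 = 1 ∧ θ ≠ 1 ∧ (θ ^ 3 = θ + 1 ∨ θ ^ 3 = θ ^ 2 + 1) := by
  classical
  let _ : Field K := (isField_of hK (by norm_num)).toField
  have hfin : Finite K := Module.finite_of_finite F
  have : Fintype K := Fintype.ofFinite K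
  have hc : Nat.card K = 64 := by
    rw [Nat.card_eq_fintype_card, Module.card_eq_pow_finrank (K := F) (V := K), hK.finrank_eq, hq]; norm_num
  have hcu : Nat.card Kˣ = 63 := by
    rw [Nat.card_units, hc]
  haveI : Fact (Nat.Prime 7) := ⟨by norm_num⟩
  obtain ⟨u, hu⟩ := exists_prime_orderOf_dvd_card' (G := Kˣ) 7 (by rw [hcu]; norm_num)
  have hu7 : u ^ 7 = 1 := by rw [← hu]; exact pow_orderOf_eq_one u
  have hu1 : u ≠ 1 := by
    intro h
    rw [h, orderOf_one] at hu
    norm_num at hu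
  set t : K := (u : K) with ht
  have ht7 : t ^ 7 = 1 := by
    rw [ht, ← Units.val_pow_eq_pow_val, hu7, Units.val_one]
  have ht1 : t ≠ 1 := by
    intro h
    apply hu1
    exact Units.ext h
  have h2F := ascf34_two hq
  have h2 : (2 : K) = 0 := by
    have : ((2 : F) • (1 : K)) = 0 := by rw [h2F, zero_smul]
    rw [← this]
    rw [two_smul]; norm_num
  have hfac : (t + 1) * (t ^ 3 + t + 1) * (t ^ 3 + t ^ 2 + 1) = 0 := by
    have : (t + 1) * (t ^ 3 + t + 1) * (t ^ 3 + t ^ 2 + 1) = t ^ 7 - 1 + 2 * (t ^ 6 + t ^ 5 + 2 * t ^ 4 + 2 * t ^ 3 + t ^ 2 + t + 1) := by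
      ring
    rw [this, ht7, h2]; ring
  have hneg : ∀ a : K, -a = a := by
    intro a
    have : a + a = 0 := by rw [← two_mul, h2, zero_mul]
    exact neg_eq_of_add_eq_zero_left this
  refine ⟨t.1, t.2, ?_, ?_, ?_⟩
  · have := congrArg Subtype.val ht7
    simpa using this
  · intro h
    apply ht1
    exact Subtype.ext h
  · rcases mul_eq_zero.mp hfac with h | h
    · rcases mul_eq_zero.mp h with h | h
      · exfalso
        apply ht1
        have : t = -1 := eq_neg_of_add_eq_zero_left h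
        rw [this, hneg]
      · left
        have h' : t ^ 3 = -(t + 1) := by
          have : t ^ 3 + (t + 1) = 0 := by rw [← h]; ring
          exact eq_neg_of_add_eq_zero_left this
        rw [hneg] at h'
        have := congrArg Subtype.val h'
        simpa using this
    · right
      have h' : t ^ 3 = -(t ^ 2 + 1) := by
        have : t ^ 3 + (t ^ 2 + 1) = 0 := by rw [← h]; ring
        exact eq_neg_of_add_eq_zero_left this
      rw [hneg] at h'
      have := congrArg Subtype.val h'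
      simpa using this

/-- `1, θ, θ²` are linearly independent over `F` when `θ ∈ K` has `θ ^ 7 = 1`, `θ ≠ 1`. -/
theorem ascf34_indep (hq : Fintype.card F = 4) (K : Subalgebra F (Matrix (Fin 3) (Fin 3) F))
    (hK : IsFieldSubalgebra 3 K) (θ : Matrix (Fin 3) (Fin 3) F) (hθ : θ ∈ K) (h7 : θ ^ 7 = 1) (h1 : θ ≠ 1)
    (a b c : F) (h : a • (1 : Matrix (Fin 3) (Fin 3) F) + b • θ + c • θ ^ 2 = 0) : a = 0 ∧ b = 0 ∧ c = 0 := by
  classical
  let _ : Field K := (isField_of hK (by norm_num)).toField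
  have hfin : Finite K := Module.finite_of_finite F
  set t : K := ⟨θ, hθ⟩ with ht
  have hint : IsIntegral F t := Algebra.IsIntegral.isIntegral t
  have hdvd := minpoly.degree_dvd hint
  rw [hK.finrank_eq] at hdvd
  have hdeg : (minpoly F t).natDegree = 3 := by
    rcases (Nat.dvd_prime Nat.prime_three).mp hdvd with h | h
    · exfalso
      rw [minpoly.natDegree_eq_one_iff] at h
      obtain ⟨z, hz⟩ := h
      have hz' : θ = z • (1 : Matrix (Fin 3) (Fin 3) F) := by
        have := congrArg Subtype.val hz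
        rw [Algebra.algebraMap_eq_smul_one] at this
        simpa [ht] using this.symm
      have hz0 : z ≠ 0 := by
        rintro rfl
        rw [zero_smul] at hz'
        rw [hz', zero_pow (by norm_num)] at h7
        exact zero_ne_one h7
      have h3 : θ ^ 3 = 1 := by
        rw [hz', smul_pow, one_pow, ascf34_cube hq z hz0, one_smul]
      apply h1
      calc θ = θ ^ 7 := by
            have : θ ^ 7 = (θ ^ 3) ^ 2 * θ := by rw [← pow_mul, ← pow_succ]
            rw [this, h3, one_pow, one_mul]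
        _ = 1 := h7
    · exact h
  have hli := linearIndependent_pow (K := F) t
  rw [Fintype.linearIndependent_iff] at hli
  have hcast : ∀ i : Fin 3, ((Fin.cast hdeg.symm i : Fin (minpoly F t).natDegree) : ℕ) = (i : ℕ) := fun i => rfl
  let gfun : Fin (minpoly F t).natDegree → F := fun i => ![a, b, c] (Fin.cast hdeg i)
  have hsum : ∑ i, gfun i • t ^ (i : ℕ) = 0 := by
    have e : ∑ i, gfun i • t ^ (i : ℕ) = ∑ i : Fin 3, (![a, b, c] i) • t ^ (i : ℕ) := by
      refine Fintype.sum_equiv (finCongr hdeg) _ _ ?_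
      intro i
      simp [gfun]
    rw [e, Fin.sum_univ_three]
    apply Subtype.ext
    simpa [ht] using h
  have h0 := hli gfun hsum
  refine ⟨?_, ?_, ?_⟩
  · simpa [gfun] using h0 (Fin.cast hdeg.symm 0)
  · simpa [gfun] using h0 (Fin.cast hdeg.symm 1)
  · simpa [gfun] using h0 (Fin.cast hdeg.symm 2)

/-- the basis `e₀, θ e₀, θ² e₀` -/
theorem ascf34_basis (hq : Fintype.card F = 4) (K : Subalgebra F (Matrix (Fin 3) (Fin 3) F))
    (hK : IsFieldSubalgebra 3 K) (θ : Matrix (Fin 3) (Fin 3) F) (hθ : θ ∈ K) (h7 : θ ^ 7 = 1) (h1 : θ ≠ 1)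
    (a b : F) (h3 : θ ^ 3 = a • θ ^ 2 + b • θ + 1) :
    ∃ P : GL (Fin 3) F,
      (∀ j : Fin 3, (P : Matrix (Fin 3) (Fin 3) F) *ᵥ (Pi.single j 1) = (θ ^ (j : ℕ)) *ᵥ (Pi.single 0 1)) ∧
      θ * (P : Matrix (Fin 3) (Fin 3) F) = (P : Matrix (Fin 3) (Fin 3) F) * !![0, 0, 1; 1, 0, b; 0, 1, a] := by
  classical
  set v₀ : Fin 3 → F := Pi.single 0 1 with hv₀
  have hv₀ne : v₀ ≠ 0 := by
    intro h
    have := congrFun h 0
    simp [hv₀] at this
  let vs : Fin 3 → Fin 3 → F := fun j => (θ ^ (j : ℕ)) *ᵥ v₀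
  have hli : LinearIndependent F vs := by
    rw [Fintype.linearIndependent_iff]
    intro g hg
    rw [Fin.sum_univ_three] at hg
    have hM : (g 0 • (1 : Matrix (Fin 3) (Fin 3) F) + g 1 • θ + g 2 • θ ^ 2) *ᵥ v₀ = 0 := by
      rw [Matrix.add_mulVec, Matrix.add_mulVec, Matrix.smul_mulVec, Matrix.smul_mulVec,
        Matrix.smul_mulVec, Matrix.one_mulVec]
      simpa [vs] using hg
    have hmem : g 0 • (1 : Matrix (Fin 3) (Fin 3) F) + g 1 • θ + g 2 • θ ^ 2 ∈ K :=
      K.add_mem (K.add_mem (K.smul_mem K.one_mem _) (K.smul_mem hθ _)) (K.smul_mem (K.pow_mem hθ 2) _)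
    have h0 := mulVec_eq_zero_of_mem hK hmem hv₀ne hM
    obtain ⟨ha, hb, hc⟩ := ascf34_indep hq K hK θ hθ h7 h1 _ _ _ h0
    intro i
    fin_cases i
    · exact ha
    · exact hb
    · exact hc
  have hunit : IsUnit ((Matrix.of vs)ᵀ).det := by
    rw [Matrix.det_transpose, ← Matrix.isUnit_iff_isUnit_det, ← Matrix.linearIndependent_rows_iff_isUnit]
    exact hli
  let P : GL (Fin 3) F := Matrix.GeneralLinearGroup.mk'' ((Matrix.of vs)ᵀ) hunit
  have hPval : (P : Matrix (Fin 3) (Fin 3) F) = (Matrix.of vs)ᵀ := rfl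
  have hcol : ∀ j : Fin 3, (P : Matrix (Fin 3) (Fin 3) F) *ᵥ (Pi.single j 1) = (θ ^ (j : ℕ)) *ᵥ v₀ := by
    intro j
    rw [hPval]
    ext i
    simp [vs, Matrix.mulVec_single_one]
  refine ⟨P, hcol, ?_⟩
  -- check on basis vectors
  apply mat_ext_mulVec
  intro w
  have hw : w = ∑ j : Fin 3, w j • (Pi.single j 1 : Fin 3 → F) := by
    ext i
    simp [Finset.sum_apply, Pi.single_apply]
  rw [hw]
  simp only [Matrix.mulVec_sum, Matrix.mulVec_smul]
  refine Finset.sum_congr rfl fun j _ => ?_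
  congr 1
  rw [← Matrix.mulVec_mulVec, ← Matrix.mulVec_mulVec, hcol]
  have hC : ∀ j : Fin 3, (!![0, 0, 1; 1, 0, b; 0, 1, a] : Matrix (Fin 3) (Fin 3) F) *ᵥ (Pi.single j 1) =
      fun i => (!![0, 0, 1; 1, 0, b; 0, 1, a] : Matrix (Fin 3) (Fin 3) F) i j := by
    intro j
    ext i
    simp [Matrix.mulVec_single_one]
  rw [hC]
  have hexp : ∀ u : Fin 3 → F, (P : Matrix (Fin 3) (Fin 3) F) *ᵥ u =
      u 0 • v₀ + u 1 • (θ *ᵥ v₀) + u 2 • ((θ ^ 2) *ᵥ v₀) := by
    intro u
    have hu : u = ∑ j : Fin 3, u j • (Pi.single j 1 : Fin 3 → F) := by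
      ext i
      simp [Finset.sum_apply, Pi.single_apply]
    conv_lhs => rw [hu]
    simp only [Matrix.mulVec_sum, Matrix.mulVec_smul, hcol]
    rw [Fin.sum_univ_three]
    simp
  rw [hexp]
  fin_cases j
  · simp [Matrix.mulVec_mulVec]
  · simp only [Fin.mk_one, Fin.isValue, Fin.val_one, pow_one]
    rw [Matrix.mulVec_mulVec, ← pow_two]
    simp
  · simp only [Fin.reduceFinMk, Fin.isValue, Fin.val_two]
    rw [Matrix.mulVec_mulVec, ← pow_succ', h3]
    simp only [Matrix.add_mulVec, Matrix.smul_mulVec, Matrix.one_mulVec]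
    simp
    abel

/-- the determinant of `k ∈ K` is its norm `k ^ 21` -/
theorem ascf34_det_pow (hq : Fintype.card F = 4) (K : Subalgebra F (Matrix (Fin 3) (Fin 3) F))
    (hK : IsFieldSubalgebra 3 K) (k : Matrix (Fin 3) (Fin 3) F) (hk : k ∈ K) :
    k ^ 21 = k.det • (1 : Matrix (Fin 3) (Fin 3) F) := by
  classical
  let _ : Field K := (isField_of hK (by norm_num)).toField
  have hfin : Finite K := Module.finite_of_finite F
  have : Fintype K := Fintype.ofFinite K
  set v₀ : Fin 3 → F := Pi.single 0 1 with hv₀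
  have hv₀ne : v₀ ≠ 0 := by
    intro h
    have := congrFun h 0
    simp [hv₀] at this
  let e : K ≃ₗ[F] (Fin 3 → F) := LinearEquiv.ofBijective (evalL K v₀) (evalL_bijective hK hv₀ne)
  set x : K := ⟨k, hk⟩ with hx
  have hnorm : Algebra.norm F x = k.det := by
    rw [Algebra.norm_apply]
    have h1 : Matrix.toLin' k = e.toLinearMap ∘ₗ (Algebra.lmul F K x) ∘ₗ e.symm.toLinearMap := by
      apply LinearMap.ext
      intro w
      obtain ⟨κ, rfl⟩ := e.surjective w
      simp only [LinearMap.coe_comp, LinearEquiv.coe_coe, Function.comp_apply, LinearEquiv.symm_apply_apply,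
        Algebra.coe_lmul_eq_mul, LinearMap.mul_apply', Matrix.toLin'_apply]
      show k *ᵥ (evalL K v₀ κ) = evalL K v₀ (x * κ)
      rw [evalL_apply, evalL_apply, Matrix.mulVec_mulVec]
      rfl
    rw [← LinearMap.det_toLin', h1, LinearMap.det_conj]
  have hc : Nat.card K = 64 := by
    rw [Nat.card_eq_fintype_card, Module.card_eq_pow_finrank (K := F) (V := K), hK.finrank_eq, hq]; norm_num
  have hcF : Nat.card F = 4 := by rw [Nat.card_eq_fintype_card, hq]
  have h2 := FiniteField.algebraMap_norm_eq_pow (K := F) (K' := K) (x := x)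
  rw [hc, hcF, hnorm] at h2
  norm_num at h2
  have h3 := congrArg Subtype.val h2
  rw [Algebra.algebraMap_eq_smul_one] at h3
  simpa [hx] using h3.symm

/-- an element of `K` of determinant one is a scalar times a power of `θ` -/
theorem ascf34_k_form (hq : Fintype.card F = 4) (K : Subalgebra F (Matrix (Fin 3) (Fin 3) F))
    (hK : IsFieldSubalgebra 3 K) (θ : Matrix (Fin 3) (Fin 3) F) (hθ : θ ∈ K) (h7 : θ ^ 7 = 1) (h1 : θ ≠ 1)
    (k : Matrix (Fin 3) (Fin 3) F) (hk : k ∈ K) (hdet : k.det = 1) :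
    ∃ (c : F) (s : ℕ), c ≠ 0 ∧ k = c • θ ^ s := by
  classical
  let _ : Field K := (isField_of hK (by norm_num)).toField
  have hfin : Finite K := Module.finite_of_finite F
  have h21 : k ^ 21 = 1 := by rw [ascf34_det_pow hq K hK k hk, hdet, one_smul]
  set x : K := ⟨k, hk⟩ with hx
  set t : K := ⟨θ, hθ⟩ with ht
  have hx21 : x ^ 21 = 1 := by
    apply Subtype.ext
    simpa [hx] using h21
  have ht7 : t ^ 7 = 1 := by
    apply Subtype.ext
    simpa [ht] using h7
  have ht1 : t ≠ 1 := by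
    intro h
    apply h1
    have := congrArg Subtype.val h
    simpa [ht] using this
  haveI : Fact (Nat.Prime 7) := ⟨by norm_num⟩
  have hord : orderOf t = 7 := orderOf_eq_prime ht7 ht1
  have hprim : IsPrimitiveRoot t 7 := hord ▸ IsPrimitiveRoot.orderOf t
  have hu : (x ^ 15) ^ 7 = 1 := by
    rw [← pow_mul]
    have : x ^ (15 * 7) = (x ^ 21) ^ 5 := by rw [← pow_mul]
    rw [this, hx21, one_pow]
  obtain ⟨s, -, hs⟩ := hprim.eq_pow_of_pow_eq_one hu
  have hw : (x ^ 7) ^ Fintype.card F = x ^ 7 := by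
    rw [hq, ← pow_mul]
    have : x ^ (7 * 4) = x ^ 21 * x ^ 7 := by rw [← pow_add]
    rw [this, hx21, one_mul]
  obtain ⟨c, hc⟩ := mem_range_of_pow_card (F := F) (L := K) (x ^ 7) hw
  have hxx : x = t ^ s * algebraMap F K c := by
    rw [hs, hc, ← pow_add]
    have : x ^ (15 + 7) = x ^ 21 * x := by rw [← pow_succ]
    rw [this, hx21, one_mul]
  have hx0 : x ≠ 0 := by
    intro h
    rw [h, zero_pow (by norm_num)] at hx21
    exact zero_ne_one hx21
  refine ⟨c, s, ?_, ?_⟩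
  · rintro rfl
    apply hx0
    rw [hxx, map_zero, mul_zero]
  · have := congrArg Subtype.val hxx
    rw [Algebra.algebraMap_eq_smul_one] at this
    simpa [hx, ht, mul_comm] using this

/-- the prime subfield `{0, 1}` -/
theorem ascf34_F0 (hq : Fintype.card F = 4) :
    ∃ F₀ : Subfield F, Nat.card F₀ = 2 ∧ ∀ x ∈ F₀, x = 0 ∨ x = 1 := by
  have hch : ringChar F = 2 := FiniteField.even_card_iff_char_two.mpr (by rw [hq])
  have : CharP F 2 := hch ▸ ringChar.charP F
  let f : ZMod 2 →+* F := ZMod.castHom (dvd_refl 2) F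
  refine ⟨f.fieldRange, ?_, ?_⟩
  · have hinj : Function.Injective f := f.injective
    have e : ZMod 2 ≃ f.fieldRange := by
      refine Equiv.ofBijective (fun z => ⟨f z, ⟨z, rfl⟩⟩) ⟨?_, ?_⟩
      · intro a b hab
        exact hinj (congrArg Subtype.val hab)
      · rintro ⟨_, z, rfl⟩
        exact ⟨z, rfl⟩
    rw [← Nat.card_congr e]
    simp
  · rintro _ ⟨z, rfl⟩
    fin_cases z
    · left; exact map_zero f
    · right; exact map_one f

/-- the V0-lemmas for the basis `e₀, θ e₀, θ² e₀` -/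
theorem ascf34_V0 (F₀ : Subfield F) (θ : Matrix (Fin 3) (Fin 3) F) (a b : F) (ha : a ∈ F₀) (hb : b ∈ F₀)
    (P : GL (Fin 3) F)
    (hcol : ∀ j : Fin 3, (P : Matrix (Fin 3) (Fin 3) F) *ᵥ (Pi.single j 1) = (θ ^ (j : ℕ)) *ᵥ (Pi.single 0 1))
    (hC : θ * (P : Matrix (Fin 3) (Fin 3) F) = (P : Matrix (Fin 3) (Fin 3) F) * !![0, 0, 1; 1, 0, b; 0, 1, a]) :
    (∀ v ∈ V0 F₀ P, θ *ᵥ v ∈ V0 F₀ P) ∧ (∀ N : ℕ, (θ ^ N) *ᵥ (Pi.single 0 1) ∈ V0 F₀ P) := by
  have hstab : ∀ v ∈ V0 F₀ P, θ *ᵥ v ∈ V0 F₀ P := by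
    intro v hv
    obtain ⟨u, hu, rfl⟩ := V0_exists hv
    rw [Matrix.mulVec_mulVec, hC, ← Matrix.mulVec_mulVec]
    apply V0_P
    intro i
    simp only [Matrix.mulVec, dotProduct]
    apply F₀.sum_mem
    intro j _
    apply F₀.mul_mem _ (hu j)
    fin_cases i <;> fin_cases j <;> simp [F₀.zero_mem, F₀.one_mem, ha, hb]
  refine ⟨hstab, ?_⟩
  intro N
  induction N with
  | zero =>
    have := hcol 0
    simp only [Fin.val_zero, pow_zero, Matrix.one_mulVec] at this
    rw [pow_zero, Matrix.one_mulVec, ← this]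
    apply V0_P
    intro i
    simp only [Pi.single_apply]
    split_ifs
    · exact F₀.one_mem
    · exact F₀.zero_mem
  | succ N ih =>
    rw [pow_succ', ← Matrix.mulVec_mulVec]
    exact hstab _ ih

/-- F34 -/
theorem field_34 (hq : Fintype.card F = 4) (K : Subalgebra F (Matrix (Fin 3) (Fin 3) F))
    (hK : IsFieldSubalgebra 3 K) :
    ∃ (F₀ : Subfield F) (P : GL (Fin 3) F), Fintype.card F = Nat.card F₀ ^ 2 ∧
      subalgebraNormalizer K ⊓ specialLinear (Fin 3) F ≤ subfieldSubgroup F₀ P := by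
  classical
  obtain ⟨F₀, hF₀card, hF₀⟩ := ascf34_F0 hq
  obtain ⟨θ, hθ, h7, h1, h3⟩ := ascf34_theta hq K hK
  obtain ⟨a, b, ha, hb, h3'⟩ : ∃ a b : F, a ∈ F₀ ∧ b ∈ F₀ ∧ θ ^ 3 = a • θ ^ 2 + b • θ + 1 := by
    rcases h3 with h | h
    · exact ⟨0, 1, F₀.zero_mem, F₀.one_mem, by rw [h]; simp⟩
    · exact ⟨1, 0, F₀.one_mem, F₀.zero_mem, by rw [h]; simp⟩
  obtain ⟨P, hcol, hC⟩ := ascf34_basis hq K hK θ hθ h7 h1 a b h3'
  obtain ⟨hstab, hpow⟩ := ascf34_V0 F₀ θ a b ha hb P hcol hC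
  have hstabs : ∀ (s : ℕ) (v : Fin 3 → F), v ∈ V0 F₀ P → (θ ^ s) *ᵥ v ∈ V0 F₀ P := by
    intro s
    induction s with
    | zero => intro v hv; rwa [pow_zero, Matrix.one_mulVec]
    | succ s ih =>
      intro v hv
      rw [pow_succ', ← Matrix.mulVec_mulVec]
      exact hstab _ (ih v hv)
  refine ⟨F₀, P, by rw [hq, hF₀card]; norm_num, ?_⟩
  intro g hg
  obtain ⟨hgN, hgS⟩ := hg
  obtain ⟨j, -, hj⟩ := exists_frob_pow hK (by norm_num) g hgN
  set e₀ : Fin 3 → F := Pi.single 0 1 with he₀def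
  have he₀ : e₀ ≠ 0 := by
    intro h
    have := congrFun h 0
    simp [he₀def] at this
  have hgi : ((g⁻¹ : GL (Fin 3) F) : Matrix (Fin 3) (Fin 3) F) * (g : Matrix (Fin 3) (Fin 3) F) = 1 := by
    rw [← Units.val_mul, inv_mul_cancel, Units.val_one]
  obtain ⟨k, hk, hke⟩ := exists_mem_mulVec hK he₀ ((g : Matrix (Fin 3) (Fin 3) F) *ᵥ e₀)
  have hk0 : k ≠ 0 := by
    rintro rfl
    rw [Matrix.zero_mulVec] at hke
    apply he₀
    have := congrArg (fun w => ((g⁻¹ : GL (Fin 3) F) : Matrix (Fin 3) (Fin 3) F) *ᵥ w) hke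
    simp only [Matrix.mulVec_zero, Matrix.mulVec_mulVec, hgi, Matrix.one_mulVec] at this
    exact this.symm
  obtain ⟨k', hk', hkk'⟩ := hK.inv k hk hk0
  have hk'k : k' * k = 1 := by rw [hK.comm k' hk' k hk, hkk']
  -- g θ^i e₀ = θ^(i * 4^j) (k e₀)
  have hgθ : ∀ i : ℕ, (g : Matrix (Fin 3) (Fin 3) F) *ᵥ ((θ ^ i) *ᵥ e₀) =
      (θ ^ (i * 4 ^ j)) *ᵥ (k *ᵥ e₀) := by
    intro i
    have h2 := hj (θ ^ i) (K.pow_mem hθ i)
    rw [hq] at h2
    have h4 : (g : Matrix (Fin 3) (Fin 3) F) * θ ^ i = (θ ^ i) ^ (4 ^ j) * (g : Matrix (Fin 3) (Fin 3) F) := by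
      rw [← h2, mul_assoc, hgi, mul_one]
    rw [Matrix.mulVec_mulVec, h4, ← Matrix.mulVec_mulVec, hke, pow_mul]
  -- h = k' * g maps V0 into V0
  have hterm : ∀ i : ℕ, (k' * (g : Matrix (Fin 3) (Fin 3) F)) *ᵥ ((θ ^ i) *ᵥ e₀) = (θ ^ (i * 4 ^ j)) *ᵥ e₀ := by
    intro i
    rw [← Matrix.mulVec_mulVec, hgθ, Matrix.mulVec_mulVec, Matrix.mulVec_mulVec]
    have hcomm : k' * θ ^ (i * 4 ^ j) * k = θ ^ (i * 4 ^ j) := by
      rw [hK.comm k' hk' _ (K.pow_mem hθ _), mul_assoc, hk'k, mul_one]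
    rw [hcomm]
  have hV : ∀ v ∈ V0 F₀ P, (k' * (g : Matrix (Fin 3) (Fin 3) F)) *ᵥ v ∈ V0 F₀ P := by
    intro v hv
    obtain ⟨u, hu, rfl⟩ := V0_exists hv
    have hPu : (P : Matrix (Fin 3) (Fin 3) F) *ᵥ u =
        u 0 • ((θ ^ 0) *ᵥ e₀) + u 1 • ((θ ^ 1) *ᵥ e₀) + u 2 • ((θ ^ 2) *ᵥ e₀) := by
      have hu' : u = ∑ j : Fin 3, u j • (Pi.single j 1 : Fin 3 → F) := by
        ext i
        simp [Finset.sum_apply, Pi.single_apply]
      conv_lhs => rw [hu']
      simp only [Matrix.mulVec_sum, Matrix.mulVec_smul, hcol]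
      rw [Fin.sum_univ_three]
      rfl
    rw [hPu, Matrix.mulVec_add, Matrix.mulVec_add, Matrix.mulVec_smul, Matrix.mulVec_smul,
      Matrix.mulVec_smul, hterm, hterm, hterm]
    exact V0_add (V0_add (V0_smul (hu 0) (hpow _)) (V0_smul (hu 1) (hpow _))) (V0_smul (hu 2) (hpow _))
  -- determinant of k' is in F₀
  have hdetk' : k'.det = 1 := by
    set M : Matrix (Fin 3) (Fin 3) F := ((P⁻¹ : GL (Fin 3) F) : Matrix (Fin 3) (Fin 3) F) *
      (k' * (g : Matrix (Fin 3) (Fin 3) F)) * (P : Matrix (Fin 3) (Fin 3) F) with hM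
    have hMmem : ∀ i j, M i j ∈ F₀ := by
      intro i j
      have h5 := hV _ (V0_P (F₀ := F₀) (P := P) (Pi.single j 1) (by
        intro i'
        simp only [Pi.single_apply]
        split_ifs
        · exact F₀.one_mem
        · exact F₀.zero_mem))
      have h6 := h5 i
      have h7 : M i j = (M *ᵥ (Pi.single j 1)) i := by simp
      rw [h7, hM, ← Matrix.mulVec_mulVec, ← Matrix.mulVec_mulVec]
      exact h6
    let M₀ : Matrix (Fin 3) (Fin 3) F₀ := fun i j => ⟨M i j, hMmem i j⟩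
    have hMM₀ : M = M₀.map F₀.subtype := by
      ext i j
      rfl
    have hdetM : M.det ∈ F₀ := by
      rw [hMM₀]
      have := RingHom.map_det F₀.subtype M₀
      rw [RingHom.mapMatrix_apply] at this
      rw [← this]
      exact (M₀.det).2
    have hdetM' : M.det = k'.det := by
      rw [hM, Matrix.det_mul, Matrix.det_mul, Matrix.det_mul]
      have hg1 : (g : Matrix (Fin 3) (Fin 3) F).det = 1 := by
        have : Matrix.GeneralLinearGroup.det g = 1 := hgS
        have h8 := congrArg Units.val this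
        simpa using h8
      have hPP : ((P⁻¹ : GL (Fin 3) F) : Matrix (Fin 3) (Fin 3) F).det * (P : Matrix (Fin 3) (Fin 3) F).det = 1 := by
        rw [← Matrix.det_mul, ← Units.val_mul, inv_mul_cancel, Units.val_one, Matrix.det_one]
      rw [hg1, mul_one]
      calc ((P⁻¹ : GL (Fin 3) F) : Matrix (Fin 3) (Fin 3) F).det * k'.det * (P : Matrix (Fin 3) (Fin 3) F).det
          = k'.det * (((P⁻¹ : GL (Fin 3) F) : Matrix (Fin 3) (Fin 3) F).det * (P : Matrix (Fin 3) (Fin 3) F).det) := by ring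
        _ = k'.det := by rw [hPP, mul_one]
    rw [hdetM'] at hdetM
    rcases hF₀ _ hdetM with h | h
    · exfalso
      have : k.det * k'.det = 1 := by rw [← Matrix.det_mul, hkk', Matrix.det_one]
      rw [h, mul_zero] at this
      exact zero_ne_one this
    · exact h
  have hdetk : k.det = 1 := by
    have : k.det * k'.det = 1 := by rw [← Matrix.det_mul, hkk', Matrix.det_one]
    rwa [hdetk', mul_one] at this
  obtain ⟨c, s, hc, hkc⟩ := ascf34_k_form hq K hK θ hθ h7 h1 k hk hdetk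
  apply mem_sub_of_maps hc
  intro v hv
  have hgk : (g : Matrix (Fin 3) (Fin 3) F) = k * (k' * (g : Matrix (Fin 3) (Fin 3) F)) := by
    rw [← mul_assoc, hkk', one_mul]
  rw [hgk, ← Matrix.mulVec_mulVec, hkc, Matrix.smul_mulVec, smul_smul, inv_mul_cancel₀ hc, one_smul]
  exact hstabs s _ (hV v hv)

end Cfsg.Agent.Lib.Helper27.ASC
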