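import Mathlib
import Cfsg.Prelude.Def_GeometricClasses
import Cfsg.Agent.Lib.Helper27.ASC.Defs
import Cfsg.Agent.Lib.Helper1.ASCES0
import Cfsg.Agent.Lib.Helper1.ASCES2
import Cfsg.Agent.Lib.Helper1.ASCES4
import Cfsg.Agent.Lib.Helper1.ASCES5
import Cfsg.Agent.Lib.Helper10.ASCIRRNS
import Cfsg.Agent.Lib.Helper10.ASCPR5
import Cfsg.Agent.Lib.Helper10.ASCSUBF2
import Cfsg.Agent.Lib.Helper11.ASCPR1
import Cfsg.Agent.Lib.Helper11.ASCRED
import Cfsg.Agent.Lib.Helper11.ASCSIMPLE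
import Cfsg.Agent.Lib.Helper16.ASCDEC3
import Cfsg.Agent.Lib.Helper18.ASCNOSYMP
import Cfsg.Agent.Lib.Helper18.ASCSCHURB
import Cfsg.Agent.Lib.Helper19.ASCDEC2
import Cfsg.Agent.Lib.Helper21.ASCES3
import Cfsg.Agent.Lib.Helper21.ASCPR8Q
import Cfsg.Agent.Lib.Helper24.ASCDEC4
import Cfsg.Agent.Lib.Helper24.ASCPR2
import Cfsg.Agent.Lib.Helper25.ASCCENT
import Cfsg.Agent.Lib.Helper27.ASCF34
import Cfsg.Agent.Lib.Helper29.ASCQUAD
import Cfsg.Agent.Lib.Helper29.ASCUNIT
import Cfsg.Agent.Lib.helper23.ASCPR8U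
import Cfsg.Agent.Lib.helper23.ASCSCHURA
import Cfsg.Agent.Lib.helper4.ASCES6
import Cfsg.Agent.Lib.helper4.ASCSUBF1
import Cfsg.Agent.Lib.helper6.ASCPR3
import Cfsg.Agent.Lib.helper6.ASCPR6
import Cfsg.Agent.Lib.helper8.ASCSCHURC
import Cfsg.Agent.Lib.helper8.ASCSCHURN
import Cfsg.Agent.Lib.helper8.ASCSUBF3
import Cfsg.Agent.Lib.Helper19.ASCCLIFFA
import Cfsg.Agent.Lib.Helper19.ASCCLIFFB
import Cfsg.Agent.Lib.Helper1.ASCES1

/-!
# Project ASC : assembly.  `asc_prime` : a maximal subgroup of `SL_r(F)`, `r` an odd prime, is of one of the geometric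
types or in the residual class (the `(r, q) = (3, 4)` field case is a hypothesis, discharged by `field_34` for `r = 3`).
-/

set_option autoImplicit false
set_option linter.unusedVariables false
set_option linter.unusedSectionVars false

namespace Cfsg.Agent.Lib.Helper27.ASC

open Cfsg Cfsg.Geo
open scoped MatrixGroups Matrix

variable {F : Type*} [Field F] [Fintype F]

/-- The generic conclusion for an odd prime `r`. -/
def Concl (r : ℕ) (F : Type*) [Field F] [Fintype F] (H : Subgroup (GL (Fin r) F)) : Prop :=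
  (∃ W : Submodule F (Fin r → F), W ≠ ⊥ ∧ W ≠ ⊤ ∧ H = subspaceStabilizer W ⊓ specialLinear (Fin r) F) ∨
  (5 ≤ Fintype.card F ∧ ∃ D : Fin r → Submodule F (Fin r → F), IsMDecomposition 1 D ∧
    H = decompositionStabilizer D ⊓ specialLinear (Fin r) F) ∨
  (¬ (r = 3 ∧ Fintype.card F = 4) ∧ ∃ K : Subalgebra F (Matrix (Fin r) (Fin r) F), IsFieldSubalgebra r K ∧
    H = subalgebraNormalizer K ⊓ specialLinear (Fin r) F) ∨
  (∃ (F₀ : Subfield F) (ℓ : ℕ) (P : GL (Fin r) F), ℓ.Prime ∧ Fintype.card F = Nat.card F₀ ^ ℓ ∧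
    H = subfieldSubgroup F₀ P ⊓ specialLinear (Fin r) F) ∨
  (∃ R : Subgroup (GL (Fin r) F), IsLinearSymplecticTypeData r R ∧
    H = subgroupNormalizer R ⊓ specialLinear (Fin r) F) ∨
  (Odd (Fintype.card F) ∧ ∃ Q : (Fin r → F) → F, IsNondegenerateQuadraticForm Q ∧
    H = quadSimilarityGroup Q ⊓ specialLinear (Fin r) F) ∨
  (∃ (σ : F ≃+* F) (f : (Fin r → F) → (Fin r → F) → F), IsUnitaryForm σ f ∧
    H = similarityGroup f ⊓ specialLinear (Fin r) F) ∨
  InLinearResidualClass H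

/-- a subfield of prime index is proper -/
theorem ne_top_of_card_pow {F₁ : Subfield F} {ℓ : ℕ} (hℓ : ℓ.Prime) (h : Fintype.card F = Nat.card F₁ ^ ℓ) :
    F₁ ≠ ⊤ := by
  rintro rfl
  have h1 : Nat.card (⊤ : Subfield F) = Fintype.card F := by
    rw [← Nat.card_eq_fintype_card]
    exact Nat.card_congr (Subfield.topEquiv (K := F)).toEquiv
  rw [h1] at h
  have h2 : 1 < Fintype.card F := Fintype.one_lt_card
  have h3 : 2 ≤ ℓ := hℓ.two_le
  have : Fintype.card F ^ 1 < Fintype.card F ^ ℓ := Nat.pow_lt_pow_right h2 (by omega)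
  rw [pow_one] at this
  omega

/-- the subfield alternative, from `H ≤ subfieldSubgroup F₀ B` with `F₀` proper -/
theorem concl_subfield {r : ℕ} (hr3 : 3 ≤ r) {H : Subgroup (GL (Fin r) F)}
    (hH : IsMaximalIn (specialLinear (Fin r) F) H) (F₀ : Subfield F) (h0 : F₀ ≠ ⊤) (B : GL (Fin r) F)
    (hle : H ≤ subfieldSubgroup F₀ B) : Concl r F H := by
  obtain ⟨F₁, ℓ, h01, hℓ, hcard⟩ := exists_prime_index_subfield F₀ h0
  have h1 : F₁ ≠ ⊤ := ne_top_of_card_pow hℓ hcard
  have hle1 : H ≤ subfieldSubgroup F₁ B := hle.trans (subfieldSubgroup_mono h01 B)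
  exact Or.inr (Or.inr (Or.inr (Or.inl ⟨F₁, ℓ, B, hℓ, hcard,
    max_principle hH hle1 (pr_subfield (by omega) F₁ h1 B)⟩)))

/-- QODD : a non-degenerate quadratic form in odd dimension forces `|F|` odd. -/
theorem odd_card_of_quad {n : ℕ} (hodd : Odd n) (Q : (Fin n → F) → F) (hQ : IsNondegenerateQuadraticForm Q) :
    Odd (Fintype.card F) := by
  by_contra hev
  rw [Nat.not_odd_iff_even] at hev
  have h2 : (2 : F) = 0 := by
    have hch : ringChar F = 2 := FiniteField.even_card_iff_char_two.mpr (Nat.even_iff.mp hev)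
    have : CharP F 2 := hch ▸ ringChar.charP F
    exact CharTwo.two_eq_zero
  have hneg : ∀ a : F, -a = a := by
    intro a
    have : a + a = 0 := by rw [← two_mul, h2, zero_mul]
    exact neg_eq_of_add_eq_zero_left this
  refine no_symplectic_odd hodd (QuadraticMap.polar Q) ⟨hQ.polar_bilinear, ?_, ?_, hQ.nondegenerate⟩
  · intro v w
    rw [hneg, QuadraticMap.polar_comm]
  · intro v
    have h1 : v + v = (2 : F) • v := (two_smul F v).symm
    unfold QuadraticMap.polar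
    rw [h1, hQ.smul, h2]
    have : Q v + Q v = 0 := by rw [← two_mul, h2, zero_mul]
    have h3 : -Q v = Q v := hneg _
    calc (0:F) ^ 2 * Q v - Q v - Q v = -(Q v + Q v) := by ring
      _ = 0 := by rw [this, neg_zero]

theorem normalIn_le_normalizer {n : ℕ} {N H : Subgroup (GL (Fin n) F)} (hN : NormalIn N H) :
    H ≤ subgroupNormalizer N := by
  intro h hh
  unfold subgroupNormalizer
  rw [Subgroup.mem_normalizer_iff]
  intro x
  constructor
  · intro hx; exact hN.2 h hh x hx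
  · intro hx
    have := hN.2 h⁻¹ (H.inv_mem hh) _ hx
    simpa [mul_assoc] using this

theorem asc_prime {r : ℕ} (hr : r.Prime) (hr2 : r ≠ 2)
    (hF34 : r = 3 → Fintype.card F = 4 → ∀ K : Subalgebra F (Matrix (Fin r) (Fin r) F), IsFieldSubalgebra r K →
      ∃ (F₀ : Subfield F) (P : GL (Fin r) F), Fintype.card F = Nat.card F₀ ^ 2 ∧
        subalgebraNormalizer K ⊓ specialLinear (Fin r) F ≤ subfieldSubgroup F₀ P)
    (H : Subgroup (GL (Fin r) F))
    (hH : IsMaximalIn (specialLinear (Fin r) F) H) : Concl r F H := by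
  have hr3 : 3 ≤ r := by
    have := hr.two_le
    omega
  have hodd : Odd r := hr.odd_of_ne_two hr2
  have hHSL : H ≤ specialLinear (Fin r) F := hH.1.le
  by_cases hirr : Irr H
  swap
  · -- Stage A
    obtain ⟨W, h0, h1, hW⟩ := red_case H hirr
    exact Or.inl ⟨W, h0, h1, max_principle hH hW (pr_subspace W h0 h1)⟩
  by_cases hB : ∃ N : Subgroup (GL (Fin r) F), NormalIn N H ∧ ¬ Irr N ∧ ¬ N ≤ scalars (Fin r) F
  · -- Stage B
    obtain ⟨N, hN, h1, h2⟩ := hB
    obtain ⟨D, hD, hHD⟩ := clifford_lines hr hirr hN h1 h2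
    have hmax := max_principle hH hHD (pr_dec D hD)
    by_cases hq5 : 5 ≤ Fintype.card F
    · exact Or.inr (Or.inl ⟨hq5, D, hD, hmax⟩)
    · have h2' : 1 < Fintype.card F := Fintype.one_lt_card
      have hcases : Fintype.card F = 2 ∨ Fintype.card F = 3 ∨ Fintype.card F = 4 := by omega
      rcases hcases with h | h | h
      · exact absurd hirr (dec_q2 D hD h hHD)
      · obtain ⟨Q, hQ, hle⟩ := dec_q3 D hD h
        refine Or.inr (Or.inr (Or.inr (Or.inr (Or.inr (Or.inl ⟨?_, Q, hQ,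
          max_principle hH (hHD.trans hle) (pr_quad hr3 Q hQ)⟩)))))
        rw [h]; decide
      · obtain ⟨σ, f, hf, hle⟩ := dec_q4 D hD h
        exact Or.inr (Or.inr (Or.inr (Or.inr (Or.inr (Or.inr (Or.inl ⟨σ, f, hf,
          max_principle hH (hHD.trans hle) (pr_unit hr3 σ f hf)⟩))))))
  push Not at hB
  by_cases hC : ∃ N : Subgroup (GL (Fin r) F), NormalIn N H ∧ Irr N ∧ ¬ AbsIrr N
  · -- Stage C
    obtain ⟨N, hN, h1, h2⟩ := hC
    have hK : IsFieldSubalgebra r (centAlg N) := by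
      obtain ⟨hc, hi⟩ := schur_comm_inv (by omega) h1
      have hKd : IsFieldSubalgebra (Module.finrank F (centAlg N)) (centAlg N) := ⟨hc, hi, rfl⟩
      have hdvd := field_finrank_dvd (by omega) _ hKd
      rcases (Nat.dvd_prime hr).mp hdvd with hd | hd
      · exact absurd (absIrr_of_finrank_one h1 hd) h2
      · exact ⟨hc, hi, hd⟩
    have hHK := normalizes_cent hN
    by_cases h34 : r = 3 ∧ Fintype.card F = 4
    · obtain ⟨hr3', hq⟩ := h34
      obtain ⟨F₀, P, hcard, hle⟩ := hF34 hr3' hq _ hK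
      have hle' : H ≤ subfieldSubgroup F₀ P := (le_inf hHK hHSL).trans hle
      have h0 : F₀ ≠ ⊤ := ne_top_of_card_pow Nat.prime_two hcard
      exact Or.inr (Or.inr (Or.inr (Or.inl ⟨F₀, 2, P, Nat.prime_two, hcard,
        max_principle hH hle' (pr_subfield (by omega) F₀ h0 P)⟩)))
    · exact Or.inr (Or.inr (Or.inl ⟨h34, centAlg N, hK,
        max_principle hH hHK (pr_field hr3 (by omega) _ hK)⟩))
  push Not at hC
  -- Stage D
  have hD : AllNormalAbsIrr H := fun N hN => by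
    by_cases h : Irr N
    · right; exact hC N hN h
    · left; exact hB N hN h
  obtain ⟨N, hNmin⟩ := exists_minNonscalar H (irr_not_scalar (by omega) hirr)
  have hNn : NormalIn N H := hNmin.1
  have hA : AbsIrr N := (hD N hNn).resolve_left hNmin.2.1
  have hcomm := commutator_normalIn hNn
  rcases hNmin.2.2 _ hcomm (Subgroup.commutator_le_self N) with hab | hperf
  · -- D1 : extraspecial
    obtain ⟨x, y, ω, hd⟩ := heis_exists hr hr2 hHSL hD hNmin hab
    rcases heis_field_cases hr hr2 ω hd.hω1 hd.hωr with ⟨p, e, hrp, hmin, he⟩ | ⟨F₀, h0, hω⟩ | ⟨q₀, hq, hω⟩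
    · -- C6
      obtain ⟨hpg, hexp, hcard, hcen⟩ := heis_group hr hr2 hd
      have hR : IsLinearSymplecticTypeData r N := by
        refine ⟨⟨hr, hpg, heis_char_cyclic hr hD hNn hcen, ?_⟩, hA, p, e, hrp, ?_, ?_⟩
        · rw [hexp]
          have : Nat.gcd 2 r = 1 := by
            rw [Nat.coprime_comm.mp ((Nat.coprime_primes hr Nat.prime_two).mpr hr2)]
          rw [this, mul_one]
        · rw [hcen]; exact hmin
        · exact Or.inl ⟨hodd, he, hcen, 1, le_refl 1, hcard⟩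
      exact Or.inr (Or.inr (Or.inr (Or.inr (Or.inl ⟨N, hR,
        max_principle hH (normalIn_le_normalizer hNn) (pr_sympl_type hr hr2 N hR)⟩))))
    · -- C5
      obtain ⟨B, hle⟩ := subfield_of_realisable hNn hA F₀ (heis_realisable hr hd F₀ hω)
      exact concl_subfield hr3 hH F₀ h0 B hle
    · -- C8 unitary
      obtain ⟨σ, f, hf, hfix⟩ := heis_unitary hr hd q₀ hq hω
      have hle := unit_of_fixes hNn hA σ f hf hfix
      exact Or.inr (Or.inr (Or.inr (Or.inr (Or.inr (Or.inr (Or.inl ⟨σ, f, hf,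
        max_principle hH hle (pr_unit hr3 σ f hf)⟩))))))
  · -- D2 : almost simple
    by_cases hsub : ∃ F₀ : Subfield F, F₀ ≠ ⊤ ∧ RealisableOver F₀ (matrixSet N)
    · obtain ⟨F₀, h0, hR⟩ := hsub
      obtain ⟨B, hle⟩ := subfield_of_realisable hNn hA F₀ hR
      exact concl_subfield hr3 hH F₀ h0 B hle
    by_cases hq : ∃ Q : (Fin r → F) → F, IsNondegenerateQuadraticForm Q ∧ FixesQuadForm (matrixSet N) Q
    · obtain ⟨Q, hQ, hfix⟩ := hq
      have hoddF := odd_card_of_quad hodd Q hQ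
      have hle := quad_of_fixes hNn hA hoddF Q hQ hfix
      exact Or.inr (Or.inr (Or.inr (Or.inr (Or.inr (Or.inl ⟨hoddF, Q, hQ,
        max_principle hH hle (pr_quad hr3 Q hQ)⟩)))))
    by_cases hu : ∃ (σ : F ≃+* F) (f : (Fin r → F) → (Fin r → F) → F), IsUnitaryForm σ f ∧
        FixesForm (matrixSet N) f
    · obtain ⟨σ, f, hf, hfix⟩ := hu
      have hle := unit_of_fixes hNn hA σ f hf hfix
      exact Or.inr (Or.inr (Or.inr (Or.inr (Or.inr (Or.inr (Or.inl ⟨σ, f, hf,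
        max_principle hH hle (pr_unit hr3 σ f hf)⟩))))))
    · -- residual
      obtain ⟨hsimp, hnab⟩ := perfect_case_simple hr hD hNmin hperf
      refine Or.inr (Or.inr (Or.inr (Or.inr (Or.inr (Or.inr (Or.inr ⟨N, ⟨hNn.1, hNn.2, hperf, hsimp, hnab,
        centralizer_scalar_of hNn hperf hA, hA, ?_⟩, hq, ?_, hu⟩))))))
      · intro F₀ h0 hR
        exact hsub ⟨F₀, h0, hR⟩
      · rintro ⟨f, hf, -⟩
        exact no_symplectic_odd hodd f hf

/-- the field data of a class-6 group for an odd prime `r` -/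
theorem sympl_data_field {r : ℕ} (hr : r.Prime) (hr2 : r ≠ 2) {R : Subgroup (GL (Fin r) F)}
    (hR : IsLinearSymplecticTypeData r R) :
    ∃ p e : ℕ, p.Prime ∧ CharP F p ∧ Fintype.card F = p ^ e ∧ Odd e ∧ r ≠ p ∧ r ∣ p ^ e - 1 ∧
      ∀ d : ℕ, 0 < d → d < e → ¬ r ∣ p ^ d - 1 := by
  obtain ⟨p, e, hrp, hmin, h⟩ := hR.field
  rcases h with ⟨-, he, hc, -⟩ | ⟨h2, -⟩ | ⟨h2, -⟩
  · rw [hc] at hmin
    obtain ⟨hp, hch, hcard, hdvd, hmin'⟩ := hmin
    exact ⟨p, e, hp, hch, hcard, he, hrp, hdvd, hmin'⟩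
  · exact absurd h2 hr2
  · exact absurd h2 hr2

end Cfsg.Agent.Lib.Helper27.ASC
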