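import Cfsg.Agent.Lib.Helper18.SpE.Defs

/-!
# Project SpE (S2333), piece A1 : the fibre count (`fiber_card`).
-/

set_option autoImplicit false
set_option linter.unusedVariables false
set_option linter.unusedSectionVars false
set_option linter.style.haveILetI false

namespace Cfsg.Agent.Lib.Helper27.SpEA1

open Matrix Cfsg.Agent.Lib.Helper18.SpE

section gen

variable {F : Type*} [Field F] {W : Type*} [AddCommGroup W] [Module F W]

/-- the shear `(x, h) ↦ (x + c h, h)` -/
def shear (c : W →ₗ[F] F) : (F × W) →ₗ[F] (F × W) :=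
  LinearMap.prod (LinearMap.fst F F W + c ∘ₗ LinearMap.snd F F W) (LinearMap.snd F F W)

theorem shear_apply (c : W →ₗ[F] F) (x : F) (h : W) : shear c (x, h) = (x + c h, h) := rfl

theorem shear_comp_neg (c : W →ₗ[F] F) : shear c ∘ₗ shear (-c) = LinearMap.id := by
  apply LinearMap.ext
  rintro ⟨x, h⟩
  rw [LinearMap.comp_apply, shear_apply, shear_apply, LinearMap.id_apply, LinearMap.neg_apply]
  congr 1
  ring

/-- the shear as a linear equivalence -/
def shearEquiv (c : W →ₗ[F] F) : (F × W) ≃ₗ[F] (F × W) :=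
  LinearEquiv.ofLinearMap (shear c) (shear (-c)) (shear_comp_neg c)
    (by have := shear_comp_neg (-c); rwa [neg_neg] at this)

theorem shearEquiv_apply (c : W →ₗ[F] F) (x : F) (h : W) :
    shearEquiv c (x, h) = (x + c h, h) := rfl

theorem coe_shearEquiv_apply (c : W →ₗ[F] F) (x : F) (h : W) :
    ((shearEquiv c : (F × W) ≃ₗ[F] (F × W)) : (F × W) →ₗ[F] (F × W)) (x, h) = (x + c h, h) := rfl

/-- a vector space is not the union of two proper kernels -/
theorem eq_zero_or_eq_zero_of_forall (f g : W →ₗ[F] F) (h : ∀ w : W, f w = 0 ∨ g w = 0) :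
    f = 0 ∨ g = 0 := by
  by_contra hcon
  push Not at hcon
  obtain ⟨hf, hg⟩ := hcon
  have hf' : ∃ u, f u ≠ 0 := by
    by_contra h0
    push Not at h0
    exact hf (LinearMap.ext h0)
  have hg' : ∃ v, g v ≠ 0 := by
    by_contra h0
    push Not at h0
    exact hg (LinearMap.ext h0)
  obtain ⟨u, hu⟩ := hf'
  obtain ⟨v, hv⟩ := hg'
  have hgu : g u = 0 := (h u).resolve_left hu
  have hfv : f v = 0 := (h v).resolve_right hv
  rcases h (u + v) with h1 | h1
  · rw [map_add, hfv, add_zero] at h1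
    exact hu h1
  · rw [map_add, hgu, zero_add] at h1
    exact hv h1

theorem polar_comp_lin {V V' : Type*} [AddCommGroup V] [Module F V] [AddCommGroup V'] [Module F V']
    (Q : QuadraticForm F V') (f : V →ₗ[F] V') (x y : V) :
    QuadraticMap.polar (Q.comp f) x y = QuadraticMap.polar Q (f x) (f y) := by
  simp only [QuadraticMap.polar, QuadraticMap.comp_apply, map_add]

/-- the expansion `Q (t, h) = t² Q(1,0) + t · polar Q (1,0) (0,h) + Q (0,h)` -/
theorem expand (Q : QuadraticForm F (F × W)) (t : F) (h : W) :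
    Q (t, h) = t * t * Q ((1 : F), (0 : W)) + Q ((0 : F), h) +
      t * QuadraticMap.polar Q ((1 : F), (0 : W)) ((0 : F), h) := by
  have h1 : ((t, h) : F × W) = t • ((1 : F), (0 : W)) + ((0 : F), h) := by
    ext <;> simp
  rw [h1, QuadraticMap.map_add (⇑Q), QuadraticMap.map_smul, QuadraticMap.polar_smul_left,
    smul_eq_mul, smul_eq_mul]

end gen

section A

variable {F : Type*} [Field F] [Fintype F] [CharP F 2]
  {W : Type*} [AddCommGroup W] [Module F W] [Finite W]

theorem comp_shear_e (Q : QuadraticForm F (F × W)) (c : W →ₗ[F] F) :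
    (Q.comp ((shearEquiv c : (F × W) ≃ₗ[F] (F × W)) : (F × W) →ₗ[F] (F × W)))
      ((1 : F), (0 : W)) = Q ((1 : F), (0 : W)) := by
  rw [QuadraticMap.comp_apply, coe_shearEquiv_apply, map_zero, add_zero]

theorem polar_comp_shear (Q : QuadraticForm F (F × W)) (c : W →ₗ[F] F) (h : W) :
    QuadraticMap.polar
      (Q.comp ((shearEquiv c : (F × W) ≃ₗ[F] (F × W)) : (F × W) →ₗ[F] (F × W)))
      ((1 : F), (0 : W)) ((0 : F), h) =
    QuadraticMap.polar Q ((1 : F), (0 : W)) ((0 : F), h) := by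
  rw [polar_comp_lin, coe_shearEquiv_apply, coe_shearEquiv_apply, map_zero, add_zero, zero_add]
  have h1 : ((c h, h) : F × W) = (c h) • ((1 : F), (0 : W)) + ((0 : F), h) := by
    ext <;> simp
  rw [h1, QuadraticMap.polar_add_right, QuadraticMap.polar_smul_right, QuadraticMap.polar_self]
  have h2 : (2 : ℕ) • Q ((1 : F), (0 : W)) = 0 := by
    rw [nsmul_eq_mul]
    have : ((2 : ℕ) : F) = 0 := by
      have := CharP.cast_eq_zero F 2
      exact_mod_cast this
    rw [this, zero_mul]
  rw [h2, smul_zero, zero_add]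

/-- two shears giving the same form differ by `0` or by `a⁻¹ β` -/
theorem shear_fibre (Q : QuadraticForm F (F × W)) (ha : Q ((1 : F), (0 : W)) ≠ 0)
    (β : W →ₗ[F] F)
    (hβ : ∀ h : W, QuadraticMap.polar Q ((1 : F), (0 : W)) ((0 : F), h) = β h)
    (c d : W →ₗ[F] F)
    (hcd : Q.comp ((shearEquiv c : (F × W) ≃ₗ[F] (F × W)) : (F × W) →ₗ[F] (F × W)) =
      Q.comp ((shearEquiv d : (F × W) ≃ₗ[F] (F × W)) : (F × W) →ₗ[F] (F × W))) :
    c = d ∨ c = d + (Q ((1 : F), (0 : W)))⁻¹ • β := by
  set a := Q ((1 : F), (0 : W)) with ha_def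
  have h2 : (2 : F) = 0 := CharTwo.two_eq_zero
  have key : ∀ h : W, (c - d) h = 0 ∨ (a • (c - d) + β) h = 0 := by
    intro h
    have e1 := congrArg (fun q : QuadraticForm F (F × W) => q ((0 : F), h)) hcd
    simp only [QuadraticMap.comp_apply, coe_shearEquiv_apply, zero_add] at e1
    rw [expand Q (c h) h, expand Q (d h) h, hβ h, ← ha_def] at e1
    have e2 : (c h - d h) * (a * (c h - d h) + β h) = 0 := by
      linear_combination e1 + (a * (d h) ^ 2 - a * (c h) * (d h)) * h2
    rcases mul_eq_zero.mp e2 with e3 | e3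
    · left
      rw [LinearMap.sub_apply]
      exact e3
    · right
      rw [LinearMap.add_apply, LinearMap.smul_apply, LinearMap.sub_apply, smul_eq_mul]
      exact e3
  rcases eq_zero_or_eq_zero_of_forall _ _ key with h0 | h0
  · left
    exact sub_eq_zero.mp h0
  · right
    have h3 : c - d = -(a⁻¹ • β) := by
      have h4 : a • (c - d) = -β := eq_neg_of_add_eq_zero_left h0
      have h5 : a⁻¹ • (a • (c - d)) = a⁻¹ • (-β) := by rw [h4]
      rw [smul_smul, inv_mul_cancel₀ ha, one_smul, smul_neg] at h5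
      exact h5
    have h6 : -(a⁻¹ • β) = a⁻¹ • β := by
      apply LinearMap.ext
      intro w
      rw [LinearMap.neg_apply]
      exact CharTwo.neg_eq _
    rw [h6] at h3
    rw [← h3]
    abel

/-- A1 : the fibre of `Q ↦ (Q (1,0), polar Q (1,0) (0, ·))` through `Q` has at least `|W| / 2`
members -/
theorem fiber_card (𝒬 : Set (QuadraticForm F (F × W))) (hst : Stable 𝒬)
    (Q : QuadraticForm F (F × W)) (hQ : Q ∈ 𝒬) (ha : Q ((1 : F), (0 : W)) ≠ 0)
    (hβ : ∃ h : W, QuadraticMap.polar Q ((1 : F), (0 : W)) ((0 : F), h) ≠ 0) :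
    Nat.card W ≤ 2 * {Q' : QuadraticForm F (F × W) | Q' ∈ 𝒬 ∧
      Q' ((1 : F), (0 : W)) = Q ((1 : F), (0 : W)) ∧
      ∀ h : W, QuadraticMap.polar Q' ((1 : F), (0 : W)) ((0 : F), h) =
        QuadraticMap.polar Q ((1 : F), (0 : W)) ((0 : F), h)}.ncard := by
  classical
  set S : Set (QuadraticForm F (F × W)) := {Q' : QuadraticForm F (F × W) | Q' ∈ 𝒬 ∧
      Q' ((1 : F), (0 : W)) = Q ((1 : F), (0 : W)) ∧
      ∀ h : W, QuadraticMap.polar Q' ((1 : F), (0 : W)) ((0 : F), h) =
        QuadraticMap.polar Q ((1 : F), (0 : W)) ((0 : F), h)} with hS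
  -- the functional β
  let β : W →ₗ[F] F :=
    (QuadraticMap.polarBilin Q ((1 : F), (0 : W))) ∘ₗ (LinearMap.inr F F W)
  have hβ' : ∀ h : W, QuadraticMap.polar Q ((1 : F), (0 : W)) ((0 : F), h) = β h := by
    intro h
    rfl
  -- finiteness
  haveI : Finite (W →ₗ[F] F) :=
    Finite.of_injective (fun f : W →ₗ[F] F => (f : W → F)) DFunLike.coe_injective
  haveI : Fintype (W →ₗ[F] F) := Fintype.ofFinite _
  haveI : Finite (QuadraticForm F (F × W)) :=
    Finite.of_injective (fun q : QuadraticForm F (F × W) => (q : F × W → F))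
      DFunLike.coe_injective
  -- the map
  let Φ : (W →ₗ[F] F) → QuadraticForm F (F × W) := fun c =>
    Q.comp ((shearEquiv c : (F × W) ≃ₗ[F] (F × W)) : (F × W) →ₗ[F] (F × W))
  have hΦS : ∀ c, Φ c ∈ S := by
    intro c
    refine ⟨hst Q hQ (shearEquiv c), comp_shear_e Q c, fun h => polar_comp_shear Q c h⟩
  -- fibres of size ≤ 2
  have hfib : ∀ b ∈ (Finset.univ : Finset (W →ₗ[F] F)).image Φ,
      ((Finset.univ : Finset (W →ₗ[F] F)).filter (fun c => Φ c = b)).card ≤ 2 := by
    intro b hb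
    obtain ⟨d, -, hd⟩ := Finset.mem_image.mp hb
    have hsub : ((Finset.univ : Finset (W →ₗ[F] F)).filter (fun c => Φ c = b)) ⊆
        {d, d + (Q ((1 : F), (0 : W)))⁻¹ • β} := by
      intro c hc
      rw [Finset.mem_filter] at hc
      have hcd : Φ c = Φ d := by rw [hc.2, hd]
      rcases shear_fibre Q ha β hβ' c d hcd with h1 | h1
      · rw [h1]; exact Finset.mem_insert_self _ _
      · rw [h1]; exact Finset.mem_insert_of_mem (Finset.mem_singleton_self _)
    exact (Finset.card_le_card hsub).trans Finset.card_le_two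
  have h1 := Finset.card_le_mul_card_image (f := Φ) (Finset.univ : Finset (W →ₗ[F] F)) 2 hfib
  -- the image sits inside `S`
  have h2 : ((Finset.univ : Finset (W →ₗ[F] F)).image Φ).card ≤ S.ncard := by
    rw [← Set.ncard_coe_finset]
    apply Set.ncard_le_ncard _ (Set.toFinite S)
    intro q hq
    rw [Finset.mem_coe, Finset.mem_image] at hq
    obtain ⟨c, -, rfl⟩ := hq
    exact hΦS c
  -- `|W →ₗ F| = |W|`
  have h3 : (Finset.univ : Finset (W →ₗ[F] F)).card = Nat.card W := by
    rw [Finset.card_univ, ← Nat.card_eq_fintype_card]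
    haveI : Module.Finite F W := Module.Finite.of_finite
    exact (Nat.card_congr (Module.Free.chooseBasis F W).toDualEquiv.toEquiv).symm
  rw [h3] at h1
  calc Nat.card W ≤ 2 * ((Finset.univ : Finset (W →ₗ[F] F)).image Φ).card := h1
    _ ≤ 2 * S.ncard := Nat.mul_le_mul_left 2 h2

end A

end Cfsg.Agent.Lib.Helper27.SpEA1
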