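import Cfsg.Agent.Lib.Helper18.SpE.Defs
import Cfsg.Agent.Lib.Helper21.SpEFn
import Cfsg.Agent.Lib.Helper27.SpEA1

/-!
# Project SpE (S2333), piece A2 : every pair `(a ≠ 0, β ≠ 0)` occurs (`exists_with_row`).
-/

set_option autoImplicit false
set_option linter.unusedVariables false
set_option linter.unusedSectionVars false
set_option linter.style.haveILetI false

namespace Cfsg.Agent.Lib.Helper27.SpEA2

open Matrix Cfsg.Agent.Lib.Helper18.SpE

section A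

variable {F : Type*} [Field F] [Fintype F] [CharP F 2]
  {W : Type*} [AddCommGroup W] [Module F W] [Finite W]

/-- A2 : every pair (a ≠ 0, β ≠ 0) occurs -/
theorem exists_with_row (𝒬 : Set (QuadraticForm F (F × W))) (hst : Stable 𝒬)
    (Q₁ : QuadraticForm F (F × W)) (hQ₁ : Q₁ ∈ 𝒬) (ha : Q₁ ((1 : F), (0 : W)) ≠ 0)
    (hβ : ∃ h : W, QuadraticMap.polar Q₁ ((1 : F), (0 : W)) ((0 : F), h) ≠ 0)
    (a : F) (ha' : a ≠ 0) (β : W →ₗ[F] F) (hβ' : β ≠ 0) :
    ∃ Q ∈ 𝒬, Q ((1 : F), (0 : W)) = a ∧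
      ∀ h : W, QuadraticMap.polar Q ((1 : F), (0 : W)) ((0 : F), h) = β h := by
  haveI : Module.Finite F W := Module.Finite.of_finite
  set a₁ := Q₁ ((1 : F), (0 : W)) with ha₁
  -- the functional β₁
  let β₁ : W →ₗ[F] F :=
    (QuadraticMap.polarBilin Q₁ ((1 : F), (0 : W))) ∘ₗ (LinearMap.inr F F W)
  have hβ₁ : ∀ h : W, QuadraticMap.polar Q₁ ((1 : F), (0 : W)) ((0 : F), h) = β₁ h := by
    intro h
    rfl
  have hβ₁0 : β₁ ≠ 0 := by
    obtain ⟨h, hh⟩ := hβ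
    intro h0
    apply hh
    rw [hβ₁ h, h0, LinearMap.zero_apply]
  -- a square root of `a / a₁`
  obtain ⟨s, hs⟩ := isSquare_of_charTwo' (a * a₁⁻¹)
  have hs0 : s ≠ 0 := by
    intro h0
    rw [h0, mul_zero] at hs
    exact (mul_ne_zero ha' (inv_ne_zero ha)) hs
  have hsβ : s⁻¹ • β ≠ 0 := by
    intro h0
    apply hβ'
    have := congrArg (fun f : W →ₗ[F] F => s • f) h0
    simpa [smul_smul, mul_inv_cancel₀ hs0] using this
  obtain ⟨A, hA⟩ := Cfsg.Agent.Lib.Helper21.SpEFn.exists_equiv_comp_eq β₁ (s⁻¹ • β) hβ₁0 hsβ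
  have hA' : ∀ h : W, β₁ (A h) = s⁻¹ * β h := by
    intro h
    have := congrArg (fun f : W →ₗ[F] F => f h) hA
    simpa using this
  let g : (F × W) ≃ₗ[F] (F × W) := LinearEquiv.prodCongr (LinearEquiv.smulOfNeZero F F s hs0) A
  have hg : ∀ (x : F) (h : W), (g : (F × W) →ₗ[F] (F × W)) (x, h) = (s * x, A h) := by
    intro x h
    rfl
  refine ⟨Q₁.comp (g : (F × W) →ₗ[F] (F × W)), hst Q₁ hQ₁ g, ?_, ?_⟩
  · rw [QuadraticMap.comp_apply, hg, map_zero, mul_one]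
    have h1 : ((s, (0 : W)) : F × W) = s • ((1 : F), (0 : W)) := by
      ext <;> simp
    rw [h1, QuadraticMap.map_smul, smul_eq_mul, ← ha₁, ← hs, mul_assoc, inv_mul_cancel₀ ha,
      mul_one]
  · intro h
    rw [Cfsg.Agent.Lib.Helper27.SpEA1.polar_comp_lin, hg, hg, map_zero, mul_one, mul_zero]
    have h1 : ((s, (0 : W)) : F × W) = s • ((1 : F), (0 : W)) := by
      ext <;> simp
    rw [h1, QuadraticMap.polar_smul_left, hβ₁, hA', smul_eq_mul, ← mul_assoc,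
      mul_inv_cancel₀ hs0, one_mul]

end A

end Cfsg.Agent.Lib.Helper27.SpEA2
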