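import Cfsg.Agent.Lib.Helper18.SpE.Defs
import Cfsg.Agent.Lib.Helper27.SpEA1
import Cfsg.Agent.Lib.Helper27.SpEA2

/-!
# Project SpE (S2333), piece A3 : part A of the orbit bound (`partA`).
-/

set_option autoImplicit false
set_option linter.unusedVariables false
set_option linter.unusedSectionVars false
set_option linter.style.haveILetI false

namespace Cfsg.Agent.Lib.Helper27.SpEA3

open Matrix Cfsg.Agent.Lib.Helper18.SpE

section A

variable {F : Type*} [Field F] [Fintype F] [CharP F 2]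
  {W : Type*} [AddCommGroup W] [Module F W] [Finite W]

/-- the functional `h ↦ polar Q (1,0) (0,h)` -/
def rowOf (Q : QuadraticForm F (F × W)) : W →ₗ[F] F :=
  (QuadraticMap.polarBilin Q ((1 : F), (0 : W))) ∘ₗ (LinearMap.inr F F W)

theorem rowOf_apply (Q : QuadraticForm F (F × W)) (h : W) :
    rowOf Q h = QuadraticMap.polar Q ((1 : F), (0 : W)) ((0 : F), h) := rfl

/-- A3 : part A -/
theorem partA (𝒬 : Set (QuadraticForm F (F × W))) (hst : Stable 𝒬)
    (Q₁ : QuadraticForm F (F × W)) (hQ₁ : Q₁ ∈ 𝒬) (ha : Q₁ ((1 : F), (0 : W)) ≠ 0)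
    (hβ : ∃ h : W, QuadraticMap.polar Q₁ ((1 : F), (0 : W)) ((0 : F), h) ≠ 0) :
    (Fintype.card F - 1) * ((Nat.card W - 1) * Nat.card W) ≤
      2 * {Q : QuadraticForm F (F × W) | Q ∈ 𝒬 ∧ Q ((1 : F), (0 : W)) ≠ 0}.ncard := by
  classical
  haveI : Finite (W →ₗ[F] F) :=
    Finite.of_injective (fun f : W →ₗ[F] F => (f : W → F)) DFunLike.coe_injective
  haveI : Fintype (W →ₗ[F] F) := Fintype.ofFinite _
  haveI : Finite (QuadraticForm F (F × W)) :=
    Finite.of_injective (fun q : QuadraticForm F (F × W) => (q : F × W → F))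
      DFunLike.coe_injective
  haveI : Fintype (QuadraticForm F (F × W)) := Fintype.ofFinite _
  set T : Set (QuadraticForm F (F × W)) :=
    {Q : QuadraticForm F (F × W) | Q ∈ 𝒬 ∧ Q ((1 : F), (0 : W)) ≠ 0} with hT
  -- the index set
  let I : Finset (F × (W →ₗ[F] F)) :=
    (({0} : Finset F)ᶜ) ×ˢ (({0} : Finset (W →ₗ[F] F))ᶜ)
  have hI : ∀ p : F × (W →ₗ[F] F), p ∈ I ↔ p.1 ≠ 0 ∧ p.2 ≠ 0 := by
    intro p
    simp only [I, Finset.mem_product, Finset.mem_compl, Finset.mem_singleton]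
  have hcardD : Fintype.card (W →ₗ[F] F) = Nat.card W := by
    rw [← Nat.card_eq_fintype_card]
    haveI : Module.Finite F W := Module.Finite.of_finite
    exact (Nat.card_congr (Module.Free.chooseBasis F W).toDualEquiv.toEquiv).symm
  have hIcard : I.card = (Fintype.card F - 1) * (Nat.card W - 1) := by
    simp only [I]
    rw [Finset.card_product, Finset.card_compl, Finset.card_compl, Finset.card_singleton,
      Finset.card_singleton, hcardD]
  -- the projection
  let π : QuadraticForm F (F × W) → F × (W →ₗ[F] F) := fun Q => (Q ((1 : F), (0 : W)), rowOf Q)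
  let s' : Finset (QuadraticForm F (F × W)) :=
    (Finset.univ : Finset (QuadraticForm F (F × W))).filter (fun Q => Q ∈ T ∧ π Q ∈ I)
  have hmaps : (s' : Set (QuadraticForm F (F × W))).MapsTo π I := by
    intro Q hQ
    have := (Finset.mem_filter.mp (Finset.mem_coe.mp hQ)).2.2
    exact Finset.mem_coe.mpr this
  have h1 := Finset.card_eq_sum_card_fiberwise hmaps
  -- every fibre is large
  have hfib : ∀ b ∈ I, Nat.card W ≤ 2 * (s'.filter (fun Q => π Q = b)).card := by
    rintro ⟨a, β⟩ hb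
    obtain ⟨ha0, hβ0⟩ := (hI _).mp hb
    simp only at ha0 hβ0
    obtain ⟨Q₀, hQ₀, hQ₀a, hQ₀β⟩ :=
      Cfsg.Agent.Lib.Helper27.SpEA2.exists_with_row 𝒬 hst Q₁ hQ₁ ha hβ a ha0 β hβ0
    have hβ₀ : ∃ h : W, QuadraticMap.polar Q₀ ((1 : F), (0 : W)) ((0 : F), h) ≠ 0 := by
      by_contra hcon
      push Not at hcon
      apply hβ0
      apply LinearMap.ext
      intro h
      rw [← hQ₀β h, hcon h, LinearMap.zero_apply]
    have h2 := Cfsg.Agent.Lib.Helper27.SpEA1.fiber_card 𝒬 hst Q₀ hQ₀ (by rw [hQ₀a]; exact ha0) hβ₀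
    refine h2.trans (Nat.mul_le_mul_left 2 ?_)
    rw [← Set.ncard_coe_finset]
    apply Set.ncard_le_ncard _ (Set.toFinite _)
    rintro Q' ⟨hQ'𝒬, hQ'a, hQ'β⟩
    have hπ : π Q' = (a, β) := by
      apply Prod.ext
      · show Q' ((1 : F), (0 : W)) = a
        rw [hQ'a, hQ₀a]
      · show rowOf Q' = β
        apply LinearMap.ext
        intro h
        rw [rowOf_apply, hQ'β h, hQ₀β h]
    rw [Finset.mem_coe, Finset.mem_filter, Finset.mem_filter]
    refine ⟨⟨Finset.mem_univ _, ⟨hQ'𝒬, ?_⟩, ?_⟩, hπ⟩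
    · rw [hQ'a, hQ₀a]; exact ha0
    · rw [hπ]; exact hb
  -- `s'` sits inside `T`
  have h3 : s'.card ≤ T.ncard := by
    rw [← Set.ncard_coe_finset]
    apply Set.ncard_le_ncard _ (Set.toFinite T)
    intro Q hQ
    exact (Finset.mem_filter.mp (Finset.mem_coe.mp hQ)).2.1
  calc (Fintype.card F - 1) * ((Nat.card W - 1) * Nat.card W)
      = I.card * Nat.card W := by rw [hIcard, mul_assoc]
    _ = ∑ b ∈ I, Nat.card W := by rw [Finset.sum_const, smul_eq_mul]
    _ ≤ ∑ b ∈ I, 2 * (s'.filter (fun Q => π Q = b)).card := Finset.sum_le_sum hfib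
    _ = 2 * s'.card := by rw [← Finset.mul_sum, ← h1]
    _ ≤ 2 * T.ncard := Nat.mul_le_mul_left 2 h3

end A

end Cfsg.Agent.Lib.Helper27.SpEA3
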