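import Mathlib
import Cfsg.Prelude.Def_CaseTheorems
import Cfsg.Agent.Lib.helper7.BR.Defs
import Cfsg.Agent.Lib.helper7.BR.Main
import Cfsg.Agent.Lib.Helper16.BRSET2
import Cfsg.Agent.Lib.Helper1.BRSET3
import Cfsg.Agent.Lib.Helper1.Cores
import Cfsg.Agent.Lib.Helper18.BRF.Defs

/-!
# Project BRF (S4700), pieces BOUND and ISO : cores (the lower statements are hypotheses)

`brfbound_core` : `card_lt` from the statements of CEN, TOPNEG, T1F, MIDF.
`brfiso_core` : `iso_of_core_bot` from the statements of NN and BOUND.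
-/

set_option autoImplicit false
set_option linter.unusedVariables false
set_option linter.unusedSectionVars false
set_option linter.style.haveILetI false

namespace Cfsg.Agent.Lib.Helper18.BRF

open Classical
open Cfsg.Agent.Lib.Helper25
open Cfsg.Agent.Lib.helper7.BR

universe u

section main

variable {G : Type u} [Group G] [Fintype G] {p : ℕ} [Fact p.Prime]

/-- BOUND, core: `|G| < p³` from the statements of CEN, TOPNEG, T1F, MIDF -/
theorem brfbound_core
    (hCEN : ∀ (hperf : commutator G = ⊤) (hcore : Cfsg.pPrimeCore p G = ⊥) (P : Sylow p G)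
      (hP : Nat.card ↥(P : Subgroup G) = p) (hPn : ¬ (P : Subgroup G).Normal) (n : ℕ)
      (hidx : (nrm P).index = 1 + n * p) (hF : ¬ FF p n), cen P = (P : Subgroup G))
    (hTOPNEG : ∀ (hperf : commutator G = ⊤) (P : Sylow p G)
      (hP : Nat.card ↥(P : Subgroup G) = p)
      (n : ℕ) (hrel : (cen P).relIndex (nrm P) = p - 1)
      (hcidx : (cen P).index = (p - 1) * (1 + n * p)) (hn : 1 ≤ n) (hF : ¬ FF p n),
      ∃ χ : Cfsg.IrrCharacter G, (χ : G → ℂ) 1 = (p : ℂ) - 1 ∧
        ∀ x ∈ (P : Subgroup G), x ≠ 1 → ∀ y ∈ cen P, ¬ p ∣ orderOf y →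
          (χ : G → ℂ) (x * y) = -1)
    (hT1F : ∀ (hperf : commutator G = ⊤) (P : Sylow p G)
      (hP : Nat.card ↥(P : Subgroup G) = p)
      (hcen : cen P = (P : Subgroup G)) (hrel : (cen P).relIndex (nrm P) = p - 1)
      (χ : Cfsg.IrrCharacter G) (hdeg : (χ : G → ℂ) 1 = (p : ℂ) - 1), False)
    (hMIDF : ∀ (hperf : commutator G = ⊤) (P : Sylow p G)
      (hP : Nat.card ↥(P : Subgroup G) = p) (hcen : cen P = (P : Subgroup G)) (q n : ℕ)
      (hrel : (cen P).relIndex (nrm P) = q) (hq2 : 2 ≤ q) (hqlt : q + 1 < p) (hqdvd : q ∣ p - 1)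
      (hcN : Nat.card ↥(nrm P) = p * q) (hidx : (nrm P).index = 1 + n * p)
      (hcidx : (cen P).index = q * (1 + n * p)) (hcG : Nat.card G = p * q * (1 + n * p))
      (hn : 1 ≤ n) (hF : ¬ FF p n), n = 1 ∨ q * (n + 1) = p - 1)
    (hperf : commutator G = ⊤) (hcore : Cfsg.pPrimeCore p G = ⊥) (P : Sylow p G)
    (hP : Nat.card ↥(P : Subgroup G) = p) (hPn : ¬ (P : Subgroup G).Normal) (n : ℕ)
    (hidx : (nrm P).index = 1 + n * p) (hF : ¬ FF p n) : 3 ≤ p ∧ Nat.card G < p ^ 3 := by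
  have hpp := (Fact.out : p.Prime)
  have hp2 := hpp.two_le
  have hcen := hCEN hperf hcore P hP hPn n hidx hF
  obtain ⟨q, w, n', hqdvd, hq1, hw, hn1, hrel, hcC, hcN, hidx', hcidx, hcG⟩ :=
    Cfsg.Agent.Lib.helper7.BR.order_formula P hP hPn
  have hnn : n' = n := by
    rw [hidx] at hidx'
    have h1 : n * p = n' * p := by omega
    exact (Nat.eq_of_mul_eq_mul_right hpp.pos h1).symm
  subst hnn
  have hw1 : w = 1 := by
    rw [hcen, hP] at hcC
    have : p * 1 = p * w := by rw [mul_one]; exact hcC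
    exact (Nat.eq_of_mul_eq_mul_left hpp.pos this).symm
  subst hw1
  rw [mul_one] at hcN hcG
  have hq2 : 2 ≤ q := by
    have := Cfsg.Agent.Lib.helper7.BR.relIndex_ne_one hperf P hP
    rw [hrel] at this
    omega
  have hqle : q ≤ p - 1 := by
    rcases Nat.eq_zero_or_pos (p - 1) with h0 | h0
    · rw [h0] at hqdvd
      have : p = 1 := by omega
      omega
    · exact Nat.le_of_dvd h0 hqdvd
  refine ⟨by omega, ?_⟩
  -- `n = 1` or `q (n + 1) = p - 1`
  have hkey : n' = 1 ∨ q * (n' + 1) = p - 1 := by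
    by_cases hfull : q = p - 1
    · exfalso
      obtain ⟨χ, hdeg, -⟩ := hTOPNEG hperf P hP n' (by rw [hrel, hfull])
        (by rw [hcidx, hfull]) hn1 hF
      exact hT1F hperf P hP hcen (by rw [hrel, hfull]) χ hdeg
    · exact hMIDF hperf P hP hcen q n' hrel hq2 (by omega) hqdvd hcN hidx' hcidx hcG hn1 hF
  rw [hcG]
  rcases hkey with h | h
  · subst h
    have h1 : q * (1 + 1 * p) ≤ (p - 1) * (1 + 1 * p) := Nat.mul_le_mul_right _ hqle
    have h2 : (p - 1) * (1 + 1 * p) + 1 = p * p := by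
      obtain ⟨k, rfl⟩ : ∃ k, p = k + 1 := ⟨p - 1, by omega⟩
      simp only [Nat.add_sub_cancel]
      ring
    have h3 : p * q * (1 + 1 * p) = p * (q * (1 + 1 * p)) := by ring
    rw [h3, pow_succ, pow_two]
    have : p * (q * (1 + 1 * p)) < p * (p * p) := by
      apply Nat.mul_lt_mul_of_pos_left _ hpp.pos
      omega
    linarith
  · -- `q (1 + n p) = q + (p - 1 - q) p < p²`
    have h1 : q * (1 + n' * p) + q * p = q + (p - 1) * p := by
      have : q * (1 + n' * p) + q * p = q + (q * (n' + 1)) * p := by ring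
      rw [this, h]
    have h2 : (p - 1) * p + p = p * p := by
      obtain ⟨k, rfl⟩ : ∃ k, p = k + 1 := ⟨p - 1, by omega⟩
      simp only [Nat.add_sub_cancel]
      ring
    have h3 : q * 2 ≤ q * p := Nat.mul_le_mul_left q hp2
    have h4 : q * (1 + n' * p) < p * p := by omega
    have h5 : p * q * (1 + n' * p) = p * (q * (1 + n' * p)) := by ring
    rw [h5, pow_succ, pow_two]
    have : p * (q * (1 + n' * p)) < p * (p * p) := Nat.mul_lt_mul_of_pos_left h4 hpp.pos
    linarith

end main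

/-- ISO, core: the theorem for `O_{p'}(G) = 1` from the statements of NN and BOUND -/
theorem brfiso_core {G : Type u} [Group G] [Finite G]
    (hNN : ∀ (hperf : commutator G = ⊤) (p : ℕ) [Fact p.Prime] (P : Sylow p G)
      (hP : Nat.card ↥(P : Subgroup G) = p), ¬ (P : Subgroup G).Normal)
    (hBOUND : ∀ [Fintype G] (p : ℕ) [Fact p.Prime] (hperf : commutator G = ⊤)
      (hcore : Cfsg.pPrimeCore p G = ⊥) (P : Sylow p G)
      (hP : Nat.card ↥(P : Subgroup G) = p) (hPn : ¬ (P : Subgroup G).Normal) (n : ℕ)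
      (hidx : (nrm P).index = 1 + n * p) (hF : ¬ FF p n), 3 ≤ p ∧ Nat.card G < p ^ 3)
    (hperf : commutator G = ⊤) (p : ℕ)
    [Fact p.Prime] (hcore : Cfsg.pPrimeCore p G = ⊥) (P : Sylow p G)
    (hP : Nat.card ↥(P : Subgroup G) = p) (n : ℕ) (hn : Nat.card (Sylow p G) = 1 + n * p)
    (hF : ¬ FF p n) :
    (∃ (F : Type) (_ : Field F) (_ : Fintype F), Fintype.card F = p ∧ 3 < p ∧
      Nonempty (G ≃* Matrix.ProjectiveSpecialLinearGroup (Fin 2) F)) ∨
    (∃ (m : ℕ) (F : Type) (_ : Field F) (_ : Fintype F), Fintype.card F = 2 ^ m ∧ p = 2 ^ m + 1 ∧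
      3 < p ∧ Nonempty (G ≃* Matrix.SpecialLinearGroup (Fin 2) F)) := by
  haveI : Fintype G := Fintype.ofFinite G
  have hpp := (Fact.out : p.Prime)
  have hPn := hNN hperf p P hP
  have hidx : (nrm P).index = 1 + n * p := by
    rw [← hn, Sylow.card_eq_index_normalizer P]
    rfl
  obtain ⟨hp3, hbig⟩ := hBOUND p hperf hcore P hP hPn n hidx hF
  have hdvd : p ∣ Nat.card G := by
    have := Subgroup.card_subgroup_dvd_card (P : Subgroup G)
    rwa [hP] at this
  -- no normal subgroup of order 2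
  have h2 : ∀ N : Subgroup G, N.Normal → Nat.card N ≠ 2 := by
    intro N hN hcard
    have hcop : (Nat.card N).Coprime p := by
      rw [hcard, Nat.coprime_comm]
      apply (Nat.Prime.coprime_iff_not_dvd hpp).mpr
      intro hdv
      have := Nat.le_of_dvd (by norm_num) hdv
      omega
    have hle := Cfsg.Agent.Lib.Helper1.le_pPrimeCore hN hcop
    rw [hcore] at hle
    have hbot : N = ⊥ := le_bot_iff.mp hle
    rw [hbot, Subgroup.card_bot] at hcard
    omega
  rcases Cfsg.Agent.Lib.helper7.BR.br_main hperf p hdvd hbig P hPn h2 with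
    h | ⟨m, F, i1, i2, h1, h3, h4, h5, _⟩
  · exact Or.inl h
  · exact Or.inr ⟨m, F, i1, i2, h1, h3, h4, h5⟩

end Cfsg.Agent.Lib.Helper18.BRF
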