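import Mathlib
import Cfsg.Agent.Lib.Helper18.OCT.Defs

/-!
# OCG row Z4: `mem_Idem_iff` (verbatim from `Helper18/OCT/Skel.lean.txt`), with extras `ocgz4_*`.
-/

set_option autoImplicit false

namespace Cfsg.Agent.Lib.Helper18.OCT

open Cfsg.Lie Matrix
open scoped MatrixGroups

section Z

variable {F : Type*} [Field F]

/-- the coordinates of `zornMul e e`. -/
theorem ocgz4_sq (e : Oct F) :
    zornMul e e = ![e 0 * e 0 + dot3 (zA F e) (zB F e),
      (e 0 + e 7) * e 1, (e 0 + e 7) * e 2, (e 0 + e 7) * e 3,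
      (e 0 + e 7) * e 4, (e 0 + e 7) * e 5, (e 0 + e 7) * e 6,
      dot3 (zA F e) (zB F e) + e 7 * e 7] := by
  ext i
  fin_cases i <;> simp [zornMul, dot3, cross3] <;> ring

/-- Z4 [M]. `zornMul e e = (α² + a·b, (α+β) a; (α+β) b, a·b + β²)` (`b × b = 0`).  If `α + β ≠ 1` then `a = b = 0`, `α² = α`, `β² = β`,
so `(α,β) = (0,0)` or `(1,1)`: `e = 0` or `e = one8`.  If `α + β = 1`: `e² = e ↔ a·b = α - α² = αβ`, and `e ≠ 0`, `e ≠ one8`
(`α + β` is `0` resp. `2`... careful in characteristic 2: `one8` has `α + β = 1 + 1 = 0 ≠ 1` too). -/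
theorem mem_Idem_iff (e : Oct F) :
    e ∈ Idem F ↔ e 0 + e 7 = 1 ∧ dot3 (zA F e) (zB F e) = e 0 * e 7 := by
  constructor
  · rintro ⟨hsq, h0, h1⟩
    rw [ocgz4_sq] at hsq
    have c0 : e 0 * e 0 + dot3 (zA F e) (zB F e) = e 0 := by
      have := congrFun hsq 0; simpa using this
    have c1 : (e 0 + e 7) * e 1 = e 1 := by have := congrFun hsq 1; simpa using this
    have c2 : (e 0 + e 7) * e 2 = e 2 := by have := congrFun hsq 2; simpa using this
    have c3 : (e 0 + e 7) * e 3 = e 3 := by have := congrFun hsq 3; simpa using this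
    have c4 : (e 0 + e 7) * e 4 = e 4 := by have := congrFun hsq 4; simpa using this
    have c5 : (e 0 + e 7) * e 5 = e 5 := by have := congrFun hsq 5; simpa using this
    have c6 : (e 0 + e 7) * e 6 = e 6 := by have := congrFun hsq 6; simpa using this
    have c7 : dot3 (zA F e) (zB F e) + e 7 * e 7 = e 7 := by
      have := congrFun hsq 7; simpa using this
    have hσ : e 0 + e 7 = 1 := by
      by_contra hne
      have hne' : e 0 + e 7 - 1 ≠ 0 := sub_ne_zero.mpr hne
      have z : ∀ t : F, (e 0 + e 7) * t = t → t = 0 := by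
        intro t ht
        have : (e 0 + e 7 - 1) * t = 0 := by rw [sub_mul, ht, one_mul, sub_self]
        exact (mul_eq_zero.mp this).resolve_left hne'
      have z1 := z _ c1; have z2 := z _ c2; have z3 := z _ c3
      have z4 := z _ c4; have z5 := z _ c5; have z6 := z _ c6
      have hd : dot3 (zA F e) (zB F e) = 0 := by simp [dot3, z1, z2, z3]
      rw [hd, add_zero] at c0
      rw [hd, zero_add] at c7
      have ha : e 0 = 0 ∨ e 0 = 1 := by
        have : e 0 * (e 0 - 1) = 0 := by rw [mul_sub, c0, mul_one, sub_self]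
        rcases mul_eq_zero.mp this with h | h
        · exact Or.inl h
        · exact Or.inr (sub_eq_zero.mp h)
      have hb : e 7 = 0 ∨ e 7 = 1 := by
        have : e 7 * (e 7 - 1) = 0 := by rw [mul_sub, c7, mul_one, sub_self]
        rcases mul_eq_zero.mp this with h | h
        · exact Or.inl h
        · exact Or.inr (sub_eq_zero.mp h)
      rcases ha with ha | ha <;> rcases hb with hb | hb
      · apply h0
        ext i
        fin_cases i <;> simp [ha, hb, z1, z2, z3, z4, z5, z6]
      · apply hne; rw [ha, hb, zero_add]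
      · apply hne; rw [ha, hb, add_zero]
      · apply h1
        ext i
        fin_cases i <;> simp [one8, ha, hb, z1, z2, z3, z4, z5, z6]
    refine ⟨hσ, ?_⟩
    have h7 : e 7 = 1 - e 0 := by rw [← hσ]; ring
    rw [h7]
    linear_combination c0
  · rintro ⟨hσ, hd⟩
    refine ⟨?_, ?_, ?_⟩
    · rw [ocgz4_sq, hσ, hd]
      have h7 : e 7 = 1 - e 0 := by rw [← hσ]; ring
      ext i
      fin_cases i <;> simp [h7] <;> ring
    · intro h
      rw [h] at hσ
      simp at hσ
    · intro h
      rw [h] at hd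
      simp [one8, dot3] at hd

end Z

end Cfsg.Agent.Lib.Helper18.OCT
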