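import Mathlib
import Cfsg.Agent.Lib.Helper18.OCT.Defs

/-!
# OCG row Z3: `act_one8` (verbatim from `Helper18/OCT/Skel.lean.txt`), with extras `ocgz3_*`
(self-contained: the three one-line facts it needs are proved here under own names).
-/

set_option autoImplicit false

namespace Cfsg.Agent.Lib.Helper18.OCT

open Cfsg.Lie Matrix
open scoped MatrixGroups

section Z

variable {F : Type*} [Field F]

/-- `one8` is a right identity. -/
theorem ocgz3_mul_one8 (x : Oct F) : zornMul x one8 = x := by
  ext i
  fin_cases i <;> simp [zornMul, one8, dot3, cross3]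

/-- `act` is an action. -/
theorem ocgz3_act_mul (g h : GL (Fin 8) F) (x : Oct F) : act (g * h) x = act g (act h x) := by
  simp [act, Matrix.mulVec_mulVec]

theorem ocgz3_act_one (x : Oct F) : act (1 : GL (Fin 8) F) x = x := by
  simp [act]

/-- membership in `G2 F` in terms of `act`. -/
theorem ocgz3_mem_G2 (g : GL (Fin 8) F) (hg : g ∈ G2 F) (x y : Oct F) :
    act g (zornMul x y) = zornMul (act g x) (act g y) := hg x y

/-- Z3 [S-M]. `y := act g⁻¹ one8`: `act g one8 = zornMul (act g one8) (act g y) = act g (zornMul one8 y) = act g y = one8`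
(Z2, G6, G8). -/
theorem act_one8 (g : GL (Fin 8) F) (hg : g ∈ G2 F) : act g one8 = one8 := by
  have hy : act g (act g⁻¹ one8) = one8 := by
    rw [← ocgz3_act_mul, mul_inv_cancel, ocgz3_act_one]
  calc act g one8 = zornMul (act g one8) one8 := (ocgz3_mul_one8 _).symm
    _ = zornMul (act g one8) (act g (act g⁻¹ one8)) := by rw [hy]
    _ = act g (zornMul one8 (act g⁻¹ one8)) := (ocgz3_mem_G2 g hg _ _).symm
    _ = act g (act g⁻¹ one8) := by
        congr 1
        ext i
        fin_cases i <;> simp [zornMul, one8, dot3, cross3]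
    _ = one8 := hy

end Z

end Cfsg.Agent.Lib.Helper18.OCT
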