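import Mathlib
import Cfsg.Prelude.Def_HallClasses
import Cfsg.Agent.Lib.Helper18.SNA.Defs

/-!
Project SNA (S2222), piece PN : a subgroup containing a Sylow `p`-subgroup together with its
normalizer is pronormal.
-/

set_option autoImplicit false

namespace Cfsg.Agent.Lib.Helper27.SNA

open Cfsg.Agent.Lib.Helper18.SNA Equiv
open scoped Pointwise

/-- conjugating by an element of `H` does not move `H` -/
theorem pn_map_conj_of_mem {G : Type*} [Group G] (H : Subgroup G) (n : G) (hn : n ∈ H) :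
    H.map (MulAut.conj n).toMonoidHom = H := by
  ext y
  simp only [Subgroup.mem_map, MulEquiv.coe_toMonoidHom, MulAut.conj_apply]
  constructor
  · rintro ⟨a, ha, rfl⟩
    exact H.mul_mem (H.mul_mem hn ha) (H.inv_mem hn)
  · intro hy
    exact ⟨n⁻¹ * y * n, H.mul_mem (H.mul_mem (H.inv_mem hn) hy) hn, by group⟩

/-- PN: pronormality from a Sylow subgroup with its normalizer inside -/
theorem isPronormal_of_sylow_le {G : Type*} [Group G] [Finite G] (p : ℕ) [Fact p.Prime]
    (H : Subgroup G) (P : Sylow p G) (hPH : (P : Subgroup G) ≤ H)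
    (hN : Subgroup.normalizer ((P : Subgroup G) : Set G) ≤ H) : Cfsg.IsPronormal H := by
  intro g
  set J : Subgroup G := H ⊔ H.map (MulAut.conj g).toMonoidHom with hJ
  set P2 : Sylow p G := g • P with hP2
  have hP2c : ∀ y : G, y ∈ P2 ↔ g⁻¹ * y * g ∈ P := by
    intro y
    have h1 : ((g • P : Sylow p G) : Subgroup G) = MulAut.conj g • (P : Subgroup G) :=
      Sylow.coe_subgroup_smul
    show y ∈ ((g • P : Sylow p G) : Subgroup G) ↔ _
    rw [h1, Subgroup.mem_pointwise_smul_iff_inv_smul_mem, MulAut.smul_def, ← map_inv,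
      MulAut.conj_apply, inv_inv]
    rfl
  have hPJ : (P : Subgroup G) ≤ J := hPH.trans le_sup_left
  have hP2J : (P2 : Subgroup G) ≤ J := by
    intro y hy
    have h1 := (hP2c y).mp hy
    refine (le_sup_right : H.map (MulAut.conj g).toMonoidHom ≤ J) ?_
    refine Subgroup.mem_map.mpr ⟨g⁻¹ * y * g, hPH h1, ?_⟩
    simp only [MulEquiv.coe_toMonoidHom, MulAut.conj_apply]
    group
  obtain ⟨x, hx⟩ := MulAction.exists_smul_eq J (P.subtype hPJ) (P2.subtype hP2J)
  -- membership in `x • P.subtype`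
  have hxm : ∀ y : J, y ∈ P2.subtype hP2J ↔ (x⁻¹ * y * x : J) ∈ P.subtype hPJ := by
    intro y
    rw [← hx]
    have h1 : ((x • P.subtype hPJ : Sylow p J) : Subgroup J) =
        MulAut.conj x • ((P.subtype hPJ : Sylow p J) : Subgroup J) := Sylow.coe_subgroup_smul
    show y ∈ ((x • P.subtype hPJ : Sylow p J) : Subgroup J) ↔ _
    rw [h1, Subgroup.mem_pointwise_smul_iff_inv_smul_mem, MulAut.smul_def, ← map_inv,
      MulAut.conj_apply, inv_inv]
    rfl
  have hsub1 : ∀ y : J, y ∈ P.subtype hPJ ↔ (y : G) ∈ P := by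
    intro y
    show y ∈ ((P.subtype hPJ : Sylow p J) : Subgroup J) ↔ _
    rw [Sylow.coe_subtype]
    exact Subgroup.mem_subgroupOf
  have hsub2 : ∀ y : J, y ∈ P2.subtype hP2J ↔ (y : G) ∈ P2 := by
    intro y
    show y ∈ ((P2.subtype hP2J : Sylow p J) : Subgroup J) ↔ _
    rw [Sylow.coe_subtype]
    exact Subgroup.mem_subgroupOf
  -- n = x⁻¹ g normalizes P
  have hn : (x : G)⁻¹ * g ∈ Subgroup.normalizer ((P : Subgroup G) : Set G) := by
    rw [Subgroup.mem_normalizer_iff]
    intro h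
    constructor
    · intro hh
      have hz : g * h * g⁻¹ ∈ P2 := by
        rw [hP2c]
        have : g⁻¹ * (g * h * g⁻¹) * g = h := by group
        rw [this]
        exact hh
      have hzJ : g * h * g⁻¹ ∈ J := hP2J hz
      have h1 := (hxm ⟨g * h * g⁻¹, hzJ⟩).mp ((hsub2 _).mpr hz)
      have h2 := (hsub1 _).mp h1
      have h3 : ((x⁻¹ * ⟨g * h * g⁻¹, hzJ⟩ * x : J) : G) = (x : G)⁻¹ * g * h * ((x : G)⁻¹ * g)⁻¹ := by
        push_cast
        group
      rw [h3] at h2
      exact h2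
    · intro hh
      set w : G := (x : G)⁻¹ * g * h * ((x : G)⁻¹ * g)⁻¹ with hw
      have hwJ : w ∈ J := hPJ hh
      have hzJ : g * h * g⁻¹ ∈ J := by
        have : g * h * g⁻¹ = (x : G) * w * (x : G)⁻¹ := by
          rw [hw]
          group
        rw [this]
        exact J.mul_mem (J.mul_mem x.2 hwJ) (J.inv_mem x.2)
      have h3 : ((x⁻¹ * ⟨g * h * g⁻¹, hzJ⟩ * x : J) : G) = w := by
        rw [hw]
        push_cast
        group
      have h1 : (x⁻¹ * ⟨g * h * g⁻¹, hzJ⟩ * x : J) ∈ P.subtype hPJ := by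
        rw [hsub1, h3]
        exact hh
      have h2 := (hsub2 _).mp ((hxm ⟨g * h * g⁻¹, hzJ⟩).mpr h1)
      have h4 := (hP2c _).mp h2
      have : g⁻¹ * (g * h * g⁻¹) * g = h := by group
      rw [this] at h4
      exact h4
  have hnH : (x : G)⁻¹ * g ∈ H := hN hn
  refine ⟨(x : G), x.2, ?_⟩
  have hg : g = (x : G) * ((x : G)⁻¹ * g) := by group
  conv_lhs => rw [hg, map_mul]
  have h5 : H.map (MulAut.conj (x : G) * MulAut.conj ((x : G)⁻¹ * g)).toMonoidHom =
      (H.map (MulAut.conj ((x : G)⁻¹ * g)).toMonoidHom).map (MulAut.conj (x : G)).toMonoidHom := by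
    rw [Subgroup.map_map]
    rfl
  rw [h5, pn_map_conj_of_mem H _ hnH]

end Cfsg.Agent.Lib.Helper27.SNA
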