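import Mathlib
import Cfsg.Agent.Lib.Helper18.SNA.Defs

/-!
Project SNA (S2222), piece SY : a self-normalizing `p`-subgroup is a Sylow `p`-subgroup, hence all
Sylow `p`-subgroups are self-normalizing.
-/

set_option autoImplicit false

namespace Cfsg.Agent.Lib.Helper27.SNA

open Cfsg.Agent.Lib.Helper18.SNA Equiv
open scoped Pointwise

/-- a self-normalizing `p`-subgroup has index prime to `p` -/
theorem sy_not_dvd_index {G : Type*} [Group G] [Finite G] (p : ℕ) [Fact p.Prime]
    (Q : Subgroup G) (hQ : IsPGroup p Q) (hN : Subgroup.normalizer (Q : Set G) ≤ Q) :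
    ¬ p ∣ Q.index := by
  obtain ⟨n, hn⟩ := hQ.exists_card_eq
  have h1 := Sylow.card_quotient_normalizer_modEq_card_quotient (p := p) (H := Q) hn
  have h2 : Nat.card (↥(Subgroup.normalizer (Q : Set G)) ⧸
      Subgroup.comap (Subgroup.normalizer (Q : Set G)).subtype Q) = 1 := by
    have : Subgroup.comap (Subgroup.normalizer (Q : Set G)).subtype Q = ⊤ := by
      rw [eq_top_iff]
      intro x _
      exact hN x.2
    rw [this]
    exact (Subgroup.index_top (G := ↥(Subgroup.normalizer (Q : Set G))))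
  rw [h2] at h1
  intro hdvd
  have h3 : Nat.card (G ⧸ Q) = Q.index := rfl
  rw [h3] at h1
  have h4 : Q.index ≡ 0 [MOD p] := (Nat.modEq_zero_iff_dvd).mpr hdvd
  have h5 : 1 ≡ 0 [MOD p] := h1.trans h4
  have h6 := (Nat.modEq_zero_iff_dvd).mp h5
  exact (Fact.out : p.Prime).one_lt.ne' (Nat.dvd_one.mp h6)

/-- SY: a self-normalizing p-subgroup is Sylow, so all Sylow p-subgroups are self-normalizing -/
theorem sylow_selfNorm_of_exists {G : Type*} [Group G] [Finite G] (p : ℕ) [Fact p.Prime]
    (Q : Subgroup G) (hQ : IsPGroup p Q) (hN : Subgroup.normalizer (Q : Set G) ≤ Q) (P : Sylow p G) :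
    Subgroup.normalizer ((P : Subgroup G) : Set G) ≤ P := by
  have hnd := sy_not_dvd_index p Q hQ hN
  set Q' : Sylow p G := hQ.toSylow hnd with hQ'
  have hQc : (Q' : Subgroup G) = Q := rfl
  obtain ⟨g, hg⟩ := MulAction.exists_smul_eq G Q' P
  have hP : (P : Subgroup G) = Subgroup.map (MulAut.conj g).toMonoidHom Q := by
    have h1 : ((g • Q' : Sylow p G) : Subgroup G) = MulAut.conj g • (Q' : Subgroup G) :=
      Sylow.coe_subgroup_smul
    rw [← hg, h1, hQc]
    ext x
    simp only [Subgroup.mem_map, MulEquiv.coe_toMonoidHom, Subgroup.mem_smul_pointwise_iff_exists,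
      MulAut.smul_def]
  rw [hP, ← Subgroup.map_equiv_normalizer_eq]
  exact Subgroup.map_mono hN

end Cfsg.Agent.Lib.Helper27.SNA
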