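import Cfsg.Agent.Lib.helper6.UTP.Defs
import Cfsg.Agent.Lib.Helper28.UGen

/-!
# Project UTP (S5670, leader helper6), piece TRANS (helper27): `su_trans_iso`

`SU_k` is transitive on the non-zero isotropic vectors (`k ≥ 3`): `Helper28.UGen.h1` (products of unitary transvections) for the
standard hermitian form `hf σ`, which is a unitary form in the sense of the Prelude (`utptrans_unitary`).
-/

set_option autoImplicit false
set_option linter.unusedVariables false
set_option linter.unusedSectionVars false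

namespace Cfsg.Agent.Lib.helper6.UTP

open Matrix
open scoped Kronecker
open Cfsg.Agent.Lib.helper7.TP

variable {F : Type*} [Field F] {a b : ℕ}

/-- the standard hermitian form is a unitary form in the sense of the Prelude -/
theorem utptrans_unitary (σ : F ≃+* F) (hσ : Inv2 σ) (k : ℕ) :
    Cfsg.Geo.IsUnitaryForm σ (hf σ : (Fin k → F) → (Fin k → F) → F) where
  ne_refl := by
    obtain ⟨x, hx⟩ := hσ.moved
    intro h
    apply hx
    rw [h]
    rfl
  involutive := hσ.invol
  add_left := hf_add_left σ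
  smul_left := hf_smul_left σ
  herm := hf_herm σ hσ
  nondegenerate := by
    intro v hv
    constructor
    · by_contra hcon
      push Not at hcon
      exact hv (hf_nondeg σ v hcon)
    · by_contra hcon
      push Not at hcon
      exact hv (hf_nondeg' σ hσ v hcon)

/-- TRANS [M-L] `SU_k` is transitive on the non-zero isotropic vectors, `k ≥ 3`. -/
theorem su_trans_iso [Fintype F] (σ : F ≃+* F) (hσ : Inv2 σ) {k : ℕ} (hk : 3 ≤ k) (w w' : Fin k → F)
    (hw : w ≠ 0) (hw' : w' ≠ 0) (h : cj σ w ⬝ᵥ w = 0) (h' : cj σ w' ⬝ᵥ w' = 0) :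
    ∃ β : Matrix.GeneralLinearGroup (Fin k) F, β ∈ GUm σ (Fin k) ∧
      (β : Matrix (Fin k) (Fin k) F).det = 1 ∧ (β : Matrix (Fin k) (Fin k) F) *ᵥ w = w' := by
  have hU := utptrans_unitary σ hσ k
  obtain ⟨r, hr, hrw⟩ := Cfsg.Agent.Lib.Helper28.UGen.h1 hU
    (Cfsg.Agent.Lib.Helper28.UGen.e0 : Fin 0 → (Fin k → F)) Cfsg.Agent.Lib.Helper28.UGen.nd_e0 (by omega) w w' hw hw'
    ((iso_iff σ w).mp h) ((iso_iff σ w').mp h')
    (Cfsg.Agent.Lib.Helper28.UGen.perp_e0 w) (Cfsg.Agent.Lib.Helper28.UGen.perp_e0 w')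
  have hG := Cfsg.Agent.Lib.Helper28.UGen.Ra_le_GA hU _ hr
  obtain ⟨hiso, hsl, -⟩ := (Cfsg.Agent.Lib.Helper28.UGen.mem_GA _ r).mp hG
  refine ⟨r, hiso, ?_, hrw⟩
  have := hsl
  rw [Cfsg.Geo.specialLinear, MonoidHom.mem_ker] at this
  have h2 := congrArg (fun u : Fˣ => (u : F)) this
  simpa using h2

end Cfsg.Agent.Lib.helper6.UTP
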