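import Mathlib
import Cfsg.Prelude.Def_GeometricClasses
import Cfsg.Agent.Lib.Helper27.ASC.Defs
import Cfsg.Agent.Lib.Helper19.ASG.Defs
import Cfsg.Agent.Lib.Helper26.ASGD1.Defs
import Cfsg.Agent.Lib.Helper19.ASU.Defs
import Cfsg.Agent.Lib.Helper19.ASUADJ
import Cfsg.Agent.Lib.Helper26.ASUC.Defs
import Cfsg.Agent.Lib.Helper19.ASU33Defs
import Cfsg.Agent.Lib.Helper28.TT.Defs

set_option autoImplicit false
set_option linter.unusedVariables false
set_option linter.unusedSectionVars false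

/-!
# Project ASU, block C, case C-33 : a backup proof of the statement of 33-F4 (`u33_field4`, row of helper15) under an own name.
-/

namespace Cfsg.Agent.Lib.Helper19.ASU

open Cfsg Cfsg.Geo Cfsg.Agent.Lib.Helper27.ASC Cfsg.Agent.Lib.Helper19.ASG
open scoped MatrixGroups Matrix Kronecker

variable {n : ℕ} {F : Type*} [Field F]

theorem asuc33f4b_field4 [Fintype F] (hF : Fintype.card F = 2 ^ 2) :
    (2 : F) = 0 ∧ ∃ ω : F, ω ^ 2 + ω + 1 = 0 ∧ ω ≠ 1 ∧ ω ^ 3 = 1 ∧ ∀ x : F, x = 0 ∨ x = 1 ∨ x = ω ∨ x = ω ^ 2 := by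
  have hF4 : Fintype.card F = 4 := by rw [hF]; norm_num
  have h2 : (2 : F) = 0 := Cfsg.Agent.Lib.Helper28.TT.two_eq_zero hF4
  obtain ⟨w, hw, hw0, hw1, hall⟩ := Cfsg.Agent.Lib.Helper28.TT.exists_omega hF4
  refine ⟨h2, w, hw, hw1, Cfsg.Agent.Lib.Helper28.TT.pow_three hF4 hw0, fun x => ?_⟩
  have hw2 : w ^ 2 = w + 1 := by linear_combination hw - (w + 1) * h2
  rw [hw2]
  exact hall x

end Cfsg.Agent.Lib.Helper19.ASU
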