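import Mathlib
import Cfsg.Prelude.Def_GeometricClasses
import Cfsg.Agent.Lib.Helper27.ASC.Defs
import Cfsg.Agent.Lib.Helper19.ASG.Defs
import Cfsg.Agent.Lib.Helper26.ASGD1.Defs
import Cfsg.Agent.Lib.Helper19.ASU.Defs
import Cfsg.Agent.Lib.Helper19.ASUADJ
import Cfsg.Agent.Lib.Helper26.ASUC.Defs
import Cfsg.Agent.Lib.Helper19.ASU33Defs
import Cfsg.Agent.Lib.Helper28.TT.Defs

set_option autoImplicit false
set_option linter.unusedVariables false
set_option linter.unusedSectionVars false

/-!
# Project ASU, block C, case C-33, piece 33-U3 : the unitary `3 × 3` matrices over `F_4` are generated by the diagonal matrices,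
`Y`, `T` and `W` (induction principle), VERBATIM.
-/

namespace Cfsg.Agent.Lib.Helper19.ASU

open Cfsg Cfsg.Geo Cfsg.Agent.Lib.Helper27.ASC Cfsg.Agent.Lib.Helper19.ASG
open scoped MatrixGroups Matrix Kronecker

variable {n : ℕ} {F : Type*} [Field F]

/-- the six permutations of `Fin 3` as triples of values -/
theorem asuc33u3_perm_cases (s0 s1 s2 : Fin 3) (h01 : s0 ≠ s1) (h02 : s0 ≠ s2) (h12 : s1 ≠ s2) :
    (s0 = 0 ∧ s1 = 1 ∧ s2 = 2) ∨ (s0 = 1 ∧ s1 = 2 ∧ s2 = 0) ∨ (s0 = 2 ∧ s1 = 0 ∧ s2 = 1) ∨
    (s0 = 0 ∧ s1 = 2 ∧ s2 = 1) ∨ (s0 = 1 ∧ s1 = 0 ∧ s2 = 2) ∨ (s0 = 2 ∧ s1 = 1 ∧ s2 = 0) := by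
  revert s0 s1 s2
  decide

/-- the permutation matrices of size 3 are products of `Y` and `T` -/
theorem asuc33u3_perm (C : Matrix (Fin 3) (Fin 3) F → Prop) (hmul : ∀ x y, C x → C y → C (x * y))
    (hone : C 1) (hY : C u33Y) (hT : C u33T) (σ : Fin 3 → Fin 3) (hσ : Function.Injective σ) :
    C (Matrix.of fun i j => if i = σ j then (1 : F) else 0) := by
  have h01 : σ 0 ≠ σ 1 := fun h => absurd (hσ h) (by decide)
  have h02 : σ 0 ≠ σ 2 := fun h => absurd (hσ h) (by decide)
  have h12 : σ 1 ≠ σ 2 := fun h => absurd (hσ h) (by decide)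
  rcases asuc33u3_perm_cases (σ 0) (σ 1) (σ 2) h01 h02 h12 with ⟨e0, e1, e2⟩ | ⟨e0, e1, e2⟩ | ⟨e0, e1, e2⟩ |
    ⟨e0, e1, e2⟩ | ⟨e0, e1, e2⟩ | ⟨e0, e1, e2⟩
  · have : (Matrix.of fun i j => if i = σ j then (1 : F) else 0) = 1 := by
      ext i j
      fin_cases j <;> fin_cases i <;> simp [e0, e1, e2]
    rw [this]
    exact hone
  · have : (Matrix.of fun i j => if i = σ j then (1 : F) else 0) = u33Y := by
      ext i j
      fin_cases j <;> fin_cases i <;> simp [e0, e1, e2, u33Y]
    rw [this]
    exact hY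
  · have : (Matrix.of fun i j => if i = σ j then (1 : F) else 0) = u33Y * u33Y := by
      ext i j
      fin_cases j <;> fin_cases i <;> simp [e0, e1, e2, u33Y, Matrix.mul_apply, Fin.sum_univ_three]
    rw [this]
    exact hmul _ _ hY hY
  · have : (Matrix.of fun i j => if i = σ j then (1 : F) else 0) = u33T := by
      ext i j
      fin_cases j <;> fin_cases i <;> simp [e0, e1, e2, u33T]
    rw [this]
    exact hT
  · have : (Matrix.of fun i j => if i = σ j then (1 : F) else 0) = u33Y * u33T := by
      ext i j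
      fin_cases j <;> fin_cases i <;> simp [e0, e1, e2, u33Y, u33T, Matrix.mul_apply, Fin.sum_univ_three]
    rw [this]
    exact hmul _ _ hY hT
  · have : (Matrix.of fun i j => if i = σ j then (1 : F) else 0) = u33Y * u33Y * u33T := by
      ext i j
      fin_cases j <;> fin_cases i <;> simp [e0, e1, e2, u33Y, u33T, Matrix.mul_apply, Fin.sum_univ_three]
    rw [this]
    exact hmul _ _ (hmul _ _ hY hY) hT

/-- 33-U3 -/
theorem u33_unitary_ind [Fintype F] (hF : Fintype.card F = 2 ^ 2) (ω : F) (hω : ω ^ 2 + ω + 1 = 0)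
    (C : Matrix (Fin 3) (Fin 3) F → Prop) (hmul : ∀ x y, C x → C y → C (x * y))
    (hdiag : ∀ d : Fin 3 → F, (∀ i, d i ≠ 0) → C (Matrix.diagonal d))
    (hY : C u33Y) (hT : C u33T) (hW : C (u33W ω))
    (a : Matrix (Fin 3) (Fin 3) F) (ha : uadj 2 a * a = 1) : C a := by
  classical
  have hF4 : Fintype.card F = 4 := by rw [hF]; norm_num
  have h2 : (2 : F) = 0 := Cfsg.Agent.Lib.Helper28.TT.two_eq_zero hF4
  have hcube : ∀ x : F, x ≠ 0 → x ^ 3 = 1 := fun x hx => Cfsg.Agent.Lib.Helper28.TT.pow_three hF4 hx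
  have hone : C 1 := by
    have := hdiag (fun _ => 1) (fun _ => one_ne_zero)
    rwa [Matrix.diagonal_one] at this
  have ha' : a * uadj 2 a = 1 := mul_eq_one_comm.mp ha
  have hcol : ∀ j k, ∑ i, (a i j) ^ 2 * a i k = if j = k then 1 else 0 := by
    intro j k
    have := congrFun (congrFun ha j) k
    simpa [Matrix.mul_apply, uadj_apply, Matrix.one_apply] using this
  have hrow : ∀ i k, ∑ j, a i j * (a k j) ^ 2 = if i = k then 1 else 0 := by
    intro i k
    have := congrFun (congrFun ha' i) k
    simpa [Matrix.mul_apply, uadj_apply, Matrix.one_apply] using this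
  have cube01 : ∀ x : F, (x ^ 3 = 0 ∧ x = 0) ∨ (x ^ 3 = 1 ∧ x ≠ 0) := by
    intro x
    rcases eq_or_ne x 0 with h | h
    · left
      exact ⟨by rw [h]; ring, h⟩
    · right
      exact ⟨hcube x h, h⟩
  by_cases hall : ∀ i j, a i j ≠ 0
  · -- all entries non-zero
    set r : Fin 3 → F := fun i => a i 0 with hr
    set c : Fin 3 → F := fun j => a 0 j * (a 0 0)⁻¹ with hc
    have hr0 : ∀ i, r i ≠ 0 := fun i => hall i 0
    have hc0 : ∀ j, c j ≠ 0 := fun j => mul_ne_zero (hall 0 j) (inv_ne_zero (hall 0 0))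
    set a' : Matrix (Fin 3) (Fin 3) F := Matrix.of fun i j => a i j * (r i)⁻¹ * (c j)⁻¹ with ha'def
    have hent : ∀ i j, a i j = r i * a' i j * c j := by
      intro i j
      simp only [ha'def, Matrix.of_apply]
      field_simp [hr0 i, hc0 j]
    have hfac : a = Matrix.diagonal r * a' * Matrix.diagonal c := by
      ext i j
      rw [Matrix.mul_diagonal, Matrix.diagonal_mul]
      exact hent i j
    have hi0 : ∀ i, a' i 0 = 1 := by
      intro i
      simp only [ha'def, Matrix.of_apply, hr, hc]
      field_simp [hall i 0, hall 0 0]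
    have h0j : ∀ j, a' 0 j = 1 := by
      intro j
      simp only [ha'def, Matrix.of_apply, hr, hc]
      field_simp [hall 0 j, hall 0 0]
    have hr3 : ∀ i, r i ^ 3 = 1 := fun i => hcube _ (hr0 i)
    have hc3 : ∀ j, c j ^ 3 = 1 := fun j => hcube _ (hc0 j)
    -- the relations for `a'`
    have hcol' : ∀ j k, j ≠ k → ∑ i, (a' i j) ^ 2 * a' i k = 0 := by
      intro j k hjk
      have h := hcol j k
      rw [if_neg hjk] at h
      have h1 : ∑ i, (a i j) ^ 2 * a i k = (c j ^ 2 * c k) * ∑ i, (a' i j) ^ 2 * a' i k := by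
        rw [Finset.mul_sum]
        apply Finset.sum_congr rfl
        intro i _
        rw [hent i j, hent i k]
        have := hr3 i
        linear_combination ((a' i j) ^ 2 * a' i k * c j ^ 2 * c k) * this
      rw [h1] at h
      exact (mul_eq_zero.mp h).resolve_left (mul_ne_zero (pow_ne_zero _ (hc0 j)) (hc0 k))
    have hrow' : ∀ i k, i ≠ k → ∑ j, a' i j * (a' k j) ^ 2 = 0 := by
      intro i k hik
      have h := hrow i k
      rw [if_neg hik] at h
      have h1 : ∑ j, a i j * (a k j) ^ 2 = (r i * r k ^ 2) * ∑ j, a' i j * (a' k j) ^ 2 := by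
        rw [Finset.mul_sum]
        apply Finset.sum_congr rfl
        intro j _
        rw [hent i j, hent k j]
        have := hc3 j
        linear_combination (a' i j * (a' k j) ^ 2 * r i * r k ^ 2) * this
      rw [h1] at h
      exact (mul_eq_zero.mp h).resolve_left (mul_ne_zero (hr0 i) (pow_ne_zero _ (hr0 k)))
    set s : F := a' 1 1 with hs
    have e21 : a' 2 1 = 1 + s := by
      have h := hcol' 0 1 (by decide)
      rw [Fin.sum_univ_three, hi0 0, hi0 1, hi0 2, h0j 1] at h
      linear_combination h - (1 + s) * h2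
    have e12 : a' 1 2 = 1 + s := by
      have h := hrow' 1 0 (by decide)
      rw [Fin.sum_univ_three, hi0 1, h0j 0, h0j 1, h0j 2] at h
      linear_combination h - (1 + s) * h2
    have e22 : a' 2 2 = s := by
      have h := hcol' 0 2 (by decide)
      rw [Fin.sum_univ_three, hi0 0, hi0 1, hi0 2, h0j 2, e12] at h
      linear_combination h - (1 + s) * h2
    have hs2 : s ^ 2 + s + 1 = 0 := by
      have h := hcol' 1 2 (by decide)
      rw [Fin.sum_univ_three, h0j 1, h0j 2, e21, e12, e22, ← hs] at h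
      linear_combination h - (s ^ 2 + s ^ 3) * h2
    have hsω : s = ω ∨ s = ω + 1 := by
      have : (s - ω) * (s - (ω + 1)) = 0 := by
        linear_combination hs2 + hω - (1 + s + ω * s) * h2
      rcases mul_eq_zero.mp this with h | h
      · left
        exact sub_eq_zero.mp h
      · right
        exact sub_eq_zero.mp h
    have hω2 : ω ^ 2 = ω + 1 := by linear_combination hω - (ω + 1) * h2
    have hCa' : C a' := by
      rcases hsω with h | h
      · have : a' = u33W ω := by
          ext i j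
          fin_cases i <;> fin_cases j <;>
            simp [u33W, h0j, hi0, e21, e12, e22, ← hs, h, hω2]
          all_goals first | rfl | (rw [add_comm])
        rw [this]
        exact hW
      · have : a' = u33T * u33W ω := by
          ext i j
          fin_cases i <;> fin_cases j <;>
            simp [u33W, u33T, Matrix.mul_apply, Fin.sum_univ_three, h0j, hi0, e21, e12, e22, ← hs, h, hω2]
          all_goals first | rfl | (linear_combination (1 : F) * h2)
        rw [this]
        exact hmul _ _ hT hW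
    rw [hfac]
    exact hmul _ _ (hmul _ _ (hdiag r hr0) hCa') (hdiag c hc0)
  · -- a zero entry: the matrix is monomial
    push Not at hall
    obtain ⟨i₀, j₀, hz⟩ := hall
    have H1 : ∀ j, (∃ i, a i j = 0) → ∃ i, a i j ≠ 0 ∧ ∀ i', i' ≠ i → a i' j = 0 := by
      rintro j ⟨i0, hi0⟩
      have hc := hcol j j
      rw [if_pos rfl, Fin.sum_univ_three] at hc
      have e : ∀ x : F, x ^ 2 * x = x ^ 3 := fun x => by ring
      rw [e, e, e] at hc
      rcases cube01 (a 0 j) with ⟨e0, h0⟩ | ⟨e0, h0⟩ <;> rcases cube01 (a 1 j) with ⟨e1, h1⟩ | ⟨e1, h1⟩ <;>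
        rcases cube01 (a 2 j) with ⟨e2, h2'⟩ | ⟨e2, h2'⟩ <;> rw [e0, e1, e2] at hc
      · exact absurd (by linear_combination (-1 : F) * hc) (one_ne_zero (α := F))
      · refine ⟨2, h2', fun i' hi' => ?_⟩
        fin_cases i'
        · exact h0
        · exact h1
        · exact absurd rfl hi'
      · refine ⟨1, h1, fun i' hi' => ?_⟩
        fin_cases i'
        · exact h0
        · exact absurd rfl hi'
        · exact h2'
      · exact absurd (by linear_combination (-1 : F) * hc + h2) (one_ne_zero (α := F))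
      · refine ⟨0, h0, fun i' hi' => ?_⟩
        fin_cases i'
        · exact absurd rfl hi'
        · exact h1
        · exact h2'
      · exact absurd (by linear_combination (-1 : F) * hc + h2) (one_ne_zero (α := F))
      · exact absurd (by linear_combination (-1 : F) * hc + h2) (one_ne_zero (α := F))
      · exfalso
        fin_cases i0
        · exact h0 hi0
        · exact h1 hi0
        · exact h2' hi0
    -- a column with a single non-zero entry kills that row in the other columns
    have H2 : ∀ j i, a i j ≠ 0 → (∀ i', i' ≠ i → a i' j = 0) → ∀ k, k ≠ j → a i k = 0 := by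
      intro j i hij hother k hkj
      have h := hcol j k
      rw [if_neg (Ne.symm hkj), Finset.sum_eq_single i] at h
      · exact (mul_eq_zero.mp h).resolve_left (pow_ne_zero _ hij)
      · intro b _ hb
        rw [hother b hb]
        ring
      · intro hi
        exact absurd (Finset.mem_univ i) hi
    obtain ⟨i₁, hi₁, hi₁'⟩ := H1 j₀ ⟨i₀, hz⟩
    have hmono : ∀ j, ∃ i, a i j ≠ 0 ∧ ∀ i', i' ≠ i → a i' j = 0 := by
      intro j
      by_cases hj : j = j₀
      · subst hj
        exact ⟨i₁, hi₁, hi₁'⟩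
      · exact H1 j ⟨i₁, H2 j₀ i₁ hi₁ hi₁' j hj⟩
    choose σ hσ1 hσ2 using hmono
    have hσinj : Function.Injective σ := by
      intro j k hjk
      by_contra hne
      have := H2 j (σ j) (hσ1 j) (hσ2 j) k (Ne.symm hne)
      rw [hjk] at this
      exact hσ1 k this
    have hfac : a = (Matrix.of fun i j => if i = σ j then (1 : F) else 0) * Matrix.diagonal (fun j => a (σ j) j) := by
      ext i j
      rw [Matrix.mul_diagonal, Matrix.of_apply]
      by_cases h : i = σ j
      · rw [if_pos h, one_mul, h]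
      · rw [if_neg h, zero_mul]
        exact hσ2 j i h
    rw [hfac]
    exact hmul _ _ (asuc33u3_perm C hmul hone hY hT σ hσinj) (hdiag _ hσ1)

end Cfsg.Agent.Lib.Helper19.ASU
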