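import Mathlib
import Cfsg.Prelude.Def_GeometricClasses
import Cfsg.Agent.Lib.Helper27.ASC.Defs
import Cfsg.Agent.Lib.Helper19.ASG.Defs
import Cfsg.Agent.Lib.Helper26.ASGD1.Defs
import Cfsg.Agent.Lib.Helper19.ASU.Defs
import Cfsg.Agent.Lib.Helper19.ASUADJ
import Cfsg.Agent.Lib.Helper26.ASUC.Defs
import Cfsg.Agent.Lib.Helper19.ASU33Defs
import Cfsg.Agent.Lib.Helper27.ASUC33U3

set_option autoImplicit false
set_option linter.unusedVariables false
set_option linter.unusedSectionVars false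

/-!
# Project ASU, block C, case C-33, piece 33-NORM, core : a unitary `3 × 3` matrix over `F_4` normalises the Heisenberg set, with the
statements of 33-REL (`u33_rel`) and 33-HEIS (`u33_heis`) as hypotheses.
-/

namespace Cfsg.Agent.Lib.Helper19.ASU

open Cfsg Cfsg.Geo Cfsg.Agent.Lib.Helper27.ASC Cfsg.Agent.Lib.Helper19.ASG
open scoped MatrixGroups Matrix Kronecker

variable {n : ℕ} {F : Type*} [Field F]

/-- conjugation commutes with powers -/
theorem asuc33norm_conj_pow {m : ℕ} (x x' M : Matrix (Fin m) (Fin m) F) (h1 : x * x' = 1) (h2 : x' * x = 1) (i : ℕ) :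
    (x * M * x') ^ i = x * M ^ i * x' := by
  induction i with
  | zero => rw [pow_zero, pow_zero, mul_one, h1]
  | succ k ih =>
    rw [pow_succ, ih, pow_succ]
    calc x * M ^ k * x' * (x * M * x') = x * M ^ k * (x' * x) * M * x' := by simp only [mul_assoc]
      _ = x * (M ^ k * M) * x' := by rw [h2, mul_one]; simp only [mul_assoc]

/-- conjugation is multiplicative -/
theorem asuc33norm_conj_mul {m : ℕ} (x x' M N : Matrix (Fin m) (Fin m) F) (h2 : x' * x = 1) :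
    x * (M * N) * x' = (x * M * x') * (x * N * x') := by
  calc x * (M * N) * x' = x * M * 1 * N * x' := by rw [mul_one]; simp only [mul_assoc]
    _ = (x * M * x') * (x * N * x') := by rw [← h2]; simp only [mul_assoc]

theorem asuc33norm_one_mem (ω : F) : (1 : Matrix (Fin 3) (Fin 3) F) ∈ u33Heis ω :=
  ⟨0, 0, 0, by simp⟩

theorem asuc33norm_X_mem (ω : F) : u33X ω ∈ u33Heis ω :=
  ⟨0, 1, 0, by simp⟩

theorem asuc33norm_Y_mem (ω : F) : (u33Y : Matrix (Fin 3) (Fin 3) F) ∈ u33Heis ω :=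
  ⟨0, 0, 1, by simp⟩

theorem asuc33norm_smul_mem (ω : F) (c : ℕ) {M : Matrix (Fin 3) (Fin 3) F} (hM : M ∈ u33Heis ω) :
    ω ^ c • M ∈ u33Heis ω := by
  obtain ⟨c', i, j, rfl⟩ := hM
  exact ⟨c + c', i, j, by rw [smul_smul, pow_add]⟩

theorem asuc33norm_pow_mem (ω : F) (hmul : ∀ r ∈ u33Heis ω, ∀ s ∈ u33Heis ω, r * s ∈ u33Heis ω)
    {M : Matrix (Fin 3) (Fin 3) F} (hM : M ∈ u33Heis ω) (i : ℕ) : M ^ i ∈ u33Heis ω := by
  induction i with
  | zero => rw [pow_zero]; exact asuc33norm_one_mem ω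
  | succ k ih => rw [pow_succ]; exact hmul _ ih _ hM

/-- a matrix conjugating `X` and `Y` into the Heisenberg set normalises it -/
theorem asuc33norm_of_gens (ω : F) (hmul : ∀ r ∈ u33Heis ω, ∀ s ∈ u33Heis ω, r * s ∈ u33Heis ω)
    (x x' : Matrix (Fin 3) (Fin 3) F) (h1 : x * x' = 1) (h2 : x' * x = 1)
    (hX : x * u33X ω * x' ∈ u33Heis ω) (hY : x * u33Y * x' ∈ u33Heis ω) :
    ∀ r ∈ u33Heis ω, x * r * x' ∈ u33Heis ω := by
  rintro r ⟨c, i, j, rfl⟩
  rw [Matrix.mul_smul, Matrix.smul_mul, asuc33norm_conj_mul x x' _ _ h2, ← asuc33norm_conj_pow x x' _ h1 h2,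
    ← asuc33norm_conj_pow x x' _ h1 h2]
  exact asuc33norm_smul_mem ω c (hmul _ (asuc33norm_pow_mem ω hmul hX i) _ (asuc33norm_pow_mem ω hmul hY j))

/-- 33-NORM with 33-REL and 33-HEIS as hypotheses -/
theorem asuc33norm_core [Fintype F] (hF : Fintype.card F = 2 ^ 2) (ω : F) (hω : ω ^ 2 + ω + 1 = 0)
    (hrel : u33X ω ^ 3 = 1 ∧ (u33Y : Matrix (Fin 3) (Fin 3) F) ^ 3 = 1 ∧ u33X ω * u33Y = ω • (u33Y * u33X ω) ∧
      (u33T : Matrix (Fin 3) (Fin 3) F) * u33T = 1 ∧ u33T * u33X ω * u33T = u33X ω ^ 2 ∧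
      (u33T : Matrix (Fin 3) (Fin 3) F) * u33Y * u33T = u33Y ^ 2 ∧
      u33W ω * u33X ω = u33Y ^ 2 * u33W ω ∧ u33W ω * u33Y = u33X ω * u33W ω ∧
      uadj 2 (u33X ω) * u33X ω = 1 ∧ uadj 2 (u33Y : Matrix (Fin 3) (Fin 3) F) * u33Y = 1 ∧
      uadj 2 (u33T : Matrix (Fin 3) (Fin 3) F) * u33T = 1 ∧ uadj 2 (u33W ω) * u33W ω = 1)
    (hheis : (∀ r ∈ u33Heis ω, ∀ s ∈ u33Heis ω, r * s ∈ u33Heis ω) ∧
      (∀ d : Fin 3 → F, (∀ i, d i ^ 3 = 1) → d 0 * d 1 * d 2 = 1 → Matrix.diagonal d ∈ u33Heis ω))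
    (a : Matrix (Fin 3) (Fin 3) F) (ha : uadj 2 a * a = 1) :
    ∀ r ∈ u33Heis ω, a * r * uadj 2 a ∈ u33Heis ω := by
  classical
  obtain ⟨hX3, hY3, hXY, hTT, hTX, hTY, hWX, hWY, -, -, -, hWW⟩ := hrel
  obtain ⟨hmul, hdiagmem⟩ := hheis
  have hF4 : Fintype.card F = 4 := by rw [hF]; norm_num
  have hcube : ∀ x : F, x ≠ 0 → x ^ 3 = 1 := fun x hx => Cfsg.Agent.Lib.Helper28.TT.pow_three hF4 hx
  have hω3 : ω ^ 3 = 1 := by linear_combination (ω - 1) * hω
  have hω0 : ω ≠ 0 := by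
    rintro rfl
    simp at hω
  set C : Matrix (Fin 3) (Fin 3) F → Prop :=
    fun x => ∃ x', x * x' = 1 ∧ x' * x = 1 ∧ ∀ r ∈ u33Heis ω, x * r * x' ∈ u33Heis ω with hC
  have hCmul : ∀ x y, C x → C y → C (x * y) := by
    rintro x y ⟨x', hx1, hx2, hx⟩ ⟨y', hy1, hy2, hy⟩
    refine ⟨y' * x', ?_, ?_, ?_⟩
    · calc x * y * (y' * x') = x * (y * y') * x' := by simp only [mul_assoc]
        _ = 1 := by rw [hy1, mul_one, hx1]
    · calc y' * x' * (x * y) = y' * (x' * x) * y := by simp only [mul_assoc]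
        _ = 1 := by rw [hx2, mul_one, hy2]
    · intro r hr
      have := hx _ (hy r hr)
      have e : x * y * r * (y' * x') = x * (y * r * y') * x' := by simp only [mul_assoc]
      rw [e]
      exact this
  have hCY : C u33Y := by
    have hYY : (u33Y : Matrix (Fin 3) (Fin 3) F) * u33Y ^ 2 = 1 := by rw [← pow_succ', hY3]
    have hYY' : (u33Y : Matrix (Fin 3) (Fin 3) F) ^ 2 * u33Y = 1 := by rw [← pow_succ, hY3]
    refine ⟨u33Y ^ 2, hYY, hYY', asuc33norm_of_gens ω hmul _ _ hYY hYY' ?_ ?_⟩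
    · -- `Y X Y² = ω² X`
      have h1 : (u33Y : Matrix (Fin 3) (Fin 3) F) * u33X ω = ω ^ 2 • (u33X ω * u33Y) := by
        rw [hXY, smul_smul, ← pow_succ, hω3, one_smul]
      rw [h1, Matrix.smul_mul, mul_assoc, hYY, mul_one]
      exact asuc33norm_smul_mem ω 2 (asuc33norm_X_mem ω)
    · rw [mul_assoc, hYY, mul_one]
      exact asuc33norm_Y_mem ω
  have hCT : C u33T := by
    refine ⟨u33T, hTT, hTT, asuc33norm_of_gens ω hmul _ _ hTT hTT ?_ ?_⟩
    · rw [hTX]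
      exact asuc33norm_pow_mem ω hmul (asuc33norm_X_mem ω) 2
    · rw [hTY]
      exact asuc33norm_pow_mem ω hmul (asuc33norm_Y_mem ω) 2
  have hCW : C (u33W ω) := by
    have hWW' : u33W ω * uadj 2 (u33W ω) = 1 := mul_eq_one_comm.mp hWW
    refine ⟨uadj 2 (u33W ω), hWW', hWW, asuc33norm_of_gens ω hmul _ _ hWW' hWW ?_ ?_⟩
    · rw [hWX, mul_assoc, hWW', mul_one]
      exact asuc33norm_pow_mem ω hmul (asuc33norm_Y_mem ω) 2
    · rw [hWY, mul_assoc, hWW', mul_one]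
      exact asuc33norm_X_mem ω
  have hCdiag : ∀ d : Fin 3 → F, (∀ i, d i ≠ 0) → C (Matrix.diagonal d) := by
    intro d hd
    have h1 : Matrix.diagonal d * Matrix.diagonal (fun i => (d i)⁻¹) = 1 := by
      rw [Matrix.diagonal_mul_diagonal, ← Matrix.diagonal_one]
      congr 1
      funext i
      exact mul_inv_cancel₀ (hd i)
    have h2 : Matrix.diagonal (fun i => (d i)⁻¹) * Matrix.diagonal d = 1 := by
      rw [Matrix.diagonal_mul_diagonal, ← Matrix.diagonal_one]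
      congr 1
      funext i
      exact inv_mul_cancel₀ (hd i)
    refine ⟨Matrix.diagonal (fun i => (d i)⁻¹), h1, h2, asuc33norm_of_gens ω hmul _ _ h1 h2 ?_ ?_⟩
    · -- diagonal matrices commute
      have hXd : u33X ω = Matrix.diagonal ![1, ω, ω ^ 2] := by
        ext i j
        fin_cases i <;> fin_cases j <;> simp [u33X]
      rw [hXd, Matrix.diagonal_mul_diagonal, Matrix.diagonal_mul_diagonal]
      have : (fun i => d i * ![1, ω, ω ^ 2] i * (d i)⁻¹) = ![1, ω, ω ^ 2] := by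
        funext i
        field_simp [hd i]
      rw [this, ← hXd]
      exact asuc33norm_X_mem ω
    · -- `D Y D⁻¹ = Y diag (d (j + 1) / d j)`
      have hYd : Matrix.diagonal d * u33Y * Matrix.diagonal (fun i => (d i)⁻¹) =
          u33Y * Matrix.diagonal (fun j => d (j + 1) * (d j)⁻¹) := by
        ext i j
        rw [Matrix.mul_diagonal, Matrix.diagonal_mul, Matrix.mul_diagonal]
        fin_cases i <;> fin_cases j <;> simp [u33Y]
      rw [hYd]
      refine hmul _ (asuc33norm_Y_mem ω) _ (hdiagmem _ ?_ ?_)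
      · intro i
        exact hcube _ (mul_ne_zero (hd _) (inv_ne_zero (hd _)))
      · show d (0 + 1) * (d 0)⁻¹ * (d (1 + 1) * (d 1)⁻¹) * (d (2 + 1) * (d 2)⁻¹) = 1
        have e1 : (0 : Fin 3) + 1 = 1 := rfl
        have e2 : (1 : Fin 3) + 1 = 2 := rfl
        have e3 : (2 : Fin 3) + 1 = 0 := rfl
        rw [e1, e2, e3]
        field_simp [hd 0, hd 1, hd 2]
  obtain ⟨x', hx1, hx2, hx⟩ := u33_unitary_ind hF ω hω C hCmul hCdiag hCY hCT hCW a ha
  have hx' : x' = uadj 2 a := by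
    calc x' = (uadj 2 a * a) * x' := by rw [ha, one_mul]
      _ = uadj 2 a := by rw [mul_assoc, hx1, mul_one]
  rw [← hx']
  exact hx

end Cfsg.Agent.Lib.Helper19.ASU
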