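import Mathlib
import Cfsg.Prelude.Def_GeometricClasses
import Cfsg.Agent.Lib.Helper27.ASC.Defs
import Cfsg.Agent.Lib.Helper19.ASG.Defs
import Cfsg.Agent.Lib.Helper26.ASGD1.Defs
import Cfsg.Agent.Lib.Helper19.ASU.Defs
import Cfsg.Agent.Lib.Helper19.ASUADJ
import Cfsg.Agent.Lib.Helper26.ASUC.Defs
import Cfsg.Agent.Lib.Helper19.ASU33Defs

set_option autoImplicit false
set_option linter.unusedVariables false
set_option linter.unusedSectionVars false

/-!
# Project ASU, block C, case C-33 : a backup proof of the statement of 33-REL (`u33_rel`, row of helper15) under an own name.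
-/

namespace Cfsg.Agent.Lib.Helper19.ASU

open Cfsg Cfsg.Geo Cfsg.Agent.Lib.Helper27.ASC Cfsg.Agent.Lib.Helper19.ASG
open scoped MatrixGroups Matrix Kronecker

variable {n : ℕ} {F : Type*} [Field F]

theorem asuc33relb_rel (h2 : (2 : F) = 0) (ω : F) (hω : ω ^ 2 + ω + 1 = 0) :
    u33X ω ^ 3 = 1 ∧ (u33Y : Matrix (Fin 3) (Fin 3) F) ^ 3 = 1 ∧ u33X ω * u33Y = ω • (u33Y * u33X ω) ∧
    (u33T : Matrix (Fin 3) (Fin 3) F) * u33T = 1 ∧ u33T * u33X ω * u33T = u33X ω ^ 2 ∧
    (u33T : Matrix (Fin 3) (Fin 3) F) * u33Y * u33T = u33Y ^ 2 ∧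
    u33W ω * u33X ω = u33Y ^ 2 * u33W ω ∧ u33W ω * u33Y = u33X ω * u33W ω ∧
    uadj 2 (u33X ω) * u33X ω = 1 ∧ uadj 2 (u33Y : Matrix (Fin 3) (Fin 3) F) * u33Y = 1 ∧
    uadj 2 (u33T : Matrix (Fin 3) (Fin 3) F) * u33T = 1 ∧ uadj 2 (u33W ω) * u33W ω = 1 := by
  refine ⟨?_, ?_, ?_, ?_, ?_, ?_, ?_, ?_, ?_, ?_, ?_, ?_⟩
  · ext i j
    fin_cases i <;> fin_cases j <;> simp [u33X, pow_succ, Matrix.mul_apply, Fin.sum_univ_three] <;> grind
  · ext i j
    fin_cases i <;> fin_cases j <;> simp [u33Y, pow_succ, Matrix.mul_apply, Fin.sum_univ_three]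
  · ext i j
    fin_cases i <;> fin_cases j <;> simp [u33X, u33Y, Matrix.mul_apply, Fin.sum_univ_three] <;> grind
  · ext i j
    fin_cases i <;> fin_cases j <;> simp [u33T, Matrix.mul_apply, Fin.sum_univ_three]
  · ext i j
    fin_cases i <;> fin_cases j <;> simp [u33T, u33X, pow_succ, Matrix.mul_apply, Fin.sum_univ_three] <;> grind
  · ext i j
    fin_cases i <;> fin_cases j <;> simp [u33T, u33Y, pow_succ, Matrix.mul_apply, Fin.sum_univ_three]
  · ext i j
    fin_cases i <;> fin_cases j <;> simp [u33W, u33X, u33Y, pow_succ, Matrix.mul_apply, Fin.sum_univ_three] <;> grind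
  · ext i j
    fin_cases i <;> fin_cases j <;> simp [u33W, u33X, u33Y, pow_succ, Matrix.mul_apply, Fin.sum_univ_three] <;> grind
  · ext i j
    fin_cases i <;> fin_cases j <;> simp [u33X, uadj_apply, Matrix.mul_apply, Fin.sum_univ_three] <;> grind
  · ext i j
    fin_cases i <;> fin_cases j <;> simp [u33Y, uadj_apply, Matrix.mul_apply, Fin.sum_univ_three]
  · ext i j
    fin_cases i <;> fin_cases j <;> simp [u33T, uadj_apply, Matrix.mul_apply, Fin.sum_univ_three]
  · ext i j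
    fin_cases i <;> fin_cases j <;> simp [u33W, uadj_apply, Matrix.mul_apply, Fin.sum_univ_three] <;> grind

end Cfsg.Agent.Lib.Helper19.ASU
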