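import Mathlib
import Cfsg.Agent.Lib.Helper19.S5954.DefsTop
import Cfsg.Agent.Lib.helper3.S5953.Defs
import Cfsg.Agent.Lib.Helper24.ElD
import Cfsg.Agent.Lib.Helper25.S5953A1
import Cfsg.Agent.Lib.helper2.S5953A5

set_option autoImplicit false
set_option linter.unusedVariables false
set_option linter.unusedSectionVars false

/-!
# Project S5954, row OCYCDVD (core): `c = ord_r(-q)` divides the dimension of a nondegenerate invariant
`N ≤ ker Φ_r(y)`; the statement of S5953 S2 `lag_full` (at `N`) is a hypothesis.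
-/

namespace Cfsg.Agent.Lib.Helper19.S5954

open Polynomial Module Cfsg.Agent.Lib.helper3
open Cfsg.Agent.Lib.helper3.S5953 (cc bb hermI fixS cycS HInv)

/-- `ord_r(|F|) = bb (ord_r q) > 0` and `1 ≤ ord_r q`. -/
theorem s5954ocycdvd_ord {F : Type*} [Field F] [Fintype F] {p : ℕ} [Fact p.Prime] [CharP F p] {q : ℕ}
    (hF : Fintype.card F = q ^ 2) {r : ℕ} [Fact r.Prime] (hrp : r ≠ p) :
    orderOf ((Fintype.card F : ℕ) : ZMod r) = bb (orderOf (q : ZMod r)) ∧
      0 < bb (orderOf (q : ZMod r)) ∧ 1 ≤ orderOf (q : ZMod r) := by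
  have h1 : orderOf ((Fintype.card F : ℕ) : ZMod r) = bb (orderOf (q : ZMod r)) := by
    rw [hF]
    exact S5953.ord_sq q r
  have h2 : 0 < bb (orderOf (q : ZMod r)) := h1 ▸ Cfsg.Agent.Lib.Helper24.el_ord_pos (F := F) (p := p) r hrp
  refine ⟨h1, h2, ?_⟩
  rcases Nat.eq_zero_or_pos (orderOf (q : ZMod r)) with h0 | h0
  · exfalso
    rw [h0] at h2
    simp [S5953.bb] at h2
  · exact h0

/-- `b = ord_r(|F|)` divides the dimension of every invariant subspace of `ker Φ_r(y)`. -/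
theorem s5954ocycdvd_b_dvd {F : Type*} [Field F] [Fintype F] {p : ℕ} [Fact p.Prime] [CharP F p] {q n : ℕ}
    (hF : Fintype.card F = q ^ 2) {r : ℕ} [Fact r.Prime] (hrp : r ≠ p)
    {y : Module.End F (Fin n → F)} (U : Submodule F (Fin n → F)) (hU : HInv y U) (hUc : U ≤ cycS r y) :
    bb (orderOf (q : ZMod r)) ∣ finrank F U := by
  obtain ⟨h1, h2, _⟩ := s5954ocycdvd_ord (p := p) hF hrp
  rw [← h1]
  refine Cfsg.Agent.Lib.Helper24.el_dvd_dim y U hU (cyclotomic r F) (cyclotomic_ne_zero r F)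
    (fun u hu => LinearMap.mem_ker.mp (hUc hu)) _ (h1 ▸ h2) ?_
  intro P hP hPd
  exact Cfsg.Agent.Lib.Helper24.el_cyc_deg (F := F) (p := p) r hrp P hP hPd

theorem s5954ocycdvd_core {F : Type*} [Field F] [Fintype F] {p : ℕ} [Fact p.Prime] [CharP F p] {q n : ℕ}
    (hF : Fintype.card F = q ^ 2) {r : ℕ} [Fact r.Prime] (hrp : r ≠ p)
    {y : Module.End F (Fin n → F)}
    (N : Submodule F (Fin n → F)) (hN : HInv y N) (hNc : N ≤ cycS r y)
    (hS2 : orderOf (q : ZMod r) % 4 ≠ 2 → ∃ T : Submodule F (Fin n → F), T ≤ N ∧ HInv y T ∧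
      S5953.HTI q T ∧ 2 * finrank F T = finrank F N) :
    cc (orderOf (q : ZMod r)) ∣ finrank F N := by
  obtain ⟨h1, h2, h3⟩ := s5954ocycdvd_ord (p := p) hF hrp
  obtain ⟨_, hc2, hc0⟩ := S5953.s5953a5_bc (orderOf (q : ZMod r)) h3
  by_cases hi : orderOf (q : ZMod r) % 4 = 2
  · rw [hc2 hi]
    exact s5954ocycdvd_b_dvd (p := p) hF hrp N hN hNc
  · obtain ⟨T, hTN, hT, _, hTd⟩ := hS2 hi
    rw [hc0 hi, ← hTd]
    exact Nat.mul_dvd_mul_left 2 (s5954ocycdvd_b_dvd (p := p) hF hrp T hT (hTN.trans hNc))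

end Cfsg.Agent.Lib.Helper19.S5954
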