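import Mathlib
import Cfsg.Agent.Lib.helper3.S5953.Defs
import Cfsg.Agent.Lib.Helper24.ElM
import Cfsg.Agent.Lib.Helper20.S5953T1
import Cfsg.Agent.Lib.helper8.S5953T3
import Cfsg.Agent.Lib.Helper25.S5953T4

/-!
# Project S5953, row T6 (peel_ti): peel a totally isotropic invariant `U` off a non-degenerate invariant `N`
(hermitian transplant of `Lead/S5955T3`).
-/

set_option autoImplicit false
set_option linter.unusedSectionVars false
set_option linter.unusedVariables false

namespace Cfsg.Agent.Lib.helper3.S5953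

open Polynomial Module

/-- `q ≠ 0` when `|F| = q ^ 2`. -/
theorem s5953t6_q_ne {F : Type*} [Field F] [Fintype F] {q : ℕ} (hF : Fintype.card F = q ^ 2) : q ≠ 0 := by
  rintro rfl
  have := Fintype.card_pos (α := F)
  rw [hF] at this
  simp at this

/-- orthogonality is symmetric (conjugate symmetry). -/
theorem s5953t6_symm {F : Type*} [Field F] [Fintype F] {q : ℕ} (hF : Fintype.card F = q ^ 2)
    {ι : Type*} [Fintype ι] (u v : ι → F) (h : hermI ι F q u v = 0) : hermI ι F q v u = 0 := by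
  rw [hermI_conj hF u v, h, zero_pow (s5953t6_q_ne hF)]

/-- T6 [M-L] PEELTI: peel a totally isotropic invariant `U` off a non-degenerate invariant `N`
(transplant `Lead/S5955T3`; Maschke = helper24 `el_maschke`, valid for `x ^ r = z • 1`). -/
theorem peel_ti {F : Type*} [Field F] [Fintype F] {q n : ℕ} (hF : Fintype.card F = q ^ 2)
    {r : ℕ} (hrF : (r : F) ≠ 0) {z : F} {x : Module.End F (Fin n → F)} (h : HCtx q r z x)
    (N U : Submodule F (Fin n → F)) (hN : HInv x N) (hNnd : HND q N) (hUN : U ≤ N)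
    (hU : HInv x U) (hUti : HTI q U) :
    ∃ N' : Submodule F (Fin n → F), N' ≤ N ∧ HInv x N' ∧ HND q N' ∧ HOrth q U N' ∧ Disjoint U N' ∧
      finrank F N' + 2 * finrank F U = finrank F N := by
  have hr0 : r ≠ 0 := by
    rintro rfl
    exact hrF Nat.cast_zero
  have hrpos : 0 < r := Nat.pos_of_ne_zero hr0
  obtain ⟨N1, hN1⟩ : ∃ N1 : Submodule F (Fin n → F), N1 = N ⊓ hperp q U := ⟨_, rfl⟩
  have hUN1 : U ≤ N1 := by
    rw [hN1]
    intro u hu
    exact ⟨hUN hu, fun w hw => hUti u hu w hw⟩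
  obtain ⟨W0, hW0inv, hW0c⟩ := Cfsg.Agent.Lib.Helper24.el_maschke x r hrF z h.ne h.pow U hU
  have hsup : U ⊔ (N1 ⊓ W0) = N1 := by
    have := sup_inf_assoc_of_le W0 hUN1
    rw [hW0c.sup_eq_top, top_inf_eq, inf_comm] at this
    exact this.symm
  have hdisj : Disjoint U (N1 ⊓ W0) := hW0c.disjoint.mono_right inf_le_right
  have hdimN1 : finrank F N1 + finrank F U = finrank F N := by
    rw [hN1]
    exact perp_dim hF N U hNnd hUN
  have hdim' : finrank F N1 = finrank F U + finrank F ↥(N1 ⊓ W0) := by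
    have := Submodule.finrank_sup_add_finrank_inf_eq U (N1 ⊓ W0)
    rw [hsup, hdisj.eq_bot, finrank_bot, add_zero] at this
    exact this
  have hperpinv : HInv x (hperp q U) := perp_inv hrpos h U hU
  have hN1inv : HInv x N1 := by
    intro v hv
    rw [hN1] at hv ⊢
    exact ⟨hN v hv.1, hperpinv v hv.2⟩
  have hN1le : N1 ≤ N := by rw [hN1]; exact inf_le_left
  -- the double orthogonal inside N
  have hUeq : U = N ⊓ hperp q N1 := by
    apply Submodule.eq_of_le_of_finrank_eq
    · intro u hu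
      refine ⟨hUN hu, ?_⟩
      intro m hm
      rw [hN1] at hm
      exact s5953t6_symm hF _ _ (hm.2 u hu)
    · have := perp_dim hF N N1 hNnd hN1le
      omega
  refine ⟨N1 ⊓ W0, inf_le_left.trans hN1le, ?_, ?_, ?_, hdisj, by omega⟩
  · intro v hv
    exact ⟨hN1inv v hv.1, hW0inv v hv.2⟩
  · intro n' hn' hrad
    have h1 : n' ∈ N ⊓ hperp q N1 := by
      refine ⟨hN1le hn'.1, ?_⟩
      intro m hm
      rw [← hsup] at hm
      obtain ⟨u, hu, w, hw, rfl⟩ := Submodule.mem_sup.mp hm
      have h3 : n' ∈ hperp q U := by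
        have := hn'.1
        rw [hN1] at this
        exact this.2
      apply s5953t6_symm hF
      rw [hermI_add_left, s5953t6_symm hF _ _ (h3 u hu), s5953t6_symm hF _ _ (hrad w hw), add_zero]
    rw [← hUeq] at h1
    have h5 : n' ∈ U ⊓ (N1 ⊓ W0) := ⟨h1, hn'⟩
    rw [hdisj.eq_bot] at h5
    exact h5
  · intro u hu w hw
    have := hw.1
    rw [hN1] at this
    exact s5953t6_symm hF _ _ (this.2 u hu)

end Cfsg.Agent.Lib.helper3.S5953
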