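import Mathlib
import Cfsg.Agent.Lib.Helper27.S5954OCYCDVDcore
import Cfsg.Agent.Lib.Lead.S5953S2

set_option autoImplicit false
set_option linter.unusedVariables false
set_option linter.unusedSectionVars false

/-!
# Project S5954, row OCYCDVD (verbatim): `c = ord_r(-q)` divides the dimension of a nondegenerate invariant
`N ≤ ker Φ_r(y)`.
-/

namespace Cfsg.Agent.Lib.Helper19.S5954

open Polynomial Module Cfsg.Agent.Lib.helper3
open Cfsg.Agent.Lib.helper3.S5953 (cc bb hermI fixS cycS HInv)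

/-- OCYCDVD [M]: `c` divides the dimension of a nondegenerate invariant `N ≤ ker Φ_r(y)` (`i % 4 = 2`: `el_dvd_dim` + `el_cyc_deg` + A1 `ord_sq`;
otherwise S2 `lag_full`: `dim N = 2 dim T`, `b ∣ dim T`; `s5953a5_bc`). -/
theorem o_cyc_dvd {F : Type*} [Field F] [Fintype F] {p : ℕ} [Fact p.Prime] [CharP F p] {q n : ℕ}
    (hF : Fintype.card F = q ^ 2) {r : ℕ} [Fact r.Prime] (hrp : r ≠ p) (hr2 : r ≠ 2)
    {y : Module.End F (Fin n → F)} (h : S5953.HCtx q r 1 y)
    (N : Submodule F (Fin n → F)) (hN : HInv y N) (hNc : N ≤ cycS r y) (hNnd : S5953.HND q N) :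
    cc (orderOf (q : ZMod r)) ∣ finrank F N :=
  s5954ocycdvd_core (p := p) hF hrp N hN hNc
    (fun hi => S5953.lag_full hF hrp hr2 h hi N hN hNc hNnd)

end Cfsg.Agent.Lib.Helper19.S5954
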