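import Mathlib
import Cfsg.Agent.Lib.Helper27.S5954OCYCDVDcore
import Cfsg.Agent.Lib.Lead.S5953S2
import Cfsg.Agent.Lib.Helper27.S5953T6
import Cfsg.Agent.Lib.Helper9.S5953T7

set_option autoImplicit false
set_option linter.unusedVariables false
set_option linter.unusedSectionVars false

/-!
# Project S5954, row OMIN0 (verbatim): `i ≢ 2 (mod 4)` (`c = 2 b`): a non-zero nondegenerate invariant
`N ≤ ker Φ_r(y)` contains a nondegenerate invariant subspace of dimension `c`.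
-/

namespace Cfsg.Agent.Lib.Helper19.S5954

open Polynomial Module Cfsg.Agent.Lib.helper3
open Cfsg.Agent.Lib.helper3.S5953 (cc bb hermI fixS cycS HInv)

/-- OMIN0 [M]: `i ≢ 2 (mod 4)` (`c = 2 b`): S5953 S2 `lag_full` gives a t.i. invariant `T ≤ N`, `2 dim T = dim N`; `el_exists_dim` an invariant `L ≤ T` of
dimension `b`; S5953 T6 `peel_ti` gives `N' ⟂ L` with `dim N' + 2 b = dim N`, S5953 T7 `peel_nd` (or `h_peel` via OBR) the complement of `N'` in `N`. -/
theorem o_min_nd_zero {F : Type*} [Field F] [Fintype F] {p : ℕ} [Fact p.Prime] [CharP F p] {q n : ℕ}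
    (hF : Fintype.card F = q ^ 2) {r : ℕ} [Fact r.Prime] (hrp : r ≠ p) (hr2 : r ≠ 2)
    (hi : orderOf (q : ZMod r) % 4 ≠ 2) {y : Module.End F (Fin n → F)} (h : S5953.HCtx q r 1 y)
    (N : Submodule F (Fin n → F)) (hN : HInv y N) (hNc : N ≤ cycS r y) (hNnd : S5953.HND q N) (hN0 : N ≠ ⊥) :
    ∃ U : Submodule F (Fin n → F), U ≤ N ∧ HInv y U ∧ S5953.HND q U ∧
      finrank F U = cc (orderOf (q : ZMod r)) := by
  obtain ⟨h1, h2, h3⟩ := s5954ocycdvd_ord (p := p) hF hrp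
  obtain ⟨_, _, hc0⟩ := S5953.s5953a5_bc (orderOf (q : ZMod r)) h3
  have hr0 : 0 < r := (Fact.out : r.Prime).pos
  have hrF : (r : F) ≠ 0 := Cfsg.Agent.Lib.Helper24.el_cast_ne_zero (F := F) (p := p) r hrp
  obtain ⟨T, hTN, hT, hTti, hTd⟩ := S5953.lag_full hF hrp hr2 h hi N hN hNc hNnd
  have hNpos : 0 < finrank F N := by
    rw [Nat.pos_iff_ne_zero]
    intro h0
    exact hN0 (Submodule.finrank_eq_zero.mp h0)
  have hTpos : 0 < finrank F T := by omega
  have hbT : bb (orderOf (q : ZMod r)) ∣ finrank F T :=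
    s5954ocycdvd_b_dvd (p := p) hF hrp T hT (hTN.trans hNc)
  have hble : 1 * bb (orderOf (q : ZMod r)) ≤ finrank F T := by
    rw [one_mul]
    exact Nat.le_of_dvd hTpos hbT
  -- an invariant `L ≤ T` of dimension `b`
  obtain ⟨L, hLT, hL, hLd⟩ := Cfsg.Agent.Lib.Helper24.el_exists_dim y T hT (cyclotomic r F)
    (cyclotomic_ne_zero r F) (fun u hu => LinearMap.mem_ker.mp (hNc (hTN hu)))
    (bb (orderOf (q : ZMod r)))
    (fun P hP hPd => by
      rw [← h1]
      exact Cfsg.Agent.Lib.Helper24.el_cyc_deg (F := F) (p := p) r hrp P hP hPd) 1 hble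
  rw [one_mul] at hLd
  have hLti : S5953.HTI q L := fun u hu v hv => hTti u (hLT hu) v (hLT hv)
  obtain ⟨N', hN'N, hN', hN'nd, _, _, hN'd⟩ :=
    S5953.peel_ti hF hrF h N L hN hNnd (hLT.trans hTN) hL hLti
  obtain ⟨U, hUN, hU, hUnd, _, _, hUd⟩ := S5953.peel_nd hF hr0 h N N' hN hNnd hN'N hN' hN'nd
  refine ⟨U, hUN, hU, hUnd, ?_⟩
  rw [hc0 hi]
  omega

end Cfsg.Agent.Lib.Helper19.S5954
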