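import Mathlib
import Cfsg.Agent.Lib.helper3.S5956.Defs
import Cfsg.Agent.Lib.helper7.S5955T4
import Cfsg.Agent.Lib.Helper20.S5956A2

/-!
# Project S5956, row T1 (invol_nd): an involutory isometry of a nondegenerate alternating space (`2 ≠ 0`)
has nondegenerate invariant subspaces of every even dimension (peel hyperbolic planes inside the eigenspaces).
-/

set_option autoImplicit false
set_option linter.unusedSectionVars false
set_option linter.unusedVariables false

namespace Cfsg.Agent.Lib.helper3.S5956

open Polynomial Module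
open Cfsg.Agent.Lib.Helper13.S5955 Cfsg.Agent.Lib.Helper24

universe u

/-- the plane `⟨a, b⟩`, `B a b ≠ 0`, of an alternating space: nondegenerate, of dimension `2`. -/
theorem s5956t1_plane {F : Type*} [Field F] {V : Type*} [AddCommGroup V] [Module F V]
    {B : LinearMap.BilinForm F V} (halt : ∀ v, B v v = 0) (a b : V) (hab : B a b ≠ 0) :
    SND B (Submodule.span F {a, b}) ∧ finrank F (Submodule.span F {a, b}) = 2 := by
  have hba : B b a = -B a b := s5956a2_skew halt _ _
  refine ⟨?_, ?_⟩
  · intro u hu hall
    obtain ⟨s, t, rfl⟩ := Submodule.mem_span_pair.mp hu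
    have h1 := hall a (Submodule.subset_span (by simp))
    have h3 := hall b (Submodule.subset_span (by simp))
    simp only [map_add, map_smul, LinearMap.add_apply, LinearMap.smul_apply, smul_eq_mul, halt, hba,
      mul_zero, zero_add, add_zero, mul_neg, neg_eq_zero] at h1 h3
    have ht : t = 0 := by
      rcases mul_eq_zero.mp h1 with h | h
      · exact h
      · exact absurd h hab
    have hs : s = 0 := by
      rcases mul_eq_zero.mp h3 with h | h
      · exact h
      · exact absurd h hab
    rw [hs, ht, zero_smul, zero_smul, add_zero]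
  · have hli : LinearIndependent F ![a, b] := by
      rw [LinearIndependent.pair_iff]
      intro s t hst
      have h1 : B (s • a + t • b) a = 0 := by rw [hst]; simp
      have h3 : B (s • a + t • b) b = 0 := by rw [hst]; simp
      simp only [map_add, map_smul, LinearMap.add_apply, LinearMap.smul_apply, smul_eq_mul, halt, hba,
        mul_zero, zero_add, add_zero, mul_neg, neg_eq_zero] at h1 h3
      constructor
      · rcases mul_eq_zero.mp h3 with h | h
        · exact h
        · exact absurd h hab
      · rcases mul_eq_zero.mp h1 with h | h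
        · exact h
        · exact absurd h hab
    have h := finrank_span_eq_card hli
    rw [Fintype.card_fin] at h
    have hr : Set.range ![a, b] = {a, b} := by
      ext z
      simp only [Set.mem_range, Set.mem_insert_iff, Set.mem_singleton_iff]
      constructor
      · rintro ⟨i, rfl⟩
        fin_cases i
        · left; rfl
        · right; rfl
      · rintro (rfl | rfl)
        · exact ⟨0, rfl⟩
        · exact ⟨1, rfl⟩
    rw [hr] at h
    exact h

/-- the ladder: if every non-zero nondegenerate invariant subspace contains a nondegenerate invariant plane, then every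
nondegenerate invariant `N` contains nondegenerate invariant subspaces of every even dimension `≤ dim N`. -/
theorem s5956t1_ladder {F : Type*} [Field F] {V : Type*} [AddCommGroup V] [Module F V]
    [FiniteDimensional F V] {r : ℕ} (hr : 0 < r) {B : LinearMap.BilinForm F V}
    {x : Module.End F V} (h : SCtx r B x)
    (hplane : ∀ N : Submodule F V, SInv x N → SND B N → N ≠ ⊥ →
      ∃ P : Submodule F V, P ≤ N ∧ SInv x P ∧ SND B P ∧ finrank F P = 2) :
    ∀ (k : ℕ) (N : Submodule F V), SInv x N → SND B N → 2 * k ≤ finrank F N →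
      ∃ W : Submodule F V, W ≤ N ∧ SInv x W ∧ SND B W ∧ finrank F W = 2 * k := by
  intro k
  induction k with
  | zero =>
    intro N hN hNnd hk
    refine ⟨⊥, bot_le, ?_, ?_, ?_⟩
    · intro w hw
      rw [Submodule.mem_bot] at hw ⊢
      rw [hw, map_zero]
    · intro u hu _
      exact (Submodule.mem_bot F).mp hu
    · rw [finrank_bot]
  | succ k ih =>
    intro N hN hNnd hk
    have hN0 : N ≠ ⊥ := by
      intro h0
      rw [h0, finrank_bot] at hk
      omega
    obtain ⟨P, hPN, hPinv, hPnd, hPdim⟩ := hplane N hN hNnd hN0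
    obtain ⟨N', hN'N, hN'inv, hN'nd, hPN', hdisj, hdim⟩ :=
      Cfsg.Agent.Lib.Helper13.S5955.peel_nd hr h N P hN hNnd hPN hPinv hPnd
    obtain ⟨W', hW'N', hW'inv, hW'nd, hW'dim⟩ := ih N' hN'inv hN'nd (by omega)
    have horth : SOrth B P W' := fun u hu w hw => hPN' u hu w (hW'N' hw)
    obtain ⟨hnd, _, hfr⟩ := nd_sup B h.alt P W' hPnd hW'nd horth
    refine ⟨P ⊔ W', sup_le hPN (hW'N'.trans hN'N), ?_, hnd, ?_⟩
    · intro w hw
      obtain ⟨p, hp, w', hw', rfl⟩ := Submodule.mem_sup.mp hw
      rw [map_add]
      exact Submodule.add_mem _ (Submodule.mem_sup_left (hPinv p hp)) (Submodule.mem_sup_right (hW'inv w' hw'))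
    · rw [hfr, hPdim, hW'dim]
      ring

/-- an involutory isometry: every non-zero nondegenerate invariant subspace contains a nondegenerate invariant plane. -/
theorem s5956t1_exists_plane {F : Type*} [Field F] {V : Type*} [AddCommGroup V] [Module F V]
    (h2 : (2 : F) ≠ 0) {B : LinearMap.BilinForm F V} {x : Module.End F V} (h : SCtx 2 B x)
    (N : Submodule F V) (hN : SInv x N) (hNnd : SND B N) (hN0 : N ≠ ⊥) :
    ∃ P : Submodule F V, P ≤ N ∧ SInv x P ∧ SND B P ∧ finrank F P = 2 := by
  have hxx : ∀ v, x (x v) = v := by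
    intro v
    have := h.pow
    rw [pow_two] at this
    rw [← Module.End.mul_apply, this, Module.End.one_apply]
  -- the key construction: an eigenvector `u ∈ N`, `x u = ε u`, `ε = ±1`, `u ≠ 0`
  have key : ∀ (ε : F), ε * ε = 1 → ∀ u ∈ N, u ≠ 0 → x u = ε • u →
      ∃ P : Submodule F V, P ≤ N ∧ SInv x P ∧ SND B P ∧ finrank F P = 2 := by
    intro ε hε u huN hu0 hxu
    obtain ⟨f, hfN, huf⟩ : ∃ f ∈ N, B u f ≠ 0 := by
      by_contra hcon
      push Not at hcon
      exact hu0 (hNnd u huN hcon)
    set g := f + ε • x f with hg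
    have hgN : g ∈ N := N.add_mem hfN (N.smul_mem _ (hN f hfN))
    have hxg : x g = ε • g := by
      rw [hg, map_add, map_smul, hxx, smul_add, smul_smul, hε, one_smul, add_comm]
    have huxf : B u (x f) = ε * B u f := by
      have h1 := h.pres u (x f)
      rw [hxx, hxu, map_smul, LinearMap.smul_apply, smul_eq_mul] at h1
      exact h1.symm
    have hug : B u g = 2 * B u f := by
      rw [hg, map_add, map_smul, smul_eq_mul, huxf, ← mul_assoc, hε]
      ring
    have hug0 : B u g ≠ 0 := by
      rw [hug]
      exact mul_ne_zero h2 huf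
    obtain ⟨hPnd, hPdim⟩ := s5956t1_plane h.alt u g hug0
    refine ⟨Submodule.span F {u, g}, ?_, ?_, hPnd, hPdim⟩
    · rw [Submodule.span_le]
      intro z hz
      rcases hz with rfl | hz
      · exact huN
      · rw [Set.mem_singleton_iff] at hz
        rw [hz]
        exact hgN
    · intro w hw
      obtain ⟨s, t, rfl⟩ := Submodule.mem_span_pair.mp hw
      rw [map_add, map_smul, map_smul, hxu, hxg]
      refine Submodule.mem_span_pair.mpr ⟨s * ε, t * ε, ?_⟩
      rw [smul_smul, smul_smul]
  obtain ⟨e, heN, he0⟩ := Submodule.exists_mem_ne_zero_of_ne_bot hN0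
  by_cases hp : e + x e = 0
  · -- `x e = -e`
    have hxe : x e = (-1 : F) • e := by
      rw [neg_smul, one_smul]
      exact (eq_neg_of_add_eq_zero_right hp)
    exact key (-1) (by ring) e heN he0 hxe
  · have hxp : x (e + x e) = (1 : F) • (e + x e) := by
      rw [map_add, hxx, one_smul, add_comm]
    exact key 1 (by ring) (e + x e) (N.add_mem heN (hN e heN)) hp hxp

/-- T1 [M] INVOLND: an involutory isometry, `2 ≠ 0`: eigenspaces `V₊ ⟂ V₋`. -/
theorem invol_nd {F : Type*} [Field F] {V : Type*} [AddCommGroup V] [Module F V]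
    [FiniteDimensional F V] (h2 : (2 : F) ≠ 0) {B : LinearMap.BilinForm F V}
    {x : Module.End F V} (h : SCtx 2 B x) (d m : ℕ) (hV : finrank F V = 2 * d)
    (hme : Even m) (hmd : m ≤ 2 * d) : NDd B x m := by
  obtain ⟨k, rfl⟩ := hme
  obtain ⟨W, _, hWinv, hWnd, hWdim⟩ := s5956t1_ladder (by norm_num : 0 < 2) h
    (s5956t1_exists_plane h2 h) k ⊤
    (fun w _ => Submodule.mem_top) (fun u _ hu => h.nd u (fun v => hu v Submodule.mem_top))
    (by rw [finrank_top, hV]; omega)
  exact ⟨W, hWinv, hWnd, by rw [hWdim]; ring⟩

end Cfsg.Agent.Lib.helper3.S5956
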