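import Mathlib
import Cfsg.Agent.Lib.helper3.S5956.Defs
import Cfsg.Agent.Lib.helper7.S5955T4
import Cfsg.Agent.Lib.Helper20.S5956A2

/-!
# Project S5956, row T2 (sqneg_nd): an isometry `x` with `x * x = -1` of a nondegenerate alternating space (`2 ≠ 0`)
has nondegenerate invariant subspaces of every even dimension (peel the planes `⟨v, x v⟩`, `B v (x v) ≠ 0`).
-/

set_option autoImplicit false
set_option linter.unusedSectionVars false
set_option linter.unusedVariables false

namespace Cfsg.Agent.Lib.helper3.S5956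

open Polynomial Module
open Cfsg.Agent.Lib.Helper13.S5955 Cfsg.Agent.Lib.Helper24

universe u

/-- `x * x = -1` pointwise. -/
theorem s5956t2_xx {F : Type*} [Field F] {V : Type*} [AddCommGroup V] [Module F V]
    {x : Module.End F V} (hx : x * x = -1) (v : V) : x (x v) = -v := by
  rw [← Module.End.mul_apply, hx]
  rfl

/-- the form `(u, v) ↦ B u (x v)` is symmetric. -/
theorem s5956t2_sym {F : Type*} [Field F] {V : Type*} [AddCommGroup V] [Module F V]
    {B : LinearMap.BilinForm F V} {x : Module.End F V} (halt : ∀ v, B v v = 0)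
    (hpres : ∀ u v, B (x u) (x v) = B u v) (hx : x * x = -1) (u v : V) : B v (x u) = B u (x v) := by
  have h1 := hpres v (x u)
  rw [s5956t2_xx hx, map_neg] at h1
  rw [s5956a2_skew halt u (x v)]
  linear_combination -h1

/-- a non-zero nondegenerate invariant subspace contains `v` with `B v (x v) ≠ 0`. -/
theorem s5956t2_exists {F : Type*} [Field F] {V : Type*} [AddCommGroup V] [Module F V]
    (h2 : (2 : F) ≠ 0) {B : LinearMap.BilinForm F V} {x : Module.End F V} (halt : ∀ v, B v v = 0)
    (hpres : ∀ u v, B (x u) (x v) = B u v) (hx : x * x = -1)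
    (N : Submodule F V) (hN : SInv x N) (hNnd : SND B N) (hN0 : N ≠ ⊥) :
    ∃ v ∈ N, B v (x v) ≠ 0 := by
  obtain ⟨e, heN, he0⟩ := Submodule.exists_mem_ne_zero_of_ne_bot hN0
  obtain ⟨f0, hf0N, hef0⟩ : ∃ f0 ∈ N, B e f0 ≠ 0 := by
    by_contra hcon
    push Not at hcon
    exact he0 (hNnd e heN hcon)
  set w := -(x f0) with hw
  have hwN : w ∈ N := N.neg_mem (hN f0 hf0N)
  have hxw : x w = f0 := by rw [hw, map_neg, s5956t2_xx hx, neg_neg]
  by_contra hcon
  push Not at hcon
  have h1 := hcon e heN
  have h3 := hcon w hwN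
  have h4 := hcon (e + w) (N.add_mem heN hwN)
  rw [map_add, map_add, map_add, LinearMap.add_apply, LinearMap.add_apply, h1, h3,
    s5956t2_sym halt hpres hx e w, hxw] at h4
  apply hef0
  have : (2 : F) * B e f0 = 0 := by linear_combination h4
  rcases mul_eq_zero.mp this with h | h
  · exact absurd h h2
  · exact h

/-- the plane `⟨v, x v⟩`, `B v (x v) ≠ 0`: invariant, nondegenerate, of dimension `2`. -/
theorem s5956t2_plane {F : Type*} [Field F] {V : Type*} [AddCommGroup V] [Module F V]
    {B : LinearMap.BilinForm F V} {x : Module.End F V} (halt : ∀ v, B v v = 0)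
    (hx : x * x = -1) (v : V) (hv : B v (x v) ≠ 0) :
    SInv x (Submodule.span F {v, x v}) ∧ SND B (Submodule.span F {v, x v}) ∧
      finrank F (Submodule.span F {v, x v}) = 2 := by
  have hxv : B (x v) v = -B v (x v) := s5956a2_skew halt _ _
  refine ⟨?_, ?_, ?_⟩
  · intro u hu
    obtain ⟨a, b, rfl⟩ := Submodule.mem_span_pair.mp hu
    rw [map_add, map_smul, map_smul, s5956t2_xx hx]
    refine Submodule.mem_span_pair.mpr ⟨-b, a, ?_⟩
    rw [neg_smul, smul_neg]
    abel
  · intro u hu hall
    obtain ⟨a, b, rfl⟩ := Submodule.mem_span_pair.mp hu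
    have h1 := hall v (Submodule.subset_span (by simp))
    have h3 := hall (x v) (Submodule.subset_span (by simp))
    simp only [map_add, map_smul, LinearMap.add_apply, LinearMap.smul_apply, smul_eq_mul, halt, hxv,
      mul_zero, zero_add, add_zero, mul_neg, neg_eq_zero] at h1 h3
    have hb : b = 0 := by
      rcases mul_eq_zero.mp h1 with h | h
      · exact h
      · exact absurd h hv
    have ha : a = 0 := by
      rcases mul_eq_zero.mp h3 with h | h
      · exact h
      · exact absurd h hv
    rw [ha, hb, zero_smul, zero_smul, add_zero]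
  · have hli : LinearIndependent F ![v, x v] := by
      rw [LinearIndependent.pair_iff]
      intro a b hab
      have h1 : B (a • v + b • x v) v = 0 := by rw [hab]; simp
      have h3 : B (a • v + b • x v) (x v) = 0 := by rw [hab]; simp
      simp only [map_add, map_smul, LinearMap.add_apply, LinearMap.smul_apply, smul_eq_mul, halt, hxv,
        mul_zero, zero_add, add_zero, mul_neg, neg_eq_zero] at h1 h3
      constructor
      · rcases mul_eq_zero.mp h3 with h | h
        · exact h
        · exact absurd h hv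
      · rcases mul_eq_zero.mp h1 with h | h
        · exact h
        · exact absurd h hv
    have h := finrank_span_eq_card hli
    rw [Fintype.card_fin] at h
    have hr : Set.range ![v, x v] = {v, x v} := by
      ext z
      simp only [Set.mem_range, Set.mem_insert_iff, Set.mem_singleton_iff]
      constructor
      · rintro ⟨i, rfl⟩
        fin_cases i
        · left; rfl
        · right; rfl
      · rintro (rfl | rfl)
        · exact ⟨0, rfl⟩
        · exact ⟨1, rfl⟩
    rw [hr] at h
    exact h

/-- the ladder inside a nondegenerate invariant subspace. -/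
theorem s5956t2_ladder {F : Type*} [Field F] {V : Type*} [AddCommGroup V] [Module F V]
    [FiniteDimensional F V] (h2 : (2 : F) ≠ 0) {B : LinearMap.BilinForm F V}
    {x : Module.End F V} (h : SCtx 4 B x) (hx : x * x = -1) :
    ∀ (k : ℕ) (N : Submodule F V), SInv x N → SND B N → 2 * k ≤ finrank F N →
      ∃ W : Submodule F V, W ≤ N ∧ SInv x W ∧ SND B W ∧ finrank F W = 2 * k := by
  intro k
  induction k with
  | zero =>
    intro N hN hNnd hk
    refine ⟨⊥, bot_le, ?_, ?_, ?_⟩
    · intro w hw
      rw [Submodule.mem_bot] at hw ⊢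
      rw [hw, map_zero]
    · intro u hu _
      exact (Submodule.mem_bot F).mp hu
    · rw [finrank_bot]
  | succ k ih =>
    intro N hN hNnd hk
    have hN0 : N ≠ ⊥ := by
      intro h0
      rw [h0, finrank_bot] at hk
      omega
    obtain ⟨v, hvN, hv⟩ := s5956t2_exists h2 h.alt h.pres hx N hN hNnd hN0
    obtain ⟨hPinv, hPnd, hPdim⟩ := s5956t2_plane h.alt hx v hv
    set P := Submodule.span F {v, x v} with hP
    have hPN : P ≤ N := by
      rw [hP, Submodule.span_le]
      intro z hz
      rcases hz with rfl | hz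
      · exact hvN
      · rw [Set.mem_singleton_iff] at hz
        rw [hz]
        exact hN v hvN
    obtain ⟨N', hN'N, hN'inv, hN'nd, hPN', hdisj, hdim⟩ :=
      Cfsg.Agent.Lib.Helper13.S5955.peel_nd (by norm_num : 0 < 4) h N P hN hNnd hPN hPinv hPnd
    obtain ⟨W', hW'N', hW'inv, hW'nd, hW'dim⟩ := ih N' hN'inv hN'nd (by omega)
    have horth : SOrth B P W' := fun u hu w hw => hPN' u hu w (hW'N' hw)
    obtain ⟨hnd, _, hfr⟩ := nd_sup B h.alt P W' hPnd hW'nd horth
    refine ⟨P ⊔ W', sup_le hPN (hW'N'.trans hN'N), ?_, hnd, ?_⟩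
    · intro w hw
      obtain ⟨p, hp, w', hw', rfl⟩ := Submodule.mem_sup.mp hw
      rw [map_add]
      exact Submodule.add_mem _ (Submodule.mem_sup_left (hPinv p hp)) (Submodule.mem_sup_right (hW'inv w' hw'))
    · rw [hfr, hPdim, hW'dim]
      ring

/-- T2 [M] SQNEGND: an isometry with `x * x = -1`, `2 ≠ 0`: peel planes `⟨v, x v⟩` with
`B v (x v) ≠ 0` (the form `(u, v) ↦ B u (x v)` is symmetric and nondegenerate). -/
theorem sqneg_nd {F : Type*} [Field F] {V : Type*} [AddCommGroup V] [Module F V]
    [FiniteDimensional F V] (h2 : (2 : F) ≠ 0) {B : LinearMap.BilinForm F V}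
    {x : Module.End F V} (h : SCtx 4 B x) (hx : x * x = -1) (d m : ℕ)
    (hV : finrank F V = 2 * d) (hme : Even m) (hmd : m ≤ 2 * d) : NDd B x m := by
  obtain ⟨k, rfl⟩ := hme
  obtain ⟨W, _, hWinv, hWnd, hWdim⟩ := s5956t2_ladder h2 h hx k ⊤
    (fun w _ => Submodule.mem_top) (fun u _ hu => h.nd u (fun v => hu v Submodule.mem_top))
    (by rw [finrank_top, hV]; omega)
  exact ⟨W, hWinv, hWnd, by rw [hWdim]; ring⟩

end Cfsg.Agent.Lib.helper3.S5956
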