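import Mathlib
import Cfsg.Agent.Lib.helper4.MCPRHP

/-!
# Project MCX: the sign-twisted filtration on `G × G`

For a filtration `Y` of `G` by normal subgroups with `[G, Y k] ≤ Y (k+1)`, the subgroups
`tw Y k = {(u, v) ∈ Y k × Y k | v ≡ u ^ ((-1)^(k+1)) mod Y (k+1)}` of `G × G` form a filtration with
the same properties, stable under `z ↦ ⁅X⁻¹, z⁆` for `X = (x, x⁻¹)`.  Applying the refined
Hall-Petrescu formula `rhp` in `G × G` separates the terms of odd and even weight.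
-/

set_option autoImplicit false

namespace Cfsg.Agent.Lib.Helper27.MCX

open scoped commutatorElement

/-! ## Abstract identities -/

section abstract
variable {Q : Type*} [Group Q]

/-- sign by the parity of the level: inversion at even levels -/
def sg (k : ℕ) (u : Q) : Q := if Even k then u⁻¹ else u

theorem sg_one (k : ℕ) : sg k (1 : Q) = 1 := by
  unfold sg; split_ifs <;> simp

theorem map_sg {R : Type*} [Group R] (f : Q →* R) (k : ℕ) (u : Q) :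
    f (sg k u) = sg k (f u) := by
  unfold sg; split_ifs <;> simp

theorem sg_mul_of_commute (k : ℕ) (u v : Q) (h : Commute u v) :
    sg k (u * v) = sg k u * sg k v := by
  unfold sg; split_ifs
  · rw [mul_inv_rev]; exact (h.inv_inv).eq.symm
  · rfl

theorem sg_inv (k : ℕ) (u : Q) : sg k u⁻¹ = (sg k u)⁻¹ := by
  unfold sg; split_ifs <;> simp

theorem sg_mem (H : Subgroup Q) (k : ℕ) {u : Q} (hu : u ∈ H) : sg k u ∈ H := by
  unfold sg; split_ifs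
  · exact H.inv_mem hu
  · exact hu

theorem sg_of_even {k : ℕ} (hk : Even k) (u : Q) : sg k u = u⁻¹ := by
  unfold sg; rw [if_pos hk]

theorem sg_of_odd {k : ℕ} (hk : Odd k) (u : Q) : sg k u = u := by
  unfold sg; rw [if_neg (Nat.not_even_iff_odd.2 hk)]

theorem comm_mul_mul (a b c d : Q) (h1 : Commute b c) (h2 : Commute b d) (h3 : Commute d a) :
    ⁅a * b, c * d⁆ = ⁅a, c⁆ := by
  simp only [commutatorElement_def, mul_inv_rev]
  have e1 : b * (c * d) = (c * d) * b := (h1.mul_right h2).eq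
  have e2 : d * a⁻¹ = a⁻¹ * d := (h3.inv_right).eq
  calc a * b * (c * d) * (b⁻¹ * a⁻¹) * (d⁻¹ * c⁻¹)
      = a * (b * (c * d)) * b⁻¹ * a⁻¹ * d⁻¹ * c⁻¹ := by group
    _ = a * (c * d * b) * b⁻¹ * a⁻¹ * d⁻¹ * c⁻¹ := by rw [e1]
    _ = a * c * (d * a⁻¹) * d⁻¹ * c⁻¹ := by group
    _ = a * c * (a⁻¹ * d) * d⁻¹ * c⁻¹ := by rw [e2]
    _ = a * c * a⁻¹ * c⁻¹ := by group

theorem comm_sg (a b : ℕ) (u u' : Q) (hc : ∀ g, Commute g ⁅u, u'⁆) :
    ⁅sg a u, sg b u'⁆ = sg (a + b + 1) ⁅u, u'⁆ := by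
  have i1 : ⁅u⁻¹, u'⁆ = u⁻¹ * ⁅u, u'⁆⁻¹ * u := by simp only [commutatorElement_def]; group
  have i2 : ⁅u, u'⁻¹⁆ = u'⁻¹ * ⁅u, u'⁆⁻¹ * u' := by simp only [commutatorElement_def]; group
  have i3 : ⁅u⁻¹, u'⁻¹⁆ = (u' * u)⁻¹ * ⁅u, u'⁆ * (u' * u) := by
    simp only [commutatorElement_def]; group
  have c1 : ∀ g : Q, g⁻¹ * ⁅u, u'⁆⁻¹ * g = ⁅u, u'⁆⁻¹ := fun g => by
    rw [((hc g⁻¹).inv_right).eq, mul_assoc, inv_mul_cancel, mul_one]
  have c2 : ∀ g : Q, g⁻¹ * ⁅u, u'⁆ * g = ⁅u, u'⁆ := fun g => by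
    rw [(hc g⁻¹).eq, mul_assoc, inv_mul_cancel, mul_one]
  have h3 : Even (a + b + 1) ↔ ¬ (Even a ↔ Even b) := by rw [Nat.even_add_one, Nat.even_add]
  by_cases ha : Even a <;> by_cases hb : Even b
  · have h4 : ¬ Even (a + b + 1) := by rw [h3]; simp [ha, hb]
    unfold sg; rw [if_pos ha, if_pos hb, if_neg h4, i3, c2]
  · have h4 : Even (a + b + 1) := by rw [h3]; simp [ha, hb]
    unfold sg; rw [if_pos ha, if_neg hb, if_pos h4, i1, c1]
  · have h4 : Even (a + b + 1) := by rw [h3]; simp [ha, hb]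
    unfold sg; rw [if_neg ha, if_pos hb, if_pos h4, i2, c1]
  · have h4 : ¬ Even (a + b + 1) := by rw [h3]; simp [ha, hb]
    unfold sg; rw [if_neg ha, if_neg hb, if_neg h4]

end abstract

variable {G : Type*} [Group G]

/-- hypotheses on a filtration: normal subgroups, decreasing, `[G, Y k] ≤ Y (k + 1)` -/
structure FH (Y : ℕ → Subgroup G) : Prop where
  norm : ∀ k, (Y k).Normal
  anti : ∀ k, Y (k + 1) ≤ Y k
  top : ∀ k (g : G), ∀ z ∈ Y k, ⁅g, z⁆ ∈ Y (k + 1)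

theorem FH.central {Y : ℕ → Subgroup G} (hY : FH Y) (k : ℕ) [(Y (k + 1)).Normal] {z : G}
    (hz : z ∈ Y k) (q : G ⧸ Y (k + 1)) : Commute q (QuotientGroup.mk z) := by
  induction q using QuotientGroup.induction_on with
  | H g =>
    have h : (QuotientGroup.mk ⁅g, z⁆ : G ⧸ Y (k + 1)) = 1 :=
      (QuotientGroup.eq_one_iff _).2 (hY.top k g z hz)
    have h2 : ⁅(QuotientGroup.mk g : G ⧸ Y (k + 1)), (QuotientGroup.mk z : G ⧸ Y (k + 1))⁆ = 1 := by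
      rw [← h]
      simp [commutatorElement_def]
    exact commutatorElement_eq_one_iff_commute.1 h2

theorem FH.mono {Y : ℕ → Subgroup G} (hY : FH Y) {a b : ℕ} (h : a ≤ b) : Y b ≤ Y a := by
  induction h with
  | refl => exact le_rfl
  | step _ ih => exact le_trans (hY.anti _) ih

/-- the twisted filtration on `G × G` -/
def tw (Y : ℕ → Subgroup G) (hY : FH Y) (k : ℕ) : Subgroup (G × G) where
  carrier := {w | w.1 ∈ Y k ∧ w.2 ∈ Y k ∧ (sg k w.1)⁻¹ * w.2 ∈ Y (k + 1)}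
  one_mem' := by
    refine ⟨(Y k).one_mem, (Y k).one_mem, ?_⟩
    simp [sg_one, (Y (k + 1)).one_mem]
  mul_mem' := by
    rintro ⟨u, v⟩ ⟨u', v'⟩ ⟨hu, hv, h⟩ ⟨hu', hv', h'⟩
    have := hY.norm (k + 1)
    refine ⟨(Y k).mul_mem hu hu', (Y k).mul_mem hv hv', ?_⟩
    simp only [Prod.mk_mul_mk] at h h' ⊢
    rw [← QuotientGroup.eq] at h h' ⊢
    have hc : Commute (QuotientGroup.mk u : G ⧸ Y (k + 1)) (QuotientGroup.mk u') :=
      hY.central k hu' _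
    rw [QuotientGroup.mk_mul, ← h, ← h']
    have e := map_sg (QuotientGroup.mk' (Y (k + 1))) k
    simp only [QuotientGroup.mk'_apply] at e
    rw [e, e, e, QuotientGroup.mk_mul, sg_mul_of_commute k _ _ hc]
  inv_mem' := by
    rintro ⟨u, v⟩ ⟨hu, hv, h⟩
    have := hY.norm (k + 1)
    refine ⟨(Y k).inv_mem hu, (Y k).inv_mem hv, ?_⟩
    simp only [Prod.inv_mk] at h ⊢
    rw [← QuotientGroup.eq] at h ⊢
    have e := map_sg (QuotientGroup.mk' (Y (k + 1))) k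
    simp only [QuotientGroup.mk'_apply] at e
    rw [QuotientGroup.mk_inv, ← h, e, e, QuotientGroup.mk_inv, sg_inv]

theorem mem_tw {Y : ℕ → Subgroup G} (hY : FH Y) (k : ℕ) (w : G × G) :
    w ∈ tw Y hY k ↔ w.1 ∈ Y k ∧ w.2 ∈ Y k ∧ (sg k w.1)⁻¹ * w.2 ∈ Y (k + 1) := Iff.rfl

/-- membership in terms of the quotient -/
theorem mem_tw_quot {Y : ℕ → Subgroup G} (hY : FH Y) (k : ℕ) [(Y (k + 1)).Normal] (u v : G) :
    (u, v) ∈ tw Y hY k ↔ u ∈ Y k ∧ v ∈ Y k ∧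
      (QuotientGroup.mk v : G ⧸ Y (k + 1)) = sg k (QuotientGroup.mk u) := by
  rw [mem_tw]
  have e := map_sg (QuotientGroup.mk' (Y (k + 1))) k u
  simp only [QuotientGroup.mk'_apply] at e
  rw [← e, ← QuotientGroup.eq, eq_comm]

theorem tw_normal {Y : ℕ → Subgroup G} (hY : FH Y) (k : ℕ) : (tw Y hY k).Normal := by
  constructor
  rintro ⟨u, v⟩ h ⟨g, g'⟩
  have := hY.norm (k + 1)
  rw [mem_tw_quot] at h
  obtain ⟨hu, hv, h⟩ := h
  show (g * u * g⁻¹, g' * v * g'⁻¹) ∈ tw Y hY k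
  rw [mem_tw_quot]
  refine ⟨(hY.norm k).conj_mem u hu g, (hY.norm k).conj_mem v hv g', ?_⟩
  have e1 : (QuotientGroup.mk (g * u * g⁻¹) : G ⧸ Y (k + 1)) = QuotientGroup.mk u := by
    rw [QuotientGroup.mk_mul, QuotientGroup.mk_mul, QuotientGroup.mk_inv,
      (hY.central k hu (QuotientGroup.mk g)).eq, mul_inv_cancel_right]
  have e2 : (QuotientGroup.mk (g' * v * g'⁻¹) : G ⧸ Y (k + 1)) = QuotientGroup.mk v := by
    rw [QuotientGroup.mk_mul, QuotientGroup.mk_mul, QuotientGroup.mk_inv,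
      (hY.central k hv (QuotientGroup.mk g')).eq, mul_inv_cancel_right]
  rw [e1, e2, h]

theorem tw_anti {Y : ℕ → Subgroup G} (hY : FH Y) (k : ℕ) : tw Y hY (k + 1) ≤ tw Y hY k := by
  rintro ⟨u, v⟩ ⟨hu, hv, -⟩
  exact ⟨hY.anti k hu, hY.anti k hv,
    (Y (k + 1)).mul_mem ((Y (k + 1)).inv_mem (sg_mem _ k hu)) hv⟩

theorem prod_comm (a b c d : G) : ⁅((a, b) : G × G), (c, d)⁆ = (⁅a, c⁆, ⁅b, d⁆) := by
  simp [commutatorElement_def]

theorem tw_tau {Y : ℕ → Subgroup G} (hY : FH Y) (x : G) (k : ℕ) :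
    ∀ z ∈ tw Y hY k, ⁅((x, x⁻¹) : G × G)⁻¹, z⁆ ∈ tw Y hY (k + 1) := by
  rintro ⟨u, v⟩ h
  have := hY.norm (k + 1)
  have := hY.norm (k + 1 + 1)
  rw [mem_tw_quot] at h
  obtain ⟨hu, hv, h⟩ := h
  rw [Prod.inv_mk, inv_inv, prod_comm, mem_tw_quot]
  refine ⟨hY.top k _ u hu, hY.top k _ v hv, ?_⟩
  -- `v = sg k u * w` with `w ∈ Y (k + 1)`
  have hw : (sg k u)⁻¹ * v ∈ Y (k + 1) := by
    have e := map_sg (QuotientGroup.mk' (Y (k + 1))) k u
    simp only [QuotientGroup.mk'_apply] at e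
    rw [← QuotientGroup.eq, e, h]
  set w := (sg k u)⁻¹ * v with hwdef
  have hv' : v = sg k u * w := by rw [hwdef]; group
  have e := map_sg (QuotientGroup.mk' (Y (k + 1 + 1)))
  simp only [QuotientGroup.mk'_apply] at e
  have hcw : ∀ q : G ⧸ Y (k + 1 + 1), Commute q (QuotientGroup.mk w) :=
    fun q => hY.central (k + 1) hw q
  have hcc : ∀ q : G ⧸ Y (k + 1 + 1), Commute q
      ⁅(QuotientGroup.mk x⁻¹ : G ⧸ Y (k + 1 + 1)), (QuotientGroup.mk u : G ⧸ Y (k + 1 + 1))⁆ := by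
    intro q
    have h1 := hY.central (k + 1) (hY.top k x⁻¹ u hu) q
    have h2 : (QuotientGroup.mk ⁅x⁻¹, u⁆ : G ⧸ Y (k + 1 + 1)) =
        ⁅(QuotientGroup.mk x⁻¹ : G ⧸ Y (k + 1 + 1)), (QuotientGroup.mk u : G ⧸ Y (k + 1 + 1))⁆ := by
      simp [commutatorElement_def]
    rw [← h2]
    exact h1
  have h3 : (QuotientGroup.mk ⁅x, v⁆ : G ⧸ Y (k + 1 + 1)) =
      ⁅(QuotientGroup.mk x : G ⧸ Y (k + 1 + 1)) * 1,
        sg k (QuotientGroup.mk u : G ⧸ Y (k + 1 + 1)) * QuotientGroup.mk w⁆ := by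
    rw [hv', mul_one, ← e, ← QuotientGroup.mk_mul]
    simp [commutatorElement_def]
  rw [h3, comm_mul_mul _ _ _ _ (Commute.one_left _) (Commute.one_left _) (hcw _).symm]
  have h4 := comm_sg 0 k (QuotientGroup.mk x⁻¹ : G ⧸ Y (k + 1 + 1)) (QuotientGroup.mk u) hcc
  rw [sg_of_even (by decide : Even 0), QuotientGroup.mk_inv, inv_inv, zero_add] at h4
  rw [h4, ← QuotientGroup.mk_inv]
  have h5 : (QuotientGroup.mk ⁅x⁻¹, u⁆ : G ⧸ Y (k + 1 + 1)) =
      ⁅(QuotientGroup.mk x⁻¹ : G ⧸ Y (k + 1 + 1)), (QuotientGroup.mk u : G ⧸ Y (k + 1 + 1))⁆ := by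
    simp [commutatorElement_def]
  rw [h5]

theorem tw_comm {Y : ℕ → Subgroup G} (hY : FH Y)
    (hYY : ∀ a b, 1 ≤ a → 1 ≤ b → ⁅Y a, Y b⁆ ≤ Y (a + b + 1)) :
    ∀ a b, 1 ≤ a → 1 ≤ b → ⁅tw Y hY a, tw Y hY b⁆ ≤ tw Y hY (a + b + 1) := by
  intro a b ha hb
  rw [Subgroup.commutator_le]
  rintro ⟨u, v⟩ h ⟨u', v'⟩ h'
  have := hY.norm (a + 1)
  have := hY.norm (b + 1)
  have := hY.norm (a + b + 1 + 1)
  rw [mem_tw_quot] at h h'
  obtain ⟨hu, hv, h⟩ := h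
  obtain ⟨hu', hv', h'⟩ := h'
  rw [prod_comm, mem_tw_quot]
  refine ⟨hYY a b ha hb (Subgroup.commutator_mem_commutator hu hu'),
    hYY a b ha hb (Subgroup.commutator_mem_commutator hv hv'), ?_⟩
  have hw : (sg a u)⁻¹ * v ∈ Y (a + 1) := by
    have e := map_sg (QuotientGroup.mk' (Y (a + 1))) a u
    simp only [QuotientGroup.mk'_apply] at e
    rw [← QuotientGroup.eq, e, h]
  have hw' : (sg b u')⁻¹ * v' ∈ Y (b + 1) := by
    have e := map_sg (QuotientGroup.mk' (Y (b + 1))) b u'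
    simp only [QuotientGroup.mk'_apply] at e
    rw [← QuotientGroup.eq, e, h']
  set w := (sg a u)⁻¹ * v with hwdef
  set w' := (sg b u')⁻¹ * v' with hwdef'
  have hv1 : v = sg a u * w := by rw [hwdef]; group
  have hv1' : v' = sg b u' * w' := by rw [hwdef']; group
  -- commutation in the quotient
  have hcomm : ∀ (i j : ℕ), 1 ≤ i → 1 ≤ j → a + b + 1 + 1 ≤ i + j + 1 → ∀ r ∈ Y i, ∀ t ∈ Y j,
      Commute (QuotientGroup.mk r : G ⧸ Y (a + b + 1 + 1)) (QuotientGroup.mk t) := by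
    intro i j hi hj hij r hr t ht
    have h1 : ⁅r, t⁆ ∈ Y (a + b + 1 + 1) :=
      hY.mono hij (hYY i j hi hj (Subgroup.commutator_mem_commutator hr ht))
    have h2 : (QuotientGroup.mk ⁅r, t⁆ : G ⧸ Y (a + b + 1 + 1)) = 1 :=
      (QuotientGroup.eq_one_iff _).2 h1
    have h3 : ⁅(QuotientGroup.mk r : G ⧸ Y (a + b + 1 + 1)),
        (QuotientGroup.mk t : G ⧸ Y (a + b + 1 + 1))⁆ = 1 := by
      rw [← h2]; simp [commutatorElement_def]
    exact commutatorElement_eq_one_iff_commute.1 h3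
  have e := map_sg (QuotientGroup.mk' (Y (a + b + 1 + 1)))
  simp only [QuotientGroup.mk'_apply] at e
  have hcc : ∀ q : G ⧸ Y (a + b + 1 + 1), Commute q
      ⁅(QuotientGroup.mk u : G ⧸ Y (a + b + 1 + 1)),
        (QuotientGroup.mk u' : G ⧸ Y (a + b + 1 + 1))⁆ := by
    intro q
    have h1 := hY.central (a + b + 1)
      (hYY a b ha hb (Subgroup.commutator_mem_commutator hu hu')) q
    have h2 : (QuotientGroup.mk ⁅u, u'⁆ : G ⧸ Y (a + b + 1 + 1)) =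
        ⁅(QuotientGroup.mk u : G ⧸ Y (a + b + 1 + 1)),
          (QuotientGroup.mk u' : G ⧸ Y (a + b + 1 + 1))⁆ := by
      simp [commutatorElement_def]
    rw [← h2]
    exact h1
  have h3 : (QuotientGroup.mk ⁅v, v'⁆ : G ⧸ Y (a + b + 1 + 1)) =
      ⁅sg a (QuotientGroup.mk u : G ⧸ Y (a + b + 1 + 1)) * QuotientGroup.mk w,
        sg b (QuotientGroup.mk u' : G ⧸ Y (a + b + 1 + 1)) * QuotientGroup.mk w'⁆ := by
    rw [hv1, hv1', ← e, ← e, ← QuotientGroup.mk_mul, ← QuotientGroup.mk_mul]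
    simp [commutatorElement_def]
  have k1 : Commute (QuotientGroup.mk w : G ⧸ Y (a + b + 1 + 1))
      (sg b (QuotientGroup.mk u' : G ⧸ Y (a + b + 1 + 1))) := by
    rw [← e]
    exact hcomm (a + 1) b (by omega) hb (by omega) w hw _ (sg_mem _ b hu')
  have k2 : Commute (QuotientGroup.mk w : G ⧸ Y (a + b + 1 + 1))
      (QuotientGroup.mk w' : G ⧸ Y (a + b + 1 + 1)) :=
    hcomm (a + 1) b (by omega) hb (by omega) w hw _ (hY.anti b hw')
  have k3 : Commute (QuotientGroup.mk w' : G ⧸ Y (a + b + 1 + 1))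
      (sg a (QuotientGroup.mk u : G ⧸ Y (a + b + 1 + 1))) := by
    rw [← e]
    exact (hcomm a (b + 1) ha (by omega) (by omega) _ (sg_mem _ a hu) w' hw').symm
  rw [h3, comm_mul_mul _ _ _ _ k1 k2 k3, comm_sg a b _ _ hcc]
  have h5 : (QuotientGroup.mk ⁅u, u'⁆ : G ⧸ Y (a + b + 1 + 1)) =
      ⁅(QuotientGroup.mk u : G ⧸ Y (a + b + 1 + 1)),
        (QuotientGroup.mk u' : G ⧸ Y (a + b + 1 + 1))⁆ := by
    simp [commutatorElement_def]
  rw [h5]

theorem iter_prod (x y : G) (m : ℕ) :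
    (fun z : G × G => ⁅((x, x⁻¹) : G × G)⁻¹, z⁆)^[m] (y, y) =
      ((fun z => ⁅x⁻¹, z⁆)^[m] y, (fun z => ⁅x, z⁆)^[m] y) := by
  induction m with
  | zero => rfl
  | succ m ih =>
    rw [Function.iterate_succ_apply', Function.iterate_succ_apply', Function.iterate_succ_apply',
      ih, Prod.inv_mk, inv_inv, prod_comm]

theorem mem_tw_diag {Y : ℕ → Subgroup G} (hY : FH Y) {y : G} (hy : y ∈ Y 1) :
    ((y, y) : G × G) ∈ tw Y hY 1 := by
  refine ⟨hy, hy, ?_⟩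
  show (sg 1 y)⁻¹ * y ∈ Y (1 + 1)
  rw [sg_of_odd (by decide : Odd 1), inv_mul_cancel]
  exact (Y (1 + 1)).one_mem

/-- the iterated commutators with `x⁻¹` and with `x` agree up to the sign and the next term of the
filtration -/
theorem twist_iter {Y : ℕ → Subgroup G} (hY : FH Y) (x y : G) (hy : y ∈ Y 1) (m : ℕ) :
    ((fun z => ⁅x⁻¹, z⁆)^[m] y, (fun z => ⁅x, z⁆)^[m] y) ∈ tw Y hY (m + 1) := by
  induction m with
  | zero => exact mem_tw_diag hY hy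
  | succ m ih =>
    have h := tw_tau hY x (m + 1) _ ih
    rw [Prod.inv_mk, inv_inv, prod_comm] at h
    rw [Function.iterate_succ_apply', Function.iterate_succ_apply']
    exact h

theorem twist_iter_eq {Y : ℕ → Subgroup G} (hY : FH Y) (x y : G) (hy : y ∈ Y 1) (p : ℕ)
    (hodd : Odd p) (hbot : Y (p + 1) = ⊥) :
    (fun z => ⁅x, z⁆)^[p - 1] y = (fun z => ⁅x⁻¹, z⁆)^[p - 1] y := by
  have h := twist_iter hY x y hy (p - 1)
  have hp1 : p - 1 + 1 = p := by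
    obtain ⟨k, hk⟩ := hodd
    omega
  rw [hp1] at h
  obtain ⟨-, -, h3⟩ := h
  simp only at h3
  rw [hbot, Subgroup.mem_bot, sg_of_odd hodd, inv_mul_eq_one] at h3
  exact h3.symm

/-- the refined Hall-Petrescu formula for `x` and for `x⁻¹` simultaneously: the two error terms are
inverse to each other (`p` odd) -/
theorem twist_main {Y : ℕ → Subgroup G} (hY : FH Y)
    (hYY : ∀ a b, 1 ≤ a → 1 ≤ b → ⁅Y a, Y b⁆ ≤ Y (a + b + 1))
    (p : ℕ) (hp : p.Prime) (hodd : Odd p) (hexp : ∀ z ∈ Y 2, z ^ p = 1) (hbot : Y (p + 2) = ⊥)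
    (x y : G) (hy : y ∈ Y 1) :
    ∃ c ∈ Y (p + 1),
      x⁻¹ ^ p * (x * y) ^ p = y ^ p * ((fun z => ⁅x⁻¹, z⁆)^[p - 1] y) * c ∧
      x ^ p * (x⁻¹ * y) ^ p = y ^ p * ((fun z => ⁅x, z⁆)^[p - 1] y) * c⁻¹ := by
  have hN : (tw Y hY (p + 1)).Normal := tw_normal hY (p + 1)
  obtain ⟨w, hw, he⟩ := Cfsg.Agent.Lib.helper4.MCP.rhp ((x, x⁻¹) : G × G) (tw Y hY)
    (tw_normal hY) (tw_anti hY) (tw_tau hY x) (tw_comm hY hYY) p hp (tw Y hY (p + 1)) le_rfl
    (by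
      rintro ⟨u, v⟩ ⟨hu, hv, -⟩
      have : ((u, v) : G × G) ^ p = 1 := by
        rw [Prod.pow_mk, hexp u hu, hexp v hv]; rfl
      rw [this]
      exact (tw Y hY (p + 1)).one_mem)
    (y, y) (mem_tw_diag hY hy)
  obtain ⟨c, c'⟩ := w
  obtain ⟨hc, hc', h3⟩ := hw
  simp only at hc hc' h3
  have hev : Even (p + 1) := by
    obtain ⟨k, hk⟩ := hodd
    exact ⟨k + 1, by omega⟩
  rw [hbot, Subgroup.mem_bot, sg_of_even hev, inv_inv, mul_eq_one_iff_inv_eq] at h3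
  subst h3
  rw [iter_prod] at he
  refine ⟨c, hc, ?_, ?_⟩
  · have := congrArg Prod.fst he
    simpa using this
  · have := congrArg Prod.snd he
    simpa using this

end Cfsg.Agent.Lib.Helper27.MCX
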