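import Mathlib
import Cfsg.Agent.Lib.Helper27.MCXTWIST
import Cfsg.Agent.Lib.Helper18.GBT.Main
import Cfsg.Agent.Lib.Helper18.GBTPD
import Cfsg.Agent.Lib.Helper18.GBTCHAIN
import Cfsg.Agent.Lib.Helper19.MCPCOMM

/-!
# Project MCX, piece EXP: a `p`-group of maximal class of order `p ^ (p + 1)` (`p` odd) does not have
exponent `p`
-/

set_option autoImplicit false

namespace Cfsg.Agent.Lib.Helper27.MCX

open Cfsg.Agent.Lib.Helper18.PRL Cfsg.Agent.Lib.Helper18.GBT
open scoped commutatorElement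

universe u

/-- level function of the doubled filtration -/
def lev (p k : ℕ) : ℕ := if k ≤ p then p + 1 - k else if k = p + 1 then 1 else 0

section gen
variable {G : Type u} [Group G]

/-- the filtration `H, H, Z_{e 2}, Z_{e 3}, …` -/
def filt (H : Subgroup G) (e : ℕ → ℕ) (k : ℕ) : Subgroup G := if k ≤ 1 then H else Z G (e k)

theorem filt_of_le (H : Subgroup G) (e : ℕ → ℕ) {k : ℕ} (hk : k ≤ 1) : filt H e k = H :=
  if_pos hk

theorem filt_of_ge (H : Subgroup G) (e : ℕ → ℕ) {k : ℕ} (hk : 2 ≤ k) :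
    filt H e k = Z G (e k) := if_neg (by omega)

theorem comm_mem_Z_pred (m : ℕ) (g z : G) (hz : z ∈ Z G m) : ⁅g, z⁆ ∈ Z G (m - 1) := by
  have h1 : ⁅z, g⁆ ∈ ⁅Z G m, (⊤ : Subgroup G)⁆ :=
    Subgroup.commutator_mem_commutator hz (Subgroup.mem_top g)
  have h2 := h18gbt_comm_top_le m h1
  have h3 := inv_mem h2
  rwa [commutatorElement_inv] at h3

theorem filt_FH (H : Subgroup G) [hn : H.Normal] (e : ℕ → ℕ) (hcomm : commutator G ≤ Z G (e 2))
    (hZH : Z G (e 2) ≤ H) (hanti : ∀ k, 2 ≤ k → e (k + 1) ≤ e k)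
    (hdrop : ∀ k, 2 ≤ k → e k ≤ e (k + 1) + 1) : FH (filt H e) where
  norm k := by
    unfold filt; split_ifs
    · exact hn
    · infer_instance
  anti k := by
    rcases Nat.lt_or_ge k 1 with h0 | h1
    · rw [filt_of_le H e (by omega : k + 1 ≤ 1), filt_of_le H e (by omega : k ≤ 1)]
    rcases Nat.lt_or_ge k 2 with h1' | h2
    · have : k = 1 := by omega
      subst this
      rw [filt_of_le H e le_rfl, filt_of_ge H e le_rfl]
      exact hZH
    · rw [filt_of_ge H e h2, filt_of_ge H e (by omega : 2 ≤ k + 1)]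
      exact Subgroup.upperCentralSeries_mono G (hanti k h2)
  top k g z hz := by
    rcases Nat.lt_or_ge k 1 with h0 | h1
    · rw [filt_of_le H e (by omega : k ≤ 1)] at hz
      rw [filt_of_le H e (by omega : k + 1 ≤ 1)]
      rw [commutatorElement_def]
      exact H.mul_mem (hn.conj_mem z hz g) (H.inv_mem hz)
    rcases Nat.lt_or_ge k 2 with h1' | h2
    · have : k = 1 := by omega
      subst this
      rw [filt_of_ge H e le_rfl]
      exact hcomm (Subgroup.commutator_mem_commutator (Subgroup.mem_top g) (Subgroup.mem_top z))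
    · rw [filt_of_ge H e h2] at hz
      rw [filt_of_ge H e (by omega : 2 ≤ k + 1)]
      have h3 := comm_mem_Z_pred (e k) g z hz
      exact Subgroup.upperCentralSeries_mono G (by have := hdrop k h2; omega) h3

/-- a section of order `p ^ 2` is abelian -/
theorem comm_self_le {p : ℕ} [Fact p.Prime] [Finite G] (H N : Subgroup G) [N.Normal] (hNH : N ≤ H)
    (hcard : Nat.card H = p ^ 2 * Nat.card N) : ⁅H, H⁆ ≤ N := by
  have hK : (N.subgroupOf H).Normal := Subgroup.normal_subgroupOf
  have h1 : Nat.card (H ⧸ N.subgroupOf H) = p ^ 2 := by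
    have h2 : Nat.card (H ⧸ N.subgroupOf H) = N.relIndex H := rfl
    have h3 := Subgroup.relIndex_mul_relIndex ⊥ N H bot_le hNH
    rw [Subgroup.relIndex_bot_left, Subgroup.relIndex_bot_left, hcard] at h3
    have hpos : 0 < Nat.card N := Nat.card_pos
    rw [h2]
    exact Nat.eq_of_mul_eq_mul_left hpos (by rw [h3, mul_comm])
  have hcomm : ∀ a b : H ⧸ N.subgroupOf H, a * b = b * a := by
    have := IsPGroup.isMulCommutative_of_card_eq_prime_sq h1
    exact fun a b => mul_comm' a b
  rw [Subgroup.commutator_le]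
  intro x hx y hy
  have h4 := hcomm (QuotientGroup.mk ⟨x, hx⟩) (QuotientGroup.mk ⟨y, hy⟩)
  have h5 : (QuotientGroup.mk ⁅(⟨x, hx⟩ : H), ⟨y, hy⟩⁆ : H ⧸ N.subgroupOf H) = 1 := by
    have : (QuotientGroup.mk ⁅(⟨x, hx⟩ : H), ⟨y, hy⟩⁆ : H ⧸ N.subgroupOf H) =
        ⁅(QuotientGroup.mk ⟨x, hx⟩ : H ⧸ N.subgroupOf H), QuotientGroup.mk ⟨y, hy⟩⁆ :=
      map_commutatorElement (QuotientGroup.mk' (N.subgroupOf H)) ⟨x, hx⟩ ⟨y, hy⟩
    rw [this]
    exact commutatorElement_eq_one_iff_commute.2 h4
  rw [QuotientGroup.eq_one_iff, Subgroup.mem_subgroupOf] at h5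
  simpa [commutatorElement_def] using h5

end gen

section mc
variable {p : ℕ} [Fact p.Prime] {G : Type u} [Group G] [Finite G] {n : ℕ}

omit [Finite G] in
theorem card_index_p (h : MC p G n) (hn : 1 ≤ n) (H : Subgroup G) (hH : H.index = p) :
    Nat.card H = p ^ (n - 1) := by
  have hpp : p.Prime := Fact.out
  have h1 := Subgroup.card_mul_index H
  rw [hH, h.1] at h1
  have hsplit : p ^ n = p ^ (n - 1) * p := by
    rw [← pow_succ]; congr 1; omega
  rw [hsplit] at h1
  exact Nat.eq_of_mul_eq_mul_right hpp.pos h1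

theorem normal_of_index_p (h : MC p G n) (H : Subgroup G) (hH : H.index = p) : H.Normal := by
  have hle : commutator G ≤ H := commutator_le_of_index h H hH
  refine ⟨fun x hx g => ?_⟩
  have h1 : g * x * g⁻¹ = ⁅g, x⁆ * x := by rw [commutatorElement_def]; group
  rw [h1]
  exact H.mul_mem (hle (Subgroup.commutator_mem_commutator (Subgroup.mem_top g)
    (Subgroup.mem_top x))) hx

theorem filt_comm (h : MC p G n) (hnp : n = p + 1) (hp3 : 3 ≤ p) (H : Subgroup G)
    (hH : H.index = p) (hyp : Hyp G n H) :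
    ∀ a b, 1 ≤ a → 1 ≤ b →
      ⁅filt H (lev p) a, filt H (lev p) b⁆ ≤ filt H (lev p) (a + b + 1) := by
  have hpp : p.Prime := Fact.out
  -- (A)
  have hHH : ⁅H, H⁆ ≤ Z G (p - 2) := by
    apply comm_self_le (p := p) H (Z G (p - 2))
    · calc Z G (p - 2) ≤ Z G (n - 2) := Subgroup.upperCentralSeries_mono G (by omega)
        _ = commutator G := (commutator_eq_Z h (by omega)).symm
        _ ≤ H := commutator_le_of_index h H hH
    · rw [card_Z h (by omega) (p - 2) (by omega), card_index_p h (by omega) H hH, ← pow_add]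
      congr 1; omega
  -- (B)
  have hHZ : ∀ j m, (if 3 ≤ j ∧ j ≤ p - 1 then j - 2 else j - 1) ≤ m →
      ⁅H, Z G j⁆ ≤ Z G m := by
    intro j m hm
    rw [Subgroup.commutator_le]
    intro x hx z hz
    split_ifs at hm with hj
    · exact Subgroup.upperCentralSeries_mono G hm (hyp j hj.1 (by omega) x hx z hz)
    · exact Subgroup.upperCentralSeries_mono G hm (comm_mem_Z_pred j x z hz)
  -- (C)
  have hZZ : ∀ i j m, i ≤ p - 1 → j ≤ p - 1 →
      (p + 2 ≤ i + j → max (i + j - (p + 2)) 1 ≤ m) → ⁅Z G i, Z G j⁆ ≤ Z G m := by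
    intro i j m hi hj hm
    by_cases hij : p + 2 ≤ i + j
    · have h1 := pd h (by omega) H hH 3 (by norm_num) ((hypFrom_three n H).2 hyp) i j
        (by omega) (by omega)
      refine le_trans h1 (Subgroup.upperCentralSeries_mono G ?_)
      have h2 := hm hij
      omega
    · have h1 := Cfsg.Agent.Lib.helper4.MCP.commutator_Z_le h (by omega) i j (by omega)
      refine le_trans h1 (Subgroup.upperCentralSeries_mono G ?_)
      omega
  intro a b ha hb
  have hab : 2 ≤ a + b + 1 := by omega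
  rw [filt_of_ge H _ hab]
  rcases Nat.lt_or_ge a 2 with ha1 | ha2 <;> rcases Nat.lt_or_ge b 2 with hb1 | hb2
  · rw [filt_of_le H _ (by omega : a ≤ 1), filt_of_le H _ (by omega : b ≤ 1)]
    have : a = 1 := by omega
    subst this
    have : b = 1 := by omega
    subst this
    refine le_trans hHH (Subgroup.upperCentralSeries_mono G ?_)
    simp only [lev]; split_ifs <;> omega
  · rw [filt_of_le H _ (by omega : a ≤ 1), filt_of_ge H _ hb2]
    apply hHZ
    have : a = 1 := by omega
    subst this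
    simp only [lev]; split_ifs <;> omega
  · rw [filt_of_ge H _ ha2, filt_of_le H _ (by omega : b ≤ 1), Subgroup.commutator_comm]
    apply hHZ
    have : b = 1 := by omega
    subst this
    simp only [lev]; split_ifs <;> omega
  · rw [filt_of_ge H _ ha2, filt_of_ge H _ hb2]
    apply hZZ
    · simp only [lev]; split_ifs <;> omega
    · simp only [lev]; split_ifs <;> omega
    · simp only [lev]; split_ifs <;> omega

/-- MCX-EXP, with the order written as `p ^ n`, `n = p + 1` -/
theorem exists_pow_ne_one_aux (hp : p ≠ 2) (h : MC p G n) (hnp : n = p + 1) :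
    ∃ g : G, g ^ p ≠ 1 := by
  by_contra hall
  push Not at hall
  have hpp : p.Prime := Fact.out
  have hp3 : 3 ≤ p := by
    have := hpp.two_le
    omega
  have hodd : Odd p := hpp.odd_of_ne_two hp
  obtain ⟨H, hH, hyp, -⟩ := blackburn hp h (by omega)
  obtain ⟨s, hsH, hU⟩ := exists_unif h (by omega) hp H hH
    (HypFrom.mono ((hypFrom_three n H).2 hyp) (by norm_num))
  obtain ⟨s1, hs1, hs1'⟩ := exists_mem_notMem_commutator h (by omega) H hH
  have S : Setting p G n 3 H s s1 := ⟨h, hH, (hypFrom_three n H).2 hyp, hsH, hU, hs1, hs1'⟩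
  have hHn : H.Normal := normal_of_index_p h H hH
  have hcomm := commutator_eq_Z h (by omega)
  have hcH := commutator_le_of_index h H hH
  -- the doubled filtration
  have hl2 : lev p 2 = n - 2 := by simp only [lev]; split_ifs <;> omega
  have hFd : FH (filt H (lev p)) := by
    apply filt_FH H (lev p)
    · rw [hl2, ← hcomm]
    · rw [hl2, ← hcomm]; exact hcH
    · intro k hk; simp only [lev]; split_ifs <;> omega
    · intro k hk; simp only [lev]; split_ifs <;> omega
  -- the plain filtration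
  have hFu : FH (filt H (fun k => p + 1 - k)) := by
    apply filt_FH H (fun k => p + 1 - k)
    · show commutator G ≤ Z G (p + 1 - 2)
      rw [hcomm, hnp]
    · show Z G (p + 1 - 2) ≤ H
      rw [← hnp, ← hcomm]; exact hcH
    · intro k hk; show p + 1 - (k + 1) ≤ p + 1 - k; omega
    · intro k hk; show p + 1 - k ≤ p + 1 - (k + 1) + 1; omega
  have hy1 : s1 ∈ filt H (lev p) 1 := by rw [filt_of_le H _ le_rfl]; exact hs1
  have hy1' : s1 ∈ filt H (fun k => p + 1 - k) 1 := by rw [filt_of_le H _ le_rfl]; exact hs1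
  have hbot : filt H (lev p) (p + 2) = ⊥ := by
    rw [filt_of_ge H _ (by omega)]
    have : lev p (p + 2) = 0 := by simp only [lev]; split_ifs <;> omega
    rw [this]
    exact Subgroup.upperCentralSeries_zero G
  have hbot' : filt H (fun k => p + 1 - k) (p + 1) = ⊥ := by
    rw [filt_of_ge H _ (by omega)]
    show Z G (p + 1 - (p + 1)) = ⊥
    rw [Nat.sub_self]
    exact Subgroup.upperCentralSeries_zero G
  obtain ⟨c, -, e1, e2⟩ := twist_main hFd (filt_comm h hnp hp3 H hH hyp) p hpp hodd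
    (fun z _ => hall z) hbot s⁻¹ s1 hy1
  have e3 := twist_iter_eq hFu s⁻¹ s1 hy1' p hodd hbot'
  simp only [inv_inv] at e1 e2 e3
  rw [hall, hall, hall, one_mul, one_mul] at e1 e2
  rw [e3] at e2
  -- `t = ch s s1 p`
  have ht : ch s s1 p ≠ 1 := by
    have h1 := ch_notMem S (by omega) p (by omega) (by omega)
    have h0 : n - p - 1 = 0 := by omega
    rw [h0] at h1
    intro h2
    apply h1
    rw [h2]
    exact one_mem _
  apply ht
  show (fun x => ⁅s, x⁆)^[p - 1] s1 = 1
  set t := (fun x => ⁅s, x⁆)^[p - 1] s1 with htdef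
  have hc : c = t⁻¹ := by
    rw [eq_comm, inv_eq_iff_mul_eq_one]; exact e1.symm
  rw [hc, inv_inv] at e2
  -- `t * t = 1` and `t ^ p = 1`
  obtain ⟨k, hk⟩ := hodd
  have h3 := hall t
  rw [hk, pow_succ, pow_mul, pow_two, ← e2, one_pow, one_mul] at h3
  exact h3

/-- MCX-EXP -/
theorem exists_pow_ne_one (hp : p ≠ 2) (h : MC p G (p + 1)) : ∃ g : G, g ^ p ≠ 1 :=
  exists_pow_ne_one_aux hp h rfl

end mc

end Cfsg.Agent.Lib.Helper27.MCX
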