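import Mathlib
import Cfsg.Agent.Lib.Helper18.OCT.Defs
import Cfsg.Agent.Lib.Helper27.OCGZ3
import Cfsg.Agent.Lib.Helper27.OCGZ4

/-!
# OCG row X7, core: `card_G2_eq_mul` (orbit-stabiliser) with the statements of Z5 (`act_mem_Idem`) and X3 (`exists_act_e1`)
as hypotheses.  No finiteness is needed: `(e, s) ↦ rep e * s` is a bijection `Idem F × Stab → G2 F`.
-/

set_option autoImplicit false

namespace Cfsg.Agent.Lib.Helper18.OCT

open Cfsg.Lie Matrix
open scoped MatrixGroups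

section X

variable {F : Type*} [Field F]

/-- `e1` is a non-trivial idempotent. -/
theorem ocgx7_e1_mem : (e1 : Oct F) ∈ Idem F := by
  rw [mem_Idem_iff]
  simp [e1, dot3]

/-- X7 core. -/
theorem ocgx7_core
    (hZ5 : ∀ (g : GL (Fin 8) F), g ∈ G2 F → ∀ e : Oct F, e ∈ Idem F → act g e ∈ Idem F)
    (hX3 : ∀ e : Oct F, e ∈ Idem F → ∃ g ∈ G2 F, act g e1 = e) :
    Nat.card ↥(G2 F) =
      Nat.card (Idem F) * Nat.card {g : ↥(G2 F) // act (g : GL (Fin 8) F) e1 = e1} := by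
  classical
  have hex : ∀ e : Idem F, ∃ g : ↥(G2 F), act (g : GL (Fin 8) F) e1 = (e : Oct F) := by
    rintro ⟨e, he⟩
    obtain ⟨g, hg, h⟩ := hX3 e he
    exact ⟨⟨g, hg⟩, h⟩
  choose rep hrep using hex
  rw [← Nat.card_prod]
  symm
  let f : Idem F × {g : ↥(G2 F) // act (g : GL (Fin 8) F) e1 = e1} → ↥(G2 F) :=
    fun p => rep p.1 * p.2.1
  have hact : ∀ p, act ((f p : ↥(G2 F)) : GL (Fin 8) F) e1 = (p.1 : Oct F) := by
    rintro ⟨e, s, hs⟩
    show act (((rep e * s : ↥(G2 F))) : GL (Fin 8) F) e1 = (e : Oct F)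
    rw [Subgroup.coe_mul, ocgz3_act_mul, hs, hrep]
  refine Nat.card_eq_of_bijective f ⟨?_, ?_⟩
  · rintro ⟨e, s⟩ ⟨e', s'⟩ h
    have h1 : (e : Oct F) = e' := by
      have := hact (e, s)
      rw [h, hact] at this
      exact this.symm
    have h2 : e = e' := Subtype.ext h1
    subst h2
    have h3 : rep e * s.1 = rep e * s'.1 := h
    have h4 : s.1 = s'.1 := mul_left_cancel h3
    rw [Subtype.ext h4]
  · intro g
    have hmem : act ((g : ↥(G2 F)) : GL (Fin 8) F) e1 ∈ Idem F := hZ5 g g.2 e1 ocgx7_e1_mem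
    set e : Idem F := ⟨_, hmem⟩ with he
    refine ⟨(e, ⟨(rep e)⁻¹ * g, ?_⟩), ?_⟩
    · rw [Subgroup.coe_mul, ocgz3_act_mul]
      have h1 : act ((g : ↥(G2 F)) : GL (Fin 8) F) e1 = act ((rep e : ↥(G2 F)) : GL (Fin 8) F) e1 := by
        rw [hrep]
      rw [h1, ← ocgz3_act_mul, ← Subgroup.coe_mul, inv_mul_cancel, Subgroup.coe_one, ocgz3_act_one]
    · show rep e * ((rep e)⁻¹ * g) = g
      rw [mul_inv_cancel_left]

end X

end Cfsg.Agent.Lib.Helper18.OCT
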