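import Mathlib
import Cfsg.Agent.Lib.Helper18.OCT.Defs
import Cfsg.Agent.Lib.Helper20.OCGZ5
import Cfsg.Agent.Lib.Helper18.OCGX3
import Cfsg.Agent.Lib.Helper27.OCGX7core

/-!
# OCG row X7: `card_G2_eq_mul` (verbatim from `Helper18/OCT/Skel.lean.txt`) = `ocgx7_core` on the landed Z5, X3.
-/

set_option autoImplicit false

namespace Cfsg.Agent.Lib.Helper18.OCT

open Cfsg.Lie Matrix
open scoped MatrixGroups

section X

variable {F : Type*} [Field F]

/-- X7 [M]. Orbit-stabiliser.  `φ : ↥(G2 F) → Idem F`, `g ↦ act g e1` (Z5; `e1 ∈ Idem F` by Z4) is surjective (X3) and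
`φ g = φ h ↔ g⁻¹ * h ∈ Stab`, so every fibre has `Nat.card Stab` elements (`g * ·` is a bijection `Stab → fibre`).  Or make
`MulAction ↥(G2 F) (Oct F)` from `act` (G6) and use `MulAction.card_orbit_mul_card_stabilizer_eq_card_group`. -/
theorem card_G2_eq_mul [Finite F] :
    Nat.card ↥(G2 F) =
      Nat.card (Idem F) * Nat.card {g : ↥(G2 F) // act (g : GL (Fin 8) F) e1 = e1} :=
  ocgx7_core act_mem_Idem exists_act_e1

end X

end Cfsg.Agent.Lib.Helper18.OCT
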