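import Mathlib
import Cfsg.Agent.Lib.Helper18.OCT.Defs
import Cfsg.Agent.Lib.helper14.SubB

/-!
# OCG row X8, core: `card_G2` with the statements of X7 (`card_G2_eq_mul`), Z7 (`card_Idem`), X6 (`card_stab`)
as hypotheses.
-/

set_option autoImplicit false

namespace Cfsg.Agent.Lib.Helper18.OCT

open Cfsg.Lie Matrix
open scoped MatrixGroups

section X

variable {F : Type*} [Field F]

/-- `|SL₃(F)| = q³ (q² - 1)(q³ - 1)`. -/
theorem ocgx8_card_SL3 [Fintype F] {q : ℕ} (hq : Fintype.card F = q) :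
    Nat.card (Matrix.SpecialLinearGroup (Fin 3) F) = q ^ 3 * ((q ^ 2 - 1) * (q ^ 3 - 1)) := by
  have h := Cfsg.Agent.Lib.helper14.SubB.card_SL_formula (K := F) q hq 3 (by norm_num)
  have hq2 : 2 ≤ q := by
    rw [← hq]
    exact Fintype.one_lt_card
  have hpos : 0 < q - 1 := by omega
  have e : q ^ (∑ i ∈ Finset.range 3, i) * ∏ i ∈ Finset.range 3, (q ^ (i + 1) - 1) =
      (q ^ 3 * ((q ^ 2 - 1) * (q ^ 3 - 1))) * (q - 1) := by
    simp [Finset.sum_range_succ, Finset.prod_range_succ]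
    ring
  rw [e] at h
  exact Nat.eq_of_mul_eq_mul_right hpos h

/-- the arithmetic of X8. -/
theorem ocgx8_arith (q : ℕ) (hq2 : 2 ≤ q) :
    (q ^ 6 + q ^ 3) * (q ^ 3 * ((q ^ 2 - 1) * (q ^ 3 - 1))) = q ^ 6 * (q ^ 6 - 1) * (q ^ 2 - 1) := by
  have h3 : 1 ≤ q ^ 3 := Nat.one_le_pow _ _ (by omega)
  obtain ⟨a, ha⟩ : ∃ a, q ^ 3 = a + 1 := ⟨q ^ 3 - 1, by omega⟩
  have h6 : q ^ 6 = (a + 1) ^ 2 := by rw [← ha, ← pow_mul]
  have h6' : q ^ 6 - 1 = a * (a + 2) := by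
    rw [h6]
    have : (a + 1) ^ 2 = a * (a + 2) + 1 := by ring
    rw [this, Nat.add_sub_cancel]
  rw [h6', h6, ha, Nat.add_sub_cancel]
  ring

/-- X8 core. -/
theorem ocgx8_core [Fintype F] {q : ℕ} (hq : Fintype.card F = q)
    (hX7 : Nat.card ↥(G2 F) =
      Nat.card (Idem F) * Nat.card {g : ↥(G2 F) // act (g : GL (Fin 8) F) e1 = e1})
    (hZ7 : Nat.card (Idem F) = q ^ 6 + q ^ 3)
    (hX6 : Nat.card {g : ↥(G2 F) // act (g : GL (Fin 8) F) e1 = e1} =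
      Nat.card (Matrix.SpecialLinearGroup (Fin 3) F)) :
    Nat.card ↥(G2 F) = q ^ 6 * (q ^ 6 - 1) * (q ^ 2 - 1) := by
  have hq2 : 2 ≤ q := by
    rw [← hq]
    exact Fintype.one_lt_card
  rw [hX7, hZ7, hX6, ocgx8_card_SL3 hq, ocgx8_arith q hq2]

end X

end Cfsg.Agent.Lib.Helper18.OCT
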