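import Mathlib
import Cfsg.Agent.Lib.Helper27.SU5P.Pres
import Cfsg.Agent.Lib.Helper19.SU5.Defs
import Cfsg.Agent.Lib.Helper27.STU.Frob
import Cfsg.Prelude.Def_Classical

/-!
# Project SU5 (designer helper19), part 2, row X1 (`su5_mainU`), CORE (helper27): from the statement of X0 `ug_isoU`
(`∃ K D P, Nonempty (UG P ≃* SU 5 F q)`) to the presentation of `SU₅(q)` with 6 generators and at most 54 (in fact 53) relators.
-/

set_option autoImplicit false

namespace Cfsg.Agent.Lib.Helper19.SU5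

open Cfsg.Agent.Lib.Helper22.SU4
open Cfsg.Agent.Lib.Helper27.STU (SUm)

universe u

theorem su5x1_core {F : Type u} [Field F] [Fintype F] {q : ℕ} (hF : Fintype.card F = q ^ 2)
    (h0 : letI := Cfsg.Agent.Lib.Helper27.STU.frobStar hF
      ∃ (K : Type u) (_ : Field K) (_ : Fintype K) (D : Tw F K) (P : RO D), Nonempty (UG P ≃* ↥(Cfsg.SU 5 F q))) :
    ∃ rels : Finset (FreeGroup (Fin 6)), rels.card ≤ 54 ∧
      Nonempty (PresentedGroup (↑rels : Set (FreeGroup (Fin 6))) ≃* ↥(Cfsg.SU 5 F q)) := by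
  letI := Cfsg.Agent.Lib.Helper27.STU.frobStar hF
  obtain ⟨K, _, _, D, P, ⟨e⟩⟩ := h0
  obtain ⟨rels, hc, he⟩ := Cfsg.Agent.Lib.Helper27.SU5P.pres_of_iso hF (fun _ => rfl) P e
  exact ⟨rels, by omega, he⟩

end Cfsg.Agent.Lib.Helper19.SU5
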