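import Mathlib
import Cfsg.Agent.Lib.Helper27.SU5X1core
import Cfsg.Agent.Lib.Helper19.SU5X0
import Cfsg.Agent.Lib.Helper19.SU5.Defs
import Cfsg.Agent.Lib.Helper19.SU5.Defs2
import Cfsg.Agent.Lib.helper3.SU5.Defs
import Cfsg.Agent.Lib.Helper27.STU.Defs2
import Cfsg.Agent.Lib.Helper27.STU.Defs3
import Cfsg.Agent.Lib.Helper27.STU.Frob
import Cfsg.Agent.Lib.Helper19.MODMain
import Cfsg.Agent.Lib.Helper20.GLO.Defs
import Cfsg.Prelude.Def_Classical

/-!
# Project SU5 (designer helper19), part 2, row X1 (`su5_mainU`), VERBATIM vs `Helper19/SU5/Skel2.lean.txt` (helper27):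
**`SU₅(q)` has a presentation with 6 generators and at most 54 relators** (`su5x1_core` fed with helper19's X0 `ug_isoU`).
-/

set_option autoImplicit false

namespace Cfsg.Agent.Lib.Helper19.SU5

open Cfsg.Agent.Lib.helper17.SLP Cfsg.Agent.Lib.helper3.SP4 Cfsg.Agent.Lib.Helper22.SU4
open Cfsg.Agent.Lib.Helper27.STU (Lam XpM XmM XpS XmS SUm XpU XmU SysU)
open Cfsg.Agent.Lib.helper3.STC (ng sws)
open Cfsg.Agent.Lib.helper3.SU5 (Dat Tab5 Pre)

universe u v w

/-- X1 [M]  **`SU₅(q)` has a presentation with 6 generators and at most 54 relators.** -/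
theorem su5_mainU {F : Type u} [Field F] [Fintype F] {q : ℕ} (hF : Fintype.card F = q ^ 2) :
    ∃ rels : Finset (FreeGroup (Fin 6)), rels.card ≤ 54 ∧
      Nonempty (PresentedGroup (↑rels : Set (FreeGroup (Fin 6))) ≃* ↥(Cfsg.SU 5 F q)) :=
  su5x1_core hF (ug_isoU hF)

end Cfsg.Agent.Lib.Helper19.SU5
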