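import Mathlib
import Cfsg.Agent.Lib.Helper27.SU5P.Pres
import Cfsg.Agent.Lib.Helper19.SU5.Defs
import Cfsg.Agent.Lib.Helper19.SU5.Defs2
import Cfsg.Agent.Lib.helper3.SU5.Defs
import Cfsg.Agent.Lib.Helper27.STU.Defs2
import Cfsg.Agent.Lib.Helper27.STU.Defs3
import Cfsg.Agent.Lib.Helper27.STU.Frob
import Cfsg.Agent.Lib.Helper19.MODMain
import Cfsg.Agent.Lib.Helper20.GLO.Defs
import Cfsg.Prelude.Def_Classical

/-!
# Project SU5 (designer helper19), part 2, row X2 (`b1_gensU`), VERBATIM vs `Helper19/SU5/Skel2.lean.txt` (helper27):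
the hypothesis `hb` of GLO P14 `glue_odd_of_gens` with `nb = 3`, from `Helper27.SU5P.b1_gens` and `marked_sum`.
-/

set_option autoImplicit false

namespace Cfsg.Agent.Lib.Helper19.SU5

open Cfsg.Agent.Lib.helper17.SLP Cfsg.Agent.Lib.helper3.SP4 Cfsg.Agent.Lib.Helper22.SU4
open Cfsg.Agent.Lib.Helper27.STU (Lam XpM XmM XpS XmS SUm XpU XmU SysU)
open Cfsg.Agent.Lib.helper3.STC (ng sws)
open Cfsg.Agent.Lib.helper3.SU5 (Dat Tab5 Pre)

universe u v w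

/-- X2 [S-M]  the hypothesis `hb` of GLO P14 `glue_odd_of_gens` with `nb = 3`. -/
theorem b1_gensU {F : Type u} [Field F] [Fintype F] {q : ℕ} (hF : Fintype.card F = q ^ 2) :
    letI := Cfsg.Agent.Lib.Helper27.STU.frobStar hF
    ∀ C₂ : Cfsg.Agent.Lib.Helper19.MOD.Ctx F 5 q 2 True, ∃ b : Fin 3 → ↥(Cfsg.SU 5 F q),
      (∀ i, b i ∈ Cfsg.Agent.Lib.Helper20.GLO.B1 (Cfsg.Agent.Lib.Helper19.MOD.sys C₂)) ∧
        (Cfsg.Agent.Lib.Helper20.GLO.B1 (Cfsg.Agent.Lib.Helper19.MOD.sys C₂) : Set ↥(Cfsg.SU 5 F q)) ⊆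
          Subgroup.closure (Set.range b) := by
  letI := Cfsg.Agent.Lib.Helper27.STU.frobStar hF
  intro C₂
  obtain ⟨g, L, -, hg, -, -⟩ := Cfsg.Agent.Lib.Helper27.SU5P.marked_sum hF (fun _ => rfl)
  exact Cfsg.Agent.Lib.Helper27.SU5P.b1_gens (Cfsg.Agent.Lib.Helper19.MOD.sys C₂) g hg

end Cfsg.Agent.Lib.Helper19.SU5
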