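import Mathlib
import Cfsg.Agent.Lib.Helper21.BSQ.Defs

/-!
# BSQ row B7, core: `conj_sylow_case` with the statements of the cited rows A6 (`sylow_conj_in`) and A8 (`prod_conj`)
as hypotheses.
-/

set_option autoImplicit false

namespace Cfsg.Agent.Lib.Helper21.BSQ

universe u

variable {G : Type u} [Group G]

/-- `map (conj (c * g)) = map (conj c) ∘ map (conj g)`. -/
theorem bsqb7_map_conj_mul (K : Subgroup G) (c g : G) :
    K.map (MulAut.conj (c * g)).toMonoidHom =
      (K.map (MulAut.conj g).toMonoidHom).map (MulAut.conj c).toMonoidHom := by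
  rw [Subgroup.map_map]
  congr 1
  ext x
  simp [MulAut.conj_apply, mul_assoc]

/-- An element of the centraliser of `K` normalises `K`. -/
theorem bsqb7_map_conj_centralizer (K : Subgroup G) (c : G)
    (hc : c ∈ Subgroup.centralizer (K : Set G)) :
    K.map (MulAut.conj c).toMonoidHom = K := by
  ext x
  constructor
  · rintro ⟨y, hy, rfl⟩
    have h1 : y * c = c * y := (Subgroup.mem_centralizer_iff.mp hc) y hy
    have : (MulAut.conj c).toMonoidHom y = y := by
      simp only [MulEquiv.toMonoidHom_eq_coe, MonoidHom.coe_coe, MulAut.conj_apply]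
      rw [← h1, mul_assoc, mul_inv_cancel, mul_one]
    rw [this]; exact hy
  · intro hx
    refine ⟨x, hx, ?_⟩
    have h1 : x * c = c * x := (Subgroup.mem_centralizer_iff.mp hc) x hx
    simp only [MulEquiv.toMonoidHom_eq_coe, MonoidHom.coe_coe, MulAut.conj_apply]
    rw [← h1, mul_assoc, mul_inv_cancel, mul_one]

/-- B7 core: A6 and A8 as hypotheses. -/
theorem bsqb7_core [Finite G] (p : ℕ) [Fact p.Prime]
    (hA6 : ∀ (C S T : Subgroup G), S ≤ C → T ≤ C →
      Nat.card ↥S = p ^ (Nat.card G).factorization p →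
      Nat.card ↥T = p ^ (Nat.card G).factorization p →
      ∃ c ∈ C, T = S.map (MulAut.conj c).toMonoidHom)
    (hA8 : ∀ (A B S H S' H' : Subgroup G), S ≤ A → H ≤ A →
      (∀ a ∈ A, ∃ s ∈ S, ∃ h ∈ H, a = s * h) → S' ≤ B → H' ≤ B →
      (∀ b ∈ B, ∃ s ∈ S', ∃ h ∈ H', b = s * h) → ∀ g : G,
      S' = S.map (MulAut.conj g).toMonoidHom →
      H' = H.map (MulAut.conj g).toMonoidHom →
      B = A.map (MulAut.conj g).toMonoidHom)
    (A B S H S' H' : Subgroup G)
    (hS : S ≤ A) (hH : H ≤ A) (hA : ∀ a ∈ A, ∃ s ∈ S, ∃ h ∈ H, a = s * h) (hS' : S' ≤ B)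
    (hH' : H' ≤ B) (hB : ∀ b ∈ B, ∃ s ∈ S', ∃ h ∈ H', b = s * h)
    (hSH : ∀ h ∈ H, ∀ s ∈ S, h * s = s * h) (hSH' : ∀ h ∈ H', ∀ s ∈ S', h * s = s * h)
    (hcS : Nat.card ↥S = p ^ (Nat.card G).factorization p)
    (hcS' : Nat.card ↥S' = p ^ (Nat.card G).factorization p) (g : G)
    (hg : H' = H.map (MulAut.conj g).toMonoidHom) :
    ∃ g' : G, B = A.map (MulAut.conj g').toMonoidHom := by
  classical
  -- the centraliser of `H'`
  set C : Subgroup G := Subgroup.centralizer (H' : Set G) with hC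
  have h1 : S' ≤ C := by
    intro s hs
    rw [hC, Subgroup.mem_centralizer_iff]
    intro h hh
    exact hSH' h hh s hs
  have h2 : S.map (MulAut.conj g).toMonoidHom ≤ C := by
    rintro _ ⟨s, hs, rfl⟩
    rw [hC, Subgroup.mem_centralizer_iff]
    intro h' hh'
    rw [hg] at hh'
    obtain ⟨h, hh, rfl⟩ := hh'
    have := hSH h hh s hs
    simp only [MulEquiv.toMonoidHom_eq_coe, MonoidHom.coe_coe, MulAut.conj_apply]
    calc g * h * g⁻¹ * (g * s * g⁻¹) = g * (h * s) * g⁻¹ := by group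
      _ = g * (s * h) * g⁻¹ := by rw [this]
      _ = g * s * g⁻¹ * (g * h * g⁻¹) := by group
  have h3 : Nat.card ↥(S.map (MulAut.conj g).toMonoidHom) =
      p ^ (Nat.card G).factorization p := by
    rw [Subgroup.card_map_of_injective (MulAut.conj g).injective]
    exact hcS
  obtain ⟨c, hcC, hc⟩ := hA6 C _ S' h2 h1 h3 hcS'
  refine ⟨c * g, ?_⟩
  refine hA8 A B S H S' H' hS hH hA hS' hH' hB (c * g) ?_ ?_
  · rw [bsqb7_map_conj_mul]; exact hc
  · rw [bsqb7_map_conj_mul, ← hg]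
    exact (bsqb7_map_conj_centralizer H' c hcC).symm

end Cfsg.Agent.Lib.Helper21.BSQ
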