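import Mathlib
import Cfsg.Agent.Lib.Helper21.BSQ.Defs

/-!
# BSQ row B8, core: `conj_of_dvd` with the statements of the cited rows A2 A3 A7 B1 B2 B3 B4 B6 B7 as hypotheses.
-/

set_option autoImplicit false

namespace Cfsg.Agent.Lib.Helper21.BSQ

universe u

variable {G : Type u} [Group G]

/-- The centralisation step of B8: `H` centralises `S`. -/
theorem bsqb8_cent [Finite G] (p : ℕ) [Fact p.Prime] (N : Subgroup G) [N.Normal]
    (hN : Nat.card ↥N = p)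
    (hB2 : ∀ (S : Subgroup G) (h : G), IsOfFinOrder h → ¬ p ∣ orderOf h →
      (∀ s ∈ S, h * s * h⁻¹ * s⁻¹ ∈ N) → (∀ n ∈ N, h * n = n * h) → ∀ s ∈ S, h * s = s * h)
    (hB3 : ∀ (S : Subgroup G), N ≤ S → N ≠ S → IsCyclic ↥S → IsPGroup p ↥S → ∀ h : G,
      (∀ s ∈ S, h * s * h⁻¹ * s⁻¹ ∈ N) → ∀ n ∈ N, h * n = n * h)
    (hB4 : Nat.card ↥N = 2 → ∀ n ∈ N, ∀ g : G, g * n = n * g)
    (A S H : Subgroup G) (hA : ∀ x ∈ A, ∀ y ∈ A, x * y * x⁻¹ * y⁻¹ ∈ N)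
    (hNS : N ≤ S) (hne : N ≠ S) (hSA : S ≤ A) (hSp : IsPGroup p ↥S) (hHA : H ≤ A)
    (hpH : ¬ p ∣ Nat.card ↥H)
    (hcase : IsCyclic ↥S ∨ (p = 2 ∧ Nat.card ↥S = 2 ^ (Nat.card G).factorization 2)) :
    ∀ h ∈ H, ∀ s ∈ S, h * s = s * h := by
  intro h hh
  have hord : ¬ p ∣ orderOf h := by
    intro hd
    apply hpH
    have h1 : orderOf (⟨h, hh⟩ : ↥H) ∣ Nat.card ↥H := orderOf_dvd_natCard _
    rw [Subgroup.orderOf_mk] at h1
    exact hd.trans h1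
  have hc : ∀ s ∈ S, h * s * h⁻¹ * s⁻¹ ∈ N := fun s hs => hA h (hHA hh) s (hSA hs)
  have hhN : ∀ n ∈ N, h * n = n * h := by
    rcases hcase with hcyc | ⟨hp2, -⟩
    · exact hB3 S hNS hne hcyc hSp h hc
    · intro n hn
      exact hB4 (by rw [hN, hp2]) n hn h
  exact hB2 S h (isOfFinOrder_of_finite h) hord hc hhN

/-- B8 core: the cited rows as hypotheses. -/
theorem bsqb8_core [Finite G] (hB : IsBStar G) (p : ℕ) [Fact p.Prime] (N : Subgroup G)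
    [N.Normal] (hN : Nat.card ↥N = p)
    (hA2 : ∀ (A' B' : Subgroup (G ⧸ N)) (g : G),
      B'.comap (QuotientGroup.mk' N) =
        (A'.comap (QuotientGroup.mk' N)).map (MulAut.conj g).toMonoidHom →
      B' = A'.map (MulAut.conj (QuotientGroup.mk' N g)).toMonoidHom)
    (hA3 : ∀ (A' : Subgroup (G ⧸ N)), IsMulCommutative ↥A' →
      N ≤ A'.comap (QuotientGroup.mk' N) ∧
      Nat.card ↥(A'.comap (QuotientGroup.mk' N)) = Nat.card ↥N * Nat.card ↥A' ∧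
      ∀ x ∈ A'.comap (QuotientGroup.mk' N), ∀ y ∈ A'.comap (QuotientGroup.mk' N),
        x * y * x⁻¹ * y⁻¹ ∈ N)
    (hA7 : ∀ {a b m m' : ℕ}, p ^ a * m = p ^ b * m' → ¬ p ∣ m → ¬ p ∣ m' → a = b ∧ m = m')
    (hB1 : ∀ (A : Subgroup G), N ≤ A → (∀ x ∈ A, ∀ y ∈ A, x * y * x⁻¹ * y⁻¹ ∈ N) →
      ∃ S H : Subgroup G, N ≤ S ∧ S ≤ A ∧ IsPGroup p ↥S ∧ H ≤ A ∧ IsMulCommutative ↥H ∧
        ¬ p ∣ Nat.card ↥H ∧ Nat.card ↥A = Nat.card ↥S * Nat.card ↥H ∧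
        ∀ a ∈ A, ∃ s ∈ S, ∃ h ∈ H, a = s * h)
    (hB2 : ∀ (S : Subgroup G) (h : G), IsOfFinOrder h → ¬ p ∣ orderOf h →
      (∀ s ∈ S, h * s * h⁻¹ * s⁻¹ ∈ N) → (∀ n ∈ N, h * n = n * h) → ∀ s ∈ S, h * s = s * h)
    (hB3 : ∀ (S : Subgroup G), N ≤ S → N ≠ S → IsCyclic ↥S → IsPGroup p ↥S → ∀ h : G,
      (∀ s ∈ S, h * s * h⁻¹ * s⁻¹ ∈ N) → ∀ n ∈ N, h * n = n * h)
    (hB4 : Nat.card ↥N = 2 → ∀ n ∈ N, ∀ g : G, g * n = n * g)
    (hB6 : ∀ (S H A : Subgroup G), (∀ a ∈ A, ∃ s ∈ S, ∃ h ∈ H, a = s * h) →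
      (∀ x ∈ S, ∀ y ∈ S, x * y = y * x) → (∀ x ∈ H, ∀ y ∈ H, x * y = y * x) →
      (∀ h ∈ H, ∀ s ∈ S, h * s = s * h) → IsMulCommutative ↥A)
    (hB7 : ∀ (A B S H S' H' : Subgroup G), S ≤ A → H ≤ A →
      (∀ a ∈ A, ∃ s ∈ S, ∃ h ∈ H, a = s * h) → S' ≤ B → H' ≤ B →
      (∀ b ∈ B, ∃ s ∈ S', ∃ h ∈ H', b = s * h) →
      (∀ h ∈ H, ∀ s ∈ S, h * s = s * h) → (∀ h ∈ H', ∀ s ∈ S', h * s = s * h) →
      Nat.card ↥S = p ^ (Nat.card G).factorization p →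
      Nat.card ↥S' = p ^ (Nat.card G).factorization p → ∀ g : G,
      H' = H.map (MulAut.conj g).toMonoidHom →
      ∃ g' : G, B = A.map (MulAut.conj g').toMonoidHom)
    (hst : ∀ S : Subgroup G, IsPGroup p ↥S → N ≤ S → N ≠ S →
      (∀ x ∈ S, ∀ y ∈ S, x * y * x⁻¹ * y⁻¹ ∈ N) →
      IsCyclic ↥S ∨ (p = 2 ∧ Nat.card ↥S = 2 ^ (Nat.card G).factorization 2))
    (A' B' : Subgroup (G ⧸ N)) (hA' : IsMulCommutative ↥A') (hB' : IsMulCommutative ↥B')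
    (hc : Nat.card ↥A' = Nat.card ↥B') (hdvd : p ∣ Nat.card ↥A') :
    ∃ g : G ⧸ N, B' = A'.map (MulAut.conj g).toMonoidHom := by
  classical
  have hp : p.Prime := Fact.out
  obtain ⟨hNA, hcA, hcomA⟩ := hA3 A' hA'
  obtain ⟨hNB, hcB, hcomB⟩ := hA3 B' hB'
  set A : Subgroup G := A'.comap (QuotientGroup.mk' N) with hAdef
  set B : Subgroup G := B'.comap (QuotientGroup.mk' N) with hBdef
  -- it is enough to conjugate `A` to `B`
  suffices hmain : ∃ g : G, B = A.map (MulAut.conj g).toMonoidHom by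
    obtain ⟨g, hg⟩ := hmain
    exact ⟨QuotientGroup.mk' N g, hA2 A' B' g hg⟩
  obtain ⟨S, H, hNS, hSA, hSp, hHA, hHc, hpH, hcardA, hdecA⟩ := hB1 A hNA hcomA
  obtain ⟨S', H', hNS', hSB', hSp', hHB', hHc', hpH', hcardB, hdecB⟩ := hB1 B hNB hcomB
  obtain ⟨a, ha⟩ := (IsPGroup.iff_card.mp hSp)
  obtain ⟨b, hb⟩ := (IsPGroup.iff_card.mp hSp')
  have hAB : Nat.card ↥A = Nat.card ↥B := by rw [hcA, hcB, hc]
  have heq : p ^ a * Nat.card ↥H = p ^ b * Nat.card ↥H' := by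
    rw [← ha, ← hb, ← hcardA, ← hcardB, hAB]
  obtain ⟨hab, hHH'⟩ := hA7 heq hpH hpH'
  subst hab
  -- `p ^ 2 ∣ |A|`, so `a ≥ 2`
  have ha2 : 2 ≤ a := by
    have h1 : p ^ 2 ∣ Nat.card ↥A := by
      rw [hcA, hN, pow_two]
      exact Nat.mul_dvd_mul_left p hdvd
    rw [hcardA, ha] at h1
    have h2 : p ^ 2 ∣ p ^ a :=
      (Nat.Coprime.pow_left 2 ((Nat.Prime.coprime_iff_not_dvd hp).mpr hpH)).dvd_of_dvd_mul_right h1
    exact (Nat.pow_dvd_pow_iff_le_right hp.one_lt).mp h2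
  have hcardlt : Nat.card ↥N < p ^ a := by
    rw [hN]
    calc p = p ^ 1 := (pow_one p).symm
      _ < p ^ a := Nat.pow_lt_pow_right hp.one_lt (by omega)
  have hne : N ≠ S := by
    intro h
    rw [h, ha] at hcardlt
    exact lt_irrefl _ hcardlt
  have hne' : N ≠ S' := by
    intro h
    rw [h, hb] at hcardlt
    exact lt_irrefl _ hcardlt
  have hcomS : ∀ x ∈ S, ∀ y ∈ S, x * y * x⁻¹ * y⁻¹ ∈ N :=
    fun x hx y hy => hcomA x (hSA hx) y (hSA hy)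
  have hcomS' : ∀ x ∈ S', ∀ y ∈ S', x * y * x⁻¹ * y⁻¹ ∈ N :=
    fun x hx y hy => hcomB x (hSB' hx) y (hSB' hy)
  have hcaseS := hst S hSp hNS hne hcomS
  have hcaseS' := hst S' hSp' hNS' hne' hcomS'
  have hSH : ∀ h ∈ H, ∀ s ∈ S, h * s = s * h :=
    bsqb8_cent p N hN hB2 hB3 hB4 A S H hcomA hNS hne hSA hSp hHA hpH hcaseS
  have hSH' : ∀ h ∈ H', ∀ s ∈ S', h * s = s * h :=
    bsqb8_cent p N hN hB2 hB3 hB4 B S' H' hcomB hNS' hne' hSB' hSp' hHB' hpH' hcaseS'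
  -- the Sylow case
  have hsyl : (p = 2 ∧ p ^ a = 2 ^ (Nat.card G).factorization 2) →
      ∃ g : G, B = A.map (MulAut.conj g).toMonoidHom := by
    rintro ⟨hp2, hcard⟩
    obtain ⟨g, hg⟩ := hB H H' hHc hHc' hHH'
    have e1 : Nat.card ↥S = p ^ (Nat.card G).factorization p := by
      rw [ha, hcard, hp2]
    have e2 : Nat.card ↥S' = p ^ (Nat.card G).factorization p := by
      rw [hb, hcard, hp2]
    exact hB7 A B S H S' H' hSA hHA hdecA hSB' hHB' hdecB hSH hSH' e1 e2 g hg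
  rcases hcaseS with hcyc | ⟨hp2, hcard⟩
  · rcases hcaseS' with hcyc' | ⟨hp2, hcard⟩
    · -- both cyclic: `A`, `B` are commutative
      have comm_of_cyc : ∀ (T : Subgroup G), IsCyclic ↥T → ∀ x ∈ T, ∀ y ∈ T, x * y = y * x := by
        intro T hT x hx y hy
        obtain ⟨⟨t, ht⟩, hgen⟩ := hT.exists_generator
        obtain ⟨i, hi⟩ := hgen ⟨x, hx⟩
        obtain ⟨j, hj⟩ := hgen ⟨y, hy⟩
        have hi' : t ^ i = x := by
          have := congrArg Subtype.val hi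
          simpa using this
        have hj' : t ^ j = y := by
          have := congrArg Subtype.val hj
          simpa using this
        rw [← hi', ← hj']
        exact (Commute.zpow_zpow (Commute.refl t) i j).eq
      have comm_of_mc : ∀ (T : Subgroup G), IsMulCommutative ↥T →
          ∀ x ∈ T, ∀ y ∈ T, x * y = y * x := by
        intro T hT x hx y hy
        have := hT.is_comm.comm ⟨x, hx⟩ ⟨y, hy⟩
        exact congrArg Subtype.val this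
      have hAc : IsMulCommutative ↥A :=
        hB6 S H A hdecA (comm_of_cyc S hcyc) (comm_of_mc H hHc) hSH
      have hBc : IsMulCommutative ↥B :=
        hB6 S' H' B hdecB (comm_of_cyc S' hcyc') (comm_of_mc H' hHc') hSH'
      exact hB A B hAc hBc hAB
    · exact hsyl ⟨hp2, by rw [← hb]; exact hcard⟩
  · exact hsyl ⟨hp2, by rw [← ha]; exact hcard⟩

end Cfsg.Agent.Lib.Helper21.BSQ
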