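import Cfsg.Agent.Lib.Helper21.DGU.Z8

set_option autoImplicit false

namespace Cfsg.Agent.Lib.Helper21.DGU

/-- a list sum over entries `< 8` as a sum over `range 8` weighted by the counts -/
theorem h27_sum_map_count {M : Type*} [AddCommMonoid M] (es : List ℕ) (hes : ∀ e ∈ es, e < 8)
    (f : ℕ → M) : (es.map f).sum = ∑ a ∈ Finset.range 8, es.count a • f a := by
  rw [Finset.sum_list_map_count]
  refine Finset.sum_subset ?_ ?_
  · intro a ha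
    rw [List.mem_toFinset] at ha
    exact Finset.mem_range.2 (hes a ha)
  · intro a _ ha
    rw [List.mem_toFinset] at ha
    rw [List.count_eq_zero_of_not_mem ha, zero_smul]

/-- the counter number `a` is the digit number `a` in base 64 -/
theorem h27_dguC (cnt a : ℕ) : dguC cnt a = ((cnt / 64 ^ a % 64 : ℕ) : ℤ) := by
  unfold dguC
  show Int.ofNat ((cnt >>> (6 * a)) &&& 63) = _
  rw [Nat.shiftRight_eq_div_pow, show (63 : ℕ) = 2 ^ 6 - 1 by norm_num,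
    Nat.and_two_pow_sub_one_eq_mod, pow_mul]
  norm_num

/-- the digits of a number given by eight digits -/
theorem h27_digits (c0 c1 c2 c3 c4 c5 c6 c7 : ℕ) (h0 : c0 < 64) (h1 : c1 < 64) (h2 : c2 < 64)
    (h3 : c3 < 64) (h4 : c4 < 64) (h5 : c5 < 64) (h6 : c6 < 64) (h7 : c7 < 64) (cnt : ℕ)
    (hc : cnt = c0 * 64 ^ 0 + c1 * 64 ^ 1 + c2 * 64 ^ 2 + c3 * 64 ^ 3 + c4 * 64 ^ 4 + c5 * 64 ^ 5
      + c6 * 64 ^ 6 + c7 * 64 ^ 7) :
    cnt / 64 ^ 0 % 64 = c0 ∧ cnt / 64 ^ 1 % 64 = c1 ∧ cnt / 64 ^ 2 % 64 = c2 ∧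
    cnt / 64 ^ 3 % 64 = c3 ∧ cnt / 64 ^ 4 % 64 = c4 ∧ cnt / 64 ^ 5 % 64 = c5 ∧
    cnt / 64 ^ 6 % 64 = c6 ∧ cnt / 64 ^ 7 % 64 = c7 := by
  norm_num at hc ⊢
  refine ⟨?_, ?_, ?_, ?_, ?_, ?_, ?_, ?_⟩ <;> omega

/-- the value of the twisted character as an explicit sum -/
theorem h27_dguTw_phi (cnt j : ℕ) :
    (dguTw cnt j).phi = ∑ a ∈ Finset.range 8, ((dguC cnt a : ℤ) : ℂ) * dguZ ^ (j * a) := by
  have h : dguTw cnt j =
      Z8.add (Z8.add (Z8.add (Z8.add (Z8.add (Z8.add (Z8.add (Z8.add Z8.zero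
        (Z8.smul (dguC cnt 0) (Z8.mono ((j * 0) % 8))))
        (Z8.smul (dguC cnt 1) (Z8.mono ((j * 1) % 8))))
        (Z8.smul (dguC cnt 2) (Z8.mono ((j * 2) % 8))))
        (Z8.smul (dguC cnt 3) (Z8.mono ((j * 3) % 8))))
        (Z8.smul (dguC cnt 4) (Z8.mono ((j * 4) % 8))))
        (Z8.smul (dguC cnt 5) (Z8.mono ((j * 5) % 8))))
        (Z8.smul (dguC cnt 6) (Z8.mono ((j * 6) % 8))))
        (Z8.smul (dguC cnt 7) (Z8.mono ((j * 7) % 8))) := rfl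
  rw [h]
  simp only [Z8.phi_add, Z8.phi_smul, Z8.phi_mono_mod, Z8.phi_zero, Finset.sum_range_succ,
    Finset.sum_range_zero]

/-- DGU-E1: unpacking the counters.  `dguTw cnt j = Σ_{a<8} (digit a of cnt in base 64) • ζ^(j a)` (see Z8.lean). -/
theorem dguTw_spec (es : List ℕ) (hes : ∀ e ∈ es, e < 8) (hlen : es.length < 64) (j : ℕ) :
    (dguTw ((es.map (fun e => 64 ^ e)).sum) j).phi = (es.map (fun e => dguZ ^ (j * e))).sum := by
  have hcnt : ∀ a, es.count a < 64 := fun a => lt_of_le_of_lt List.count_le_length hlen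
  have hsum : (es.map (fun e => 64 ^ e)).sum
      = es.count 0 * 64 ^ 0 + es.count 1 * 64 ^ 1 + es.count 2 * 64 ^ 2 + es.count 3 * 64 ^ 3
        + es.count 4 * 64 ^ 4 + es.count 5 * 64 ^ 5 + es.count 6 * 64 ^ 6 + es.count 7 * 64 ^ 7 := by
    rw [h27_sum_map_count es hes (fun e => 64 ^ e)]
    simp only [Finset.sum_range_succ, Finset.sum_range_zero, smul_eq_mul, zero_add]
  obtain ⟨d0, d1, d2, d3, d4, d5, d6, d7⟩ := h27_digits _ _ _ _ _ _ _ _ (hcnt 0) (hcnt 1) (hcnt 2)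
    (hcnt 3) (hcnt 4) (hcnt 5) (hcnt 6) (hcnt 7) _ hsum
  rw [h27_dguTw_phi, h27_sum_map_count es hes (fun e => dguZ ^ (j * e))]
  simp only [Finset.sum_range_succ, Finset.sum_range_zero, h27_dguC, d0, d1, d2, d3, d4, d5, d6, d7,
    nsmul_eq_mul, Int.cast_natCast]

end Cfsg.Agent.Lib.Helper21.DGU
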