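import Cfsg.Agent.Lib.Helper21.DGU.Z8

set_option autoImplicit false

namespace Cfsg.Agent.Lib.Helper21.DGU

/-- list form of a filtered sum -/
theorem h27_list_filter_map_sum (l : List ℕ) (p : ℕ → Bool) (F' : ℕ → ℂ) :
    ((l.filter p).map F').sum = (l.map (fun i => if p i = true then F' i else 0)).sum := by
  induction l with
  | nil => simp
  | cons a l ih =>
    by_cases h : p a = true
    · simp [h, ih]
    · simp [h, ih]

/-- DGU-E3: a sum over a filtered `Fin n` as a list sum. -/
theorem dgu_sum_filter_range (n : ℕ) (p : ℕ → Bool) (F : Fin n → ℂ) (F' : ℕ → ℂ)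
    (hF : ∀ x : Fin n, F x = F' x.1) :
    ∑ x ∈ Finset.univ.filter (fun x : Fin n => p x.1 = true), F x =
      (((List.range n).filter p).map F').sum := by
  rw [h27_list_filter_map_sum, Finset.sum_filter]
  have h1 : ∑ x : Fin n, (if p x.1 = true then F x else 0) =
      ∑ x : Fin n, (fun i : ℕ => if p i = true then F' i else 0) x.1 := by
    refine Finset.sum_congr rfl fun x _ => ?_
    simp only [hF]
  rw [h1, Fin.sum_univ_eq_sum_range (fun i : ℕ => if p i = true then F' i else 0) n]
  rw [← List.sum_toFinset _ (List.nodup_range (n := n))]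
  congr 1
  ext i
  simp

end Cfsg.Agent.Lib.Helper21.DGU
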