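import Cfsg.Agent.Lib.Helper27.OrderPCube
import Cfsg.Agent.Lib.Helper1.Frat
import Cfsg.Agent.Lib.Helper24.Taussky
import Cfsg.Prelude.Def_Transfer

set_option autoImplicit false

namespace Cfsg.Agent.Lib.Helper27

universe u

open scoped commutatorElement

variable {K : Type u} [Group K]

theorem isExtraspecial_of_nonabelian [Finite K] {p : ℕ} [hp : Fact p.Prime]
    (hcard : Nat.card K = p ^ 3) (hnc : ¬ ∀ a b : K, a * b = b * a) :
    Cfsg.IsExtraspecial p K := by
  obtain ⟨hZ, hcom, hpow⟩ := center_facts_of_nonabelian hcard hnc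
  have hG : IsPGroup p K := IsPGroup.of_card hcard
  refine ⟨⟨hG, ?_, hcom⟩, hZ⟩
  apply le_antisymm
  · exact Helper1.frattini_le_of_elementary_quotient (Subgroup.center K) hcom.le hpow
  · rw [← hcom]
    exact Helper1.pgroup_commutator_le_frattini hG

theorem pow_mul_of_central {a b c : K} (hc : c ∈ Subgroup.center K) (h : b * a = a * b * c)
    (n : ℕ) : b ^ n * a = a * b ^ n * c ^ n := by
  have hcc : ∀ x : K, c * x = x * c := fun x => (Subgroup.mem_center_iff.mp hc x).symm
  induction n with
  | zero => simp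
  | succ n ih =>
    calc b ^ (n + 1) * a = b * (b ^ n * a) := by rw [pow_succ']; group
      _ = b * (a * b ^ n * c ^ n) := by rw [ih]
      _ = (b * a) * b ^ n * c ^ n := by group
      _ = (a * b * c) * b ^ n * c ^ n := by rw [h]
      _ = a * b * (c * b ^ n) * c ^ n := by group
      _ = a * b * (b ^ n * c) * c ^ n := by rw [hcc]
      _ = a * b ^ (n + 1) * c ^ (n + 1) := by rw [pow_succ', pow_succ' c]; group

theorem mul_pow_of_central {a b c : K} (hc : c ∈ Subgroup.center K) (h : b * a = a * b * c)
    (n : ℕ) : (a * b) ^ n = a ^ n * b ^ n * c ^ (n.choose 2) := by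
  have hcc : ∀ x : K, c * x = x * c := fun x => (Subgroup.mem_center_iff.mp hc x).symm
  have hcn : ∀ (m : ℕ) (x : K), c ^ m * x = x * c ^ m := by
    intro m x
    have : c ^ m ∈ Subgroup.center K := Subgroup.pow_mem _ hc m
    exact (Subgroup.mem_center_iff.mp this x).symm
  induction n with
  | zero => simp
  | succ n ih =>
    have hch : (n + 1).choose 2 = n.choose 2 + n := by
      rw [Nat.choose_succ_succ' n 1, Nat.choose_one_right]; ring
    calc (a * b) ^ (n + 1) = (a * b) ^ n * (a * b) := pow_succ _ _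
      _ = a ^ n * b ^ n * c ^ (n.choose 2) * (a * b) := by rw [ih]
      _ = a ^ n * b ^ n * (c ^ (n.choose 2) * (a * b)) := by group
      _ = a ^ n * b ^ n * ((a * b) * c ^ (n.choose 2)) := by rw [hcn]
      _ = a ^ n * (b ^ n * a) * b * c ^ (n.choose 2) := by group
      _ = a ^ n * (a * b ^ n * c ^ n) * b * c ^ (n.choose 2) := by rw [pow_mul_of_central hc h]
      _ = a ^ n * a * b ^ n * (c ^ n * b) * c ^ (n.choose 2) := by group
      _ = a ^ n * a * b ^ n * (b * c ^ n) * c ^ (n.choose 2) := by rw [hcn]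
      _ = a ^ (n + 1) * b ^ (n + 1) * c ^ ((n + 1).choose 2) := by
        rw [hch, pow_succ a, pow_succ b, pow_add, hcn (n.choose 2)]
        group

/-- In a nonabelian group of order `p³`, `p` odd, the `p`-th power map is a homomorphism. -/
theorem mul_pow_prime_of_nonabelian [Finite K] {p : ℕ} [hp : Fact p.Prime]
    (hcard : Nat.card K = p ^ 3) (hnc : ¬ ∀ a b : K, a * b = b * a) (hodd : Odd p) (a b : K) :
    (a * b) ^ p = a ^ p * b ^ p := by
  obtain ⟨hZ, hcom, -⟩ := center_facts_of_nonabelian hcard hnc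
  have hc : b⁻¹ * a⁻¹ * b * a ∈ Subgroup.center K := by
    rw [← hcom]
    have : b⁻¹ * a⁻¹ * b * a = ⁅b⁻¹, a⁻¹⁆ := by
      rw [commutatorElement_def]; group
    rw [this]
    exact Subgroup.commutator_mem_commutator (Subgroup.mem_top _) (Subgroup.mem_top _)
  have h : b * a = a * b * (b⁻¹ * a⁻¹ * b * a) := by group
  rw [mul_pow_of_central hc h p]
  have hcp : (b⁻¹ * a⁻¹ * b * a) ^ p = 1 := by
    have := pow_card_subgroup_eq_one hc
    rw [hZ] at this
    exact this
  obtain ⟨k, hk⟩ := hodd
  have hch : p.choose 2 = p * k := by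
    rw [Nat.choose_two_right, hk]
    have : (2 * k + 1) * (2 * k + 1 - 1) = 2 * ((2 * k + 1) * k) := by
      rw [Nat.add_sub_cancel]; ring
    rw [this, Nat.mul_div_cancel_left _ (by norm_num : 0 < 2)]
  rw [hch, pow_mul, hcp, one_pow, mul_one]

theorem exists_char_chain_of_nonabelian_odd [Finite K] {p : ℕ} [hp : Fact p.Prime]
    (hcard : Nat.card K = p ^ 3) (hnc : ¬ ∀ a b : K, a * b = b * a) (hodd : Odd p)
    (hne : ¬ ∀ x : K, x ^ p = 1) :
    ∃ X Y : Subgroup K, X.Characteristic ∧ Y.Characteristic ∧ X ≤ Y ∧ Nat.card X = p ∧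
      Nat.card Y = p ^ 2 :=
  exists_char_chain_of_powHom hcard
    { toFun := fun x => x ^ p
      map_one' := one_pow p
      map_mul' := fun a b => mul_pow_prime_of_nonabelian hcard hnc hodd a b } (fun _ => rfl) hne

theorem d4_sq_ne_one : ∀ y : DihedralGroup 4,
    y ^ 2 ≠ 1 ↔ (y = DihedralGroup.r 1 ∨ y = DihedralGroup.r 3) := by decide

theorem d4_closure_card :
    Nat.card (Subgroup.closure {y : DihedralGroup 4 | y ^ 2 ≠ 1}) = 4 := by
  have h : Subgroup.closure {y : DihedralGroup 4 | y ^ 2 ≠ 1} =
      Subgroup.zpowers (DihedralGroup.r 1 : DihedralGroup 4) := by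
    apply le_antisymm
    · rw [Subgroup.closure_le]
      intro y hy
      rcases (d4_sq_ne_one y).mp hy with rfl | rfl
      · exact Subgroup.mem_zpowers _
      · have : (DihedralGroup.r 3 : DihedralGroup 4) = (DihedralGroup.r 1) ^ 3 := by decide
        rw [this]
        exact Subgroup.pow_mem _ (Subgroup.mem_zpowers _) 3
    · rw [Subgroup.zpowers_le]
      exact Subgroup.subset_closure ((d4_sq_ne_one _).mpr (Or.inl rfl))
  rw [h, Nat.card_zpowers, DihedralGroup.orderOf_r_one]

theorem sqNe_characteristic : (Subgroup.closure {x : K | x ^ 2 ≠ 1}).Characteristic := by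
  rw [Subgroup.characteristic_iff_map_le]
  intro φ
  rw [MonoidHom.map_closure]
  apply Subgroup.closure_mono
  rintro _ ⟨x, hx, rfl⟩
  show (φ x) ^ 2 ≠ 1
  intro h
  apply hx
  apply φ.injective
  rw [map_pow, map_one]
  exact h

/-- A nonabelian group of order `8` is quaternion or has a characteristic chain. -/
theorem order8_cases [Finite K] (hcard : Nat.card K = 2 ^ 3)
    (hnc : ¬ ∀ a b : K, a * b = b * a) :
    Nonempty (K ≃* QuaternionGroup 2) ∨
      ∃ X Y : Subgroup K, X.Characteristic ∧ Y.Characteristic ∧ X ≤ Y ∧ Nat.card X = 2 ∧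
        Nat.card Y = 2 ^ 2 := by
  have hp2 : Fact (Nat.Prime 2) := ⟨Nat.prime_two⟩
  obtain ⟨hZ, hcom, hpow⟩ := center_facts_of_nonabelian (p := 2) hcard hnc
  have hidx : (commutator K).index = 4 := by
    have h1 := Subgroup.card_mul_index (commutator K)
    have hc2 : Nat.card (commutator K) = 2 := by rw [hcom, hZ]
    rw [hc2, hcard] at h1
    norm_num at h1
    omega
  rcases Helper24.tk_main (IsPGroup.of_card hcard) hidx with h4 | ⟨k, ⟨e⟩⟩ | ⟨k, hk, -⟩ | ⟨k, ⟨e⟩⟩
  · rw [hcard] at h4
    norm_num at h4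
  · right
    have hc := Nat.card_congr e.toEquiv
    rw [hcard, DihedralGroup.nat_card] at hc
    have hk0 : k = 0 := by
      have h2 : 2 ^ 2 = 2 ^ (k + 2) := by omega
      have := Nat.pow_right_injective (le_refl 2) h2
      omega
    subst hk0
    have e' : K ≃* DihedralGroup 4 := e
    refine ⟨Subgroup.center K, Subgroup.closure {x : K | x ^ 2 ≠ 1}, Subgroup.centerCharacteristic,
      sqNe_characteristic, ?_, hZ, ?_⟩
    · have hx : (e'.symm (DihedralGroup.r 1)) ^ 2 ≠ 1 := by
        intro h
        have h2 := congrArg e' h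
        rw [map_pow, map_one, MulEquiv.apply_symm_apply] at h2
        exact (d4_sq_ne_one _).mpr (Or.inl rfl) h2
      have hzc : (e'.symm (DihedralGroup.r 1)) ^ 2 ∈ Subgroup.center K := hpow _
      have hzY : (e'.symm (DihedralGroup.r 1)) ^ 2 ∈ Subgroup.closure {x : K | x ^ 2 ≠ 1} :=
        Subgroup.pow_mem _ (Subgroup.subset_closure hx) 2
      have hd : Nat.card ↥(Subgroup.center K ⊓ Subgroup.closure {x : K | x ^ 2 ≠ 1}) ∣
          Nat.card (Subgroup.center K) := Subgroup.card_dvd_of_le inf_le_left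
      rw [hZ] at hd
      rcases (Nat.dvd_prime Nat.prime_two).mp hd with h1 | h1
      · exfalso
        have hbot := Subgroup.card_eq_one.mp h1
        have : (e'.symm (DihedralGroup.r 1)) ^ 2 ∈
            Subgroup.center K ⊓ Subgroup.closure {x : K | x ^ 2 ≠ 1} := ⟨hzc, hzY⟩
        rw [hbot, Subgroup.mem_bot] at this
        exact hx this
      · have heq : Subgroup.center K ⊓ Subgroup.closure {x : K | x ^ 2 ≠ 1} = Subgroup.center K :=
          Subgroup.eq_of_le_of_card_ge inf_le_left (by rw [h1, hZ])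
        rw [← heq]
        exact inf_le_right
    · have h1 : (Subgroup.closure {x : K | x ^ 2 ≠ 1}).map e'.toMonoidHom =
          Subgroup.closure {y : DihedralGroup 4 | y ^ 2 ≠ 1} := by
        rw [MonoidHom.map_closure]
        congr 1
        ext y
        constructor
        · rintro ⟨x, hx, rfl⟩
          show (e' x) ^ 2 ≠ 1
          intro h
          apply hx
          apply e'.injective
          rw [map_pow, map_one]
          exact h
        · intro hy
          refine ⟨e'.symm y, ?_, e'.apply_symm_apply y⟩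
          show (e'.symm y) ^ 2 ≠ 1
          intro h
          apply hy
          have h2 := congrArg e' h
          rw [map_pow, map_one, MulEquiv.apply_symm_apply] at h2
          exact h2
      have h2 := Subgroup.card_map_of_injective (K := Subgroup.closure {x : K | x ^ 2 ≠ 1})
        (f := e'.toMonoidHom) e'.injective
      rw [← h2, h1, d4_closure_card]
      norm_num
  · exfalso
    rw [hcard] at hk
    have : 2 ^ 4 ≤ 2 ^ (k + 4) := Nat.pow_le_pow_right (by norm_num) (by omega)
    omega
  · left
    have hc := Nat.card_congr e.toEquiv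
    have hne : NeZero (2 ^ (k + 1)) := ⟨by positivity⟩
    rw [hcard, Nat.card_eq_fintype_card, QuaternionGroup.card] at hc
    have hk0 : k = 0 := by
      have h2 : 2 ^ 1 = 2 ^ (k + 1) := by omega
      have := Nat.pow_right_injective (le_refl 2) h2
      omega
    subst hk0
    exact ⟨e⟩

end Cfsg.Agent.Lib.Helper27
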