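import Mathlib

set_option autoImplicit false

namespace Cfsg.Agent.Lib.Helper27.XsGroup

variable {G : Type*} [Group G]

theorem mem_center_comm {z : G} (hz : z ∈ Subgroup.center G) (x : G) : z * x = x * z :=
  (Subgroup.mem_center_iff.mp hz x).symm

/-- elements whose commutator with `g` lies in a central subgroup -/
def commSub (W : Subgroup G) (hW : W ≤ Subgroup.center G) (g : G) : Subgroup G where
  carrier := {b | g * b * g⁻¹ * b⁻¹ ∈ W}
  one_mem' := by
    show g * 1 * g⁻¹ * 1⁻¹ ∈ W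
    rw [mul_one, mul_inv_cancel, inv_one, mul_one]
    exact W.one_mem
  mul_mem' := by
    intro b b' hb hb'
    have e : g * (b * b') * g⁻¹ * (b * b')⁻¹ =
        (g * b * g⁻¹ * b⁻¹) * (b * (g * b' * g⁻¹ * b'⁻¹) * b⁻¹) := by group
    have e2 : b * (g * b' * g⁻¹ * b'⁻¹) * b⁻¹ = g * b' * g⁻¹ * b'⁻¹ := by
      rw [← mem_center_comm (hW hb') b, mul_inv_cancel_right]
    show g * (b * b') * g⁻¹ * (b * b')⁻¹ ∈ W
    rw [e, e2]
    exact W.mul_mem hb hb'
  inv_mem' := by
    intro b hb
    have e : g * b⁻¹ * g⁻¹ * b⁻¹⁻¹ = b⁻¹ * (g * b * g⁻¹ * b⁻¹)⁻¹ * b := by group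
    have hi : (g * b * g⁻¹ * b⁻¹)⁻¹ ∈ W := W.inv_mem hb
    have e2 : b⁻¹ * (g * b * g⁻¹ * b⁻¹)⁻¹ * b = (g * b * g⁻¹ * b⁻¹)⁻¹ := by
      rw [← mem_center_comm (hW hi) b⁻¹, mul_assoc, inv_mul_cancel, mul_one]
    show g * b⁻¹ * g⁻¹ * b⁻¹⁻¹ ∈ W
    rw [e, e2]
    exact hi

theorem mem_commSub {W : Subgroup G} {hW : W ≤ Subgroup.center G} {g b : G} :
    b ∈ commSub W hW g ↔ g * b * g⁻¹ * b⁻¹ ∈ W := Iff.rfl

/-- all commutators lie in a central subgroup containing the commutators of generators -/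
theorem comm_mem_of_gen (W : Subgroup G) (hW : W ≤ Subgroup.center G) (E : Subgroup G)
    (hab : ∀ a ∈ E, ∀ b ∈ E, a * b = b * a) (y : G)
    (htop : ∀ K : Subgroup G, E ≤ K → y ∈ K → K = ⊤)
    (h : ∀ x ∈ E, y * x * y⁻¹ * x⁻¹ ∈ W) (a b : G) : a * b * a⁻¹ * b⁻¹ ∈ W := by
  have swap : ∀ a b : G, a * b * a⁻¹ * b⁻¹ ∈ W → b * a * b⁻¹ * a⁻¹ ∈ W := by
    intro a b hab'
    have : b * a * b⁻¹ * a⁻¹ = (a * b * a⁻¹ * b⁻¹)⁻¹ := by group
    rw [this]
    exact W.inv_mem hab'
  have top_of : ∀ g : G, (∀ x ∈ E, g * x * g⁻¹ * x⁻¹ ∈ W) → g * y * g⁻¹ * y⁻¹ ∈ W →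
      ∀ b, g * b * g⁻¹ * b⁻¹ ∈ W := by
    intro g h1 h2 b
    have hle : commSub W hW g = ⊤ := htop _ (fun x hx => h1 x hx) h2
    have hb : b ∈ commSub W hW g := by rw [hle]; exact Subgroup.mem_top b
    exact hb
  have s1 : ∀ b, y * b * y⁻¹ * b⁻¹ ∈ W := by
    refine top_of y h ?_
    rw [mul_inv_cancel_right, mul_inv_cancel]
    exact W.one_mem
  have s2 : ∀ x ∈ E, ∀ b, x * b * x⁻¹ * b⁻¹ ∈ W := by
    intro x hx
    refine top_of x (fun e he => ?_) (swap _ _ (s1 x))
    rw [hab x hx e he, mul_inv_cancel_right, mul_inv_cancel]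
    exact W.one_mem
  exact top_of a (fun x hx => swap _ _ (s2 x hx a)) (swap _ _ (s1 a)) b

section fin

variable [Finite G] {p : ℕ} [hp : Fact p.Prime]

theorem eq_top_of_index_prime {H K : Subgroup G} (hH : H.index = p) (h : H ≤ K)
    (hn : ¬ K ≤ H) : K = ⊤ := by
  have h1 := Subgroup.relIndex_mul_index h
  rw [hH] at h1
  have hd : K.index ∣ p := Dvd.intro_left _ h1
  rcases (Nat.dvd_prime hp.out).mp hd with h2 | h2
  · exact Subgroup.index_eq_one.mp h2
  · exfalso
    rw [h2] at h1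
    have h3 : H.relIndex K = 1 :=
      Nat.eq_of_mul_eq_mul_right hp.out.pos (by rw [h1, one_mul])
    exact hn (Subgroup.relIndex_eq_one.mp h3)

theorem eq_of_le_of_index_eq {H K : Subgroup G} (hH : H.index = p) (hK : K.index = p)
    (h : H ≤ K) : H = K := by
  have h1 := Subgroup.relIndex_mul_index h
  rw [hH, hK] at h1
  have h2 : H.relIndex K = 1 :=
    Nat.eq_of_mul_eq_mul_right hp.out.pos (by rw [h1, one_mul])
  exact le_antisymm h (Subgroup.relIndex_eq_one.mp h2)

theorem comm_mem_center (hG : IsPGroup p G) (hZ : (Subgroup.center G).index ≤ p ^ 2) (a b : G) :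
    a * b * a⁻¹ * b⁻¹ ∈ Subgroup.center G := by
  have hcomm : ∀ x y : G ⧸ Subgroup.center G, x * y = y * x := by
    have hQ : IsPGroup p (G ⧸ Subgroup.center G) := hG.to_quotient _
    obtain ⟨k, hk⟩ := hQ.exists_card_eq
    have hidx : Nat.card (G ⧸ Subgroup.center G) = (Subgroup.center G).index := rfl
    have hk2 : k ≤ 2 := by
      by_contra hcon
      have h3 : p ^ 2 < p ^ k := Nat.pow_lt_pow_right hp.out.one_lt (by omega)
      rw [hidx] at hk
      omega
    interval_cases k
    · have h1 : Nat.card (G ⧸ Subgroup.center G) = 1 := by rw [hk, pow_zero]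
      haveI := (Nat.card_eq_one_iff_unique.mp h1).1
      intro x y
      exact Subsingleton.elim _ _
    · have h1 : Nat.card (G ⧸ Subgroup.center G) = p := by rw [hk, pow_one]
      haveI := isCyclic_of_prime_card h1
      intro x y
      exact (IsCyclic.commGroup (α := G ⧸ Subgroup.center G)).mul_comm x y
    · exact IsPGroup.commutative_of_card_eq_prime_sq hk
  have h1 := hcomm (a : G ⧸ Subgroup.center G) (b : G ⧸ Subgroup.center G)
  rw [← QuotientGroup.eq_one_iff]
  have e : ((a * b * a⁻¹ * b⁻¹ : G) : G ⧸ Subgroup.center G) =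
      (a : G ⧸ Subgroup.center G) * b * (a : G ⧸ Subgroup.center G)⁻¹ *
        (b : G ⧸ Subgroup.center G)⁻¹ := rfl
  rw [e, h1, mul_inv_cancel_right, mul_inv_cancel]

/-- structure of a centric proper subgroup when the centre has index at most `p²` -/
theorem ess_struct (hG : IsPGroup p G) (hZ : (Subgroup.center G).index ≤ p ^ 2) (E : Subgroup G)
    (hcen : ∀ g : G, (∀ x ∈ E, g * x = x * g) → g ∈ E) (hne : E ≠ ⊤) :
    Subgroup.center G ≤ E ∧ E.index = p ∧ (Subgroup.center G).relIndex E = p ∧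
      (∀ a ∈ E, ∀ b ∈ E, a * b = b * a) ∧ E.Normal := by
  have hZE : Subgroup.center G ≤ E := fun z hz => hcen z (fun x _ => mem_center_comm hz x)
  have hEZ : ¬ E ≤ Subgroup.center G := by
    intro hle
    apply hne
    rw [eq_top_iff]
    intro g _
    exact hcen g (fun x hx => (mem_center_comm (hle hx) g).symm)
  have hmul := Subgroup.relIndex_mul_index hZE
  have hi1 : p ≤ E.index := by
    obtain ⟨n, hn⟩ := hG.index E
    have : n ≠ 0 := by
      intro h0
      rw [h0, pow_zero] at hn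
      exact hne (Subgroup.index_eq_one.mp hn)
    rw [hn]
    calc p = p ^ 1 := (pow_one p).symm
      _ ≤ p ^ n := Nat.pow_le_pow_right hp.out.pos (by omega)
  have hi2 : p ≤ (Subgroup.center G).relIndex E := by
    obtain ⟨n, hn⟩ := (hG.to_subgroup E).index ((Subgroup.center G).subgroupOf E)
    have hn' : (Subgroup.center G).relIndex E = p ^ n := hn
    have : n ≠ 0 := by
      intro h0
      rw [h0, pow_zero] at hn'
      exact hEZ (Subgroup.relIndex_eq_one.mp hn')
    rw [hn']
    calc p = p ^ 1 := (pow_one p).symm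
      _ ≤ p ^ n := Nat.pow_le_pow_right hp.out.pos (by omega)
  have hprod : (Subgroup.center G).relIndex E * E.index ≤ p * p := by
    rw [hmul, ← pow_two]
    exact hZ
  have hp0 : 0 < p := hp.out.pos
  have hE : E.index = p := by
    apply le_antisymm _ hi1
    by_contra hcon
    push Not at hcon
    have : p * p < (Subgroup.center G).relIndex E * E.index :=
      calc p * p < p * E.index := Nat.mul_lt_mul_of_pos_left hcon hp0
        _ ≤ (Subgroup.center G).relIndex E * E.index := Nat.mul_le_mul_right _ hi2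
    omega
  have hR : (Subgroup.center G).relIndex E = p := by
    apply le_antisymm _ hi2
    by_contra hcon
    push Not at hcon
    have : p * p < (Subgroup.center G).relIndex E * E.index :=
      calc p * p < (Subgroup.center G).relIndex E * p := Nat.mul_lt_mul_of_pos_right hcon hp0
        _ ≤ (Subgroup.center G).relIndex E * E.index := Nat.mul_le_mul_left _ hi1
    omega
  have hnorm : E.Normal := by
    refine ⟨fun x hx g => ?_⟩
    have h1 := hZE (comm_mem_center hG hZ g x)
    have := E.mul_mem h1 hx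
    rwa [inv_mul_cancel_right] at this
  refine ⟨hZE, hE, hR, ?_, hnorm⟩
  have hZ'le : (Subgroup.center G).subgroupOf E ≤ Subgroup.center ↥E := by
    intro x hx
    rw [Subgroup.mem_subgroupOf] at hx
    rw [Subgroup.mem_center_iff]
    intro g
    apply Subtype.ext
    exact (mem_center_comm hx (g : G)).symm
  haveI hZ'n : ((Subgroup.center G).subgroupOf E).Normal := by
    refine ⟨fun x hx g => ?_⟩
    have := mem_center_comm (hZ'le hx) g⁻¹
    rw [mul_assoc, this, mul_inv_cancel_left]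
    exact hx
  have hcard : Nat.card (↥E ⧸ (Subgroup.center G).subgroupOf E) = p := hR
  haveI := isCyclic_of_prime_card hcard
  have key := commutative_of_cyclic_center_quotient
    (QuotientGroup.mk' ((Subgroup.center G).subgroupOf E))
    (by rw [QuotientGroup.ker_mk']; exact hZ'le)
  intro a ha b hb
  exact congrArg Subtype.val (key ⟨a, ha⟩ ⟨b, hb⟩)

/-- facts about an abelian normal subgroup of prime index and an element outside it -/
theorem max_facts (E : Subgroup G) [hE : E.Normal] (hidx : E.index = p)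
    (hab : ∀ a ∈ E, ∀ b ∈ E, a * b = b * a) (y : G) (hy : y ∉ E) :
    E ⊔ Subgroup.zpowers y = ⊤ ∧ y ^ p ∈ E ∧ (∀ x ∈ E, y * x = x * y → x ∈ Subgroup.center G) ∧
      ∀ g : G, ∃ n : ℕ, ∀ x ∈ E, g * x * g⁻¹ = y ^ n * x * (y ^ n)⁻¹ := by
  have htop : E ⊔ Subgroup.zpowers y = ⊤ :=
    eq_top_of_index_prime hidx le_sup_left
      (fun h => hy (h (Subgroup.mem_sup_right (Subgroup.mem_zpowers y))))
  refine ⟨htop, ?_, ?_, ?_⟩
  · have := E.pow_index_mem y
    rwa [hidx] at this
  · intro x hx hxy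
    rw [Subgroup.mem_center_iff]
    have hle : E ⊔ Subgroup.zpowers y ≤ Subgroup.centralizer {x} := by
      refine sup_le (fun e he => ?_) (Subgroup.zpowers_le.mpr ?_)
      · rw [Subgroup.mem_centralizer_iff]
        rintro _ rfl
        exact hab _ hx e he
      · rw [Subgroup.mem_centralizer_iff]
        rintro _ rfl
        exact hxy.symm
    rw [htop] at hle
    intro g
    have := Subgroup.mem_centralizer_iff.mp (hle (Subgroup.mem_top g)) x rfl
    exact this.symm
  · intro g
    have hg : g ∈ ((E ⊔ Subgroup.zpowers y : Subgroup G) : Set G) := by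
      rw [htop]
      exact Set.mem_univ g
    rw [Subgroup.normal_mul] at hg
    obtain ⟨e, he, z, hz, rfl⟩ := Set.mem_mul.mp hg
    have hz' : z ∈ Submonoid.powers y := mem_powers_iff_mem_zpowers.mpr hz
    obtain ⟨n, rfl⟩ := hz'
    refine ⟨n, fun x hx => ?_⟩
    have h1 : y ^ n * x * (y ^ n)⁻¹ ∈ E := hE.conj_mem x hx (y ^ n)
    have h2 := hab e he _ h1
    calc e * y ^ n * x * (e * y ^ n)⁻¹ = e * (y ^ n * x * (y ^ n)⁻¹) * e⁻¹ := by group
      _ = y ^ n * x * (y ^ n)⁻¹ := by rw [h2, mul_inv_cancel_right]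

end fin

section two

variable [Finite G]

theorem inv_eq_self_of_sq {x : G} (h : x ^ 2 = 1) : x⁻¹ = x := by
  rw [pow_two] at h
  exact inv_eq_of_mul_eq_one_right h

theorem comm_of_sq {E : Subgroup G} (hsq : ∀ x ∈ E, x ^ 2 = 1) :
    ∀ a ∈ E, ∀ b ∈ E, a * b = b * a := by
  intro a ha b hb
  have h1 := inv_eq_self_of_sq (hsq _ (E.mul_mem ha hb))
  rw [mul_inv_rev, inv_eq_self_of_sq (hsq a ha), inv_eq_self_of_sq (hsq b hb)] at h1
  exact h1.symm

theorem two_max {E E' E'' : Subgroup G} (hE : E.index = 2) (hE' : E'.index = 2)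
    (hE'' : E''.index = 2) (hZ : Subgroup.center G ≤ E') (hsq : ∀ x ∈ E, x ^ 2 = 1)
    (hsq' : ∀ x ∈ E', x ^ 2 = 1) (hsq'' : ∀ x ∈ E'', x ^ 2 = 1) (hne : E ≠ E') :
    E'' = E ∨ E'' = E' := by
  have hp2 : Fact (Nat.Prime 2) := ⟨Nat.prime_two⟩
  obtain ⟨e', he', he'E⟩ : ∃ e' ∈ E', e' ∉ E := by
    by_contra hcon
    push Not at hcon
    exact hne (eq_of_le_of_index_eq hE' hE hcon).symm
  have claim : ∀ x ∈ E'', x ∈ E ∨ x ∈ E' := by
    intro x hx
    by_contra hcon
    push Not at hcon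
    obtain ⟨hxE, hxE'⟩ := hcon
    have heE : x * e' ∈ E := (Subgroup.mul_mem_iff_of_index_two hE).mpr
      ⟨fun h => absurd h hxE, fun h => absurd h he'E⟩
    have heE' : x * e' ∉ E' := by
      intro h
      have := (Subgroup.mul_mem_iff_of_index_two hE').mp h
      exact hxE' (this.mpr he')
    have hx2 := hsq'' x hx
    have he'2 := hsq' e' he'
    have he2 := hsq _ heE
    -- x = e * e'
    have hxe : x = (x * e') * e' := by
      rw [mul_assoc, ← pow_two, he'2, mul_one]
    have hcomm : (x * e') * e' = e' * (x * e') := by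
      have h1 : ((x * e') * e') ^ 2 = 1 := by rw [← hxe]; exact hx2
      have h2 := inv_eq_self_of_sq h1
      rw [mul_inv_rev, inv_eq_self_of_sq he'2, inv_eq_self_of_sq he2] at h2
      exact h2.symm
    have hcen : x * e' ∈ Subgroup.center G := by
      rw [Subgroup.mem_center_iff]
      have hle : Subgroup.centralizer {x * e'} = ⊤ := by
        refine eq_top_of_index_prime hE (fun e he => ?_) (fun h => he'E (h ?_))
        · rw [Subgroup.mem_centralizer_iff]
          rintro _ rfl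
          exact comm_of_sq hsq _ heE e he
        · rw [Subgroup.mem_centralizer_iff]
          rintro _ rfl
          exact hcomm
      intro g
      have hg : g ∈ Subgroup.centralizer {x * e'} := by rw [hle]; exact Subgroup.mem_top g
      exact (Subgroup.mem_centralizer_iff.mp hg (x * e') rfl).symm
    exact heE' (hZ hcen)
  have hor : E'' ≤ E ∨ E'' ≤ E' := by
    by_contra hcon
    push Not at hcon
    obtain ⟨h1, h2⟩ := hcon
    obtain ⟨x₁, hx₁, hx₁E⟩ := SetLike.not_le_iff_exists.mp h1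
    obtain ⟨x₂, hx₂, hx₂E'⟩ := SetLike.not_le_iff_exists.mp h2
    have hx₁E' : x₁ ∈ E' := (claim x₁ hx₁).resolve_left hx₁E
    have hx₂E : x₂ ∈ E := (claim x₂ hx₂).resolve_right hx₂E'
    rcases claim _ (E''.mul_mem hx₁ hx₂) with h | h
    · exact hx₁E ((Subgroup.mul_mem_cancel_right E hx₂E).mp h)
    · exact hx₂E' ((Subgroup.mul_mem_cancel_left E' hx₁E').mp h)
  rcases hor with h | h
  · exact Or.inl (eq_of_le_of_index_eq hE'' hE h)
  · exact Or.inr (eq_of_le_of_index_eq hE'' hE' h)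

theorem map_mul_aut (E : Subgroup G) (φ ψ : MulAut G) :
    E.map (φ * ψ).toMonoidHom = (E.map ψ.toMonoidHom).map φ.toMonoidHom := by
  rw [Subgroup.map_map]
  rfl

theorem aut_mem_center (α : MulAut G) {z : G} (hz : z ∈ Subgroup.center G) :
    α z ∈ Subgroup.center G := by
  rw [Subgroup.mem_center_iff] at hz ⊢
  intro g
  have := congrArg α (hz (α⁻¹ g))
  rwa [map_mul, map_mul, MulAut.apply_inv_self] at this

theorem fix_of_odd {E : Subgroup G} (hE : E.index = 2) (hZ : Subgroup.center G ≤ E)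
    (hsq : ∀ x ∈ E, x ^ 2 = 1) (α : MulAut G) (m : ℕ) (hm : Odd m)
    (hαm : E.map (α ^ m).toMonoidHom = E) : E.map α.toMonoidHom = E := by
  by_contra hne
  have hidx : ∀ (K : Subgroup G), K.index = 2 → (K.map α.toMonoidHom).index = 2 := by
    intro K hK
    have := Subgroup.index_map_equiv K α
    rw [← hK]
    exact this
  have hsqm : ∀ (K : Subgroup G), (∀ x ∈ K, x ^ 2 = 1) → ∀ x ∈ K.map α.toMonoidHom, x ^ 2 = 1 := by
    rintro K hK _ ⟨x, hx, rfl⟩
    show (α x) ^ 2 = 1
    rw [← map_pow, hK x hx, map_one]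
  have hZ' : Subgroup.center G ≤ E.map α.toMonoidHom := by
    intro z hz
    refine ⟨α⁻¹ z, hZ (aut_mem_center _ hz), ?_⟩
    exact MulAut.apply_inv_self _ _ _
  have h2 := two_max hE (hidx E hE) (hidx _ (hidx E hE)) hZ' hsq (hsqm E hsq)
    (hsqm _ (hsqm E hsq)) (Ne.symm hne)
  have hsq2 : E.map (α ^ 2).toMonoidHom = E := by
    rw [pow_two, map_mul_aut]
    rcases h2 with h | h
    · exact h
    · exfalso
      exact hne (Subgroup.map_injective α.injective h)
  have hev : ∀ k : ℕ, E.map (α ^ (2 * k + 1)).toMonoidHom = E.map α.toMonoidHom := by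
    intro k
    induction k with
    | zero => simp
    | succ k ih =>
      have : 2 * (k + 1) + 1 = (2 * k + 1) + 2 := by ring
      rw [this, pow_add, map_mul_aut, hsq2, ih]
  obtain ⟨k, rfl⟩ := hm
  rw [hev k] at hαm
  exact hne hαm

end two

end Cfsg.Agent.Lib.Helper27.XsGroup
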