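import Cfsg.Agent.Lib.Helper27.XsLocal
import Cfsg.Agent.Lib.Helper27.XsGroup
import Cfsg.Agent.Lib.Helper26.FusionHyp
import Cfsg.Agent.Lib.Helper26.StrongEmb
import Cfsg.Agent.S5326
import Cfsg.Agent.Lib.Helper27.OrderPCube2

set_option autoImplicit false

namespace Cfsg.Agent.Lib.Helper27.XsFus

open Cfsg Cfsg.FusionSystem Cfsg.Agent.Lib.Helper26

variable {Ω : Type*} [Group Ω] {S : Subgroup Ω}

/-- the centre of `S`, inside `Ω` -/
def ZS (S : Subgroup Ω) : Subgroup Ω := (Subgroup.center ↥S).map S.subtype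

theorem mem_ZS {x : Ω} : x ∈ ZS S ↔ x ∈ S ∧ ∀ s ∈ S, s * x = x * s := by
  constructor
  · rintro ⟨z, hz, rfl⟩
    refine ⟨z.2, fun s hs => ?_⟩
    have := Subgroup.mem_center_iff.mp hz ⟨s, hs⟩
    exact congrArg Subtype.val this
  · rintro ⟨hx, h⟩
    refine ⟨⟨x, hx⟩, ?_, rfl⟩
    rw [SetLike.mem_coe, Subgroup.mem_center_iff]
    intro g
    exact Subtype.ext (h g g.2)

theorem ZS_le : ZS S ≤ S := fun _ hx => (mem_ZS.mp hx).1

/-- the commutator subgroup of `S`, inside `Ω` -/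
def WS (S : Subgroup Ω) : Subgroup Ω :=
  Subgroup.closure {w | ∃ a ∈ S, ∃ b ∈ S, w = a * b * a⁻¹ * b⁻¹}

theorem comm_mem_WS {a b : Ω} (ha : a ∈ S) (hb : b ∈ S) : a * b * a⁻¹ * b⁻¹ ∈ WS S :=
  Subgroup.subset_closure ⟨a, ha, b, hb, rfl⟩

section fin

variable [Finite S] {p : ℕ} [hp : Fact p.Prime]

theorem comm_mem_ZS (hS : IsPGroup p S) (hZ : (Subgroup.center ↥S).index ≤ p ^ 2) {a b : Ω}
    (ha : a ∈ S) (hb : b ∈ S) : a * b * a⁻¹ * b⁻¹ ∈ ZS S := by
  have := XsGroup.comm_mem_center hS hZ ⟨a, ha⟩ ⟨b, hb⟩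
  exact ⟨_, this, rfl⟩

theorem WS_le_ZS (hS : IsPGroup p S) (hZ : (Subgroup.center ↥S).index ≤ p ^ 2) : WS S ≤ ZS S := by
  rw [WS, Subgroup.closure_le]
  rintro _ ⟨a, ha, b, hb, rfl⟩
  exact comm_mem_ZS hS hZ ha hb

theorem conjAut_pow (E : Subgroup Ω) (y : Ω) (hy : y ∈ Subgroup.normalizer (E : Set Ω)) (n : ℕ)
    (x : E) : ((((conjAut E y hy) ^ n) x : E) : Ω) = y ^ n * (x : Ω) * (y ^ n)⁻¹ := by
  induction n with
  | zero => simp
  | succ n ih =>
    rw [pow_succ', MulAut.mul_apply, conjAut_apply, ih, pow_succ']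
    group

/-- data attached to an essential subgroup -/
structure EssData (p : ℕ) (F : FusionSystem S) (E : Subgroup Ω) (y : Ω) : Prop where
  hES : E ≤ S
  hZE : ZS S ≤ E
  hyS : y ∈ S
  hyE : y ∉ E
  hyN : y ∈ Subgroup.normalizer (E : Set Ω)
  hidx : (E.subgroupOf S).index = p
  hnorm : ∀ s ∈ S, ∀ x ∈ E, s * x * s⁻¹ ∈ E
  hab : ∀ a ∈ E, ∀ b ∈ E, a * b = b * a
  hpow : y ^ p ∈ E
  hfix : ∀ x ∈ E, y * x = x * y → x ∈ ZS S
  hconj : ∀ g ∈ S, ∃ n : ℕ, ∀ x ∈ E, g * x * g⁻¹ = y ^ n * x * (y ^ n)⁻¹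
  hrel : (ZS S).relIndex E = p
  htop : ∀ K : Subgroup Ω, E ≤ K → y ∈ K → S ≤ K
  hmax : ∀ K : Subgroup Ω, E ≤ K → K ≤ S → ¬ K ≤ E → S ≤ K

theorem exists_essData (hS : IsPGroup p S) (F : FusionSystem S) (hF : F.IsSaturated p)
    (hZ : (Subgroup.center ↥S).index ≤ p ^ 2) {E : Subgroup Ω} (hE : F.IsEssential p E) :
    ∃ y, EssData p F E y := by
  have hES : E ≤ S := hE.1.1
  have hne : E ≠ S := Cfsg.Agent.S5326.ne_top_of_essential hS F hF hE
  have hcen' : ∀ g : ↥S, (∀ x ∈ E.subgroupOf S, g * x = x * g) → g ∈ E.subgroupOf S := by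
    intro g hg
    rw [Subgroup.mem_subgroupOf]
    apply hE.1.2 E (isConj_refl F hES)
    have hgc : (g : Ω) ∈ Subgroup.centralizer (E : Set Ω) := by
      rw [Subgroup.mem_centralizer_iff]
      intro h hh
      have := hg ⟨h, hES hh⟩ (Subgroup.mem_subgroupOf.mpr hh)
      exact (congrArg Subtype.val this).symm
    exact ⟨g.2, hgc⟩
  have hne' : E.subgroupOf S ≠ ⊤ := by
    intro h
    rw [Subgroup.subgroupOf_eq_top] at h
    exact hne (le_antisymm hES h)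
  obtain ⟨hZE', hidx, hrel, hab', hnorm'⟩ := XsGroup.ess_struct hS hZ (E.subgroupOf S) hcen' hne'
  obtain ⟨y', hy'⟩ : ∃ y' : ↥S, y' ∉ E.subgroupOf S := by
    by_contra hcon
    push Not at hcon
    exact hne' ((Subgroup.eq_top_iff' _).mpr hcon)
  haveI := hnorm'
  obtain ⟨htop, hyp, hfix, hconj⟩ := XsGroup.max_facts (E.subgroupOf S) hidx hab' y' hy'
  have hnorm : ∀ s ∈ S, ∀ x ∈ E, s * x * s⁻¹ ∈ E := by
    intro s hs x hx
    have := hnorm'.conj_mem ⟨x, hES hx⟩ (Subgroup.mem_subgroupOf.mpr hx) ⟨s, hs⟩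
    exact Subgroup.mem_subgroupOf.mp this
  refine ⟨y'.1, hES, ?_, y'.2, fun h => hy' (Subgroup.mem_subgroupOf.mpr h), ?_, hidx, hnorm,
    ?_, ?_, ?_, ?_, ?_, ?_, ?_⟩
  · rintro _ ⟨z, hz, rfl⟩
    exact Subgroup.mem_subgroupOf.mp (hZE' hz)
  · rw [Subgroup.mem_normalizer_iff]
    intro h
    constructor
    · exact hnorm _ y'.2 h
    · intro hh
      have := hnorm _ (S.inv_mem y'.2) _ hh
      rwa [inv_inv, ← mul_assoc, ← mul_assoc, inv_mul_cancel, one_mul, inv_mul_cancel_right] at this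
  · intro a ha b hb
    have := hab' ⟨a, hES ha⟩ (Subgroup.mem_subgroupOf.mpr ha) ⟨b, hES hb⟩
      (Subgroup.mem_subgroupOf.mpr hb)
    exact congrArg Subtype.val this
  · exact Subgroup.mem_subgroupOf.mp hyp
  · intro x hx hxy
    have := hfix ⟨x, hES hx⟩ (Subgroup.mem_subgroupOf.mpr hx) (Subtype.ext hxy)
    exact ⟨_, this, rfl⟩
  · intro g hg
    obtain ⟨n, hn⟩ := hconj ⟨g, hg⟩
    refine ⟨n, fun x hx => ?_⟩
    have := hn ⟨x, hES hx⟩ (Subgroup.mem_subgroupOf.mpr hx)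
    exact congrArg Subtype.val this
  · have h1 := Subgroup.relIndex_map_map_of_injective (Subgroup.center ↥S) (E.subgroupOf S)
      (Subgroup.subtype_injective S)
    rw [Subgroup.map_subgroupOf_eq_of_le hES] at h1
    rw [ZS, h1]
    exact hrel
  · intro K hEK hyK s hs
    have hle : E.subgroupOf S ⊔ Subgroup.zpowers y' ≤ K.subgroupOf S := by
      refine sup_le (fun x hx => ?_) (Subgroup.zpowers_le.mpr ?_)
      · exact Subgroup.mem_subgroupOf.mpr (hEK (Subgroup.mem_subgroupOf.mp hx))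
      · exact Subgroup.mem_subgroupOf.mpr hyK
    rw [htop] at hle
    exact Subgroup.mem_subgroupOf.mp (hle (Subgroup.mem_top ⟨s, hs⟩))
  · intro K hEK hKS hnKE s hs
    have h1 : E.subgroupOf S ≤ K.subgroupOf S := fun x hx =>
      Subgroup.mem_subgroupOf.mpr (hEK (Subgroup.mem_subgroupOf.mp hx))
    have h2 : ¬ K.subgroupOf S ≤ E.subgroupOf S := by
      intro hle
      apply hnKE
      intro k hk
      have hk' : (⟨k, hKS hk⟩ : S) ∈ K.subgroupOf S := Subgroup.mem_subgroupOf.mpr hk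
      exact Subgroup.mem_subgroupOf.mp (hle hk')
    have h3 := XsGroup.eq_top_of_index_prime hidx h1 h2
    have : (⟨s, hs⟩ : S) ∈ K.subgroupOf S := by rw [h3]; exact Subgroup.mem_top _
    exact Subgroup.mem_subgroupOf.mp this

end fin

section loc

variable [Finite S] {p : ℕ} [hp : Fact p.Prime]

/-- `z ↦ u z * z⁻¹` on a commutative subgroup -/
def dfHom {E : Subgroup Ω} (hab : ∀ a ∈ E, ∀ b ∈ E, a * b = b * a) (u : MulAut E) : E →* E where
  toFun z := u z * z⁻¹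
  map_one' := by rw [map_one, inv_one, mul_one]
  map_mul' a b := by
    have hc : ∀ s t : E, s * t = t * s := fun s t => Subtype.ext (hab s s.2 t t.2)
    calc u (a * b) * (a * b)⁻¹ = u a * (u b * b⁻¹ * a⁻¹) := by rw [map_mul]; group
      _ = u a * (a⁻¹ * (u b * b⁻¹)) := by rw [hc (u b * b⁻¹) a⁻¹]
      _ = u a * a⁻¹ * (u b * b⁻¹) := by group

theorem dfHom_apply {E : Subgroup Ω} (hab : ∀ a ∈ E, ∀ b ∈ E, a * b = b * a) (u : MulAut E)
    (z : E) : dfHom hab u z = u z * z⁻¹ := rfl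

theorem EssData.hW (hS : IsPGroup p S) (hZ : (Subgroup.center ↥S).index ≤ p ^ 2)
    {F : FusionSystem S} {E : Subgroup Ω} {y : Ω} (d : EssData p F E y) (x : E) :
    x ∈ (WS S).subgroupOf E ↔ ∃ z : E, conjAut E y d.hyN z * z⁻¹ = x := by
  constructor
  · intro hx
    rw [Subgroup.mem_subgroupOf] at hx
    -- the image subgroup
    have hW₃ : (((dfHom d.hab (conjAut E y d.hyN)).range.map E.subtype).subgroupOf S) ≤
        Subgroup.center ↥S := by
      intro w hw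
      rw [Subgroup.mem_subgroupOf] at hw
      obtain ⟨_, ⟨z, rfl⟩, hz⟩ := hw
      have h1 : (w : Ω) ∈ ZS S := by
        rw [← hz]
        exact comm_mem_ZS hS hZ d.hyS (d.hES z.2)
      rw [Subgroup.mem_center_iff]
      intro g
      exact Subtype.ext ((mem_ZS.mp h1).2 g g.2)
    have hab' : ∀ a ∈ E.subgroupOf S, ∀ b ∈ E.subgroupOf S, a * b = b * a := by
      intro a ha b hb
      exact Subtype.ext (d.hab _ (Subgroup.mem_subgroupOf.mp ha) _ (Subgroup.mem_subgroupOf.mp hb))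
    have htop' : ∀ K : Subgroup ↥S, E.subgroupOf S ≤ K → (⟨y, d.hyS⟩ : ↥S) ∈ K → K = ⊤ := by
      intro K hEK hyK
      rw [eq_top_iff]
      intro s _
      have h1 := d.htop (K.map S.subtype)
        (fun e he => ⟨⟨e, d.hES he⟩, hEK (Subgroup.mem_subgroupOf.mpr he), rfl⟩)
        ⟨⟨y, d.hyS⟩, hyK, rfl⟩ s.2
      obtain ⟨k, hk, hks⟩ := h1
      have : k = s := Subtype.ext hks
      rw [← this]
      exact hk
    have h3 : ∀ e ∈ E.subgroupOf S, (⟨y, d.hyS⟩ : ↥S) * e * (⟨y, d.hyS⟩ : ↥S)⁻¹ * e⁻¹ ∈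
        ((dfHom d.hab (conjAut E y d.hyN)).range.map E.subtype).subgroupOf S := by
      intro e he
      rw [Subgroup.mem_subgroupOf]
      exact ⟨_, ⟨⟨e.1, Subgroup.mem_subgroupOf.mp he⟩, rfl⟩, rfl⟩
    have key := XsGroup.comm_mem_of_gen _ hW₃ (E.subgroupOf S) hab' ⟨y, d.hyS⟩ htop' h3
    have hle : WS S ≤ (dfHom d.hab (conjAut E y d.hyN)).range.map E.subtype := by
      rw [WS, Subgroup.closure_le]
      rintro _ ⟨a, ha, b, hb, rfl⟩
      have := key ⟨a, ha⟩ ⟨b, hb⟩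
      rw [Subgroup.mem_subgroupOf] at this
      exact this
    obtain ⟨_, ⟨z, rfl⟩, hz⟩ := hle hx
    exact ⟨z, Subtype.ext hz⟩
  · rintro ⟨z, rfl⟩
    rw [Subgroup.mem_subgroupOf]
    exact comm_mem_WS d.hyS (d.hES z.2)

theorem EssData.syl (hS : IsPGroup p S) {F : FusionSystem S} (hF : F.IsSaturated p)
    {E : Subgroup Ω} (hE : F.IsEssential p E) {y : Ω} (d : EssData p F E y) :
    ∀ B : Subgroup (MulAut E), B ≤ F.autGroup E → IsPGroup p B → Nat.card B ≤ p := by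
  haveI : Finite E := finite_of_le d.hES
  have hup : (conjAut E y d.hyN) ^ p = 1 := by
    ext x
    rw [conjAut_pow, MulAut.one_apply, d.hab _ d.hpow _ x.2, mul_inv_cancel_right]
  have hle : autInducedBy S E ≤ Subgroup.zpowers (conjAut E y d.hyN) := by
    intro α hα
    obtain ⟨g, hg, hgα⟩ := mem_autInducedBy_iff.mp hα
    obtain ⟨n, hn⟩ := d.hconj g hg
    have : α = (conjAut E y d.hyN) ^ n := by
      ext x
      rw [hgα, conjAut_pow, hn x x.2]
    rw [this]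
    exact Subgroup.npow_mem_zpowers _ n
  have hcz : Nat.card (Subgroup.zpowers (conjAut E y d.hyN)) ≤ p := by
    rw [Nat.card_zpowers]
    exact Nat.le_of_dvd hp.out.pos (orderOf_dvd_of_pow_eq_one hup)
  obtain ⟨-, hfa, -⟩ := saturated_fullyNormalized hS F hF hE.2.1
  obtain ⟨R, hR⟩ := hfa.2
  have hcR : Nat.card (R : Subgroup (F.autGroup E)) ≤ p := by
    rw [hR, Nat.card_congr (Subgroup.subgroupOfEquivOfLe (autInducedBy_le_autGroup F d.hES)).toEquiv]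
    exact (Subgroup.card_le_of_le hle).trans hcz
  intro B hBA hBp
  have hB' : IsPGroup p (B.subgroupOf (F.autGroup E)) := hBp.comap_subtype
  obtain ⟨Q, hQ⟩ := hB'.exists_le_sylow
  have hcQ : Nat.card (Q : Subgroup (F.autGroup E)) = Nat.card (R : Subgroup (F.autGroup E)) := by
    rw [Sylow.card_eq_multiplicity, Sylow.card_eq_multiplicity]
  calc Nat.card B = Nat.card (B.subgroupOf (F.autGroup E)) :=
        (Nat.card_congr (Subgroup.subgroupOfEquivOfLe hBA).toEquiv).symm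
    _ ≤ Nat.card (Q : Subgroup (F.autGroup E)) := Subgroup.card_le_of_le hQ
    _ = Nat.card (R : Subgroup (F.autGroup E)) := hcQ
    _ ≤ p := hcR

theorem EssData.opc {F : FusionSystem S} {E : Subgroup Ω} (hE : F.IsEssential p E) {y : Ω}
    (d : EssData p F E y) :
    ∀ B : Subgroup (F.autGroup E), B.Normal → IsPGroup p B → B = ⊥ := by
  haveI : Finite E := finite_of_le d.hES
  obtain ⟨-, -, hnorm, E', hE'⟩ := hE
  have hInn : Cfsg.Inn ↥E = ⊥ := by
    rw [eq_bot_iff]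
    rintro φ ⟨g, rfl⟩
    rw [Subgroup.mem_bot]
    ext x
    rw [MulAut.conj_apply, MulAut.one_apply]
    have hc : g * x = x * g := Subtype.ext (d.hab g g.2 x x.2)
    rw [hc, mul_inv_cancel_right]
  have hN : (Cfsg.Inn ↥E).subgroupOf (F.autGroup E) = ⊥ := by
    rw [hInn]
    exact Subgroup.bot_subgroupOf _
  intro B hBn hBp
  have hmapn : (B.map (QuotientGroup.mk' ((Cfsg.Inn ↥E).subgroupOf (F.autGroup E)))).Normal :=
    hBn.map _ (QuotientGroup.mk'_surjective _)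
  have hmapp : IsPGroup p (B.map (QuotientGroup.mk' ((Cfsg.Inn ↥E).subgroupOf (F.autGroup E)))) :=
    hBp.map _
  have hbot := Cfsg.Agent.Lib.Helper26.eq_bot_of_normal_of_stronglyPEmbedded hE' hmapn hmapp
  rw [eq_bot_iff]
  intro b hb
  have hb1 : QuotientGroup.mk' ((Cfsg.Inn ↥E).subgroupOf (F.autGroup E)) b ∈
      B.map (QuotientGroup.mk' ((Cfsg.Inn ↥E).subgroupOf (F.autGroup E))) :=
    Subgroup.mem_map_of_mem _ hb
  rw [hbot, Subgroup.mem_bot] at hb1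
  have hb2 : b ∈ (Cfsg.Inn ↥E).subgroupOf (F.autGroup E) := (QuotientGroup.eq_one_iff b).mp hb1
  rw [hN] at hb2
  exact hb2

theorem EssData.loc (hS : IsPGroup p S) {F : FusionSystem S} (hF : F.IsSaturated p)
    (hZ : (Subgroup.center ↥S).index ≤ p ^ 2) {E : Subgroup Ω} (hE : F.IsEssential p E) {y : Ω}
    (d : EssData p F E y) :
    XsLocal.Loc p (F.autGroup E) (conjAut E y d.hyN) ((ZS S).subgroupOf E)
      ((WS S).subgroupOf E) where
  comm a b := Subtype.ext (d.hab a a.2 b b.2)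
  pgrp := hS.to_le d.hES
  mem := autInducedBy_le_autGroup F d.hES (conjAut_mem_autInducedBy d.hyS d.hyN)
  hZ x := by
    rw [Subgroup.mem_subgroupOf]
    constructor
    · intro hx
      apply Subtype.ext
      rw [conjAut_apply, (mem_ZS.mp hx).2 y d.hyS, mul_inv_cancel_right]
    · intro hx
      have h1 := congrArg Subtype.val hx
      rw [conjAut_apply] at h1
      apply d.hfix x x.2
      calc y * (x : Ω) = y * (x : Ω) * y⁻¹ * y := by group
        _ = (x : Ω) * y := by rw [h1]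
  hW x := d.hW hS hZ x
  idx := d.hrel
  le := fun x hx => Subgroup.mem_subgroupOf.mpr (WS_le_ZS hS hZ (Subgroup.mem_subgroupOf.mp hx))
  syl := d.syl hS hF hE
  opc := d.opc hE

end loc

section general

variable [Finite S] {p : ℕ} [hp : Fact p.Prime]

theorem eq_bot_of_normal {F : FusionSystem S} (hcore : F.core = ⊥) {Q : Subgroup Ω}
    (hQ : F.IsNormal Q) : Q = ⊥ := by
  rw [eq_bot_iff, ← hcore]
  exact le_sSup hQ

theorem normal_of_invariant (hS : IsPGroup p S) (F : FusionSystem S) (hF : F.IsSaturated p)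
    (Q : Subgroup Ω)
    (h : ∀ P : Subgroup Ω, (P = S ∨ F.IsEssential p P) →
      Q ≤ P ∧ ∀ α ∈ F.autGroup P, ∀ x : P, (x : Ω) ∈ Q → ((α x : P) : Ω) ∈ Q) :
    F.IsNormal Q := by
  refine isNormal_of_forall_essential hS F hF Q (fun P hP => ?_)
  obtain ⟨hQP, hinv⟩ := h P hP
  have hPS : P ≤ S := by
    rcases hP with rfl | hE
    · exact le_rfl
    · exact hE.1.1
  haveI : Finite P := finite_of_le hPS
  refine ⟨hQP, fun α hα => ?_⟩
  apply Subgroup.eq_of_le_of_card_ge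
  · rintro _ ⟨x, hx, rfl⟩
    exact Subgroup.mem_subgroupOf.mpr (hinv α hα x (Subgroup.mem_subgroupOf.mp hx))
  · rw [Subgroup.card_map_of_injective α.injective]

theorem exists_essential (hS : IsPGroup p S) (F : FusionSystem S) (hF : F.IsSaturated p)
    (hS1 : S ≠ ⊥) (hcore : F.core = ⊥) : ∃ E, F.IsEssential p E := by
  by_contra hcon
  push Not at hcon
  apply hS1
  apply eq_bot_of_normal hcore
  refine normal_of_invariant hS F hF S (fun P hP => ?_)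
  rcases hP with rfl | hE
  · exact ⟨le_rfl, fun α _ x _ => (α x).2⟩
  · exact absurd hE (hcon P)

theorem exists_restrict (F : FusionSystem S) {E Q : Subgroup Ω} (hES : E ≤ S) (hQE : Q ≤ E)
    {t : MulAut E} (ht : t ∈ F.autGroup E)
    (hpres : ∀ x : E, (x : Ω) ∈ Q → ((t x : E) : Ω) ∈ Q) :
    ∃ τ ∈ F.autGroup Q, ∀ x : Q, ((τ x : Q) : Ω) = ((t ⟨x, hQE x.2⟩ : E) : Ω) := by
  have hφ : E.subtype.comp t.toMonoidHom ∈ F.Hom E := (mem_autGroup_iff F hES).mp ht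
  have hψ := restrict_mem F hφ hQE
  have hr : ((E.subtype.comp t.toMonoidHom).comp (Subgroup.inclusion hQE)).range = Q := by
    haveI : Finite Q := finite_of_le (hQE.trans hES)
    apply Subgroup.eq_of_le_of_card_ge
    · rintro _ ⟨x, rfl⟩
      exact hpres _ x.2
    · rw [MonoidHom.range_eq_map, Subgroup.card_map_of_injective (F.injective_of_mem hψ),
        Subgroup.card_top]
  exact ⟨autOfHom F hψ hr, autOfHom_mem F hψ hr, fun x => rfl⟩

theorem aut_of_hom_top (F : FusionSystem S) (K : Subgroup Ω) (hK : K = S) (ψ : K →* Ω)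
    (hψ : ψ ∈ F.Hom K) :
    ∃ α ∈ F.autGroup S, ∀ (x : S), ((α x : S) : Ω) = ψ ⟨x, hK ▸ x.2⟩ := by
  subst hK
  have hr : ψ.range = K := by
    apply Subgroup.eq_of_le_of_card_ge (range_le F hψ)
    rw [MonoidHom.range_eq_map, Subgroup.card_map_of_injective (F.injective_of_mem hψ),
      Subgroup.card_top]
  exact ⟨autOfHom F hψ hr, autOfHom_mem F hψ hr, fun x => rfl⟩

theorem central_conj {z s : Ω} (hz : z ∈ ZS S) (hs : s ∈ S) : s * z * s⁻¹ = z := by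
  rw [(mem_ZS.mp hz).2 s hs, mul_inv_cancel_right]

theorem central_mem_normalizer {Q' : Subgroup Ω} (hQ' : Q' ≤ ZS S) {s : Ω} (hs : s ∈ S) :
    s ∈ Subgroup.normalizer (Q' : Set Ω) := by
  rw [Subgroup.mem_normalizer_iff]
  intro h
  constructor
  · intro hh
    rw [central_conj (hQ' hh) hs]
    exact hh
  · intro hh
    have h1 := central_conj (hQ' hh) (S.inv_mem hs)
    have h2 : s⁻¹ * (s * h * s⁻¹) * s⁻¹⁻¹ = h := by group
    rw [h2] at h1
    rw [h1]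
    exact hh

theorem central_extend (hS : IsPGroup p S) (F : FusionSystem S) (hF : F.IsSaturated p)
    {Q : Subgroup Ω} {φ : Q →* Ω} (hφ : φ ∈ F.Hom Q) (hQZ : Q ≤ ZS S) (hr : φ.range ≤ ZS S) :
    ∃ α ∈ F.autGroup S, ∀ x : Q, ((α ⟨x, ZS_le (hQZ x.2)⟩ : S) : Ω) = φ x := by
  have hcen : ∀ z ∈ ZS S, ∀ s ∈ S, s * z * s⁻¹ = z := by
    intro z hz s hs
    rw [(mem_ZS.mp hz).2 s hs, mul_inv_cancel_right]
  have hnorm : ∀ Q' : Subgroup Ω, Q' ≤ ZS S → ∀ s ∈ S, s ∈ Subgroup.normalizer (Q' : Set Ω) := by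
    intro Q' hQ' s hs
    rw [Subgroup.mem_normalizer_iff]
    intro h
    constructor
    · intro hh
      rw [hcen h (hQ' hh) s hs]
      exact hh
    · intro hh
      have h1 := hcen _ (hQ' hh) s⁻¹ (S.inv_mem hs)
      have h2 : s⁻¹ * (s * h * s⁻¹) * s⁻¹⁻¹ = h := by group
      rw [h2] at h1
      rw [h1]
      exact hh
  have hfn : F.IsFullyNormalized φ.range := by
    refine ⟨hr.trans ZS_le, fun Q' _ => ?_⟩
    have h1 : normalizerIn S φ.range = S :=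
      le_antisymm inf_le_left (fun s hs => ⟨hs, hnorm _ hr s hs⟩)
    rw [h1]
    exact card_le_card_of_le_of_finite inf_le_left
  obtain ⟨-, -, hrec⟩ := saturated_fullyNormalized hS F hF hfn
  obtain ⟨ψ, hψ, hext⟩ := hrec.2 Q φ hφ rfl
  have hK : extender S Q φ = S := by
    apply le_antisymm ((extender_le_normalizerIn S Q φ).trans inf_le_left)
    intro g hg
    rw [mem_extender_iff]
    refine ⟨hg, hnorm Q hQZ g hg, 1, S.one_mem, fun x => ?_⟩
    have : (⟨g * x * g⁻¹, conj_mem_of_mem_normalizer (hnorm Q hQZ g hg) x⟩ : Q) = x :=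
      Subtype.ext (hcen x (hQZ x.2) g hg)
    rw [this, one_mul, inv_one, mul_one]
  obtain ⟨α, hα, hαψ⟩ := aut_of_hom_top F _ hK ψ hψ
  refine ⟨α, hα, fun x => ?_⟩
  rw [hαψ]
  exact hext x x.2 _

end general

section odd

variable [Finite S] {p : ℕ} [hp : Fact p.Prime]

theorem ZS_comm {a b : Ω} (ha : a ∈ ZS S) (hb : b ∈ ZS S) : a * b = b * a :=
  (mem_ZS.mp hb).2 a (ZS_le ha)

theorem WS_le : WS S ≤ S := by
  rw [WS, Subgroup.closure_le]
  rintro _ ⟨a, ha, b, hb, rfl⟩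
  exact S.mul_mem (S.mul_mem (S.mul_mem ha hb) (S.inv_mem ha)) (S.inv_mem hb)

theorem aut_ZS (α : MulAut S) {x : S} (hx : (x : Ω) ∈ ZS S) : ((α x : S) : Ω) ∈ ZS S := by
  have h1 : x ∈ Subgroup.center ↥S := by
    rw [Subgroup.mem_center_iff]
    intro g
    exact Subtype.ext ((mem_ZS.mp hx).2 g g.2)
  exact ⟨_, XsGroup.aut_mem_center α h1, rfl⟩

theorem aut_WS (α : MulAut S) {x : S} (hx : (x : Ω) ∈ WS S) : ((α x : S) : Ω) ∈ WS S := by
  have key : ∀ w (hw : w ∈ WS S), ((α ⟨w, WS_le hw⟩ : S) : Ω) ∈ WS S := by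
    intro w hw
    induction hw using Subgroup.closure_induction with
    | mem w hw =>
      obtain ⟨a, ha, b, hb, rfl⟩ := hw
      have e : (⟨a * b * a⁻¹ * b⁻¹, WS_le (comm_mem_WS ha hb)⟩ : S) =
          ⟨a, ha⟩ * ⟨b, hb⟩ * ⟨a, ha⟩⁻¹ * ⟨b, hb⟩⁻¹ := rfl
      rw [e, map_mul, map_mul, map_mul, map_inv, map_inv]
      exact comm_mem_WS (α ⟨a, ha⟩).2 (α ⟨b, hb⟩).2
    | one =>
      have e : (⟨1, WS_le (WS S).one_mem⟩ : S) = 1 := rfl
      rw [e, map_one]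
      exact (WS S).one_mem
    | mul a b ha hb iha ihb =>
      have e : (⟨a * b, WS_le ((WS S).mul_mem ha hb)⟩ : S) =
          ⟨a, WS_le ha⟩ * ⟨b, WS_le hb⟩ := rfl
      rw [e, map_mul]
      exact (WS S).mul_mem iha ihb
    | inv a ha iha =>
      have e : (⟨a⁻¹, WS_le ((WS S).inv_mem ha)⟩ : S) = (⟨a, WS_le ha⟩ : S)⁻¹ := rfl
      rw [e, map_inv]
      exact (WS S).inv_mem iha
  exact key x hx

/-- `Aut_F(Z(S))` has no nontrivial `p`-elements -/
theorem autZ_p_elt (hS : IsPGroup p S) (F : FusionSystem S) (hF : F.IsSaturated p)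
    {φ : MulAut (ZS S)} (hφ : φ ∈ F.autGroup (ZS S)) (k : ℕ) (hk : φ ^ (p ^ k) = 1) : φ = 1 := by
  haveI : Finite (ZS S) := finite_of_le ZS_le
  have hcen : ∀ z ∈ ZS S, ∀ s ∈ S, s * z * s⁻¹ = z := by
    intro z hz s hs
    rw [(mem_ZS.mp hz).2 s hs, mul_inv_cancel_right]
  have hfn : F.IsFullyNormalized (ZS S) := by
    refine ⟨ZS_le, fun Q' _ => ?_⟩
    have h1 : normalizerIn S (ZS S) = S :=
      le_antisymm inf_le_left (fun s hs => ⟨hs, central_mem_normalizer le_rfl hs⟩)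
    rw [h1]
    exact card_le_card_of_le_of_finite inf_le_left
  obtain ⟨-, hfa, -⟩ := saturated_fullyNormalized hS F hF hfn
  obtain ⟨R, hR⟩ := hfa.2
  have hbot : autInducedBy S (ZS S) = ⊥ := by
    rw [eq_bot_iff]
    intro α hα
    obtain ⟨g, hg, hgα⟩ := mem_autInducedBy_iff.mp hα
    rw [Subgroup.mem_bot]
    ext x
    rw [hgα, hcen x x.2 g hg]
    rfl
  have hRbot : (R : Subgroup (F.autGroup (ZS S))) = ⊥ := by
    rw [hR, hbot]
    exact Subgroup.bot_subgroupOf _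
  have hx : (⟨φ, hφ⟩ : F.autGroup (ZS S)) ^ (p ^ k) = 1 := Subtype.ext hk
  have hpg : IsPGroup p (Subgroup.zpowers (⟨φ, hφ⟩ : F.autGroup (ZS S))) := by
    rintro ⟨g, hg⟩
    obtain ⟨i, rfl⟩ := Subgroup.mem_zpowers_iff.mp hg
    refine ⟨k, Subtype.ext ?_⟩
    show ((⟨φ, hφ⟩ : F.autGroup (ZS S)) ^ i) ^ (p ^ k) = 1
    rw [← zpow_natCast, ← zpow_mul, mul_comm, zpow_mul, zpow_natCast, hx, one_zpow]
  obtain ⟨Q, hQ⟩ := hpg.exists_le_sylow
  have hcQ : Nat.card (Q : Subgroup (F.autGroup (ZS S))) = 1 := by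
    rw [Sylow.card_eq_multiplicity, ← Sylow.card_eq_multiplicity R, hRbot, Subgroup.card_bot]
  have hQbot := Subgroup.card_eq_one.mp hcQ
  have hmem := hQ (Subgroup.mem_zpowers (⟨φ, hφ⟩ : F.autGroup (ZS S)))
  rw [hQbot, Subgroup.mem_bot] at hmem
  exact congrArg Subtype.val hmem

/-- uniqueness of the inverting automorphism of `Z(S)` -/
theorem tau_unique (hS : IsPGroup p S) (F : FusionSystem S) (hF : F.IsSaturated p)
    {τ₁ τ₂ : MulAut (ZS S)} (h₁ : τ₁ ∈ F.autGroup (ZS S)) (h₂ : τ₂ ∈ F.autGroup (ZS S))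
    (a₁ : ∀ z : ZS S, ((τ₁ z * z⁻¹ : ZS S) : Ω) ∈ WS S)
    (b₁ : ∀ w : ZS S, (w : Ω) ∈ WS S → τ₁ w = w⁻¹)
    (a₂ : ∀ z : ZS S, ((τ₂ z * z⁻¹ : ZS S) : Ω) ∈ WS S)
    (b₂ : ∀ w : ZS S, (w : Ω) ∈ WS S → τ₂ w = w⁻¹) : τ₁ = τ₂ := by
  haveI : Finite (ZS S) := finite_of_le ZS_le
  exact XsLocal.inv_unique (fun a b => Subtype.ext (ZS_comm a.2 b.2)) (hS.to_le ZS_le)
    (F.autGroup (ZS S)) (fun φ hφ k hk => autZ_p_elt hS F hF hφ k hk)
    ((WS S).subgroupOf (ZS S)) h₁ h₂ (fun z => Subgroup.mem_subgroupOf.mpr (a₁ z))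
    (fun w hw => b₁ w (Subgroup.mem_subgroupOf.mp hw))
    (fun z => Subgroup.mem_subgroupOf.mpr (a₂ z))
    (fun w hw => b₂ w (Subgroup.mem_subgroupOf.mp hw))

/-- the inverting automorphism of `Z(S)` attached to an essential subgroup and a moving element -/
theorem exists_tau (hS : IsPGroup p S) {F : FusionSystem S} (hF : F.IsSaturated p)
    (hZ : (Subgroup.center ↥S).index ≤ p ^ 2) (hp2 : p ≠ 2) {E : Subgroup Ω}
    (hE : F.IsEssential p E) {y : Ω} (d : EssData p F E y) {g : MulAut E}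
    (hg : g ∈ F.autGroup E) (hmov : ∃ x ∈ (ZS S).subgroupOf E, g x ∉ (ZS S).subgroupOf E) :
    ∃ τ ∈ F.autGroup (ZS S), (∀ z : ZS S, ((τ z * z⁻¹ : ZS S) : Ω) ∈ WS S) ∧
      (∀ w : ZS S, (w : Ω) ∈ WS S → τ w = w⁻¹) ∧
      ∀ z : ZS S, (τ z = z ↔ ((g⁻¹ ⟨z, d.hZE z.2⟩ : E) : Ω) ∈ ZS S) := by
  haveI : Finite E := finite_of_le d.hES
  obtain ⟨-, -, -, hmain⟩ := (d.loc hS hF hZ hE).main
  obtain ⟨-, -, -, -, hodd, -⟩ := hmain g hg hmov
  obtain ⟨t, htA, ht1, ht2, ht3⟩ := hodd hp2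
  have hpres : ∀ x : E, (x : Ω) ∈ ZS S → ((t x : E) : Ω) ∈ ZS S := by
    intro x hx
    have h1 := ht1 x (Subgroup.mem_subgroupOf.mpr hx)
    have h2 := WS_le_ZS hS hZ (Subgroup.mem_subgroupOf.mp h1)
    have h3 := (ZS S).mul_mem h2 hx
    have e : ((t x * x⁻¹ : E) : Ω) * (x : Ω) = ((t x : E) : Ω) := by
      rw [Subgroup.coe_mul, Subgroup.coe_inv, inv_mul_cancel_right]
    rwa [e] at h3
  obtain ⟨τ, hτ, hτt⟩ := exists_restrict F d.hES d.hZE htA hpres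
  refine ⟨τ, hτ, ?_, ?_, ?_⟩
  · intro z
    have h1 := ht1 ⟨z, d.hZE z.2⟩ (Subgroup.mem_subgroupOf.mpr z.2)
    have h2 := Subgroup.mem_subgroupOf.mp h1
    have e : ((τ z * z⁻¹ : ZS S) : Ω) =
        ((t ⟨z, d.hZE z.2⟩ * (⟨z, d.hZE z.2⟩ : E)⁻¹ : E) : Ω) := by
      rw [Subgroup.coe_mul, Subgroup.coe_mul, hτt z]
      rfl
    rw [e]
    exact h2
  · intro w hw
    have h1 := ht2 ⟨w, d.hZE w.2⟩ (Subgroup.mem_subgroupOf.mpr hw)
    apply Subtype.ext
    rw [hτt w, h1]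
    rfl
  · intro z
    have h1 := ht3 ⟨z, d.hZE z.2⟩ (Subgroup.mem_subgroupOf.mpr z.2)
    rw [Subgroup.mem_subgroupOf] at h1
    rw [← h1]
    constructor
    · intro h
      apply Subtype.ext
      rw [← hτt z, h]
    · intro h
      apply Subtype.ext
      rw [hτt z, h]

end odd

section oddmain

variable [Finite S] {p : ℕ} [hp : Fact p.Prime]

/-- fixed points of an automorphism, as a subgroup -/
def fixSub {H : Type*} [Group H] (τ : MulAut H) : Subgroup H where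
  carrier := {z | τ z = z}
  one_mem' := map_one τ
  mul_mem' := by
    intro a b ha hb
    show τ (a * b) = a * b
    rw [map_mul, ha, hb]
  inv_mem' := by
    intro a ha
    show τ a⁻¹ = a⁻¹
    rw [map_inv, ha]

theorem mem_fixSub {H : Type*} [Group H] {τ : MulAut H} {z : H} : z ∈ fixSub τ ↔ τ z = z :=
  Iff.rfl

theorem pres_inv {H : Type*} [Group H] [Finite H] (K : Subgroup H) (k : MulAut H)
    (h : ∀ x ∈ K, k x ∈ K) : ∀ x ∈ K, k⁻¹ x ∈ K := by
  have heq : K.map k.toMonoidHom = K := by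
    apply Subgroup.eq_of_le_of_card_ge
    · rintro _ ⟨x, hx, rfl⟩
      exact h x hx
    · rw [Subgroup.card_map_of_injective k.injective]
  intro x hx
  rw [← heq] at hx
  obtain ⟨x', hx', rfl⟩ := hx
  show k⁻¹ (k x') ∈ K
  rw [MulAut.inv_apply_self]
  exact hx'

/-- the key consequence for odd `p`: a fixed subgroup of `Z(S)` normal in `F` -/
theorem odd_core (hS : IsPGroup p S) (F : FusionSystem S) (hF : F.IsSaturated p)
    (hZ : (Subgroup.center ↥S).index ≤ p ^ 2) (hp2 : p ≠ 2)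
    (τ₀ : MulAut (ZS S)) (hτ₀ : τ₀ ∈ F.autGroup (ZS S))
    (a₀ : ∀ z : ZS S, ((τ₀ z * z⁻¹ : ZS S) : Ω) ∈ WS S)
    (b₀ : ∀ w : ZS S, (w : Ω) ∈ WS S → τ₀ w = w⁻¹) :
    (∀ (E : Subgroup Ω) (_ : F.IsEssential p E) (y : Ω) (d : EssData p F E y) (g : MulAut E)
      (_ : g ∈ F.autGroup E) (_ : ∃ x ∈ (ZS S).subgroupOf E, g x ∉ (ZS S).subgroupOf E)
      (z : ZS S), (τ₀ z = z ↔ ((g⁻¹ ⟨z, d.hZE z.2⟩ : E) : Ω) ∈ ZS S)) ∧
    F.IsNormal ((fixSub τ₀).map (ZS S).subtype) := by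
  have key : ∀ (E : Subgroup Ω) (_ : F.IsEssential p E) (y : Ω) (d : EssData p F E y)
      (g : MulAut E) (_ : g ∈ F.autGroup E)
      (_ : ∃ x ∈ (ZS S).subgroupOf E, g x ∉ (ZS S).subgroupOf E)
      (z : ZS S), (τ₀ z = z ↔ ((g⁻¹ ⟨z, d.hZE z.2⟩ : E) : Ω) ∈ ZS S) := by
    intro E hE y d g hg hmov z
    obtain ⟨τ, hτ, a, b, c⟩ := exists_tau hS hF hZ hp2 hE d hg hmov
    have := tau_unique hS F hF hτ₀ hτ a₀ b₀ a b
    rw [this]
    exact c z
  refine ⟨key, ?_⟩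
  have hmemC : ∀ x : Ω, x ∈ (fixSub τ₀).map (ZS S).subtype ↔
      ∃ hx : x ∈ ZS S, τ₀ ⟨x, hx⟩ = ⟨x, hx⟩ := by
    intro x
    constructor
    · rintro ⟨z, hz, rfl⟩
      exact ⟨z.2, hz⟩
    · rintro ⟨hx, h⟩
      exact ⟨⟨x, hx⟩, h, rfl⟩
  have hCZ : (fixSub τ₀).map (ZS S).subtype ≤ ZS S := by
    rintro _ ⟨z, -, rfl⟩
    exact z.2
  refine normal_of_invariant hS F hF _ (fun P hP => ?_)
  rcases hP with hPS | hE
  · obtain rfl : S = P := hPS.symm
    refine ⟨hCZ.trans ZS_le, fun α hα x hx => ?_⟩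
    obtain ⟨hxZ, hfix⟩ := (hmemC _).mp hx
    obtain ⟨β, hβ, hβα⟩ := exists_restrict F le_rfl ZS_le hα (fun x hx => aut_ZS α hx)
    have hβinv : ∀ w : ZS S, (w : Ω) ∈ WS S → ((β⁻¹ w : ZS S) : Ω) ∈ WS S := by
      intro w hw
      have h1 : α ⟨(β⁻¹ w : ZS S), ZS_le (β⁻¹ w).2⟩ = ⟨w, ZS_le w.2⟩ := by
        apply Subtype.ext
        rw [← hβα (β⁻¹ w), MulAut.apply_inv_self]
      have h2 : (⟨(β⁻¹ w : ZS S), ZS_le (β⁻¹ w).2⟩ : S) = α⁻¹ ⟨w, ZS_le w.2⟩ := by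
        rw [← h1, MulAut.inv_apply_self]
      have h3 := aut_WS α⁻¹ (x := ⟨w, ZS_le w.2⟩) hw
      rw [← h2] at h3
      exact h3
    have hτ' : β * τ₀ * β⁻¹ ∈ F.autGroup (ZS S) :=
      Subgroup.mul_mem _ (Subgroup.mul_mem _ hβ hτ₀) (Subgroup.inv_mem _ hβ)
    have a' : ∀ z : ZS S, (((β * τ₀ * β⁻¹) z * z⁻¹ : ZS S) : Ω) ∈ WS S := by
      intro z
      have e : (β * τ₀ * β⁻¹) z * z⁻¹ = β (τ₀ (β⁻¹ z) * (β⁻¹ z)⁻¹) := by
        rw [MulAut.mul_apply, MulAut.mul_apply, map_mul, map_inv, MulAut.apply_inv_self]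
      rw [e, hβα]
      exact aut_WS α (a₀ (β⁻¹ z))
    have b' : ∀ w : ZS S, (w : Ω) ∈ WS S → (β * τ₀ * β⁻¹) w = w⁻¹ := by
      intro w hw
      rw [MulAut.mul_apply, MulAut.mul_apply, b₀ _ (hβinv w hw), map_inv, MulAut.apply_inv_self]
    have hcomm := tau_unique hS F hF hτ' hτ₀ a' b' a₀ b₀
    have hcomm' : β * τ₀ = τ₀ * β := mul_inv_eq_iff_eq_mul.mp hcomm
    have h1 : τ₀ (β ⟨x, hxZ⟩) = β ⟨x, hxZ⟩ := by
      have := congrArg (fun f : MulAut (ZS S) => f ⟨x, hxZ⟩) hcomm'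
      simp only [MulAut.mul_apply] at this
      rw [← this, hfix]
    have h2 : ((α x : S) : Ω) = ((β ⟨x, hxZ⟩ : ZS S) : Ω) := by
      rw [hβα]
    rw [h2]
    exact (hmemC _).mpr ⟨(β ⟨x, hxZ⟩).2, h1⟩
  · obtain ⟨y, d⟩ := exists_essData hS F hF hZ hE
    haveI : Finite P := finite_of_le d.hES
    refine ⟨hCZ.trans d.hZE, fun h hh x hx => ?_⟩
    obtain ⟨hxZ, hfix⟩ := (hmemC _).mp hx
    by_cases hmovh : ∃ x ∈ (ZS S).subgroupOf P, h x ∉ (ZS S).subgroupOf P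
    · have hmovi : ∃ x ∈ (ZS S).subgroupOf P, h⁻¹ x ∉ (ZS S).subgroupOf P := by
        by_contra hcon
        push Not at hcon
        obtain ⟨x₁, hx₁, hx₁'⟩ := hmovh
        have := pres_inv _ h⁻¹ hcon x₁ hx₁
        rw [inv_inv] at this
        exact hx₁' this
      have h1 := (key P hE y d h⁻¹ (Subgroup.inv_mem _ hh) hmovi ⟨x, hxZ⟩).mp hfix
      rw [inv_inv] at h1
      have h2 : ((h x : P) : Ω) ∈ ZS S := h1
      refine (hmemC _).mpr ⟨h2, ?_⟩
      rw [key P hE y d h hh hmovh ⟨_, h2⟩]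
      have e : (⟨((h x : P) : Ω), d.hZE h2⟩ : P) = h x := rfl
      rw [e, MulAut.inv_apply_self]
      exact hxZ
    · push Not at hmovh
      obtain ⟨-, -, ⟨g, hg, hmovg⟩, -⟩ := (d.loc hS hF hZ hE).main
      have hmovhg : ∃ x ∈ (ZS S).subgroupOf P, (h * g) x ∉ (ZS S).subgroupOf P := by
        obtain ⟨x₀, hx₀, hgx₀⟩ := hmovg
        refine ⟨x₀, hx₀, fun hcon => hgx₀ ?_⟩
        have := pres_inv _ h hmovh _ hcon
        rwa [MulAut.mul_apply, MulAut.inv_apply_self] at this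
      have h1 := (key P hE y d g hg hmovg ⟨x, hxZ⟩).mp hfix
      have h2 : ((h x : P) : Ω) ∈ ZS S :=
        Subgroup.mem_subgroupOf.mp (hmovh x (Subgroup.mem_subgroupOf.mpr hxZ))
      refine (hmemC _).mpr ⟨h2, ?_⟩
      rw [key P hE y d (h * g) (Subgroup.mul_mem _ hh hg) hmovhg ⟨_, h2⟩]
      have e : (⟨((h x : P) : Ω), d.hZE h2⟩ : P) = h x := rfl
      rw [e, mul_inv_rev, MulAut.mul_apply, MulAut.inv_apply_self]
      exact h1

end oddmain

section oddfinal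

variable [Finite S] {p : ℕ} [hp : Fact p.Prime]

theorem card_eq_of_essData {F : FusionSystem S} {E : Subgroup Ω} {y : Ω} (d : EssData p F E y) :
    Nat.card S = p * p * Nat.card (ZS S) := by
  haveI : Finite E := finite_of_le d.hES
  have h1 := Subgroup.card_mul_index (E.subgroupOf S)
  rw [d.hidx, Nat.card_congr (Subgroup.subgroupOfEquivOfLe d.hES).toEquiv] at h1
  have h2 := Subgroup.card_mul_index ((ZS S).subgroupOf E)
  have h3 : ((ZS S).subgroupOf E).index = p := d.hrel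
  rw [h3, Nat.card_congr (Subgroup.subgroupOfEquivOfLe d.hZE).toEquiv] at h2
  rw [← h1, ← h2]
  ring

theorem not_comm_of_essData {F : FusionSystem S} {E : Subgroup Ω} {y : Ω}
    (d : EssData p F E y) : ¬ ∀ a b : S, a * b = b * a := by
  intro hc
  have hle : E ≤ ZS S := by
    intro x hx
    exact mem_ZS.mpr ⟨d.hES hx, fun s hs => congrArg Subtype.val (hc ⟨s, hs⟩ ⟨x, d.hES hx⟩)⟩
  have h1 : (ZS S).relIndex E = 1 := Subgroup.relIndex_eq_one.mpr hle
  rw [d.hrel] at h1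
  exact hp.out.one_lt.ne' h1

theorem odd_final (hS : IsPGroup p S) (F : FusionSystem S) (hF : F.IsSaturated p)
    (hS1 : S ≠ ⊥) (hcore : F.core = ⊥) (hZ : (Subgroup.center ↥S).index ≤ p ^ 2)
    (hp2 : p ≠ 2) :
    Nat.card S = p ^ 3 ∧ (¬ ∀ a b : S, a * b = b * a) ∧ ∀ x : S, x ^ p = 1 := by
  obtain ⟨E₀, hE₀⟩ := exists_essential hS F hF hS1 hcore
  obtain ⟨y₀, d₀⟩ := exists_essData hS F hF hZ hE₀
  haveI : Finite E₀ := finite_of_le d₀.hES
  obtain ⟨hcardW, -, ⟨g₀, hg₀, hmov₀⟩, hmain₀⟩ := (d₀.loc hS hF hZ hE₀).main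
  obtain ⟨τ₀, hτ₀, a₀, b₀, -⟩ := exists_tau hS hF hZ hp2 hE₀ d₀ hg₀ hmov₀
  obtain ⟨key, hnormal⟩ := odd_core hS F hF hZ hp2 τ₀ hτ₀ a₀ b₀
  have hC0 := eq_bot_of_normal hcore hnormal
  have hfix1 : ∀ z : ZS S, τ₀ z = z → (z : Ω) = 1 := by
    intro z hz
    have : (z : Ω) ∈ (fixSub τ₀).map (ZS S).subtype := ⟨z, hz, rfl⟩
    rw [hC0, Subgroup.mem_bot] at this
    exact this
  -- elements of the common part are trivial
  have hc1 : ∀ (E : Subgroup Ω) (hE : F.IsEssential p E) (y : Ω) (d : EssData p F E y)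
      (g : MulAut E) (_ : g ∈ F.autGroup E)
      (_ : ∃ x ∈ (ZS S).subgroupOf E, g x ∉ (ZS S).subgroupOf E) (c : E),
      c ∈ (ZS S).subgroupOf E → g⁻¹ c ∈ (ZS S).subgroupOf E → c = 1 := by
    intro E hE y d g hg hmov c hc hgc
    have h1 := (key E hE y d g hg hmov ⟨c, Subgroup.mem_subgroupOf.mp hc⟩).mpr
      (Subgroup.mem_subgroupOf.mp hgc)
    exact Subtype.ext (hfix1 _ h1)
  -- essential subgroups have exponent p
  have hexp : ∀ (E : Subgroup Ω), F.IsEssential p E → ∀ x ∈ E, x ^ p = 1 := by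
    intro E hE x hx
    obtain ⟨y, d⟩ := exists_essData hS F hF hZ hE
    haveI : Finite E := finite_of_le d.hES
    obtain ⟨-, hWpow, ⟨g, hg, hmov⟩, hmain⟩ := (d.loc hS hF hZ hE).main
    obtain ⟨hdec, -, -, -, -, -⟩ := hmain g hg hmov
    obtain ⟨c, ⟨hc1', hc2'⟩, a, ha, b, hb, hxe⟩ := hdec ⟨x, hx⟩
    have hc := hc1 E hE y d g hg hmov c hc1' hc2'
    have hcomm : Commute a (g b) := Subtype.ext (d.hab a a.2 (g b) (g b).2)
    have h2 : (⟨x, hx⟩ : E) ^ p = 1 := by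
      rw [hxe, hc, one_mul, hcomm.mul_pow, hWpow a ha, ← map_pow, hWpow b hb, map_one, one_mul]
    exact congrArg Subtype.val h2
  -- Z(S) = [S,S]
  have hZW : ZS S ≤ WS S := by
    intro z hz
    obtain ⟨-, hdecZ, -, -, -, -⟩ := hmain₀ g₀ hg₀ hmov₀
    obtain ⟨c, ⟨hc1', hc2'⟩, a, ha, hze⟩ :=
      hdecZ ⟨z, d₀.hZE hz⟩ (Subgroup.mem_subgroupOf.mpr hz)
    have hc := hc1 E₀ hE₀ y₀ d₀ g₀ hg₀ hmov₀ c hc1' hc2'
    rw [hc, one_mul] at hze
    have := Subgroup.mem_subgroupOf.mp ha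
    rw [← hze] at this
    exact this
  have hZWeq : ZS S = WS S := le_antisymm hZW (WS_le_ZS hS hZ)
  have hcardZ : Nat.card (ZS S) = p := by
    rw [hZWeq, ← hcardW]
    exact (Nat.card_congr (Subgroup.subgroupOfEquivOfLe
      ((WS_le_ZS hS hZ).trans d₀.hZE)).toEquiv).symm
  have hcard : Nat.card S = p ^ 3 := by
    rw [card_eq_of_essData d₀, hcardZ]
    ring
  have hnc := not_comm_of_essData d₀
  refine ⟨hcard, hnc, ?_⟩
  -- exponent
  have hodd : Odd p := hp.out.eq_two_or_odd'.resolve_left hp2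
  by_contra hcon
  push Not at hcon
  obtain ⟨x₁, hx₁⟩ := hcon
  -- the p-th power map is a homomorphism
  let π : S →* S :=
    { toFun := fun x => x ^ p
      map_one' := one_pow p
      map_mul' := fun a b => Cfsg.Agent.Lib.Helper27.mul_pow_prime_of_nonabelian hcard hnc hodd a b }
  have hπ : ∀ x : S, π x = x ^ p := fun _ => rfl
  have hEK : E₀.subgroupOf S ≤ π.ker := by
    intro x hx
    rw [MonoidHom.mem_ker, hπ]
    exact Subtype.ext (hexp E₀ hE₀ x (Subgroup.mem_subgroupOf.mp hx))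
  have hKE : π.ker ≤ E₀.subgroupOf S := by
    by_contra hcon
    have htop := XsGroup.eq_top_of_index_prime d₀.hidx hEK hcon
    have : x₁ ∈ π.ker := by rw [htop]; exact Subgroup.mem_top _
    rw [MonoidHom.mem_ker, hπ] at this
    exact hx₁ this
  have hnormE : F.IsNormal E₀ := by
    refine normal_of_invariant hS F hF E₀ (fun P hP => ?_)
    rcases hP with hPS | hE
    · obtain rfl : S = P := hPS.symm
      refine ⟨d₀.hES, fun α _ x hx => ?_⟩
      have h1 : x ∈ π.ker := hEK (Subgroup.mem_subgroupOf.mpr hx)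
      have h2 : α x ∈ π.ker := by
        rw [MonoidHom.mem_ker, hπ] at h1 ⊢
        rw [← map_pow, h1, map_one]
      exact Subgroup.mem_subgroupOf.mp (hKE h2)
    · obtain ⟨y, d⟩ := exists_essData hS F hF hZ hE
      have hle : P.subgroupOf S ≤ E₀.subgroupOf S := by
        intro x hx
        apply hKE
        rw [MonoidHom.mem_ker, hπ]
        exact Subtype.ext (hexp P hE x (Subgroup.mem_subgroupOf.mp hx))
      have heq := XsGroup.eq_of_le_of_index_eq d.hidx d₀.hidx hle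
      have hPE : P = E₀ := by
        apply le_antisymm
        · intro x hx
          have : (⟨x, d.hES hx⟩ : S) ∈ P.subgroupOf S := Subgroup.mem_subgroupOf.mpr hx
          rw [heq] at this
          exact Subgroup.mem_subgroupOf.mp this
        · intro x hx
          have : (⟨x, d₀.hES hx⟩ : S) ∈ E₀.subgroupOf S := Subgroup.mem_subgroupOf.mpr hx
          rw [← heq] at this
          exact Subgroup.mem_subgroupOf.mp this
      subst hPE
      exact ⟨le_rfl, fun α _ x _ => (α x).2⟩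
  have hE0 := eq_bot_of_normal hcore hnormE
  have hZbot : ZS S = ⊥ := by
    rw [eq_bot_iff, ← hE0]
    exact d₀.hZE
  rw [hZbot, Subgroup.card_bot] at hcardZ
  exact hp.out.one_lt.ne hcardZ

end oddfinal

end Cfsg.Agent.Lib.Helper27.XsFus
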