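import Mathlib
import Cfsg.Agent.Lib.Helper27.XsFus

set_option autoImplicit false

namespace Cfsg.Agent.Lib.Helper27.AiGroup

open Cfsg.Agent.Lib.Helper27.XsFus Cfsg.Agent.Lib.Helper27

variable {Ω : Type*} [Group Ω]

/-- `A` is an abelian subgroup of index `p` in the nonabelian group `S` -/
structure Hyp (p : ℕ) (S A : Subgroup Ω) : Prop where
  hAS : A ≤ S
  hab : ∀ a ∈ A, ∀ b ∈ A, a * b = b * a
  hidx : (A.subgroupOf S).index = p
  hna : ∃ a ∈ S, ∃ b ∈ S, a * b ≠ b * a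

variable {p : ℕ} [hp : Fact p.Prime] {S A : Subgroup Ω}

theorem Hyp.card_mul (H : Hyp p S A) : Nat.card A * p = Nat.card S := by
  have h1 := Subgroup.card_mul_index (A.subgroupOf S)
  rw [H.hidx, Nat.card_congr (Subgroup.subgroupOfEquivOfLe H.hAS).toEquiv] at h1
  exact h1

theorem Hyp.normalInst [Finite S] (H : Hyp p S A) (hS : IsPGroup p S) :
    (A.subgroupOf S).Normal := by
  apply Subgroup.normal_of_index_eq_minFac_card
  rw [H.hidx]
  obtain ⟨n, hn⟩ := hS.exists_card_eq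
  rw [hn]
  have hn0 : n ≠ 0 := by
    rintro rfl
    rw [pow_zero] at hn
    have hsub : Subsingleton S := (Nat.card_eq_one_iff_unique.mp hn).1
    obtain ⟨a, ha, b, hb, hne⟩ := H.hna
    apply hne
    have : (⟨a, ha⟩ : S) = ⟨b, hb⟩ := Subsingleton.elim _ _
    have hab : a = b := congrArg Subtype.val this
    rw [hab]
  exact (Nat.Prime.pow_minFac hp.out hn0).symm

theorem Hyp.normal [Finite S] (H : Hyp p S A) (hS : IsPGroup p S) :
    ∀ s ∈ S, ∀ a ∈ A, s * a * s⁻¹ ∈ A := by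
  intro s hs a ha
  have hn := H.normalInst hS
  have := hn.conj_mem ⟨a, H.hAS ha⟩ (Subgroup.mem_subgroupOf.mpr ha) ⟨s, hs⟩
  exact Subgroup.mem_subgroupOf.mp this

theorem Hyp.facts [Finite S] (H : Hyp p S A) (hS : IsPGroup p S) {x : Ω} (hxS : x ∈ S)
    (hxA : x ∉ A) :
    (∀ s ∈ S, ∃ a ∈ A, ∃ n : ℕ, s = a * x ^ n) ∧ x ^ p ∈ A ∧
      (∀ a ∈ A, x * a = a * x → a ∈ ZS S) := by
  haveI := H.normalInst hS
  have hab' : ∀ a ∈ A.subgroupOf S, ∀ b ∈ A.subgroupOf S, a * b = b * a := by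
    intro a ha b hb
    exact Subtype.ext (H.hab a ha b hb)
  have hx' : (⟨x, hxS⟩ : S) ∉ A.subgroupOf S := fun h => hxA (Subgroup.mem_subgroupOf.mp h)
  obtain ⟨htop, hpw, hcent, -⟩ := XsGroup.max_facts (A.subgroupOf S) H.hidx hab' ⟨x, hxS⟩ hx'
  refine ⟨?_, Subgroup.mem_subgroupOf.mp hpw, ?_⟩
  · intro s hs
    have hg : (⟨s, hs⟩ : S) ∈ ((A.subgroupOf S ⊔ Subgroup.zpowers (⟨x, hxS⟩ : S) : Subgroup S) :
        Set S) := by
      rw [htop]
      exact Set.mem_univ _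
    rw [Subgroup.normal_mul] at hg
    obtain ⟨e, he, z, hz, hez⟩ := Set.mem_mul.mp hg
    have hz' : z ∈ Submonoid.powers (⟨x, hxS⟩ : S) := mem_powers_iff_mem_zpowers.mpr hz
    obtain ⟨n, rfl⟩ := hz'
    refine ⟨e, Subgroup.mem_subgroupOf.mp he, n, ?_⟩
    have := congrArg Subtype.val hez
    simpa using this.symm
  · intro a ha hxa
    have := hcent ⟨a, H.hAS ha⟩ (Subgroup.mem_subgroupOf.mpr ha) (Subtype.ext hxa)
    exact ⟨_, this, rfl⟩

theorem Hyp.exists_not_mem (H : Hyp p S A) : ∃ x ∈ S, x ∉ A := by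
  by_contra hcon
  push Not at hcon
  obtain ⟨a, ha, b, hb, hne⟩ := H.hna
  exact hne (H.hab a (hcon a ha) b (hcon b hb))

theorem Hyp.ZS_le [Finite S] (H : Hyp p S A) (hS : IsPGroup p S) : ZS S ≤ A := by
  intro z hz
  by_contra hzA
  obtain ⟨hzS, hzc⟩ := mem_ZS.mp hz
  obtain ⟨hdec, -, -⟩ := H.facts hS hzS hzA
  obtain ⟨a, ha, b, hb, hne⟩ := H.hna
  apply hne
  obtain ⟨a', ha', n, rfl⟩ := hdec a ha
  obtain ⟨b', hb', m, rfl⟩ := hdec b hb
  have hzn : ∀ (k : ℕ) (s : Ω), s ∈ S → s * z ^ k = z ^ k * s := by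
    intro k s hs
    induction k with
    | zero => simp
    | succ k ih => rw [pow_succ, ← mul_assoc, ih, mul_assoc, hzc s hs, mul_assoc]
  have hb'S : b' ∈ S := H.hAS hb'
  have ha'S : a' ∈ S := H.hAS ha'
  calc a' * z ^ n * (b' * z ^ m) = a' * (z ^ n * b') * z ^ m := by group
    _ = a' * (b' * z ^ n) * z ^ m := by rw [hzn n b' hb'S]
    _ = (a' * b') * (z ^ n * z ^ m) := by group
    _ = (b' * a') * (z ^ m * z ^ n) := by rw [H.hab a' ha' b' hb', ← pow_add, ← pow_add, add_comm]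
    _ = b' * (a' * z ^ m) * z ^ n := by group
    _ = b' * (z ^ m * a') * z ^ n := by rw [hzn m a' ha'S]
    _ = b' * z ^ m * (a' * z ^ n) := by group


/-- the second centre of `S`, inside `Ω` -/
def Z2S (S : Subgroup Ω) : Subgroup Ω := (Subgroup.upperCentralSeries ↥S 2).map S.subtype

theorem mem_Z2S {y : Ω} : y ∈ Z2S S ↔ y ∈ S ∧ ∀ s ∈ S, y * s * y⁻¹ * s⁻¹ ∈ ZS S := by
  constructor
  · rintro ⟨y', hy', rfl⟩
    refine ⟨y'.2, fun s hs => ?_⟩
    have h := (Subgroup.mem_upperCentralSeries_succ_iff (G := ↥S) (n := 1) (x := y')).mp hy' ⟨s, hs⟩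
    rw [Subgroup.upperCentralSeries_one] at h
    exact ⟨_, h, rfl⟩
  · rintro ⟨hy, h⟩
    refine ⟨⟨y, hy⟩, ?_, rfl⟩
    rw [SetLike.mem_coe, Subgroup.mem_upperCentralSeries_succ_iff (n := 1)]
    intro s
    rw [Subgroup.upperCentralSeries_one]
    obtain ⟨z, hz, hzs⟩ := h s s.2
    have : z = ⟨y, hy⟩ * s * ⟨y, hy⟩⁻¹ * s⁻¹ := Subtype.ext hzs
    rw [commutatorElement_def, ← this]
    exact hz

theorem Z2S_le : Z2S S ≤ S := fun _ hy => (mem_Z2S.mp hy).1

theorem ZS_le_Z2S : ZS S ≤ Z2S S := by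
  intro z hz
  obtain ⟨hzS, hzc⟩ := mem_ZS.mp hz
  refine mem_Z2S.mpr ⟨hzS, fun s hs => ?_⟩
  have : z * s * z⁻¹ * s⁻¹ = 1 := by
    rw [← hzc s hs]
    group
  rw [this]
  exact Subgroup.one_mem _

section psi

variable (hn : ∀ s ∈ S, ∀ a ∈ A, s * a * s⁻¹ ∈ A) (hab : ∀ a ∈ A, ∀ b ∈ A, a * b = b * a)
  (x : Ω) (hx : x ∈ S)

/-- `b ↦ b x b⁻¹ x⁻¹` on `A` -/
def psi : ↥A →* ↥A :=
  MonoidHom.mk' (fun b => ⟨(b : Ω) * x * (b : Ω)⁻¹ * x⁻¹, by
    have h1 := hn x hx _ (A.inv_mem b.2)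
    have h2 := A.mul_mem b.2 h1
    have e : (b : Ω) * x * (b : Ω)⁻¹ * x⁻¹ = (b : Ω) * (x * (b : Ω)⁻¹ * x⁻¹) := by group
    rw [e]
    exact h2⟩) (by
    intro b c
    apply Subtype.ext
    have hu : (c : Ω) * x * (c : Ω)⁻¹ * x⁻¹ ∈ A := by
      have h1 := hn x hx _ (A.inv_mem c.2)
      have h2 := A.mul_mem c.2 h1
      have e : (c : Ω) * x * (c : Ω)⁻¹ * x⁻¹ = (c : Ω) * (x * (c : Ω)⁻¹ * x⁻¹) := by group
      rw [e]
      exact h2
    show ((b * c : A) : Ω) * x * ((b * c : A) : Ω)⁻¹ * x⁻¹ =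
      ((b : Ω) * x * (b : Ω)⁻¹ * x⁻¹) * ((c : Ω) * x * (c : Ω)⁻¹ * x⁻¹)
    rw [Subgroup.coe_mul]
    obtain ⟨u, hudef⟩ : ∃ u, u = (c : Ω) * x * (c : Ω)⁻¹ * x⁻¹ := ⟨_, rfl⟩
    rw [← hudef] at hu ⊢
    have h3 : (b : Ω) * (c : Ω) * x * ((b : Ω) * (c : Ω))⁻¹ * x⁻¹ =
        (b : Ω) * u * (x * (b : Ω)⁻¹ * x⁻¹) := by
      rw [hudef]; group
    have hv : (b : Ω) * x * (b : Ω)⁻¹ * x⁻¹ ∈ A := by
      have h1 := hn x hx _ (A.inv_mem b.2)
      have h2 := A.mul_mem b.2 h1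
      have e : (b : Ω) * x * (b : Ω)⁻¹ * x⁻¹ = (b : Ω) * (x * (b : Ω)⁻¹ * x⁻¹) := by group
      rw [e]
      exact h2
    rw [h3, hab _ b.2 _ hu, hab _ hv _ hu]
    group)

theorem psi_apply (b : A) :
    ((psi hn hab x hx b : A) : Ω) = (b : Ω) * x * (b : Ω)⁻¹ * x⁻¹ := rfl

theorem psi_eq_one_iff (b : A) : psi hn hab x hx b = 1 ↔ x * (b : Ω) = (b : Ω) * x := by
  constructor
  · intro h
    have h1 := congrArg Subtype.val h
    rw [psi_apply] at h1
    have h2 : (b : Ω) * x * (b : Ω)⁻¹ * x⁻¹ = 1 := h1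
    have : (b : Ω) * x = ((b : Ω) * x * (b : Ω)⁻¹ * x⁻¹) * x * (b : Ω) := by group
    rw [this, h2, one_mul]
  · intro h
    apply Subtype.ext
    rw [psi_apply, ← h]
    show x * (b : Ω) * (b : Ω)⁻¹ * x⁻¹ = 1
    group

end psi


/-- iterates of an endomorphism -/
def iter {M : Type*} [Monoid M] (f : M →* M) : ℕ → (M →* M)
  | 0 => MonoidHom.id M
  | (i + 1) => f.comp (iter f i)

theorem iter_zero {M : Type*} [Monoid M] (f : M →* M) (b : M) : iter f 0 b = b := rfl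

theorem iter_succ {M : Type*} [Monoid M] (f : M →* M) (i : ℕ) (b : M) :
    iter f (i + 1) b = f (iter f i b) := rfl

theorem card_comap_iter_le {M : Type*} [Group M] [Finite M] (f : M →* M) (U V : Subgroup M)
    (hV : V = U.comap f) (hUV : U ≤ V) (i : ℕ) :
    Nat.card (U.comap (iter f i)) ≤ (U.relIndex V) ^ i * Nat.card U := by
  induction i with
  | zero =>
    rw [pow_zero, one_mul]
    have : U.comap (iter f 0) = U := by
      ext b
      rw [Subgroup.mem_comap, iter_zero]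
    rw [this]
  | succ i ih =>
    have hK : U.comap (iter f (i + 1)) = V.comap (iter f i) := by
      ext b
      rw [Subgroup.mem_comap, Subgroup.mem_comap, iter_succ, hV, Subgroup.mem_comap]
    have hle : U.comap (iter f i) ≤ V.comap (iter f i) := Subgroup.comap_mono hUV
    have h1 : (U.comap (iter f i)).relIndex (V.comap (iter f i)) ≤ U.relIndex V := by
      rw [Subgroup.relIndex_comap]
      refine Subgroup.relIndex_le_of_le_right (Subgroup.map_comap_le _ _) ?_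
      haveI : U.FiniteIndex := Subgroup.finiteIndex_of_finite
      haveI : U.IsFiniteRelIndex V := Subgroup.isFiniteRelIndex_of_finiteIndex
      exact Subgroup.relIndex_ne_zero
    have h2 := Subgroup.relIndex_mul_relIndex ⊥ (U.comap (iter f i)) (V.comap (iter f i))
      bot_le hle
    rw [Subgroup.relIndex_bot_left, Subgroup.relIndex_bot_left] at h2
    rw [hK, ← h2, pow_succ]
    calc Nat.card ↥(U.comap (iter f i)) * (U.comap (iter f i)).relIndex (V.comap (iter f i))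
        ≤ (U.relIndex V ^ i * Nat.card U) * U.relIndex V := Nat.mul_le_mul ih h1
      _ = U.relIndex V ^ i * U.relIndex V * Nat.card U := by ring

section psi2

variable [Finite S] (H : Hyp p S A) (hS : IsPGroup p S) {x : Ω} (hxS : x ∈ S) (hxA : x ∉ A)

include hxA in
theorem psi_eq_one_iff_mem_ZS (b : A) :
    psi (H.normal hS) H.hab x hxS b = 1 ↔ (b : Ω) ∈ ZS S := by
  rw [psi_eq_one_iff]
  constructor
  · intro h
    exact (H.facts hS hxS hxA).2.2 b b.2 h
  · intro h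
    exact (mem_ZS.mp h).2 x hxS

include hxA in
theorem mem_Z2S_iff_psi (b : A) :
    (b : Ω) ∈ Z2S S ↔ ((psi (H.normal hS) H.hab x hxS b : A) : Ω) ∈ ZS S := by
  constructor
  · intro h
    rw [psi_apply]
    exact (mem_Z2S.mp h).2 x hxS
  · intro h
    rw [psi_apply] at h
    obtain ⟨z, hzdef⟩ : ∃ z, z = (b : Ω) * x * (b : Ω)⁻¹ * x⁻¹ := ⟨_, rfl⟩
    rw [← hzdef] at h
    obtain ⟨hzS, hzc⟩ := mem_ZS.mp h
    refine mem_Z2S.mpr ⟨H.hAS b.2, fun s hs => ?_⟩
    obtain ⟨a, ha, n, rfl⟩ := (H.facts hS hxS hxA).1 s hs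
    have h1 : (b : Ω) * x * (b : Ω)⁻¹ = z * x := by rw [hzdef]; group
    have h2 : (b : Ω) * x ^ n * (b : Ω)⁻¹ = z ^ n * x ^ n := by
      rw [← conj_pow, h1]
      exact (Commute.mul_pow (show Commute z x from (hzc x hxS).symm) n)
    have hzn : z ^ n ∈ ZS S := Subgroup.pow_mem _ h n
    have e1 : (b : Ω) * (a * x ^ n) * (b : Ω)⁻¹ * (a * x ^ n)⁻¹ =
        ((b : Ω) * a) * x ^ n * (b : Ω)⁻¹ * (x ^ n)⁻¹ * a⁻¹ := by group
    rw [e1, H.hab _ b.2 _ ha]
    have e2 : a * (b : Ω) * x ^ n * (b : Ω)⁻¹ * (x ^ n)⁻¹ * a⁻¹ =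
        a * ((b : Ω) * x ^ n * (b : Ω)⁻¹) * (x ^ n)⁻¹ * a⁻¹ := by group
    rw [e2, h2]
    have e3 : a * (z ^ n * x ^ n) * (x ^ n)⁻¹ * a⁻¹ = a * z ^ n * a⁻¹ := by group
    rw [e3, (mem_ZS.mp hzn).2 a (H.hAS ha), mul_inv_cancel_right]
    exact hzn

theorem psi_pow_mem_lcs (i : ℕ) (b : A) :
    ((iter (psi (H.normal hS) H.hab x hxS) i b : A) : Ω) ∈ S.lowerCentralSeries i := by
  induction i generalizing b with
  | zero =>
    rw [iter_zero]
    exact H.hAS b.2
  | succ i ih =>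
    rw [iter_succ, psi_apply, Subgroup.lowerCentralSeries_succ, ← commutatorElement_def]
    exact Subgroup.commutator_mem_commutator (ih b) hxS

end psi2


theorem inf_centralizer_eq_ZS : S ⊓ Subgroup.centralizer (S : Set Ω) = ZS S := by
  ext z
  rw [mem_ZS]
  constructor
  · rintro ⟨h1, h2⟩
    exact ⟨h1, fun s hs => Subgroup.mem_centralizer_iff.mp h2 s hs⟩
  · rintro ⟨h1, h2⟩
    exact ⟨h1, Subgroup.mem_centralizer_iff.mpr (fun s hs => h2 s hs)⟩

/-- counting with an endomorphism -/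
theorem count_lemma {M : Type*} [Group M] [Finite M] (f : M →* M) (V : Subgroup M)
    (hV : V = f.ker.comap f) :
    Nat.card (f.ker ⊓ f.range : Subgroup M) = f.ker.relIndex V ∧
      (f.ker ⊔ f.range).index = f.ker.relIndex V := by
  have h1 : f.ker ⊓ f.range = V.map f := by
    ext w
    constructor
    · rintro ⟨hw1, b, rfl⟩
      refine ⟨b, ?_, rfl⟩
      rw [hV]
      exact hw1
    · rintro ⟨b, hb, rfl⟩
      rw [hV] at hb
      exact ⟨hb, b, rfl⟩
  have h2 : f.ker.relIndex V = Nat.card (V.map f) := Subgroup.relIndex_ker V f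
  refine ⟨by rw [h1, h2], ?_⟩
  have h3 := Subgroup.relIndex_mul_index (show f.ker ≤ f.ker ⊔ f.range from le_sup_left)
  rw [Subgroup.relIndex_sup_left, Subgroup.index_ker] at h3
  have h4 := Subgroup.relIndex_mul_relIndex ⊥ (f.ker ⊓ f.range) f.range bot_le inf_le_right
  rw [Subgroup.relIndex_bot_left, Subgroup.relIndex_bot_left, Subgroup.inf_relIndex_right] at h4
  rw [← h4, h1, ← h2, mul_comm] at h3
  have hr : f.ker.relIndex f.range ≠ 0 := by
    haveI : f.ker.FiniteIndex := Subgroup.finiteIndex_of_finite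
    haveI : f.ker.IsFiniteRelIndex f.range := Subgroup.isFiniteRelIndex_of_finiteIndex
    exact Subgroup.relIndex_ne_zero
  exact Nat.eq_of_mul_eq_mul_right (Nat.pos_of_ne_zero hr) h3

/-- commutators lie in a normal subgroup if those of generators do -/
theorem commutator_le_of_gen {G : Type*} [Group G] (I : Subgroup G) [I.Normal] (E : Subgroup G)
    (y : G) (htop : E ⊔ Subgroup.zpowers y = ⊤) (hab : ∀ a ∈ E, ∀ b ∈ E, a * b = b * a)
    (h : ∀ a ∈ E, a * y * a⁻¹ * y⁻¹ ∈ I) : _root_.commutator G ≤ I := by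
  apply Subgroup.Normal.quotient_commutative_iff_commutator_le.mp
  have key : ∀ g : G, (∀ a ∈ E, QuotientGroup.mk' I g * QuotientGroup.mk' I a =
      QuotientGroup.mk' I a * QuotientGroup.mk' I g) →
      QuotientGroup.mk' I g * QuotientGroup.mk' I y = QuotientGroup.mk' I y * QuotientGroup.mk' I g →
      ∀ u : G ⧸ I, QuotientGroup.mk' I g * u = u * QuotientGroup.mk' I g := by
    intro g h1 h2 u
    obtain ⟨v, rfl⟩ := QuotientGroup.mk'_surjective I u
    have hle : E ⊔ Subgroup.zpowers y ≤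
        (Subgroup.centralizer {QuotientGroup.mk' I g}).comap (QuotientGroup.mk' I) := by
      refine sup_le (fun a ha => ?_) (Subgroup.zpowers_le.mpr ?_)
      · rw [Subgroup.mem_comap, Subgroup.mem_centralizer_iff]
        rintro _ rfl
        exact h1 a ha
      · rw [Subgroup.mem_comap, Subgroup.mem_centralizer_iff]
        rintro _ rfl
        exact h2
    rw [htop] at hle
    have := hle (Subgroup.mem_top v)
    rw [Subgroup.mem_comap, Subgroup.mem_centralizer_iff] at this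
    exact this _ rfl
  have hay : ∀ a ∈ E, QuotientGroup.mk' I a * QuotientGroup.mk' I y =
      QuotientGroup.mk' I y * QuotientGroup.mk' I a := by
    intro a ha
    have h1 := h a ha
    rw [← QuotientGroup.eq_one_iff] at h1
    have h2 : (QuotientGroup.mk' I a) * (QuotientGroup.mk' I y) * (QuotientGroup.mk' I a)⁻¹ *
        (QuotientGroup.mk' I y)⁻¹ = 1 := by
      rw [← map_inv, ← map_inv, ← map_mul, ← map_mul, ← map_mul]
      exact h1
    calc QuotientGroup.mk' I a * QuotientGroup.mk' I y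
        = ((QuotientGroup.mk' I a) * (QuotientGroup.mk' I y) * (QuotientGroup.mk' I a)⁻¹ *
          (QuotientGroup.mk' I y)⁻¹) * (QuotientGroup.mk' I y * QuotientGroup.mk' I a) := by group
      _ = QuotientGroup.mk' I y * QuotientGroup.mk' I a := by rw [h2, one_mul]
  refine ⟨⟨fun u v => ?_⟩⟩
  obtain ⟨g, rfl⟩ := QuotientGroup.mk'_surjective I u
  -- the centre of the quotient is everything
  have hcE : ∀ a ∈ E, ∀ w : G ⧸ I, QuotientGroup.mk' I a * w = w * QuotientGroup.mk' I a := by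
    intro a ha
    refine key a (fun b hb => ?_) (hay a ha)
    rw [← map_mul, ← map_mul, hab a ha b hb]
  have hcy : ∀ w : G ⧸ I, QuotientGroup.mk' I y * w = w * QuotientGroup.mk' I y := by
    refine key y (fun b hb => (hay b hb).symm) rfl
  have hle : E ⊔ Subgroup.zpowers y ≤ (Subgroup.center (G ⧸ I)).comap (QuotientGroup.mk' I) := by
    refine sup_le (fun a ha => ?_) (Subgroup.zpowers_le.mpr ?_)
    · rw [Subgroup.mem_comap, Subgroup.mem_center_iff]
      intro w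
      exact (hcE a ha w).symm
    · rw [Subgroup.mem_comap, Subgroup.mem_center_iff]
      intro w
      exact (hcy w).symm
  rw [htop] at hle
  have := hle (Subgroup.mem_top g)
  rw [Subgroup.mem_comap, Subgroup.mem_center_iff] at this
  exact (this v).symm


section comm

variable [Finite S] (H : Hyp p S A) (hS : IsPGroup p S) {x : Ω} (hxS : x ∈ S) (hxA : x ∉ A)

include hxA in
theorem comm_eq :
    (_root_.commutator ↥S).map S.subtype =
      (psi (H.normal hS) H.hab x hxS).range.map A.subtype := by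
  obtain ⟨I, hI⟩ : ∃ I : Subgroup Ω, I = (psi (H.normal hS) H.hab x hxS).range.map A.subtype :=
    ⟨_, rfl⟩
  rw [← hI]
  have hmemI : ∀ b : A, (b : Ω) * x * (b : Ω)⁻¹ * x⁻¹ ∈ I := by
    intro b
    rw [hI]
    exact ⟨psi (H.normal hS) H.hab x hxS b, ⟨b, rfl⟩, rfl⟩
  have hIA : I ≤ A := by
    rw [hI]
    rintro _ ⟨w, -, rfl⟩
    exact w.2
  have hxN : x ∈ Subgroup.normalizer (I : Set Ω) := by
    apply Cfsg.Agent.Lib.Helper26.mem_normalizer_of_forall
    · intro w hw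
      rw [hI] at hw
      obtain ⟨_, ⟨b, rfl⟩, rfl⟩ := hw
      have := hmemI ⟨x * (b : Ω) * x⁻¹, H.normal hS x hxS _ b.2⟩
      have e : x * (A.subtype (psi (H.normal hS) H.hab x hxS b)) * x⁻¹ =
          (x * (b : Ω) * x⁻¹) * x * (x * (b : Ω) * x⁻¹)⁻¹ * x⁻¹ := by
        show x * ((b : Ω) * x * (b : Ω)⁻¹ * x⁻¹) * x⁻¹ = _
        group
      rw [e]
      exact this
    · intro w hw
      rw [hI] at hw
      obtain ⟨_, ⟨b, rfl⟩, rfl⟩ := hw
      have hb' : x⁻¹ * (b : Ω) * x ∈ A := by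
        have := H.normal hS x⁻¹ (S.inv_mem hxS) _ b.2
        rwa [inv_inv] at this
      have := hmemI ⟨x⁻¹ * (b : Ω) * x, hb'⟩
      have e : x⁻¹ * (A.subtype (psi (H.normal hS) H.hab x hxS b)) * x =
          (x⁻¹ * (b : Ω) * x) * x * (x⁻¹ * (b : Ω) * x)⁻¹ * x⁻¹ := by
        show x⁻¹ * ((b : Ω) * x * (b : Ω)⁻¹ * x⁻¹) * x = _
        group
      rw [e]
      exact this
  have hAN : A ≤ Subgroup.normalizer (I : Set Ω) := by
    intro a ha
    apply Cfsg.Agent.Lib.Helper26.mem_normalizer_of_forall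
    · intro w hw
      rw [H.hab a ha w (hIA hw), mul_inv_cancel_right]
      exact hw
    · intro w hw
      rw [mul_assoc, H.hab w (hIA hw) a ha, inv_mul_cancel_left]
      exact hw
  have hSN : S ≤ Subgroup.normalizer (I : Set Ω) := by
    intro s hs
    obtain ⟨a, ha, n, rfl⟩ := (H.facts hS hxS hxA).1 s hs
    exact Subgroup.mul_mem _ (hAN ha) (Subgroup.pow_mem _ hxN n)
  haveI hnorm : (I.subgroupOf S).Normal := by
    refine ⟨fun w hw g => ?_⟩
    rw [Subgroup.mem_subgroupOf] at hw ⊢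
    exact (Subgroup.mem_normalizer_iff.mp (hSN g.2) _).mp hw
  have htop : A.subgroupOf S ⊔ Subgroup.zpowers (⟨x, hxS⟩ : S) = ⊤ := by
    rw [eq_top_iff]
    intro s _
    obtain ⟨a, ha, n, hs⟩ := (H.facts hS hxS hxA).1 s s.2
    have : s = (⟨a, H.hAS ha⟩ : S) * (⟨x, hxS⟩ : S) ^ n := Subtype.ext (by simpa using hs)
    rw [this]
    exact Subgroup.mul_mem _ (Subgroup.mem_sup_left (Subgroup.mem_subgroupOf.mpr ha))
      (Subgroup.mem_sup_right (Subgroup.pow_mem _ (Subgroup.mem_zpowers _) n))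
  have hle := commutator_le_of_gen (I.subgroupOf S) (A.subgroupOf S) ⟨x, hxS⟩ htop
    (fun a ha b hb => Subtype.ext (H.hab a ha b hb))
    (fun a ha => Subgroup.mem_subgroupOf.mpr (hmemI ⟨a, Subgroup.mem_subgroupOf.mp ha⟩))
  apply le_antisymm
  · rintro _ ⟨w, hw, rfl⟩
    exact Subgroup.mem_subgroupOf.mp (hle hw)
  · rw [hI]
    rintro _ ⟨_, ⟨b, rfl⟩, rfl⟩
    refine ⟨(⟨b, H.hAS b.2⟩ : S) * (⟨x, hxS⟩ : S) * (⟨b, H.hAS b.2⟩ : S)⁻¹ * (⟨x, hxS⟩ : S)⁻¹,
      ?_, rfl⟩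
    rw [SetLike.mem_coe, commutator_def, ← commutatorElement_def]
    exact Subgroup.commutator_mem_commutator (Subgroup.mem_top _) (Subgroup.mem_top _)

end comm


/-- consequences of `Z₂(S) ≤ A` and `|Z₂(S) : Z(S)| = p` -/
theorem struct_of_Z2 [Finite S] (H : Hyp p S A) (hS : IsPGroup p S) (hZ2A : Z2S S ≤ A)
    (hd : (ZS S).relIndex (Z2S S) = p) :
    Nat.card ↥(ZS S ⊓ (_root_.commutator ↥S).map S.subtype) = p ∧
    ((ZS S ⊔ (_root_.commutator ↥S).map S.subtype).subgroupOf A).index = p ∧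
    ∀ m : ℕ, ((ZS S).subgroupOf S).index = p ^ m → 3 ≤ m →
      ¬ S.lowerCentralSeries (m - 2) ≤ ZS S := by
  obtain ⟨x, hxS, hxA⟩ := H.exists_not_mem
  obtain ⟨ψ, hψ⟩ : ∃ ψ, ψ = psi (H.normal hS) H.hab x hxS := ⟨_, rfl⟩
  have hker : ψ.ker = (ZS S).subgroupOf A := by
    ext b
    rw [MonoidHom.mem_ker, hψ, psi_eq_one_iff_mem_ZS H hS hxS hxA, Subgroup.mem_subgroupOf]
  have hV : (Z2S S).subgroupOf A = ψ.ker.comap ψ := by
    ext b
    rw [Subgroup.mem_subgroupOf, Subgroup.mem_comap, hker, Subgroup.mem_subgroupOf, hψ,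
      mem_Z2S_iff_psi H hS hxS hxA]
  have hrel : ψ.ker.relIndex ((Z2S S).subgroupOf A) = p := by
    rw [hker, Subgroup.relIndex_subgroupOf hZ2A, hd]
  haveI : Finite A := Cfsg.Agent.Lib.Helper26.finite_of_le H.hAS
  obtain ⟨c1, c2⟩ := count_lemma ψ _ hV
  have hZmap : ((ZS S).subgroupOf A).map A.subtype = ZS S :=
    Subgroup.map_subgroupOf_eq_of_le (H.ZS_le hS)
  have hcomm := comm_eq H hS hxS hxA
  rw [← hψ] at hcomm
  refine ⟨?_, ?_, ?_⟩
  · have e : ZS S ⊓ (_root_.commutator ↥S).map S.subtype = (ψ.ker ⊓ ψ.range).map A.subtype := by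
      rw [hcomm, Subgroup.map_inf _ _ _ A.subtype_injective, hker, hZmap]
    rw [e, Subgroup.card_map_of_injective A.subtype_injective, c1, hrel]
  · have e : (ZS S ⊔ (_root_.commutator ↥S).map S.subtype).subgroupOf A = ψ.ker ⊔ ψ.range := by
      rw [hcomm, ← hZmap, ← Subgroup.map_sup, ← hker]
      exact Subgroup.comap_map_eq_self_of_injective A.subtype_injective _
    rw [e, c2, hrel]
  · intro m hm h3 hle
    have hall : ∀ b : A, iter ψ (m - 2) b ∈ ψ.ker := by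
      intro b
      rw [hker, Subgroup.mem_subgroupOf]
      apply hle
      rw [hψ]
      exact psi_pow_mem_lcs H hS hxS (m - 2) b
    have htop : ψ.ker.comap (iter ψ (m - 2)) = ⊤ := by
      rw [eq_top_iff]
      intro b _
      exact hall b
    have hcard := card_comap_iter_le ψ ψ.ker ((Z2S S).subgroupOf A) hV (by
      rw [hV]
      intro b hb
      rw [Subgroup.mem_comap, MonoidHom.mem_ker.mp hb]
      exact Subgroup.one_mem _) (m - 2)
    rw [htop, hrel, Subgroup.card_top, hker,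
      Nat.card_congr (Subgroup.subgroupOfEquivOfLe (H.ZS_le hS)).toEquiv] at hcard
    -- |A| * p = |S| = p^m * |Z|
    have h1 := H.card_mul
    have h2 := Subgroup.card_mul_index ((ZS S).subgroupOf S)
    rw [hm, Nat.card_congr (Subgroup.subgroupOfEquivOfLe ZS_le).toEquiv] at h2
    haveI : Finite (ZS S) := Cfsg.Agent.Lib.Helper26.finite_of_le ZS_le
    have hZpos : 0 < Nat.card (ZS S) := Nat.card_pos
    have hpp := hp.out.pos
    have h3' : Nat.card A * p = Nat.card (ZS S) * p ^ m := by rw [h1, h2]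
    have h4 : p ^ m = p ^ (m - 2) * p * p := by
      rw [mul_assoc, ← pow_two, ← pow_add]
      congr 1
      omega
    rw [h4] at h3'
    have h5 : Nat.card A = Nat.card (ZS S) * (p ^ (m - 2) * p) := by
      apply Nat.eq_of_mul_eq_mul_right hpp
      rw [h3']
      ring
    rw [h5] at hcard
    have h6 : Nat.card (ZS S) * (p ^ (m - 2) * p) ≤ Nat.card (ZS S) * p ^ (m - 2) := by
      calc Nat.card (ZS S) * (p ^ (m - 2) * p) ≤ p ^ (m - 2) * Nat.card (ZS S) := hcard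
        _ = Nat.card (ZS S) * p ^ (m - 2) := mul_comm _ _
    have h7 := Nat.le_of_mul_le_mul_left h6 hZpos
    have h8 : p ^ (m - 2) * p ≤ p ^ (m - 2) * 1 := by rw [mul_one]; exact h7
    have h9 := Nat.le_of_mul_le_mul_left h8 (pow_pos hpp _)
    exact absurd h9 (not_le.mpr hp.out.one_lt)


theorem Hyp.relIndex_of_not_le [Finite S] (H : Hyp p S A) (hS : IsPGroup p S) {P : Subgroup Ω}
    (hPS : P ≤ S) (hPA : ¬ P ≤ A) : A.relIndex P = p := by
  haveI := H.normalInst hS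
  have h1 : (A.subgroupOf S).relIndex (P.subgroupOf S ⊔ A.subgroupOf S) =
      (A.subgroupOf S).relIndex (P.subgroupOf S) := Subgroup.relIndex_sup_right _ _
  have htop : P.subgroupOf S ⊔ A.subgroupOf S = ⊤ := by
    refine XsGroup.eq_top_of_index_prime H.hidx le_sup_right (fun hle => hPA ?_)
    intro y hy
    have : (⟨y, hPS hy⟩ : S) ∈ A.subgroupOf S :=
      hle (Subgroup.mem_sup_left (Subgroup.mem_subgroupOf.mpr hy))
    exact Subgroup.mem_subgroupOf.mp this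
  rw [htop, Subgroup.relIndex_top_right, H.hidx, Subgroup.relIndex_subgroupOf hPS] at h1
  exact h1.symm

theorem Hyp.card_inf_mul [Finite S] (H : Hyp p S A) (hS : IsPGroup p S) {P : Subgroup Ω}
    (hPS : P ≤ S) (hPA : ¬ P ≤ A) : Nat.card (P ⊓ A : Subgroup Ω) * p = Nat.card P := by
  have h1 := H.relIndex_of_not_le hS hPS hPA
  rw [← Subgroup.inf_relIndex_left] at h1
  have h2 := Subgroup.relIndex_mul_relIndex ⊥ (P ⊓ A) P bot_le inf_le_left
  rw [Subgroup.relIndex_bot_left, Subgroup.relIndex_bot_left, h1] at h2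
  exact h2

end Cfsg.Agent.Lib.Helper27.AiGroup
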