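import Mathlib
import Cfsg.Agent.Lib.Helper27.AiGroup

set_option autoImplicit false

namespace Cfsg.Agent.Lib.Helper27.AiFus

open Cfsg Cfsg.FusionSystem Cfsg.Agent.Lib.Helper26 Cfsg.Agent.Lib.Helper27.XsFus
  Cfsg.Agent.Lib.Helper27.AiGroup

section stab

variable {R : Type*} [Group R]

/-- automorphisms fixing `Y` pointwise and acting trivially modulo `Y` -/
def stabN (Y : Subgroup R) : Subgroup (MulAut R) where
  carrier := {φ | (∀ y ∈ Y, φ y = y) ∧ ∀ r, φ r * r⁻¹ ∈ Y}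
  one_mem' := ⟨fun y _ => rfl, fun r => by simp⟩
  mul_mem' := by
    rintro φ ψ ⟨a1, a2⟩ ⟨b1, b2⟩
    refine ⟨fun y hy => ?_, fun r => ?_⟩
    · rw [MulAut.mul_apply, b1 y hy, a1 y hy]
    · have e : (φ * ψ) r * r⁻¹ = φ (ψ r * r⁻¹) * (φ r * r⁻¹) := by
        rw [MulAut.mul_apply, map_mul, map_inv]
        group
      rw [e, a1 _ (b2 r)]
      exact Y.mul_mem (b2 r) (a2 r)
  inv_mem' := by
    rintro φ ⟨a1, a2⟩
    refine ⟨fun y hy => ?_, fun r => ?_⟩
    · calc φ⁻¹ y = φ⁻¹ (φ y) := by rw [a1 y hy]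
        _ = y := MulAut.inv_apply_self _ _ _
    · have h1 := a2 (φ⁻¹ r)
      rw [MulAut.apply_inv_self] at h1
      have h3 : φ⁻¹ r * r⁻¹ = (r * (φ⁻¹ r)⁻¹)⁻¹ := by
        rw [mul_inv_rev, inv_inv]
      rw [h3]
      exact Y.inv_mem h1

theorem mem_stabN {Y : Subgroup R} {φ : MulAut R} :
    φ ∈ stabN Y ↔ (∀ y ∈ Y, φ y = y) ∧ ∀ r, φ r * r⁻¹ ∈ Y := Iff.rfl

theorem pow_apply_of_mem_stabN {Y : Subgroup R} {φ : MulAut R} (h : φ ∈ stabN Y) (r : R)
    (n : ℕ) : (φ ^ n) r = (φ r * r⁻¹) ^ n * r := by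
  induction n with
  | zero => simp
  | succ n ih =>
    rw [pow_succ', MulAut.mul_apply, ih, map_mul, map_pow, h.1 _ (h.2 r), pow_succ]
    group

theorem stabN_isPGroup [Finite R] {p : ℕ} [Fact p.Prime] (hR : IsPGroup p R) (Y : Subgroup R) :
    IsPGroup p (stabN Y) := by
  obtain ⟨k, hk⟩ := (hR.to_subgroup Y).exists_card_eq
  intro φ
  refine ⟨k, ?_⟩
  apply Subtype.ext
  rw [Subgroup.coe_pow, Subgroup.coe_one]
  ext r
  rw [pow_apply_of_mem_stabN φ.2, MulAut.one_apply]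
  have h1 : (⟨(φ : MulAut R) r * r⁻¹, φ.2.2 r⟩ : Y) ^ Nat.card Y = 1 := pow_card_eq_one'
  have h2 := congrArg Subtype.val h1
  rw [Subgroup.coe_pow, Subgroup.coe_one, hk] at h2
  rw [h2, one_mul]

theorem stabN_normal (X : Subgroup (MulAut R)) (Y : Subgroup R)
    (hY : ∀ φ ∈ X, ∀ y ∈ Y, φ y ∈ Y) : ((stabN Y).subgroupOf X).Normal := by
  refine ⟨fun φ hφ ψ => ?_⟩
  rw [Subgroup.mem_subgroupOf] at hφ ⊢
  obtain ⟨a1, a2⟩ := hφ
  have hinv : ∀ y ∈ Y, (ψ : MulAut R)⁻¹ y ∈ Y := fun y hy => hY _ (X.inv_mem ψ.2) y hy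
  refine ⟨fun y hy => ?_, fun r => ?_⟩
  · rw [Subgroup.coe_mul, Subgroup.coe_mul, Subgroup.coe_inv, MulAut.mul_apply, MulAut.mul_apply,
      a1 _ (hinv y hy), MulAut.apply_inv_self]
  · have e : ((ψ * φ * ψ⁻¹ : X) : MulAut R) r * r⁻¹ =
        (ψ : MulAut R) ((φ : MulAut R) ((ψ : MulAut R)⁻¹ r) * ((ψ : MulAut R)⁻¹ r)⁻¹) := by
      rw [Subgroup.coe_mul, Subgroup.coe_mul, Subgroup.coe_inv, MulAut.mul_apply,
        MulAut.mul_apply, map_mul, map_inv, MulAut.apply_inv_self]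
    rw [e]
    exact hY _ ψ.2 _ (a2 _)

end stab


section rad

variable {Ω : Type*} [Group Ω] {S : Subgroup Ω} [Finite S] {p : ℕ} [hp : Fact p.Prime]

theorem mem_inn_of_normal_pgroup {F : FusionSystem S} {P : Subgroup Ω} (hE : F.IsEssential p P)
    (B : Subgroup (F.autGroup P)) (hBn : B.Normal) (hBp : IsPGroup p B) :
    ∀ b ∈ B, (b : MulAut P) ∈ Cfsg.Inn ↥P := by
  haveI : Finite P := finite_of_le hE.1.1
  obtain ⟨-, -, hnorm, E', hE'⟩ := hE
  have hmapn : (B.map (QuotientGroup.mk' ((Cfsg.Inn ↥P).subgroupOf (F.autGroup P)))).Normal :=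
    hBn.map _ (QuotientGroup.mk'_surjective _)
  have hmapp : IsPGroup p (B.map (QuotientGroup.mk' ((Cfsg.Inn ↥P).subgroupOf (F.autGroup P)))) :=
    hBp.map _
  have hbot := Cfsg.Agent.Lib.Helper26.eq_bot_of_normal_of_stronglyPEmbedded hE' hmapn hmapp
  intro b hb
  have hb1 : QuotientGroup.mk' ((Cfsg.Inn ↥P).subgroupOf (F.autGroup P)) b ∈
      B.map (QuotientGroup.mk' ((Cfsg.Inn ↥P).subgroupOf (F.autGroup P))) :=
    Subgroup.mem_map_of_mem _ hb
  rw [hbot, Subgroup.mem_bot] at hb1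
  have hb2 : b ∈ (Cfsg.Inn ↥P).subgroupOf (F.autGroup P) := (QuotientGroup.eq_one_iff b).mp hb1
  exact Subgroup.mem_subgroupOf.mp hb2

theorem mem_of_conjAut_mem_inn {F : FusionSystem S} {P : Subgroup Ω} (hcen : F.IsCentric P)
    {g : Ω} (hgS : g ∈ S) (hgN : g ∈ Subgroup.normalizer (P : Set Ω))
    (h : conjAut P g hgN ∈ Cfsg.Inn ↥P) : g ∈ P := by
  obtain ⟨y, hy⟩ := h
  have hPS : P ≤ S := hcen.1
  have hc : (y : Ω)⁻¹ * g ∈ centralizerIn S P := by
    refine ⟨S.mul_mem (S.inv_mem (hPS y.2)) hgS, Subgroup.mem_centralizer_iff.mpr ?_⟩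
    intro q hq
    have h1 : ((MulAut.conj y) ⟨q, hq⟩ : P) = conjAut P g hgN ⟨q, hq⟩ := by rw [hy]
    have h2 := congrArg Subtype.val h1
    rw [conjAut_apply, MulAut.conj_apply] at h2
    have h3 : (y : Ω) * q * (y : Ω)⁻¹ = g * q * g⁻¹ := by simpa using h2
    calc q * ((y : Ω)⁻¹ * g) = (y : Ω)⁻¹ * ((y : Ω) * q * (y : Ω)⁻¹) * g := by group
      _ = (y : Ω)⁻¹ * (g * q * g⁻¹) * g := by rw [h3]
      _ = (y : Ω)⁻¹ * g * q := by group
  have h4 := hcen.2 P (isConj_refl F hPS) hc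
  have : g = (y : Ω) * ((y : Ω)⁻¹ * g) := by group
  rw [this]
  exact P.mul_mem y.2 h4

theorem mem_of_conjAut_mem_stabN (hS : IsPGroup p S) {F : FusionSystem S} {P : Subgroup Ω}
    (hE : F.IsEssential p P) (Y : Subgroup ↥P)
    (hY : ∀ φ ∈ F.autGroup P, ∀ y ∈ Y, φ y ∈ Y) {g : Ω} (hgS : g ∈ S)
    (hgN : g ∈ Subgroup.normalizer (P : Set Ω)) (h : conjAut P g hgN ∈ stabN Y) : g ∈ P := by
  have hPS : P ≤ S := hE.1.1
  haveI : Finite P := finite_of_le hPS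
  have hBn : ((stabN Y).subgroupOf (F.autGroup P)).Normal := stabN_normal _ Y hY
  have hBp : IsPGroup p ((stabN Y).subgroupOf (F.autGroup P)) :=
    (stabN_isPGroup (hS.to_le hPS) Y).comap_subtype
  have hmem : conjAut P g hgN ∈ F.autGroup P :=
    autInducedBy_le_autGroup F hPS (conjAut_mem_autInducedBy hgS hgN)
  have := mem_inn_of_normal_pgroup hE _ hBn hBp ⟨conjAut P g hgN, hmem⟩
    (Subgroup.mem_subgroupOf.mpr h)
  exact mem_of_conjAut_mem_inn hE.1 hgS hgN this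

end rad


section tv

open Cfsg.Agent.Lib.Helper27.XsLocal Cfsg.Agent.Lib.Helper27.AbAut
open scoped Pointwise

variable {R : Type*} [CommGroup R] [Finite R] {p : ℕ} [hp : Fact p.Prime]

theorem mem_sylow_smul {G : Type*} [Group G] (Q : Sylow p G) (g x : G) :
    x ∈ ((g • Q : Sylow p G) : Subgroup G) ↔ g⁻¹ * x * g ∈ (Q : Subgroup G) := by
  rw [Sylow.smul_def, Sylow.pointwise_smul_def, Subgroup.mem_pointwise_smul_iff_inv_smul_mem]
  simp [MulAut.smul_def]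

/-- a `p`-subgroup normalized by a Sylow subgroup lies in it -/
theorem le_sylow_of_normalized {G : Type*} [Group G] (Q : Sylow p G) (K : Subgroup G)
    (hK : IsPGroup p K) (hn : (Q : Subgroup G) ≤ Subgroup.normalizer (K : Set G)) :
    K ≤ (Q : Subgroup G) := by
  have h1 : IsPGroup p ((Q : Subgroup G) ⊔ K : Subgroup G) :=
    IsPGroup.to_sup_of_normal_right' Q.2 hK hn
  have h2 := Q.is_maximal' h1 le_sup_left
  calc K ≤ (Q : Subgroup G) ⊔ K := le_sup_right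
    _ = Q := h2

/-- a Sylow subgroup fixing a subgroup of index `p` pointwise has order at most `p`, if there
is no normal `p`-subgroup -/
theorem tv_card_le (hR : IsPGroup p R) (X : Subgroup (MulAut R)) (Q : Sylow p X)
    (Z : Subgroup R) (hZidx : Z.index = p)
    (hQ : ∀ t ∈ (Q : Subgroup X), (t : MulAut R) ∈ stab3 Z ⊥)
    (hOp : ∀ B : Subgroup X, B.Normal → IsPGroup p B → B = ⊥) :
    Nat.card (Q : Subgroup X) ≤ p := by
  by_cases hQbot : (Q : Subgroup X) = ⊥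
  · rw [hQbot, Subgroup.card_bot]
    exact hp.out.one_lt.le
  obtain ⟨u, huQ, hu1⟩ : ∃ u : X, u ∈ (Q : Subgroup X) ∧ u ≠ 1 := by
    obtain ⟨u, hu⟩ := (Subgroup.ne_bot_iff_exists_ne_one).mp hQbot
    exact ⟨u.1, u.2, fun h => hu (Subtype.ext h)⟩
  have hfixZ : ∀ t ∈ (Q : Subgroup X), ∀ z ∈ Z, (t : MulAut R) z = z := by
    intro t ht z hz
    have := (hQ t ht).2.1 z hz
    rwa [Subgroup.mem_bot, mul_inv_eq_one] at this
  have hfxu : fx (u : MulAut R) = Z := by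
    have hle : Z ≤ fx (u : MulAut R) := fun z hz => mem_fx.mpr (hfixZ u huQ z hz)
    by_contra hne
    have hnle : ¬ fx (u : MulAut R) ≤ Z := fun h => hne (le_antisymm h hle)
    have htop := XsLocal.eq_top_of_index_prime hZidx hle hnle
    apply hu1
    apply Subtype.ext
    ext r
    have : r ∈ fx (u : MulAut R) := by rw [htop]; exact Subgroup.mem_top r
    rw [mem_fx.mp this]
    rfl
  have hu : Tv X p (u : MulAut R) := by
    refine ⟨u.2, by rw [hfxu]; exact hZidx, ?_⟩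
    rw [hfxu]
    rintro _ ⟨r, rfl⟩
    exact (hQ u huQ).1 r
  obtain ⟨g, hgX, z, hz, hgz⟩ := exists_moving hR hu hOp
  rw [hfxu] at hz hgz
  obtain ⟨Z', hZ'⟩ : ∃ Z' : Subgroup R, Z' = Z.map (g : R ≃* R).toMonoidHom := ⟨_, rfl⟩
  have hZ'idx : Z'.index = p := by
    rw [hZ', ← hZidx]
    exact Subgroup.index_map_equiv Z g
  have hgzZ' : g z ∈ Z' := by
    rw [hZ']
    exact ⟨z, hz, rfl⟩
  have hsup : Z ⊔ Z' = ⊤ :=
    XsLocal.eq_top_of_index_prime hZidx le_sup_left (fun h => hgz (h (Subgroup.mem_sup_right hgzZ')))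
  -- the conjugate Sylow subgroup fixes `Z'`
  have hfixZ' : ∀ t ∈ (((⟨g, hgX⟩ : X) • Q : Sylow p X) : Subgroup X), ∀ z' ∈ Z',
      (t : MulAut R) z' = z' := by
    intro t ht z' hz'
    rw [mem_sylow_smul] at ht
    rw [hZ'] at hz'
    obtain ⟨z0, hz0, rfl⟩ := hz'
    have h1 := hfixZ _ ht z0 hz0
    have h2 : ((⟨g, hgX⟩⁻¹ * t * ⟨g, hgX⟩ : X) : MulAut R) z0 = g⁻¹ ((t : MulAut R) (g z0)) := rfl
    rw [h2] at h1
    have h3 := congrArg g h1
    rw [MulAut.apply_inv_self] at h3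
    exact h3
  obtain ⟨Y, hY⟩ : ∃ Y : Subgroup R, Y = Z ⊓ Z' := ⟨_, rfl⟩
  have hYZ : Y ≤ Z := hY ▸ inf_le_left
  have hYZ' : Y ≤ Z' := hY ▸ inf_le_right
  have hK1p : IsPGroup p ((stab3 Y ⊥).subgroupOf X) := (stab3_isPGroup hR _ _).comap_subtype
  -- a subgroup fixing `Y` pointwise normalizes `K1`
  have hnorm : ∀ t : X, (∀ y ∈ Y, (t : MulAut R) y = y) →
      t ∈ Subgroup.normalizer (((stab3 Y ⊥).subgroupOf X : Subgroup X) : Set X) := by
    intro t ht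
    have hinv : ∀ y ∈ Y, (t : MulAut R)⁻¹ y = y := by
      intro y hy
      calc (t : MulAut R)⁻¹ y = (t : MulAut R)⁻¹ ((t : MulAut R) y) := by rw [ht y hy]
        _ = y := MulAut.inv_apply_self _ _ _
    have key : ∀ (t : X), (∀ y ∈ Y, (t : MulAut R) y = y) → (∀ y ∈ Y, (t : MulAut R)⁻¹ y = y) →
        ∀ σ ∈ (stab3 Y ⊥).subgroupOf X, t * σ * t⁻¹ ∈ (stab3 Y ⊥).subgroupOf X := by
      intro t ht hinv σ hσ
      rw [Subgroup.mem_subgroupOf] at hσ ⊢
      obtain ⟨a1, a2, -⟩ := hσ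
      have e : ∀ r, ((t * σ * t⁻¹ : X) : MulAut R) r * r⁻¹ =
          (t : MulAut R) ((σ : MulAut R) ((t : MulAut R)⁻¹ r) * ((t : MulAut R)⁻¹ r)⁻¹) := by
        intro r
        rw [Subgroup.coe_mul, Subgroup.coe_mul, Subgroup.coe_inv, MulAut.mul_apply,
          MulAut.mul_apply, map_mul, map_inv, MulAut.apply_inv_self]
      refine ⟨fun r => ?_, fun r hr => ?_, fun r hr => ?_⟩
      · rw [e, ht _ (a1 _)]
        exact a1 _
      · rw [e, hinv r hr]
        have := a2 r hr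
        rw [Subgroup.mem_bot] at this ⊢
        rw [this, map_one]
      · rw [Subgroup.mem_bot.mp hr, map_one]
    apply Cfsg.Agent.Lib.Helper26.mem_normalizer_of_forall
    · exact key t ht hinv
    · intro σ hσ
      have := key t⁻¹ (by simpa using hinv) (by simpa using ht) σ hσ
      simpa using this
  have hK1Q : (stab3 Y ⊥).subgroupOf X ≤ (Q : Subgroup X) :=
    le_sylow_of_normalized Q _ hK1p (fun t ht => hnorm t (fun y hy => hfixZ t ht y (hYZ hy)))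
  have hK1Q' : (stab3 Y ⊥).subgroupOf X ≤ (((⟨g, hgX⟩ : X) • Q : Sylow p X) : Subgroup X) :=
    le_sylow_of_normalized _ _ hK1p (fun t ht => hnorm t (fun y hy => hfixZ' t ht y (hYZ' hy)))
  have hK1 : ∀ σ ∈ (stab3 Y ⊥).subgroupOf X, σ = 1 := by
    intro σ hσ
    apply Subtype.ext
    ext r
    have hr : r ∈ Z ⊔ Z' := by rw [hsup]; exact Subgroup.mem_top r
    obtain ⟨a, ha, b, hb, rfl⟩ := Subgroup.mem_sup.mp hr
    rw [map_mul, hfixZ σ (hK1Q hσ) a ha, hfixZ' σ (hK1Q' hσ) b hb]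
    rfl
  -- an element outside `Z`
  obtain ⟨x₀, hx₀⟩ : ∃ x₀ : R, x₀ ∉ Z := by
    by_contra hcon
    push Not at hcon
    have : Z = ⊤ := (Subgroup.eq_top_iff' Z).mpr hcon
    rw [this, Subgroup.index_top] at hZidx
    exact hp.out.one_lt.ne hZidx
  have hkill : ∀ t ∈ (Q : Subgroup X), (t : MulAut R) x₀ * x₀⁻¹ ∈ Y → t = 1 := by
    intro t ht hty
    apply hK1 t
    rw [Subgroup.mem_subgroupOf]
    refine ⟨fun r => ?_, fun r hr => ?_, fun r hr => ?_⟩
    · have hle : Z ⊔ Subgroup.zpowers x₀ ≤ Y.comap (df (t : MulAut R)) := by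
        refine sup_le (fun z hz => ?_) (Subgroup.zpowers_le.mpr ?_)
        · rw [Subgroup.mem_comap, df_apply, hfixZ t ht z hz, mul_inv_cancel]
          exact Y.one_mem
        · rw [Subgroup.mem_comap, df_apply]
          exact hty
      have htop : Z ⊔ Subgroup.zpowers x₀ = ⊤ :=
        XsLocal.eq_top_of_index_prime hZidx le_sup_left
          (fun h => hx₀ (h (Subgroup.mem_sup_right (Subgroup.mem_zpowers x₀))))
      rw [htop] at hle
      have := hle (Subgroup.mem_top r)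
      rwa [Subgroup.mem_comap, df_apply] at this
    · rw [hfixZ t ht r (hYZ hr), mul_inv_cancel]
      exact Subgroup.one_mem _
    · rw [Subgroup.mem_bot.mp hr, map_one]
  -- the map `t ↦ t x₀ * x₀⁻¹`
  let θ : (Q : Subgroup X) →* R := MonoidHom.mk' (fun t => ((t : X) : MulAut R) x₀ * x₀⁻¹) (by
    intro t s
    have h1 : (((t * s : (Q : Subgroup X)) : X) : MulAut R) x₀ =
        ((t : X) : MulAut R) (((s : X) : MulAut R) x₀) := rfl
    have h2 : ((s : X) : MulAut R) x₀ = x₀ * (((s : X) : MulAut R) x₀ * x₀⁻¹) := by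
      rw [mul_comm (((s : X) : MulAut R) x₀), mul_inv_cancel_left]
    have h3 : ((t : X) : MulAut R) (((s : X) : MulAut R) x₀ * x₀⁻¹) =
        ((s : X) : MulAut R) x₀ * x₀⁻¹ := hfixZ t t.2 _ ((hQ s s.2).1 x₀)
    show (((t * s : (Q : Subgroup X)) : X) : MulAut R) x₀ * x₀⁻¹ = _
    rw [h1, h2, map_mul, h3]
    rw [← h2]
    have e : ∀ a b c : R, a * (b * c) * c⁻¹ = a * c⁻¹ * (b * c) * c⁻¹ * c := by
      intro a b c
      rw [mul_comm a (b * c), mul_comm (a * c⁻¹) (b * c)]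
      group
    rw [mul_comm (((t : X) : MulAut R) x₀) _, mul_assoc, mul_comm])
  have hθ : ∀ t : (Q : Subgroup X), θ t = ((t : X) : MulAut R) x₀ * x₀⁻¹ := fun _ => rfl
  have hθinj : Function.Injective θ := by
    rw [injective_iff_map_eq_one]
    intro t ht
    have h1 : ((t : X) : MulAut R) x₀ * x₀⁻¹ ∈ Y := by
      rw [← hθ, ht]
      exact Y.one_mem
    exact Subtype.ext (hkill t t.2 h1)
  have hdisj : ∀ w ∈ θ.range, w ∈ Y → w = 1 := by
    rintro _ ⟨t, rfl⟩ hw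
    have := hkill t t.2 hw
    rw [hθ, this]
    simp
  have hrZ : θ.range ≤ Z := by
    rintro _ ⟨t, rfl⟩
    exact (hQ t t.2).1 x₀
  -- counting
  have hinj2 : Function.Injective (fun q : θ.range × Y => ((q.1 : R) * (q.2 : R))) := by
    rintro ⟨a, b⟩ ⟨c, d⟩ h
    have h' : (a : R) * (b : R) = (c : R) * (d : R) := h
    have h1 : (c : R)⁻¹ * (a : R) = (d : R) * (b : R)⁻¹ := by
      calc (c : R)⁻¹ * (a : R) = (c : R)⁻¹ * ((a : R) * (b : R)) * (b : R)⁻¹ := by group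
        _ = (c : R)⁻¹ * ((c : R) * (d : R)) * (b : R)⁻¹ := by rw [h']
        _ = (d : R) * (b : R)⁻¹ := by group
    have h2 : (c : R)⁻¹ * (a : R) ∈ θ.range := θ.range.mul_mem (θ.range.inv_mem c.2) a.2
    have h3 : (c : R)⁻¹ * (a : R) ∈ Y := by
      rw [h1]
      exact Y.mul_mem d.2 (Y.inv_mem b.2)
    have h4 := hdisj _ h2 h3
    have hac : (a : R) = c := by
      have := congrArg (fun w => (c : R) * w) h4
      simpa using this
    have hbd : (b : R) = d := by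
      rw [hac] at h'
      exact mul_left_cancel h'
    exact Prod.ext (Subtype.ext hac) (Subtype.ext hbd)
  have hcard1 : Nat.card θ.range * Nat.card Y ≤ Nat.card Z := by
    rw [← Nat.card_prod]
    have hmaps : ∀ q : θ.range × Y, ((q.1 : R) * (q.2 : R)) ∈ Z :=
      fun q => Z.mul_mem (hrZ q.1.2) (hYZ q.2.2)
    exact Nat.card_le_card_of_injective (fun q => (⟨_, hmaps q⟩ : Z))
      (fun q q' h => hinj2 (congrArg Subtype.val h))
  have hcardQ : Nat.card (Q : Subgroup X) = Nat.card θ.range :=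
    Nat.card_congr (MonoidHom.ofInjective hθinj).toEquiv
  have hrel : Y.relIndex Z ∣ p := by
    rw [hY, Subgroup.inf_relIndex_left, ← hZ'idx]
    haveI : Z'.Normal := Subgroup.normal_of_isMulCommutative _
    exact Subgroup.relIndex_dvd_index_of_normal Z' Z
  have hcard2 := Subgroup.relIndex_mul_relIndex ⊥ Y Z bot_le hYZ
  rw [Subgroup.relIndex_bot_left, Subgroup.relIndex_bot_left] at hcard2
  have hYpos : 0 < Nat.card Y := Nat.card_pos
  have h5 : Nat.card θ.range * Nat.card Y ≤ Nat.card Y * p := by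
    calc Nat.card θ.range * Nat.card Y ≤ Nat.card Z := hcard1
      _ = Nat.card Y * Y.relIndex Z := hcard2.symm
      _ ≤ Nat.card Y * p := Nat.mul_le_mul_left _ (Nat.le_of_dvd hp.out.pos hrel)
  rw [hcardQ]
  rw [mul_comm] at h5
  exact Nat.le_of_mul_le_mul_left h5 hYpos

end tv

/-- `tv_card_le` for a group that happens to be commutative -/
theorem tv_card_le' {R : Type*} [Group R] [Finite R] {p : ℕ} [hp : Fact p.Prime]
    (hab : ∀ a b : R, a * b = b * a) (hR : IsPGroup p R) (X : Subgroup (MulAut R))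
    (Q : Sylow p X) (Z : Subgroup R) (hZidx : Z.index = p)
    (hQ : ∀ t ∈ (Q : Subgroup X), (∀ z ∈ Z, (t : MulAut R) z = z) ∧
      ∀ r, (t : MulAut R) r * r⁻¹ ∈ Z)
    (hOp : ∀ B : Subgroup X, B.Normal → IsPGroup p B → B = ⊥) :
    Nat.card (Q : Subgroup X) ≤ p := by
  letI : CommGroup R := { (inferInstance : Group R) with mul_comm := hab }
  refine tv_card_le hR X Q Z hZidx (fun t ht => ?_) hOp
  obtain ⟨h1, h2⟩ := hQ t ht
  refine ⟨h2, fun z hz => ?_, fun z hz => ?_⟩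
  · rw [h1 z hz, mul_inv_cancel]
    exact Subgroup.one_mem _
  · rw [Subgroup.mem_bot.mp hz, map_one]


section ctx

variable {Ω : Type*} [Group Ω] {S A : Subgroup Ω} [Finite S] {p : ℕ} [hp : Fact p.Prime]

/-- an essential subgroup not inside `A`, with a chosen element outside `A` -/
structure Ctx (p : ℕ) (S A : Subgroup Ω) (F : FusionSystem S) (P : Subgroup Ω) (x : Ω) : Prop where
  H : Hyp p S A
  hS : IsPGroup p S
  hF : F.IsSaturated p
  hP : F.IsEssential p P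
  hxP : x ∈ P
  hxA : x ∉ A

variable {F : FusionSystem S} {P : Subgroup Ω} {x : Ω}

theorem Ctx.hPS (c : Ctx p S A F P x) : P ≤ S := c.hP.1.1

theorem Ctx.hxS (c : Ctx p S A F P x) : x ∈ S := c.hPS c.hxP

theorem Ctx.not_le (c : Ctx p S A F P x) : ¬ P ≤ A := fun h => c.hxA (h c.hxP)

theorem Ctx.ZS_le_P (c : Ctx p S A F P x) : ZS S ≤ P := by
  intro z hz
  obtain ⟨hzS, hzc⟩ := mem_ZS.mp hz
  apply c.hP.1.2 P (isConj_refl F c.hPS)
  refine ⟨hzS, Subgroup.mem_centralizer_iff.mpr (fun y hy => ?_)⟩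
  exact hzc y (c.hPS hy)

theorem Ctx.ne_top (c : Ctx p S A F P x) : P ≠ S :=
  Cfsg.Agent.S5326.ne_top_of_essential c.hS F c.hF c.hP

theorem Ctx.decomp (c : Ctx p S A F P x) :
    ∀ y ∈ P, ∃ a ∈ P ⊓ A, ∃ n : ℕ, y = a * x ^ n := by
  intro y hy
  obtain ⟨a, ha, n, rfl⟩ := (c.H.facts c.hS c.hxS c.hxA).1 y (c.hPS hy)
  refine ⟨a, ⟨?_, ha⟩, n, rfl⟩
  have : a = a * x ^ n * (x ^ n)⁻¹ := by group
  rw [this]
  exact P.mul_mem hy (P.inv_mem (P.pow_mem c.hxP n))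

theorem Ctx.x_mem_normalizerIn (c : Ctx p S A F P x) : x ∈ normalizerIn S P :=
  ⟨c.hxS, Subgroup.le_normalizer c.hxP⟩

theorem Ctx.normalizer_decomp (c : Ctx p S A F P x) :
    ∀ g ∈ normalizerIn S P, ∃ a ∈ normalizerIn S P ⊓ A, ∃ n : ℕ, g = a * x ^ n := by
  intro g hg
  obtain ⟨a, ha, n, rfl⟩ := (c.H.facts c.hS c.hxS c.hxA).1 g hg.1
  refine ⟨a, ⟨?_, ha⟩, n, rfl⟩
  have : a = a * x ^ n * (x ^ n)⁻¹ := by group
  rw [this]
  exact Subgroup.mul_mem _ hg (Subgroup.inv_mem _ (Subgroup.pow_mem _ c.x_mem_normalizerIn n))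

theorem Ctx.exists_normalizing (c : Ctx p S A F P x) :
    ∃ g ∈ normalizerIn S P, g ∉ P := by
  obtain ⟨g, hgS, hgP, hgN⟩ := exists_normalizing_of_lt c.hS c.hPS c.ne_top
  exact ⟨g, ⟨hgS, hgN⟩, hgP⟩

theorem Ctx.sylow (c : Ctx p S A F P x) :
    ∃ R : Sylow p (F.autGroup P),
      (R : Subgroup (F.autGroup P)) = (autInducedBy S P).subgroupOf (F.autGroup P) :=
  (saturated_fullyNormalized c.hS F c.hF c.hP.2.1).2.1.2

/-- commutators of elements of `A` normalizing `P` with elements of `P` lie in `P ⊓ A` -/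
theorem Ctx.comm_mem (c : Ctx p S A F P x) {a : Ω} (haN : a ∈ normalizerIn S P) (haA : a ∈ A)
    {y : Ω} (hy : y ∈ P) : a * y * a⁻¹ * y⁻¹ ∈ P ⊓ A := by
  constructor
  · have h1 : a * y * a⁻¹ ∈ P := (Subgroup.mem_normalizer_iff.mp haN.2 y).mp hy
    exact P.mul_mem h1 (P.inv_mem hy)
  · have h1 : y * a⁻¹ * y⁻¹ ∈ A := c.H.normal c.hS y (c.hPS hy) _ (A.inv_mem haA)
    have e : a * y * a⁻¹ * y⁻¹ = a * (y * a⁻¹ * y⁻¹) := by group
    rw [e]
    exact A.mul_mem haA h1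

/-- the conjugation homomorphism from `N_S(P)` to `Aut(P)` -/
def conjN (S P : Subgroup Ω) : ↥(normalizerIn S P) →* MulAut ↥P :=
  (Subgroup.normalizerMonoidHom P).comp
    (Subgroup.inclusion (inf_le_right : normalizerIn S P ≤ Subgroup.normalizer (P : Set Ω)))

theorem conjN_apply (S P : Subgroup Ω) (g : normalizerIn S P) (y : P) :
    ((conjN S P g y : P) : Ω) = (g : Ω) * (y : Ω) * (g : Ω)⁻¹ := rfl

theorem conjN_range_le (S P : Subgroup Ω) : (conjN S P).range ≤ autInducedBy S P := by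
  rintro _ ⟨g, rfl⟩
  exact mem_autInducedBy_iff.mpr ⟨g, g.2.1, fun y => rfl⟩

theorem Ctx.conjN_ker (c : Ctx p S A F P x) (hab : ∀ a ∈ P, ∀ b ∈ P, a * b = b * a) :
    (conjN S P).ker = P.subgroupOf (normalizerIn S P) := by
  ext g
  rw [MonoidHom.mem_ker, Subgroup.mem_subgroupOf]
  constructor
  · intro h
    apply c.hP.1.2 P (isConj_refl F c.hPS)
    refine ⟨g.2.1, Subgroup.mem_centralizer_iff.mpr (fun y hy => ?_)⟩
    have h1 : conjN S P g ⟨y, hy⟩ = ⟨y, hy⟩ := by rw [h]; rfl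
    have h2 := congrArg Subtype.val h1
    rw [conjN_apply] at h2
    have h3 : (g : Ω) * y * (g : Ω)⁻¹ = y := h2
    calc y * (g : Ω) = ((g : Ω) * y * (g : Ω)⁻¹) * (g : Ω) := by rw [h3]
      _ = (g : Ω) * y := by group
  · intro h
    ext y
    rw [conjN_apply, hab _ h _ y.2, mul_inv_cancel_right]
    rfl

theorem Ctx.inf_eq_ZS (c : Ctx p S A F P x) (hab : ∀ a ∈ P, ∀ b ∈ P, a * b = b * a) :
    P ⊓ A = ZS S := by
  apply le_antisymm
  · intro a ha
    exact (c.H.facts c.hS c.hxS c.hxA).2.2 a ha.2 (hab x c.hxP a ha.1)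
  · exact le_inf c.ZS_le_P (c.H.ZS_le c.hS)

theorem Ctx.eq_sup_of_abelian (c : Ctx p S A F P x) (hab : ∀ a ∈ P, ∀ b ∈ P, a * b = b * a) :
    P = ZS S ⊔ Subgroup.zpowers x := by
  apply le_antisymm
  · intro y hy
    obtain ⟨a, ha, n, rfl⟩ := c.decomp y hy
    rw [c.inf_eq_ZS hab] at ha
    exact Subgroup.mul_mem _ (Subgroup.mem_sup_left ha)
      (Subgroup.mem_sup_right (Subgroup.pow_mem _ (Subgroup.mem_zpowers x) n))
  · exact sup_le c.ZS_le_P (Subgroup.zpowers_le.mpr c.hxP)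

theorem Ctx.card_autInduced_le (c : Ctx p S A F P x) (hab : ∀ a ∈ P, ∀ b ∈ P, a * b = b * a) :
    Nat.card (autInducedBy S P) ≤ p := by
  haveI : Finite P := finite_of_le c.hPS
  obtain ⟨R, hR⟩ := c.sylow
  have hZidx : ((ZS S).subgroupOf P).index = p := by
    show (ZS S).relIndex P = p
    rw [← c.inf_eq_ZS hab, Subgroup.inf_relIndex_left]
    exact c.H.relIndex_of_not_le c.hS c.hPS c.not_le
  have hInn : Cfsg.Inn ↥P = ⊥ := by
    rw [eq_bot_iff]
    rintro φ ⟨g, rfl⟩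
    rw [Subgroup.mem_bot]
    ext y
    rw [MulAut.conj_apply, MulAut.one_apply]
    have hc : g * y = y * g := Subtype.ext (hab g g.2 y y.2)
    rw [hc, mul_inv_cancel_right]
  have hOp : ∀ B : Subgroup (F.autGroup P), B.Normal → IsPGroup p B → B = ⊥ := by
    intro B hBn hBp
    rw [eq_bot_iff]
    intro b hb
    have := mem_inn_of_normal_pgroup c.hP B hBn hBp b hb
    rw [hInn, Subgroup.mem_bot] at this
    exact Subgroup.mem_bot.mpr (Subtype.ext this)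
  have hQ : ∀ t ∈ (R : Subgroup (F.autGroup P)),
      (∀ z ∈ (ZS S).subgroupOf P, (t : MulAut P) z = z) ∧
      ∀ r, (t : MulAut P) r * r⁻¹ ∈ (ZS S).subgroupOf P := by
    intro t ht
    rw [hR, Subgroup.mem_subgroupOf] at ht
    obtain ⟨g, hgS, hgN, hgt⟩ := mem_autInducedBy_iff'.mp ht
    obtain ⟨a, ha, n, hgan⟩ := c.normalizer_decomp g ⟨hgS, hgN⟩
    have hact : ∀ y : P, (((t : MulAut P) y : P) : Ω) = a * (y : Ω) * a⁻¹ := by
      intro y
      rw [hgt, conjAut_apply, hgan]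
      have h1 : x ^ n * (y : Ω) = (y : Ω) * x ^ n := hab _ (P.pow_mem c.hxP n) _ y.2
      calc a * x ^ n * (y : Ω) * (a * x ^ n)⁻¹ = a * (x ^ n * (y : Ω)) * (x ^ n)⁻¹ * a⁻¹ := by group
        _ = a * ((y : Ω) * x ^ n) * (x ^ n)⁻¹ * a⁻¹ := by rw [h1]
        _ = a * (y : Ω) * a⁻¹ := by group
    constructor
    · intro z hz
      apply Subtype.ext
      rw [hact]
      rw [Subgroup.mem_subgroupOf] at hz
      rw [(mem_ZS.mp hz).2 a (c.H.hAS ha.2), mul_inv_cancel_right]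
    · intro r
      rw [Subgroup.mem_subgroupOf, Subgroup.coe_mul, hact, Subgroup.coe_inv, ← c.inf_eq_ZS hab]
      exact c.comm_mem ha.1 ha.2 r.2
  have hcard := tv_card_le' (fun a b => Subtype.ext (hab a a.2 b b.2)) (c.hS.to_le c.hPS)
    (F.autGroup P) R ((ZS S).subgroupOf P) hZidx hQ hOp
  rw [hR, Nat.card_congr (Subgroup.subgroupOfEquivOfLe
    (autInducedBy_le_autGroup F c.hPS)).toEquiv] at hcard
  exact hcard

theorem index_eq_prime_of_le {G : Type*} [Group G] [Finite G] (hG : IsPGroup p G)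
    (K : Subgroup G) (h1 : K.index ≤ p) (hne : K ≠ ⊤) : K.index = p := by
  obtain ⟨k, hk⟩ := hG.exists_card_eq
  have hdvd : K.index ∣ p ^ k := hk ▸ Subgroup.index_dvd_card K
  obtain ⟨j, -, hj⟩ := (Nat.dvd_prime_pow hp.out).mp hdvd
  have hj0 : j ≠ 0 := by
    rintro rfl
    rw [pow_zero] at hj
    exact hne (Subgroup.index_eq_one.mp hj)
  rw [hj] at h1 ⊢
  have hj1 : j ≤ 1 := by
    by_contra hcon
    push Not at hcon
    have : p ^ 2 ≤ p ^ j := Nat.pow_le_pow_right hp.out.pos hcon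
    have h2 : p * p ≤ p * 1 := by rw [mul_one, ← pow_two]; exact this.trans h1
    have := Nat.le_of_mul_le_mul_left h2 hp.out.pos
    exact absurd this (not_le.mpr hp.out.one_lt)
  have : j = 1 := by omega
  rw [this, pow_one]

theorem Ctx.index_of_abelian (c : Ctx p S A F P x) (hab : ∀ a ∈ P, ∀ b ∈ P, a * b = b * a) :
    (P.subgroupOf (normalizerIn S P)).index = p := by
  haveI : Finite P := finite_of_le c.hPS
  have hNS : normalizerIn S P ≤ S := inf_le_left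
  haveI : Finite (normalizerIn S P) := finite_of_le hNS
  apply index_eq_prime_of_le (G := ↥(normalizerIn S P)) (c.hS.to_le hNS)
  · rw [← c.conjN_ker hab, Subgroup.index_ker]
    exact (Subgroup.card_le_of_le (conjN_range_le S P)).trans (c.card_autInduced_le hab)
  · intro htop
    obtain ⟨g, hgN, hgP⟩ := c.exists_normalizing
    have : (⟨g, hgN⟩ : normalizerIn S P) ∈ P.subgroupOf (normalizerIn S P) := by
      rw [htop]; exact Subgroup.mem_top _
    exact hgP (Subgroup.mem_subgroupOf.mp this)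

theorem Ctx.le_normalizerIn (c : Ctx p S A F P x) : P ≤ normalizerIn S P :=
  le_inf c.hPS Subgroup.le_normalizer

theorem Ctx.mem_normalizerIn_iff (c : Ctx p S A F P x) {a : Ω} (haA : a ∈ A) :
    a ∈ normalizerIn S P ↔ a * x * a⁻¹ * x⁻¹ ∈ P := by
  constructor
  · intro haN
    exact (c.comm_mem haN haA c.hxP).1
  · intro hw
    have key : ∀ a ∈ A, a * x * a⁻¹ * x⁻¹ ∈ P → ∀ y ∈ P, a * y * a⁻¹ ∈ P := by
      intro a haA hw y hy
      obtain ⟨b, hb, n, rfl⟩ := c.decomp y hy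
      have h1 : a * x * a⁻¹ = (a * x * a⁻¹ * x⁻¹) * x := by group
      have h2 : a * x ^ n * a⁻¹ = ((a * x * a⁻¹ * x⁻¹) * x) ^ n := by
        rw [← h1, conj_pow]
      have h3 : a * (b * x ^ n) * a⁻¹ = (a * b * a⁻¹) * (a * x ^ n * a⁻¹) := by group
      rw [h3, h2, c.H.hab a haA b hb.2, mul_inv_cancel_right]
      exact P.mul_mem hb.1 (P.pow_mem (P.mul_mem hw c.hxP) n)
    refine ⟨c.H.hAS haA, mem_normalizer_of_forall (key a haA hw) ?_⟩
    have hw' : a⁻¹ * x * a⁻¹⁻¹ * x⁻¹ ∈ P := by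
      have hwA : a * x * a⁻¹ * x⁻¹ ∈ A := by
        have h1 : x * a⁻¹ * x⁻¹ ∈ A := c.H.normal c.hS x c.hxS _ (A.inv_mem haA)
        have e : a * x * a⁻¹ * x⁻¹ = a * (x * a⁻¹ * x⁻¹) := by group
        rw [e]
        exact A.mul_mem haA h1
      have e : a⁻¹ * x * a⁻¹⁻¹ * x⁻¹ = a⁻¹ * (a * x * a⁻¹ * x⁻¹)⁻¹ * a := by group
      rw [e, mul_assoc, c.H.hab _ (A.inv_mem hwA) a haA, inv_mul_cancel_left]
      exact P.inv_mem hw
    intro y hy
    have := key a⁻¹ (A.inv_mem haA) hw' y hy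
    rwa [inv_inv] at this

theorem Ctx.normalizer_inf_eq (c : Ctx p S A F P x) (hab : ∀ a ∈ P, ∀ b ∈ P, a * b = b * a) :
    normalizerIn S P ⊓ A = Z2S S ⊓ A := by
  ext a
  constructor
  · rintro ⟨haN, haA⟩
    refine ⟨?_, haA⟩
    have h1 := (mem_Z2S_iff_psi c.H c.hS c.hxS c.hxA ⟨a, haA⟩).mpr
    apply h1
    rw [psi_apply, ← c.inf_eq_ZS hab]
    exact c.comm_mem haN haA c.hxP
  · rintro ⟨ha2, haA⟩
    refine ⟨(c.mem_normalizerIn_iff haA).mpr ?_, haA⟩
    have h1 := (mem_Z2S_iff_psi c.H c.hS c.hxS c.hxA ⟨a, haA⟩).mp ha2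
    rw [psi_apply] at h1
    exact c.ZS_le_P h1

theorem Ctx.relIndex_of_abelian (c : Ctx p S A F P x) (hab : ∀ a ∈ P, ∀ b ∈ P, a * b = b * a) :
    (ZS S).relIndex (Z2S S ⊓ A) = p := by
  have hNS : normalizerIn S P ≤ S := inf_le_left
  haveI : Finite P := finite_of_le c.hPS
  haveI : Finite (normalizerIn S P) := finite_of_le hNS
  haveI : Finite (ZS S) := finite_of_le ZS_le
  have hNA : ¬ normalizerIn S P ≤ A := fun h => c.hxA (h c.x_mem_normalizerIn)
  have h1 := c.H.card_inf_mul c.hS hNS hNA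
  rw [c.normalizer_inf_eq hab] at h1
  have h2 := Subgroup.card_mul_index (P.subgroupOf (normalizerIn S P))
  rw [c.index_of_abelian hab,
    Nat.card_congr (Subgroup.subgroupOfEquivOfLe c.le_normalizerIn).toEquiv] at h2
  have h3 := c.H.card_inf_mul c.hS c.hPS c.not_le
  rw [c.inf_eq_ZS hab] at h3
  have hle : ZS S ≤ Z2S S ⊓ A := le_inf ZS_le_Z2S (c.H.ZS_le c.hS)
  have h4 := Subgroup.relIndex_mul_relIndex ⊥ (ZS S) (Z2S S ⊓ A) bot_le hle
  rw [Subgroup.relIndex_bot_left, Subgroup.relIndex_bot_left] at h4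
  have hpp := hp.out.pos
  have h5 : Nat.card ↥(Z2S S ⊓ A) * p = Nat.card (ZS S) * p * p := by rw [h1, ← h2, ← h3]
  have h6 : Nat.card ↥(Z2S S ⊓ A) = Nat.card (ZS S) * p := Nat.eq_of_mul_eq_mul_right hpp h5
  rw [h6] at h4
  exact Nat.eq_of_mul_eq_mul_left Nat.card_pos h4

/-- (n1) the centre of a nonabelian `P` is `Z(S)` -/
theorem Ctx.center_P (c : Ctx p S A F P x) (hna : ¬ ∀ a ∈ P, ∀ b ∈ P, a * b = b * a) :
    ∀ y ∈ P, (∀ q ∈ P, q * y = y * q) → y ∈ ZS S := by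
  intro y hy hyc
  by_cases hyA : y ∈ A
  · exact (c.H.facts c.hS c.hxS c.hxA).2.2 y hyA (hyc x c.hxP)
  · exfalso
    apply hna
    have c' : Ctx p S A F P y := ⟨c.H, c.hS, c.hF, c.hP, hy, hyA⟩
    intro a ha b hb
    obtain ⟨a', ha', n, rfl⟩ := c'.decomp a ha
    obtain ⟨b', hb', m, rfl⟩ := c'.decomp b hb
    have hyn : ∀ (k : ℕ) (q : Ω), q ∈ P → q * y ^ k = y ^ k * q := by
      intro k q hq
      induction k with
      | zero => simp
      | succ k ih => rw [pow_succ, ← mul_assoc, ih, mul_assoc, hyc q hq, mul_assoc]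
    calc a' * y ^ n * (b' * y ^ m) = a' * (y ^ n * b') * y ^ m := by group
      _ = a' * (b' * y ^ n) * y ^ m := by rw [hyn n b' hb'.1]
      _ = (a' * b') * (y ^ n * y ^ m) := by group
      _ = (b' * a') * (y ^ m * y ^ n) := by
          rw [c.H.hab a' ha'.2 b' hb'.2, ← pow_add, ← pow_add, add_comm]
      _ = b' * (a' * y ^ m) * y ^ n := by group
      _ = b' * (y ^ m * a') * y ^ n := by rw [hyn m a' ha'.1]
      _ = b' * y ^ m * (a' * y ^ n) := by group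

/-- (n2) some automorphism in `Aut_F(P)` moves `P ⊓ A` -/
theorem Ctx.exists_moving (c : Ctx p S A F P x) :
    ∃ α ∈ F.autGroup P, ∃ a : P, (a : Ω) ∈ A ∧ ((α a : P) : Ω) ∉ A := by
  by_contra hcon
  push Not at hcon
  have hY : ∀ φ ∈ F.autGroup P, ∀ y ∈ A.subgroupOf P, φ y ∈ A.subgroupOf P := by
    intro φ hφ y hy
    exact Subgroup.mem_subgroupOf.mpr (hcon φ hφ y (Subgroup.mem_subgroupOf.mp hy))
  have hle : normalizerIn S P ⊓ A ≤ P := by
    rintro g ⟨hgN, hgA⟩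
    refine mem_of_conjAut_mem_stabN c.hS c.hP (A.subgroupOf P) hY hgN.1 hgN.2 ⟨?_, ?_⟩
    · intro y hy
      apply Subtype.ext
      rw [conjAut_apply, c.H.hab g hgA _ (Subgroup.mem_subgroupOf.mp hy), mul_inv_cancel_right]
    · intro r
      rw [Subgroup.mem_subgroupOf, Subgroup.coe_mul, conjAut_apply, Subgroup.coe_inv]
      exact (c.comm_mem hgN hgA r.2).2
  obtain ⟨g, hgN, hgP⟩ := c.exists_normalizing
  apply hgP
  obtain ⟨a, ha, n, rfl⟩ := c.normalizer_decomp g hgN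
  exact P.mul_mem (hle ha) (P.pow_mem c.hxP n)

theorem eq_prime_of_dvd_pow {r k : ℕ} (hd : r ∣ p ^ k) (h1 : r ≠ 1) (hle : r ≤ p) : r = p := by
  obtain ⟨j, -, hj⟩ := (Nat.dvd_prime_pow hp.out).mp hd
  have hj0 : j ≠ 0 := by
    rintro rfl
    rw [pow_zero] at hj
    exact h1 hj
  rw [hj] at hle ⊢
  have hj1 : j ≤ 1 := by
    by_contra hcon
    push Not at hcon
    have : p ^ 2 ≤ p ^ j := Nat.pow_le_pow_right hp.out.pos hcon
    have h2 : p * p ≤ p * 1 := by rw [mul_one, ← pow_two]; exact this.trans hle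
    have := Nat.le_of_mul_le_mul_left h2 hp.out.pos
    exact absurd this (not_le.mpr hp.out.one_lt)
  have : j = 1 := by omega
  rw [this, pow_one]

/-- if `P ⊓ A` is central in `P` then `P` is abelian -/
theorem Ctx.abelian_of_central (c : Ctx p S A F P x)
    (hc : ∀ a ∈ P ⊓ A, ∀ q ∈ P, q * a = a * q) : ∀ a ∈ P, ∀ b ∈ P, a * b = b * a := by
  intro a ha b hb
  obtain ⟨a', ha', n, rfl⟩ := c.decomp a ha
  obtain ⟨b', hb', m, rfl⟩ := c.decomp b hb
  have hxn : ∀ k : ℕ, x ^ k ∈ P := fun k => P.pow_mem c.hxP k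
  calc a' * x ^ n * (b' * x ^ m) = a' * (x ^ n * b') * x ^ m := by group
    _ = a' * (b' * x ^ n) * x ^ m := by rw [hc b' hb' _ (hxn n)]
    _ = (a' * b') * (x ^ n * x ^ m) := by group
    _ = (b' * a') * (x ^ m * x ^ n) := by
        rw [c.H.hab a' ha'.2 b' hb'.2, ← pow_add, ← pow_add, add_comm]
    _ = b' * (a' * x ^ m) * x ^ n := by group
    _ = b' * (x ^ m * a') * x ^ n := by rw [hc a' ha' _ (hxn m)]
    _ = b' * x ^ m * (a' * x ^ n) := by group

/-- (n3) `|P ⊓ A : Z(S)| = p` for nonabelian `P` -/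
theorem Ctx.relIndex_ZS_inf (c : Ctx p S A F P x)
    (hna : ¬ ∀ a ∈ P, ∀ b ∈ P, a * b = b * a) : (ZS S).relIndex (P ⊓ A) = p := by
  haveI : Finite P := finite_of_le c.hPS
  haveI : Finite (P ⊓ A : Subgroup Ω) := finite_of_le (inf_le_left.trans c.hPS)
  obtain ⟨α, hα, a0, ha0A, hαa0⟩ := c.exists_moving
  have c' : Ctx p S A F P ((α a0 : P) : Ω) := ⟨c.H, c.hS, c.hF, c.hP, (α a0).2, hαa0⟩
  obtain ⟨U, hU⟩ : ∃ U : Subgroup P, U = (P ⊓ A).subgroupOf P := ⟨_, rfl⟩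
  have hmemU : ∀ b : P, b ∈ U ↔ (b : Ω) ∈ A := by
    intro b
    rw [hU, Subgroup.mem_subgroupOf]
    exact ⟨fun h => h.2, fun h => ⟨b.2, h⟩⟩
  have hUidx : U.index = p := by
    rw [hU]
    show (P ⊓ A).relIndex P = p
    rw [Subgroup.inf_relIndex_left]
    exact c.H.relIndex_of_not_le c.hS c.hPS c.not_le
  have hU'idx : (U.map (α : P ≃* P).toMonoidHom).index = p := by
    rw [← hUidx]
    exact Subgroup.index_map_equiv U α
  have hle1 : U ⊓ U.map (α : P ≃* P).toMonoidHom ≤ (ZS S).subgroupOf P := by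
    rintro b ⟨hb1, b0, hb0, rfl⟩
    rw [Subgroup.mem_subgroupOf]
    have hbA : ((α b0 : P) : Ω) ∈ A := (hmemU _).mp hb1
    refine (c'.H.facts c'.hS c'.hxS c'.hxA).2.2 _ hbA ?_
    have h1 : a0 * b0 = b0 * a0 := Subtype.ext (c.H.hab _ ha0A _ ((hmemU b0).mp hb0))
    have h2 : α a0 * α b0 = α b0 * α a0 := by rw [← map_mul, ← map_mul, h1]
    exact congrArg Subtype.val h2
  have hle2 : (ZS S).subgroupOf P ≤ U := by
    intro z hz
    rw [hmemU]
    exact c.H.ZS_le c.hS (Subgroup.mem_subgroupOf.mp hz)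
  have h3 : (U ⊓ U.map (α : P ≃* P).toMonoidHom).relIndex U ≤ p := by
    rw [Subgroup.inf_relIndex_left, ← hU'idx, ← Subgroup.relIndex_top_right]
    refine Subgroup.relIndex_le_of_le_right le_top ?_
    rw [Subgroup.relIndex_top_right, hU'idx]
    exact hp.out.ne_zero
  have h4 : ((ZS S).subgroupOf P).relIndex U ≤ p := by
    refine (Nat.le_of_dvd ?_ (Subgroup.relIndex_dvd_of_le_left U hle1)).trans h3
    haveI : (U ⊓ U.map (α : P ≃* P).toMonoidHom).FiniteIndex := Subgroup.finiteIndex_of_finite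
    haveI : (U ⊓ U.map (α : P ≃* P).toMonoidHom).IsFiniteRelIndex U :=
      Subgroup.isFiniteRelIndex_of_finiteIndex
    exact Nat.pos_of_ne_zero Subgroup.relIndex_ne_zero
  have h5 : ((ZS S).subgroupOf P).relIndex U = (ZS S).relIndex (P ⊓ A) := by
    rw [hU]
    exact Subgroup.relIndex_subgroupOf inf_le_left
  rw [h5] at h4
  obtain ⟨k, hk⟩ := (c.hS.to_le (inf_le_left.trans c.hPS : P ⊓ A ≤ S)).exists_card_eq
  refine eq_prime_of_dvd_pow (k := k) (hk ▸ Subgroup.relIndex_dvd_card _ _) ?_ h4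
  intro h1
  apply hna
  apply c.abelian_of_central
  intro a ha q hq
  have haZ : a ∈ ZS S := Subgroup.relIndex_eq_one.mp h1 ha
  exact (mem_ZS.mp haZ).2 q (c.hPS hq)

theorem Ctx.center_eq (c : Ctx p S A F P x) (hna : ¬ ∀ a ∈ P, ∀ b ∈ P, a * b = b * a) :
    Subgroup.center ↥P = (ZS S).subgroupOf P := by
  ext y
  rw [Subgroup.mem_center_iff, Subgroup.mem_subgroupOf]
  constructor
  · intro h
    refine c.center_P hna y y.2 (fun q hq => ?_)
    exact congrArg Subtype.val (h ⟨q, hq⟩)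
  · intro h q
    exact Subtype.ext ((mem_ZS.mp h).2 q (c.hPS q.2))

/-- (n3') `P ⊓ A ≤ Z₂(S)` -/
theorem Ctx.inf_le_Z2S (c : Ctx p S A F P x) (hna : ¬ ∀ a ∈ P, ∀ b ∈ P, a * b = b * a) :
    P ⊓ A ≤ Z2S S := by
  haveI : Finite P := finite_of_le c.hPS
  have hidx : (Subgroup.center ↥P).index ≤ p ^ 2 := by
    rw [c.center_eq hna]
    show (ZS S).relIndex P ≤ p ^ 2
    have h1 := Subgroup.relIndex_mul_relIndex (ZS S) (P ⊓ A) P
      (le_inf c.ZS_le_P (c.H.ZS_le c.hS)) inf_le_left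
    rw [c.relIndex_ZS_inf hna, Subgroup.inf_relIndex_left,
      c.H.relIndex_of_not_le c.hS c.hPS c.not_le] at h1
    rw [← h1, pow_two]
  intro a ha
  have h1 := XsGroup.comm_mem_center (c.hS.to_le c.hPS) hidx ⟨a, ha.1⟩ ⟨x, c.hxP⟩
  rw [c.center_eq hna, Subgroup.mem_subgroupOf] at h1
  apply (mem_Z2S_iff_psi c.H c.hS c.hxS c.hxA ⟨a, ha.2⟩).mpr
  rw [psi_apply]
  exact h1

/-- (n4) `Z₂(S) ⊓ A ≤ P` -/
theorem Ctx.Z2S_inf_le (c : Ctx p S A F P x) (hna : ¬ ∀ a ∈ P, ∀ b ∈ P, a * b = b * a) :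
    Z2S S ⊓ A ≤ P := by
  rintro b ⟨hb2, hbA⟩
  obtain ⟨hbS, hbc⟩ := mem_Z2S.mp hb2
  have hbN : b ∈ normalizerIn S P :=
    (c.mem_normalizerIn_iff hbA).mpr (c.ZS_le_P (hbc x c.hxS))
  have hY : ∀ φ ∈ F.autGroup P, ∀ y ∈ (ZS S).subgroupOf P, φ y ∈ (ZS S).subgroupOf P := by
    intro φ _ y hy
    rw [← c.center_eq hna] at hy ⊢
    rw [Subgroup.mem_center_iff] at hy ⊢
    intro q
    have := hy (φ⁻¹ q)
    have h2 := congrArg φ this
    rw [map_mul, map_mul, MulAut.apply_inv_self] at h2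
    exact h2
  refine mem_of_conjAut_mem_stabN c.hS c.hP ((ZS S).subgroupOf P) hY hbN.1 hbN.2 ⟨?_, ?_⟩
  · intro y hy
    apply Subtype.ext
    rw [conjAut_apply]
    have := (mem_ZS.mp (Subgroup.mem_subgroupOf.mp hy)).2 b hbS
    rw [this, mul_inv_cancel_right]
  · intro r
    rw [Subgroup.mem_subgroupOf, Subgroup.coe_mul, conjAut_apply, Subgroup.coe_inv]
    exact hbc r (c.hPS r.2)

/-- (n5) `Z₂(S) ≤ A` -/
theorem Ctx.Z2S_le_A (c : Ctx p S A F P x) (hna : ¬ ∀ a ∈ P, ∀ b ∈ P, a * b = b * a) :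
    Z2S S ≤ A := by
  intro y hy
  by_contra hyA
  obtain ⟨hyS, hyc⟩ := mem_Z2S.mp hy
  have hAle : A ≤ P := by
    intro b hb
    apply c.Z2S_inf_le hna
    refine ⟨?_, hb⟩
    apply (mem_Z2S_iff_psi c.H c.hS hyS hyA ⟨b, hb⟩).mpr
    rw [psi_apply]
    have h1 := hyc b (c.H.hAS hb)
    have e : b * y * b⁻¹ * y⁻¹ = (y * b * y⁻¹ * b⁻¹)⁻¹ := by group
    rw [e]
    exact Subgroup.inv_mem _ h1
  apply c.ne_top
  apply le_antisymm c.hPS
  intro s hs
  obtain ⟨a, ha, n, rfl⟩ := (c.H.facts c.hS c.hxS c.hxA).1 s hs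
  exact P.mul_mem (hAle ha) (P.pow_mem c.hxP n)

theorem Ctx.inf_eq_Z2S (c : Ctx p S A F P x) (hna : ¬ ∀ a ∈ P, ∀ b ∈ P, a * b = b * a) :
    P ⊓ A = Z2S S :=
  le_antisymm (c.inf_le_Z2S hna)
    (le_inf ((le_inf le_rfl (c.Z2S_le_A hna)).trans (c.Z2S_inf_le hna)) (c.Z2S_le_A hna))

theorem Ctx.eq_sup_of_nonabelian (c : Ctx p S A F P x)
    (hna : ¬ ∀ a ∈ P, ∀ b ∈ P, a * b = b * a) : P = Z2S S ⊔ Subgroup.zpowers x := by
  apply le_antisymm
  · intro y hy
    obtain ⟨a, ha, n, rfl⟩ := c.decomp y hy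
    rw [c.inf_eq_Z2S hna] at ha
    exact Subgroup.mul_mem _ (Subgroup.mem_sup_left ha)
      (Subgroup.mem_sup_right (Subgroup.pow_mem _ (Subgroup.mem_zpowers x) n))
  · refine sup_le ?_ (Subgroup.zpowers_le.mpr c.hxP)
    rw [← c.inf_eq_Z2S hna]
    exact inf_le_left

theorem Ctx.relIndex_Z2S (c : Ctx p S A F P x) (hna : ¬ ∀ a ∈ P, ∀ b ∈ P, a * b = b * a) :
    (ZS S).relIndex (Z2S S) = p := by
  rw [← c.inf_eq_Z2S hna]
  exact c.relIndex_ZS_inf hna

/-- (n6) `|N_S(P) : P| = p` for nonabelian `P` -/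
theorem Ctx.index_of_nonabelian (c : Ctx p S A F P x)
    (hna : ¬ ∀ a ∈ P, ∀ b ∈ P, a * b = b * a) :
    (P.subgroupOf (normalizerIn S P)).index = p := by
  have hNS : normalizerIn S P ≤ S := inf_le_left
  haveI : Finite P := finite_of_le c.hPS
  haveI : Finite (normalizerIn S P) := finite_of_le hNS
  haveI : Finite A := finite_of_le c.H.hAS
  haveI : Finite (ZS S) := finite_of_le ZS_le
  haveI : Finite (Z2S S) := finite_of_le Z2S_le
  have hZ2A := c.Z2S_le_A hna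
  apply index_eq_prime_of_le (G := ↥(normalizerIn S P)) (c.hS.to_le hNS)
  swap
  · intro htop
    obtain ⟨g, hgN, hgP⟩ := c.exists_normalizing
    have : (⟨g, hgN⟩ : normalizerIn S P) ∈ P.subgroupOf (normalizerIn S P) := by
      rw [htop]; exact Subgroup.mem_top _
    exact hgP (Subgroup.mem_subgroupOf.mp this)
  -- cardinalities
  have hNA : ¬ normalizerIn S P ≤ A := fun h => c.hxA (h c.x_mem_normalizerIn)
  have h1 := c.H.card_inf_mul c.hS hNS hNA
  have h2 := Subgroup.card_mul_index (P.subgroupOf (normalizerIn S P))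
  rw [Nat.card_congr (Subgroup.subgroupOfEquivOfLe c.le_normalizerIn).toEquiv] at h2
  have h3 := c.H.card_inf_mul c.hS c.hPS c.not_le
  rw [c.inf_eq_Z2S hna] at h3
  -- the bound in `A`
  obtain ⟨ψ, hψ⟩ : ∃ ψ, ψ = psi (c.H.normal c.hS) c.H.hab x c.hxS := ⟨_, rfl⟩
  have hker : ψ.ker = (ZS S).subgroupOf A := by
    ext b
    rw [MonoidHom.mem_ker, hψ, psi_eq_one_iff_mem_ZS c.H c.hS c.hxS c.hxA, Subgroup.mem_subgroupOf]
  have hV : (Z2S S).subgroupOf A = ψ.ker.comap ψ := by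
    ext b
    rw [Subgroup.mem_subgroupOf, Subgroup.mem_comap, hker, Subgroup.mem_subgroupOf, hψ,
      mem_Z2S_iff_psi c.H c.hS c.hxS c.hxA]
  have hrel : ψ.ker.relIndex ((Z2S S).subgroupOf A) = p := by
    rw [hker, Subgroup.relIndex_subgroupOf hZ2A, c.relIndex_Z2S hna]
  have hUV : ψ.ker ≤ (Z2S S).subgroupOf A := by
    rw [hV]
    intro b hb
    rw [Subgroup.mem_comap, MonoidHom.mem_ker.mp hb]
    exact Subgroup.one_mem _
  have hcard := card_comap_iter_le ψ ψ.ker ((Z2S S).subgroupOf A) hV hUV 2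
  rw [hrel, hker, Nat.card_congr (Subgroup.subgroupOfEquivOfLe (c.H.ZS_le c.hS)).toEquiv] at hcard
  have hle : (normalizerIn S P ⊓ A).subgroupOf A ≤
      ((ZS S).subgroupOf A).comap (iter ψ 2) := by
    intro a ha
    rw [Subgroup.mem_subgroupOf] at ha
    rw [Subgroup.mem_comap, iter_succ, iter_succ, iter_zero, ← hker, ← Subgroup.mem_comap, ← hV,
      Subgroup.mem_subgroupOf, ← c.inf_eq_Z2S hna, hψ, psi_apply]
    exact c.comm_mem ha.1 ha.2 c.hxP
  have hcard2 : Nat.card (normalizerIn S P ⊓ A : Subgroup Ω) ≤ p ^ 2 * Nat.card (ZS S) := by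
    rw [← Nat.card_congr (Subgroup.subgroupOfEquivOfLe
      (inf_le_right : normalizerIn S P ⊓ A ≤ A)).toEquiv]
    exact (Subgroup.card_le_of_le hle).trans hcard
  -- |Z2S| = |ZS| * p
  have h4 := Subgroup.relIndex_mul_relIndex ⊥ (ZS S) (Z2S S) bot_le ZS_le_Z2S
  rw [Subgroup.relIndex_bot_left, Subgroup.relIndex_bot_left, c.relIndex_Z2S hna] at h4
  -- combine
  obtain ⟨i, hi⟩ : ∃ i, i = (P.subgroupOf (normalizerIn S P)).index := ⟨_, rfl⟩
  rw [← hi] at h2 ⊢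
  have hpp := hp.out.pos
  have h5 : Nat.card (normalizerIn S P ⊓ A : Subgroup Ω) * p = Nat.card (Z2S S) * i * p := by
    rw [h1, ← h2, ← h3]; ring
  have h6 : Nat.card (normalizerIn S P ⊓ A : Subgroup Ω) = Nat.card (Z2S S) * i :=
    Nat.eq_of_mul_eq_mul_right hpp h5
  rw [h6, ← h4] at hcard2
  have h7 : Nat.card (ZS S) * p * i ≤ Nat.card (ZS S) * p * p := by
    calc Nat.card (ZS S) * p * i ≤ p ^ 2 * Nat.card (ZS S) := hcard2
      _ = Nat.card (ZS S) * p * p := by ring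
  exact Nat.le_of_mul_le_mul_left h7 (Nat.mul_pos Nat.card_pos hpp)

end ctx

end Cfsg.Agent.Lib.Helper27.AiFus
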