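import Mathlib
import Cfsg.Agent.Lib.Helper27.AiFus
import Cfsg.Agent.Lib.helper17.SPE2

set_option autoImplicit false

/-!
A `p`-subgroup `A` of a group `X` of automorphisms of a finite `p`-group `R`, all of whose members
centralize a subgroup `W` of order `p` and act trivially modulo `W`, has order at most `p` when `X`
has a strongly `p`-embedded subgroup (helper27).
-/

namespace Cfsg.Agent.Lib.Helper27.TvDual

open Cfsg Cfsg.Agent.Lib.Helper27.AiFus Cfsg.Agent.Lib.helper17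

section spe

variable {G : Type*} [Group G] [Finite G] {p : ℕ} [hp : Fact p.Prime]

/-- a strongly `p`-embedded subgroup contains a Sylow `p`-subgroup -/
theorem sylow_le_of_spe {Y : Subgroup G} (hY : IsStronglyPEmbedded p Y) :
    ∃ P : Sylow p G, (P : Subgroup G) ≤ Y := by
  obtain ⟨hdiv, _, P, hP⟩ := hY
  rw [kGeneratedCore_one_le_iff P.isPGroup'] at hP
  have hPne : (P : Subgroup G) ≠ ⊥ := P.ne_bot_of_dvd_card hdiv
  exact ⟨P, Subgroup.le_normalizer.trans (hP P le_rfl hPne)⟩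

/-- conjugates of strongly `p`-embedded subgroups are strongly `p`-embedded -/
theorem spe_cj {Y : Subgroup G} (hY : IsStronglyPEmbedded p Y) (x : G) :
    IsStronglyPEmbedded p (cj x Y) := by
  obtain ⟨hdiv, hYtop, hF⟩ := spe_iff_fusion.mp hY
  rw [spe_iff_fusion]
  refine ⟨?_, ?_, ?_⟩
  · rw [Subgroup.card_map_of_injective (MulAut.conj x).injective]
    exact hdiv
  · intro htop
    apply hYtop
    rw [eq_top_iff]
    intro y _
    have h1 : x * y * x⁻¹ ∈ cj x Y := by rw [htop]; exact Subgroup.mem_top _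
    exact conj_mem_cj_iff.mp h1
  · intro a ha hap g hg
    rw [mem_cj] at ha hg ⊢
    have hord : orderOf (x⁻¹ * a * x) = p := by
      have := (MulAut.conj x⁻¹).orderOf_eq a
      rw [MulAut.conj_apply, inv_inv] at this
      rw [this, hap]
    have h2 : (x⁻¹ * g * x) * (x⁻¹ * a * x) * (x⁻¹ * g * x)⁻¹ ∈ Y := by
      have e : (x⁻¹ * g * x) * (x⁻¹ * a * x) * (x⁻¹ * g * x)⁻¹ = x⁻¹ * (g * a * g⁻¹) * x := by
        group
      rw [e]
      exact hg
    exact hF _ ha hord _ h2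

/-- every `p`-subgroup lies in some strongly `p`-embedded subgroup, if there is one -/
theorem exists_spe_ge {Y : Subgroup G} (hY : IsStronglyPEmbedded p Y) (A : Subgroup G)
    (hA : IsPGroup p A) : ∃ Y' : Subgroup G, IsStronglyPEmbedded p Y' ∧ A ≤ Y' := by
  obtain ⟨P, hPY⟩ := sylow_le_of_spe hY
  obtain ⟨P', hAP'⟩ := hA.exists_le_sylow
  obtain ⟨x, hx⟩ := MulAction.exists_smul_eq G P P'
  refine ⟨cj x Y, spe_cj hY x, ?_⟩
  intro a ha
  have h1 : a ∈ ((x • P : Sylow p G) : Subgroup G) := by rw [hx]; exact hAP' ha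
  rw [mem_sylow_smul] at h1
  rw [mem_cj]
  exact hPY h1

end spe

section main

variable {R : Type*} [Group R] [Finite R] {p : ℕ} [hp : Fact p.Prime]

omit [Finite R] in
/-- automorphisms with all commutators in `V` preserve `V` -/
theorem apply_mem_of_comm {V : Subgroup R} {φ : MulAut R} (h : ∀ r, φ r * r⁻¹ ∈ V) {v : R}
    (hv : v ∈ V) : φ v ∈ V := by
  have := V.mul_mem (h v) hv
  rwa [inv_mul_cancel_right] at this

omit [Finite R] in
theorem inv_comm_mem {V : Subgroup R} {φ : MulAut R} (h : ∀ r, φ r * r⁻¹ ∈ V) (r : R) :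
    φ⁻¹ r * r⁻¹ ∈ V := by
  have h1 := h (φ⁻¹ r)
  rw [MulAut.apply_inv_self] at h1
  have h3 : φ⁻¹ r * r⁻¹ = (r * (φ⁻¹ r)⁻¹)⁻¹ := by rw [mul_inv_rev, inv_inv]
  rw [h3]
  exact V.inv_mem h1

omit [Finite R] in
/-- conjugation by an automorphism preserving `V` preserves `stabN V` -/
theorem conj_mem_stabN {V : Subgroup R} {φ ψ : MulAut R} (hφ : φ ∈ stabN V)
    (h1 : ∀ v ∈ V, ψ v ∈ V) (h2 : ∀ v ∈ V, ψ⁻¹ v ∈ V) : ψ * φ * ψ⁻¹ ∈ stabN V := by
  obtain ⟨a1, a2⟩ := hφ
  refine ⟨fun y hy => ?_, fun r => ?_⟩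
  · rw [MulAut.mul_apply, MulAut.mul_apply, a1 _ (h2 y hy), MulAut.apply_inv_self]
  · have e : (ψ * φ * ψ⁻¹) r * r⁻¹ = ψ (φ (ψ⁻¹ r) * (ψ⁻¹ r)⁻¹) := by
      rw [MulAut.mul_apply, MulAut.mul_apply, map_mul, map_inv, MulAut.apply_inv_self]
    rw [e]
    exact h1 _ (a2 _)

omit [Finite R] in
/-- an automorphism with all commutators in `V` normalizes `stabN V` -/
theorem mem_normalizer_stabN (X : Subgroup (MulAut R)) {V : Subgroup R} (t : X)
    (h : ∀ r, (t : MulAut R) r * r⁻¹ ∈ V) :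
    t ∈ Subgroup.normalizer (((stabN V).subgroupOf X : Subgroup X) : Set X) := by
  have hinv : ∀ r, (t : MulAut R)⁻¹ r * r⁻¹ ∈ V := inv_comm_mem h
  apply Cfsg.Agent.Lib.Helper26.mem_normalizer_of_forall
  · intro σ hσ
    rw [Subgroup.mem_subgroupOf] at hσ ⊢
    rw [Subgroup.coe_mul, Subgroup.coe_mul, Subgroup.coe_inv]
    exact conj_mem_stabN hσ (fun v hv => apply_mem_of_comm h hv)
      (fun v hv => apply_mem_of_comm hinv hv)
  · intro σ hσ
    rw [Subgroup.mem_subgroupOf] at hσ ⊢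
    rw [Subgroup.coe_mul, Subgroup.coe_mul, Subgroup.coe_inv]
    have := conj_mem_stabN (ψ := (t : MulAut R)⁻¹) hσ (fun v hv => apply_mem_of_comm hinv hv)
      (fun v hv => by rw [inv_inv]; exact apply_mem_of_comm h hv)
    rwa [inv_inv] at this

/-- **Common centre.**  A `p`-subgroup all of whose members fix `W` (of order `p`) pointwise and act
trivially modulo `W` has order at most `p`, in a group with a strongly `p`-embedded subgroup. -/
theorem common_center_card_le (hR : IsPGroup p R) (X : Subgroup (MulAut R)) {Y₀ : Subgroup X}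
    (hY₀ : IsStronglyPEmbedded p Y₀) (A : Subgroup X) (hA : IsPGroup p A) (W : Subgroup R)
    (hW : Nat.card W = p) (hAW : ∀ t ∈ A, (t : MulAut R) ∈ stabN W) : Nat.card A ≤ p := by
  haveI : Finite X := Finite.of_injective _ Subtype.val_injective
  by_cases hAbot : A = ⊥
  · rw [hAbot, Subgroup.card_bot]
    exact hp.out.one_lt.le
  obtain ⟨Y, hY, hAY⟩ := exists_spe_ge hY₀ A hA
  obtain ⟨hdiv, hYtop, hfus⟩ := spe_iff_fusion.mp hY
  have hcen : SPECentralizers p Y := hfus.normalizers.centralizers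
  by_cases hinv : ∀ φ ∈ X, ∀ w ∈ W, φ w ∈ W
  · exfalso
    have hn : ((stabN W).subgroupOf X).Normal := stabN_normal X W hinv
    have hpg : IsPGroup p ((stabN W).subgroupOf X) := (stabN_isPGroup hR W).comap_subtype
    have hbot := Cfsg.Agent.Lib.Helper26.eq_bot_of_normal_of_stronglyPEmbedded hY hn hpg
    apply hAbot
    rw [eq_bot_iff]
    intro t ht
    rw [← hbot, Subgroup.mem_subgroupOf]
    exact hAW t ht
  push Not at hinv
  obtain ⟨φ₀, hφ₀X, w₀, hw₀, hφ₀w₀⟩ := hinv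
  -- an element outside `Y` moving `W`
  obtain ⟨g, hgY, w₂, hw₂, hgw₂⟩ : ∃ g : X, g ∉ Y ∧ ∃ w ∈ W, (g : MulAut R) w ∉ W := by
    obtain ⟨y₀, -, hy₀⟩ := SetLike.exists_of_lt (lt_top_iff_ne_top.mpr hYtop)
    by_cases h1 : (⟨φ₀, hφ₀X⟩ : X) ∈ Y
    swap
    · exact ⟨⟨φ₀, hφ₀X⟩, h1, w₀, hw₀, hφ₀w₀⟩
    by_cases h2 : ∃ w ∈ W, (y₀ : MulAut R) w ∉ W
    · obtain ⟨w, hw, hyw⟩ := h2
      exact ⟨y₀, hy₀, w, hw, hyw⟩
    push Not at h2
    refine ⟨y₀ * ⟨φ₀, hφ₀X⟩, fun h => hy₀ ?_, w₀, hw₀, fun h => hφ₀w₀ ?_⟩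
    · have := Y.mul_mem h (Y.inv_mem h1)
      rwa [mul_inv_cancel_right] at this
    · have h3 := Cfsg.Agent.Lib.Helper27.XsFus.pres_inv W (y₀ : MulAut R) h2 _ h
      rw [Subgroup.coe_mul, MulAut.mul_apply, MulAut.inv_apply_self] at h3
      exact h3
  obtain ⟨W', hW'⟩ : ∃ W' : Subgroup R, W' = W.map ((g : MulAut R) : R ≃* R).toMonoidHom :=
    ⟨_, rfl⟩
  obtain ⟨V, hV⟩ : ∃ V : Subgroup R, V = W ⊔ W' := ⟨_, rfl⟩
  have hWV : W ≤ V := hV ▸ le_sup_left
  have hW'V : W' ≤ V := hV ▸ le_sup_right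
  obtain ⟨K, hK⟩ : ∃ K : Subgroup X, K = (stabN V).subgroupOf X := ⟨_, rfl⟩
  have hKp : IsPGroup p K := hK ▸ (stabN_isPGroup hR V).comap_subtype
  -- members of `A` and of its conjugate normalize `K`
  have hAN : A ≤ Subgroup.normalizer (K : Set X) := by
    intro t ht
    rw [hK]
    exact mem_normalizer_stabN X t (fun r => hWV ((hAW t ht).2 r))
  have hcomm' : ∀ t ∈ A, ∀ r, ((g * t * g⁻¹ : X) : MulAut R) r * r⁻¹ ∈ W' := by
    intro t ht r
    have e : ((g * t * g⁻¹ : X) : MulAut R) r * r⁻¹ =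
        (g : MulAut R) ((t : MulAut R) ((g : MulAut R)⁻¹ r) * ((g : MulAut R)⁻¹ r)⁻¹) := by
      rw [Subgroup.coe_mul, Subgroup.coe_mul, Subgroup.coe_inv, MulAut.mul_apply,
        MulAut.mul_apply, map_mul, map_inv, MulAut.apply_inv_self]
    rw [e, hW']
    exact ⟨_, (hAW t ht).2 _, rfl⟩
  have hAgN : cj g A ≤ Subgroup.normalizer (K : Set X) := by
    rintro _ ⟨t, ht, rfl⟩
    rw [hK]
    exact mem_normalizer_stabN X _ (fun r => hW'V (hcomm' t ht r))
  -- `K` is trivial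
  have hKbot : K = ⊥ := by
    by_contra hKne
    obtain ⟨x₀, hx₀A, hx₀⟩ := exists_orderOf_eq_prime_of_ne_bot hA hAbot
    obtain ⟨k₀, hk₀K, hk₀⟩ := exists_orderOf_eq_prime_of_ne_bot hKp hKne
    have hB₁ : IsPGroup p (A ⊔ K : Subgroup X) := IsPGroup.to_sup_of_normal_right' hA hKp hAN
    have hB₁Y := hcen.le_of_mem_pgroup _ hB₁ (Subgroup.mem_sup_left hx₀A) (hAY hx₀A) hx₀
    have hk₀Y : k₀ ∈ Y := hB₁Y (Subgroup.mem_sup_right hk₀K)
    have hAgp : IsPGroup p (cj g A) := hA.map _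
    have hB₂ : IsPGroup p (cj g A ⊔ K : Subgroup X) :=
      IsPGroup.to_sup_of_normal_right' hAgp hKp hAgN
    have hB₂Y := hcen.le_of_mem_pgroup _ hB₂ (Subgroup.mem_sup_right hk₀K) hk₀Y hk₀
    have h1 : g * x₀ * g⁻¹ ∈ Y := hB₂Y (Subgroup.mem_sup_left (conj_mem_cj hx₀A))
    exact hgY (hfus x₀ (hAY hx₀A) hx₀ g h1)
  -- a generator of `W`
  haveI : Fact (Nat.card W).Prime := ⟨hW ▸ hp.out⟩
  obtain ⟨w₁, hw₁⟩ : ∃ w₁ : W, w₁ ≠ 1 := by
    have h1 : 1 < Nat.card W := hW ▸ hp.out.one_lt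
    haveI : Nontrivial W := (Finite.one_lt_card_iff_nontrivial).mp h1
    exact exists_ne 1
  have hgen : ∀ w : W, w ∈ Subgroup.zpowers w₁ := by
    intro w
    rw [zpowers_eq_top_of_prime_card rfl hw₁]
    exact Subgroup.mem_top w
  -- the injection
  have hinj : Function.Injective (fun t : A =>
      (⟨((t : X) : MulAut R) ((g : MulAut R) (w₁ : R)) * ((g : MulAut R) (w₁ : R))⁻¹,
        (hAW t t.2).2 _⟩ : W)) := by
    intro t s hts
    have h1 : ((t : X) : MulAut R) ((g : MulAut R) (w₁ : R)) =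
        ((s : X) : MulAut R) ((g : MulAut R) (w₁ : R)) := by
      have := congrArg Subtype.val hts
      exact mul_right_cancel this
    obtain ⟨u, hu⟩ : ∃ u : X, u = (s : X)⁻¹ * (t : X) := ⟨_, rfl⟩
    have huA : u ∈ A := hu ▸ A.mul_mem (A.inv_mem s.2) t.2
    have hufix : (u : MulAut R) ((g : MulAut R) (w₁ : R)) = (g : MulAut R) (w₁ : R) := by
      rw [hu, Subgroup.coe_mul, Subgroup.coe_inv, MulAut.mul_apply, h1, MulAut.inv_apply_self]
    have huK : u ∈ K := by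
      rw [hK, Subgroup.mem_subgroupOf]
      refine ⟨?_, fun r => hWV ((hAW u huA).2 r)⟩
      have hle : V ≤ Cfsg.Agent.Lib.Helper27.XsFus.fixSub (u : MulAut R) := by
        rw [hV]
        refine sup_le (fun w hw => (hAW u huA).1 w hw) ?_
        rw [hW']
        rintro _ ⟨w, hw, rfl⟩
        obtain ⟨k, hk⟩ := Subgroup.mem_zpowers_iff.mp (hgen ⟨w, hw⟩)
        have hk' : (w₁ : R) ^ k = w := by
          have := congrArg Subtype.val hk
          simpa using this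
        show (u : MulAut R) ((g : MulAut R) w) = (g : MulAut R) w
        rw [← hk', map_zpow, map_zpow, hufix]
      intro v hv
      exact hle hv
    rw [hKbot, Subgroup.mem_bot] at huK
    rw [huK] at hu
    have : (t : X) = (s : X) := by
      have h2 : (s : X) * 1 = (s : X) * ((s : X)⁻¹ * (t : X)) := by rw [hu]
      rw [mul_one, mul_inv_cancel_left] at h2
      exact h2.symm
    exact Subtype.ext this
  have := Nat.card_le_card_of_injective _ hinj
  rwa [hW] at this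

end main

end Cfsg.Agent.Lib.Helper27.TvDual
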