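import Mathlib
import Cfsg.Agent.Lib.Helper27.TvDual

/-!
Automorphisms of a finite `p`-group preserving a chain of normal subgroups with cyclic steps
(helper27): modulo the stabilizer of the chain (a `p`-group) they commute and have exponent dividing
`(p - 1) * p ^ n`.
-/

set_option autoImplicit false

namespace Cfsg.Agent.Lib.Helper27.SsChain

section Step

variable {X : Type*} [Group X]

/-- an automorphism of a finite group mapping a subgroup into itself maps it onto itself -/
theorem mem_of_apply_mem [Finite X] (M : Subgroup X) (α : MulAut X) (hM : ∀ t ∈ M, α t ∈ M)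
    {t : X} (ht : α t ∈ M) : t ∈ M := by
  let f : ↥M → ↥M := fun s => ⟨α s, hM s s.2⟩
  have hinj : Function.Injective f := by
    intro a b hab
    have := congrArg Subtype.val hab
    exact Subtype.ext (α.injective this)
  have hsurj : Function.Surjective f := Finite.injective_iff_surjective.mp hinj
  obtain ⟨s, hs⟩ := hsurj ⟨α t, ht⟩
  have := congrArg Subtype.val hs
  have h2 : (s : X) = t := α.injective this
  rw [← h2]
  exact s.2

theorem inv_apply_mem [Finite X] (M : Subgroup X) (α : MulAut X) (hM : ∀ t ∈ M, α t ∈ M)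
    {t : X} (ht : t ∈ M) : α⁻¹ t ∈ M := by
  apply mem_of_apply_mem M α hM
  rw [MulAut.apply_inv_self]
  exact ht

variable (M : Subgroup X) [M.Normal] (L : Subgroup X)

/-- the endomorphism of the quotient by `M` induced by an automorphism preserving `M` -/
noncomputable def ind (α : MulAut X) (hM : ∀ t ∈ M, α t ∈ M) : X ⧸ M →* X ⧸ M :=
  QuotientGroup.map M M α.toMonoidHom (fun t ht => hM t ht)

theorem ind_mk (α : MulAut X) (hM : ∀ t ∈ M, α t ∈ M) (t : X) :
    ind M α hM (QuotientGroup.mk t) = QuotientGroup.mk (α t) := rfl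

theorem ind_injective [Finite X] (α : MulAut X) (hM : ∀ t ∈ M, α t ∈ M) :
    Function.Injective (ind M α hM) := by
  rw [injective_iff_map_eq_one]
  intro g hg
  induction g using QuotientGroup.induction_on with
  | H t =>
    rw [ind_mk, QuotientGroup.eq_one_iff] at hg
    rw [QuotientGroup.eq_one_iff]
    exact mem_of_apply_mem M α hM hg

/-- the endomorphism of the image of `L` in the quotient by `M` -/
noncomputable def sec (α : MulAut X) (hM : ∀ t ∈ M, α t ∈ M) (hL : ∀ t ∈ L, α t ∈ L) :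
    ↥(L.map (QuotientGroup.mk' M)) →* ↥(L.map (QuotientGroup.mk' M)) :=
  ((ind M α hM).comp (L.map (QuotientGroup.mk' M)).subtype).codRestrict
    (L.map (QuotientGroup.mk' M))
    (by
      rintro ⟨g, t, ht, rfl⟩
      exact ⟨α t, hL t ht, rfl⟩)

theorem sec_val (α : MulAut X) (hM : ∀ t ∈ M, α t ∈ M) (hL : ∀ t ∈ L, α t ∈ L)
    (g : ↥(L.map (QuotientGroup.mk' M))) :
    ((sec M L α hM hL g : ↥(L.map (QuotientGroup.mk' M))) : X ⧸ M) = ind M α hM g := rfl

theorem sec_injective [Finite X] (α : MulAut X) (hM : ∀ t ∈ M, α t ∈ M)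
    (hL : ∀ t ∈ L, α t ∈ L) : Function.Injective (sec M L α hM hL) := by
  intro a b hab
  have := congrArg Subtype.val hab
  rw [sec_val, sec_val] at this
  exact Subtype.ext (ind_injective M α hM this)

/-- two automorphisms preserving `M` and `L` commute modulo `M` on `L` when `L / M` is cyclic -/
theorem comm_mod (hC : IsCyclic ↥(L.map (QuotientGroup.mk' M))) (α β : MulAut X)
    (hαM : ∀ t ∈ M, α t ∈ M) (hαL : ∀ t ∈ L, α t ∈ L)
    (hβM : ∀ t ∈ M, β t ∈ M) (hβL : ∀ t ∈ L, β t ∈ L) {t : X} (ht : t ∈ L) :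
    (β (α t))⁻¹ * α (β t) ∈ M := by
  obtain ⟨a, ha⟩ := MonoidHom.map_cyclic (sec M L α hαM hαL)
  obtain ⟨b, hb⟩ := MonoidHom.map_cyclic (sec M L β hβM hβL)
  set g : ↥(L.map (QuotientGroup.mk' M)) := ⟨QuotientGroup.mk t, t, ht, rfl⟩ with hg
  have h1 : sec M L α hαM hαL (sec M L β hβM hβL g) = sec M L β hβM hβL (sec M L α hαM hαL g) := by
    rw [hb g, ha g, ha, hb, ← zpow_mul, ← zpow_mul, mul_comm]
  have h2 := congrArg Subtype.val h1
  rw [sec_val, sec_val, sec_val, sec_val] at h2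
  have h3 : (QuotientGroup.mk (α (β t)) : X ⧸ M) = QuotientGroup.mk (β (α t)) := h2
  rw [eq_comm, QuotientGroup.eq] at h3
  exact h3

/-- a suitable power of an automorphism preserving `M` and `L` is trivial modulo `M` on `L` when
`L / M` is cyclic -/
theorem pow_mod [Finite X] {p n : ℕ} [hp : Fact p.Prime] (hX : Nat.card X = p ^ n)
    (hC : IsCyclic ↥(L.map (QuotientGroup.mk' M))) (α : MulAut X)
    (hαM : ∀ t ∈ M, α t ∈ M) (hαL : ∀ t ∈ L, α t ∈ L) {t : X} (ht : t ∈ L) :
    t⁻¹ * (α ^ ((p - 1) * p ^ n)) t ∈ M := by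
  have hinj := sec_injective M L α hαM hαL
  set σ : MulAut ↥(L.map (QuotientGroup.mk' M)) :=
    MulEquiv.ofBijective (sec M L α hαM hαL) ⟨hinj, Finite.injective_iff_surjective.mp hinj⟩ with hσ
  have hσa : ∀ g, σ g = sec M L α hαM hαL g := fun g => rfl
  have key : ∀ k : ℕ, ∀ t (ht : t ∈ L),
      (((σ ^ k) ⟨QuotientGroup.mk t, t, ht, rfl⟩ : ↥(L.map (QuotientGroup.mk' M))) : X ⧸ M) =
        QuotientGroup.mk ((α ^ k) t) := by
    intro k
    induction k with
    | zero => intro t ht; rfl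
    | succ k ih =>
      intro t ht
      rw [pow_succ', MulAut.mul_apply, hσa, sec_val, ih t ht, ind_mk, pow_succ', MulAut.mul_apply]
  have hcardC : Nat.card ↥(L.map (QuotientGroup.mk' M)) ∣ p ^ n := by
    rw [← hX]
    exact (Subgroup.card_subgroup_dvd_card _).trans (Subgroup.card_quotient_dvd_card M)
  obtain ⟨e, he, hCe⟩ := (Nat.dvd_prime_pow hp.out).mp hcardC
  have hφ : Nat.card (MulAut ↥(L.map (QuotientGroup.mk' M))) ∣ (p - 1) * p ^ n := by
    rw [IsCyclic.card_mulAut, hCe]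
    rcases Nat.eq_zero_or_pos e with h0 | h0
    · rw [h0, pow_zero, Nat.totient_one]
      exact one_dvd _
    · rw [Nat.totient_prime_pow hp.out h0, mul_comm]
      exact Nat.mul_dvd_mul_left _ (pow_dvd_pow p (by omega))
  have hpow : σ ^ ((p - 1) * p ^ n) = 1 := by
    obtain ⟨q, hq⟩ := hφ
    rw [hq, pow_mul, pow_card_eq_one', one_pow]
  have h1 := key ((p - 1) * p ^ n) t ht
  rw [hpow, MulAut.one_apply] at h1
  have h2 : (QuotientGroup.mk t : X ⧸ M) = QuotientGroup.mk ((α ^ ((p - 1) * p ^ n)) t) := h1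
  rw [QuotientGroup.eq] at h2
  exact h2

end Step

section Chain

variable {X : Type*} [Group X] [Finite X] {m : ℕ} (c : Fin (m + 1) → Subgroup X)

/-- `γ` acts trivially on the factors of the chain -/
def IsStab (γ : MulAut X) : Prop := ∀ i : Fin m, ∀ t ∈ c i.succ, t⁻¹ * γ t ∈ c i.castSucc

/-- a chain of subgroups from the trivial subgroup to the whole group -/
structure IsChn : Prop where
  bot : c 0 = ⊥
  top : c (Fin.last m) = ⊤
  le : ∀ i : Fin m, c i.castSucc ≤ c i.succ

variable {c}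

theorem IsStab.pres (hc : IsChn c) {γ : MulAut X} (h : IsStab c γ) :
    ∀ i : Fin (m + 1), ∀ t ∈ c i, γ t ∈ c i := by
  intro i
  refine Fin.cases ?_ ?_ i
  · intro t ht
    rw [hc.bot, Subgroup.mem_bot] at ht
    rw [ht, map_one]
    exact Subgroup.one_mem _
  · intro j t ht
    have h1 := hc.le j (h j t ht)
    have h2 := (c j.succ).mul_mem ht h1
    rwa [mul_inv_cancel_left] at h2

variable (c) in
/-- the automorphisms acting trivially on the factors of the chain -/
def stabSub (hc : IsChn c) : Subgroup (MulAut X) where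
  carrier := {γ | IsStab c γ}
  one_mem' := by
    intro i t _
    rw [MulAut.one_apply, inv_mul_cancel]
    exact Subgroup.one_mem _
  mul_mem' := by
    intro γ δ hγ hδ i t ht
    have h1 := hδ i t ht
    have h2 := hγ.pres hc i.castSucc _ h1
    have h3 := hγ i t ht
    have e : t⁻¹ * (γ * δ) t = (t⁻¹ * γ t) * γ (t⁻¹ * δ t) := by
      rw [MulAut.mul_apply, map_mul, map_inv]
      group
    rw [e]
    exact Subgroup.mul_mem _ h3 h2
  inv_mem' := by
    intro γ hγ i t ht
    have hs : γ⁻¹ t ∈ c i.succ := inv_apply_mem (c i.succ) γ (hγ.pres hc i.succ) ht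
    have h1 := hγ i _ hs
    rw [MulAut.apply_inv_self] at h1
    have h2 := Subgroup.inv_mem _ h1
    rwa [mul_inv_rev, inv_inv] at h2

theorem mem_stabSub (hc : IsChn c) {γ : MulAut X} : γ ∈ stabSub c hc ↔ IsStab c γ := Iff.rfl

/-- elements of the stabilizer of the chain have `p`-power order -/
theorem stab_pow_eq_one {p n : ℕ} (hX : Nat.card X = p ^ n) (hc : IsChn c) {γ : MulAut X}
    (hγ : γ ∈ stabSub c hc) : ∃ k : ℕ, γ ^ (p ^ k) = 1 := by
  have main : ∀ i : Fin (m + 1), ∃ k : ℕ, ∀ t ∈ c i, (γ ^ (p ^ k)) t = t := by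
    intro i
    induction i using Fin.induction with
    | zero =>
      refine ⟨0, fun t ht => ?_⟩
      rw [hc.bot, Subgroup.mem_bot] at ht
      rw [ht, map_one]
    | succ j ih =>
      obtain ⟨k, hk⟩ := ih
      refine ⟨k + n, fun t ht => ?_⟩
      have hβ : γ ^ (p ^ k) ∈ stabSub c hc := Subgroup.pow_mem _ hγ _
      set β := γ ^ (p ^ k) with hβdef
      have hz : t⁻¹ * β t ∈ c j.castSucc := hβ j t ht
      have hβz : β (t⁻¹ * β t) = t⁻¹ * β t := hk _ hz
      have hpow : ∀ q : ℕ, (β ^ q) t = t * (t⁻¹ * β t) ^ q := by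
        intro q
        induction q with
        | zero => simp
        | succ q ihq =>
          rw [pow_succ', MulAut.mul_apply, ihq, map_mul, map_pow, hβz, pow_succ', ← mul_assoc,
            mul_inv_cancel_left]
      have h1 := hpow (p ^ n)
      have h2 : (t⁻¹ * β t) ^ (p ^ n) = 1 := by
        rw [← hX]; exact pow_card_eq_one'
      rw [h2, mul_one] at h1
      rw [pow_add, pow_mul]
      exact h1
  obtain ⟨k, hk⟩ := main (Fin.last m)
  refine ⟨k, ?_⟩
  ext t
  rw [MulAut.one_apply]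
  exact hk t (by rw [hc.top]; exact Subgroup.mem_top t)

theorem stabSub_isPGroup {p n : ℕ} (hX : Nat.card X = p ^ n) (hc : IsChn c) :
    IsPGroup p ↥(stabSub c hc) := by
  intro g
  obtain ⟨k, hk⟩ := stab_pow_eq_one hX hc g.2
  exact ⟨k, Subtype.ext hk⟩

variable [hn : ∀ i, (c i).Normal]

/-- commutators of automorphisms preserving a chain with cyclic steps stabilize the chain -/
theorem comm_mem_stabSub (hc : IsChn c)
    (hcyc : ∀ i : Fin m, IsCyclic ↥((c i.succ).map (QuotientGroup.mk' (c i.castSucc))))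
    {K : Subgroup (MulAut X)} (hK : ∀ α ∈ K, ∀ i, ∀ t ∈ c i, α t ∈ c i) {α β : MulAut X}
    (hα : α ∈ K) (hβ : β ∈ K) : α⁻¹ * β⁻¹ * α * β ∈ stabSub c hc := by
  intro i t ht
  have h1 := comm_mod (c i.castSucc) (c i.succ) (hcyc i) α β (hK α hα i.castSucc)
    (hK α hα i.succ) (hK β hβ i.castSucc) (hK β hβ i.succ) ht
  have h2 := hK β⁻¹ (K.inv_mem hβ) i.castSucc _ h1
  have h3 := hK α⁻¹ (K.inv_mem hα) i.castSucc _ h2
  have e : t⁻¹ * (α⁻¹ * β⁻¹ * α * β) t = α⁻¹ (β⁻¹ ((β (α t))⁻¹ * α (β t))) := by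
    simp only [MulAut.mul_apply, map_mul, map_inv, MulAut.inv_apply_self]
  rw [e]
  exact h3

/-- a suitable power of an automorphism preserving a chain with cyclic steps stabilizes it -/
theorem pow_mem_stabSub {p n : ℕ} [Fact p.Prime] (hX : Nat.card X = p ^ n) (hc : IsChn c)
    (hcyc : ∀ i : Fin m, IsCyclic ↥((c i.succ).map (QuotientGroup.mk' (c i.castSucc))))
    {K : Subgroup (MulAut X)} (hK : ∀ α ∈ K, ∀ i, ∀ t ∈ c i, α t ∈ c i) {α : MulAut X}
    (hα : α ∈ K) : α ^ ((p - 1) * p ^ n) ∈ stabSub c hc := by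
  intro i t ht
  exact pow_mod (c i.castSucc) (c i.succ) hX (hcyc i) α (hK α hα i.castSucc) (hK α hα i.succ) ht

omit hn in
theorem conj_mem_stabSub (hc : IsChn c) {K : Subgroup (MulAut X)}
    (hK : ∀ α ∈ K, ∀ i, ∀ t ∈ c i, α t ∈ c i) {α γ : MulAut X} (hα : α ∈ K)
    (hγ : γ ∈ stabSub c hc) : α * γ * α⁻¹ ∈ stabSub c hc := by
  intro i t ht
  have hs : α⁻¹ t ∈ c i.succ := hK α⁻¹ (K.inv_mem hα) i.succ t ht
  have h1 := hγ i _ hs
  have h2 := hK α hα i.castSucc _ h1
  have e : t⁻¹ * (α * γ * α⁻¹) t = α ((α⁻¹ t)⁻¹ * γ (α⁻¹ t)) := by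
    simp only [MulAut.mul_apply, map_mul, map_inv, MulAut.apply_inv_self]
  rw [e]
  exact h2

/-- a group of automorphisms of order prime to `p` preserving a chain with cyclic steps is abelian -/
theorem comm_of_coprime {p n : ℕ} [Fact p.Prime] (hX : Nat.card X = p ^ n) (hc : IsChn c)
    (hcyc : ∀ i : Fin m, IsCyclic ↥((c i.succ).map (QuotientGroup.mk' (c i.castSucc))))
    {K : Subgroup (MulAut X)} (hK : ∀ α ∈ K, ∀ i, ∀ t ∈ c i, α t ∈ c i)
    (hcop : (Nat.card K).Coprime p) {α β : MulAut X} (hα : α ∈ K) (hβ : β ∈ K) :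
    α * β = β * α := by
  have h1 := comm_mem_stabSub hc hcyc hK hα hβ
  obtain ⟨k, hk⟩ := stab_pow_eq_one hX hc h1
  have hmem : α⁻¹ * β⁻¹ * α * β ∈ K :=
    K.mul_mem (K.mul_mem (K.mul_mem (K.inv_mem hα) (K.inv_mem hβ)) hα) hβ
  have h2 : (α⁻¹ * β⁻¹ * α * β) ^ Nat.card K = 1 := by
    have : (⟨_, hmem⟩ : ↥K) ^ Nat.card K = 1 := pow_card_eq_one'
    exact congrArg Subtype.val this
  have h3 := pow_gcd_eq_one.mpr ⟨hk, h2⟩
  have h4 : Nat.gcd (p ^ k) (Nat.card K) = 1 :=
    Nat.Coprime.pow_left k hcop.symm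
  rw [h4, pow_one] at h3
  calc α * β = β * α * (α⁻¹ * β⁻¹ * α * β) := by group
    _ = β * α := by rw [h3, mul_one]

/-- a group of automorphisms of order prime to `p` preserving a chain with cyclic steps has exponent
dividing `p - 1` -/
theorem pow_of_coprime {p n : ℕ} [Fact p.Prime] (hX : Nat.card X = p ^ n) (hc : IsChn c)
    (hcyc : ∀ i : Fin m, IsCyclic ↥((c i.succ).map (QuotientGroup.mk' (c i.castSucc))))
    {K : Subgroup (MulAut X)} (hK : ∀ α ∈ K, ∀ i, ∀ t ∈ c i, α t ∈ c i)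
    (hcop : (Nat.card K).Coprime p) {α : MulAut X} (hα : α ∈ K) : α ^ (p - 1) = 1 := by
  have h1 := pow_mem_stabSub hX hc hcyc hK hα
  obtain ⟨k, hk⟩ := stab_pow_eq_one hX hc h1
  have hk' : (α ^ (p - 1)) ^ (p ^ (n + k)) = 1 := by
    rw [pow_add, pow_mul, ← pow_mul α]
    exact hk
  have hmem : α ^ (p - 1) ∈ K := K.pow_mem hα _
  have h2 : (α ^ (p - 1)) ^ Nat.card K = 1 := by
    have : (⟨_, hmem⟩ : ↥K) ^ Nat.card K = 1 := pow_card_eq_one'
    exact congrArg Subtype.val this
  have h3 := pow_gcd_eq_one.mpr ⟨hk', h2⟩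
  have h4 : Nat.gcd (p ^ (n + k)) (Nat.card K) = 1 :=
    Nat.Coprime.pow_left _ hcop.symm
  rw [h4, pow_one] at h3
  exact h3

end Chain

section Cyc

variable {X : Type*} [Group X]

/-- a step obtained by adjoining one element is cyclic -/
theorem cyc_of_sup (M L : Subgroup X) [M.Normal] (x : X) (h : L = M ⊔ Subgroup.zpowers x) :
    IsCyclic ↥(L.map (QuotientGroup.mk' M)) := by
  have e : L.map (QuotientGroup.mk' M) = Subgroup.zpowers (QuotientGroup.mk' M x) := by
    rw [h, Subgroup.map_sup, QuotientGroup.map_mk'_self, bot_sup_eq, MonoidHom.map_zpowers]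
  rw [e]
  infer_instance

/-- cyclic steps restrict to subgroups -/
theorem cyc_restrict (P M L : Subgroup X) [M.Normal]
    (h : IsCyclic ↥(L.map (QuotientGroup.mk' M))) :
    IsCyclic ↥((L.subgroupOf P).map (QuotientGroup.mk' (M.subgroupOf P))) := by
  set f : ↥P ⧸ M.subgroupOf P →* X ⧸ M :=
    QuotientGroup.map (M.subgroupOf P) M P.subtype (le_refl _) with hf
  have hinj : Function.Injective f := by
    rw [injective_iff_map_eq_one]
    intro g hg
    induction g using QuotientGroup.induction_on with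
    | H a =>
      have h1 : (QuotientGroup.mk (a : X) : X ⧸ M) = 1 := hg
      rw [QuotientGroup.eq_one_iff] at h1
      rw [QuotientGroup.eq_one_iff]
      exact Subgroup.mem_subgroupOf.mpr h1
  have hle : ((L.subgroupOf P).map (QuotientGroup.mk' (M.subgroupOf P))).map f ≤
      L.map (QuotientGroup.mk' M) := by
    rintro _ ⟨_, ⟨a, ha, rfl⟩, rfl⟩
    exact ⟨(a : X), Subgroup.mem_subgroupOf.mp ha, rfl⟩
  haveI := h
  have h2 : IsCyclic ↥(((L.subgroupOf P).map (QuotientGroup.mk' (M.subgroupOf P))).map f) :=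
    Subgroup.isCyclic_of_le hle
  exact (Subgroup.equivMapOfInjective _ f hinj).isCyclic.mpr h2

/-- cyclic steps pull back along homomorphisms -/
theorem cyc_comap {Y : Type*} [Group Y] (ι : Y →* X) (M L : Subgroup X) [M.Normal]
    (M' L' : Subgroup Y) [M'.Normal] (hM : M' = M.comap ι) (hL : L' ≤ L.comap ι)
    (h : IsCyclic ↥(L.map (QuotientGroup.mk' M))) :
    IsCyclic ↥(L'.map (QuotientGroup.mk' M')) := by
  set f : Y ⧸ M' →* X ⧸ M :=
    QuotientGroup.map M' M ι (by rw [hM]) with hf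
  have hinj : Function.Injective f := by
    rw [injective_iff_map_eq_one]
    intro g hg
    induction g using QuotientGroup.induction_on with
    | H a =>
      have h1 : (QuotientGroup.mk (ι a) : X ⧸ M) = 1 := hg
      rw [QuotientGroup.eq_one_iff] at h1
      rw [QuotientGroup.eq_one_iff, hM]
      exact Subgroup.mem_comap.mpr h1
  have hle : (L'.map (QuotientGroup.mk' M')).map f ≤ L.map (QuotientGroup.mk' M) := by
    rintro _ ⟨_, ⟨a, ha, rfl⟩, rfl⟩
    exact ⟨ι a, Subgroup.mem_comap.mp (hL ha), rfl⟩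
  haveI := h
  have h2 : IsCyclic ↥((L'.map (QuotientGroup.mk' M')).map f) :=
    Subgroup.isCyclic_of_le hle
  exact (Subgroup.equivMapOfInjective _ f hinj).isCyclic.mpr h2

end Cyc

section NoSpe

open Cfsg Cfsg.Agent.Lib.helper17

variable {K : Type*} [Group K] [Finite K] {p : ℕ} [Fact p.Prime]

/-- a group with a normal `p`-subgroup containing all commutators has no strongly `p`-embedded
subgroup in any quotient -/
theorem no_spe (I N : Subgroup K) [I.Normal] [N.Normal] (hN : IsPGroup p N)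
    (hcomm : ∀ a b : K, a * b * a⁻¹ * b⁻¹ ∈ N) (E : Subgroup (K ⧸ I)) :
    ¬ IsStronglyPEmbedded p E := by
  intro hE
  have hNb : IsPGroup p ↥(N.map (QuotientGroup.mk' I)) := hN.map _
  obtain ⟨Y, hY, hle⟩ := TvDual.exists_spe_ge hE (N.map (QuotientGroup.mk' I)) hNb
  obtain ⟨hdvd, htop, hfus⟩ := spe_iff_fusion.mp hY
  have hnorm : ∀ g y : K ⧸ I, y ∈ Y → g * y * g⁻¹ ∈ Y := by
    intro g y hy
    induction g using QuotientGroup.induction_on with
    | H a =>
      induction y using QuotientGroup.induction_on with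
      | H b =>
        have h1 : (QuotientGroup.mk (a * b * a⁻¹ * b⁻¹) : K ⧸ I) ∈ N.map (QuotientGroup.mk' I) :=
          ⟨_, hcomm a b, rfl⟩
        have h2 := Y.mul_mem (hle h1) hy
        have e : (QuotientGroup.mk (a * b * a⁻¹ * b⁻¹) : K ⧸ I) * QuotientGroup.mk b =
            QuotientGroup.mk a * QuotientGroup.mk b * (QuotientGroup.mk a)⁻¹ := by
          rw [← QuotientGroup.mk_mul, ← QuotientGroup.mk_inv, ← QuotientGroup.mk_mul,
            ← QuotientGroup.mk_mul, inv_mul_cancel_right]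
        rw [e] at h2
        exact h2
  obtain ⟨y, hy⟩ := exists_prime_orderOf_dvd_card' (G := ↥Y) p hdvd
  apply htop
  rw [eq_top_iff]
  intro g _
  refine hfus (y : K ⧸ I) y.2 ?_ g (hnorm g _ y.2)
  rw [Subgroup.orderOf_coe]
  exact hy

end NoSpe

end Cfsg.Agent.Lib.Helper27.SsChain
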