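import Mathlib
import Cfsg.Prelude.Def_Classical
import Cfsg.Agent.Lib.Helper21.S63.Act

set_option autoImplicit false

/-! Project S63 (helper21, S3664), pieces S63-LB and S63-LC: explicit elements of `L = Sz(8) : 3`. -/

namespace Cfsg.Agent.Lib.Helper27.S63

open Cfsg Matrix Cfsg.Agent.Lib.helper3 Cfsg.Agent.Lib.Helper21.S63

/-- the involution `gT 0 1` of `Sz(8)` -/
noncomputable def s2 : S8 := gT F8c.card_eq' (0 : F8c) 1

/-- the element `gT 0 1 * gJ` of order 5 of `Sz(8)` -/
noncomputable def s5 : S8 := gT F8c.card_eq' (0 : F8c) 1 * gJ F8c.card_eq'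

/-- the generator of `C3` -/
def σ3 : C3 := ⟨F8c.frob, Subgroup.mem_zpowers _⟩

/-- the matrix of `s5` -/
def A5 : Matrix (Fin 4) (Fin 4) F8c := szTmat 1 (0 : F8c) 1 * szJmat F8c

theorem szMat_s5 : szMat s5 = A5 := rfl

theorem szMat_s2 : szMat s2 = szTmat 1 (0 : F8c) 1 := rfl

set_option maxRecDepth 100000 in
theorem A5_pow : A5 ^ 5 = 1 := by decide

theorem A5_ne : A5 ≠ 1 := by decide

theorem A5_fix : A5 * szJmat F8c * (A5.map F8c.frob)ᵀ = szJmat F8c := by decide

theorem T2_sq : szTmat 1 (0 : F8c) 1 * szTmat 1 (0 : F8c) 1 = 1 := by decide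

theorem T2_ne : szTmat 1 (0 : F8c) 1 ≠ 1 := by decide

theorem orderOf_s5 : orderOf s5 = 5 := by
  haveI : Fact (Nat.Prime 5) := ⟨by norm_num⟩
  apply orderOf_eq_prime
  · apply szMat_injective
    rw [szMat_pow, szMat_s5, A5_pow, szMat_one]
  · intro h
    apply A5_ne
    rw [← szMat_s5, h, szMat_one]

theorem orderOf_s2 : orderOf s2 = 2 := by
  haveI : Fact (Nat.Prime 2) := ⟨by norm_num⟩
  apply orderOf_eq_prime
  · apply szMat_injective
    rw [szMat_pow, szMat_s2, pow_two, T2_sq, szMat_one]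
  · intro h
    apply T2_ne
    rw [← szMat_s2, h, szMat_one]

theorem orderOf_σ3 : orderOf σ3 = 3 := by
  haveI : Fact (Nat.Prime 3) := ⟨by norm_num⟩
  apply orderOf_eq_prime
  · apply Subtype.ext
    rw [Subgroup.coe_pow]
    exact F8c.frob_pow_three
  · intro h
    exact F8c.frob_ne_one (congrArg Subtype.val h)

theorem φ63_σ3_s2 : φ63 σ3 s2 = s2 := by
  change fieldAut F8c.card_eq' hm1 F8c.frob (gT F8c.card_eq' (0 : F8c) 1) = _
  rw [fieldAut_gT, map_zero, map_one]
  rfl

theorem φ63_σ3_s5 : φ63 σ3 s5 = s5 := by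
  change fieldAut F8c.card_eq' hm1 F8c.frob (gT F8c.card_eq' (0 : F8c) 1 * gJ F8c.card_eq') = _
  rw [map_mul, fieldAut_gT, fieldAut_gJ, map_zero, map_one]
  rfl

theorem commute_inl_inr (s : S8) (hs : φ63 σ3 s = s) :
    Commute (SemidirectProduct.inl s : L63) (SemidirectProduct.inr σ3) := by
  have h := SemidirectProduct.inl_aut (φ := φ63) σ3 s
  rw [hs] at h
  -- inl s = inr σ * inl s * inr σ⁻¹
  show (SemidirectProduct.inl s : L63) * SemidirectProduct.inr σ3 =
    SemidirectProduct.inr σ3 * SemidirectProduct.inl s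
  have h2 : (SemidirectProduct.inl s : L63) * SemidirectProduct.inr σ3 =
      SemidirectProduct.inr σ3 * SemidirectProduct.inl s * SemidirectProduct.inr σ3⁻¹ *
        SemidirectProduct.inr σ3 := by
    rw [← h]
  rw [h2, mul_assoc, ← map_mul, inv_mul_cancel, map_one, mul_one]

theorem orderOf_inl (s : S8) : orderOf (SemidirectProduct.inl s : L63) = orderOf s :=
  orderOf_injective _ SemidirectProduct.inl_injective s

theorem orderOf_inr (c : C3) : orderOf (SemidirectProduct.inr c : L63) = orderOf c :=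
  orderOf_injective _ SemidirectProduct.inr_injective c

/-- S63-LB: elements of order `6` and `15` in `L` (an involution, resp. an element of order 5, with entries in
`F₂` — e.g. `gT 0 1`, `gT 0 1 * gJ` — commutes with the Frobenius). -/
theorem exists_orders_L63 : (∃ g : L63, orderOf g = 6) ∧ (∃ g : L63, orderOf g = 15) := by
  constructor
  · refine ⟨SemidirectProduct.inl s2 * SemidirectProduct.inr σ3, ?_⟩
    rw [(commute_inl_inr s2 φ63_σ3_s2).orderOf_mul_eq_mul_orderOf_of_coprime, orderOf_inl,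
      orderOf_inr, orderOf_s2, orderOf_σ3]
    rw [orderOf_inl, orderOf_inr, orderOf_s2, orderOf_σ3]
    norm_num
  · refine ⟨SemidirectProduct.inl s5 * SemidirectProduct.inr σ3, ?_⟩
    rw [(commute_inl_inr s5 φ63_σ3_s5).orderOf_mul_eq_mul_orderOf_of_coprime, orderOf_inl,
      orderOf_inr, orderOf_s5, orderOf_σ3]
    rw [orderOf_inl, orderOf_inr, orderOf_s5, orderOf_σ3]
    norm_num

end Cfsg.Agent.Lib.Helper27.S63
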