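import Mathlib
import Cfsg.Prelude.Def_Classical
import Cfsg.Agent.Lib.Helper21.S63.Act
import Cfsg.Agent.Lib.Helper27.S63LB

set_option autoImplicit false

/-! Project S63 (helper21, S3664), piece S63-LC. -/

namespace Cfsg.Agent.Lib.Helper27.S63

open Cfsg Matrix Cfsg.Agent.Lib.helper3 Cfsg.Agent.Lib.Helper21.S63

/-- the unit `x` of `F8c` (of order 7) -/
def k7 : F8cˣ := Units.mk0 F8c.X (by decide)

/-- the torus element `gD x` of order 7 -/
noncomputable def s7 : S8 := gD F8c.card_eq' k7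

/-- the matrix of `s7` -/
def D7 : Matrix (Fin 4) (Fin 4) F8c := szDmat 1 F8c.X

theorem szMat_s7 : szMat s7 = D7 := rfl

/-- the matrix unit `E₀₁` -/
def E01 : M63 := !![0, 1, 0, 0; 0, 0, 0, 0; 0, 0, 0, 0; 0, 0, 0, 0]

set_option maxRecDepth 100000 in
theorem D7_pow : D7 ^ 7 = 1 := by decide

theorem D7_ne : D7 ≠ 1 := by decide

theorem D7_fix : D7 * E01 * (D7.map F8c.frob)ᵀ = E01 := by decide

theorem E01_ne : E01 ≠ 0 := by decide

theorem J_ne : (szJmat F8c : M63) ≠ 0 := by decide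

theorem orderOf_s7 : orderOf s7 = 7 := by
  have : Fact (Nat.Prime 7) := ⟨by norm_num⟩
  apply orderOf_eq_prime
  · apply szMat_injective
    rw [szMat_pow, szMat_s7, D7_pow, szMat_one]
  · intro h
    apply D7_ne
    rw [← szMat_s7, h, szMat_one]

theorem inl_smul (s : S8) (X : M63) :
    (SemidirectProduct.inl s : L63) • X = szMat s * X * ((szMat s).map F8c.frob)ᵀ := by
  rw [smul63_def]
  rfl

/-- S63-LC: elements of order `5` and `7` of `L` with non-zero fixed vectors on `M`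
(e.g. `gT 0 1 * gJ`, and `gD k` fixing the matrix unit `E₀₁`). -/
theorem exists_fixed_L63 :
    (∃ g : L63, orderOf g = 5 ∧ ∃ X : M63, X ≠ 0 ∧ g • X = X) ∧
    (∃ g : L63, orderOf g = 7 ∧ ∃ X : M63, X ≠ 0 ∧ g • X = X) := by
  constructor
  · refine ⟨SemidirectProduct.inl s5, ?_, szJmat F8c, J_ne, ?_⟩
    · rw [orderOf_inl, orderOf_s5]
    · rw [inl_smul, szMat_s5, A5_fix]
  · refine ⟨SemidirectProduct.inl s7, ?_, E01, E01_ne, ?_⟩
    · rw [orderOf_inl, orderOf_s7]
    · rw [inl_smul, szMat_s7, D7_fix]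

end Cfsg.Agent.Lib.Helper27.S63
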