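import Cfsg.Agent.Lib.Helper28.TOO.Defs2
import Cfsg.Agent.Lib.Helper28.TOOPERP

/-!
# Project TOO, row GA9 (finrank_inf_perp_comm): `dim (L ∩ S^⊥) = dim (S ∩ L^⊥)` when `dim L = dim S`.
-/

set_option autoImplicit false
set_option linter.unusedVariables false
set_option linter.unusedSectionVars false

namespace Cfsg.Agent.Lib.Helper28.TOO

open Matrix
open scoped Kronecker
open Cfsg.Agent.Lib.helper7.TP Cfsg.Agent.Lib.Helper21.TS

/-- general form: `dim (L ∩ S^⊥) + dim S = dim (S ∩ L^⊥) + dim L`. -/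
theorem tooga9_finrank_inf_perp {ι : Type*} [Fintype ι] [DecidableEq ι] {F : Type*} [Field F] {J : Matrix ι ι F}
    (hJ : Jᵀ = J) (hdet : J.det ≠ 0) (L S : Submodule F (ι → F)) :
    Module.finrank F ↥(L ⊓ perp J S) + Module.finrank F ↥S =
      Module.finrank F ↥(S ⊓ perp J L) + Module.finrank F ↥L := by
  have h1 : L ⊓ perp J S = perp J (perp J L ⊔ S) := by
    rw [tooperp_sup, tooperp_perp_perp hJ hdet]
  have h2 := tooperp_finrank hJ hdet (perp J L ⊔ S)
  have h3 := Submodule.finrank_sup_add_finrank_inf_eq (perp J L) S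
  have h4 := tooperp_finrank hJ hdet L
  rw [← h1] at h2
  rw [inf_comm] at h3
  omega

variable {a b : ℕ} {F : Type*} [Field F]
variable {J1 : Matrix (Fin a) (Fin a) F} {J2 : Matrix (Fin b) (Fin b) F}

/-- GA9 [S-M]. `dim (L ∩ S^⊥) = dim (S ∩ L^⊥)` when `dim L = dim S`. -/
theorem finrank_inf_perp_comm (C : OCtx J1 J2) (L S : Submodule F (Fin a × Fin b → F))
    (h : Module.finrank F ↥L = Module.finrank F ↥S) :
    Module.finrank F ↥(L ⊓ perp (JV J1 J2) S) = Module.finrank F ↥(S ⊓ perp (JV J1 J2) L) := by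
  have h1 := tooga9_finrank_inf_perp (tooperp_JV_symm C) (tooperp_JV_det C) L S
  omega

end Cfsg.Agent.Lib.Helper28.TOO
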