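import Cfsg.Agent.Lib.Helper27.TS2.Defs

/-!
# Project TS2, piece GRP: abstract group theory — normaliser growth (`pgrp_abs`) and the Sylow trick (`sylow_trick`).
-/

set_option autoImplicit false
set_option linter.unusedSectionVars false
set_option linter.unusedVariables false

namespace Cfsg.Agent.Lib.Helper21.TS

open scoped Pointwise

/-- GRP. normaliser growth. -/
theorem pgrp_abs {G : Type*} [Group G] (p : ℕ) [Fact p.Prime] (T Q : Subgroup G) [Finite Q]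
    (hQ : IsPGroup p Q) (x : G) (hxQ : x ∈ Q) (hxT : x ∈ T)
    (h : ∀ v ∈ Q, v * x * v⁻¹ ∈ T → v ∈ T) : Q ≤ T := by
  classical
  by_contra hcon
  have : Group.IsNilpotent Q := hQ.isNilpotent
  have hnc : NormalizerCondition Q := Group.normalizerCondition_of_isNilpotent
  set H : Subgroup Q := T.subgroupOf Q with hH
  have hHlt : H < ⊤ := by
    rw [lt_top_iff_ne_top]
    intro htop
    apply hcon
    intro y hy
    have : (⟨y, hy⟩ : Q) ∈ H := by rw [htop]; exact Subgroup.mem_top _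
    exact Subgroup.mem_subgroupOf.mp this
  obtain ⟨hle, hnle⟩ := (hnc H hHlt)
  obtain ⟨v', hv'N, hv'H⟩ := SetLike.not_le_iff_exists.mp hnle
  have hxH : (⟨x, hxQ⟩ : Q) ∈ H := Subgroup.mem_subgroupOf.mpr hxT
  have htH := (Subgroup.mem_normalizer_iff.mp hv'N ⟨x, hxQ⟩).mp hxH
  have htT : (v' : G) * x * (v' : G)⁻¹ ∈ T := Subgroup.mem_subgroupOf.mp htH
  exact hv'H (Subgroup.mem_subgroupOf.mpr (h v' v'.2 htT))

/-- GRP. the Sylow trick. -/
theorem sylow_trick {G : Type*} [Group G] [Finite G] (p : ℕ) [Fact p.Prime] (T M : Subgroup G)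
    (x r g : G) (hxT : x ∈ T) (hxM : x ∈ M) (hrM : r ∈ M) (hg : g ∈ M)
    (hx : ∃ k : ℕ, x ^ p ^ k = 1) (hr : ∃ k : ℕ, r ^ p ^ k = 1)
    (ufx : ∀ v ∈ M, v * x * v⁻¹ ∈ T → v ∈ T) (ufr : ∀ h ∈ M, h * r * h⁻¹ ∈ T → h ∈ T) :
    ∃ d ∈ Subgroup.closure ({r, g * x * g⁻¹} : Set G), d * g ∈ T := by
  classical
  set y : G := g * x * g⁻¹ with hy
  set D : Subgroup G := Subgroup.closure ({r, y} : Set G) with hD
  have hrD : r ∈ D := Subgroup.subset_closure (by simp)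
  have hyD : y ∈ D := Subgroup.subset_closure (by simp)
  have hyM : y ∈ M := M.mul_mem (M.mul_mem hg hxM) (M.inv_mem hg)
  have hDM : D ≤ M := by
    rw [hD, Subgroup.closure_le]
    rintro z hz
    rcases hz with rfl | hz
    · exact hrM
    · rw [Set.mem_singleton_iff] at hz; rw [hz]; exact hyM
  -- `p`-power order of `y`
  obtain ⟨kx, hkx⟩ := hx
  obtain ⟨kr, hkr⟩ := hr
  have hyp : y ^ p ^ kx = 1 := by
    rw [hy, conj_pow, hkx, mul_one, mul_inv_cancel]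
  -- the cyclic subgroups of `D` generated by `y` and `r` are `p`-groups
  let yD : D := ⟨y, hyD⟩
  let rD : D := ⟨r, hrD⟩
  have hyDp : yD ^ p ^ kx = 1 := by
    apply Subtype.ext
    rw [Subgroup.coe_pow, Subgroup.coe_one]
    exact hyp
  have hrDp : rD ^ p ^ kr = 1 := by
    apply Subtype.ext
    rw [Subgroup.coe_pow, Subgroup.coe_one]
    exact hkr
  have hZy : IsPGroup p (Subgroup.zpowers yD) := by
    intro z
    obtain ⟨n, hn⟩ := Subgroup.mem_zpowers_iff.mp z.2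
    refine ⟨kx, ?_⟩
    apply Subtype.ext
    rw [Subgroup.coe_pow, Subgroup.coe_one, ← hn, ← zpow_natCast, ← zpow_mul, mul_comm, zpow_mul,
      zpow_natCast, hyDp, one_zpow]
  have hZr : IsPGroup p (Subgroup.zpowers rD) := by
    intro z
    obtain ⟨n, hn⟩ := Subgroup.mem_zpowers_iff.mp z.2
    refine ⟨kr, ?_⟩
    apply Subtype.ext
    rw [Subgroup.coe_pow, Subgroup.coe_one, ← hn, ← zpow_natCast, ← zpow_mul, mul_comm, zpow_mul,
      zpow_natCast, hrDp, one_zpow]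
  obtain ⟨P, hP⟩ := hZy.exists_le_sylow
  obtain ⟨P', hP'⟩ := hZr.exists_le_sylow
  obtain ⟨d, hd⟩ := MulAction.exists_smul_eq D P' P
  have hyP : yD ∈ P := hP (Subgroup.mem_zpowers yD)
  have hrP' : rD ∈ P' := hP' (Subgroup.mem_zpowers rD)
  have hdr : d * rD * d⁻¹ ∈ P := by
    have h0 : (MulAut.conj d) • rD ∈ (MulAut.conj d) • (P' : Subgroup D) :=
      Subgroup.smul_mem_pointwise_smul rD (MulAut.conj d) (P' : Subgroup D) hrP'
    have h1 : ((d • P' : Sylow p D) : Subgroup D) = (MulAut.conj d) • (P' : Subgroup D) :=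
      Sylow.coe_subgroup_smul
    rw [← h1, hd] at h0
    have h2 : d * rD * d⁻¹ ∈ (P : Subgroup D) := by
      simpa [MulAut.smul_def, MulAut.conj_apply] using h0
    exact h2
  -- the `p`-subgroup `g⁻¹ P g` of `M`
  set Q : Subgroup G := ((P : Subgroup D).map D.subtype).map (MulAut.conj g⁻¹).toMonoidHom with hQ
  have hQp : IsPGroup p Q := by
    rw [hQ]
    exact (P.2.map D.subtype).map _
  have hQM : Q ≤ M := by
    rw [hQ]
    rintro _ ⟨z, ⟨z', hz', rfl⟩, rfl⟩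
    show g⁻¹ * (z' : G) * g⁻¹⁻¹ ∈ M
    rw [inv_inv]
    exact M.mul_mem (M.mul_mem (M.inv_mem hg) (hDM z'.2)) hg
  have hxQ : x ∈ Q := by
    rw [hQ]
    refine ⟨y, ⟨yD, hyP, rfl⟩, ?_⟩
    show g⁻¹ * y * g⁻¹⁻¹ = x
    rw [hy, inv_inv]
    group
  have hQT : Q ≤ T := pgrp_abs p T Q hQp x hxQ hxT (fun v hv hvT => ufx v (hQM hv) hvT)
  have h1 : g⁻¹ * ((d : G) * r * (d : G)⁻¹) * g ∈ T := by
    apply hQT
    rw [hQ]
    refine ⟨(d : G) * r * (d : G)⁻¹, ⟨d * rD * d⁻¹, hdr, ?_⟩, ?_⟩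
    · simp [rD]
    · show g⁻¹ * ((d : G) * r * (d : G)⁻¹) * g⁻¹⁻¹ = _
      rw [inv_inv]
  have h2 : (g⁻¹ * (d : G)) * r * (g⁻¹ * (d : G))⁻¹ ∈ T := by
    have : (g⁻¹ * (d : G)) * r * (g⁻¹ * (d : G))⁻¹ = g⁻¹ * ((d : G) * r * (d : G)⁻¹) * g := by group
    rw [this]; exact h1
  have h3 : g⁻¹ * (d : G) ∈ T := ufr _ (M.mul_mem (M.inv_mem hg) (hDM d.2)) h2
  refine ⟨(d : G)⁻¹, D.inv_mem d.2, ?_⟩
  have : (d : G)⁻¹ * g = (g⁻¹ * (d : G))⁻¹ := by group
  rw [this]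
  exact T.inv_mem h3

end Cfsg.Agent.Lib.Helper21.TS
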