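import Cfsg.Agent.Lib.Helper29.ExtrL.Defs

/-!
# EXTRACTION-L, piece Fb0 (`small_support`)
-/

set_option autoImplicit false
set_option linter.unusedSimpArgs false

namespace Cfsg.Agent.Lib.Helper27.ExtrL

open Matrix Cfsg.Agent.Lib.Helper29.ExtrL

variable {ι : Type} [Fintype ι] [DecidableEq ι] {F : Type*} [Field F]

theorem fb0_inj_of_left_inv (G Gi : Matrix ι ι F) (hGi : Gi * G = 1) (x : ι → F)
    (h : G *ᵥ x = 0) : x = 0 := by
  have h1 : Gi *ᵥ (G *ᵥ x) = x := by
    rw [Matrix.mulVec_mulVec, hGi, Matrix.one_mulVec]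
  rw [h, Matrix.mulVec_zero] at h1
  exact h1.symm

theorem fb0_exists_notMem (hn : 10 ≤ Fintype.card ι) (s : Finset ι) (hs : s.card ≤ 9) :
    ∃ a : ι, a ∉ s := by
  by_contra hcon
  push Not at hcon
  have : s = Finset.univ := Finset.eq_univ_iff_forall.mpr hcon
  rw [this, Finset.card_univ] at hs
  omega

theorem fb0_card_fiber (κ : ι → ι) (hinj : Function.Injective κ) (a : ι) :
    (Finset.univ.filter (fun b => κ b = a)).card ≤ 1 := by
  rw [Finset.card_le_one]
  intro x hx y hy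
  simp only [Finset.mem_filter, Finset.mem_univ, true_and] at hx hy
  exact hinj (hx.trans hy.symm)

theorem fb0_card_forb (κ : ι → ι) (hinj : Function.Injective κ) (a : ι) :
    (({a, κ a} : Finset ι) ∪ Finset.univ.filter (fun b => κ b = a)).card ≤ 3 := by
  refine (Finset.card_union_le _ _).trans ?_
  have h1 : ({a, κ a} : Finset ι).card ≤ 2 := Finset.card_le_two
  have h2 := fb0_card_fiber κ hinj a
  omega

theorem small_support_core (hn : 10 ≤ Fintype.card ι) (G Gi Mm Mi T : Matrix ι ι F)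
    (hGi : Gi * G = 1) (hMi : Mi * Mm = 1) (hkey : G * Mm = T * G)
    (hW : ∀ a i j : ι, i ≠ j → ¬ (G i a = 0 ∧ G j a = 0))
    (htd : ∀ i j, i ≠ j → T i j = 0)
    (i j k : ι) (hsupp : ∀ l, l ≠ i → l ≠ j → l ≠ k → T l l = 1)
    (ht1 : ∃ l l' : ι, l ≠ l' ∧ T l l ≠ 1 ∧ T l' l' ≠ 1)
    (hmono : IsMono Mm) : False := by
  classical
  choose κ hκ using hmono
  -- entry form of the key relation
  have hE : ∀ r a, G r (κ a) * Mm (κ a) a = T r r * G r a := by
    intro r a
    have h1 := congrFun (congrFun hkey r) a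
    rw [Matrix.mul_apply, Matrix.mul_apply] at h1
    rw [Finset.sum_eq_single (κ a)] at h1
    · rw [Finset.sum_eq_single r] at h1
      · exact h1
      · intro b _ hb
        rw [htd r b (Ne.symm hb), zero_mul]
      · intro h; exact absurd (Finset.mem_univ r) h
    · intro b _ hb
      rw [hκ a b hb, mul_zero]
    · intro h; exact absurd (Finset.mem_univ _) h
  -- the column `a` of `Mm` is `μ a • e_{κ a}`
  have hcol : ∀ a, Mm *ᵥ (Pi.single a 1) = fun r => if r = κ a then Mm (κ a) a else 0 := by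
    intro a
    funext r
    rw [Matrix.mulVec_single_one]
    by_cases hr : r = κ a
    · subst hr; simp
    · simp only [hr, if_false]
      exact hκ a r hr
  have hμ : ∀ a, Mm (κ a) a ≠ 0 := by
    intro a h0
    have h1 : Mm *ᵥ (Pi.single a 1) = 0 := by
      rw [hcol a]; funext r; simp [h0]
    have h2 := fb0_inj_of_left_inv Mm Mi hMi _ h1
    have h3 := congrFun h2 a
    simp at h3
  have hinj : Function.Injective κ := by
    intro a b hab
    by_contra hne
    have h1 : Mm *ᵥ (Mm (κ b) b • Pi.single a 1 - Mm (κ a) a • Pi.single b 1) = 0 := by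
      rw [Matrix.mulVec_sub, Matrix.mulVec_smul, Matrix.mulVec_smul, hcol a, hcol b]
      funext r
      simp only [Pi.sub_apply, Pi.smul_apply, smul_eq_mul, Pi.zero_apply, hab]
      by_cases hr : r = κ b
      · simp [hr, mul_comm]
      · simp [hr]
    have h2 := fb0_inj_of_left_inv Mm Mi hMi _ h1
    have h3 := congrFun h2 a
    simp only [Pi.sub_apply, Pi.smul_apply, smul_eq_mul, Pi.single_eq_same, mul_one,
      Pi.zero_apply, Pi.single_apply] at h3
    rw [if_neg hne, mul_zero, sub_zero] at h3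
    exact hμ b h3
  -- two distinct rows outside `{i, j, k}`
  have hrows : ∃ r1 r2 : ι, r1 ≠ r2 ∧ (r1 ≠ i ∧ r1 ≠ j ∧ r1 ≠ k) ∧ (r2 ≠ i ∧ r2 ≠ j ∧ r2 ≠ k) := by
    have hc3 : ({i, j, k} : Finset ι).card ≤ 9 := by
      have := Finset.card_le_three (a := i) (b := j) (c := k); omega
    obtain ⟨r1, hr1⟩ := fb0_exists_notMem hn _ hc3
    have hc4 : (insert r1 ({i, j, k} : Finset ι)).card ≤ 9 := by
      have := Finset.card_insert_le r1 ({i, j, k} : Finset ι)
      have := Finset.card_le_three (a := i) (b := j) (c := k); omega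
    obtain ⟨r2, hr2⟩ := fb0_exists_notMem hn _ hc4
    simp only [Finset.mem_insert, Finset.mem_singleton, not_or] at hr1 hr2
    exact ⟨r1, r2, fun h => hr2.1 h.symm, hr1, hr2.2⟩
  -- no fixed point
  have hfix : ∀ a, κ a ≠ a := by
    intro a hfa
    obtain ⟨r1, r2, hr12, ⟨h1i, h1j, h1k⟩, ⟨h2i, h2j, h2k⟩⟩ := hrows
    have hμ1 : Mm (κ a) a = 1 := by
      by_cases hz : G r1 a = 0
      · have hz2 : G r2 a ≠ 0 := fun h => hW a r1 r2 hr12 ⟨hz, h⟩
        have := hE r2 a
        rw [hfa, hsupp r2 h2i h2j h2k, one_mul] at this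
        rw [hfa]
        exact mul_left_cancel₀ hz2 (by rw [this, mul_one])
      · have := hE r1 a
        rw [hfa, hsupp r1 h1i h1j h1k, one_mul] at this
        rw [hfa]
        exact mul_left_cancel₀ hz (by rw [this, mul_one])
    obtain ⟨l, l', hll, hl, hl'⟩ := ht1
    have hz : ∀ l, T l l ≠ 1 → G l a = 0 := by
      intro l hl
      have := hE l a
      rw [hfa] at this
      rw [hfa] at hμ1
      rw [hμ1, mul_one] at this
      by_contra hne
      apply hl
      have h2 : T l l * G l a = 1 * G l a := by rw [one_mul]; exact this.symm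
      exact mul_right_cancel₀ hne h2
    exact hW a l l' hll ⟨hz l hl, hz l' hl'⟩
  -- choose four columns
  obtain ⟨a1⟩ : Nonempty ι := by
    rw [← Fintype.card_pos_iff]; omega
  have hf1 := fb0_card_forb κ hinj a1
  obtain ⟨a2, ha2⟩ := fb0_exists_notMem hn _ (by omega :
    (({a1, κ a1} : Finset ι) ∪ Finset.univ.filter (fun b => κ b = a1)).card ≤ 9)
  have hf2 := fb0_card_forb κ hinj a2
  have hu2 : ((({a1, κ a1} : Finset ι) ∪ Finset.univ.filter (fun b => κ b = a1)) ∪
      (({a2, κ a2} : Finset ι) ∪ Finset.univ.filter (fun b => κ b = a2))).card ≤ 6 := by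
    refine (Finset.card_union_le _ _).trans ?_; omega
  obtain ⟨a3, ha3⟩ := fb0_exists_notMem hn _ (by omega :
    ((({a1, κ a1} : Finset ι) ∪ Finset.univ.filter (fun b => κ b = a1)) ∪
      (({a2, κ a2} : Finset ι) ∪ Finset.univ.filter (fun b => κ b = a2))).card ≤ 9)
  have hf3 := fb0_card_forb κ hinj a3
  have hu3 : (((({a1, κ a1} : Finset ι) ∪ Finset.univ.filter (fun b => κ b = a1)) ∪
      (({a2, κ a2} : Finset ι) ∪ Finset.univ.filter (fun b => κ b = a2))) ∪
      (({a3, κ a3} : Finset ι) ∪ Finset.univ.filter (fun b => κ b = a3))).card ≤ 9 := by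
    refine (Finset.card_union_le _ _).trans ?_; omega
  obtain ⟨a4, ha4⟩ := fb0_exists_notMem hn _ hu3
  simp only [Finset.mem_union, Finset.mem_insert, Finset.mem_singleton, Finset.mem_filter,
    Finset.mem_univ, true_and, not_or] at ha2 ha3 ha4
  obtain ⟨⟨h21, h21'⟩, h21''⟩ := ha2
  obtain ⟨⟨⟨h31, h31'⟩, h31''⟩, ⟨h32, h32'⟩, h32''⟩ := ha3
  obtain ⟨⟨⟨⟨h41, h41'⟩, h41''⟩, ⟨h42, h42'⟩, h42''⟩, ⟨h43, h43'⟩, h43''⟩ := ha4
  -- the four vectors restricted to {i,j,k}
  let Z := {x : ι // x = i ∨ x = j ∨ x = k}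
  let a : Fin 4 → ι := ![a1, a2, a3, a4]
  let w : Fin 4 → (Z → F) := fun m z => (1 - T z.1 z.1) * G z.1 (a m)
  have hZcard : Fintype.card Z ≤ 3 := by
    have h1 : Fintype.card Z = (Finset.univ.filter (fun x : ι => x = i ∨ x = j ∨ x = k)).card :=
      Fintype.card_subtype _
    have h2 : (Finset.univ.filter (fun x : ι => x = i ∨ x = j ∨ x = k)) = {i, j, k} := by
      ext x; simp
    rw [h1, h2]
    exact Finset.card_le_three
  have hnli : ¬ LinearIndependent F w := by
    intro hli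
    have h1 := hli.fintype_card_le_finrank
    rw [Module.finrank_fintype_fun_eq_card, Fintype.card_fin] at h1
    omega
  obtain ⟨c, hc0, m0, hm0⟩ := Fintype.not_linearIndependent_iff.mp hnli
  -- the kernel vector
  let x : ι → F := ∑ m, c m • (Pi.single (a m) (1 : F) - Mm (κ (a m)) (a m) • Pi.single (κ (a m)) (1 : F))
  have hGx : G *ᵥ x = 0 := by
    funext r
    have h1 : (G *ᵥ x) r = ∑ m, c m * ((1 - T r r) * G r (a m)) := by
      show (G *ᵥ (∑ m, c m • (Pi.single (a m) (1 : F) -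
        Mm (κ (a m)) (a m) • Pi.single (κ (a m)) (1 : F)))) r = _
      rw [Matrix.mulVec_sum, Finset.sum_apply]
      refine Finset.sum_congr rfl (fun m _ => ?_)
      rw [Matrix.mulVec_smul, Matrix.mulVec_sub, Matrix.mulVec_smul, Matrix.mulVec_single_one,
        Matrix.mulVec_single_one]
      simp only [Pi.smul_apply, Pi.sub_apply, smul_eq_mul, Matrix.col_apply]
      rw [mul_comm (Mm (κ (a m)) (a m)) (G r (κ (a m))), hE r (a m)]
      ring
    rw [h1]
    by_cases hr : r = i ∨ r = j ∨ r = k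
    · have h2 := congrFun hc0 ⟨r, hr⟩
      simp only [Finset.sum_apply, Pi.smul_apply, smul_eq_mul, Pi.zero_apply] at h2
      exact h2
    · push Not at hr
      rw [hsupp r hr.1 hr.2.1 hr.2.2]
      simp
  have hx0 := fb0_inj_of_left_inv G Gi hGi x hGx
  -- evaluate at `a m0`
  have hxa : ∀ m0 : Fin 4, x (a m0) = c m0 := by
    intro m0
    show ((∑ m, c m • ((Pi.single (a m) (1 : F) : ι → F) -
        Mm (κ (a m)) (a m) • (Pi.single (κ (a m)) (1 : F) : ι → F))) : ι → F) (a m0) = c m0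
    rw [Finset.sum_apply, Fin.sum_univ_four]
    have e0 : a 0 = a1 := rfl
    have e1 : a 1 = a2 := rfl
    have e2 : a 2 = a3 := rfl
    have e3 : a 3 = a4 := rfl
    fin_cases m0 <;>
    simp only [Pi.smul_apply, Pi.sub_apply, smul_eq_mul, Pi.single_apply, e0, e1, e2, e3,
      Fin.zero_eta, Fin.mk_one, Fin.reduceFinMk] <;>
    simp [h21, h21', h21'', h31, h31', h31'', h32, h32', h32'', h41, h41', h41'', h42, h42', h42'', h43, h43', h43'', Ne.symm h21, Ne.symm h21', Ne.symm h21'', Ne.symm h31, Ne.symm h31', Ne.symm h31'', Ne.symm h32, Ne.symm h32', Ne.symm h32'', Ne.symm h41, Ne.symm h41', Ne.symm h41'', Ne.symm h42, Ne.symm h42', Ne.symm h42'', Ne.symm h43, Ne.symm h43', Ne.symm h43'', hfix a1, hfix a2, hfix a3, hfix a4, Ne.symm (hfix a1), Ne.symm (hfix a2), Ne.symm (hfix a3), Ne.symm (hfix a4)]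
  apply hm0
  rw [← hxa m0, hx0]
  rfl

/-- **Fb0** -/
theorem small_support [Fintype F] (hn : 10 ≤ Fintype.card ι) (g t : Matrix.GeneralLinearGroup ι F)
    (hW : ∀ a i j : ι, i ≠ j → ¬ ((g : Matrix ι ι F) i a = 0 ∧ (g : Matrix ι ι F) j a = 0))
    (htd : ∀ i j, i ≠ j → (t : Matrix ι ι F) i j = 0)
    (i j k : ι) (hsupp : ∀ l, l ≠ i → l ≠ j → l ≠ k → (t : Matrix ι ι F) l l = 1)
    (ht1 : ∃ l l' : ι, l ≠ l' ∧ (t : Matrix ι ι F) l l ≠ 1 ∧ (t : Matrix ι ι F) l' l' ≠ 1)
    (hmono : IsMono ((g⁻¹ * t * g : Matrix.GeneralLinearGroup ι F) : Matrix ι ι F)) : False := by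
  refine small_support_core hn (g : Matrix ι ι F) ((g⁻¹ : Matrix.GeneralLinearGroup ι F) : Matrix ι ι F)
    ((g⁻¹ * t * g : Matrix.GeneralLinearGroup ι F) : Matrix ι ι F)
    (((g⁻¹ * t * g)⁻¹ : Matrix.GeneralLinearGroup ι F) : Matrix ι ι F) (t : Matrix ι ι F)
    ?_ ?_ ?_ hW htd i j k hsupp ht1 hmono
  · rw [← Units.val_mul, inv_mul_cancel]; rfl
  · rw [← Units.val_mul, inv_mul_cancel]; rfl
  · rw [← Units.val_mul, ← Units.val_mul]
    congr 1
    group

end Cfsg.Agent.Lib.Helper27.ExtrL
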