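import Cfsg.Agent.Lib.Helper26.Realize2
import Cfsg.Agent.Lib.Helper26.FusionAut

set_option autoImplicit false

namespace Cfsg.Agent.Lib.Helper27

open Cfsg Cfsg.FusionSystem Cfsg.Agent.Lib.Helper26

variable {Ω : Type*} [Group Ω]

/-- `Inn P` is normalized by every automorphism. -/
theorem conj_mem_inn {P : Type*} [Group P] (α : MulAut P) {γ : MulAut P} (hγ : γ ∈ Cfsg.Inn P) :
    α * γ * α⁻¹ ∈ Cfsg.Inn P := by
  obtain ⟨s, rfl⟩ := hγ
  refine ⟨α s, ?_⟩
  ext x
  simp only [MulAut.conj_apply, MulAut.mul_apply, map_mul, map_inv, MulAut.apply_inv_self]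

theorem inn_normal (P : Type*) [Group P] : (Cfsg.Inn P).Normal :=
  ⟨fun _ hγ α => conj_mem_inn α hγ⟩

/-- Every element of `Inn P ⊔ K` is `conj s * k`. -/
theorem exists_of_mem_inn_sup {P : Type*} [Group P] (K : Subgroup (MulAut P)) {α : MulAut P}
    (hα : α ∈ Cfsg.Inn P ⊔ K) : ∃ (s : P) (k : MulAut P), k ∈ K ∧ α = MulAut.conj s * k := by
  haveI := inn_normal P
  have : α ∈ ((Cfsg.Inn P ⊔ K : Subgroup (MulAut P)) : Set (MulAut P)) := hα
  rw [Subgroup.normal_mul] at this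
  obtain ⟨γ, ⟨s, rfl⟩, k, hk, rfl⟩ := this
  exact ⟨s, k, hk, rfl⟩

/-- The fusion system over `P` whose maps are the restrictions of the elements of a group `A` of
automorphisms of `P` containing the inner ones. -/
def autSystem (P : Subgroup Ω) (A : Subgroup (MulAut P)) (hA : Cfsg.Inn P ≤ A) :
    FusionSystem P where
  Hom R := {φ | ∃ hR : R ≤ P, ∃ α ∈ A, ∀ x : R, φ x = ((α ⟨x, hR x.2⟩ : P) : Ω)}
  le_of_mem := by
    rintro R φ ⟨hR, α, -, h⟩
    exact ⟨hR, fun x => by rw [h x]; exact (α _).2⟩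
  injective_of_mem := by
    rintro R φ ⟨hR, α, -, h⟩ a b hab
    rw [h a, h b] at hab
    have := α.injective (Subtype.ext hab)
    exact Subtype.ext (congrArg (fun z : P => (z : Ω)) this)
  conj_mem := by
    intro R g hR hg
    refine ⟨hR, MulAut.conj ⟨g, hg⟩, hA ⟨⟨g, hg⟩, rfl⟩, fun x => ?_⟩
    rfl
  comp_mem := by
    rintro R Q φ ψ ⟨hR, α, hα, h⟩ ⟨hQ, γ, hγ, h'⟩ hm
    refine ⟨hR, γ * α, A.mul_mem hγ hα, fun x => ?_⟩
    show ψ ⟨φ x, hm x⟩ = _
    rw [h']
    rw [MulAut.mul_apply]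
    congr 2
    exact Subtype.ext (h x)
  inv_mem := by
    rintro R φ ⟨hR, α, hα, h⟩
    have hle : φ.range ≤ P := by
      rintro _ ⟨x, rfl⟩
      rw [h x]
      exact (α _).2
    refine ⟨(P.subtype.comp α⁻¹.toMonoidHom).comp (Subgroup.inclusion hle),
      ⟨hle, α⁻¹, A.inv_mem hα, fun y => rfl⟩, fun x => ?_⟩
    show ((α⁻¹ ⟨φ x, _⟩ : P) : Ω) = x
    have : (⟨φ x, hle ⟨x, rfl⟩⟩ : P) = α ⟨x, hR x.2⟩ := Subtype.ext (h x)
    rw [this, MulAut.inv_apply_self]

theorem mem_autSystem_iff {P : Subgroup Ω} {A : Subgroup (MulAut P)} {hA : Cfsg.Inn P ≤ A}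
    {R : Subgroup Ω} {φ : R →* Ω} :
    φ ∈ (autSystem P A hA).Hom R ↔
      ∃ hR : R ≤ P, ∃ α ∈ A, ∀ x : R, φ x = ((α ⟨x, hR x.2⟩ : P) : Ω) := Iff.rfl

theorem autSystem_autGroup (P : Subgroup Ω) (A : Subgroup (MulAut P)) (hA : Cfsg.Inn P ≤ A) :
    (autSystem P A hA).autGroup P = A := by
  ext α
  rw [mem_autGroup_iff _ le_rfl]
  constructor
  · rintro ⟨_, γ, hγ, h⟩
    have : α = γ := by
      ext x
      exact h x
    rw [this]; exact hγ
  · intro hα
    exact ⟨le_rfl, α, hα, fun x => rfl⟩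

section Realize

variable (P : Subgroup Ω) (K : Subgroup (MulAut P))

/-- The semidirect product realizing `autSystem P (Inn P ⊔ K)`. -/
theorem autSystem_isRealizedBy :
    (autSystem P (Cfsg.Inn P ⊔ K) le_sup_left).IsRealizedBy
      (SemidirectProduct.inl : ↥P →* ↥P ⋊[K.subtype] ↥K) := by
  have key : ∀ (s : P) (k : K) (x : P),
      (⟨s, k⟩ : ↥P ⋊[K.subtype] ↥K) * SemidirectProduct.inl x * (⟨s, k⟩ : ↥P ⋊[K.subtype] ↥K)⁻¹ =
        SemidirectProduct.inl (s * (k : MulAut P) x * s⁻¹) := by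
    intro s k x
    ext
    · simp [SemidirectProduct.mul_left, SemidirectProduct.inv_left, mul_assoc]
    · simp
  refine ⟨SemidirectProduct.inl_injective, fun R hR φ hφ => ?_⟩
  constructor
  · rintro ⟨_, α, hα, h⟩
    obtain ⟨s, k, hk, rfl⟩ := exists_of_mem_inn_sup K hα
    refine ⟨⟨s, ⟨k, hk⟩⟩, fun x => ?_⟩
    rw [key]
    congr 1
    apply Subtype.ext
    show φ x = _
    rw [h x]
    rfl
  · rintro ⟨⟨s, k⟩, h⟩
    refine ⟨hR, MulAut.conj s * (k : MulAut P),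
      Subgroup.mul_mem _ (le_sup_left (a := Cfsg.Inn P) (b := K) ⟨s, rfl⟩)
        (le_sup_right (a := Cfsg.Inn P) (b := K) k.2), fun x => ?_⟩
    have h1 := h x
    rw [key] at h1
    have h2 := SemidirectProduct.inl_injective h1
    have h3 := congrArg Subtype.val h2
    exact h3

theorem autSystem_saturated [Finite P] {p : ℕ} [Fact p.Prime] (hP : IsPGroup p P)
    (hK : (Nat.card K).Coprime p) :
    (autSystem P (Cfsg.Inn P ⊔ K) le_sup_left).IsSaturated p := by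
  have hidx : ¬ p ∣ (SemidirectProduct.inl : ↥P →* ↥P ⋊[K.subtype] ↥K).range.index := by
    rw [SemidirectProduct.range_inl_eq_ker_rightHom, Subgroup.index_ker,
      MonoidHom.range_eq_top.mpr SemidirectProduct.rightHom_surjective, Subgroup.card_top]
    intro h
    have := Nat.Coprime.eq_one_of_dvd hK.symm h
    exact (Fact.out : p.Prime).one_lt.ne' this
  have hpg : IsPGroup p (SemidirectProduct.inl : ↥P →* ↥P ⋊[K.subtype] ↥K).range := by
    intro g
    obtain ⟨x, hx⟩ := g.2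
    obtain ⟨k, hk⟩ := hP x
    refine ⟨k, ?_⟩
    apply Subtype.ext
    rw [Subgroup.coe_pow, ← hx, ← map_pow, hk, map_one]
    rfl
  haveI : Finite (↥P ⋊[K.subtype] ↥K) :=
    Finite.of_equiv _ SemidirectProduct.equivProd.symm
  exact saturated_of_realized _ (autSystem_isRealizedBy P K) (hpg.toSylow hidx)
    (IsPGroup.toSylow_coe hpg hidx)

end Realize

end Cfsg.Agent.Lib.Helper27
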