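import Mathlib

/-!
Invariant chains with cyclic steps (helper27).  A group acting on a finite `p`-group, having a normal
`p`-subgroup modulo which it is abelian of exponent dividing `p - 1`, preserves a chain of subgroups
from the trivial subgroup to the whole group each obtained from the previous one by adjoining one
element.
-/

set_option autoImplicit false

universe u

namespace Cfsg.Agent.Lib.Helper27.SsEigen

open Polynomial

section Linear

/-- an endomorphism of a non-zero finite vector space over the prime field whose `(p - 1)`-st power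
is the identity has an eigenvector -/
theorem exists_eigen {p : ℕ} [hp : Fact p.Prime] {V : Type*} [AddCommGroup V] [Module (ZMod p) V]
    [Finite V] [Nontrivial V] (f : Module.End (ZMod p) V) (hf : f ^ (p - 1) = 1) :
    ∃ (μ : ZMod p) (v : V), v ≠ 0 ∧ f v = μ • v := by
  have hp1 : p - 1 + 1 = p := Nat.sub_add_cancel hp.out.one_le
  have hpoly : Polynomial.aeval f (X ^ p - X : (ZMod p)[X]) = 0 := by
    rw [map_sub, map_pow, aeval_X]
    have e : f ^ p = f := by
      calc f ^ p = f ^ (p - 1 + 1) := by rw [hp1]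
        _ = f := by rw [pow_succ, hf, one_mul]
    rw [e, sub_self]
  have hdvd : minpoly (ZMod p) f ∣ X ^ p - X := minpoly.dvd _ _ hpoly
  have hsplit : (X ^ p - X : (ZMod p)[X]).Splits := by
    have := FiniteField.splits_X_pow_card_sub_X (K := ZMod p) (p := p)
    rwa [ZMod.card, Algebra.algebraMap_self, Polynomial.map_id] at this
  have hne : (X ^ p - X : (ZMod p)[X]) ≠ 0 :=
    FiniteField.X_pow_card_sub_X_ne_zero (ZMod p) hp.out.one_lt
  have hms : (minpoly (ZMod p) f).Splits := hsplit.of_dvd hne hdvd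
  have hint : IsIntegral (ZMod p) f := Algebra.IsIntegral.isIntegral f
  have hdeg : degree (minpoly (ZMod p) f) ≠ 0 := (minpoly.degree_pos hint).ne'
  obtain ⟨μ, hμ⟩ := hms.exists_eval_eq_zero hdeg
  have h1 : f.HasEigenvalue μ := Module.End.hasEigenvalue_of_isRoot hμ
  obtain ⟨v, hv⟩ := h1.exists_hasEigenvector
  exact ⟨μ, v, hv.2, hv.apply_eq_smul⟩

/-- additive-map form of `exists_eigen` -/
theorem exists_eigen_add {p : ℕ} [hp : Fact p.Prime] {V : Type*} [AddCommGroup V]
    [Module (ZMod p) V] [Finite V] [Nontrivial V] (g : V →+ V) (hg : ∀ v, g^[p - 1] v = v) :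
    ∃ (μ : ZMod p) (v : V), v ≠ 0 ∧ g v = μ • v := by
  have hpow : ∀ (n : ℕ) (v : V), ((g.toZModLinearMap p) ^ n) v = g^[n] v := by
    intro n
    induction n with
    | zero => intro v; rfl
    | succ n ih =>
      intro v
      rw [pow_succ', Module.End.mul_apply, ih, Function.iterate_succ_apply']
      rfl
  have hf1 : (g.toZModLinearMap p) ^ (p - 1) = 1 := by
    ext v
    rw [hpow, hg]
    rfl
  obtain ⟨μ, v, hv0, hv⟩ := exists_eigen (g.toZModLinearMap p) hf1
  exact ⟨μ, v, hv0, hv⟩

end Linear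

section Mul

variable {X : Type*} [Group X]

/-- multiplicative form of `exists_eigen` -/
theorem exists_eigen_mul {p : ℕ} [hp : Fact p.Prime] (W : Subgroup X) [Finite W]
    (hcomm : ∀ a ∈ W, ∀ b ∈ W, a * b = b * a) (hexp : ∀ a ∈ W, a ^ p = 1) (hne : W ≠ ⊥)
    (T : MulAut X) (hT : ∀ a ∈ W, T a ∈ W) (hpow : ∀ a ∈ W, (T ^ (p - 1)) a = a) :
    ∃ w ∈ W, w ≠ 1 ∧ ∃ k : ℕ, T w = w ^ k := by
  letI : CommGroup ↥W :=
    { (inferInstance : Group ↥W) with
      mul_comm := fun a b => Subtype.ext (hcomm a a.2 b b.2) }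
  have hV : ∀ v : Additive ↥W, p • v = 0 := by
    intro v
    have : (Additive.toMul v) ^ p = 1 := Subtype.ext (by
      rw [Subgroup.coe_pow]; exact hexp _ (Additive.toMul v).2)
    exact congrArg Additive.ofMul this
  letI : Module (ZMod p) (Additive ↥W) := AddCommGroup.zmodModule hV
  let T₀ : ↥W →* ↥W := (T.toMonoidHom.comp W.subtype).codRestrict W (fun a => hT a a.2)
  have hit : ∀ (n : ℕ) (v : Additive ↥W),
      ((Additive.toMul ((MonoidHom.toAdditive T₀)^[n] v) : ↥W) : X) =
        (T ^ n) ((Additive.toMul v : ↥W) : X) := by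
    intro n
    induction n with
    | zero => intro v; rfl
    | succ n ih =>
      intro v
      rw [Function.iterate_succ_apply', pow_succ', MulAut.mul_apply, ← ih]
      rfl
  have hg : ∀ v : Additive ↥W, (MonoidHom.toAdditive T₀)^[p - 1] v = v := by
    intro v
    apply Additive.toMul.injective
    apply Subtype.ext
    rw [hit, hpow _ (Additive.toMul v).2]
  haveI : Nontrivial ↥W := (Subgroup.nontrivial_iff_ne_bot W).mpr hne
  haveI : Nontrivial (Additive ↥W) := inferInstance
  obtain ⟨μ, v, hv0, hv⟩ := exists_eigen_add (MonoidHom.toAdditive T₀) hg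
  refine ⟨((Additive.toMul v : ↥W) : X), (Additive.toMul v).2, ?_, μ.val, ?_⟩
  · intro h
    apply hv0
    have : (Additive.toMul v : ↥W) = 1 := Subtype.ext h
    exact congrArg Additive.ofMul this
  · have e : μ • v = μ.val • v := by
      conv_lhs => rw [← ZMod.natCast_zmod_val μ]
      exact Nat.cast_smul_eq_nsmul (ZMod p) μ.val v
    rw [e] at hv
    have h2 := congrArg (fun u : Additive ↥W => ((Additive.toMul u : ↥W) : X)) hv
    exact h2

end Mul

section Common

variable {X : Type*} [Group X] [Finite X] {Γ : Type*} [Group Γ]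

/-- a common eigenvector for a family of commuting operators of exponent dividing `p - 1` -/
theorem exists_common_eigen {p : ℕ} [hp : Fact p.Prime] (ρ : Γ →* MulAut X) :
    ∀ (N : ℕ) (W : Subgroup X), Nat.card W ≤ N →
      (∀ a ∈ W, ∀ b ∈ W, a * b = b * a) → (∀ a ∈ W, a ^ p = 1) → W ≠ ⊥ →
      (∀ g : Γ, ∀ a ∈ W, ρ g a ∈ W) →
      (∀ g h : Γ, ∀ a ∈ W, ρ g (ρ h a) = ρ h (ρ g a)) →
      (∀ g : Γ, ∀ a ∈ W, ρ (g ^ (p - 1)) a = a) →
      ∃ w ∈ W, w ≠ 1 ∧ ∀ g : Γ, ρ g w ∈ Subgroup.zpowers w := by
  intro N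
  induction N with
  | zero =>
    intro W hW
    exfalso
    have : 0 < Nat.card W := Nat.card_pos
    omega
  | succ N ih =>
    intro W hW hcomm hexp hne hinv hcm hpw
    by_cases hall : ∀ g : Γ, ∀ a ∈ W, ρ g a ∈ Subgroup.zpowers a
    · obtain ⟨a, ha⟩ := (Subgroup.ne_bot_iff_exists_ne_one.mp hne)
      exact ⟨a, a.2, fun h => ha (Subtype.ext h), fun g => hall g a a.2⟩
    · push Not at hall
      obtain ⟨g₀, a₀, ha₀, hna₀⟩ := hall
      have hpow0 : ∀ a ∈ W, ((ρ g₀) ^ (p - 1)) a = a := by
        intro a ha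
        rw [← map_pow]
        exact hpw g₀ a ha
      obtain ⟨w₀, hw₀, hw₀1, k, hk⟩ := exists_eigen_mul W hcomm hexp hne (ρ g₀) (hinv g₀) hpow0
      let W' : Subgroup X :=
        { carrier := {a | a ∈ W ∧ ρ g₀ a = a ^ k}
          one_mem' := ⟨W.one_mem, by rw [map_one, one_pow]⟩
          mul_mem' := by
            rintro a b ⟨ha, hak⟩ ⟨hb, hbk⟩
            refine ⟨W.mul_mem ha hb, ?_⟩
            rw [map_mul, hak, hbk, (show Commute a b from hcomm a ha b hb).mul_pow]
          inv_mem' := by
            rintro a ⟨ha, hak⟩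
            refine ⟨W.inv_mem ha, ?_⟩
            rw [map_inv, hak, inv_pow] }
      have hW'le : W' ≤ W := fun a ha => ha.1
      have hW'ne : W' ≠ ⊥ := by
        intro h
        have : w₀ ∈ W' := ⟨hw₀, hk⟩
        rw [h, Subgroup.mem_bot] at this
        exact hw₀1 this
      have hlt : W' < W := by
        refine lt_of_le_of_ne hW'le ?_
        intro h
        have : a₀ ∈ W' := by rw [h]; exact ha₀
        apply hna₀
        rw [this.2]
        exact Subgroup.pow_mem _ (Subgroup.mem_zpowers a₀) k
      have hcard : Nat.card W' ≤ N := by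
        by_contra hcon
        have h1 : Nat.card W ≤ Nat.card W' := by omega
        exact hlt.ne (Subgroup.eq_of_le_of_card_ge hW'le h1)
      obtain ⟨w, hw, hw1, hwg⟩ := ih W' hcard (fun a ha b hb => hcomm a ha.1 b hb.1)
        (fun a ha => hexp a ha.1) hW'ne
        (fun g a ha => ⟨hinv g a ha.1, by
          rw [hcm g₀ g a ha.1, ha.2, map_pow]⟩)
        (fun g h a ha => hcm g h a ha.1) (fun g a ha => hpw g a ha.1)
      exact ⟨w, hw.1, hw1, hwg⟩

end Common

section ChainExists

variable {Γ : Type*} [Group Γ]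

theorem apply_mem_center {X : Type*} [Group X] (φ : MulAut X) {z : X}
    (hz : z ∈ Subgroup.center X) : φ z ∈ Subgroup.center X := by
  rw [Subgroup.mem_center_iff] at hz ⊢
  intro y
  have h1 := hz (φ⁻¹ y)
  have h2 := congrArg φ h1
  rw [map_mul, map_mul, MulAut.apply_inv_self] at h2
  exact h2

/-- **Invariant chains with cyclic steps.** -/
theorem chain_exists {p : ℕ} [hp : Fact p.Prime] (P : Subgroup Γ) [hPn : P.Normal]
    (hP : IsPGroup p P) (hc : ∀ a b : Γ, a * b * a⁻¹ * b⁻¹ ∈ P) (he : ∀ a : Γ, a ^ (p - 1) ∈ P) :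
    ∀ (n : ℕ) (X : Type u) [Group X] [Finite X], Nat.card X = p ^ n → ∀ ρ : Γ →* MulAut X,
      ∃ (m : ℕ) (c : Fin (m + 1) → Subgroup X), c 0 = ⊥ ∧ c (Fin.last m) = ⊤ ∧
        (∀ i, ∀ g : Γ, ∀ t ∈ c i, ρ g t ∈ c i) ∧
        ∀ i : Fin m, c i.castSucc ≤ c i.succ ∧
          ∃ x : X, c i.succ = c i.castSucc ⊔ Subgroup.zpowers x := by
  intro n
  induction n with
  | zero =>
    intro X _ _ hX ρ
    rw [pow_zero] at hX
    haveI : Subsingleton X := (Nat.card_eq_one_iff_unique.mp hX).1
    refine ⟨0, fun _ => ⊥, rfl, Subsingleton.elim _ _, ?_, fun i => Fin.elim0 i⟩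
    intro i g t ht
    rw [Subgroup.mem_bot] at ht ⊢
    rw [ht, map_one]
  | succ n ih =>
    intro X _ _ hX ρ
    have hXp : IsPGroup p X := IsPGroup.of_card hX
    haveI : Nontrivial X := by
      rw [← Finite.one_lt_card_iff_nontrivial, hX]
      exact Nat.one_lt_pow (Nat.succ_ne_zero n) hp.out.one_lt
    -- the central elements of order dividing `p`
    let Z₁ : Subgroup X :=
      { carrier := {z | z ∈ Subgroup.center X ∧ z ^ p = 1}
        one_mem' := ⟨Subgroup.one_mem _, one_pow _⟩
        mul_mem' := by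
          rintro a b ⟨ha, hap⟩ ⟨hb, hbp⟩
          refine ⟨Subgroup.mul_mem _ ha hb, ?_⟩
          have hcm : Commute a b := (Subgroup.mem_center_iff.mp ha b).symm
          rw [hcm.mul_pow, hap, hbp, one_mul]
        inv_mem' := by
          rintro a ⟨ha, hap⟩
          exact ⟨Subgroup.inv_mem _ ha, by rw [inv_pow, hap, inv_one]⟩ }
    have hZ₁inv : ∀ (φ : MulAut X) (z : X), z ∈ Z₁ → φ z ∈ Z₁ := by
      rintro φ z ⟨hz, hzp⟩
      exact ⟨apply_mem_center φ hz, by rw [← map_pow, hzp, map_one]⟩
    have hZ₁ne : Z₁ ≠ ⊥ := by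
      haveI : Nontrivial (Subgroup.center X) := hXp.center_nontrivial
      have hcp : IsPGroup p (Subgroup.center X) := hXp.to_subgroup _
      have hdvd : p ∣ Nat.card (Subgroup.center X) := by
        rcases hcp.card_eq_or_dvd with h | h
        · exfalso
          have := Finite.one_lt_card_iff_nontrivial.mpr (inferInstance : Nontrivial (Subgroup.center X))
          omega
        · exact h
      obtain ⟨z, hz⟩ := exists_prime_orderOf_dvd_card' (G := ↥(Subgroup.center X)) p hdvd
      intro h
      have hmem : (z : X) ∈ Z₁ := by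
        refine ⟨z.2, ?_⟩
        have : z ^ p = 1 := by rw [← hz]; exact pow_orderOf_eq_one z
        exact congrArg Subtype.val this
      rw [h, Subgroup.mem_bot] at hmem
      have hz1 : z = 1 := Subtype.ext hmem
      rw [hz1, orderOf_one] at hz
      exact hp.out.one_lt.ne hz
    -- the fixed points of `P`
    letI : MulAction ↥P ↥Z₁ :=
      { smul := fun g z => ⟨ρ (g : Γ) (z : X), hZ₁inv _ _ z.2⟩
        one_smul := fun z => Subtype.ext (by
          show ρ ((1 : ↥P) : Γ) (z : X) = z
          rw [Subgroup.coe_one, map_one, MulAut.one_apply])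
        mul_smul := fun g h z => Subtype.ext (by
          show ρ ((g * h : ↥P) : Γ) (z : X) = ρ (g : Γ) (ρ (h : Γ) (z : X))
          rw [Subgroup.coe_mul, map_mul, MulAut.mul_apply]) }
    have hsm : ∀ (g : ↥P) (z : ↥Z₁), ((g • z : ↥Z₁) : X) = ρ (g : Γ) (z : X) := fun _ _ => rfl
    have hZ₁dvd : p ∣ Nat.card ↥Z₁ := by
      have hzp : IsPGroup p ↥Z₁ := hXp.to_subgroup _
      haveI : Nontrivial ↥Z₁ := (Subgroup.nontrivial_iff_ne_bot Z₁).mpr hZ₁ne
      rcases hzp.card_eq_or_dvd with h | h
      · exfalso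
        have := Finite.one_lt_card_iff_nontrivial.mpr (inferInstance : Nontrivial ↥Z₁)
        omega
      · exact h
    have h1fix : (1 : ↥Z₁) ∈ MulAction.fixedPoints ↥P ↥Z₁ := by
      intro g
      apply Subtype.ext
      rw [hsm, Subgroup.coe_one, map_one]
    obtain ⟨b, hbfix, hb1⟩ := hP.exists_fixed_point_of_prime_dvd_card_of_fixed_point ↥Z₁ hZ₁dvd h1fix
    let W : Subgroup X :=
      { carrier := {z | z ∈ Z₁ ∧ ∀ g ∈ P, ρ g z = z}
        one_mem' := ⟨Z₁.one_mem, fun g _ => map_one _⟩
        mul_mem' := by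
          rintro a b ⟨ha, hag⟩ ⟨hb, hbg⟩
          exact ⟨Z₁.mul_mem ha hb, fun g hg => by rw [map_mul, hag g hg, hbg g hg]⟩
        inv_mem' := by
          rintro a ⟨ha, hag⟩
          exact ⟨Z₁.inv_mem ha, fun g hg => by rw [map_inv, hag g hg]⟩ }
    have hWne : W ≠ ⊥ := by
      intro h
      have hmem : (b : X) ∈ W := by
        refine ⟨b.2, fun g hg => ?_⟩
        have := hbfix ⟨g, hg⟩
        exact congrArg Subtype.val this
      rw [h, Subgroup.mem_bot] at hmem
      exact hb1 (Subtype.ext hmem).symm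
    have hWcomm : ∀ a ∈ W, ∀ b ∈ W, a * b = b * a := by
      intro a ha b _
      exact (Subgroup.mem_center_iff.mp ha.1.1 b).symm
    have hWexp : ∀ a ∈ W, a ^ p = 1 := fun a ha => ha.1.2
    have hWinv : ∀ g : Γ, ∀ a ∈ W, ρ g a ∈ W := by
      intro g a ha
      refine ⟨hZ₁inv _ _ ha.1, fun h hh => ?_⟩
      have h1 : g⁻¹ * h * g ∈ P := by
        have := hPn.conj_mem h hh g⁻¹
        rwa [inv_inv] at this
      have h2 := ha.2 _ h1
      calc ρ h (ρ g a) = ρ g (ρ (g⁻¹ * h * g) a) := by
            rw [← MulAut.mul_apply, ← MulAut.mul_apply, ← map_mul, ← map_mul]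
            congr 2
            group
        _ = ρ g a := by rw [h2]
    have hWcm : ∀ g h : Γ, ∀ a ∈ W, ρ g (ρ h a) = ρ h (ρ g a) := by
      intro g h a ha
      have h1 := (hWinv h _ (hWinv g a ha)).2 _ (hc g h)
      calc ρ g (ρ h a) = ρ (g * h * g⁻¹ * h⁻¹) (ρ h (ρ g a)) := by
            rw [← MulAut.mul_apply, ← MulAut.mul_apply, ← MulAut.mul_apply, ← map_mul, ← map_mul,
              ← map_mul]
            congr 2
            group
        _ = ρ h (ρ g a) := h1
    have hWpw : ∀ g : Γ, ∀ a ∈ W, ρ (g ^ (p - 1)) a = a := fun g a ha => ha.2 _ (he g)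
    obtain ⟨w, hwW, hw1, hwg⟩ := exists_common_eigen ρ (Nat.card W) W le_rfl hWcomm hWexp hWne
      hWinv hWcm hWpw
    -- the quotient by the subgroup generated by `w`
    have hwc : w ∈ Subgroup.center X := hwW.1.1
    have hwp : w ^ p = 1 := hwW.1.2
    haveI hNn : (Subgroup.zpowers w).Normal := by
      constructor
      intro t ht g
      have htc : t ∈ Subgroup.center X := by
        obtain ⟨k, rfl⟩ := ht
        exact Subgroup.zpow_mem _ hwc k
      rw [Subgroup.mem_center_iff.mp htc g, mul_inv_cancel_right]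
      exact ht
    have hNinv : ∀ g : Γ, ∀ t ∈ Subgroup.zpowers w, ρ g t ∈ Subgroup.zpowers w := by
      rintro g t ⟨k, rfl⟩
      rw [map_zpow]
      exact Subgroup.zpow_mem _ (hwg g) k
    have hmap : ∀ g : Γ, (Subgroup.zpowers w).map (ρ g).toMonoidHom = Subgroup.zpowers w := by
      intro g
      apply le_antisymm
      · rintro _ ⟨t, ht, rfl⟩
        exact hNinv g t ht
      · intro t ht
        refine ⟨ρ g⁻¹ t, hNinv g⁻¹ t ht, ?_⟩
        show ρ g (ρ g⁻¹ t) = t
        rw [← MulAut.mul_apply, ← map_mul, mul_inv_cancel, map_one, MulAut.one_apply]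
    have hcardN : Nat.card (Subgroup.zpowers w) = p := by
      rw [Nat.card_zpowers]
      exact orderOf_eq_prime hwp hw1
    have hcardQ : Nat.card (X ⧸ Subgroup.zpowers w) = p ^ n := by
      have h1 := Subgroup.card_eq_card_quotient_mul_card_subgroup (Subgroup.zpowers w)
      rw [hX, hcardN, pow_succ] at h1
      exact (Nat.eq_of_mul_eq_mul_right hp.out.pos h1).symm
    let ρ' : Γ →* MulAut (X ⧸ Subgroup.zpowers w) :=
      { toFun := fun g => QuotientGroup.congr (Subgroup.zpowers w) (Subgroup.zpowers w) (ρ g) (hmap g)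
        map_one' := by
          ext q
          induction q using QuotientGroup.induction_on with
          | H t =>
            show (QuotientGroup.mk (ρ 1 t) : X ⧸ Subgroup.zpowers w) = QuotientGroup.mk t
            rw [map_one, MulAut.one_apply]
        map_mul' := by
          intro g h
          ext q
          induction q using QuotientGroup.induction_on with
          | H t =>
            show (QuotientGroup.mk (ρ (g * h) t) : X ⧸ Subgroup.zpowers w) =
              QuotientGroup.mk (ρ g (ρ h t))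
            rw [map_mul, MulAut.mul_apply] }
    have hρ' : ∀ (g : Γ) (t : X), ρ' g (QuotientGroup.mk t) = QuotientGroup.mk (ρ g t) :=
      fun _ _ => rfl
    obtain ⟨m', c', hc0, hclast, hcinv, hcstep⟩ := ih (X ⧸ Subgroup.zpowers w) hcardQ ρ'
    refine ⟨m' + 1, Fin.cons ⊥ (fun i => (c' i).comap (QuotientGroup.mk' (Subgroup.zpowers w))),
      ?_, ?_, ?_, ?_⟩
    · rfl
    · rw [← Fin.succ_last, Fin.cons_succ, hclast, Subgroup.comap_top]
    · intro i
      refine Fin.cases ?_ ?_ i
      · intro g t ht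
        rw [Fin.cons_zero, Subgroup.mem_bot] at ht
        rw [ht, map_one]
        exact Subgroup.one_mem _
      · intro j g t ht
        rw [Fin.cons_succ, Subgroup.mem_comap] at ht ⊢
        have := hcinv j g _ ht
        exact this
    · intro i
      refine Fin.cases ?_ ?_ i
      · have e1 : (Fin.cons ⊥ (fun i => (c' i).comap (QuotientGroup.mk' (Subgroup.zpowers w))) :
            Fin (m' + 1 + 1) → Subgroup X) (Fin.castSucc (0 : Fin (m' + 1))) = ⊥ := rfl
        have e2 : (Fin.cons ⊥ (fun i => (c' i).comap (QuotientGroup.mk' (Subgroup.zpowers w))) :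
            Fin (m' + 1 + 1) → Subgroup X) (Fin.succ (0 : Fin (m' + 1))) = Subgroup.zpowers w := by
          rw [Fin.cons_succ, hc0, MonoidHom.comap_bot, QuotientGroup.ker_mk']
        rw [e1, e2]
        exact ⟨bot_le, w, by rw [bot_sup_eq]⟩
      · intro j
        have e1 : (Fin.cons ⊥ (fun i => (c' i).comap (QuotientGroup.mk' (Subgroup.zpowers w))) :
            Fin (m' + 1 + 1) → Subgroup X) (Fin.castSucc (Fin.succ j)) =
            (c' j.castSucc).comap (QuotientGroup.mk' (Subgroup.zpowers w)) := by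
          rw [← Fin.succ_castSucc, Fin.cons_succ]
        have e2 : (Fin.cons ⊥ (fun i => (c' i).comap (QuotientGroup.mk' (Subgroup.zpowers w))) :
            Fin (m' + 1 + 1) → Subgroup X) (Fin.succ (Fin.succ j)) =
            (c' j.succ).comap (QuotientGroup.mk' (Subgroup.zpowers w)) := by
          rw [Fin.cons_succ]
        rw [e1, e2]
        obtain ⟨hle, xq, hxq⟩ := hcstep j
        refine ⟨Subgroup.comap_mono hle, ?_⟩
        obtain ⟨x, rfl⟩ := QuotientGroup.mk_surjective xq
        refine ⟨x, ?_⟩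
        have hsurj : Function.Surjective (QuotientGroup.mk' (Subgroup.zpowers w)) :=
          QuotientGroup.mk'_surjective _
        have e3 : Subgroup.zpowers (QuotientGroup.mk x : X ⧸ Subgroup.zpowers w) =
            (Subgroup.zpowers x).map (QuotientGroup.mk' (Subgroup.zpowers w)) := by
          rw [MonoidHom.map_zpowers]
          rfl
        rw [hxq, ← Subgroup.comap_sup_eq (QuotientGroup.mk' (Subgroup.zpowers w)) _ _ hsurj, e3,
          Subgroup.comap_map_eq,
          QuotientGroup.ker_mk']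
        have hker : Subgroup.zpowers w ≤
            (c' j.castSucc).comap (QuotientGroup.mk' (Subgroup.zpowers w)) := by
          intro t ht
          rw [Subgroup.mem_comap]
          have : QuotientGroup.mk' (Subgroup.zpowers w) t = 1 := by
            rw [QuotientGroup.mk'_apply, QuotientGroup.eq_one_iff]
            exact ht
          rw [this]
          exact Subgroup.one_mem _
        rw [← sup_assoc, sup_comm (Subgroup.comap _ _) (Subgroup.zpowers x), sup_assoc,
          sup_eq_left.mpr hker, sup_comm]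

end ChainExists

end Cfsg.Agent.Lib.Helper27.SsEigen
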