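import Mathlib
import Cfsg.Agent.Lib.helper8.OME.Defs
import Cfsg.Agent.Lib.helper17.OPEQTYCLASS

set_option autoImplicit false
set_option linter.unusedVariables false
set_option linter.unusedSectionVars false

/-!
# Project OME (S5990; designer helper8), row FROZEN (`ome_frozen_iff`): twin of OPE `frozen_iff` (Helper24/OPEFROZEN).
-/

namespace Cfsg.Agent.Lib.helper8.OME

open Polynomial Module Cfsg.Agent.Lib.Helper13.S5955 Cfsg.Agent.Lib.helper15.S5972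
  Cfsg.Agent.Lib.Helper18.OPE

theorem omefrozen_nd {F : Type*} [Field F] (d : ℕ) (a b : F) (W : Submodule F (MI d → F)) :
    ((∀ u ∈ W, u ≠ 0 → ∃ v ∈ W, QuadraticMap.polar (Cfsg.quadFormMinus (d - 1) F a b) u v ≠ 0) ↔
        SND (stdM d F a b) W) ∧
    (Cfsg.Geo.IsNondegenerateOn (QuadraticMap.polar (Cfsg.quadFormMinus (d - 1) F a b)) W ↔
        SND (stdM d F a b) W) := by
  refine ⟨⟨?_, ?_⟩, ⟨?_, ?_⟩⟩
  · intro h u hu hall
    by_contra hne
    obtain ⟨v, hv, hvu⟩ := h u hu hne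
    apply hvu
    rw [← stdM_apply]
    exact hall v hv
  · intro h u hu hne
    by_contra hcon
    push Not at hcon
    apply hne
    apply h u hu
    intro v hv
    rw [stdM_apply]
    exact hcon v hv
  · intro h u hu hall
    by_contra hne
    obtain ⟨_, ⟨v, hv, hvu⟩⟩ := h u hu hne
    apply hvu
    rw [← stdM_apply]
    exact hall v hv
  · intro h u hu hne
    have hex : ∃ v ∈ W, QuadraticMap.polar (Cfsg.quadFormMinus (d - 1) F a b) u v ≠ 0 := by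
      by_contra hcon
      push Not at hcon
      apply hne
      apply h u hu
      intro v hv
      rw [stdM_apply]
      exact hcon v hv
    obtain ⟨v, hv, hvu⟩ := hex
    refine ⟨⟨v, hv, ?_⟩, ⟨v, hv, hvu⟩⟩
    rw [QuadraticMap.polar_comm]
    exact hvu

/-- FROZEN [M] (twin of OPE `frozen_iff`, Helper24/OPEFROZEN.lean + OPEFROZENcore.lean): the predicates of `HYPm` / of the frozen S5990 (`ELLm`) in the abstract vocabulary; then QTYIFF. -/
theorem ome_frozen_iff {F : Type*} [Field F] [Fintype F] (d m : ℕ) (hme : Even m) (a b : F)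
    (W : Submodule F (MI d → F)) :
    ((Module.finrank F ↥W = m ∧
        (∀ u ∈ W, u ≠ 0 → ∃ v ∈ W, QuadraticMap.polar (Cfsg.quadFormMinus (d - 1) F a b) u v ≠ 0) ∧
        ∃ U : Submodule F (MI d → F), U ≤ W ∧ 2 * Module.finrank F ↥U = m ∧
          ∀ u ∈ U, Cfsg.quadFormMinus (d - 1) F a b u = 0) ↔
      (finrank F W = m ∧ SND (stdM d F a b) W ∧ QTy (Qm d F a b) W 1)) ∧
    ((Module.finrank F ↥W = m ∧
        Cfsg.Geo.IsNondegenerateOn (QuadraticMap.polar (Cfsg.quadFormMinus (d - 1) F a b)) W ∧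
        ¬ Cfsg.Geo.IsPlusTypeOn (Cfsg.quadFormMinus (d - 1) F a b) W) ↔
      (finrank F W = m ∧ SND (stdM d F a b) W ∧ QTy (Qm d F a b) W (-1))) := by
  obtain ⟨hnd1, hnd2⟩ := omefrozen_nd d a b W
  have hiff : SND (stdM d F a b) W → Even (finrank F W) →
      (QHyp (Qm d F a b) W ↔ QTy (Qm d F a b) W 1) ∧
      (¬ QHyp (Qm d F a b) W ↔ QTy (Qm d F a b) W (-1)) ∧
      (QTy (Qm d F a b) W 1 ∨ QTy (Qm d F a b) W (-1)) :=
    fun hW hev => qty_iff (Qm d F a b) W hW hev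
  have hplus : Cfsg.Geo.IsPlusTypeOn (Cfsg.quadFormMinus (d - 1) F a b) W ↔
      QHyp (Qm d F a b) W := Iff.rfl
  refine ⟨⟨?_, ?_⟩, ⟨?_, ?_⟩⟩
  · rintro ⟨hm, hnd, U, hUW, hUm, hU0⟩
    have hsnd := hnd1.mp hnd
    obtain ⟨h1, _, _⟩ := hiff hsnd (by rw [hm]; exact hme)
    refine ⟨hm, hsnd, h1.mp ⟨U, hUW, hU0, ?_⟩⟩
    rw [hUm, hm]
  · rintro ⟨hm, hsnd, hty⟩
    obtain ⟨h1, _, _⟩ := hiff hsnd (by rw [hm]; exact hme)
    obtain ⟨U, hUW, hU0, hUm⟩ := h1.mpr hty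
    refine ⟨hm, hnd1.mpr hsnd, U, hUW, ?_, hU0⟩
    rw [hUm, hm]
  · rintro ⟨hm, hnd, hnp⟩
    have hsnd := hnd2.mp hnd
    obtain ⟨_, h3, _⟩ := hiff hsnd (by rw [hm]; exact hme)
    exact ⟨hm, hsnd, h3.mp (fun h => hnp (hplus.mpr h))⟩
  · rintro ⟨hm, hsnd, hty⟩
    obtain ⟨_, h3, _⟩ := hiff hsnd (by rw [hm]; exact hme)
    exact ⟨hm, hnd2.mpr hsnd, fun h => (h3.mpr hty) (hplus.mp h)⟩

end Cfsg.Agent.Lib.helper8.OME
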