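import Mathlib
import Cfsg.Agent.Lib.Helper27.SzGrpB3

/-!
# Suzuki 2-groups: the abelian case, conclusion
-/

set_option autoImplicit false

namespace Cfsg.Agent.Lib.Helper27.Sz

open scoped commutatorElement
open Cfsg.Agent.Lib.Helper27.SzF

variable {K : Type*} {P : Type*} [Group K] [Group P] {ρ : K →* MulAut P} {N : Subgroup P}

/-- the irreducible case -/
theorem BData.caseI (b : BData ρ N) (hC : Subgroup.centralizer (N : Set P) ≤ N)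
    (hnone : ∀ H : Subgroup P, Inv ρ H → N < H → H = ⊤) : ∀ x : P, x * x ∈ Vs P := by
  have hreg := b.suz.reg_aV
  have hirr : Irred (aV ρ) (b.Dimg ⊤) :=
    b.irred hC (inv_top ρ) le_top (fun H' hH' hlt _ => hnone H' hH' hlt)
  intro x
  by_cases hxN : x ∈ N
  · exact b.sq x hxN
  have hD0 : b.D x ≠ 0 := fun h0 => hxN ((b.D_eq_zero_iff' hC x).mp h0)
  have hxx : x * x ∈ N := b.sq_mem hC x
  have hV : (x * x) * (x * x) ∈ Vs P := b.sq _ hxx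
  have h1 : b.D x (mkV _ hV) = 0 := by
    apply val_injective
    rw [b.val_D x hxx (mkV _ hV) rfl, val_zero, commutatorElement_eq_one_iff_commute]
    exact (Commute.refl x).mul_left (Commute.refl x)
  have h2 := hreg.inj_of_irred (b.act (inv_top ρ)) hirr (b.D_mem_Dimg (Subgroup.mem_top x)) hD0 h1
  rw [b.suz.mem_Vs_iff]
  have := congrArg val h2
  exact this

/-- the fixed vector of two commutator maps -/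
theorem BData.fix_left (b : BData ρ N) {h g : P} (hc : ⁅h, g⁆ ∈ N) (hg : g * g ∈ Vs P) :
    b.D g (mkV (⁅h, g⁆ * ⁅h, g⁆) (b.sq _ hc)) = mkV (⁅h, g⁆ * ⁅h, g⁆) (b.sq _ hc) := by
  apply val_injective
  rw [b.val_D g hc _ rfl, val_mkV]
  exact comm_comm_of_sq_central hg.1

theorem BData.fix_right (b : BData ρ N) {h g : P} (hc : ⁅h, g⁆ ∈ N) (hh : h * h ∈ Vs P) :
    b.D h (mkV (⁅h, g⁆ * ⁅h, g⁆) (b.sq _ hc)) = mkV (⁅h, g⁆ * ⁅h, g⁆) (b.sq _ hc) := by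
  apply val_injective
  have hc' : ⁅g, h⁆ ∈ N := by
    rw [← commutatorElement_inv]; exact N.inv_mem hc
  have hsq : ⁅g, h⁆ * ⁅g, h⁆ = ⁅h, g⁆ * ⁅h, g⁆ := by
    have h1 : ⁅g, h⁆ * ⁅g, h⁆ = (⁅h, g⁆ * ⁅h, g⁆)⁻¹ := by
      rw [← commutatorElement_inv h g]; group
    rw [h1, inv_eq_of_mem_Vs (b.sq _ hc)]
  rw [b.val_D h hc' _ (by rw [val_mkV]; exact hsq), val_mkV, ← hsq]
  exact comm_comm_of_sq_central hh.1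

/-- the reducible case -/
theorem BData.caseII (b : BData ρ N) (hVN : Vs P < N)
    (hC : Subgroup.centralizer (N : Set P) ≤ N)
    (ihSub : ∀ H : Subgroup P, Inv ρ H → H ≠ ⊤ → (∃ x ∈ H, ∃ y ∈ H, x * y ≠ y * x) →
      ∀ x ∈ H, x * x ∈ Vs P)
    {H₁ : Subgroup P} (hH₁ : Inv ρ H₁) (hNH₁ : N < H₁) (htop₁ : H₁ ≠ ⊤) :
    ∀ x : P, x * x ∈ Vs P := by
  have hreg := b.suz.reg_aV
  have hsq₁ := b.hig hC ihSub hH₁ hNH₁ htop₁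
  have hirr₁ : Irred (aV ρ) (b.Dimg H₁) :=
    b.irred hC hH₁ hNH₁.le (b.max_of_hig hVN hH₁ hNH₁ hsq₁)
  have hact₁ := b.act hH₁
  have hactT := b.act (inv_top ρ)
  obtain ⟨x₁, hx₁H, hx₁N⟩ := SetLike.exists_of_lt hNH₁
  have hx₁D : b.D x₁ ≠ 0 := fun h0 => hx₁N ((b.D_eq_zero_iff' hC x₁).mp h0)
  have hle : b.Dimg H₁ ≤ b.Dimg ⊤ := by
    rintro T ⟨x, -, rfl⟩
    exact b.D_mem_Dimg (Subgroup.mem_top x)
  obtain ⟨D₂, hD₂le, hA₂, hdisj, hsum⟩ :=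
    hreg.exists_compl hact₁ hirr₁ ⟨b.D x₁, b.D_mem_Dimg hx₁H, hx₁D⟩ hactT hle
  -- the second subgroup
  set H₂ : Subgroup P := b.pre ⊤ D₂ with hH₂def
  have hmem₂ : ∀ x : P, x ∈ H₂ ↔ b.D x ∈ D₂ := by
    intro x
    rw [hH₂def, b.mem_pre]
    exact ⟨fun hx => hx.2, fun hx => ⟨Subgroup.mem_top x, hx⟩⟩
  have hH₂ : Inv ρ H₂ := by
    intro k x hx
    rw [hmem₂] at hx ⊢
    rw [b.D_apply]
    exact hA₂.inv k _ hx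
  have hNH₂le : N ≤ H₂ := by
    intro n hn
    rw [hmem₂, (b.D_eq_zero_iff' hC n).mpr hn]
    exact D₂.zero_mem
  have htop₂ : H₂ ≠ ⊤ := by
    intro h0
    have : x₁ ∈ H₂ := by rw [h0]; exact Subgroup.mem_top _
    rw [hmem₂] at this
    exact hx₁D (hdisj _ (b.D_mem_Dimg hx₁H) this)
  -- every element is a product
  have hprod : ∀ x : P, ∃ h₁ ∈ H₁, ∃ h₂ ∈ H₂, x = h₁ * h₂ := by
    intro x
    obtain ⟨T₁, ⟨y₁, hy₁, rfl⟩, T₂, hT₂, hx⟩ := hsum _ (b.D_mem_Dimg (Subgroup.mem_top x))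
    obtain ⟨y₂, -, rfl⟩ := hD₂le hT₂
    rw [← b.D_mul, b.D_eq_iff' hC] at hx
    refine ⟨x * (y₁ * y₂)⁻¹ * y₁, H₁.mul_mem (hNH₁.le hx) hy₁, y₂, (hmem₂ y₂).mpr hT₂, by group⟩
  have hNH₂ : N < H₂ := by
    refine lt_of_le_of_ne hNH₂le ?_
    intro h0
    obtain ⟨x, hx⟩ : ∃ x : P, x ∉ H₁ := by
      by_contra hall
      push Not at hall
      exact htop₁ ((Subgroup.eq_top_iff' _).mpr hall)
    obtain ⟨h₁, hh₁, h₂, hh₂, rfl⟩ := hprod x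
    rw [← h0] at hh₂
    exact hx (H₁.mul_mem hh₁ (hNH₁.le hh₂))
  have hsq₂ := b.hig hC ihSub hH₂ hNH₂ htop₂
  have hirr₂ : Irred (aV ρ) (b.Dimg H₂) :=
    b.irred hC hH₂ hNH₂.le (b.max_of_hig hVN hH₂ hNH₂ hsq₂)
  have hact₂ := b.act hH₂
  -- commutators lie in `N`
  have hcN : ∀ h g : P, ⁅h, g⁆ ∈ N := by
    intro h g
    rw [← b.D_eq_zero_iff' hC, commutatorElement_def, b.D_mul, b.D_mul, b.D_mul, b.D_inv, b.D_inv]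
    have : b.D h + b.D g + b.D h + b.D g = (b.D h + b.D h) + (b.D g + b.D g) := by abel
    rw [this, b.D_add_self, b.D_add_self, add_zero]
  -- the key claim
  have key : ∀ h ∈ H₁, ∀ g ∈ H₂, ⁅h, g⁆ ∈ Vs P := by
    intro h₀ hh₀ g₀ hg₀
    by_contra hcon
    have hw₀ : mkV (⁅h₀, g₀⁆ * ⁅h₀, g₀⁆) (b.sq _ (hcN h₀ g₀)) ≠ 0 := by
      intro h0
      apply hcon
      rw [b.suz.mem_Vs_iff]
      exact congrArg val h0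
    set w₀ := mkV (⁅h₀, g₀⁆ * ⁅h₀, g₀⁆) (b.sq _ (hcN h₀ g₀)) with hw₀def
    have hh₀N : h₀ ∉ N := fun h0 => hcon (b.cen h₀ h0 g₀)
    have hg₀N : g₀ ∉ N := by
      intro h0
      apply hcon
      rw [← commutatorElement_inv]
      exact (Vs P).inv_mem (b.cen g₀ h0 h₀)
    have hDh₀ : b.D h₀ ≠ 0 := fun h0 => hh₀N ((b.D_eq_zero_iff' hC h₀).mp h0)
    have hDg₀ : b.D g₀ ≠ 0 := fun h0 => hg₀N ((b.D_eq_zero_iff' hC g₀).mp h0)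
    have hfixh₀ : b.D h₀ w₀ = w₀ := b.fix_right (hcN h₀ g₀) (hsq₁ h₀ hh₀)
    have hfixg₀ : b.D g₀ w₀ = w₀ := b.fix_left (hcN h₀ g₀) (hsq₂ g₀ hg₀)
    obtain ⟨k, hk⟩ := hreg.big
    have hg₁ : ρ k g₀ ∈ H₂ := hH₂ k g₀ hg₀
    have hDg₁ : b.D (ρ k g₀) ≠ 0 := by
      rw [b.D_apply]
      intro h0
      exact hDg₀ ((cj_eq_zero_iff k _).mp h0)
    have hDdiff : b.D (ρ k g₀) + b.D g₀ ≠ 0 := by
      intro h0
      apply hk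
      have h1 := eq_neg_of_add_eq_zero_left h0
      rw [hreg.neg_eq, b.D_apply] at h1
      exact hact₂.fpf k _ (b.D_mem_Dimg hg₀) h1 hDg₀
    set w₁ := mkV (⁅h₀, ρ k g₀⁆ * ⁅h₀, ρ k g₀⁆) (b.sq _ (hcN h₀ (ρ k g₀))) with hw₁def
    have hfixh₁ : b.D h₀ w₁ = w₁ := b.fix_right (hcN h₀ (ρ k g₀)) (hsq₁ h₀ hh₀)
    have hfixg₁ : b.D (ρ k g₀) w₁ = w₁ := b.fix_left (hcN h₀ (ρ k g₀)) (hsq₂ _ hg₁)
    by_cases hw₁ : w₁ = 0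
    · -- the commutator with `ρ k g₀` is an involution
      have hc₁V : ⁅h₀, ρ k g₀⁆ ∈ Vs P := by
        rw [b.suz.mem_Vs_iff]
        exact congrArg val hw₁
      have hcomm₂ : ⁅h₀, g₀ * ρ k g₀⁆ = ⁅h₀, g₀⁆ * ⁅h₀, ρ k g₀⁆ :=
        comm_mul_right_of_central hc₁V.1
      have hsq₂' : ⁅h₀, g₀ * ρ k g₀⁆ * ⁅h₀, g₀ * ρ k g₀⁆ = ⁅h₀, g₀⁆ * ⁅h₀, g₀⁆ := by
        rw [hcomm₂]
        have h1 := comm_of_mem_Vs hc₁V ⁅h₀, g₀⁆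
        calc ⁅h₀, g₀⁆ * ⁅h₀, ρ k g₀⁆ * (⁅h₀, g₀⁆ * ⁅h₀, ρ k g₀⁆)
            = ⁅h₀, g₀⁆ * (⁅h₀, ρ k g₀⁆ * ⁅h₀, g₀⁆) * ⁅h₀, ρ k g₀⁆ := by group
          _ = ⁅h₀, g₀⁆ * (⁅h₀, g₀⁆ * ⁅h₀, ρ k g₀⁆) * ⁅h₀, ρ k g₀⁆ := by rw [h1]
          _ = ⁅h₀, g₀⁆ * ⁅h₀, g₀⁆ * (⁅h₀, ρ k g₀⁆ * ⁅h₀, ρ k g₀⁆) := by group
          _ = ⁅h₀, g₀⁆ * ⁅h₀, g₀⁆ := by rw [hc₁V.2, mul_one]
      have hfix₂ := b.fix_left (hcN h₀ (g₀ * ρ k g₀)) (hsq₂ _ (H₂.mul_mem hg₀ hg₁))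
      have hw₂ : mkV (⁅h₀, g₀ * ρ k g₀⁆ * ⁅h₀, g₀ * ρ k g₀⁆) (b.sq _ (hcN h₀ (g₀ * ρ k g₀))) = w₀ :=
        val_injective hsq₂'
      rw [hw₂, b.D_mul] at hfix₂
      have h3 : b.D g₀ w₀ + b.D (ρ k g₀) w₀ = w₀ := hfix₂
      rw [hfixg₀] at h3
      have h4 : b.D (ρ k g₀) w₀ = 0 := add_eq_left.mp h3
      exact hw₀ (hreg.inj_of_irred hact₂ hirr₂ (b.D_mem_Dimg hg₁) hDg₁ h4)
    · have h1 : w₀ = w₁ :=
        hreg.fix_unique hact₁ hirr₁ (b.D_mem_Dimg hh₀) hDh₀ hfixh₀ hfixh₁ hw₀ hw₁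
      rw [← h1] at hfixg₁
      have h2 : (b.D (ρ k g₀) + b.D g₀) w₀ = 0 := by
        show b.D (ρ k g₀) w₀ + b.D g₀ w₀ = 0
        rw [hfixg₁, hfixg₀]
        exact hreg.two w₀
      have h3 : b.D (ρ k g₀) + b.D g₀ ∈ b.Dimg H₂ :=
        (b.Dimg H₂).add_mem (b.D_mem_Dimg hg₁) (b.D_mem_Dimg hg₀)
      exact hw₀ (hreg.inj_of_irred hact₂ hirr₂ h3 hDdiff h2)
  intro x
  obtain ⟨h₁, hh₁, h₂, hh₂, rfl⟩ := hprod x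
  have hc : ⁅h₂, h₁⁆ ∈ Vs P := by
    rw [← commutatorElement_inv]
    exact (Vs P).inv_mem (key h₁ hh₁ h₂ hh₂)
  rw [sq_mul_of_comm_central hc.1]
  exact (Vs P).mul_mem ((Vs P).mul_mem hc (hsq₁ h₁ hh₁)) (hsq₂ h₂ hh₂)

/-- Case B, abelian subcase -/
theorem Suz.caseB_ab (h : Suz ρ) (hN : Inv ρ N) (hVN : Vs P < N)
    (hsq : ∀ n ∈ N, n * n ∈ Vs P) (hcen : ∀ n ∈ N, ∀ g : P, ⁅n, g⁆ ∈ Vs P)
    (hmin : ∀ H : Subgroup P, Inv ρ H → Vs P < H → H ≤ N → H = N)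
    (hab : ∀ n ∈ N, ∀ n' ∈ N, n * n' = n' * n)
    (hZ : ∀ z ∈ Subgroup.center P, z ∈ Vs P)
    (ihSub : ∀ H : Subgroup P, Inv ρ H → H ≠ ⊤ → (∃ x ∈ H, ∃ y ∈ H, x * y ≠ y * x) →
      ∀ x ∈ H, x * x ∈ Vs P) : ∀ x : P, x * x ∈ Vs P := by
  have b := h.bdata hN hVN hsq hcen hab
  have hC := b.centralizer_le hVN hmin hZ ihSub
  by_cases hex : ∃ H₁ : Subgroup P, Inv ρ H₁ ∧ N < H₁ ∧ H₁ ≠ ⊤
  · obtain ⟨H₁, hH₁, hNH₁, htop₁⟩ := hex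
    exact b.caseII hVN hC ihSub hH₁ hNH₁ htop₁
  · push Not at hex
    exact b.caseI hC (fun H hH hlt => hex H hH hlt)

end Cfsg.Agent.Lib.Helper27.Sz
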