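import Mathlib
import Cfsg.Agent.Lib.Helper27.SzGrpA
import Cfsg.Agent.Lib.Helper27.SzGrpB4

/-!
# Higman's theorem on Suzuki 2-groups
-/

set_option autoImplicit false

universe u v

namespace Cfsg.Agent.Lib.Helper27.Sz

open scoped commutatorElement

/-- the main induction -/
theorem sq_mem_aux (K : Type u) [Group K] : ∀ n : ℕ, ∀ (P : Type v) [Group P]
    (ρ : K →* MulAut P), Suz ρ → Nat.card P = n → (∃ x y : P, x * y ≠ y * x) →
    ∀ x : P, x * x ∈ Vs P := by
  intro n
  induction n using Nat.strong_induction_on with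
  | _ n ih =>
    intro P _ ρ h hcard hna
    haveI := h.fin
    -- the induction hypothesis for subgroups
    have ihSub : ∀ H : Subgroup P, Inv ρ H → H ≠ ⊤ → (∃ x ∈ H, ∃ y ∈ H, x * y ≠ y * x) →
        ∀ x ∈ H, x * x ∈ Vs P := by
      intro H hH htop hnaH x hx
      have hne : H ≠ ⊥ := by
        rintro rfl
        obtain ⟨a, ha, b, hb, hab⟩ := hnaH
        rw [Subgroup.mem_bot] at ha hb
        rw [ha, hb] at hab
        exact hab rfl
      have hlt : Nat.card H < n := by
        rw [← hcard]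
        by_contra hle
        push Not at hle
        exact htop (Subgroup.eq_top_of_le_card _ hle)
      have hnaH' : ∃ a b : H, a * b ≠ b * a := by
        obtain ⟨a, ha, b, hb, hab⟩ := hnaH
        exact ⟨⟨a, ha⟩, ⟨b, hb⟩, fun h0 => hab (congrArg Subtype.val h0)⟩
      have h1 := ih (Nat.card H) hlt H (resAct ρ H hH) (h.sub hH hne) rfl hnaH' ⟨x, hx⟩
      exact (h.mem_Vs_sub_iff hH hne _).mp h1
    -- the induction hypothesis for the quotient
    have ihQ : Suz (quotAct ρ (Vs P) (inv_Vs ρ)) → (∃ a b : P ⧸ Vs P, a * b ≠ b * a) →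
        ∀ a : P ⧸ Vs P, a * a ∈ Vs (P ⧸ Vs P) := by
      intro hQ hnaQ
      have hlt : Nat.card (P ⧸ Vs P) < n := by
        rw [← hcard, ← Subgroup.index_eq_card, ← (Vs P).card_mul_index]
        obtain ⟨m, hm2, hm⟩ := h.exists_card_Vs
        have h4 : 2 ≤ Nat.card (Vs P) := by
          rw [hm]
          calc 2 = 2 ^ 1 := by norm_num
            _ ≤ 2 ^ m := Nat.pow_le_pow_right (by norm_num) (by omega)
        have hpos : 0 < (Vs P).index := Nat.pos_of_ne_zero Subgroup.index_ne_zero_of_finite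
        nlinarith
      exact ih _ hlt (P ⧸ Vs P) _ hQ rfl hnaQ
    by_cases hz : ∃ z ∈ Subgroup.center P, z ∉ Vs P
    · exact absurd (h.caseA hna ihQ hz) id
    push Not at hz
    have hne : ∃ x : P, x ∉ Vs P := by
      obtain ⟨x, y, hxy⟩ := hna
      refine ⟨x, fun hx => hxy ?_⟩
      exact (comm_of_mem_Vs hx y).symm
    obtain ⟨N, hN, hVN, hsq, hcen, hmin⟩ := h.exists_minimal hne
    by_cases hab : ∀ n ∈ N, ∀ n' ∈ N, n * n' = n' * n
    · exact h.caseB_ab hN hVN hsq hcen hmin hab hz ihSub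
    · push Not at hab
      exact h.caseB_nonab hN hVN hsq hcen hmin hab

variable {K : Type u} {P : Type v} [Group K] [Group P] {ρ : K →* MulAut P}

/-- **Higman**: in a nonabelian Suzuki 2-group all squares are involutions -/
theorem Suz.sq_mem (h : Suz ρ) (hna : ∃ x y : P, x * y ≠ y * x) (x : P) : x * x ∈ Vs P :=
  sq_mem_aux K _ P ρ h rfl hna x

/-- **Higman**: in a nonabelian Suzuki 2-group the centre consists of the involutions -/
theorem Suz.center_le (h : Suz ρ) (hna : ∃ x y : P, x * y ≠ y * x) :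
    ∀ z ∈ Subgroup.center P, z ∈ Vs P := by
  by_contra hz
  push Not at hz
  exact h.caseA hna (fun hQ hnaQ a => hQ.sq_mem hnaQ a) hz

/-- **Higman**: commutators are involutions -/
theorem Suz.comm_mem (h : Suz ρ) (hna : ∃ x y : P, x * y ≠ y * x) (x y : P) : ⁅x, y⁆ ∈ Vs P :=
  comm_mem_Vs_of_sq (h.sq_mem hna) x y

/-- **Higman**: the order -/
theorem Suz.card_eq (h : Suz ρ) (hna : ∃ x y : P, x * y ≠ y * x) :
    Nat.card P = (Nat.card K + 1) ^ 2 ∨ Nat.card P = (Nat.card K + 1) ^ 3 := by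
  apply h.card_of_sq_mem (h.sq_mem hna)
  obtain ⟨x, y, hxy⟩ := hna
  exact ⟨x, fun hx => hxy (comm_of_mem_Vs hx y).symm⟩

end Cfsg.Agent.Lib.Helper27.Sz
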