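import Mathlib
import Cfsg.Agent.Lib.Lead.W2P.Defs

/-!
# Project W2P, piece PERSUM : `per φ 1 = f` and `∑_{x ∈ P} per φ x = 0`
-/

set_option autoImplicit false
set_option linter.unusedVariables false
set_option linter.unusedSectionVars false
open scoped ComplexConjugate
open Classical

namespace Cfsg.Agent.Lib.Lead.W2P

open MulAction Cfsg.Agent.Lib.helper6.PermChar Cfsg.Agent.Lib.Helper25

universe u v

section C

variable {G : Type u} [Group G] [Fintype G] {p : ℕ} [Fact p.Prime] {P : Subgroup G}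

/-- the sum over `P` of a non-trivial linear character of `P` vanishes -/
theorem w2ppersum_sum_zero {ψ : G → ℂ} (hmul : ∀ x ∈ P, ∀ y ∈ P, ψ (x * y) = ψ x * ψ y)
    (hnt : ∃ x ∈ P, ψ x ≠ 1) : ∑ x : ↥P, ψ (x : G) = 0 := by
  obtain ⟨x₀, hx₀, hne⟩ := hnt
  have h1 : ∑ x : ↥P, ψ (x : G) = ψ x₀ * ∑ x : ↥P, ψ (x : G) := by
    rw [Finset.mul_sum]
    rw [← Equiv.sum_comp (Equiv.mulLeft (⟨x₀, hx₀⟩ : ↥P)) (fun x : ↥P => ψ (x : G))]
    refine Finset.sum_congr rfl fun x _ => ?_
    simp only [Equiv.coe_mulLeft, Subgroup.coe_mul]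
    exact hmul x₀ hx₀ x x.2
  have h2 : (1 - ψ x₀) * ∑ x : ↥P, ψ (x : G) = 0 := by
    rw [sub_mul, one_mul, ← h1, sub_self]
  rcases mul_eq_zero.mp h2 with h | h
  · exact absurd (sub_eq_zero.mp h).symm hne
  · exact h

/-- conjugation by an element of `N_G(P)` permutes `P` -/
theorem w2ppersum_conj_mem {n : G} (hn : n ∈ Subgroup.normalizer (P : Set G)) {x : G} (hx : x ∈ P) :
    n⁻¹ * x * n ∈ P := by
  have := (Subgroup.mem_normalizer_iff.mp (Subgroup.inv_mem _ hn) x).mp hx
  rwa [inv_inv] at this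

/-- reindexing a sum over `P` by conjugation with an element of `N_G(P)` -/
theorem w2ppersum_conj_sum {n : G} (hn : n ∈ Subgroup.normalizer (P : Set G)) (F : G → ℂ) :
    ∑ x : ↥P, F (n⁻¹ * (x : G) * n) = ∑ x : ↥P, F (x : G) := by
  have hn' : n⁻¹ ∈ Subgroup.normalizer (P : Set G) := Subgroup.inv_mem _ hn
  let e : ↥P ≃ ↥P :=
    { toFun := fun x => ⟨n⁻¹ * (x : G) * n, w2ppersum_conj_mem hn x.2⟩
      invFun := fun x => ⟨n * (x : G) * n⁻¹, by
        have := w2ppersum_conj_mem hn' x.2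
        rwa [inv_inv] at this⟩
      left_inv := fun x => by
        apply Subtype.ext
        simp only
        group
      right_inv := fun x => by
        apply Subtype.ext
        simp only
        group }
  exact Equiv.sum_comp e (fun x : ↥P => F (x : G))

/-- `|C_G(P)| · f = |N_G(P)|` -/
theorem w2ppersum_card (P : Subgroup G) :
    Nat.card (Subgroup.centralizer (P : Set G)) * fIdx P =
      Nat.card (Subgroup.normalizer (P : Set G)) := by
  unfold fIdx Subgroup.relIndex
  have hle : Subgroup.centralizer (P : Set G) ≤ Subgroup.normalizer (P : Set G) :=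
    Subgroup.centralizer_le_normalizer _
  rw [← Subgroup.card_mul_index
    ((Subgroup.centralizer (P : Set G)).subgroupOf (Subgroup.normalizer (P : Set G)))]
  congr 1
  exact (Nat.card_congr (Subgroup.subgroupOfEquivOfLe hle).toEquiv).symm

/-- PERSUM : `per φ 1 = f` and `∑_{x ∈ P} per φ x = 0` -/
theorem per_one_sum (hP : Nat.card P = p) {φ : G → ℂ} (hφ : IsPChar P φ) (hnt : ∃ x ∈ P, φ x ≠ 1) :
    per P φ 1 = (fIdx P : ℂ) ∧ ∑ x : ↥P, per P φ (x : G) = 0 := by
  have hC0 : (Nat.card (Subgroup.centralizer (P : Set G)) : ℂ) ≠ 0 := by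
    exact_mod_cast Nat.card_pos.ne'
  constructor
  · unfold per
    have h1 : ∀ n : ↥(Subgroup.normalizer (P : Set G)), φ ((n : G)⁻¹ * 1 * (n : G)) = 1 := by
      intro n
      rw [mul_one, inv_mul_cancel, hφ.one]
    rw [Finset.sum_congr rfl (fun n _ => h1 n), Finset.sum_const, Finset.card_univ, nsmul_eq_mul,
      mul_one, ← Nat.card_eq_fintype_card, ← w2ppersum_card P, Nat.cast_mul]
    field_simp
  · unfold per
    rw [← Finset.mul_sum, Finset.sum_comm]
    have h2 : ∀ n : ↥(Subgroup.normalizer (P : Set G)),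
        ∑ x : ↥P, φ ((n : G)⁻¹ * (x : G) * (n : G)) = 0 := by
      intro n
      rw [w2ppersum_conj_sum n.2 φ]
      exact w2ppersum_sum_zero hφ.mul hnt
    simp only [h2, Finset.sum_const_zero, mul_zero]

end C

end Cfsg.Agent.Lib.Lead.W2P
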