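import Mathlib
import Cfsg.Agent.Lib.Lead.W2P.Defs
import Cfsg.Agent.Lib.Helper27.W2PPERSUM

/-!
# Project W2P, piece PERSELF : `⟨per φ, φ⟩_P = 1`
-/

set_option autoImplicit false
set_option linter.unusedVariables false
set_option linter.unusedSectionVars false
open scoped ComplexConjugate
open Classical

namespace Cfsg.Agent.Lib.Lead.W2P

open MulAction Cfsg.Agent.Lib.helper6.PermChar Cfsg.Agent.Lib.Helper25

universe u v

section C

variable {G : Type u} [Group G] [Fintype G] {p : ℕ} [Fact p.Prime] {P : Subgroup G}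

/-- `φ (x ^ k) = φ x ^ k` on `P` -/
theorem w2pperself_pow {φ : G → ℂ} (hφ : IsPChar P φ) {x : G} (hx : x ∈ P) (k : ℕ) :
    φ (x ^ k) = φ x ^ k := by
  induction k with
  | zero => rw [pow_zero, pow_zero, hφ.one]
  | succ k ih => rw [pow_succ, pow_succ, hφ.mul _ (P.pow_mem hx k) _ hx, ih]

/-- `φ x ^ p = 1` on `P` -/
theorem w2pperself_pow_card (hP : Nat.card P = p) {φ : G → ℂ} (hφ : IsPChar P φ) {x : G}
    (hx : x ∈ P) : φ x ^ p = 1 := by
  rw [← w2pperself_pow hφ hx]
  have h1 : (⟨x, hx⟩ : ↥P) ^ p = 1 := by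
    rw [← hP]
    exact pow_card_eq_one'
  have h2 : x ^ p = 1 := by
    have := congrArg Subtype.val h1
    simpa using this
  rw [h2, hφ.one]

/-- `φ x · conj (φ x) = 1` on `P` -/
theorem w2pperself_mul_conj (hP : Nat.card P = p) {φ : G → ℂ} (hφ : IsPChar P φ) {x : G}
    (hx : x ∈ P) : φ x * conj (φ x) = 1 := by
  have hp : p.Prime := Fact.out
  have hn := Complex.norm_eq_one_of_pow_eq_one (w2pperself_pow_card hP hφ hx) hp.ne_zero
  rw [Complex.mul_conj, Complex.normSq_eq_norm_sq, hn]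
  norm_num

/-- a non-trivial linear character of a group of prime order is injective: trivial kernel -/
theorem w2pperself_ker (hP : Nat.card P = p) {φ : G → ℂ} (hφ : IsPChar P φ)
    (hnt : ∃ x ∈ P, φ x ≠ 1) {x : G} (hx : x ∈ P) (h1 : φ x = 1) : x = 1 := by
  by_contra hne
  obtain ⟨y, hy, hy1⟩ := hnt
  apply hy1
  have hne' : (⟨x, hx⟩ : ↥P) ≠ 1 := fun h => hne (congrArg Subtype.val h)
  have := mem_powers_of_prime_card hP hne' (g' := ⟨y, hy⟩)
  obtain ⟨k, hk⟩ := Submonoid.mem_powers_iff _ _ |>.mp this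
  have hk' : x ^ k = y := by
    have := congrArg Subtype.val hk
    simpa using this
  rw [← hk', w2pperself_pow hφ hx, h1, one_pow]

/-- the inner sum: `∑_x φ(n⁻¹ x n) conj φ(x) = p` for `n ∈ C_G(P)` and `0` for `n ∈ N_G(P) ∖ C_G(P)` -/
theorem w2pperself_inner (hP : Nat.card P = p) {φ : G → ℂ} (hφ : IsPChar P φ)
    (hnt : ∃ x ∈ P, φ x ≠ 1) {n : G} (hn : n ∈ Subgroup.normalizer (P : Set G)) :
    ∑ x : ↥P, φ (n⁻¹ * (x : G) * n) * conj (φ (x : G)) =
      if n ∈ Subgroup.centralizer (P : Set G) then (p : ℂ) else 0 := by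
  split_ifs with hc
  · have h1 : ∀ x : ↥P, φ (n⁻¹ * (x : G) * n) * conj (φ (x : G)) = 1 := by
      intro x
      have hcomm : n⁻¹ * (x : G) * n = (x : G) := by
        have := (Subgroup.mem_centralizer_iff.mp hc) (x : G) x.2
        rw [mul_assoc, this, ← mul_assoc, inv_mul_cancel, one_mul]
      rw [hcomm]
      exact w2pperself_mul_conj hP hφ x.2
    rw [Finset.sum_congr rfl (fun x _ => h1 x), Finset.sum_const, Finset.card_univ, nsmul_eq_mul,
      mul_one, ← Nat.card_eq_fintype_card, hP]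
  · apply w2ppersum_sum_zero (P := P) (ψ := fun x => φ (n⁻¹ * x * n) * conj (φ x))
    · intro x hx y hy
      have hxy : n⁻¹ * (x * y) * n = (n⁻¹ * x * n) * (n⁻¹ * y * n) := by group
      rw [hxy, hφ.mul _ (w2ppersum_conj_mem hn hx) _ (w2ppersum_conj_mem hn hy), hφ.mul x hx y hy,
        map_mul]
      ring
    · by_contra hall
      push Not at hall
      apply hc
      rw [Subgroup.mem_centralizer_iff]
      intro x hx
      have h1 := hall x hx
      have h2 : φ (n⁻¹ * x * n) = φ x := by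
        have h3 := w2pperself_mul_conj hP hφ hx
        calc φ (n⁻¹ * x * n) = φ (n⁻¹ * x * n) * (φ x * conj (φ x)) := by rw [h3, mul_one]
          _ = (φ (n⁻¹ * x * n) * conj (φ x)) * φ x := by ring
          _ = φ x := by rw [h1, one_mul]
      have hxinv : x⁻¹ ∈ P := P.inv_mem hx
      have h4 : φ (n⁻¹ * x * n * x⁻¹) = 1 := by
        rw [hφ.mul _ (w2ppersum_conj_mem hn hx) _ hxinv, h2, ← hφ.mul x hx _ hxinv, mul_inv_cancel,
          hφ.one]
      have h5 := w2pperself_ker hP hφ hnt (P.mul_mem (w2ppersum_conj_mem hn hx) hxinv) h4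
      have h6 : n⁻¹ * x * n = x := by
        have := mul_inv_eq_one.mp h5
        exact this
      calc x * n = n * (n⁻¹ * x * n) := by group
        _ = n * x := by rw [h6]

/-- PERSELF : `⟨per φ, φ⟩_P = 1` -/
theorem per_inner_self (hP : Nat.card P = p) {φ : G → ℂ} (hφ : IsPChar P φ) (hnt : ∃ x ∈ P, φ x ≠ 1) :
    ∑ x : ↥P, per P φ (x : G) * conj (φ (x : G)) = (p : ℂ) := by
  have hC0 : (Nat.card (Subgroup.centralizer (P : Set G)) : ℂ) ≠ 0 := by
    exact_mod_cast Nat.card_pos.ne'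
  have hle : Subgroup.centralizer (P : Set G) ≤ Subgroup.normalizer (P : Set G) :=
    Subgroup.centralizer_le_normalizer _
  unfold per
  have h1 : ∀ x : ↥P, (Nat.card (Subgroup.centralizer (P : Set G)) : ℂ)⁻¹ *
        (∑ n : ↥(Subgroup.normalizer (P : Set G)), φ ((n : G)⁻¹ * (x : G) * (n : G))) *
        conj (φ (x : G)) =
      (Nat.card (Subgroup.centralizer (P : Set G)) : ℂ)⁻¹ *
        ∑ n : ↥(Subgroup.normalizer (P : Set G)),
          φ ((n : G)⁻¹ * (x : G) * (n : G)) * conj (φ (x : G)) := by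
    intro x
    rw [mul_assoc, Finset.sum_mul]
  rw [Finset.sum_congr rfl (fun x _ => h1 x), ← Finset.mul_sum, Finset.sum_comm]
  rw [Finset.sum_congr rfl (fun n _ => w2pperself_inner hP hφ hnt n.2)]
  -- count the elements of `N` lying in `C`
  have hcount : ∑ n : ↥(Subgroup.normalizer (P : Set G)),
      (if (n : G) ∈ Subgroup.centralizer (P : Set G) then (p : ℂ) else 0) =
      (Nat.card (Subgroup.centralizer (P : Set G)) : ℂ) * (p : ℂ) := by
    rw [← Finset.sum_filter, Finset.sum_const, nsmul_eq_mul]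
    congr 1
    rw [Nat.card_eq_fintype_card, ← Fintype.card_subtype]
    norm_cast
    exact Fintype.card_congr
      { toFun := fun n => ⟨(n.1 : G), n.2⟩
        invFun := fun c => ⟨⟨(c : G), hle c.2⟩, c.2⟩
        left_inv := fun n => rfl
        right_inv := fun c => rfl }
  rw [hcount]
  field_simp

end C

end Cfsg.Agent.Lib.Lead.W2P
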