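import Mathlib
import Cfsg.Agent.Lib.Lead.W2P.Defs
import Cfsg.Agent.Lib.helper7.BD.RootMain
import Cfsg.Agent.Lib.Helper13.BD4VALXY
import Cfsg.Agent.Lib.helper15.BH.BT4
import Cfsg.Agent.Lib.Helper24.FSDefZero

/-!
# Project W2P, piece CLASSIFY (core) : every irreducible character is of type (b) or (c),
with the statements of CLASSX and CLASSY as hypotheses
-/

set_option autoImplicit false
set_option linter.unusedVariables false
set_option linter.unusedSectionVars false
open scoped ComplexConjugate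
open Classical

namespace Cfsg.Agent.Lib.Lead.W2P

open MulAction Cfsg.Agent.Lib.helper6.PermChar Cfsg.Agent.Lib.Helper25

universe u v

section B

open Cfsg.Agent.Lib.helper7.BD

variable {G : Type u} [Group G] [Fintype G] {p : ℕ} [Fact p.Prime]

/-- the defect zero case: `p ∣ χ(1)` forces `χ = 0` on `P ∖ 1` -/
theorem w2pclassify_zero (P : Sylow p G) (hP : Nat.card (P : Subgroup G) = p)
    (χ : Cfsg.IrrCharacter G) (hdvd : p ∣ Cfsg.charDegree (χ : G → ℂ)) :
    TypeB (P : Subgroup G) (χ : G → ℂ) := by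
  have hp : p.Prime := Fact.out
  have hfac : (Nat.card G).factorization p = 1 := by
    have h1 := P.card_eq_multiplicity
    rw [hP] at h1
    have h2 : p ^ 1 = p ^ (Nat.card G).factorization p := by rw [pow_one]; exact h1
    exact (Nat.pow_right_injective hp.two_le h2).symm
  refine ⟨0, ?_⟩
  intro x hx hx1
  rw [Int.cast_zero]
  apply Cfsg.Agent.Lib.Helper24.fz_vanish χ p hp
  · rw [hfac, pow_one]
    exact hdvd
  · -- `x` has order `p`
    have hne : (⟨x, hx⟩ : ↥(P : Subgroup G)) ≠ 1 := fun h => hx1 (congrArg Subtype.val h)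
    have h1 : orderOf (⟨x, hx⟩ : ↥(P : Subgroup G)) = p := by
      have hdvd' : orderOf (⟨x, hx⟩ : ↥(P : Subgroup G)) ∣ p := by
        have := orderOf_dvd_natCard (⟨x, hx⟩ : ↥(P : Subgroup G))
        rwa [hP] at this
      rcases (Nat.dvd_prime hp).mp hdvd' with h | h
      · exact absurd (orderOf_eq_one_iff.mp h) hne
      · exact h
    rw [Subgroup.orderOf_mk] at h1
    rw [h1]

/-- CLASSIFY with the statements of CLASSX and CLASSY as hypotheses -/
theorem w2pclassify_core
    (hX : ∀ {M : Ideal Cfsg.AlgInt} {P : Sylow p G} {B : Set (Cfsg.IrrCharacter G)}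
      {b : Set (Cfsg.IrrCharacter (Subgroup.centralizer ((P : Subgroup G) : Set G)))}
      {θ : Cfsg.IrrCharacter (Subgroup.centralizer ((P : Subgroup G) : Set G))} {T : Subgroup G}
      (h : RootHyp p M P B b θ T) {t : ℕ}
      (r : Fin t → Cfsg.IrrCharacter (Subgroup.centralizer ((P : Subgroup G) : Set G)))
      (hr : IsReps P b θ T ((Subgroup.centralizer ((P : Subgroup G) : Set G)).relIndex T) t r)
      (χ : Cfsg.IrrCharacter G) (hχ : χ ∈ B) (ε : ℤ)
      (hmul : ∀ j,
        Cfsg.classInner (r j : ↥(Subgroup.centralizer ((P : Subgroup G) : Set G)) → ℂ)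
            (fun c : ↥(Subgroup.centralizer ((P : Subgroup G) : Set G)) => (χ : G → ℂ) (c : G)) -
          Cfsg.classInner (θ : ↥(Subgroup.centralizer ((P : Subgroup G) : Set G)) → ℂ)
            (fun c : ↥(Subgroup.centralizer ((P : Subgroup G) : Set G)) => (χ : G → ℂ) (c : G)) =
          ((ε : ℤ) : ℂ)),
      TypeB (P : Subgroup G) (χ : G → ℂ))
    (hY : ∀ {M : Ideal Cfsg.AlgInt} {P : Sylow p G} {B : Set (Cfsg.IrrCharacter G)}
      {b : Set (Cfsg.IrrCharacter (Subgroup.centralizer ((P : Subgroup G) : Set G)))}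
      {θ : Cfsg.IrrCharacter (Subgroup.centralizer ((P : Subgroup G) : Set G))} {T : Subgroup G}
      (h : RootHyp p M P B b θ T) {t : ℕ}
      (r : Fin t → Cfsg.IrrCharacter (Subgroup.centralizer ((P : Subgroup G) : Set G)))
      (hr : IsReps P b θ T ((Subgroup.centralizer ((P : Subgroup G) : Set G)).relIndex T) t r)
      (y : Fin t → Cfsg.IrrCharacter G) (hy : Function.Injective y) (hyB : ∀ j, y j ∈ B) (ε : ℤ)
      (hε : ε = 1 ∨ ε = -1)
      (hmul : ∀ j j',
        Cfsg.classInner (r j' : ↥(Subgroup.centralizer ((P : Subgroup G) : Set G)) → ℂ)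
            (fun c : ↥(Subgroup.centralizer ((P : Subgroup G) : Set G)) => (y j : G → ℂ) (c : G)) -
          Cfsg.classInner (θ : ↥(Subgroup.centralizer ((P : Subgroup G) : Set G)) → ℂ)
            (fun c : ↥(Subgroup.centralizer ((P : Subgroup G) : Set G)) => (y j : G → ℂ) (c : G)) =
          if j = j' then ((ε : ℤ) : ℂ) else 0)
      (hreg : ∀ j j', ∀ g : G, ¬ p ∣ orderOf g → (y j : G → ℂ) g = (y j' : G → ℂ) g) (j : Fin t),
      TypeB (P : Subgroup G) (y j : G → ℂ) ∨ TypeC p (P : Subgroup G) (y j))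
    (hodd : p ≠ 2) (P : Sylow p G) (hP : Nat.card (P : Subgroup G) = p)
    (χ : Cfsg.IrrCharacter G) : TypeB (P : Subgroup G) (χ : G → ℂ) ∨ TypeC p (P : Subgroup G) χ := by
  have hp : p.Prime := Fact.out
  have : Fintype (Cfsg.IrrCharacter G) := Fintype.ofFinite _
  obtain ⟨M, hM⟩ := Cfsg.Agent.Lib.helper2.exists_isPModular p hp
  have hB : Cfsg.IsPBlock M (Cfsg.blockOf M (χ : G → ℂ)) := ⟨χ, rfl⟩
  have hχB : χ ∈ Cfsg.blockOf M (χ : G → ℂ) :=
    Cfsg.Agent.Lib.helper7.h7_sameBlock_refl hM.2.1.isPrime (χ : G → ℂ)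
  have hfac : (Nat.card G).factorization p = 1 := by
    have h1 := P.card_eq_multiplicity
    rw [hP] at h1
    have h2 : p ^ 1 = p ^ (Nat.card G).factorization p := by rw [pow_one]; exact h1
    exact (Nat.pow_right_injective hp.two_le h2).symm
  by_cases hd : 0 < Cfsg.blockDefect p (Cfsg.blockOf M (χ : G → ℂ))
  · obtain ⟨b, θ, T, h⟩ := Cfsg.Agent.Lib.helper15.BH.bt4_root_exists_of_sylow hM P hP _ hB hd
    obtain ⟨t, r, X, y, ε, hr, hBXY, hdisj, hcardX, hyinj, hcardB, hεpm, hεy, hmX, hmY, hdegX,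
      hdegY, hreg⟩ := root_main h
    have hχB' := hχB
    rw [hBXY] at hχB'
    rcases hχB' with hχX | ⟨j, hj⟩
    · left
      exact hX h r hr χ hχB (ε χ) (hmX χ hχX)
    · rw [← hj]
      have hyB : ∀ j', y j' ∈ Cfsg.blockOf M (χ : G → ℂ) := by
        intro j'
        rw [hBXY]
        exact Or.inr ⟨j', rfl⟩
      have hmul : ∀ j₁ j',
          Cfsg.classInner (r j' : ↥(Subgroup.centralizer ((P : Subgroup G) : Set G)) → ℂ)
              (fun c : ↥(Subgroup.centralizer ((P : Subgroup G) : Set G)) =>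
                (y j₁ : G → ℂ) (c : G)) -
            Cfsg.classInner (θ : ↥(Subgroup.centralizer ((P : Subgroup G) : Set G)) → ℂ)
              (fun c : ↥(Subgroup.centralizer ((P : Subgroup G) : Set G)) =>
                (y j₁ : G → ℂ) (c : G)) =
            if j₁ = j' then ((ε (y j) : ℤ) : ℂ) else 0 := by
        intro j₁ j'
        rw [hmY j₁ j', hεy j₁ j]
      have hreg' : ∀ j₁ j₂, ∀ g : G, ¬ p ∣ orderOf g → (y j₁ : G → ℂ) g = (y j₂ : G → ℂ) g := by
        intro j₁ j₂ g hg
        have h1 := hreg j₁ g hg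
        have h2 := hreg j₂ g hg
        rw [hεy j₁ j] at h1
        rw [hεy j₂ j] at h2
        have h3 : ((ε (y j) : ℤ) : ℂ) * (y j₁ : G → ℂ) g = ((ε (y j) : ℤ) : ℂ) * (y j₂ : G → ℂ) g := by
          have := h1.trans h2.symm
          exact add_left_cancel this
        have hε0 : ((ε (y j) : ℤ) : ℂ) ≠ 0 := by
          rcases hεpm (y j) with h | h <;> rw [h] <;> norm_num
        exact mul_left_cancel₀ hε0 h3
      exact hY h r hr y hyinj hyB (ε (y j)) (hεpm (y j)) hmul hreg' j
  · left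
    apply w2pclassify_zero P hP χ
    -- `p ∣ χ(1)` from defect zero
    have hd0 : Cfsg.blockDefect p (Cfsg.blockOf M (χ : G → ℂ)) = 0 := by omega
    unfold Cfsg.blockDefect at hd0
    rw [hfac] at hd0
    have hle := Nat.sInf_le (s := (fun ψ : Cfsg.IrrCharacter G =>
      (Cfsg.charDegree (ψ : G → ℂ)).factorization p) '' Cfsg.blockOf M (χ : G → ℂ))
      (Set.mem_image_of_mem _ hχB)
    have h1 : 1 ≤ (Cfsg.charDegree (χ : G → ℂ)).factorization p := by
      omega
    exact Nat.dvd_of_factorization_pos (by omega)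

end B

end Cfsg.Agent.Lib.Lead.W2P
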