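import Mathlib
import Cfsg.Agent.Lib.Lead.W2P.Defs
import Cfsg.Agent.Lib.helper7.BD.RootMain
import Cfsg.Agent.Lib.Helper13.BD4VALXY
import Cfsg.Agent.Lib.Helper27.W2PCLASSIFYcore
import Cfsg.Agent.Lib.Helper25.W2PCLASSX
import Cfsg.Agent.Lib.Helper25.W2PCLASSY

/-!
# Project W2P, piece CLASSIFY : every irreducible character is of type (b) or (c)
-/

set_option autoImplicit false
set_option linter.unusedVariables false
set_option linter.unusedSectionVars false
open scoped ComplexConjugate
open Classical

namespace Cfsg.Agent.Lib.Lead.W2P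

open MulAction Cfsg.Agent.Lib.helper6.PermChar Cfsg.Agent.Lib.Helper25

universe u v

section B

open Cfsg.Agent.Lib.helper7.BD

variable {G : Type u} [Group G] [Fintype G] {p : ℕ} [Fact p.Prime]

/-- CLASSIFY : every irreducible character is of type (b) or (c) -/
theorem classify (hodd : p ≠ 2) (P : Sylow p G) (hP : Nat.card (P : Subgroup G) = p)
    (χ : Cfsg.IrrCharacter G) : TypeB (P : Subgroup G) (χ : G → ℂ) ∨ TypeC p (P : Subgroup G) χ :=
  w2pclassify_core (fun h _ r hr χ hχ ε hmul => class_X h r hr χ hχ ε hmul)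
    (fun h _ r hr y hy hyB ε hε hmul hreg j => class_Y h r hr y hy hyB ε hε hmul hreg j) hodd P hP χ

end B

end Cfsg.Agent.Lib.Lead.W2P
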