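import Mathlib
import Cfsg.Agent.Lib.helper7.SPC.Defs

set_option autoImplicit false

/-!
# Project SPC, row ISO (helper27): `TIso` is an equivalence relation, compatible with `TSum`.
-/

namespace Cfsg.Agent.Lib.helper7.SPC

universe u

open Module

variable {F : Type u} [Field F]

theorem TIso_refl (T : Trip F) : TIso T T :=
  ⟨LinearEquiv.refl F T.V, fun _ _ => rfl, fun _ => rfl⟩

theorem TIso_symm {T T' : Trip F} (h : TIso T T') : TIso T' T := by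
  obtain ⟨e, hB, hN⟩ := h
  refine ⟨e.symm, ?_, ?_⟩
  · intro x y
    rw [← hB, LinearEquiv.apply_symm_apply, LinearEquiv.apply_symm_apply]
  · intro x
    apply e.injective
    rw [hN, LinearEquiv.apply_symm_apply, LinearEquiv.apply_symm_apply]

theorem TIso_trans {T T' T'' : Trip F} (h : TIso T T') (h' : TIso T' T'') : TIso T T'' := by
  obtain ⟨e, hB, hN⟩ := h
  obtain ⟨e', hB', hN'⟩ := h'
  refine ⟨e.trans e', ?_, ?_⟩
  · intro x y
    rw [LinearEquiv.trans_apply, LinearEquiv.trans_apply, hB', hB]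
  · intro x
    rw [LinearEquiv.trans_apply, LinearEquiv.trans_apply, hN, hN']

theorem TSum_congr {T₁ T₁' T₂ T₂' : Trip F} (h₁ : TIso T₁ T₁') (h₂ : TIso T₂ T₂') :
    TIso (TSum T₁ T₂) (TSum T₁' T₂') := by
  obtain ⟨e₁, hB₁, hN₁⟩ := h₁
  obtain ⟨e₂, hB₂, hN₂⟩ := h₂
  refine ⟨LinearEquiv.prodCongr e₁ e₂, ?_, ?_⟩
  · intro x y
    change T₁'.B (e₁ x.1) (e₁ y.1) + T₂'.B (e₂ x.2) (e₂ y.2) = T₁.B x.1 y.1 + T₂.B x.2 y.2
    rw [hB₁, hB₂]
  · intro x
    change (e₁ (T₁.N x.1), e₂ (T₂.N x.2)) = (T₁'.N (e₁ x.1), T₂'.N (e₂ x.2))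
    rw [hN₁, hN₂]

end Cfsg.Agent.Lib.helper7.SPC
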