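import Mathlib
import Cfsg.Agent.Lib.helper8.OME.Defs
import Cfsg.Agent.Lib.Helper29.OPEARITHcore

set_option autoImplicit false
set_option linter.unusedVariables false
set_option linter.unusedSectionVars false

/-!
# Project OME (S5990; designer helper8), row ARITHSUFF (`ome_arith_suff`): twin of OPE `arith_suff` (Helper29/OPEARITHSUFF).
-/

namespace Cfsg.Agent.Lib.helper8.OME

open Polynomial Module Cfsg.Agent.Lib.Helper13.S5955 Cfsg.Agent.Lib.helper15.S5972
  Cfsg.Agent.Lib.Helper18.OPE

/-- `sg i b = -1` iff `i` is even and `b` is odd. -/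
theorem omearithsuff_sg_neg (i b : ℕ) : sg i b = -1 ↔ (Even i ∧ Odd b) := by
  unfold sg
  split_ifs with h
  · rcases Nat.even_or_odd b with hb | hb
    · rw [hb.neg_one_pow]
      constructor
      · intro h1; norm_num at h1
      · rintro ⟨_, h2⟩
        exact absurd h2 (Nat.not_odd_iff_even.mpr hb)
    · rw [hb.neg_one_pow]
      exact ⟨fun _ => ⟨h, hb⟩, fun _ => rfl⟩
  · constructor
    · intro h1; norm_num at h1
    · rintro ⟨h2, _⟩
      exact absurd h2 h

/-- the step `b = M - 1`, `e = c` used when `l = 0` and `sg i M ≠ -1` -/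
theorem omearithsuff_step (i c d m A M : ℕ) (hc1 : 1 ≤ c) (hM1 : 1 ≤ M) (hm : m = c * M)
    (hMA : M ≤ A) (hf : c * A + c ≤ 2 * d)
    (h3 : c * A + c = 2 * d → sg i (M - 1) = sg i A) : Fits c i (-1) d m (-1) A := by
  have h4 : c * (M - 1) + c = c * M := by
    rw [← Nat.mul_succ]; congr 1; omega
  by_cases hcf : c * A + c = 2 * d
  · refine ⟨M - 1, by omega, by omega, Or.inr (Or.inr ⟨by omega, by omega, ?_⟩)⟩
    rw [h3 hcf]
  · exact ⟨M - 1, by omega, by omega, Or.inr (Or.inl ⟨by omega, by omega⟩)⟩

/-- ARITHSUFF [L] (twin of OPE `arith_suff`, Helper29/OPEARITHSUFF.lean; here `τ = -1`, `s = -1` only, but `m` runs up to `2d - 2`): the frozen right-hand side gives `Fits` for every admissible `A ≥ 1`.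
Write `n = 2d = c N + k`, `m = c M + l`, `f = n - c A ≥ k`.  `Fits` with `b`: `e = m - c b`; clause 1: `e = 0 ∧ sg i b = -1`; clause 2: `0 < e < f`; clause 3: `e = f ∧ sg i b = sg i A` (`s * sg b = τ * sg A`, `s = τ = -1`).
`i` odd (`sg = 1`, clause 1 impossible): `k = 0`: `A ≤ N - 1`, `f ≥ c`: `b` with `0 < e < f` or `e = f` exists (take `b = max 0 (M - …)`: the values `e = l, l + c, …` step by `c ≤ f`; if `l = 0` use `e = c` (`c ≤ m` as `m ≥ 2`, `l = 0`) with clause 2 if
`c < f` and clause 3 if `c = f`; mind `b ≤ A`: `b = min M A`, then `e = m - c A ≤ n - 2 - c A < f` if `A ≤ M`).  `c ≤ m`, `0 < l ≤ k`: `b = min M A`.  `i` even (`c = i`, `sg i b = (-1)^b`): go through the clauses of `RM` as in OPE. -/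
theorem ome_arith_suff (i c d m : ℕ) (hi1 : 1 ≤ i) (hc : c = if Even i then i else 2 * i)
    (hme : Even m) (hm : 2 ≤ m) (hmn : m + 2 ≤ 2 * d) (hR : RM i c d m)
    (A : ℕ) (hA1 : 1 ≤ A) (hA : c * A ≤ 2 * d) (hAs : c * A = 2 * d → sg i A = -1) :
    Fits c i (-1) d m (-1) A := by
  have hc1 : 1 ≤ c := by
    rw [hc]; split_ifs <;> omega
  have hmM : c * (m / c) + m % c = m := Nat.div_add_mod m c
  have hl : m % c < c := Nat.mod_lt _ hc1
  have hnN : c * (2 * d / c) + (2 * d) % c = 2 * d := Nat.div_add_mod (2 * d) c
  have hk : (2 * d) % c < c := Nat.mod_lt _ hc1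
  have hAN : A ≤ 2 * d / c := by
    by_contra hcon
    have : c * (2 * d / c + 1) ≤ c * A := Nat.mul_le_mul_left _ (not_le.mp hcon)
    rw [Nat.mul_succ] at this
    omega
  have hcAN : c * A ≤ c * (2 * d / c) := Nat.mul_le_mul_left _ hAN
  -- `A < N` gives `c A + c ≤ c N`
  have hstepN : A ≠ 2 * d / c → c * A + c ≤ c * (2 * d / c) := by
    intro hne
    have : A + 1 ≤ 2 * d / c := by omega
    have h2 : c * (A + 1) ≤ c * (2 * d / c) := Nat.mul_le_mul_left _ this
    rw [Nat.mul_succ] at h2
    exact h2
  have hM1 : m % c = 0 → 1 ≤ m / c := by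
    intro h0
    rcases Nat.eq_zero_or_pos (m / c) with h | h
    · rw [h] at hmM; omega
    · exact h
  by_cases hie : Even i
  · -- `i` even, `c = i`
    have hio : ¬ Odd i := Nat.not_odd_iff_even.mpr hie
    rw [if_pos hie] at hc
    subst hc
    have hsg : ∀ b, sg c b = (-1) ^ b := fun b => opearith_sg_even hie b
    unfold RM at hR
    rcases hR with ⟨ho, _⟩ | ⟨_, hR⟩
    · exact absurd ho hio
    by_cases hAm : c * A ≤ m
    · -- `A ≤ M`
      by_cases h1 : m = c * A
      · have hMq : m / c = A := by rw [h1]; exact Nat.mul_div_cancel_left A hc1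
        have hl0 : m % c = 0 := by rw [h1]; exact Nat.mul_mod_right c A
        by_cases hAodd : Odd A
        · refine ⟨A, le_refl _, hAm, Or.inl ⟨h1, ?_⟩⟩
          rw [hsg, hAodd.neg_one_pow]
        · have hAev : Even A := Nat.not_odd_iff_even.mp hAodd
          rcases hR with ⟨hk0, hNev | ⟨_, hModd⟩⟩ | ⟨hkpos, _, h3⟩
          · -- `k = 0`, `N` even, `A` even, `A < N`
            have hAltN : A ≠ 2 * d / c := by
              intro h
              rw [← h] at hnN
              omega
            obtain ⟨a', ha'⟩ := hAev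
            obtain ⟨n', hn'⟩ := hNev
            have hA2 : A + 2 ≤ 2 * d / c := by omega
            have h2 : c * (A + 2) ≤ c * (2 * d / c) := Nat.mul_le_mul_left _ hA2
            have h4 : c * (A - 1) + c = c * A := by
              rw [← Nat.mul_succ]; congr 1; omega
            have h5 : c * (A + 2) = c * A + 2 * c := by ring
            exact ⟨A - 1, by omega, by omega, Or.inr (Or.inl ⟨by omega, by omega⟩)⟩
          · rw [hMq] at hModd
            exact absurd hModd hAodd
          · rcases h3 with ⟨h0, _⟩ | ⟨_, hModd⟩ | ⟨hlk, _⟩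
            · omega
            · rw [hMq] at hModd
              exact absurd hModd hAodd
            · omega
      · exact ⟨A, le_refl _, hAm, Or.inr (Or.inl ⟨by omega, by omega⟩)⟩
    · -- `M < A`
      have hMA : m / c < A := by
        by_contra hcon
        have : c * A ≤ c * (m / c) := Nat.mul_le_mul_left _ (not_lt.mp hcon)
        omega
      rcases hR with ⟨hk0, hNev | ⟨hl0, hModd⟩⟩ | ⟨hkpos, _, h3⟩
      · -- `k = 0`, `N` even
        have hAne : A ≠ 2 * d / c := by
          intro h
          have h1 : sg c A = -1 := hAs (by rw [h]; omega)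
          rw [omearithsuff_sg_neg] at h1
          rw [h] at h1
          exact (Nat.not_odd_iff_even.mpr hNev) h1.2
        have hf := hstepN hAne
        by_cases hl0 : m % c = 0
        · by_cases hModd : Odd (m / c)
          · refine ⟨m / c, hMA.le, by omega, Or.inl ⟨by omega, ?_⟩⟩
            rw [hsg, hModd.neg_one_pow]
          · have hMev : Even (m / c) := Nat.not_odd_iff_even.mp hModd
            apply omearithsuff_step c c d m A (m / c) hc1 (hM1 hl0) (by omega) hMA.le (by omega)
            intro hcf
            -- `A + 1 = N`, so `A` is odd; `M - 1` is odd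
            have hAN1 : A + 1 = 2 * d / c := by
              have : c * (A + 1) = c * (2 * d / c) := by rw [Nat.mul_succ]; omega
              exact Nat.eq_of_mul_eq_mul_left hc1 this
            have hAodd : Odd A := by
              obtain ⟨n', hn'⟩ := hNev
              exact ⟨n' - 1, by omega⟩
            have hM1odd : Odd (m / c - 1) := by
              obtain ⟨m', hm'⟩ := hMev
              have := hM1 hl0
              exact ⟨m' - 1, by omega⟩
            rw [hsg, hsg, hAodd.neg_one_pow, hM1odd.neg_one_pow]
        · exact ⟨m / c, hMA.le, by omega, Or.inr (Or.inl ⟨by omega, by omega⟩)⟩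
      · refine ⟨m / c, hMA.le, by omega, Or.inl ⟨by omega, ?_⟩⟩
        rw [hsg, hModd.neg_one_pow]
      · rcases h3 with ⟨hl0, hlk⟩ | ⟨hl0, hModd⟩ | ⟨hlk, hev⟩
        · exact ⟨m / c, hMA.le, by omega, Or.inr (Or.inl ⟨by omega, by omega⟩)⟩
        · refine ⟨m / c, hMA.le, by omega, Or.inl ⟨by omega, ?_⟩⟩
          rw [hsg, hModd.neg_one_pow]
        · by_cases hcf : c * A = c * (2 * d / c)
          · have hAN' : A = 2 * d / c := Nat.eq_of_mul_eq_mul_left hc1 hcf
            have hNM : (2 * d + m - 2 * ((2 * d) % c)) / c = 2 * d / c + m / c := by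
              have : 2 * d + m - 2 * ((2 * d) % c) = c * (2 * d / c + m / c) := by
                rw [Nat.mul_add]; omega
              rw [this]
              exact Nat.mul_div_cancel_left _ hc1
            rw [hNM] at hev
            refine ⟨m / c, hMA.le, by omega, Or.inr (Or.inr ⟨by omega, by omega, ?_⟩)⟩
            rw [hsg, hsg, hAN']
            rw [Nat.even_add] at hev
            rcases Nat.even_or_odd (2 * d / c) with h7 | h7
            · rw [h7.neg_one_pow, (hev.mp h7).neg_one_pow]
            · have h8 : Odd (m / c) := by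
                rw [← Nat.not_even_iff_odd] at h7 ⊢
                exact fun h => h7 (hev.mpr h)
              rw [h7.neg_one_pow, h8.neg_one_pow]
          · exact ⟨m / c, hMA.le, by omega, Or.inr (Or.inl ⟨by omega, by omega⟩)⟩
  · -- `i` odd, `sg = 1`
    have hio : Odd i := Nat.not_even_iff_odd.mp hie
    rw [if_neg hie] at hc
    have hsg : ∀ b, sg i b = 1 := fun b => opearith_sg_odd hie b
    have hAlt : c * A ≠ 2 * d := by
      intro h
      have := hAs h
      rw [hsg] at this
      norm_num at this
    unfold RM at hR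
    rcases hR with ⟨_, hR⟩ | ⟨he, _⟩
    swap
    · exact absurd he hie
    by_cases hAm : c * A ≤ m
    · by_cases h1 : m = c * A
      · have hMq : m / c = A := by rw [h1]; exact Nat.mul_div_cancel_left A hc1
        have hl0 : m % c = 0 := by rw [h1]; exact Nat.mul_mod_right c A
        have hk0 : (2 * d) % c = 0 := by
          rcases hR with h | ⟨_, h, _⟩
          · exact h
          · omega
        have hAne : A ≠ 2 * d / c := by
          intro h
          rw [← h] at hnN
          omega
        have hf := hstepN hAne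
        apply omearithsuff_step i c d m A A hc1 hA1 h1 (le_refl _) (by omega)
        intro _
        rw [hsg, hsg]
      · exact ⟨A, le_refl _, hAm, Or.inr (Or.inl ⟨by omega, by omega⟩)⟩
    · have hMA : m / c < A := by
        by_contra hcon
        have : c * A ≤ c * (m / c) := Nat.mul_le_mul_left _ (not_lt.mp hcon)
        omega
      rcases hR with hk0 | ⟨hcm, hl0, hlk⟩
      · have hAne : A ≠ 2 * d / c := by
          intro h
          apply hAlt
          rw [h]
          omega
        have hf := hstepN hAne
        by_cases hl0 : m % c = 0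
        · apply omearithsuff_step i c d m A (m / c) hc1 (hM1 hl0) (by omega) hMA.le (by omega)
          intro _
          rw [hsg, hsg]
        · exact ⟨m / c, hMA.le, by omega, Or.inr (Or.inl ⟨by omega, by omega⟩)⟩
      · by_cases hlf : m - c * (m / c) = 2 * d - c * A
        · refine ⟨m / c, hMA.le, by omega, Or.inr (Or.inr ⟨by omega, hlf, ?_⟩)⟩
          rw [hsg, hsg]
        · exact ⟨m / c, hMA.le, by omega, Or.inr (Or.inl ⟨by omega, by omega⟩)⟩

end Cfsg.Agent.Lib.helper8.OME
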