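import Mathlib
import Cfsg.Prelude.Def_GeometricClasses
import Cfsg.Agent.Lib.Lead.SPU.Defs

set_option autoImplicit false
set_option linter.unusedVariables false
set_option linter.unusedSectionVars false

/-!
# Project SPU (leader: lead) -> S5665 : cores of the pieces EXD and EXZ (helper27)

`spuex_exd_core`, `spuex_exz_core` : the statements `exd`, `exz` of `Lead/SPU/Skel.lean.txt` with the statement of `univ3`
as a hypothesis `hU`.  Private copies of the few BASIC identities needed (`spuex_*`).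
-/

namespace Cfsg.Agent.Lib.Lead.SPU

open Matrix Cfsg.Agent.S5646 Cfsg.Agent.S5647 Cfsg.Agent.Lib.Helper28.SpPair Cfsg.Agent.Lib.helper6

variable {m : ℕ} {F : Type*} [Field F] {j j1 : Matrix (Fin m ⊕ Fin m) (Fin m ⊕ Fin m) F} {c0 : F}
  {M : Subgroup (Matrix.GeneralLinearGroup (Fin m ⊕ Fin m) F)}

theorem spuex_jj (hJ : JS j c0) (x : Fin m ⊕ Fin m → F) : j *ᵥ (j *ᵥ x) = c0 • x := by
  rw [Matrix.mulVec_mulVec, hJ.sq, Matrix.smul_mulVec, Matrix.one_mulVec]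

theorem spuex_adj' (hJ : JS j c0) (x y : Fin m ⊕ Fin m → F) :
    Cfsg.sympForm m F x (j *ᵥ y) = - Cfsg.sympForm m F (j *ᵥ x) y := by
  rw [hJ.adj, neg_neg]

theorem spuex_Bsymm (hJ : JS j c0) (x y : Fin m ⊕ Fin m → F) :
    Cfsg.sympForm m F x (j *ᵥ y) = Cfsg.sympForm m F y (j *ᵥ x) := by
  rw [spuex_adj' hJ, sympForm_swap m (j *ᵥ x) y, neg_neg]

theorem spuex_fjj (hJ : JS j c0) (x y : Fin m ⊕ Fin m → F) :
    Cfsg.sympForm m F (j *ᵥ x) (j *ᵥ y) = - (c0 * Cfsg.sympForm m F x y) := by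
  rw [hJ.adj, spuex_jj hJ, sympForm_smul_right]

theorem spuex_Qadd (hJ : JS j c0) (x y : Fin m ⊕ Fin m → F) :
    Qj j (x + y) = Qj j x + Qj j y + 2 * Cfsg.sympForm m F x (j *ᵥ y) := by
  unfold Qj
  rw [Matrix.mulVec_add, sympForm_add_left, sympForm_add_right, sympForm_add_right,
    spuex_Bsymm hJ y x]
  ring

theorem spuex_Qsmul (x : Fin m ⊕ Fin m → F) (a : F) : Qj j (a • x) = a * a * Qj j x := by
  unfold Qj
  rw [Matrix.mulVec_smul, sympForm_smul_left, sympForm_smul_right]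
  ring

theorem spuex_c0_ne (hJ : JS j c0) : c0 ≠ 0 := by
  intro h
  exact hJ.nsq 0 (by rw [h, mul_zero])

theorem spuex_j_ne (hJ : JS j c0) (x : Fin m ⊕ Fin m → F) (hx : x ≠ 0) : j *ᵥ x ≠ 0 := by
  intro h
  have := spuex_jj hJ x
  rw [h, Matrix.mulVec_zero] at this
  rcases smul_eq_zero.mp this.symm with h' | h'
  · exact spuex_c0_ne hJ h'
  · exact hx h'

/-- the `h`-projection of `q` off `K p` (`Qj p ≠ 0`) -/
def spuexProj (j : Matrix (Fin m ⊕ Fin m) (Fin m ⊕ Fin m) F) (p q : Fin m ⊕ Fin m → F) :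
    Fin m ⊕ Fin m → F :=
  q - (Cfsg.sympForm m F q (j *ᵥ p) / Qj j p) • p + (Cfsg.sympForm m F q p / Qj j p) • (j *ᵥ p)

theorem spuex_proj_ho (hJ : JS j c0) (p q : Fin m ⊕ Fin m → F) (hp : Qj j p ≠ 0) :
    HOj j (spuexProj j p q) p := by
  have h1 : Cfsg.sympForm m F (j *ᵥ p) p = - Qj j p := by
    unfold Qj
    rw [sympForm_swap]
  have h2 : Cfsg.sympForm m F p (j *ᵥ p) = Qj j p := rfl
  have h3 : Cfsg.sympForm m F (j *ᵥ p) (j *ᵥ p) = 0 := sympForm_self m _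
  have h4 : Cfsg.sympForm m F p p = 0 := sympForm_self m _
  constructor
  · unfold spuexProj
    rw [sympForm_add_left, sympForm_sub_left, sympForm_smul_left, sympForm_smul_left, h4, h1]
    field_simp
    ring
  · unfold spuexProj
    rw [sympForm_add_left, sympForm_sub_left, sympForm_smul_left, sympForm_smul_left, h2, h3]
    field_simp
    ring

theorem spuex_proj_ne (hJ : JS j c0) (p q : Fin m ⊕ Fin m → F) (hq : q ∉ Klj j p) :
    spuexProj j p q ≠ 0 := by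
  intro h
  apply hq
  unfold spuexProj at h
  unfold Klj
  rw [Submodule.mem_span_pair]
  refine ⟨Cfsg.sympForm m F q (j *ᵥ p) / Qj j p, -(Cfsg.sympForm m F q p / Qj j p), ?_⟩
  have : q = (Cfsg.sympForm m F q (j *ᵥ p) / Qj j p) • p - (Cfsg.sympForm m F q p / Qj j p) • (j *ᵥ p) := by
    have h' := h
    rw [sub_add, sub_eq_zero] at h'
    exact h'
  rw [neg_smul, ← sub_eq_add_neg]
  exact this.symm

/-- for `d ⊥_h p` : `f (d, q) = f (d, w)` and `f (d, j q) = f (d, j w)`, `w` the projection of `q` -/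
theorem spuex_proj_pair (hJ : JS j c0) (p q d : Fin m ⊕ Fin m → F) (hd : HOj j d p) :
    Cfsg.sympForm m F d q = Cfsg.sympForm m F d (spuexProj j p q) ∧
      Cfsg.sympForm m F d (j *ᵥ q) = Cfsg.sympForm m F d (j *ᵥ (spuexProj j p q)) := by
  obtain ⟨hd1, hd2⟩ := hd
  have hd3 : Cfsg.sympForm m F d (j *ᵥ (j *ᵥ p)) = 0 := by
    rw [spuex_jj hJ, sympForm_smul_right, hd1, mul_zero]
  constructor
  · unfold spuexProj
    rw [sympForm_add_right, sympForm_sub_right, sympForm_smul_right, sympForm_smul_right, hd1, hd2]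
    ring
  · unfold spuexProj
    rw [Matrix.mulVec_add, Matrix.mulVec_sub, Matrix.mulVec_smul, Matrix.mulVec_smul,
      sympForm_add_right, sympForm_sub_right, sympForm_smul_right, sympForm_smul_right, hd2, hd3]
    ring

/-- `q ∈ K d`, `d ⊥_h p` : `q ⊥_h p`, so `q` is its own projection -/
theorem spuex_proj_self (hJ : JS j c0) (p q d : Fin m ⊕ Fin m → F) (hd : HOj j d p)
    (hq : q ∈ Klj j d) : spuexProj j p q = q := by
  obtain ⟨hd1, hd2⟩ := hd
  unfold Klj at hq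
  obtain ⟨a, b, rfl⟩ := Submodule.mem_span_pair.mp hq
  have e1 : Cfsg.sympForm m F (j *ᵥ d) p = 0 := by rw [hJ.adj, hd2, neg_zero]
  have e2 : Cfsg.sympForm m F (j *ᵥ d) (j *ᵥ p) = 0 := by rw [spuex_fjj hJ, hd1, mul_zero, neg_zero]
  have h1 : Cfsg.sympForm m F (a • d + b • (j *ᵥ d)) p = 0 := by
    rw [sympForm_add_left, sympForm_smul_left, sympForm_smul_left, hd1, e1]
    ring
  have h2 : Cfsg.sympForm m F (a • d + b • (j *ᵥ d)) (j *ᵥ p) = 0 := by
    rw [sympForm_add_left, sympForm_smul_left, sympForm_smul_left, hd2, e2]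
    ring
  unfold spuexProj
  rw [h1, h2, zero_div, zero_smul, zero_smul, sub_zero, add_zero]

/-- `y' ⊥_h p` with `B (y', w) ≠ 0`, for `w ≠ 0`, `w ⊥_h p` -/
theorem spuex_partner (hJ : JS j c0) (p w : Fin m ⊕ Fin m → F) (hp : Qj j p ≠ 0) (hw : w ≠ 0)
    (hwp : HOj j w p) :
    ∃ y' : Fin m ⊕ Fin m → F, HOj j y' p ∧ Cfsg.sympForm m F y' (j *ᵥ w) ≠ 0 := by
  obtain ⟨y1, hy1⟩ := sympForm_nondeg m (j *ᵥ w) (spuex_j_ne hJ w hw)
  refine ⟨spuexProj j p y1, spuex_proj_ho hJ p y1 hp, ?_⟩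
  -- `B (y', w) = B (w, y') = f (w, j y') = f (w, j y1)`
  rw [spuex_Bsymm hJ, ← (spuex_proj_pair hJ p y1 w hwp).2, ← spuex_Bsymm hJ]
  intro h
  apply hy1
  rw [sympForm_swap, h, neg_zero]

/-- EXZ with the statement of `univ3` as a hypothesis -/
theorem spuex_exz_core (hJ : JS j c0)
    (hU : ∀ (a b c' : Fin m ⊕ Fin m → F) (c : F),
      ∃ t : Fin m ⊕ Fin m → F, t ≠ 0 ∧ HOj j t a ∧ HOj j t b ∧ HOj j t c' ∧ Qj j t = c)
    (u0 v0 : Fin m ⊕ Fin m → F) (hu : Qj j u0 ≠ 0) (hv : v0 ∉ Klj j u0) :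
    ∃ z : Fin m ⊕ Fin m → F, Qj j z = 0 ∧ HOj j z u0 ∧
      (Cfsg.sympForm m F v0 z ≠ 0 ∨ Cfsg.sympForm m F v0 (j *ᵥ z) ≠ 0) := by
  set v' := spuexProj j u0 v0 with hv'
  have hv'0 : v' ≠ 0 := spuex_proj_ne hJ u0 v0 hv
  have hv'u : HOj j v' u0 := spuex_proj_ho hJ u0 v0 hu
  -- it is enough to find `z ⊥_h u0` singular with `B (z, v') ≠ 0`
  suffices h : ∃ z : Fin m ⊕ Fin m → F, Qj j z = 0 ∧ HOj j z u0 ∧
      Cfsg.sympForm m F z (j *ᵥ v') ≠ 0 by
    obtain ⟨z, hz, hzu, hzv⟩ := h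
    refine ⟨z, hz, hzu, Or.inr ?_⟩
    rw [spuex_Bsymm hJ, (spuex_proj_pair hJ u0 v0 z hzu).2]
    exact hzv
  by_cases hQ : Qj j v' = 0
  · obtain ⟨y', hy'u, hy'w⟩ := spuex_partner hJ u0 v' hu hv'0 hv'u
    refine ⟨y' - (Qj j y' / (2 * Cfsg.sympForm m F y' (j *ᵥ v'))) • v', ?_, ?_, ?_⟩
    · have h2 := hJ.two
      rw [sub_eq_add_neg, ← neg_smul, spuex_Qadd hJ, spuex_Qsmul, hQ, Matrix.mulVec_smul,
        sympForm_smul_right]
      field_simp
      ring
    · constructor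
      · rw [sympForm_sub_left, sympForm_smul_left, hy'u.1, hv'u.1]
        ring
      · rw [sympForm_sub_left, sympForm_smul_left, hy'u.2, hv'u.2]
        ring
    · have : Cfsg.sympForm m F v' (j *ᵥ v') = 0 := hQ
      rw [sympForm_sub_left, sympForm_smul_left, this, mul_zero, sub_zero]
      exact hy'w
  · obtain ⟨t, _, htu, htv, _, htQ⟩ := hU u0 v' 0 (- Qj j v')
    refine ⟨v' + t, ?_, ?_, ?_⟩
    · rw [spuex_Qadd hJ, htQ, spuex_Bsymm hJ, htv.2]
      ring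
    · constructor
      · rw [sympForm_add_left, hv'u.1, htu.1, add_zero]
      · rw [sympForm_add_left, hv'u.2, htu.2, add_zero]
    · rw [sympForm_add_left, htv.2, add_zero]
      exact hQ

/-- a scalar avoiding `0` and `- e` -/
theorem spuex_avoid (hJ : JS j c0) (e : F) : ∃ c : F, c ≠ 0 ∧ e + c ≠ 0 := by
  by_cases h : e + 1 = 0
  · refine ⟨2, hJ.two, ?_⟩
    have : e + 2 = (e + 1) + 1 := by ring
    rw [this, h, zero_add]
    exact one_ne_zero
  · exact ⟨1, one_ne_zero, h⟩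

/-- EXD with the statement of `univ3` as a hypothesis -/
theorem spuex_exd_core (hJ : JS j c0)
    (hU : ∀ (a b c' : Fin m ⊕ Fin m → F) (c : F),
      ∃ t : Fin m ⊕ Fin m → F, t ≠ 0 ∧ HOj j t a ∧ HOj j t b ∧ HOj j t c' ∧ Qj j t = c)
    (p q : Fin m ⊕ Fin m → F) (hp : Qj j p ≠ 0) (hq : q ∉ Klj j p) :
    ∃ d : Fin m ⊕ Fin m → F, HOj j d p ∧ Qj j d ≠ 0 ∧
      (Cfsg.sympForm m F d q ≠ 0 ∨ Cfsg.sympForm m F d (j *ᵥ q) ≠ 0) ∧ q ∉ Klj j d := by
  set w := spuexProj j p q with hw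
  have hw0 : w ≠ 0 := spuex_proj_ne hJ p q hq
  have hwp : HOj j w p := spuex_proj_ho hJ p q hp
  -- `d = y + t` with `y ⊥_h p`, `B (y, w) ≠ 0`, `t ⊥_h p, w, y`, `Qj y + Qj t ≠ 0`, `Qj t ≠ 0`
  obtain ⟨y, hyp, hyw⟩ : ∃ y : Fin m ⊕ Fin m → F, HOj j y p ∧ Cfsg.sympForm m F y (j *ᵥ w) ≠ 0 := by
    by_cases hQ : Qj j w = 0
    · exact spuex_partner hJ p w hp hw0 hwp
    · exact ⟨w, hwp, hQ⟩
  obtain ⟨c, hc0, hc⟩ := spuex_avoid hJ (Qj j y)
  obtain ⟨t, _, htp, htw, hty, htQ⟩ := hU p w y c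
  have hBty : Cfsg.sympForm m F y (j *ᵥ t) = 0 := by rw [spuex_Bsymm hJ, hty.2]
  have hdp : HOj j (y + t) p := by
    constructor
    · rw [sympForm_add_left, hyp.1, htp.1, add_zero]
    · rw [sympForm_add_left, hyp.2, htp.2, add_zero]
  refine ⟨y + t, hdp, ?_, Or.inr ?_, ?_⟩
  · rw [spuex_Qadd hJ, htQ, hBty, mul_zero, add_zero]
    exact hc
  · rw [(spuex_proj_pair hJ p q (y + t) hdp).2, sympForm_add_left, htw.2, add_zero]
    exact hyw
  · intro hmem
    have hqw : w = q := spuex_proj_self hJ p q (y + t) hdp hmem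
    unfold Klj at hmem
    obtain ⟨a, b, hab⟩ := Submodule.mem_span_pair.mp hmem
    rw [← hqw] at hab
    -- pair with `t`
    have ht_y : Cfsg.sympForm m F t y = 0 := hty.1
    have ht_jy : Cfsg.sympForm m F t (j *ᵥ y) = 0 := hty.2
    have ht_t : Cfsg.sympForm m F t t = 0 := sympForm_self m t
    have ht_jt : Cfsg.sympForm m F t (j *ᵥ t) = c := htQ
    have e1 : Cfsg.sympForm m F t (j *ᵥ w) = a * c := by
      rw [← hab, Matrix.mulVec_add, Matrix.mulVec_smul, Matrix.mulVec_smul, Matrix.mulVec_add,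
        Matrix.mulVec_add, spuex_jj hJ, spuex_jj hJ, sympForm_add_right, sympForm_smul_right,
        sympForm_smul_right, sympForm_add_right, sympForm_add_right, sympForm_smul_right,
        sympForm_smul_right, ht_y, ht_jy, ht_t, ht_jt]
      ring
    have e2 : Cfsg.sympForm m F t w = b * c := by
      rw [← hab, Matrix.mulVec_add, sympForm_add_right, sympForm_smul_right,
        sympForm_smul_right, sympForm_add_right, sympForm_add_right, ht_y, ht_jy, ht_t, ht_jt]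
      ring
    rw [htw.2] at e1
    rw [htw.1] at e2
    have ha : a = 0 := by
      rcases mul_eq_zero.mp e1.symm with h | h
      · exact h
      · exact absurd h hc0
    have hb : b = 0 := by
      rcases mul_eq_zero.mp e2.symm with h | h
      · exact h
      · exact absurd h hc0
    rw [ha, hb, zero_smul, zero_smul, add_zero] at hab
    exact hw0 hab.symm

end Cfsg.Agent.Lib.Lead.SPU
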