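import Mathlib
import Cfsg.Prelude.Def_GeometricClasses
import Cfsg.Agent.Lib.Lead.SPU.Defs
import Cfsg.Agent.Lib.Helper11.SPUUNIV3
import Cfsg.Agent.Lib.Helper27.SPUEXcore

set_option autoImplicit false
set_option linter.unusedVariables false
set_option linter.unusedSectionVars false

/-!
# Project SPU (leader: lead) -> S5665 : piece EXD (helper27), verbatim vs `Lead/SPU/Skel.lean.txt`
-/

namespace Cfsg.Agent.Lib.Lead.SPU

open Matrix Cfsg.Agent.S5646 Cfsg.Agent.S5647 Cfsg.Agent.Lib.Helper28.SpPair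

variable {m : ℕ} {F : Type*} [Field F] {j j1 : Matrix (Fin m ⊕ Fin m) (Fin m ⊕ Fin m) F} {c0 : F}
  {M : Subgroup (Matrix.GeneralLinearGroup (Fin m ⊕ Fin m) F)}

/-- EXD [M-L] : the reflection vector of STEP1.
(`w := q - (proj of q on K p) ≠ 0`, `w ⊥_h p`, and `h (d, q) = h (d, w)` for `d ⊥_h p`.  If `Qj w ≠ 0` : `d := w + t`, `t ⊥_h p, w` (`univ3`),
`Qj t ∉ {0, - Qj w}`.  If `Qj w = 0` : `y'` with `y' ⊥_h p`, `B (y', w) ≠ 0` (`f` non-degenerate, project on `p^⊥h`), `d := y' + t`, `t ⊥_h p, w, y'`,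
`Qj t ∉ {0, - Qj y'}`.  `q ∈ K d` would force `q = w ∈ K d`, and pairing with `t` gives `Qj t = 0`.) -/
theorem exd [Fintype F] (hm : 7 ≤ m) (hJ : JS j c0) (p q : Fin m ⊕ Fin m → F) (hp : Qj j p ≠ 0)
    (hq : q ∉ Klj j p) :
    ∃ d : Fin m ⊕ Fin m → F, HOj j d p ∧ Qj j d ≠ 0 ∧
      (Cfsg.sympForm m F d q ≠ 0 ∨ Cfsg.sympForm m F d (j *ᵥ q) ≠ 0) ∧ q ∉ Klj j d :=
  spuex_exd_core hJ (univ3 hm hJ) p q hp hq

end Cfsg.Agent.Lib.Lead.SPU
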