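import Mathlib
import Cfsg.Agent.Lib.helper17.T3.DefsC

/-!
# T3C rows L6 (`Zl_theta`) and L7 (`Zl_tr`): cores on the statements of L2 (`Zl_add_left`), L4 (`Zl_bal`),
L5 (`Zl_cross`), A2 (`Cub.theta_ne`), A4 (`Cub.exists_sub_theta`).
-/

set_option autoImplicit false

namespace Cfsg.Agent.Lib.helper17.T3

open Cfsg.Agent.Lib.helper15.St2 Cfsg.Agent.Lib.helper7.Ce

variable {F K : Type*} [Field F] [Field K] [Algebra F K] {C : Cub F K} {G Γ : Type*} [Group G] [Group Γ]
  {S : SysT C G} {σ : Γ →* G}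

/-- `Zl L k s t = ζ (t * s)`, `ζ x = Zl L k x 1` -/
theorem t3cl6h27_zeta (L : ShortLift S σ) (k : ZMod 6)
    (hbal : ∀ l s t : K, Zl L k (l * s) t = Zl L k s (l * t)) (s t : K) :
    Zl L k s t = Zl L k (t * s) 1 := by
  rw [hbal t s 1, mul_one]

/-- L6 (core) -/
theorem t3cl6h27_core (L : ShortLift S σ) (k : ZMod 6)
    (hbal : ∀ l s t : K, Zl L k (l * s) t = Zl L k s (l * t))
    (hcross : ∀ a b c : K, Zl L k a (C.cross c b) = Zl L k c (C.cross a b))
    (hadd : ∀ s s' t : K, Zl L k (s + s') t = Zl L k s t * Zl L k s' t)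
    (hne : ∃ c : K, C.θ c ≠ c) (x : K) : Zl L k (C.θ x) 1 = Zl L k x 1 := by
  obtain ⟨c, hc⟩ := hne
  have hP : C.θ c - c ≠ 0 := sub_ne_zero.mpr hc
  have key : ∀ y : K, Zl L k (C.θ (C.θ y)) 1 = Zl L k y 1 := by
    intro y
    set w : K := y / (C.θ c - c) with hw
    have hy : y = w * (C.θ c - c) := by rw [hw, div_mul_cancel₀ _ hP]
    have hA := hcross 1 (C.θ w) c
    rw [t3cl6h27_zeta L k hbal 1 (C.cross c (C.θ w)), t3cl6h27_zeta L k hbal c (C.cross 1 (C.θ w)),
      mul_one] at hA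
    -- `A + θ² y = B + y`
    have e : C.cross c (C.θ w) + C.θ (C.θ y) = C.cross 1 (C.θ w) * c + y := by
      rw [hy]
      simp only [Cub.cross, map_mul, map_sub, map_one, C.θ3]
      ring
    have h1 := hadd (C.cross c (C.θ w)) (C.θ (C.θ y)) 1
    have h2 := hadd (C.cross 1 (C.θ w) * c) y 1
    rw [e, h2, hA] at h1
    exact (mul_left_cancel h1).symm
  have := key (C.θ x)
  rw [C.θ3] at this
  exact this.symm

/-- L7 (core) -/
theorem t3cl7h27_core (L : ShortLift S σ) (k : ZMod 6)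
    (hbal : ∀ l s t : K, Zl L k (l * s) t = Zl L k s (l * t))
    (hadd : ∀ s s' t : K, Zl L k (s + s') t = Zl L k s t * Zl L k s' t)
    (hθ : ∀ x : K, Zl L k (C.θ x) 1 = Zl L k x 1)
    (hA4 : ∀ x : K, C.tr x = 0 → ∃ y : K, x = y - C.θ y)
    {s t s' t' : K} (hst : C.tr (s * t) = C.tr (s' * t')) : Zl L k s t = Zl L k s' t' := by
  have htr0 : C.tr (s * t - s' * t') = 0 := by
    apply (algebraMap F K).injective
    have h1 := C.htr (s * t)
    have h2 := C.htr (s' * t')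
    rw [hst] at h1
    rw [C.htr, map_zero, map_sub, map_sub]
    linear_combination h2 - h1
  obtain ⟨y, hy⟩ := hA4 _ htr0
  rw [t3cl6h27_zeta L k hbal s t, t3cl6h27_zeta L k hbal s' t']
  have e : t * s + C.θ y = t' * s' + y := by linear_combination hy
  have h1 := hadd (t * s) (C.θ y) 1
  have h2 := hadd (t' * s') y 1
  rw [e, h2, hθ y] at h1
  exact (mul_right_cancel h1).symm

end Cfsg.Agent.Lib.helper17.T3
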