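import Mathlib
import Cfsg.Agent.Lib.helper17.T3.DefsC
import Cfsg.Agent.Lib.helper3.SL2Mult
import Cfsg.Agent.Lib.helper23.CEUE1
import Cfsg.Agent.Lib.Helper27.T3CL6core
import Cfsg.Agent.Lib.Helper20.T3CL1
import Cfsg.Agent.Lib.helper15.T3CL4
import Cfsg.Agent.Lib.Helper13.T3CL5
import Cfsg.Agent.Lib.Helper29.T3CA2
import Cfsg.Agent.Lib.Helper9.T3CA4

/-!
# T3C rows L6 (`Zl_theta`) and L7 (`Zl_tr`), verbatim vs `helper17/T3/SkelC.lean.txt`.
-/

set_option autoImplicit false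

namespace Cfsg.Agent.Lib.helper17.T3

open Cfsg.Agent.Lib.helper15.St2 Cfsg.Agent.Lib.helper7.Ce Matrix

variable {F K : Type*} [Field F] [Field K] [Algebra F K]

variable {C : Cub F K} {G Γ : Type*} [Group G] [Group Γ]

section L

variable {S : SysT C G} {σ : Γ →* G}

/-- [L6] [M] -/
theorem Zl_theta (hC : C.Good) [Finite K] (h : IsCE σ) (hT : CLT S σ) (L : ShortLift S σ) (k : ZMod 6) (x : K) : Zl L k (C.θ x) 1 = Zl L k x 1 :=
  t3cl6h27_core L k (fun l s t => Zl_bal h hT L k l s t) (fun a b c => Zl_cross h hT L k a b c)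
    (fun s s' t => Zl_add_left hT L k s s' t) (Cub.theta_ne C hC) x

/-- [L7] [S] -/
theorem Zl_tr (hC : C.Good) [Finite K] (h : IsCE σ) (hT : CLT S σ) (L : ShortLift S σ) (k : ZMod 6) {s t s' t' : K} (hst : C.tr (s * t) = C.tr (s' * t')) : Zl L k s t = Zl L k s' t' :=
  t3cl7h27_core L k (fun l s t => Zl_bal h hT L k l s t) (fun s s' t => Zl_add_left hT L k s s' t)
    (fun x => Zl_theta hC h hT L k x) (fun x hx => Cub.exists_sub_theta C hC x hx) hst

end L

end Cfsg.Agent.Lib.helper17.T3
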