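import Mathlib
import Cfsg.Prelude.Def_GeometricClasses
import Cfsg.Agent.Lib.Helper27.ASC.Defs
import Cfsg.Agent.Lib.Helper19.ASG.Defs
import Cfsg.Agent.Lib.Helper18.ASP.Defs
import Cfsg.Agent.Lib.Helper26.ASGD1.Defs

set_option autoImplicit false
set_option linter.unusedVariables false
set_option linter.unusedSectionVars false

/-!
# Project ASP, block D1, piece D1-EV : `spd1_indep_ev`
Commuting involutions in the isometry group of a symplectic form whose matrices are linearly independent are fewer than `n`.
-/

namespace Cfsg.Agent.Lib.Helper18.ASP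

open Cfsg Cfsg.Geo Cfsg.Agent.Lib.Helper27.ASC Cfsg.Agent.Lib.Helper19.ASG
open scoped MatrixGroups Matrix

variable {n : ℕ} {F : Type*} [Field F] [Fintype F]

/-- a field in which `2 ≠ 0` has enough square roots of unity -/
theorem aspd1ev_enough_two (h2 : (2 : F) ≠ 0) : HasEnoughRootsOfUnity F 2 where
  prim := by
    refine ⟨-1, ?_⟩
    obtain ⟨p, hp⟩ := CharP.exists F
    have : CharP F p := hp
    refine IsPrimitiveRoot.neg_one p ?_
    rintro rfl
    exact h2 (CharP.cast_eq_zero F 2)
  cyc := rootsOfUnity.isCyclic F 2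

/-- two square roots of unity in a field with `2 ≠ 0` that differ have product `-1` -/
theorem aspd1ev_prod (h2 : (2 : F) ≠ 0) (a b : F) (ha : a * a = 1) (hb : b * b = 1) (hab : a ≠ b) : a * b = -1 := by
  have h1 : (a - b) * (a + b) = 0 := by ring_nf; rw [show a ^ 2 = a * a by ring, show b ^ 2 = b * b by ring, ha, hb]; ring
  rcases mul_eq_zero.mp h1 with h | h
  · exact absurd (sub_eq_zero.mp h) hab
  · have hb' : b = -a := by linear_combination h
    rw [hb']
    linear_combination -ha

/-- D1-EV -/
theorem spd1_indep_ev (hn : 0 < n) (f : (Fin n → F) → (Fin n → F) → F) (hf : IsSymplecticForm f) (h2 : (2 : F) ≠ 0)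
    (A : Subgroup (GL (Fin n) F)) (hAI : A ≤ isoGL f) (hcomm : ∀ a ∈ A, ∀ b ∈ A, a * b = b * a)
    (hsq : ∀ a ∈ A, a * a = 1)
    (hli : LinearIndependent F (fun a : A => ((a : GL (Fin n) F) : Matrix (Fin n) (Fin n) F))) :
    Nat.card A < n := by
  classical
  by_contra hcon
  push Not at hcon
  let _ : CommGroup A := { (inferInstance : Group A) with
    mul_comm := fun a b => Subtype.ext (hcomm a a.2 b b.2) }
  have : Fintype A := Fintype.ofFinite A
  -- enough roots of unity for the exponent of `A`
  have hexp : Monoid.exponent A ∣ 2 := by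
    apply Monoid.exponent_dvd_of_forall_pow_eq_one
    intro a
    rw [pow_two]
    exact Subtype.ext (hsq a a.2)
  have : HasEnoughRootsOfUnity F 2 := aspd1ev_enough_two h2
  have : HasEnoughRootsOfUnity F (Monoid.exponent A) := HasEnoughRootsOfUnity.of_dvd F hexp
  have hcardX : Nat.card (A →* Fˣ) = Nat.card A := CommGroup.card_monoidHom_of_hasEnoughRootsOfUnity A F
  have : Finite (A →* Fˣ) := inferInstance
  have : Fintype (A →* Fˣ) := Fintype.ofFinite _
  -- the values of a character are square roots of unity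
  have hval : ∀ (l : A →* Fˣ) (a : A), ((l a : Fˣ) : F) * ((l a : Fˣ) : F) = 1 := by
    intro l a
    have h1 : l a * l a = 1 := by
      rw [← map_mul]
      have : a * a = 1 := Subtype.ext (hsq a a.2)
      rw [this, map_one]
    have := congrArg (fun u : Fˣ => (u : F)) h1
    simpa using this
  have hinv : ∀ (l : A →* Fˣ) (a : A), (((l a)⁻¹ : Fˣ) : F) = ((l a : Fˣ) : F) := by
    intro l a
    have h1 : l a * l a = 1 := by
      rw [← map_mul]
      have : a * a = 1 := Subtype.ext (hsq a a.2)
      rw [this, map_one]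
    have : (l a)⁻¹ = l a := inv_eq_of_mul_eq_one_left h1
    rw [this]
  -- the character sums
  let E : (A →* Fˣ) → Matrix (Fin n) (Fin n) F := fun l =>
    ∑ a : A, ((l a : Fˣ) : F) • ((a : GL (Fin n) F) : Matrix (Fin n) (Fin n) F)
  have hE0 : ∀ l, E l ≠ 0 := by
    intro l h
    have h1 := Fintype.linearIndependent_iff.mp hli (fun a => ((l a : Fˣ) : F)) h (1 : A)
    exact (l 1).ne_zero h1
  have hEb : ∀ (l : A →* Fˣ) (b : A),
      ((b : GL (Fin n) F) : Matrix (Fin n) (Fin n) F) * E l = ((l b : Fˣ) : F) • E l := by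
    intro l b
    show ((b : GL (Fin n) F) : Matrix (Fin n) (Fin n) F) *
      (∑ a : A, ((l a : Fˣ) : F) • ((a : GL (Fin n) F) : Matrix (Fin n) (Fin n) F)) =
      ((l b : Fˣ) : F) • ∑ a : A, ((l a : Fˣ) : F) • ((a : GL (Fin n) F) : Matrix (Fin n) (Fin n) F)
    rw [Finset.mul_sum, Finset.smul_sum]
    refine Fintype.sum_equiv (Equiv.mulLeft b) _ _ ?_
    intro a
    show ((b : GL (Fin n) F) : Matrix (Fin n) (Fin n) F) *
        (((l a : Fˣ) : F) • ((a : GL (Fin n) F) : Matrix (Fin n) (Fin n) F)) =
      ((l b : Fˣ) : F) • (((l (b * a) : Fˣ) : F) •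
        (((b * a : A) : GL (Fin n) F) : Matrix (Fin n) (Fin n) F))
    rw [map_mul, Units.val_mul, smul_smul, ← mul_assoc, hval l b, one_mul, Matrix.mul_smul]
    rfl
  -- the common eigenvectors
  have hw : ∀ l, ∃ w : Fin n → F, E l *ᵥ w ≠ 0 := by
    intro l
    by_contra h
    push Not at h
    apply hE0 l
    have h1 : Matrix.toLin' (E l) = 0 := by
      apply LinearMap.ext
      intro w
      simpa using h w
    simpa using h1
  choose w hw using hw
  let v : (A →* Fˣ) → (Fin n → F) := fun l => E l *ᵥ w l
  have hv0 : ∀ l, v l ≠ 0 := hw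
  have hvb : ∀ (l : A →* Fˣ) (b : A),
      ((b : GL (Fin n) F) : Matrix (Fin n) (Fin n) F) *ᵥ v l = ((l b : Fˣ) : F) • v l := by
    intro l b
    show ((b : GL (Fin n) F) : Matrix (Fin n) (Fin n) F) *ᵥ (E l *ᵥ w l) = ((l b : Fˣ) : F) • (E l *ᵥ w l)
    rw [Matrix.mulVec_mulVec, hEb, Matrix.smul_mulVec]
  -- linear independence (Dedekind)
  have hvli : LinearIndependent F v := by
    rw [Fintype.linearIndependent_iff]
    intro c hc l₀
    have hD := linearIndependent_monoidHom A F
    have hinj : Function.Injective (fun l : A →* Fˣ => (Units.coeHom F).comp l) := by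
      intro l l' h
      ext a
      have := DFunLike.congr_fun h a
      simpa using this
    have hD' : LinearIndependent F (fun l : A →* Fˣ => (((Units.coeHom F).comp l : A →* F) : A → F)) :=
      hD.comp _ hinj
    rw [Fintype.linearIndependent_iff] at hD'
    -- coordinatewise
    have hcoord : ∀ i : Fin n, c l₀ * v l₀ i = 0 := by
      intro i
      refine hD' (fun l => c l * v l i) ?_ l₀
      funext b
      have h1 := congrArg (fun x => ((b : GL (Fin n) F) : Matrix (Fin n) (Fin n) F) *ᵥ x) hc
      simp only [Matrix.mulVec_sum, Matrix.mulVec_smul, Matrix.mulVec_zero] at h1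
      have h3 := congrFun h1 i
      simp only [Finset.sum_apply, Pi.smul_apply, Pi.zero_apply, smul_eq_mul] at h3
      simp only [Finset.sum_apply, Pi.smul_apply, smul_eq_mul, Pi.zero_apply]
      rw [← h3]
      refine Finset.sum_congr rfl fun l _ => ?_
      rw [hvb l b]
      simp only [Pi.smul_apply, smul_eq_mul, MonoidHom.coe_comp, Function.comp_apply, Units.coeHom_apply]
      ring
    obtain ⟨i, hi⟩ : ∃ i, v l₀ i ≠ 0 := by
      by_contra h
      push Not at h
      exact hv0 l₀ (funext h)
    rcases mul_eq_zero.mp (hcoord i) with h | h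
    · exact h
    · exact absurd h hi
  -- they span
  have hcardle := hvli.fintype_card_le_finrank
  rw [Module.finrank_fintype_fun_eq_card, Fintype.card_fin] at hcardle
  have hcardeq : Fintype.card (A →* Fˣ) = n := by
    apply le_antisymm hcardle
    rw [Fintype.card_eq_nat_card, hcardX]
    exact hcon
  have hspan : Submodule.span F (Set.range v) = ⊤ := by
    apply hvli.span_eq_top_of_card_eq_finrank'
    rw [Module.finrank_fintype_fun_eq_card, Fintype.card_fin, hcardeq]
  -- orthogonality
  have horth : ∀ l l' : A →* Fˣ, f (v l) (v l') = 0 := by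
    intro l l'
    by_cases hll : l = l'
    · subst hll
      exact hf.alternating _
    · obtain ⟨b, hb⟩ : ∃ b : A, l b ≠ l' b := by
        by_contra h
        push Not at h
        exact hll (MonoidHom.ext h)
      have h1 : f (((b : GL (Fin n) F) : Matrix (Fin n) (Fin n) F) *ᵥ v l)
          (((b : GL (Fin n) F) : Matrix (Fin n) (Fin n) F) *ᵥ v l') = f (v l) (v l') :=
        (mem_isoGL_iff f b).mp (hAI b.2) _ _
      rw [hvb, hvb, hf.bilinear.smul_left, hf.bilinear.smul_right, ← mul_assoc] at h1
      have hne : ((l b : Fˣ) : F) ≠ ((l' b : Fˣ) : F) := fun h => hb (Units.ext h)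
      rw [aspd1ev_prod h2 _ _ (hval l b) (hval l' b) hne] at h1
      have h3 : (2 : F) * f (v l) (v l') = 0 := by linear_combination -h1
      rcases mul_eq_zero.mp h3 with h | h
      · exact absurd h h2
      · exact h
  -- contradiction with non-degeneracy
  have key : ∀ x ∈ Submodule.span F (Set.range v), f x (v 1) = 0 := by
    intro x hxs
    induction hxs using Submodule.span_induction with
    | mem y hy =>
      obtain ⟨l, rfl⟩ := hy
      exact horth l 1
    | zero =>
      have := hf.bilinear.smul_left 0 0 (v 1)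
      simpa using this
    | add y z _ _ hy hz => rw [hf.bilinear.add_left, hy, hz, add_zero]
    | smul c y _ hy => rw [hf.bilinear.smul_left, hy, mul_zero]
  obtain ⟨x, hx⟩ := (hf.nondegenerate (v 1) (hv0 1)).1
  exact hx (key x (by rw [hspan]; trivial))

end Cfsg.Agent.Lib.Helper18.ASP
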