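import Mathlib
import Cfsg.Agent.Lib.Lead.Co2A
import Cfsg.Agent.Lib.helper7.Co1B

/-!
# Project C1O (S2069), piece FIXD : the minimal vectors fixed by the doubling `t ↦ 2 t`.
-/

set_option autoImplicit false
set_option linter.unusedVariables false
set_option linter.unreachableTactic false
set_option linter.unusedTactic false

namespace Cfsg.Agent.Lib.Helper27.Co1O

open Cfsg MulAction
open Cfsg.Agent.Lib.Lead.CW Cfsg.Agent.Lib.Lead.C2 Cfsg.Agent.Lib.helper7.Co1 Cfsg.Agent.S1571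

set_option maxHeartbeats 4000000 in
theorem fix_double (x : GolayPt → ℤ) (hx : x ∈ leechLattice) (hN : sqNorm x = 32)
    (h : ∀ p, x (tF L11 p) = x p) :
    ∃ a b c1 c2 : ℤ, x = V11 a b c1 c2 ∧
      [a, b, c1, c2] ∈ ([[4, 4, 0, 0], [-4, 4, 0, 0], [4, -4, 0, 0], [-4, -4, 0, 0],
        [1, -3, 1, 1], [-1, -3, 1, -1], [1, 3, -1, 1], [-1, 3, -1, -1],
        [-3, 1, 1, 1], [3, 1, 1, -1], [-3, -1, -1, 1], [3, -1, -1, -1]] : List (List ℤ)) := by
  have hform := form11 x h
  generalize x none = a at hform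
  generalize x (some 0) = b at hform
  generalize x (some 1) = c1 at hform
  generalize x (some 5) = c2 at hform
  subst hform
  refine ⟨a, b, c1, c2, rfl, ?_⟩
  rw [V11_norm] at hN
  obtain ⟨hps, hcode⟩ := leech_facts _ hx
  rw [V11_sum] at hps
  have hc1 := (Cfsg.Agent.Lib.Helper12.Golay.mem_golayCode_iff _).1 (hcode 1)
  have hc3 := (Cfsg.Agent.Lib.Helper12.Golay.mem_golayCode_iff _).1 (hcode 3)
  obtain ⟨a1, a2⟩ := sq_bound5 a (by nlinarith [sq_nonneg b, sq_nonneg c1, sq_nonneg c2])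
  obtain ⟨b1, b2⟩ := sq_bound5 b (by nlinarith [sq_nonneg a, sq_nonneg c1, sq_nonneg c2])
  obtain ⟨c11, c12⟩ := sq_bound1 c1 (by nlinarith [sq_nonneg a, sq_nonneg b, sq_nonneg c2])
  obtain ⟨c21, c22⟩ := sq_bound1 c2 (by nlinarith [sq_nonneg a, sq_nonneg b, sq_nonneg c1])
  rcases hps with ⟨hpar, hsum⟩ | ⟨hpar, hsum⟩
  · have p1 : a % 2 = 0 := hpar none
    have p2 : b % 2 = 0 := hpar (some 0)
    have p3 : c1 % 2 = 0 := hpar (some 1)
    have p4 : c2 % 2 = 0 := hpar (some 5)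
    have q1 : c1 = 0 := by omega
    have q2 : c2 = 0 := by omega
    have q3 : a = -4 ∨ a = -2 ∨ a = 0 ∨ a = 2 ∨ a = 4 := by omega
    have q4 : b = -4 ∨ b = -2 ∨ b = 0 ∨ b = 2 ∨ b = 4 := by omega
    subst q1
    subst q2
    rcases q3 with rfl | rfl | rfl | rfl | rfl <;> rcases q4 with rfl | rfl | rfl | rfl | rfl <;>
      first
        | omega
        | (exfalso; revert hN; norm_num; done)
        | decide
  · have p1 : a % 2 = 1 := hpar none
    have p2 : b % 2 = 1 := hpar (some 0)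
    have p3 : c1 % 2 = 1 := hpar (some 1)
    have p4 : c2 % 2 = 1 := hpar (some 5)
    have q1 : c1 = -1 ∨ c1 = 1 := by omega
    have q2 : c2 = -1 ∨ c2 = 1 := by omega
    have q3 : a = -5 ∨ a = -3 ∨ a = -1 ∨ a = 1 ∨ a = 3 ∨ a = 5 := by omega
    have q4 : b = -5 ∨ b = -3 ∨ b = -1 ∨ b = 1 ∨ b = 3 ∨ b = 5 := by omega
    rcases q1 with rfl | rfl <;> rcases q2 with rfl | rfl <;>
      rcases q3 with rfl | rfl | rfl | rfl | rfl | rfl <;>
      rcases q4 with rfl | rfl | rfl | rfl | rfl | rfl <;>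
      first
        | omega
        | (exfalso; revert hN; norm_num; done)
        | decide
        | (exfalso; revert hc1; decide)
        | (exfalso; revert hc3; decide)

end Cfsg.Agent.Lib.Helper27.Co1O
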