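import Mathlib
import Cfsg.Agent.Lib.Lead.Co2A
import Cfsg.Agent.Lib.helper7.Co1B

/-!
# Project C1O (S2069), piece FIXS : the minimal vectors fixed by the shift `t ↦ t + 1`.
-/

set_option autoImplicit false
set_option linter.unusedVariables false
set_option linter.unreachableTactic false
set_option linter.unusedTactic false

namespace Cfsg.Agent.Lib.Helper27.Co1O

open Cfsg MulAction
open Cfsg.Agent.Lib.Lead.CW Cfsg.Agent.Lib.Lead.C2 Cfsg.Agent.Lib.helper7.Co1 Cfsg.Agent.S1571

/-- the vector `(a, b^23)` -/
def Vab (a b : ℤ) : GolayPt → ℤ := fun p => if p = none then a else b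

theorem const_of_shift (x : GolayPt → ℤ)
    (h : ∀ t : ZMod 23, x (some (t + 1)) = x (some t)) (t : ZMod 23) :
    x (some t) = x (some 0) := by
  have h1 : ∀ n : ℕ, x (some ((n : ℕ) : ZMod 23)) = x (some 0) := by
    intro n
    induction n with
    | zero => simp
    | succ n ih => rw [Nat.cast_succ, h, ih]
  have h2 := h1 t.val
  rwa [ZMod.natCast_zmod_val] at h2

theorem form_shift (x : GolayPt → ℤ)
    (h : ∀ t : ZMod 23, x (some (t + 1)) = x (some t)) :
    x = Vab (x none) (x (some 0)) := by
  funext p
  rcases p with _ | t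
  · rfl
  · show x (some t) = x (some 0)
    exact const_of_shift x h t

theorem Vab_norm (a b : ℤ) : sqNorm (Vab a b) = a ^ 2 + 23 * b ^ 2 := by
  unfold sqNorm
  rw [sum24]
  simp only [Vab, if_true, reduceCtorEq, if_false]
  ring

theorem Vab_sum (a b : ℤ) : ∑ p, Vab a b p = a + 23 * b := by
  rw [sum24]
  simp only [Vab, if_true, reduceCtorEq, if_false]
  ring

theorem Vab_x0 : Vab (-3) 1 = x0 := by
  funext p
  rfl

theorem Vab_neg_x0 : Vab 3 (-1) = -x0 := by
  funext p
  rcases p with _ | t
  · rfl
  · rfl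

theorem fix_shift (x : GolayPt → ℤ) (hx : x ∈ leechLattice) (hN : sqNorm x = 32)
    (h : ∀ t : ZMod 23, x (some (t + 1)) = x (some t)) : x = x0 ∨ x = -x0 := by
  have hform := form_shift x h
  generalize x none = a at hform
  generalize x (some 0) = b at hform
  subst hform
  rw [Vab_norm] at hN
  obtain ⟨hps, -⟩ := leech_facts _ hx
  rw [Vab_sum] at hps
  obtain ⟨b1, b2⟩ := sq_bound1 b (by nlinarith [sq_nonneg a])
  obtain ⟨a1, a2⟩ := sq_bound5 a (by nlinarith [sq_nonneg b])
  rcases hps with ⟨hpar, hsum⟩ | ⟨hpar, hsum⟩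
  · have p1 : a % 2 = 0 := hpar none
    have p2 : b % 2 = 0 := hpar (some 0)
    exfalso
    interval_cases b <;> interval_cases a <;>
      first
        | omega
        | (revert hN; norm_num; done)
  · have p1 : a % 2 = 1 := hpar none
    have p2 : b % 2 = 1 := hpar (some 0)
    interval_cases b <;> interval_cases a <;>
      first
        | omega
        | (exfalso; revert hN; norm_num; done)
        | (left; exact Vab_x0)
        | (right; exact Vab_neg_x0)

end Cfsg.Agent.Lib.Helper27.Co1O
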