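import Mathlib
import Cfsg.Agent.S5083
import Cfsg.Agent.Lib.Helper26.PPowerIndex
import Cfsg.Agent.Lib.Helper13.PResidual
import Cfsg.Agent.Lib.helper17.FusSmall
import Cfsg.Prelude.Def_FusionReduction

/-!
# Residual limits of fusion systems

* `SM E F`: two fusion systems (over possibly different but then equal subgroups) have the same maps;
  `SM.elim` transports any property along it.
* `hyp_eq_of_pPowerIndex`: a subsystem of `p`-power index over a strongly closed subgroup has the
  same hyperfocal subgroup.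
* `limit_unique`: residual limits are unique up to `SM`.
-/

set_option autoImplicit false

namespace Cfsg.Agent.Lib.Helper27.ResLimit

open Cfsg Cfsg.FusionSystem Cfsg.Agent.Lib.Helper26

variable {Ω : Type*} [Group Ω]

/-- the two systems have the same maps -/
def SM {T S : Subgroup Ω} (E : FusionSystem T) (F : FusionSystem S) : Prop :=
  ∀ P : Subgroup Ω, E.Hom P = F.Hom P

theorem SM.refl {S : Subgroup Ω} (F : FusionSystem S) : SM F F := fun _ => rfl

theorem SM.symm {T S : Subgroup Ω} {E : FusionSystem T} {F : FusionSystem S} (h : SM E F) :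
    SM F E := fun P => (h P).symm

theorem SM.trans {T S U : Subgroup Ω} {E : FusionSystem T} {F : FusionSystem S}
    {D : FusionSystem U} (h : SM E F) (h' : SM F D) : SM E D := fun P => (h P).trans (h' P)

theorem SM.base_eq {T S : Subgroup Ω} {E : FusionSystem T} {F : FusionSystem S} (h : SM E F) :
    T = S := by
  apply le_antisymm
  · have h1 : T.subtype ∈ F.Hom T := by
      rw [← h T]
      exact subtype_mem E le_rfl
    exact source_le F h1
  · have h1 : S.subtype ∈ E.Hom S := by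
      rw [h S]
      exact subtype_mem F le_rfl
    exact source_le E h1

/-- transport of an arbitrary property along `SM` -/
theorem SM.elim {T S : Subgroup Ω} {E : FusionSystem T} {F : FusionSystem S} (h : SM E F)
    (C : ∀ {U : Subgroup Ω}, FusionSystem U → Prop) (hC : C E) : C F := by
  have hTS := h.base_eq
  subst hTS
  have hEF : E = F := Cfsg.Agent.S5083.fusionSystem_ext h
  subst hEF
  exact hC

/-! ### hyperfocal subgroups -/

theorem hyp_le_of_subsystem (p : ℕ) {T S : Subgroup Ω} (E : FusionSystem T) (F : FusionSystem S)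
    (h : E.IsSubsystemOf F) : E.hyperfocalSubgroup p ≤ F.hyperfocalSubgroup p := by
  have hTS := le_of_subsystem h
  refine (Subgroup.closure_le _).mpr ?_
  rintro _ ⟨P, α, x, hPT, hα, rfl⟩
  have hAF : E.autGroup P ≤ F.autGroup P := autGroup_mono_of_subsystem h P
  have h3 := map_pResidual_le p (Subgroup.inclusion hAF) (Subgroup.inclusion_injective hAF)
  have h4 : Subgroup.inclusion hAF α ∈ pResidual p (F.autGroup P) :=
    h3 (Subgroup.mem_map_of_mem _ hα)
  exact gen_mem_hyperfocal F p (hPT.trans hTS) _ h4 x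

open Cfsg.Agent.Lib.helper17.FusSmall in
/-- the generator attached to an automorphism of order prime to `p` lies in the hyperfocal subgroup
of a subsystem of `p`-power index over a strongly closed subgroup -/
theorem coprime_gen_mem {S : Subgroup Ω} [Finite S] {p : ℕ} [Fact p.Prime] (hS : IsPGroup p S)
    {T : Subgroup Ω} (E : FusionSystem T) (F : FusionSystem S) (hT : F.StronglyClosed T)
    (hidx : E.HasPPowerIndexIn F p) {P : Subgroup Ω} (hPS : P ≤ S) (β : F.autGroup P)
    (hβ : Nat.Coprime (orderOf β) p) (x : P) :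
    (x : Ω)⁻¹ * (((β : MulAut P) x : P) : Ω) ∈ E.hyperfocalSubgroup p := by
  obtain ⟨a, ha⟩ := β
  have hao : orderOf a = orderOf (⟨a, ha⟩ : F.autGroup P) := (Subgroup.orderOf_mk a ha).symm
  have han : a ^ orderOf (⟨a, ha⟩ : F.autGroup P) = 1 := by
    rw [← hao]
    exact pow_orderOf_eq_one a
  have hTS : T ≤ S := hT.1
  have hP₀P : P ⊓ T ≤ P := inf_le_left
  have hP₀T : P ⊓ T ≤ T := inf_le_right
  haveI hfin₀ : Finite ↥(P ⊓ T) := finite_of_le (hP₀P.trans hPS)
  have h1 : ∀ z (hz : z ∈ P ⊓ T), ((a ⟨z, hP₀P hz⟩ : P) : Ω) ∈ P ⊓ T := by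
    intro z hz
    refine ⟨(a ⟨z, hP₀P hz⟩).2, ?_⟩
    have h2 := (mem_autGroup_iff F hPS).mp ha
    exact hT.2 (P ⊓ T) hP₀T _ (restrict_mem F h2 hP₀P) ⟨z, hz⟩
  have ha₀ : restrictAut a (P ⊓ T) hP₀P h1 ∈ F.autGroup (P ⊓ T) :=
    restrictAut_mem_autGroup F hPS ha (P ⊓ T) hP₀P h1
  have ha₀n : (restrictAut a (P ⊓ T) hP₀P h1) ^ orderOf (⟨a, ha⟩ : F.autGroup P) = 1 := by
    ext z
    rw [restrictAut_pow_apply, han]
    rfl
  -- powers of the restriction give generators of the hyperfocal subgroup of `E`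
  have hG : ∀ (k : ℕ) (y : Ω) (hy : y ∈ P ⊓ T),
      y⁻¹ * (((a ^ k) ⟨y, hP₀P hy⟩ : P) : Ω) ∈ E.hyperfocalSubgroup p := by
    intro k y hy
    have hcop : Nat.Coprime (orderOf ((restrictAut a (P ⊓ T) hP₀P h1) ^ k)) p := by
      have hd1 : orderOf ((restrictAut a (P ⊓ T) hP₀P h1) ^ k) ∣
          orderOf (restrictAut a (P ⊓ T) hP₀P h1) := orderOf_pow_dvd k
      have hd2 : orderOf (restrictAut a (P ⊓ T) hP₀P h1) ∣
          orderOf (⟨a, ha⟩ : F.autGroup P) := orderOf_dvd_of_pow_eq_one ha₀n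
      exact Nat.Coprime.coprime_dvd_left (hd1.trans hd2) hβ
    have hkF : (restrictAut a (P ⊓ T) hP₀P h1) ^ k ∈ F.autGroup (P ⊓ T) :=
      Subgroup.pow_mem _ ha₀ k
    have hresF : (⟨(restrictAut a (P ⊓ T) hP₀P h1) ^ k, hkF⟩ : F.autGroup (P ⊓ T)) ∈
        pResidual p (F.autGroup (P ⊓ T)) := by
      apply Helper13.mem_pResidual_of_coprime
      rw [Subgroup.orderOf_mk]
      exact hcop
    have hkE : (restrictAut a (P ⊓ T) hP₀P h1) ^ k ∈ E.autGroup (P ⊓ T) :=
      hidx.2.2 (P ⊓ T) hP₀T (Subgroup.mem_map_of_mem _ hresF)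
    have hresE : (⟨(restrictAut a (P ⊓ T) hP₀P h1) ^ k, hkE⟩ : E.autGroup (P ⊓ T)) ∈
        pResidual p (E.autGroup (P ⊓ T)) := by
      apply Helper13.mem_pResidual_of_coprime
      rw [Subgroup.orderOf_mk]
      exact hcop
    have h3 := gen_mem_hyperfocal E p hP₀T _ hresE ⟨y, hy⟩
    rw [restrictAut_pow_apply] at h3
    exact h3
  -- the element `u`
  have huF : (x : Ω)⁻¹ * ((a x : P) : Ω) ∈ F.hyperfocalSubgroup p :=
    gen_mem_hyperfocal F p hPS ⟨a, ha⟩ (Helper13.mem_pResidual_of_coprime hβ) x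
  have huT : (x : Ω)⁻¹ * ((a x : P) : Ω) ∈ T := hidx.2.1 huF
  have huP : (x : Ω)⁻¹ * ((a x : P) : Ω) ∈ P := P.mul_mem (P.inv_mem x.2) (a x).2
  obtain ⟨uP, huPv⟩ : ∃ uP : P, (uP : Ω) = (x : Ω)⁻¹ * ((a x : P) : Ω) := ⟨⟨_, huP⟩, rfl⟩
  rw [← huPv] at huT ⊢
  have hu₀ : (uP : Ω) ∈ P ⊓ T := ⟨uP.2, huT⟩
  have hxu : a x = x * uP := by
    apply Subtype.ext
    rw [Subgroup.coe_mul, huPv]
    group
  have hnorm := le_normalizer_hyperfocal E p
  have hconj : ∀ r ∈ E.hyperfocalSubgroup p,
      (uP : Ω)⁻¹ * r * (uP : Ω) ∈ E.hyperfocalSubgroup p := by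
    intro r hr
    have h2 := hnorm (T.inv_mem huT)
    have h3 := (Subgroup.mem_normalizer_iff.mp h2 r).mp hr
    rwa [inv_inv] at h3
  have hind : ∀ k : ℕ, ∃ r ∈ E.hyperfocalSubgroup p,
      (x : Ω)⁻¹ * (((a ^ k) x : P) : Ω) = (uP : Ω) ^ k * r := by
    intro k
    induction k with
    | zero => exact ⟨1, Subgroup.one_mem _, by simp⟩
    | succ k ih =>
      obtain ⟨r, hr, hkr⟩ := ih
      refine ⟨((uP : Ω)⁻¹ * r * (uP : Ω)) * ((uP : Ω)⁻¹ * (((a ^ k) uP : P) : Ω)),
        Subgroup.mul_mem _ (hconj r hr) (hG k _ hu₀), ?_⟩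
      have e1 : (a ^ (k + 1)) x = (a ^ k) x * (a ^ k) uP := by
        rw [pow_succ, MulAut.mul_apply, hxu, map_mul]
      rw [e1, Subgroup.coe_mul, ← mul_assoc, hkr, pow_succ]
      group
  obtain ⟨r, hr, hnr⟩ := hind (orderOf (⟨a, ha⟩ : F.autGroup P))
  rw [han, MulAut.one_apply, inv_mul_cancel] at hnr
  have hun : (uP : Ω) ^ orderOf (⟨a, ha⟩ : F.autGroup P) ∈ E.hyperfocalSubgroup p := by
    have e : (uP : Ω) ^ orderOf (⟨a, ha⟩ : F.autGroup P) = r⁻¹ :=
      eq_inv_of_mul_eq_one_left hnr.symm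
    rw [e]
    exact Subgroup.inv_mem _ hr
  -- `u` is a `p`-element
  obtain ⟨j, hj⟩ := hS ⟨(uP : Ω), hTS huT⟩
  have hj' : (uP : Ω) ^ (p ^ j) = 1 := by
    have := congrArg Subtype.val hj
    simpa using this
  have hcop2 : (orderOf (⟨a, ha⟩ : F.autGroup P)).Coprime (orderOf (uP : Ω)) := by
    have hd : orderOf (uP : Ω) ∣ p ^ j := orderOf_dvd_of_pow_eq_one hj'
    exact Nat.Coprime.coprime_dvd_right hd (Nat.Coprime.pow_right j hβ)
  obtain ⟨m, hm⟩ := exists_pow_eq_self_of_coprime hcop2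
  rw [← hm]
  exact Subgroup.pow_mem _ hun m

theorem hyp_le_of_pPowerIndex {S : Subgroup Ω} [Finite S] {p : ℕ} [Fact p.Prime]
    (hS : IsPGroup p S) {T : Subgroup Ω} (E : FusionSystem T) (F : FusionSystem S)
    (hT : F.StronglyClosed T) (hidx : E.HasPPowerIndexIn F p) :
    F.hyperfocalSubgroup p ≤ E.hyperfocalSubgroup p := by
  refine (Subgroup.closure_le _).mpr ?_
  rintro _ ⟨P, α, x, hPS, hα, rfl⟩
  let B : Subgroup (F.autGroup P) :=
    { carrier := {β | ∀ x : P, (x : Ω)⁻¹ * (((β : MulAut P) x : P) : Ω) ∈ E.hyperfocalSubgroup p}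
      one_mem' := by
        intro x
        simp
      mul_mem' := by
        intro β γ hβ hγ x
        have e : (x : Ω)⁻¹ * ((((β * γ : F.autGroup P) : MulAut P) x : P) : Ω) =
            ((x : Ω)⁻¹ * ((((γ : MulAut P) x : P)) : Ω)) *
              (((((γ : MulAut P) x : P)) : Ω)⁻¹ *
                (((β : MulAut P) ((γ : MulAut P) x) : P) : Ω)) := by
          rw [Subgroup.coe_mul, MulAut.mul_apply]
          group
        rw [e]
        exact Subgroup.mul_mem _ (hγ x) (hβ _)
      inv_mem' := by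
        intro β hβ x
        have h1 := hβ (((β : MulAut P)⁻¹) x)
        have e : (x : Ω)⁻¹ * ((((β⁻¹ : F.autGroup P) : MulAut P) x : P) : Ω) =
            (((((β : MulAut P)⁻¹) x : P) : Ω)⁻¹ *
              (((β : MulAut P) (((β : MulAut P)⁻¹) x) : P) : Ω))⁻¹ := by
          rw [Subgroup.coe_inv, MulAut.apply_inv_self, mul_inv_rev, inv_inv]
        rw [e]
        exact Subgroup.inv_mem _ h1 }
  have hB : pResidual p (F.autGroup P) ≤ B := by
    unfold pResidual
    rw [Subgroup.closure_le]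
    intro β hβ x
    exact coprime_gen_mem hS E F hT hidx hPS β hβ x
  exact hB hα x

theorem hyp_eq_of_pPowerIndex {S : Subgroup Ω} [Finite S] {p : ℕ} [Fact p.Prime]
    (hS : IsPGroup p S) {T : Subgroup Ω} (E : FusionSystem T) (F : FusionSystem S)
    (hT : F.StronglyClosed T) (hidx : E.HasPPowerIndexIn F p) :
    E.hyperfocalSubgroup p = F.hyperfocalSubgroup p :=
  le_antisymm (hyp_le_of_subsystem p E F hidx.1) (hyp_le_of_pPowerIndex hS E F hT hidx)


/-! ### residual limits -/

/-- the system is its own `p`-residual and its own `p'`-residual -/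
def Stable (p : ℕ) {S : Subgroup Ω} (F : FusionSystem S) : Prop :=
  F.hyperfocalSubgroup p = S ∧ F.IsPPrimeResidual p F

theorem hasPPowerIndexIn_self {S : Subgroup Ω} (F : FusionSystem S) (p : ℕ) :
    F.HasPPowerIndexIn F p :=
  ⟨fun _ => subset_rfl, hyperfocal_le F p, fun _ _ => Subgroup.map_subtype_le _⟩

/-- the `p'`-residual of a stable system is the system itself -/
theorem sm_of_stable_pPrimeResidual {p : ℕ} {S : Subgroup Ω} {D D' : FusionSystem S}
    (hD : Stable p D) (hD' : D.IsPPrimeResidual p D') : SM D' D :=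
  fun P => Set.Subset.antisymm (hD'.2.1.1 P) (hD.2.2.2 D' hD'.1 hD'.2.1 P)

/-- a residual limit of a stable system has the same maps as the system -/
theorem limit_of_stable {p : ℕ} {T S : Subgroup Ω} {L : FusionSystem T} {F : FusionSystem S}
    (h : IsResidualLimitOf L F p) :
    p.Prime → Finite S → IsPGroup p S → Stable p F → SM L F := by
  induction h with
  | stable F p h1 h2 =>
    intro _ _ _ _
    exact SM.refl _
  | step F p D D' hD hD' hl ih =>
    intro hp hfin hS hst
    haveI : Fact p.Prime := ⟨hp⟩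
    have hFsat : F.IsSaturated p := hst.2.1
    have hDF : SM D F := fun P =>
      hom_eq_of_pPowerIndex hS F hst.1 D F hD.1 hFsat hD.2 (hasPPowerIndexIn_self F p) P
    have hDst : Stable p D := hDF.symm.elim (fun X => Stable p X) hst
    have hD'D : SM D' D := sm_of_stable_pPrimeResidual hDst hD'
    have hD'st : Stable p D' := hD'D.symm.elim (fun X => Stable p X) hDst
    have hle : F.hyperfocalSubgroup p ≤ _ := hyperfocal_le F p
    exact (ih hp (finite_of_le hle) (hS.to_le hle) hD'st).trans (hD'D.trans hDF)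

/-- residual limits are unique -/
theorem limit_unique {p : ℕ} {T S : Subgroup Ω} {L₁ : FusionSystem T} {F : FusionSystem S}
    (h : IsResidualLimitOf L₁ F p) :
    p.Prime → Finite S → IsPGroup p S →
      ∀ {T₂ : Subgroup Ω} (L₂ : FusionSystem T₂), IsResidualLimitOf L₂ F p → SM L₁ L₂ := by
  induction h with
  | stable F p h1 h2 =>
    intro hp hfin hS T₂ L₂ h₂
    exact (limit_of_stable h₂ hp hfin hS ⟨h1, h2⟩).symm
  | step F p D D' hD hD' hl ih =>
    intro hp hfin hS T₂ L₂ h₂
    haveI : Fact p.Prime := ⟨hp⟩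
    cases h₂ with
    | stable _ _ h1 h2 =>
      exact limit_of_stable (IsResidualLimitOf.step F p D D' hD hD' hl) hp hfin hS ⟨h1, h2⟩
    | step _ _ E E' hE hE' hl₂ =>
      have hDE : D = E := Cfsg.Agent.S5083.fusionSystem_ext (fun P =>
        hom_eq_of_pPowerIndex hS F rfl D E hD.1 hE.1 hD.2 hE.2 P)
      subst hDE
      have hD'E' : D' = E' := Cfsg.Agent.S5083.fusionSystem_ext (fun P =>
        Set.Subset.antisymm (hD'.2.2 E' hE'.1 hE'.2.1 P) (hE'.2.2 D' hD'.1 hD'.2.1 P))
      subst hD'E'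
      have hle : F.hyperfocalSubgroup p ≤ _ := hyperfocal_le F p
      exact ih hp (finite_of_le hle) (hS.to_le hle) L₂ hl₂

/-- `p'`-residuals of systems with the same maps have the same maps -/
theorem sm_pPrimeResidual {p : ℕ} {S₁ S₂ : Subgroup Ω} {X : FusionSystem S₁} {Y : FusionSystem S₂}
    (h : SM X Y) {X' : FusionSystem S₁} {Y' : FusionSystem S₂} (hX : X.IsPPrimeResidual p X')
    (hY : Y.IsPPrimeResidual p Y') : SM X' Y' := by
  have hb := h.base_eq
  subst hb
  have hXY : X = Y := Cfsg.Agent.S5083.fusionSystem_ext h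
  subst hXY
  exact fun P => Set.Subset.antisymm (hX.2.2 Y' hY.1 hY.2.1 P) (hY.2.2 X' hX.1 hX.2.1 P)

/-- **Residual limits of a saturated subsystem of `p`-power index with the same hyperfocal
subgroup.** -/
theorem limit_of_pPowerIndex {p : ℕ} [Fact p.Prime] {S : Subgroup Ω} [Finite S] (hS : IsPGroup p S)
    (F : FusionSystem S) {T : Subgroup Ω} (E : FusionSystem T) (hEs : E.IsSaturated p)
    (hidx : E.HasPPowerIndexIn F p) (hhyp : E.hyperfocalSubgroup p = F.hyperfocalSubgroup p)
    {U V : Subgroup Ω} (Finf : FusionSystem U) (hFinf : Finf.IsResidualLimitOf F p)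
    (Einf : FusionSystem V) (hEinf : Einf.IsResidualLimitOf E p) : SM Finf Einf := by
  have hp : p.Prime := Fact.out
  have hfinS : Finite S := inferInstance
  have hTS : T ≤ S := le_of_subsystem hidx.1
  have hfinT : Finite T := finite_of_le hTS
  have hT : IsPGroup p T := hS.to_le hTS
  have hleF : F.hyperfocalSubgroup p ≤ S := hyperfocal_le F p
  cases hFinf with
  | stable _ _ h1 h2 =>
    -- `F` is stable, so `T = S` and `E` has the same maps as `F`
    have hST : T = S := le_antisymm hTS (h1 ▸ hidx.2.1)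
    have hEF : SM E F := fun P =>
      hom_eq_of_pPowerIndex hS F hST E F hEs h2.1 hidx (hasPPowerIndexIn_self F p) P
    have hl : IsResidualLimitOf Einf F p :=
      hEF.elim (fun X => IsResidualLimitOf Einf X p) hEinf
    exact (limit_of_stable hl hp hfinS hS ⟨h1, h2⟩).symm
  | step _ _ D D' hD hD' hl =>
    cases hEinf with
    | stable _ _ h1 h2 =>
      -- `E` is stable
      have hTh : F.hyperfocalSubgroup p = T := hhyp.symm.trans h1
      have hDE : SM D E := fun P =>
        hom_eq_of_pPowerIndex hS F hTh D E hD.1 hEs hD.2 hidx P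
      have hDst : Stable p D := hDE.symm.elim (fun X => Stable p X) ⟨h1, h2⟩
      have hD'D : SM D' D := sm_of_stable_pPrimeResidual hDst hD'
      have hl' : IsResidualLimitOf Finf E p :=
        (hD'D.trans hDE).elim (fun X => IsResidualLimitOf Finf X p) hl
      exact limit_of_stable hl' hp hfinT hT ⟨h1, h2⟩
    | step _ _ DE DE' hDE hDE' hlE =>
      -- both take a step
      have hidx2 : DE.HasPPowerIndexIn F p := by
        refine ⟨fun P => (hDE.2.1 P).trans (hidx.1 P), hhyp.ge, fun P hP => ?_⟩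
        refine le_trans ?_ (hDE.2.2.2 P hP)
        have hPT : P ≤ T := hP.trans (hyperfocal_le E p)
        -- `O^p(Aut_F(P)) ≤ O^p(Aut_E(P))`
        have hAE : E.autGroup P ≤ F.autGroup P := autGroup_mono_of_subsystem hidx.1 P
        rw [Subgroup.map_le_iff_le_comap]
        unfold pResidual
        rw [Subgroup.closure_le]
        intro β hβ
        have hβE : (β : MulAut P) ∈ E.autGroup P :=
          hidx.2.2 P hPT (Subgroup.mem_map_of_mem _ (Helper13.mem_pResidual_of_coprime hβ))
        rw [SetLike.mem_coe, Subgroup.mem_comap]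
        refine ⟨⟨(β : MulAut P), hβE⟩, ?_, rfl⟩
        apply Helper13.mem_pResidual_of_coprime
        have e1 : orderOf (⟨(β : MulAut P), hβE⟩ : E.autGroup P) = orderOf (β : MulAut P) :=
          Subgroup.orderOf_mk _ _
        have e2 : orderOf β = orderOf (β : MulAut P) := (Subgroup.orderOf_coe β).symm
        rw [e1, ← e2]
        exact hβ
      have hDDE : SM D DE := fun P =>
        hom_eq_of_pPowerIndex hS F hhyp.symm D DE hD.1 hDE.1 hD.2 hidx2 P
      have hD'DE' : SM D' DE' := sm_pPrimeResidual hDDE hD' hDE'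
      have hlE' : IsResidualLimitOf Einf D' p :=
        hD'DE'.symm.elim (fun X => IsResidualLimitOf Einf X p) hlE
      exact limit_unique hl hp (finite_of_le hleF) (hS.to_le hleF) Einf hlE'

end Cfsg.Agent.Lib.Helper27.ResLimit
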