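import Cfsg.Agent.Lib.Helper26.PPowerIndex

set_option autoImplicit false

namespace Cfsg.Agent.Lib.Helper27

open Cfsg Cfsg.FusionSystem Cfsg.Agent.Lib.Helper26

variable {Ω : Type*} [Group Ω] {S : Subgroup Ω}

/-- The full subsystem of `F` on a subgroup `T ≤ S`: all maps of `F` between subgroups of `T`. -/
def fullSub (F : FusionSystem S) (T : Subgroup Ω) (hTS : T ≤ S) : FusionSystem T where
  Hom P := {φ | φ ∈ F.Hom P ∧ P ≤ T ∧ ∀ x : P, φ x ∈ T}
  le_of_mem := fun h => ⟨h.2.1, h.2.2⟩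
  injective_of_mem := fun h => F.injective_of_mem h.1
  conj_mem := by
    intro P g hP hg
    refine ⟨F.conj_mem (hP.trans hTS) (hTS hg), hP, fun x => ?_⟩
    exact T.mul_mem (T.mul_mem hg (hP x.2)) (T.inv_mem hg)
  comp_mem := by
    intro P Q φ ψ hφ hψ h
    exact ⟨F.comp_mem hφ.1 hψ.1 h, hφ.2.1, fun x => hψ.2.2 _⟩
  inv_mem := by
    intro P φ hφ
    obtain ⟨ψ, hψ, hψe⟩ := F.inv_mem hφ.1
    refine ⟨ψ, ⟨hψ, ?_, ?_⟩, hψe⟩
    · rintro _ ⟨x, rfl⟩
      exact hφ.2.2 x
    · rintro ⟨_, x, rfl⟩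
      rw [hψe x]
      exact hφ.2.1 x.2

theorem mem_fullSub_iff (F : FusionSystem S) {T : Subgroup Ω} (hTS : T ≤ S) {P : Subgroup Ω}
    {φ : P →* Ω} : φ ∈ (fullSub F T hTS).Hom P ↔ φ ∈ F.Hom P ∧ P ≤ T ∧ ∀ x : P, φ x ∈ T :=
  Iff.rfl

theorem fullSub_isSubsystemOf (F : FusionSystem S) {T : Subgroup Ω} (hTS : T ≤ S) :
    (fullSub F T hTS).IsSubsystemOf F := fun _ _ h => h.1

theorem autGroup_fullSub (F : FusionSystem S) {T : Subgroup Ω} (hTS : T ≤ S) {P : Subgroup Ω}
    (hPT : P ≤ T) : (fullSub F T hTS).autGroup P = F.autGroup P := by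
  ext α
  rw [mem_autGroup_iff _ hPT, mem_autGroup_iff _ (hPT.trans hTS), mem_fullSub_iff]
  constructor
  · exact fun h => h.1
  · exact fun h => ⟨h, hPT, fun x => hPT (α x).2⟩

/-- A saturated subsystem `E` over `T ≤ U` of `F` lies in any subsystem over `U` of `p`-power index. -/
theorem subsystem_of_pPowerIndex [Finite S] {p : ℕ} [Fact p.Prime] (hS : IsPGroup p S)
    (F : FusionSystem S) {T U : Subgroup Ω} (E : FusionSystem T) (hEs : E.IsSaturated p)
    (hEF : E.IsSubsystemOf F) (F₀ : FusionSystem U) (hTU : T ≤ U)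
    (hidx : F₀.HasPPowerIndexIn F p) : E.IsSubsystemOf F₀ := by
  have hTS : T ≤ S := le_of_subsystem hEF
  have hUS : U ≤ S := le_of_subsystem hidx.1
  have hfinT : Finite T := finite_of_le hTS
  have hT : IsPGroup p T := hS.to_le hTS
  have key : E ≤ fullSub F₀ T hTU := by
    refine Cfsg.Agent.S5082.result p hT E hEs (fullSub F₀ T hTU) (fun P hP => ?_)
    have hfn : E.IsFullyNormalized P := by
      rcases hP with rfl | hP
      · exact top_fullyNormalized E
      · exact hP.2.1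
    have hPT : P ≤ T := hfn.1
    have hfinP : Finite P := finite_of_le (hPT.trans hTS)
    have hfa : E.IsFullyAutomized p P := (saturated_fullyNormalized hT E hEs hfn).2.1
    have hsyl : IsSylowIn p (E.autGroup P) (autInducedBy T P) := hfa.2
    have hle : autInducedBy T P ≤ E.autGroup P := autInducedBy_le_autGroup E hPT
    rw [autGroup_fullSub F₀ hTU hPT,
      eq_pResidual_sup_of_isSylowIn (E.autGroup P) (autInducedBy T P) hle hsyl]
    refine sup_le ?_ ((autInducedBy_mono hTU P).trans (autInducedBy_le_autGroup F₀ (hPT.trans hTU)))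
    refine le_trans ?_ (hidx.2.2 P (hPT.trans hTU))
    have hAF : E.autGroup P ≤ F.autGroup P := autGroup_mono_of_subsystem hEF P
    have h3 := map_pResidual_le p (Subgroup.inclusion hAF) (Subgroup.inclusion_injective hAF)
    have h4 := Subgroup.map_mono (f := (F.autGroup P).subtype) h3
    rw [Subgroup.map_map] at h4
    exact h4
  intro P φ hφ
  exact (key P hφ).1

end Cfsg.Agent.Lib.Helper27
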