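import Mathlib
import Cfsg.Agent.Lib.Helper27.S5954OCYCDVD
import Cfsg.Agent.Lib.Helper27.S5953T5
import Cfsg.Agent.Lib.Helper27.S5953T6

set_option autoImplicit false
set_option linter.unusedVariables false
set_option linter.unusedSectionVars false

/-!
# Project S5954, row ONECDIM (verbatim): the dimension of a nondegenerate invariant subspace.
-/

namespace Cfsg.Agent.Lib.Helper19.S5954

open Polynomial Module Cfsg.Agent.Lib.helper3
open Cfsg.Agent.Lib.helper3.S5953 (cc bb hermI fixS cycS HInv)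

/-- the cyclotomic part of a nondegenerate invariant subspace is nondegenerate. -/
theorem s5954onecdim_cyc_nd {F : Type*} [Field F] [Fintype F] {p : ℕ} [Fact p.Prime] [CharP F p] {q n : ℕ}
    (hF : Fintype.card F = q ^ 2) {r : ℕ} [Fact r.Prime] (hrp : r ≠ p)
    {y : Module.End F (Fin n → F)} (h : S5953.HCtx q r 1 y)
    (W : Submodule F (Fin n → F)) (hW : HInv y W) (hWnd : S5953.HND q W) :
    S5953.HND q (W ⊓ cycS r y) := by
  obtain ⟨horth, _, _, _⟩ := S5953.split hF hrp h
  have hcop : IsCoprime (X - 1 : F[X]) (cyclotomic r F) :=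
    Cfsg.Agent.Lib.Helper24.el_cyc_coprime (F := F) (p := p) r hrp
  have hpow : y ^ r = 1 := by
    have := h.pow
    rwa [one_smul] at this
  have hkill : aeval y ((X - 1) * cyclotomic r F) = 0 :=
    Cfsg.Agent.Lib.Helper24.el_cyc_kill r y hpow
  intro u hu hrad
  apply hWnd u hu.1
  intro w hw
  -- decompose `w`
  obtain ⟨S, T, hST⟩ := hcop
  have hw' : w = aeval y (T * cyclotomic r F) w + aeval y (S * (X - 1)) w := by
    rw [← LinearMap.add_apply, ← map_add, add_comm, hST, map_one, Module.End.one_apply]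
  have hfix : aeval y (T * cyclotomic r F) w ∈ fixS y := by
    show aeval y (T * cyclotomic r F) w ∈ LinearMap.ker (aeval y (X - 1 : F[X]))
    rw [LinearMap.mem_ker, ← Module.End.mul_apply, ← map_mul]
    have : (X - 1 : F[X]) * (T * cyclotomic r F) = T * ((X - 1) * cyclotomic r F) := by ring
    rw [this, map_mul, hkill, mul_zero, LinearMap.zero_apply]
  have hcyc : aeval y (S * (X - 1)) w ∈ W ⊓ cycS r y := by
    refine ⟨Cfsg.Agent.Lib.Helper24.el_aeval_mem hW _ hw, ?_⟩
    show aeval y (S * (X - 1)) w ∈ LinearMap.ker (aeval y (cyclotomic r F))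
    rw [LinearMap.mem_ker, ← Module.End.mul_apply, ← map_mul]
    have : cyclotomic r F * (S * (X - 1)) = S * ((X - 1) * cyclotomic r F) := by ring
    rw [this, map_mul, hkill, mul_zero, LinearMap.zero_apply]
  rw [hw']
  apply S5953.s5953t6_symm hF
  rw [S5953.hermI_add_left, horth _ hfix u hu.2, S5953.s5953t6_symm hF _ _ (hrad _ hcyc), add_zero]

/-- ONECDIM [M]: the dimension of a nondegenerate invariant subspace (`el_split_W`; `W ⊓ cycS` is nondegenerate: T5 orthogonality and the components of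
`w ∈ W` lie in `W`; OCYCDVD). -/
theorem o_nec_dim {F : Type*} [Field F] [Fintype F] {p : ℕ} [Fact p.Prime] [CharP F p] {q n : ℕ}
    (hF : Fintype.card F = q ^ 2) {r : ℕ} [Fact r.Prime] (hrp : r ≠ p) (hr2 : r ≠ 2)
    {y : Module.End F (Fin n → F)} (h : S5953.HCtx q r 1 y)
    (W : Submodule F (Fin n → F)) (hW : HInv y W) (hWnd : S5953.HND q W) :
    ∃ w0 t : ℕ, finrank F W = w0 + cc (orderOf (q : ZMod r)) * t ∧ w0 ≤ finrank F (fixS y) := by
  have hcop : IsCoprime (X - 1 : F[X]) (cyclotomic r F) :=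
    Cfsg.Agent.Lib.Helper24.el_cyc_coprime (F := F) (p := p) r hrp
  have hpow : y ^ r = 1 := by
    have := h.pow
    rwa [one_smul] at this
  have hkill : aeval y ((X - 1) * cyclotomic r F) = 0 :=
    Cfsg.Agent.Lib.Helper24.el_cyc_kill r y hpow
  have hsplit := Cfsg.Agent.Lib.Helper24.el_split_W y (cyclotomic r F) hcop hkill W hW
  have hW2inv : HInv y (W ⊓ cycS r y) :=
    Cfsg.Agent.Lib.Helper24.el_inv_inf hW (Cfsg.Agent.Lib.Helper24.el_inv_ker y _)
  obtain ⟨t, ht⟩ := o_cyc_dvd hF hrp hr2 h (W ⊓ cycS r y) hW2inv inf_le_right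
    (s5954onecdim_cyc_nd hF hrp h W hW hWnd)
  refine ⟨finrank F ↥(W ⊓ LinearMap.ker (aeval y (X - 1 : F[X]))), t, ?_, ?_⟩
  · rw [hsplit]
    congr 1
  · exact Submodule.finrank_mono (inf_le_right : W ⊓ LinearMap.ker (aeval y (X - 1 : F[X])) ≤ fixS y)

end Cfsg.Agent.Lib.Helper19.S5954
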