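import Cfsg.Agent.Lib.Helper27.FusLift

set_option autoImplicit false

namespace Cfsg.Agent.Lib.Helper27

open Cfsg Cfsg.FusionSystem Cfsg.Agent.Lib.Helper26

theorem exists_pprime_pow {G : Type*} [Group G] [Finite G] (p : ℕ) [hp : Fact p.Prime] (g : G)
    {d : ℕ} (hd : d.Coprime p) : ∃ k : ℕ, k % d = 1 % d ∧ (orderOf (g ^ k)).Coprime p := by
  have hn0 : orderOf g ≠ 0 := (orderOf_pos g).ne'
  obtain ⟨a, m, hm, hn⟩ := Nat.exists_eq_pow_mul_and_not_dvd hn0 p hp.out.ne_one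
  have hd0 : d ≠ 0 := by
    rintro rfl
    rw [Nat.coprime_zero_left] at hd
    exact hp.out.ne_one hd
  have hcop : (p ^ a).Coprime d := (Nat.Coprime.pow_left a hd.symm)
  obtain ⟨e, -, he⟩ := Nat.exists_mul_mod_eq_of_coprime 1 hcop hd0
  refine ⟨p ^ a * e, he, ?_⟩
  have h1 : (g ^ (p ^ a * e)) ^ m = 1 := by
    rw [← pow_mul]
    have : p ^ a * e * m = orderOf g * e := by rw [hn]; ring
    rw [this, pow_mul, pow_orderOf_eq_one, one_pow]
  have h2 : orderOf (g ^ (p ^ a * e)) ∣ m := orderOf_dvd_of_pow_eq_one h1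
  have h3 : m.Coprime p := ((Nat.Prime.coprime_iff_not_dvd hp.out).mpr hm).symm
  exact Nat.Coprime.coprime_dvd_left h2 h3

variable {Ω : Type*} [Group Ω] {S : Subgroup Ω}

/-- `γ ∈ Aut(P ⊔ T)` agrees with `β ∈ Aut(P)` modulo `T`. -/
def AgreesMod (T : Subgroup Ω) {P : Subgroup Ω} (β : MulAut P) (γ : MulAut ↥(P ⊔ T)) : Prop :=
  ∀ x : P, ((β x : P) : Ω)⁻¹ * ((γ (Subgroup.inclusion le_sup_left x) : ↥(P ⊔ T)) : Ω) ∈ T

theorem range_eq_of_range_le [Finite S] (F : FusionSystem S) {P : Subgroup Ω} {φ : P →* Ω}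
    (hφ : φ ∈ F.Hom P) (h : φ.range ≤ P) : φ.range = P := by
  have hfin : Finite P := finite_of_le (source_le F hφ)
  apply Subgroup.eq_of_le_of_card_ge h
  exact (Nat.card_congr (MonoidHom.ofInjective (F.injective_of_mem hφ)).toEquiv).le

theorem exists_aut_lift [Finite S] {p : ℕ} [Fact p.Prime] (hS : IsPGroup p S) (F : FusionSystem S)
    (hF : F.IsSaturated p) {T : Subgroup Ω} (hT : F.StronglyClosed T) {P : Subgroup Ω}
    (hPS : P ≤ S) {β : MulAut P} (hβ : β ∈ F.autGroup P) :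
    ∃ γ ∈ F.autGroup (P ⊔ T), AgreesMod T β γ := by
  have hφ : P.subtype.comp β.toMonoidHom ∈ F.Hom P := (mem_autGroup_iff F hPS).mp hβ
  obtain ⟨ψ, hψ, hψe⟩ := exists_lift hS F hF hT P _ hφ
  have hSn := le_normalizer_of_stronglyClosed F hT
  have hle : ψ.range ≤ P ⊔ T := by
    rintro _ ⟨z, rfl⟩
    obtain ⟨x, hx, t, ht, hz⟩ := exists_mul_of_mem_sup (hPS.trans hSn) z.2
    have hz' : z = Subgroup.inclusion le_sup_left (⟨x, hx⟩ : P) *
        Subgroup.inclusion le_sup_right (⟨t, ht⟩ : T) := Subtype.ext hz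
    rw [hz', map_mul]
    refine Subgroup.mul_mem _ ?_ ?_
    · have h1 := hψe ⟨x, hx⟩
      have e : ψ (Subgroup.inclusion le_sup_left (⟨x, hx⟩ : P)) =
          ((β ⟨x, hx⟩ : P) : Ω) * (((β ⟨x, hx⟩ : P) : Ω)⁻¹ *
            ψ (Subgroup.inclusion le_sup_left (⟨x, hx⟩ : P))) := by group
      rw [e]
      exact Subgroup.mul_mem _ ((le_sup_left : P ≤ P ⊔ T) (β ⟨x, hx⟩).2)
        ((le_sup_right : T ≤ P ⊔ T) h1)
    · exact (le_sup_right : T ≤ P ⊔ T) (apply_mem_of_stronglyClosed F hT hψ _ ht)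
  have hr : ψ.range = P ⊔ T := range_eq_of_range_le F hψ hle
  exact ⟨autOfHom F hψ hr, autOfHom_mem F hψ hr, fun x => hψe x⟩

theorem aut_apply_mem_of_stronglyClosed (F : FusionSystem S) {T : Subgroup Ω}
    (hT : F.StronglyClosed T) {Q : Subgroup Ω} (hQS : Q ≤ S) {γ : MulAut Q}
    (hγ : γ ∈ F.autGroup Q) (y : Q) (hy : (y : Ω) ∈ T) : ((γ y : Q) : Ω) ∈ T :=
  apply_mem_of_stronglyClosed F hT ((mem_autGroup_iff F hQS).mp hγ) y hy

theorem agreesMod_pow (F : FusionSystem S) {T : Subgroup Ω} (hT : F.StronglyClosed T)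
    {P : Subgroup Ω} (hPS : P ≤ S) {β : MulAut P} {γ : MulAut ↥(P ⊔ T)}
    (hγ : γ ∈ F.autGroup (P ⊔ T)) (h : AgreesMod T β γ) (k : ℕ) :
    AgreesMod T (β ^ k) (γ ^ k) := by
  have hQS : P ⊔ T ≤ S := sup_le hPS hT.1
  induction k with
  | zero =>
    intro x
    simp only [pow_zero, MulAut.one_apply]
    show (x : Ω)⁻¹ * (x : Ω) ∈ T
    rw [inv_mul_cancel]
    exact T.one_mem
  | succ k ih =>
    intro x
    rw [pow_succ', pow_succ', MulAut.mul_apply, MulAut.mul_apply]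
    have h1 := ih x
    have h2 := h ((β ^ k) x)
    have hmem : ((Subgroup.inclusion le_sup_left ((β ^ k) x))⁻¹ *
        (γ ^ k) (Subgroup.inclusion le_sup_left x) : ↥(P ⊔ T)) ∈ T.subgroupOf (P ⊔ T) := h1
    have h3 := aut_apply_mem_of_stronglyClosed F hT hQS hγ _ (Subgroup.mem_subgroupOf.mp hmem)
    rw [map_mul, map_inv] at h3
    have e : ((β ((β ^ k) x) : P) : Ω)⁻¹ *
        ((γ ((γ ^ k) (Subgroup.inclusion le_sup_left x)) : ↥(P ⊔ T)) : Ω) =
        (((β ((β ^ k) x) : P) : Ω)⁻¹ *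
          ((γ (Subgroup.inclusion le_sup_left ((β ^ k) x)) : ↥(P ⊔ T)) : Ω)) *
        (((γ (Subgroup.inclusion le_sup_left ((β ^ k) x)))⁻¹ *
          γ ((γ ^ k) (Subgroup.inclusion le_sup_left x)) : ↥(P ⊔ T)) : Ω) := by
      simp only [Subgroup.coe_mul, Subgroup.coe_inv]
      group
    rw [e]
    exact T.mul_mem h2 h3

theorem exists_aut_lift_pprime [Finite S] {p : ℕ} [Fact p.Prime] (hS : IsPGroup p S)
    (F : FusionSystem S) (hF : F.IsSaturated p) {T : Subgroup Ω} (hT : F.StronglyClosed T)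
    {P : Subgroup Ω} (hPS : P ≤ S) {β : MulAut P} (hβ : β ∈ F.autGroup P)
    (hord : (orderOf β).Coprime p) :
    ∃ γ ∈ F.autGroup (P ⊔ T), (orderOf γ).Coprime p ∧ AgreesMod T β γ := by
  obtain ⟨γ, hγ, hγβ⟩ := exists_aut_lift hS F hF hT hPS hβ
  have hfin : Finite ↥(P ⊔ T) := finite_of_le (sup_le hPS hT.1)
  obtain ⟨k, hk, hkord⟩ := exists_pprime_pow p γ hord
  refine ⟨γ ^ k, Subgroup.pow_mem _ hγ k, hkord, ?_⟩
  have h1 := agreesMod_pow F hT hPS hγ hγβ k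
  have h2 : β ^ k = β := by
    rw [← pow_mod_orderOf, hk, pow_mod_orderOf, pow_one]
  rwa [h2] at h1

end Cfsg.Agent.Lib.Helper27
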