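import Mathlib
import Cfsg.Agent.S5082
import Cfsg.Agent.Lib.Helper27.FusInner
import Cfsg.Agent.Lib.Helper27.FusLift2
import Cfsg.Agent.Lib.Helper26.KNorm7

/-!
# Inner fusion systems and automorphisms of order prime to `p`

* `Inner F`: every map of `F` is a conjugation by an element of `S`;
* `PAut p F U β`: `β` is a nontrivial `F`-automorphism of `U` of order prime to `p`;
* a saturated fusion system is inner iff it has no such automorphism (Frobenius).
-/

set_option autoImplicit false

namespace Cfsg.Agent.Lib.Helper27.GT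

open Cfsg Cfsg.FusionSystem Cfsg.Agent.Lib.Helper26 Cfsg.Agent.Lib.Helper27

universe u

variable {Ω : Type u} [Group Ω] {S : Subgroup Ω}

/-- every map of the system is a conjugation by an element of `S` -/
def Inner (F : FusionSystem S) : Prop :=
  ∀ P : Subgroup Ω, F.Hom P = (innerFusionSystem S).Hom P

/-- a nontrivial automorphism of order prime to `p` -/
def PAut (p : ℕ) (F : FusionSystem S) (U : Subgroup Ω) (β : MulAut U) : Prop :=
  β ∈ F.autGroup U ∧ β ≠ 1 ∧ (orderOf β).Coprime p

theorem finite_mulAut_of_le [Finite S] {U : Subgroup Ω} (hU : U ≤ S) : Finite (MulAut U) := by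
  haveI : Finite U := finite_of_le hU
  exact Finite.of_injective (fun a : MulAut U => (a : U → U))
    (fun a b hab => MulEquiv.ext (fun x => congrFun hab x))

theorem inner_le (F : FusionSystem S) : innerFusionSystem S ≤ F := by
  rintro P φ ⟨hP, g, hg, h⟩
  exact mem_of_forall_eq F (F.conj_mem hP hg) (fun x => h x)

theorem inner_of_le {F : FusionSystem S} (h : F ≤ innerFusionSystem S) : Inner F :=
  fun P => Set.Subset.antisymm (h P) (inner_le F P)

/-- an element of order prime to `p` in a `p`-group is trivial -/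
theorem eq_one_of_coprime_of_isPGroup {G : Type*} [Group G] {p : ℕ} [Fact p.Prime] {A : Subgroup G}
    (hA : IsPGroup p A) {g : G} (hg : g ∈ A) (hord : (orderOf g).Coprime p) : g = 1 := by
  obtain ⟨k, hk⟩ := hA ⟨g, hg⟩
  have hk' : g ^ (p ^ k) = 1 := by
    have := congrArg Subtype.val hk
    simpa using this
  have h1 : orderOf g ∣ p ^ k := orderOf_dvd_of_pow_eq_one hk'
  have h2 : (orderOf g).Coprime (p ^ k) := Nat.Coprime.pow_right k hord
  have h3 : orderOf g = 1 := Nat.Coprime.eq_one_of_dvd h2 h1
  exact orderOf_eq_one_iff.mp h3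

/-- in an inner system there are no nontrivial automorphisms of order prime to `p` -/
theorem not_paut_of_inner {p : ℕ} [Fact p.Prime] (hS : IsPGroup p S) {F : FusionSystem S}
    (h : Inner F) {U : Subgroup Ω} (hU : U ≤ S) {β : MulAut U} (hβ : PAut p F U β) : False := by
  obtain ⟨h1, h2, h3⟩ := hβ
  have h4 : β ∈ (innerFusionSystem S).autGroup U := by
    rw [mem_autGroup_iff _ hU, ← h U]
    exact (mem_autGroup_iff F hU).mp h1
  rw [inner_autGroup_eq S hU] at h4
  exact h2 (eq_one_of_coprime_of_isPGroup (isPGroup_autInducedBy hS U) h4 h3)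

/-- if there are no nontrivial automorphisms of order prime to `p`, the automorphism groups are
`p`-groups -/
theorem isPGroup_autGroup_of_no_paut [Finite S] {p : ℕ} [hp : Fact p.Prime] {F : FusionSystem S}
    (h : ∀ (U : Subgroup Ω) (β : MulAut U), U ≤ S → ¬ PAut p F U β) {U : Subgroup Ω} (hU : U ≤ S) :
    IsPGroup p (F.autGroup U) := by
  haveI := finite_mulAut_of_le hU
  rintro ⟨β, hβ⟩
  have hn0 : orderOf β ≠ 0 := (orderOf_pos β).ne'
  obtain ⟨a, m, hm, hn⟩ := Nat.exists_eq_pow_mul_and_not_dvd hn0 p hp.out.ne_one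
  refine ⟨a, ?_⟩
  apply Subtype.ext
  rw [Subgroup.coe_pow, Subgroup.coe_one]
  show β ^ p ^ a = 1
  by_contra hne
  apply h U (β ^ p ^ a) hU
  refine ⟨Subgroup.pow_mem _ hβ _, hne, ?_⟩
  have h1 : (β ^ p ^ a) ^ m = 1 := by
    rw [← pow_mul, ← hn, pow_orderOf_eq_one]
  have h2 : orderOf (β ^ p ^ a) ∣ m := orderOf_dvd_of_pow_eq_one h1
  have h3 : m.Coprime p := ((Nat.Prime.coprime_iff_not_dvd hp.out).mpr hm).symm
  exact Nat.Coprime.coprime_dvd_left h2 h3

/-- Frobenius' theorem for fusion systems: a saturated system all of whose automorphism groups are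
`p`-groups is inner -/
theorem inner_of_forall_isPGroup [Finite S] {p : ℕ} [Fact p.Prime] (hS : IsPGroup p S)
    (F : FusionSystem S) (hF : F.IsSaturated p)
    (h : ∀ U : Subgroup Ω, U ≤ S → IsPGroup p (F.autGroup U)) : Inner F := by
  apply inner_of_le
  apply Cfsg.Agent.S5082.result p hS F hF
  intro P hP
  have hPn : F.IsFullyNormalized P := by
    rcases hP with rfl | hP
    · exact top_fullyNormalized F
    · exact hP.2.1
  obtain ⟨-, ⟨hPS, R, hR⟩, -⟩ := saturated_fullyNormalized hS F hF hPn
  rw [inner_autGroup_eq S hPS]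
  have htop : (⊤ : Subgroup (F.autGroup P)) = (R : Subgroup (F.autGroup P)) :=
    R.3 ((h P hPS).to_subgroup ⊤) le_top
  rw [hR] at htop
  intro α hα
  have : (⟨α, hα⟩ : F.autGroup P) ∈ (autInducedBy S P).subgroupOf (F.autGroup P) := by
    rw [← htop]
    exact Subgroup.mem_top _
  exact Subgroup.mem_subgroupOf.mp this

theorem exists_paut_of_not_inner [Finite S] {p : ℕ} [Fact p.Prime] (hS : IsPGroup p S)
    (F : FusionSystem S) (hF : F.IsSaturated p) (h : ¬ Inner F) :
    ∃ (U : Subgroup Ω) (β : MulAut U), U ≤ S ∧ PAut p F U β := by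
  by_contra hcon
  push Not at hcon
  apply h
  apply inner_of_forall_isPGroup hS F hF
  intro U hU
  exact isPGroup_autGroup_of_no_paut (fun U β hU hβ => hcon U β hU hβ) hU

end Cfsg.Agent.Lib.Helper27.GT
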