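import Mathlib
import Cfsg.Agent.Lib.Helper26.FusionNormal
import Cfsg.Agent.Lib.Helper26.FusionSat3
import Cfsg.Agent.S5095

/-!
# Set-up for the model theorem

* `cS`: the conjugation action of `S` on a subgroup it normalizes;
* `MapOn`: partial maps of a fusion system presented by total functions on `S`;
* `Nal`: the subgroup `N_α` attached to an automorphism `α` of `Q`;
* `exists_ext`, `unique_ext`: existence and uniqueness of extensions of `F`-automorphisms of a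
  normal centric subgroup.
-/

set_option autoImplicit false

namespace Cfsg.Agent.Lib.Helper27.Model

open Cfsg Cfsg.FusionSystem Cfsg.Agent.Lib.Helper26

universe u

variable {Ω : Type u} [Group Ω] {S : Subgroup Ω}

/-- the conjugation action of `S` on a subgroup it normalizes -/
def cS (Q : Subgroup Ω) (hQ : S ≤ Subgroup.normalizer (Q : Set Ω)) : ↥S →* MulAut ↥Q :=
  (Subgroup.normalizerMonoidHom Q).comp (Subgroup.inclusion hQ)

theorem cS_apply (Q : Subgroup Ω) (hQ : S ≤ Subgroup.normalizer (Q : Set Ω)) (s : ↥S) (q : ↥Q) :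
    ((cS Q hQ s q : ↥Q) : Ω) = (s : Ω) * (q : Ω) * (s : Ω)⁻¹ := rfl

theorem cS_inv_apply (Q : Subgroup Ω) (hQ : S ≤ Subgroup.normalizer (Q : Set Ω)) (s : ↥S)
    (q : ↥Q) : (((cS Q hQ s)⁻¹ q : ↥Q) : Ω) = (s : Ω)⁻¹ * (q : Ω) * (s : Ω) := by
  rw [← map_inv, cS_apply]
  simp

theorem cS_mem_autGroup (F : FusionSystem S) {Q : Subgroup Ω} (hQS : Q ≤ S)
    (hQ : S ≤ Subgroup.normalizer (Q : Set Ω)) (s : ↥S) : cS Q hQ s ∈ F.autGroup Q := by
  rw [mem_autGroup_iff F hQS]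
  exact mem_of_forall_eq F (F.conj_mem hQS s.2) (fun x => rfl)

theorem cS_eq_one_iff {Q : Subgroup Ω} (hQ : S ≤ Subgroup.normalizer (Q : Set Ω)) (s : ↥S) :
    cS Q hQ s = 1 ↔ (s : Ω) ∈ Subgroup.centralizer (Q : Set Ω) := by
  constructor
  · intro h
    rw [Subgroup.mem_centralizer_iff]
    intro q hq
    have := congrArg (fun a : MulAut ↥Q => ((a ⟨q, hq⟩ : ↥Q) : Ω)) h
    simp only [cS_apply, MulAut.one_apply] at this
    rw [mul_inv_eq_iff_eq_mul] at this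
    exact this.symm
  · intro h
    ext q
    rw [cS_apply, MulAut.one_apply]
    rw [Subgroup.mem_centralizer_iff] at h
    rw [← h q q.2, mul_inv_cancel_right]

/-- the kernel of the conjugation action on a centric subgroup -/
theorem cS_ker_of_centric (F : FusionSystem S) {Q : Subgroup Ω} (hQc : F.IsCentric Q)
    (hQ : S ≤ Subgroup.normalizer (Q : Set Ω)) (s : ↥S) (h : cS Q hQ s = 1) :
    ∃ z ∈ Subgroup.center ↥Q, Subgroup.inclusion hQc.1 z = s := by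
  have h1 : (s : Ω) ∈ Subgroup.centralizer (Q : Set Ω) := (cS_eq_one_iff hQ s).mp h
  have h2 : (s : Ω) ∈ Q := hQc.2 Q (isConj_refl F hQc.1) ⟨s.2, h1⟩
  refine ⟨⟨s, h2⟩, ?_, Subtype.ext rfl⟩
  rw [Subgroup.mem_center_iff]
  intro g
  apply Subtype.ext
  rw [Subgroup.mem_centralizer_iff] at h1
  exact h1 g g.2

/-- a partial map of the fusion system, presented by a total function on `S` -/
def MapOn (F : FusionSystem S) (R : Subgroup Ω) (f : ↥S → ↥S) : Prop :=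
  ∃ φ ∈ F.Hom R, ∀ (x : ↥S) (hx : (x : Ω) ∈ R), φ ⟨x, hx⟩ = (f x : Ω)

theorem MapOn.le {F : FusionSystem S} {R : Subgroup Ω} {f : ↥S → ↥S} (h : MapOn F R f) : R ≤ S := by
  obtain ⟨φ, hφ, -⟩ := h
  exact source_le F hφ

theorem MapOn.mono {F : FusionSystem S} {R R' : Subgroup Ω} {f : ↥S → ↥S} (h : MapOn F R f)
    (hR : R' ≤ R) : MapOn F R' f := by
  obtain ⟨φ, hφ, h1⟩ := h
  exact ⟨φ.comp (Subgroup.inclusion hR), restrict_mem F hφ hR, fun x hx => h1 x (hR hx)⟩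

theorem MapOn.congr {F : FusionSystem S} {R : Subgroup Ω} {f g : ↥S → ↥S} (h : MapOn F R f)
    (hfg : ∀ x : ↥S, (x : Ω) ∈ R → f x = g x) : MapOn F R g := by
  obtain ⟨φ, hφ, h1⟩ := h
  exact ⟨φ, hφ, fun x hx => by rw [h1 x hx, hfg x hx]⟩

theorem mapOn_conj (F : FusionSystem S) {R : Subgroup Ω} (hR : R ≤ S) (s : ↥S) :
    MapOn F R (fun x => s * x * s⁻¹) :=
  ⟨conjHom R s, F.conj_mem hR s.2, fun _ _ => rfl⟩

theorem mapOn_id (F : FusionSystem S) {R : Subgroup Ω} (hR : R ≤ S) : MapOn F R (fun x => x) :=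
  ⟨R.subtype, subtype_mem F hR, fun _ _ => rfl⟩

theorem MapOn.comp {F : FusionSystem S} {R R' : Subgroup Ω} {f g : ↥S → ↥S} (hf : MapOn F R f)
    (hg : MapOn F R' g) (h : ∀ x : ↥S, (x : Ω) ∈ R → (f x : Ω) ∈ R') :
    MapOn F R (fun x => g (f x)) := by
  obtain ⟨φ, hφ, h1⟩ := hf
  obtain ⟨ψ, hψ, h2⟩ := hg
  have hRS : R ≤ S := source_le F hφ
  have hmem : ∀ x : R, φ x ∈ R' := by
    intro x
    have := h1 ⟨x, hRS x.2⟩ x.2
    rw [this]
    exact h _ x.2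
  refine ⟨ψ.comp (φ.codRestrict R' hmem), F.comp_mem hφ hψ hmem, fun x hx => ?_⟩
  rw [MonoidHom.comp_apply]
  have e : (φ.codRestrict R' hmem) ⟨x, hx⟩ = ⟨(f x : Ω), h x hx⟩ := by
    apply Subtype.ext
    exact h1 x hx
  rw [e]
  exact h2 (f x) (h x hx)

theorem MapOn.map_mul {F : FusionSystem S} {R : Subgroup Ω} {f : ↥S → ↥S} (h : MapOn F R f)
    {x y : ↥S} (hx : (x : Ω) ∈ R) (hy : (y : Ω) ∈ R) : f (x * y) = f x * f y := by
  obtain ⟨φ, hφ, h1⟩ := h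
  apply Subtype.ext
  rw [Subgroup.coe_mul, ← h1 x hx, ← h1 y hy, ← h1 (x * y) (R.mul_mem hx hy)]
  have e : (⟨((x * y : ↥S) : Ω), R.mul_mem hx hy⟩ : ↥R) = ⟨x, hx⟩ * ⟨y, hy⟩ := rfl
  rw [e, _root_.map_mul φ]

theorem MapOn.map_one {F : FusionSystem S} {R : Subgroup Ω} {f : ↥S → ↥S} (h : MapOn F R f) :
    f 1 = 1 := by
  obtain ⟨φ, hφ, h1⟩ := h
  apply Subtype.ext
  rw [← h1 1 R.one_mem]
  exact _root_.map_one φ

theorem MapOn.map_inv {F : FusionSystem S} {R : Subgroup Ω} {f : ↥S → ↥S} (h : MapOn F R f)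
    {x : ↥S} (hx : (x : Ω) ∈ R) : f x⁻¹ = (f x)⁻¹ := by
  have hx' : ((x⁻¹ : ↥S) : Ω) ∈ R := by
    rw [Subgroup.coe_inv]
    exact R.inv_mem hx
  have h1 := h.map_mul hx hx'
  rw [mul_inv_cancel, h.map_one] at h1
  exact (inv_eq_of_mul_eq_one_right h1.symm).symm

theorem MapOn.injOn {F : FusionSystem S} {R : Subgroup Ω} {f : ↥S → ↥S} (h : MapOn F R f)
    {x y : ↥S} (hx : (x : Ω) ∈ R) (hy : (y : Ω) ∈ R) (hxy : f x = f y) : x = y := by
  obtain ⟨φ, hφ, h1⟩ := h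
  have h2 : φ ⟨x, hx⟩ = φ ⟨y, hy⟩ := by rw [h1 x hx, h1 y hy, hxy]
  have := F.injective_of_mem hφ h2
  exact Subtype.ext (congrArg (fun r : ↥R => (r : Ω)) this)

open Classical in
/-- the total function attached to a map of the system -/
noncomputable def totalFun {R : Subgroup Ω} (φ : R →* Ω) : ↥S → ↥S :=
  fun x => if h : (x : Ω) ∈ R then (if h2 : φ ⟨x, h⟩ ∈ S then ⟨φ ⟨x, h⟩, h2⟩ else 1) else 1

theorem mapOn_totalFun (F : FusionSystem S) {R : Subgroup Ω} {φ : R →* Ω} (hφ : φ ∈ F.Hom R) :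
    MapOn F R (totalFun φ) := by
  refine ⟨φ, hφ, fun x hx => ?_⟩
  unfold totalFun
  rw [dif_pos hx, dif_pos (apply_mem F hφ _)]

/-- the subgroup `N_α` of `S` -/
def Nal (Q : Subgroup Ω) (hQ : S ≤ Subgroup.normalizer (Q : Set Ω)) (α : MulAut ↥Q) :
    Subgroup Ω where
  carrier := {x | ∃ hx : x ∈ S, ∃ y : ↥S, α * cS Q hQ ⟨x, hx⟩ * α⁻¹ = cS Q hQ y}
  one_mem' := ⟨S.one_mem, 1, by
    have : (⟨1, S.one_mem⟩ : ↥S) = 1 := rfl
    rw [this, _root_.map_one, mul_one, mul_inv_cancel]⟩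
  mul_mem' := by
    rintro a b ⟨ha, y, hy⟩ ⟨hb, y', hy'⟩
    refine ⟨S.mul_mem ha hb, y * y', ?_⟩
    have : (⟨a * b, S.mul_mem ha hb⟩ : ↥S) = ⟨a, ha⟩ * ⟨b, hb⟩ := rfl
    rw [this, map_mul, map_mul, ← hy, ← hy']
    group
  inv_mem' := by
    rintro a ⟨ha, y, hy⟩
    refine ⟨S.inv_mem ha, y⁻¹, ?_⟩
    have : (⟨a⁻¹, S.inv_mem ha⟩ : ↥S) = ⟨a, ha⟩⁻¹ := rfl
    rw [this, map_inv, map_inv, ← hy]
    group

theorem mem_Nal {Q : Subgroup Ω} {hQ : S ≤ Subgroup.normalizer (Q : Set Ω)} {α : MulAut ↥Q}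
    {x : ↥S} : (x : Ω) ∈ Nal Q hQ α ↔ ∃ y : ↥S, α * cS Q hQ x * α⁻¹ = cS Q hQ y := by
  constructor
  · rintro ⟨hx, y, hy⟩
    exact ⟨y, hy⟩
  · rintro ⟨y, hy⟩
    exact ⟨x.2, y, hy⟩

theorem Nal_le (Q : Subgroup Ω) (hQ : S ≤ Subgroup.normalizer (Q : Set Ω)) (α : MulAut ↥Q) :
    Nal Q hQ α ≤ S := by
  rintro x ⟨hx, -⟩
  exact hx

theorem le_Nal {Q : Subgroup Ω} (hQS : Q ≤ S) (hQ : S ≤ Subgroup.normalizer (Q : Set Ω))
    (α : MulAut ↥Q) : Q ≤ Nal Q hQ α := by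
  intro q hq
  refine ⟨hQS hq, Subgroup.inclusion hQS (α ⟨q, hq⟩), ?_⟩
  ext y
  rw [MulAut.mul_apply, MulAut.mul_apply, cS_apply]
  have h1 : ((cS Q hQ ⟨q, hQS hq⟩) (α⁻¹ y)) = ⟨q, hq⟩ * (α⁻¹ y) * ⟨q, hq⟩⁻¹ := by
    apply Subtype.ext
    rfl
  rw [h1, _root_.map_mul, _root_.map_mul, MulAut.apply_inv_self, _root_.map_inv]
  rfl

theorem totalFun_apply (F : FusionSystem S) {R : Subgroup Ω} {φ : R →* Ω} (hφ : φ ∈ F.Hom R)
    (x : ↥S) (hx : (x : Ω) ∈ R) : ((totalFun φ x : ↥S) : Ω) = φ ⟨x, hx⟩ := by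
  unfold totalFun
  rw [dif_pos hx, dif_pos (apply_mem F hφ _)]

/-- a subgroup normal in the system is weakly closed -/
theorem range_eq_of_isNormal {F : FusionSystem S} {Q : Subgroup Ω} (hQ : F.IsNormal Q)
    {φ : Q →* Ω} (hφ : φ ∈ F.Hom Q) : φ.range = Q := by
  obtain ⟨ψ, -, hψφ, hψQ⟩ := hQ.2 Q φ hφ
  apply le_antisymm
  · rintro _ ⟨x, rfl⟩
    rw [← hψφ]
    have e : Subgroup.inclusion (le_sup_left : Q ≤ Q ⊔ Q) x =
        Subgroup.inclusion (le_sup_right : Q ≤ Q ⊔ Q) x := rfl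
    rw [e]
    exact hψQ.le ((map_subgroupOf_sup_eq ψ).mpr ⟨x, rfl⟩)
  · intro q hq
    obtain ⟨q', hq'⟩ := (map_subgroupOf_sup_eq ψ).mp (hψQ.ge hq)
    refine ⟨q', ?_⟩
    rw [← hψφ]
    exact hq'

theorem isNormal_automized_receptive {p : ℕ} {F : FusionSystem S} (hF : F.IsSaturated p)
    {Q : Subgroup Ω} (hQ : F.IsNormal Q) : F.IsFullyAutomized p Q ∧ F.IsReceptive Q := by
  obtain ⟨Q', ⟨φ, hφ, hr⟩, hfa, hrec⟩ := hF Q hQ.1
  have : Q' = Q := by rw [← hr, range_eq_of_isNormal hQ hφ]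
  subst this
  exact ⟨hfa, hrec⟩

/-- the relation defining `N_α`, unfolded -/
theorem conj_rel_apply {Q : Subgroup Ω} {hN : S ≤ Subgroup.normalizer (Q : Set Ω)} {α : MulAut ↥Q}
    {x y : ↥S} (h : α * cS Q hN x * α⁻¹ = cS Q hN y) (q : ↥Q) :
    α (cS Q hN x q) = cS Q hN y (α q) := by
  rw [← h, MulAut.mul_apply, MulAut.mul_apply, MulAut.inv_apply_self]

/-- existence of an extension of an automorphism of a normal subgroup to `N_α` -/
theorem exists_ext {p : ℕ} {F : FusionSystem S} (hF : F.IsSaturated p) {Q : Subgroup Ω}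
    (hQ : F.IsNormal Q) (hN : S ≤ Subgroup.normalizer (Q : Set Ω)) {α : MulAut ↥Q}
    (hα : α ∈ F.autGroup Q) :
    ∃ f : ↥S → ↥S, MapOn F (Nal Q hN α) f ∧
      ∀ q : ↥Q, f (Subgroup.inclusion hQ.1 q) = Subgroup.inclusion hQ.1 (α q) := by
  obtain ⟨-, hrec⟩ := isNormal_automized_receptive hF hQ
  have hφ : Q.subtype.comp α.toMonoidHom ∈ F.Hom Q := (mem_autGroup_iff F hQ.1).mp hα
  have hr := range_eq_of_isNormal hQ hφ
  obtain ⟨ψ, hψ, hagree⟩ := hrec.2 Q _ hφ hr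
  have hle : Nal Q hN α ≤ extender S Q (Q.subtype.comp α.toMonoidHom) := by
    rintro x ⟨hx, y, hy⟩
    refine mem_extender_iff.mpr ⟨hx, hN hx, y, y.2, fun q => ?_⟩
    have h1 := conj_rel_apply hy q
    have h2 := congrArg (fun r : ↥Q => (r : Ω)) h1
    simp only [cS_apply] at h2
    rw [MonoidHom.comp_apply, MonoidHom.comp_apply]
    exact h2
  refine ⟨totalFun ψ, (mapOn_totalFun F hψ).mono hle, fun q => ?_⟩
  apply Subtype.ext
  have hq : ((Subgroup.inclusion hQ.1 q : ↥S) : Ω) ∈ extender S Q (Q.subtype.comp α.toMonoidHom) :=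
    hle (le_Nal hQ.1 hN α q.2)
  rw [totalFun_apply F hψ _ hq]
  exact hagree q q.2 hq

/-- uniqueness of extensions up to the centre of a centric subgroup -/
theorem unique_ext [Finite S] {p : ℕ} [Fact p.Prime] (hS : IsPGroup p S) {F : FusionSystem S}
    (hF : F.IsSaturated p) {Q R : Subgroup Ω} (hQR : Q ≤ R) (hQc : F.IsCentric Q)
    {f g : ↥S → ↥S} (hf : MapOn F R f) (hg : MapOn F R g)
    (h : ∀ x : ↥S, (x : Ω) ∈ Q → f x = g x) :
    ∃ z : ↥Q, z ∈ Subgroup.center ↥Q ∧ ∀ x : ↥S, (x : Ω) ∈ R →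
      g x = f (Subgroup.inclusion hQc.1 z * x * (Subgroup.inclusion hQc.1 z)⁻¹) := by
  obtain ⟨φ, hφ, h1⟩ := hf
  obtain ⟨φ', hφ', h2⟩ := hg
  have hRS : R ≤ S := source_le F hφ
  obtain ⟨z, hzQ, hzC, hz⟩ := Cfsg.Agent.S5095.result p hS F hF R Q hQR hQc φ φ' hφ hφ' (by
    intro x hx
    rw [h1 ⟨x, hRS x.2⟩ x.2, h2 ⟨x, hRS x.2⟩ x.2, h ⟨x, hRS x.2⟩ hx])
  refine ⟨⟨z, hzQ⟩, ?_, fun x hx => ?_⟩
  · rw [Subgroup.mem_center_iff]
    intro g
    apply Subtype.ext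
    rw [Subgroup.mem_centralizer_iff] at hzC
    exact hzC g g.2
  · apply Subtype.ext
    rw [← h2 x hx, hz ⟨x, hx⟩]
    have hmem : ((Subgroup.inclusion hQc.1 ⟨z, hzQ⟩ * x * (Subgroup.inclusion hQc.1 ⟨z, hzQ⟩)⁻¹ : ↥S) : Ω)
        ∈ R := R.mul_mem (R.mul_mem z.2 hx) (R.inv_mem z.2)
    rw [← h1 _ hmem]
    rfl

theorem cS_range_eq (Q : Subgroup Ω) (hN : S ≤ Subgroup.normalizer (Q : Set Ω)) :
    (cS Q hN).range = autInducedBy S Q := by
  ext α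
  rw [mem_autInducedBy_iff]
  constructor
  · rintro ⟨s, rfl⟩
    exact ⟨s, s.2, fun x => rfl⟩
  · rintro ⟨g, hg, h⟩
    refine ⟨⟨g, hg⟩, ?_⟩
    ext x
    rw [h x]
    rfl

/-- the index of `Aut_S(Q)` in `Aut_F(Q)` is prime to `p` for fully automized `Q` -/
theorem card_autGroup_of_fullyAutomized [Finite S] {p : ℕ} [Fact p.Prime] {F : FusionSystem S}
    {Q : Subgroup Ω} (hfa : F.IsFullyAutomized p Q) (hN : S ≤ Subgroup.normalizer (Q : Set Ω)) :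
    ∃ k, Nat.card (F.autGroup Q) = k * Nat.card (cS Q hN).range ∧ k.Coprime p := by
  obtain ⟨hQS, R, hR⟩ := hfa
  haveI : Finite ↥Q := finite_of_le hQS
  haveI : Finite (MulAut ↥Q) := Finite.of_injective (fun a : MulAut ↥Q => (a : ↥Q → ↥Q))
    (fun a b hab => MulEquiv.ext (fun x => congrFun hab x))
  refine ⟨(R : Subgroup (F.autGroup Q)).index, ?_, ?_⟩
  · rw [cS_range_eq, ← Subgroup.card_mul_index (R : Subgroup (F.autGroup Q)), mul_comm]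
    congr 1
    rw [hR]
    exact Nat.card_congr (Subgroup.subgroupOfEquivOfLe (autInducedBy_le_autGroup F hQS)).toEquiv
  · exact ((Fact.out : p.Prime).coprime_iff_not_dvd.mpr R.not_dvd_index).symm

theorem incl_cS {Q : Subgroup Ω} (hQS : Q ≤ S) (hN : S ≤ Subgroup.normalizer (Q : Set Ω)) (s : ↥S)
    (q : ↥Q) : Subgroup.inclusion hQS (cS Q hN s q) = s * Subgroup.inclusion hQS q * s⁻¹ :=
  Subtype.ext rfl

theorem incl_cS_inv {Q : Subgroup Ω} (hQS : Q ≤ S) (hN : S ≤ Subgroup.normalizer (Q : Set Ω))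
    (s : ↥S) (q : ↥Q) :
    Subgroup.inclusion hQS ((cS Q hN s)⁻¹ q) = s⁻¹ * Subgroup.inclusion hQS q * s := by
  rw [← _root_.map_inv, incl_cS, inv_inv]

/-- an extension of `α` to a subgroup `R ⊇ Q` intertwines the conjugation actions -/
theorem ext_conj {F : FusionSystem S} {Q R : Subgroup Ω} (hQS : Q ≤ S)
    (hN : S ≤ Subgroup.normalizer (Q : Set Ω)) (hQR : Q ≤ R) {α : MulAut ↥Q} {f : ↥S → ↥S}
    (hf : MapOn F R f)
    (hfα : ∀ q : ↥Q, f (Subgroup.inclusion hQS q) = Subgroup.inclusion hQS (α q))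
    {x : ↥S} (hx : (x : Ω) ∈ R) : cS Q hN (f x) = α * cS Q hN x * α⁻¹ := by
  ext q
  have hinj : Function.Injective (Subgroup.inclusion hQS) := Subgroup.inclusion_injective hQS
  have h1 : Subgroup.inclusion hQS ((cS Q hN (f x)) q) =
      Subgroup.inclusion hQS ((α * cS Q hN x * α⁻¹) q) := by
    rw [MulAut.mul_apply, MulAut.mul_apply, ← hfα, incl_cS, incl_cS]
    have hq' : ((Subgroup.inclusion hQS (α⁻¹ q) : ↥S) : Ω) ∈ R := hQR (α⁻¹ q).2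
    have hxi : ((x⁻¹ : ↥S) : Ω) ∈ R := by
      rw [Subgroup.coe_inv]
      exact R.inv_mem hx
    have hxq : ((x * Subgroup.inclusion hQS (α⁻¹ q) : ↥S) : Ω) ∈ R := by
      rw [Subgroup.coe_mul]
      exact R.mul_mem hx hq'
    rw [hf.map_mul hxq hxi, hf.map_mul hx hq', hf.map_inv hx, hfα, MulAut.apply_inv_self]
  exact congrArg (fun r : ↥Q => (r : Ω)) (hinj h1)

end Cfsg.Agent.Lib.Helper27.Model
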