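import Mathlib

/-!
# Thick bisets over an automorphism group: the group of covering automorphisms

Abstract data: a finite group `S₀`, a group `Q₀` with an injective homomorphism `j : Q₀ →* S₀`
(the inclusion of a normal subgroup), a subgroup `A` of `Aut(Q₀)`, the conjugation homomorphism
`c : S₀ →* Aut(Q₀)` with values in `A` and kernel `j(Z(Q₀))`, and a finite set `X` with commuting
left and right actions of `S₀`, the right one free, together with a map `ρ : X → A` which is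
equivariant and whose fibres are the orbits of `j(Z(Q₀))` acting on the right.

From these we build the group `Ghat` of permutations of `X` commuting with the right action and
covering a left multiplication on `A`.
-/

set_option autoImplicit false

namespace Cfsg.Agent.Lib.Helper27.Thick

universe u

theorem perm_apply_inv {X : Type*} (γ : Equiv.Perm X) (ξ : X) : γ (γ⁻¹ ξ) = ξ := by
  rw [Equiv.Perm.inv_def, Equiv.apply_symm_apply]

theorem perm_inv_apply {X : Type*} (γ : Equiv.Perm X) (ξ : X) : γ⁻¹ (γ ξ) = ξ := by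
  rw [Equiv.Perm.inv_def, Equiv.symm_apply_apply]

/-- the abstract data of a thick biset -/
structure Data (S₀ Q₀ : Type u) [Group S₀] [Group Q₀] where
  j : Q₀ →* S₀
  A : Subgroup (MulAut Q₀)
  c : S₀ →* MulAut Q₀
  X : Type u
  lm : S₀ → X → X
  rm : X → S₀ → X
  ρ : X → MulAut Q₀
  j_inj : Function.Injective j
  c_mem : ∀ s, c s ∈ A
  c_spec : ∀ s q, j (c s q) = s * j q * s⁻¹
  centric : ∀ s, c s = 1 → ∃ z ∈ Subgroup.center Q₀, j z = s
  finX : Finite X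
  neX : Nonempty X
  lm_one : ∀ ξ, lm 1 ξ = ξ
  lm_mul : ∀ s t ξ, lm (s * t) ξ = lm s (lm t ξ)
  rm_one : ∀ ξ, rm ξ 1 = ξ
  rm_mul : ∀ ξ s t, rm ξ (s * t) = rm (rm ξ s) t
  lm_rm : ∀ s ξ t, lm s (rm ξ t) = rm (lm s ξ) t
  free : ∀ ξ s, rm ξ s = ξ → s = 1
  ρ_mem : ∀ ξ, ρ ξ ∈ A
  ρ_lm : ∀ s ξ, ρ (lm s ξ) = c s * ρ ξ
  ρ_rm : ∀ ξ s, ρ (rm ξ s) = ρ ξ * c s
  fiber : ∀ ξ η, ρ ξ = ρ η → ∃ s, c s = 1 ∧ η = rm ξ s
  compat : ∀ q ξ, lm (j q) ξ = rm ξ (j ((ρ ξ)⁻¹ q))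

variable {S₀ Q₀ : Type u} [Group S₀] [Group Q₀] (D : Data S₀ Q₀)

namespace Data

theorem c_j_center {z : Q₀} (hz : z ∈ Subgroup.center Q₀) : D.c (D.j z) = 1 := by
  ext q
  apply D.j_inj
  rw [D.c_spec, MulAut.one_apply, ← map_inv, ← map_mul, ← map_mul]
  congr 1
  have := Subgroup.mem_center_iff.mp hz q
  rw [← this, mul_inv_cancel_right]

theorem c_j (q x : Q₀) : D.c (D.j q) x = q * x * q⁻¹ := by
  apply D.j_inj
  rw [D.c_spec, map_mul, map_mul, map_inv]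

theorem rm_inj (ξ : D.X) {s t : S₀} (h : D.rm ξ s = D.rm ξ t) : s = t := by
  have h1 : D.rm (D.rm ξ s) (s⁻¹ * t) = D.rm ξ s := by
    rw [← D.rm_mul, mul_inv_cancel_left, h]
  have := D.free _ _ h1
  exact (inv_mul_eq_one.mp this)

theorem rm_rm_inv (ξ : D.X) (s : S₀) : D.rm (D.rm ξ s) s⁻¹ = ξ := by
  rw [← D.rm_mul, mul_inv_cancel, D.rm_one]

theorem rm_inv_rm (ξ : D.X) (s : S₀) : D.rm (D.rm ξ s⁻¹) s = ξ := by
  rw [← D.rm_mul, inv_mul_cancel, D.rm_one]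

theorem lm_lm_inv (ξ : D.X) (s : S₀) : D.lm s (D.lm s⁻¹ ξ) = ξ := by
  rw [← D.lm_mul, mul_inv_cancel, D.lm_one]

theorem lm_inv_lm (ξ : D.X) (s : S₀) : D.lm s⁻¹ (D.lm s ξ) = ξ := by
  rw [← D.lm_mul, inv_mul_cancel, D.lm_one]

/-- the group of permutations of `X` commuting with the right action and covering a left
multiplication by an element of `A` -/
def Ghat : Subgroup (Equiv.Perm D.X) where
  carrier := {γ | (∀ ξ s, γ (D.rm ξ s) = D.rm (γ ξ) s) ∧ ∃ a ∈ D.A, ∀ ξ, D.ρ (γ ξ) = a * D.ρ ξ}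
  one_mem' := ⟨fun _ _ => rfl, 1, D.A.one_mem, fun ξ => by simp⟩
  mul_mem' := by
    rintro γ δ ⟨h1, a, ha, h2⟩ ⟨h3, b, hb, h4⟩
    refine ⟨fun ξ s => ?_, a * b, D.A.mul_mem ha hb, fun ξ => ?_⟩
    · rw [Equiv.Perm.mul_apply, h3, h1, Equiv.Perm.mul_apply]
    · rw [Equiv.Perm.mul_apply, h2, h4, mul_assoc]
  inv_mem' := by
    rintro γ ⟨h1, a, ha, h2⟩
    refine ⟨fun ξ s => ?_, a⁻¹, D.A.inv_mem ha, fun ξ => ?_⟩
    · apply γ.injective
      rw [h1, perm_apply_inv, perm_apply_inv]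
    · have := h2 (γ⁻¹ ξ)
      rw [perm_apply_inv] at this
      rw [this, inv_mul_cancel_left]

theorem mem_Ghat {γ : Equiv.Perm D.X} : γ ∈ D.Ghat ↔
    (∀ ξ s, γ (D.rm ξ s) = D.rm (γ ξ) s) ∧ ∃ a ∈ D.A, ∀ ξ, D.ρ (γ ξ) = a * D.ρ ξ := Iff.rfl

/-- the element of `A` covered by a permutation -/
noncomputable def cov (γ : Equiv.Perm D.X) : MulAut Q₀ :=
  D.ρ (γ (Classical.choice D.neX)) * (D.ρ (Classical.choice D.neX))⁻¹

theorem cov_spec {γ : Equiv.Perm D.X} (hγ : γ ∈ D.Ghat) (ξ : D.X) :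
    D.ρ (γ ξ) = D.cov γ * D.ρ ξ := by
  obtain ⟨-, a, -, h⟩ := hγ
  unfold cov
  rw [h, h, mul_inv_cancel_right]

theorem cov_mem {γ : Equiv.Perm D.X} (hγ : γ ∈ D.Ghat) : D.cov γ ∈ D.A := by
  obtain ⟨-, a, ha, h⟩ := hγ
  unfold cov
  rw [h, mul_inv_cancel_right]
  exact ha

theorem cov_unique {γ : Equiv.Perm D.X} {a : MulAut Q₀} (h : ∀ ξ, D.ρ (γ ξ) = a * D.ρ ξ) :
    D.cov γ = a := by
  unfold cov
  rw [h, mul_inv_cancel_right]

/-- the covering homomorphism -/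
noncomputable def pihat : D.Ghat →* MulAut Q₀ where
  toFun γ := D.cov γ.1
  map_one' := D.cov_unique (fun ξ => by simp)
  map_mul' γ δ := by
    apply D.cov_unique
    intro ξ
    rw [Subgroup.coe_mul, Equiv.Perm.mul_apply, D.cov_spec γ.2, D.cov_spec δ.2, mul_assoc]

theorem pihat_apply (γ : D.Ghat) : D.pihat γ = D.cov γ.1 := rfl

theorem pihat_mem (γ : D.Ghat) : D.pihat γ ∈ D.A := D.cov_mem γ.2

theorem rho_apply (γ : D.Ghat) (ξ : D.X) : D.ρ (γ.1 ξ) = D.pihat γ * D.ρ ξ := D.cov_spec γ.2 ξ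

theorem equivariant (γ : D.Ghat) (ξ : D.X) (s : S₀) : γ.1 (D.rm ξ s) = D.rm (γ.1 ξ) s := γ.2.1 ξ s

/-- left multiplication as a permutation -/
def lperm (s : S₀) : Equiv.Perm D.X where
  toFun := D.lm s
  invFun := D.lm s⁻¹
  left_inv ξ := D.lm_inv_lm ξ s
  right_inv ξ := D.lm_lm_inv ξ s

theorem lperm_mem (s : S₀) : D.lperm s ∈ D.Ghat :=
  ⟨fun ξ t => D.lm_rm s ξ t, D.c s, D.c_mem s, fun ξ => D.ρ_lm s ξ⟩

/-- left multiplication as a homomorphism into `Ghat` -/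
def L : S₀ →* D.Ghat where
  toFun s := ⟨D.lperm s, D.lperm_mem s⟩
  map_one' := by
    apply Subtype.ext
    ext ξ
    exact D.lm_one ξ
  map_mul' s t := by
    apply Subtype.ext
    ext ξ
    exact D.lm_mul s t ξ

theorem L_apply (s : S₀) (ξ : D.X) : (D.L s).1 ξ = D.lm s ξ := rfl

theorem pihat_L (s : S₀) : D.pihat (D.L s) = D.c s :=
  D.cov_unique (fun ξ => D.ρ_lm s ξ)

/-- conjugating the left multiplication by an element of `j(Q₀)` -/
theorem conj_L (γ : D.Ghat) (q : Q₀) :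
    γ * D.L (D.j q) * γ⁻¹ = D.L (D.j (D.pihat γ q)) := by
  apply Subtype.ext
  ext ξ
  obtain ⟨η, rfl⟩ := γ.1.surjective ξ
  rw [Subgroup.coe_mul, Subgroup.coe_mul, Equiv.Perm.mul_apply, Equiv.Perm.mul_apply,
    Subgroup.coe_inv, perm_inv_apply, L_apply, L_apply, D.compat, D.compat,
    D.equivariant, D.rho_apply, mul_inv_rev]
  congr 2
  rw [MulAut.mul_apply, MulAut.inv_apply_self]

end Data

end Cfsg.Agent.Lib.Helper27.Thick
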