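import Mathlib
import Cfsg.Agent.Lib.Helper27.ThickA

/-!
# Thick bisets: the kernel of the covering map, the trace and the quotient group
-/

set_option autoImplicit false

namespace Cfsg.Agent.Lib.Helper27.Thick

universe u

open scoped IsMulCommutative
open Classical in
/-- dummy -/
theorem dummy_true : True := trivial

variable {S₀ Q₀ : Type u} [Group S₀] [Group Q₀] (D : Data S₀ Q₀)

namespace Data

theorem aut_mem_center (a : MulAut Q₀) {z : Q₀} (hz : z ∈ Subgroup.center Q₀) :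
    a z ∈ Subgroup.center Q₀ := by
  rw [Subgroup.mem_center_iff] at hz ⊢
  intro g
  have := hz (a⁻¹ g)
  have h2 := congrArg a this
  rw [map_mul, map_mul, MulAut.apply_inv_self] at h2
  exact h2

/-- the action of an automorphism on the centre -/
def actC (a : MulAut Q₀) : Subgroup.center Q₀ →* Subgroup.center Q₀ where
  toFun z := ⟨a z.1, aut_mem_center a z.2⟩
  map_one' := Subtype.ext (map_one a)
  map_mul' x y := Subtype.ext (map_mul a x.1 y.1)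

theorem actC_apply (a : MulAut Q₀) (z : Subgroup.center Q₀) : ((actC a z : Subgroup.center Q₀) : Q₀) = a z.1 :=
  rfl

open Classical in
/-- the displacement of a point under a permutation covering the identity -/
noncomputable def zOf (γ : D.Ghat) (ξ : D.X) : Q₀ :=
  if h : ∃ z ∈ Subgroup.center Q₀, γ.1 ξ = D.rm ξ (D.j z) then Classical.choose h else 1

theorem zOf_mem (γ : D.Ghat) (ξ : D.X) : D.zOf γ ξ ∈ Subgroup.center Q₀ := by
  unfold zOf
  split_ifs with h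
  · exact (Classical.choose_spec h).1
  · exact Subgroup.one_mem _

theorem exists_z {γ : D.Ghat} (hγ : D.pihat γ = 1) (ξ : D.X) :
    ∃ z ∈ Subgroup.center Q₀, γ.1 ξ = D.rm ξ (D.j z) := by
  have h1 := D.rho_apply γ ξ
  rw [hγ, one_mul] at h1
  obtain ⟨s, hs, h2⟩ := D.fiber ξ (γ.1 ξ) h1.symm
  obtain ⟨z, hz, rfl⟩ := D.centric s hs
  exact ⟨z, hz, h2⟩

theorem zOf_spec {γ : D.Ghat} (hγ : D.pihat γ = 1) (ξ : D.X) :
    γ.1 ξ = D.rm ξ (D.j (D.zOf γ ξ)) := by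
  unfold zOf
  rw [dif_pos (D.exists_z hγ ξ)]
  exact (Classical.choose_spec (D.exists_z hγ ξ)).2

theorem zOf_unique {γ : D.Ghat} (hγ : D.pihat γ = 1) (ξ : D.X) {z : Q₀}
    (h : γ.1 ξ = D.rm ξ (D.j z)) : D.zOf γ ξ = z := by
  have h1 := D.zOf_spec hγ ξ
  rw [h] at h1
  exact (D.j_inj (D.rm_inj ξ h1)).symm

/-- the twisted displacement, constant on the orbits of the right action -/
noncomputable def nu (γ : D.Ghat) (ξ : D.X) : Subgroup.center Q₀ :=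
  actC (D.ρ ξ) ⟨D.zOf γ ξ, D.zOf_mem γ ξ⟩

theorem nu_coe (γ : D.Ghat) (ξ : D.X) : ((D.nu γ ξ : Subgroup.center Q₀) : Q₀) = D.ρ ξ (D.zOf γ ξ) := rfl

theorem zOf_rm {γ : D.Ghat} (hγ : D.pihat γ = 1) (ξ : D.X) (s : S₀) :
    D.zOf γ (D.rm ξ s) = (D.c s)⁻¹ (D.zOf γ ξ) := by
  apply D.zOf_unique hγ
  rw [D.equivariant, D.zOf_spec hγ ξ, ← D.rm_mul, ← D.rm_mul]
  congr 1
  have h1 : D.j ((D.c s)⁻¹ (D.zOf γ ξ)) = s⁻¹ * D.j (D.zOf γ ξ) * s := by
    rw [← map_inv, D.c_spec, inv_inv]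
  rw [h1]
  group

theorem nu_rm {γ : D.Ghat} (hγ : D.pihat γ = 1) (ξ : D.X) (s : S₀) :
    D.nu γ (D.rm ξ s) = D.nu γ ξ := by
  apply Subtype.ext
  rw [nu_coe, nu_coe, D.zOf_rm hγ, D.ρ_rm, MulAut.mul_apply, MulAut.apply_inv_self]

theorem zOf_mul {γ δ : D.Ghat} (hγ : D.pihat γ = 1) (hδ : D.pihat δ = 1) (ξ : D.X) :
    D.zOf (γ * δ) ξ = D.zOf γ ξ * D.zOf δ ξ := by
  have hγδ : D.pihat (γ * δ) = 1 := by rw [map_mul, hγ, hδ, one_mul]
  apply D.zOf_unique hγδ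
  rw [Subgroup.coe_mul, Equiv.Perm.mul_apply, D.zOf_spec hδ ξ, D.equivariant, D.zOf_spec hγ ξ,
    ← D.rm_mul, map_mul]

theorem nu_mul {γ δ : D.Ghat} (hγ : D.pihat γ = 1) (hδ : D.pihat δ = 1) (ξ : D.X) :
    D.nu (γ * δ) ξ = D.nu γ ξ * D.nu δ ξ := by
  apply Subtype.ext
  rw [Subgroup.coe_mul, nu_coe, nu_coe, nu_coe, D.zOf_mul hγ hδ, map_mul]

theorem zOf_one (ξ : D.X) : D.zOf 1 ξ = 1 := by
  apply D.zOf_unique (map_one _)
  rw [map_one, D.rm_one]
  rfl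

theorem zOf_conj (γ : D.Ghat) {δ : D.Ghat} (hδ : D.pihat δ = 1) (ξ : D.X) :
    D.zOf (γ * δ * γ⁻¹) (γ.1 ξ) = D.zOf δ ξ := by
  have h1 : D.pihat (γ * δ * γ⁻¹) = 1 := by
    rw [map_mul, map_mul, hδ, mul_one, map_inv, mul_inv_cancel]
  apply D.zOf_unique h1
  rw [Subgroup.coe_mul, Subgroup.coe_mul, Equiv.Perm.mul_apply, Equiv.Perm.mul_apply,
    Subgroup.coe_inv, perm_inv_apply, D.zOf_spec hδ ξ, D.equivariant]

theorem nu_conj (γ : D.Ghat) {δ : D.Ghat} (hδ : D.pihat δ = 1) (ξ : D.X) :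
    D.nu (γ * δ * γ⁻¹) (γ.1 ξ) = actC (D.pihat γ) (D.nu δ ξ) := by
  apply Subtype.ext
  rw [nu_coe, D.zOf_conj γ hδ, D.rho_apply, actC_apply, nu_coe, MulAut.mul_apply]

/-- the orbits of the right action -/
def orb : Setoid D.X where
  r ξ η := ∃ s, η = D.rm ξ s
  iseqv := by
    refine ⟨fun ξ => ⟨1, (D.rm_one ξ).symm⟩, ?_, ?_⟩
    · rintro ξ η ⟨s, rfl⟩
      exact ⟨s⁻¹, (D.rm_rm_inv ξ s).symm⟩
    · rintro ξ η ζ ⟨s, rfl⟩ ⟨t, rfl⟩
      exact ⟨s * t, (D.rm_mul ξ s t).symm⟩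

/-- the set of orbits -/
def T : Type u := Quotient D.orb

instance : Finite D.T := by
  haveI := D.finX
  unfold T
  infer_instance

noncomputable instance : Fintype D.T := Fintype.ofFinite _

/-- the orbit of a point -/
def cls (ξ : D.X) : D.T := Quotient.mk D.orb ξ

/-- a representative of an orbit -/
noncomputable def rep (t : D.T) : D.X := Quotient.out t

theorem cls_rep (t : D.T) : D.cls (D.rep t) = t := Quotient.out_eq t

theorem exists_rm_rep (ξ : D.X) : ∃ s, ξ = D.rm (D.rep (D.cls ξ)) s := by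
  have h : D.cls (D.rep (D.cls ξ)) = D.cls ξ := D.cls_rep _
  exact Quotient.exact h

theorem cls_rm (ξ : D.X) (s : S₀) : D.cls (D.rm ξ s) = D.cls ξ :=
  (Quotient.sound (⟨s, rfl⟩ : D.orb.r ξ (D.rm ξ s))).symm

theorem nu_rep {γ : D.Ghat} (hγ : D.pihat γ = 1) (ξ : D.X) :
    D.nu γ (D.rep (D.cls ξ)) = D.nu γ ξ := by
  obtain ⟨s, hs⟩ := D.exists_rm_rep ξ
  conv_rhs => rw [hs]
  rw [D.nu_rm hγ]

/-- the permutation of the orbits induced by an element of `Ghat` -/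
def permT (γ : D.Ghat) : Equiv.Perm D.T where
  toFun := Quotient.map' γ.1 (by
    rintro ξ η ⟨s, rfl⟩
    exact ⟨s, D.equivariant γ ξ s⟩)
  invFun := Quotient.map' (γ⁻¹).1 (by
    rintro ξ η ⟨s, rfl⟩
    exact ⟨s, D.equivariant γ⁻¹ ξ s⟩)
  left_inv t := by
    induction t using Quotient.inductionOn' with
    | h ξ =>
      rw [Quotient.map'_mk'', Quotient.map'_mk'', Subgroup.coe_inv, perm_inv_apply]
  right_inv t := by
    induction t using Quotient.inductionOn' with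
    | h ξ =>
      rw [Quotient.map'_mk'', Quotient.map'_mk'', Subgroup.coe_inv, perm_apply_inv]

theorem permT_cls (γ : D.Ghat) (ξ : D.X) : D.permT γ (D.cls ξ) = D.cls (γ.1 ξ) := rfl

/-- the trace -/
noncomputable def tau (γ : D.Ghat) : Subgroup.center Q₀ := ∏ t : D.T, D.nu γ (D.rep t)

theorem tau_mul {γ δ : D.Ghat} (hγ : D.pihat γ = 1) (hδ : D.pihat δ = 1) :
    D.tau (γ * δ) = D.tau γ * D.tau δ := by
  unfold tau
  rw [← Finset.prod_mul_distrib]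
  exact Finset.prod_congr rfl (fun t _ => D.nu_mul hγ hδ _)

theorem tau_one : D.tau 1 = 1 := by
  unfold tau
  apply Finset.prod_eq_one
  intro t _
  apply Subtype.ext
  rw [nu_coe, D.zOf_one, map_one]
  rfl

theorem tau_conj (γ : D.Ghat) {δ : D.Ghat} (hδ : D.pihat δ = 1) :
    D.tau (γ * δ * γ⁻¹) = actC (D.pihat γ) (D.tau δ) := by
  have h1 : D.pihat (γ * δ * γ⁻¹) = 1 := by
    rw [map_mul, map_mul, hδ, mul_one, map_inv, mul_inv_cancel]
  unfold tau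
  rw [map_prod]
  rw [← Equiv.prod_comp (D.permT γ) (fun t => D.nu (γ * δ * γ⁻¹) (D.rep t))]
  apply Finset.prod_congr rfl
  intro t _
  rw [← D.nu_conj γ hδ (D.rep t)]
  have h2 : D.permT γ t = D.cls (γ.1 (D.rep t)) := by
    conv_lhs => rw [← D.cls_rep t]
    rfl
  rw [h2, D.nu_rep h1]

theorem tau_inv {γ : D.Ghat} (hγ : D.pihat γ = 1) : D.tau γ⁻¹ = (D.tau γ)⁻¹ := by
  have h1 : D.pihat γ⁻¹ = 1 := by rw [map_inv, hγ, inv_one]
  have := D.tau_mul hγ h1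
  rw [mul_inv_cancel, D.tau_one] at this
  exact (inv_eq_of_mul_eq_one_right this.symm).symm

/-- the kernel of the trace -/
def K : Subgroup D.Ghat where
  carrier := {γ | D.pihat γ = 1 ∧ D.tau γ = 1}
  one_mem' := ⟨map_one _, D.tau_one⟩
  mul_mem' := by
    rintro γ δ ⟨h1, h2⟩ ⟨h3, h4⟩
    exact ⟨by rw [map_mul, h1, h3, one_mul], by rw [D.tau_mul h1 h3, h2, h4, one_mul]⟩
  inv_mem' := by
    rintro γ ⟨h1, h2⟩
    exact ⟨by rw [map_inv, h1, inv_one], by rw [D.tau_inv h1, h2, inv_one]⟩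

theorem mem_K {γ : D.Ghat} : γ ∈ D.K ↔ D.pihat γ = 1 ∧ D.tau γ = 1 := Iff.rfl

instance K_normal : D.K.Normal := by
  constructor
  rintro δ ⟨h1, h2⟩ γ
  refine ⟨by rw [map_mul, map_mul, h1, mul_one, map_inv, mul_inv_cancel], ?_⟩
  rw [D.tau_conj γ h1, h2, map_one]

/-- the quotient group -/
abbrev G : Type u := D.Ghat ⧸ D.K

/-- the embedding of `S₀` -/
def theta : S₀ →* D.G := (QuotientGroup.mk' D.K).comp D.L

/-- the covering map on the quotient -/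
noncomputable def pi : D.G →* MulAut Q₀ :=
  QuotientGroup.lift D.K D.pihat (fun _ h => h.1)

theorem pi_mk (γ : D.Ghat) : D.pi (QuotientGroup.mk' D.K γ) = D.pihat γ := rfl

theorem pi_theta (s : S₀) : D.pi (D.theta s) = D.c s := D.pihat_L s

theorem pi_mem (g : D.G) : D.pi g ∈ D.A := by
  obtain ⟨γ, rfl⟩ := QuotientGroup.mk'_surjective D.K g
  exact D.pihat_mem γ

theorem conj_theta (g : D.G) (q : Q₀) :
    g * D.theta (D.j q) * g⁻¹ = D.theta (D.j (D.pi g q)) := by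
  obtain ⟨γ, rfl⟩ := QuotientGroup.mk'_surjective D.K g
  show (QuotientGroup.mk' D.K) γ * (QuotientGroup.mk' D.K) (D.L (D.j q)) *
    ((QuotientGroup.mk' D.K) γ)⁻¹ = (QuotientGroup.mk' D.K) (D.L (D.j (D.pihat γ q)))
  rw [← map_inv, ← map_mul, ← map_mul, D.conj_L]

theorem zOf_L {z : Q₀} (hz : z ∈ Subgroup.center Q₀) (ξ : D.X) :
    D.zOf (D.L (D.j z)) ξ = (D.ρ ξ)⁻¹ z := by
  have h1 : D.pihat (D.L (D.j z)) = 1 := by rw [D.pihat_L, D.c_j_center hz]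
  apply D.zOf_unique h1
  rw [L_apply, D.compat]

theorem tau_L {z : Q₀} (hz : z ∈ Subgroup.center Q₀) :
    D.tau (D.L (D.j z)) = (⟨z, hz⟩ : Subgroup.center Q₀) ^ Nat.card D.T := by
  unfold tau
  have : ∀ t : D.T, D.nu (D.L (D.j z)) (D.rep t) = ⟨z, hz⟩ := by
    intro t
    apply Subtype.ext
    rw [nu_coe, D.zOf_L hz, MulAut.apply_inv_self]
  rw [Finset.prod_congr rfl (fun t _ => this t), Finset.prod_const, Finset.card_univ,
    Nat.card_eq_fintype_card]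

end Data

end Cfsg.Agent.Lib.Helper27.Thick
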