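import Mathlib
import Cfsg.Agent.Lib.Helper27.ThickB

/-!
# Thick bisets: the abstract model
-/

set_option autoImplicit false

namespace Cfsg.Agent.Lib.Helper27.Thick

universe u

open scoped IsMulCommutative

variable {S₀ Q₀ : Type u} [Group S₀] [Group Q₀] (D : Data S₀ Q₀)

namespace Data

theorem finite_Q [Finite S₀] (D : Data S₀ Q₀) : Finite Q₀ := Finite.of_injective D.j D.j_inj

theorem card_X_eq_T [Finite S₀] : Nat.card D.X = Nat.card D.T * Nat.card S₀ := by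
  haveI := D.finX
  rw [← Nat.card_prod]
  apply (Nat.card_congr (Equiv.ofBijective (fun ts : D.T × S₀ => D.rm (D.rep ts.1) ts.2) ?_)).symm
  constructor
  · rintro ⟨t, s⟩ ⟨t', s'⟩ h
    have h1 : D.cls (D.rm (D.rep t) s) = D.cls (D.rm (D.rep t') s') := congrArg D.cls h
    rw [D.cls_rm, D.cls_rm, D.cls_rep, D.cls_rep] at h1
    subst h1
    have h2 : s = s' := D.rm_inj _ h
    rw [h2]
  · intro ξ
    obtain ⟨s, hs⟩ := D.exists_rm_rep ξ
    exact ⟨(D.cls ξ, s), hs.symm⟩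

theorem exists_point (hlift : ∀ a ∈ D.A, ∃ γ : D.Ghat, D.pihat γ = a) {a : MulAut Q₀}
    (ha : a ∈ D.A) : ∃ ξ : D.X, D.ρ ξ = a := by
  obtain ⟨ξ₀⟩ := D.neX
  obtain ⟨γ, hγ⟩ := hlift (a * (D.ρ ξ₀)⁻¹) (D.A.mul_mem ha (D.A.inv_mem (D.ρ_mem ξ₀)))
  exact ⟨γ.1 ξ₀, by rw [D.rho_apply, hγ, inv_mul_cancel_right]⟩

theorem card_X_eq_A [Finite S₀] (hlift : ∀ a ∈ D.A, ∃ γ : D.Ghat, D.pihat γ = a) :
    Nat.card D.X = Nat.card D.A * Nat.card (Subgroup.center Q₀) := by
  haveI := D.finX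
  haveI := D.finite_Q
  rw [← Nat.card_prod]
  have hch : ∀ a : D.A, ∃ ξ : D.X, D.ρ ξ = a.1 := fun a => D.exists_point hlift a.2
  choose pt hpt using hch
  apply (Nat.card_congr (Equiv.ofBijective
    (fun az : D.A × Subgroup.center Q₀ => D.rm (pt az.1) (D.j az.2.1)) ?_)).symm
  constructor
  · rintro ⟨a, z⟩ ⟨a', z'⟩ h
    have h1 := congrArg D.ρ h
    simp only [D.ρ_rm, D.c_j_center z.2, D.c_j_center z'.2, mul_one, hpt] at h1
    have h2 : a = a' := Subtype.ext h1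
    subst h2
    have h3 := D.j_inj (D.rm_inj _ h)
    have h4 : z = z' := Subtype.ext h3
    rw [h4]
  · intro ξ
    have ha : D.ρ ξ ∈ D.A := D.ρ_mem ξ
    obtain ⟨s, hs, h2⟩ := D.fiber (pt ⟨D.ρ ξ, ha⟩) ξ (hpt ⟨D.ρ ξ, ha⟩)
    obtain ⟨z, hz, rfl⟩ := D.centric s hs
    exact ⟨(⟨D.ρ ξ, ha⟩, ⟨z, hz⟩), h2.symm⟩

theorem card_S [Finite S₀] :
    Nat.card S₀ = Nat.card D.c.range * Nat.card (Subgroup.center Q₀) := by
  haveI := D.finite_Q
  have h1 := Subgroup.card_mul_index D.c.ker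
  rw [Subgroup.index_ker] at h1
  rw [← h1, mul_comm]
  congr 1
  apply Nat.card_congr
  refine Equiv.ofBijective
    (fun k : D.c.ker => (⟨Classical.choose (D.centric k.1 k.2),
      (Classical.choose_spec (D.centric k.1 k.2)).1⟩ : Subgroup.center Q₀)) ⟨?_, ?_⟩
  · intro k k' h
    have h1 := (Classical.choose_spec (D.centric k.1 k.2)).2
    have h2 := (Classical.choose_spec (D.centric k'.1 k'.2)).2
    have h3 := congrArg Subtype.val h
    simp only at h3
    apply Subtype.ext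
    rw [← h1, ← h2, h3]
  · intro z
    refine ⟨⟨D.j z.1, D.c_j_center z.2⟩, ?_⟩
    apply Subtype.ext
    apply D.j_inj
    exact (Classical.choose_spec (D.centric (D.j z.1) (D.c_j_center z.2))).2

theorem card_T [Finite S₀] (hlift : ∀ a ∈ D.A, ∃ γ : D.Ghat, D.pihat γ = a) :
    Nat.card D.T * Nat.card D.c.range = Nat.card D.A := by
  haveI := D.finite_Q
  have h1 := D.card_X_eq_T
  have h2 := D.card_X_eq_A hlift
  have h3 := D.card_S
  rw [h2, h3] at h1
  have hpos : 0 < Nat.card (Subgroup.center Q₀) := Nat.card_pos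
  have : Nat.card D.A * Nat.card (Subgroup.center Q₀) =
      Nat.card D.T * Nat.card D.c.range * Nat.card (Subgroup.center Q₀) := by
    rw [h1]; ring
  exact (Nat.eq_of_mul_eq_mul_right hpos this).symm

theorem card_T_coprime [Finite S₀] {p : ℕ} (hlift : ∀ a ∈ D.A, ∃ γ : D.Ghat, D.pihat γ = a)
    (hidx : ∃ k, Nat.card D.A = k * Nat.card D.c.range ∧ k.Coprime p) :
    (Nat.card D.T).Coprime p := by
  obtain ⟨k, hk, hkp⟩ := hidx
  have h1 := D.card_T hlift
  rw [hk] at h1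
  haveI := D.finite_Q
  haveI : Finite D.c.range := inferInstance
  have hpos : 0 < Nat.card D.c.range := Nat.card_pos
  rw [Nat.eq_of_mul_eq_mul_right hpos h1]
  exact hkp

theorem isPGroup_center [Finite S₀] (D : Data S₀ Q₀) {p : ℕ} (hS : IsPGroup p S₀) :
    IsPGroup p (Subgroup.center Q₀) := by
  have h1 : IsPGroup p Q₀ := hS.of_injective D.j D.j_inj
  exact h1.to_subgroup _

theorem eq_one_of_pow_card_T [Finite S₀] {p : ℕ} [Fact p.Prime] (hS : IsPGroup p S₀)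
    (hcop : (Nat.card D.T).Coprime p) {z : Subgroup.center Q₀}
    (h : z ^ Nat.card D.T = 1) : z = 1 := by
  obtain ⟨k, hk⟩ := (D.isPGroup_center hS) z
  have h1 : orderOf z ∣ Nat.card D.T := orderOf_dvd_of_pow_eq_one h
  have h2 : orderOf z ∣ p ^ k := orderOf_dvd_of_pow_eq_one hk
  have h3 : orderOf z ∣ Nat.gcd (Nat.card D.T) (p ^ k) := Nat.dvd_gcd h1 h2
  have h4 : Nat.gcd (Nat.card D.T) (p ^ k) = 1 := Nat.Coprime.pow_right k hcop
  rw [h4, Nat.dvd_one, orderOf_eq_one_iff] at h3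
  exact h3

theorem theta_injective [Finite S₀] {p : ℕ} [Fact p.Prime] (hS : IsPGroup p S₀)
    (hcop : (Nat.card D.T).Coprime p) : Function.Injective D.theta := by
  rw [injective_iff_map_eq_one]
  intro s hs
  have h1 : D.L s ∈ D.K := (QuotientGroup.eq_one_iff _).mp hs
  obtain ⟨h2, h3⟩ := h1
  rw [D.pihat_L] at h2
  obtain ⟨z, hz, rfl⟩ := D.centric s h2
  rw [D.tau_L hz] at h3
  have := D.eq_one_of_pow_card_T hS hcop h3
  have h4 : z = 1 := congrArg Subtype.val this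
  rw [h4, map_one]

theorem exists_root [Finite S₀] {p : ℕ} [Fact p.Prime] (hS : IsPGroup p S₀)
    (hcop : (Nat.card D.T).Coprime p) (w : Subgroup.center Q₀) :
    ∃ z : Subgroup.center Q₀, z ^ Nat.card D.T = w := by
  haveI := D.finite_Q
  have hinj : Function.Injective (fun z : Subgroup.center Q₀ => z ^ Nat.card D.T) := by
    intro a b hab
    have h1 : (a * b⁻¹) ^ Nat.card D.T = 1 := by
      rw [mul_pow, inv_pow]
      exact mul_inv_eq_one.mpr hab
    have := D.eq_one_of_pow_card_T hS hcop h1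
    exact mul_inv_eq_one.mp this
  exact (Finite.injective_iff_surjective.mp hinj) w

theorem ker_pi [Finite S₀] {p : ℕ} [Fact p.Prime] (hS : IsPGroup p S₀)
    (hcop : (Nat.card D.T).Coprime p) {g : D.G} (hg : D.pi g = 1) :
    ∃ z ∈ Subgroup.center Q₀, g = D.theta (D.j z) := by
  obtain ⟨γ, rfl⟩ := QuotientGroup.mk'_surjective D.K g
  have h1 : D.pihat γ = 1 := hg
  obtain ⟨z, hz⟩ := D.exists_root hS hcop (D.tau γ)
  refine ⟨z.1, z.2, ?_⟩
  show (QuotientGroup.mk' D.K) γ = (QuotientGroup.mk' D.K) (D.L (D.j z.1))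
  rw [QuotientGroup.mk'_eq_mk']
  refine ⟨γ⁻¹ * D.L (D.j z.1), ?_, by group⟩
  have h2 : D.pihat (D.L (D.j z.1)) = 1 := by rw [D.pihat_L, D.c_j_center z.2]
  have h3 : D.pihat γ⁻¹ = 1 := by rw [map_inv, h1, inv_one]
  refine ⟨by rw [map_mul, h3, h2, one_mul], ?_⟩
  rw [D.tau_mul h3 h2, D.tau_inv h1, D.tau_L z.2]
  have : (⟨z.1, z.2⟩ : Subgroup.center Q₀) = z := rfl
  rw [this, hz, inv_mul_cancel]

theorem card_G [Finite S₀] {p : ℕ} [Fact p.Prime] (hS : IsPGroup p S₀)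
    (hlift : ∀ a ∈ D.A, ∃ γ : D.Ghat, D.pihat γ = a)
    (hcop : (Nat.card D.T).Coprime p) :
    Nat.card D.G = Nat.card D.T * Nat.card S₀ := by
  haveI := D.finX
  haveI := D.finite_Q
  have h1 := Subgroup.card_mul_index D.pi.ker
  rw [Subgroup.index_ker] at h1
  have hr : D.pi.range = D.A := by
    apply le_antisymm
    · rintro _ ⟨g, rfl⟩
      exact D.pi_mem g
    · intro a ha
      obtain ⟨γ, hγ⟩ := hlift a ha
      exact ⟨QuotientGroup.mk' D.K γ, hγ⟩
  have hk : Nat.card D.pi.ker = Nat.card (Subgroup.center Q₀) := by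
    apply (Nat.card_congr (Equiv.ofBijective
      (fun z : Subgroup.center Q₀ => (⟨D.theta (D.j z.1), by
        rw [MonoidHom.mem_ker, D.pi_theta, D.c_j_center z.2]⟩ : D.pi.ker)) ⟨?_, ?_⟩)).symm
    · intro z z' h
      have h2 := congrArg Subtype.val h
      exact Subtype.ext (D.j_inj (D.theta_injective hS hcop h2))
    · rintro ⟨g, hg⟩
      obtain ⟨z, hz, rfl⟩ := D.ker_pi hS hcop (MonoidHom.mem_ker.mp hg)
      exact ⟨⟨z, hz⟩, rfl⟩
  rw [← h1, hk, hr, ← D.card_T hlift, D.card_S]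
  ring

end Data

end Cfsg.Agent.Lib.Helper27.Thick
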