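import Mathlib
import Cfsg.Agent.Lib.Helper27.ModelSetup
import Cfsg.Agent.Lib.Helper27.ThickC

/-!
# The thick biset of a constrained fusion system

Given a normal centric subgroup `Q` of a saturated fusion system `F` over `S`, together with chosen
extensions of the `F`-automorphisms of `Q`, we build the biset
`X = ⊔_d S ×_{(N_d, φ_d)} S`, `d` running over the double cosets `Aut_S(Q) \ Aut_F(Q) / Aut_S(Q)`,
and check the axioms of `Thick.Data`.
-/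

set_option autoImplicit false

namespace Cfsg.Agent.Lib.Helper27.Model

open Cfsg Cfsg.FusionSystem Cfsg.Agent.Lib.Helper26

universe u

variable {Ω : Type u} [Group Ω] {S : Subgroup Ω}

/-- the set-up: a normal centric subgroup with chosen extensions of its automorphisms -/
structure Setup (F : FusionSystem S) (Q : Subgroup Ω) where
  hQS : Q ≤ S
  hN : S ≤ Subgroup.normalizer (Q : Set Ω)
  centric : F.IsCentric Q
  ext : MulAut ↥Q → ↥S → ↥S
  ext_mapOn : ∀ α ∈ F.autGroup Q, MapOn F (Nal Q hN α) (ext α)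
  ext_spec : ∀ α ∈ F.autGroup Q, ∀ q : ↥Q,
    ext α (Subgroup.inclusion hQS q) = Subgroup.inclusion hQS (α q)

variable {F : FusionSystem S} {Q : Subgroup Ω} (U : Setup F Q)

namespace Setup

/-- the inclusion of `Q` in `S` -/
abbrev jj : ↥Q →* ↥S := Subgroup.inclusion U.hQS

/-- the conjugation action of `S` on `Q` -/
abbrev cc : ↥S →* MulAut ↥Q := cS Q U.hN

theorem jj_cc (s : ↥S) (q : ↥Q) : U.jj (U.cc s q) = s * U.jj q * s⁻¹ := incl_cS U.hQS U.hN s q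

theorem jj_cc_inv (s : ↥S) (q : ↥Q) : U.jj ((U.cc s)⁻¹ q) = s⁻¹ * U.jj q * s :=
  incl_cS_inv U.hQS U.hN s q

theorem ext_cc {α : MulAut ↥Q} (hα : α ∈ F.autGroup Q) {x : ↥S}
    (hx : (x : Ω) ∈ Nal Q U.hN α) : U.cc (U.ext α x) = α * U.cc x * α⁻¹ :=
  ext_conj U.hQS U.hN (le_Nal U.hQS U.hN α) (U.ext_mapOn α hα) (U.ext_spec α hα) hx

/-- the double coset relation on `Aut_F(Q)` -/
def dcSetoid : Setoid ↥(F.autGroup Q) where
  r a b := ∃ s t : ↥S, (b : MulAut ↥Q) = U.cc s * (a : MulAut ↥Q) * U.cc t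
  iseqv := by
    refine ⟨fun a => ⟨1, 1, ?_⟩, ?_, ?_⟩
    · rw [map_one, one_mul, mul_one]
    · rintro a b ⟨s, t, h⟩
      refine ⟨s⁻¹, t⁻¹, ?_⟩
      rw [h, map_inv, map_inv]
      group
    · rintro a b c ⟨s, t, h⟩ ⟨s', t', h'⟩
      refine ⟨s' * s, t * t', ?_⟩
      rw [h', h, map_mul, map_mul]
      group

/-- the set of double cosets -/
def Dc : Type u := Quotient U.dcSetoid

/-- the chosen representative of a double coset -/
noncomputable def rr (d : U.Dc) : MulAut ↥Q :=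
  ((Quotient.out d : ↥(F.autGroup Q)) : MulAut ↥Q)

theorem rr_mem (d : U.Dc) : U.rr d ∈ F.autGroup Q := (Quotient.out d).2

theorem rr_inv_mem (d : U.Dc) : (U.rr d)⁻¹ ∈ F.autGroup Q := (F.autGroup Q).inv_mem (U.rr_mem d)

theorem dc_eq_of_rel {d d' : U.Dc} (h : ∃ s t : ↥S, U.rr d' = U.cc s * U.rr d * U.cc t) :
    d = d' := by
  have h1 : (Quotient.mk U.dcSetoid (Quotient.out d) : U.Dc) =
      Quotient.mk U.dcSetoid (Quotient.out d') := Quotient.sound h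
  exact (Quotient.out_eq d).symm.trans (h1.trans (Quotient.out_eq d'))

/-- the subgroup `N_d` -/
noncomputable def Nd (d : U.Dc) : Subgroup Ω := Nal Q U.hN (U.rr d)⁻¹

/-- the chosen extension of the inverse of the representative -/
noncomputable def ph (d : U.Dc) : ↥S → ↥S := U.ext (U.rr d)⁻¹

theorem ph_mapOn (d : U.Dc) : MapOn F (U.Nd d) (U.ph d) := U.ext_mapOn _ (U.rr_inv_mem d)

theorem ph_jj (d : U.Dc) (q : ↥Q) : U.ph d (U.jj q) = U.jj ((U.rr d)⁻¹ q) :=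
  U.ext_spec _ (U.rr_inv_mem d) q

theorem ph_cc (d : U.Dc) {n : ↥S} (hn : (n : Ω) ∈ U.Nd d) :
    U.cc (U.ph d n) = (U.rr d)⁻¹ * U.cc n * U.rr d := by
  have := U.ext_cc (U.rr_inv_mem d) hn
  rw [inv_inv] at this
  exact this

theorem jj_mem_Nd (d : U.Dc) (q : ↥Q) : ((U.jj q : ↥S) : Ω) ∈ U.Nd d :=
  le_Nal U.hQS U.hN _ q.2

theorem mem_Nd {d : U.Dc} {n : ↥S} :
    (n : Ω) ∈ U.Nd d ↔ ∃ y : ↥S, (U.rr d)⁻¹ * U.cc n * U.rr d = U.cc y := by
  unfold Nd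
  rw [mem_Nal, inv_inv]

/-- the relation defining the biset -/
def preSetoid : Setoid (U.Dc × ↥S × ↥S) where
  r a b := a.1 = b.1 ∧ ∃ n : ↥S, (n : Ω) ∈ U.Nd a.1 ∧ b.2.1 = a.2.1 * n⁻¹ ∧
    b.2.2 = U.ph a.1 n * a.2.2
  iseqv := by
    refine ⟨fun a => ⟨rfl, 1, (U.Nd a.1).one_mem, ?_, ?_⟩, ?_, ?_⟩
    · rw [inv_one, mul_one]
    · rw [(U.ph_mapOn a.1).map_one, one_mul]
    · rintro ⟨d, u, v⟩ ⟨d', u', v'⟩ ⟨hd, n, hn, h1, h2⟩
      dsimp only at hd h1 h2 hn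
      subst hd
      have hn' : ((n⁻¹ : ↥S) : Ω) ∈ U.Nd d := by
        rw [Subgroup.coe_inv]
        exact (U.Nd d).inv_mem hn
      refine ⟨rfl, n⁻¹, hn', ?_, ?_⟩
      · dsimp only
        rw [h1, inv_inv, inv_mul_cancel_right]
      · dsimp only
        rw [h2, (U.ph_mapOn d).map_inv hn, inv_mul_cancel_left]
    · rintro ⟨d, u, v⟩ ⟨d', u', v'⟩ ⟨d'', u'', v''⟩ ⟨hd, n, hn, h1, h2⟩ ⟨hd', n', hn', h1', h2'⟩
      dsimp only at hd h1 h2 hn hd' h1' h2' hn'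
      subst hd
      subst hd'
      have hnn : ((n' * n : ↥S) : Ω) ∈ U.Nd d := by
        rw [Subgroup.coe_mul]
        exact (U.Nd d).mul_mem hn' hn
      refine ⟨rfl, n' * n, hnn, ?_, ?_⟩
      · dsimp only
        rw [h1', h1, mul_inv_rev, mul_assoc]
      · dsimp only
        rw [h2', h2, (U.ph_mapOn d).map_mul hn' hn, mul_assoc]

/-- the biset -/
def X : Type u := Quotient U.preSetoid

/-- the class of a triple -/
def mkX (d : U.Dc) (u v : ↥S) : U.X := Quotient.mk U.preSetoid (d, u, v)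

theorem mkX_eq {d : U.Dc} {u v n : ↥S} (hn : (n : Ω) ∈ U.Nd d) :
    U.mkX d (u * n⁻¹) (U.ph d n * v) = U.mkX d u v :=
  (Quotient.sound (⟨rfl, n, hn, rfl, rfl⟩ : U.preSetoid.r (d, u, v) (d, u * n⁻¹, U.ph d n * v))).symm

theorem mkX_eq' {d : U.Dc} {u v u' v' n : ↥S} (hn : (n : Ω) ∈ U.Nd d) (h1 : u' = u * n⁻¹)
    (h2 : v' = U.ph d n * v) : U.mkX d u' v' = U.mkX d u v := by
  rw [h1, h2]
  exact U.mkX_eq hn

theorem mkX_exact {d d' : U.Dc} {u v u' v' : ↥S} (h : U.mkX d u v = U.mkX d' u' v') :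
    d = d' ∧ ∃ n : ↥S, (n : Ω) ∈ U.Nd d ∧ u' = u * n⁻¹ ∧ v' = U.ph d n * v :=
  Quotient.exact h

theorem X_ind {P : U.X → Prop} (h : ∀ d u v, P (U.mkX d u v)) (ξ : U.X) : P ξ := by
  induction ξ using Quotient.inductionOn with
  | _ a => exact h a.1 a.2.1 a.2.2

/-- left multiplication -/
def lmX (s : ↥S) : U.X → U.X :=
  Quotient.map (fun a : U.Dc × ↥S × ↥S => (a.1, s * a.2.1, a.2.2)) (by
    rintro ⟨d, u, v⟩ ⟨d', u', v'⟩ ⟨hd, n, hn, h1, h2⟩
    dsimp only at hd h1 h2 hn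
    refine ⟨hd, n, hn, ?_, h2⟩
    dsimp only
    rw [h1, mul_assoc])

/-- right multiplication -/
def rmX (ξ : U.X) (s : ↥S) : U.X :=
  Quotient.map (fun a : U.Dc × ↥S × ↥S => (a.1, a.2.1, a.2.2 * s)) (by
    rintro ⟨d, u, v⟩ ⟨d', u', v'⟩ ⟨hd, n, hn, h1, h2⟩
    dsimp only at hd h1 h2 hn
    refine ⟨hd, n, hn, h1, ?_⟩
    dsimp only
    rw [h2, mul_assoc]) ξ

theorem lmX_mk (s : ↥S) (d : U.Dc) (u v : ↥S) : U.lmX s (U.mkX d u v) = U.mkX d (s * u) v := rfl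

theorem rmX_mk (s : ↥S) (d : U.Dc) (u v : ↥S) : U.rmX (U.mkX d u v) s = U.mkX d u (v * s) := rfl

/-- the covering map -/
noncomputable def rhoX : U.X → MulAut ↥Q :=
  Quotient.lift (fun a : U.Dc × ↥S × ↥S => U.cc a.2.1 * U.rr a.1 * U.cc a.2.2) (by
    rintro ⟨d, u, v⟩ ⟨d', u', v'⟩ ⟨hd, n, hn, h1, h2⟩
    dsimp only at hd h1 h2 hn
    subst hd
    dsimp only
    rw [h1, h2, map_mul, map_mul, U.ph_cc d hn, map_inv]
    group)

theorem rhoX_mk (d : U.Dc) (u v : ↥S) : U.rhoX (U.mkX d u v) = U.cc u * U.rr d * U.cc v := rfl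

theorem lmX_one (ξ : U.X) : U.lmX 1 ξ = ξ := by
  induction ξ using U.X_ind with
  | _ d u v => rw [lmX_mk, one_mul]

theorem lmX_mul (s t : ↥S) (ξ : U.X) : U.lmX (s * t) ξ = U.lmX s (U.lmX t ξ) := by
  induction ξ using U.X_ind with
  | _ d u v => rw [lmX_mk, lmX_mk, lmX_mk, mul_assoc]

theorem rmX_one (ξ : U.X) : U.rmX ξ 1 = ξ := by
  induction ξ using U.X_ind with
  | _ d u v => rw [rmX_mk, mul_one]

theorem rmX_mul (ξ : U.X) (s t : ↥S) : U.rmX ξ (s * t) = U.rmX (U.rmX ξ s) t := by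
  induction ξ using U.X_ind with
  | _ d u v => rw [rmX_mk, rmX_mk, rmX_mk, mul_assoc]

theorem lmX_rmX (s : ↥S) (ξ : U.X) (t : ↥S) : U.lmX s (U.rmX ξ t) = U.rmX (U.lmX s ξ) t := by
  induction ξ using U.X_ind with
  | _ d u v => rfl

theorem freeX (ξ : U.X) (s : ↥S) (h : U.rmX ξ s = ξ) : s = 1 := by
  induction ξ using U.X_ind with
  | _ d u v =>
    rw [rmX_mk] at h
    obtain ⟨-, n, hn, h1, h2⟩ := U.mkX_exact h
    have hn1 : n = 1 := by
      have : n⁻¹ = 1 := mul_left_cancel (a := u) (by rw [← h1, mul_one])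
      exact inv_eq_one.mp this
    rw [hn1, (U.ph_mapOn d).map_one, one_mul] at h2
    exact (mul_left_cancel (a := v) (by rw [← h2, mul_one]))

theorem rhoX_mem (ξ : U.X) : U.rhoX ξ ∈ F.autGroup Q := by
  induction ξ using U.X_ind with
  | _ d u v =>
    rw [rhoX_mk]
    exact (F.autGroup Q).mul_mem ((F.autGroup Q).mul_mem (cS_mem_autGroup F U.hQS U.hN u)
      (U.rr_mem d)) (cS_mem_autGroup F U.hQS U.hN v)

theorem rhoX_lmX (s : ↥S) (ξ : U.X) : U.rhoX (U.lmX s ξ) = U.cc s * U.rhoX ξ := by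
  induction ξ using U.X_ind with
  | _ d u v => rw [lmX_mk, rhoX_mk, rhoX_mk, map_mul, mul_assoc, mul_assoc, mul_assoc]

theorem rhoX_rmX (ξ : U.X) (s : ↥S) : U.rhoX (U.rmX ξ s) = U.rhoX ξ * U.cc s := by
  induction ξ using U.X_ind with
  | _ d u v => rw [rmX_mk, rhoX_mk, rhoX_mk, map_mul, mul_assoc, mul_assoc, mul_assoc]

theorem fiberX (ξ η : U.X) (h : U.rhoX ξ = U.rhoX η) : ∃ s, U.cc s = 1 ∧ η = U.rmX ξ s := by
  induction ξ using U.X_ind with
  | _ d u v =>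
  induction η using U.X_ind with
  | _ d' u' v' =>
    rw [rhoX_mk, rhoX_mk] at h
    have hd : d = d' := by
      apply U.dc_eq_of_rel
      refine ⟨u'⁻¹ * u, v * v'⁻¹, ?_⟩
      rw [map_mul, map_mul, map_inv, map_inv]
      have : U.cc u'⁻¹ * (U.cc u * U.rr d * U.cc v) * (U.cc v')⁻¹ = U.rr d' := by
        rw [h, map_inv]
        group
      rw [← this, map_inv]
      group
    subst hd
    have hrel : (U.rr d)⁻¹ * U.cc (u'⁻¹ * u) * U.rr d = U.cc (v' * v⁻¹) := by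
      rw [map_mul, map_mul, map_inv, map_inv]
      have h' : U.rr d * U.cc v' = (U.cc u')⁻¹ * (U.cc u * U.rr d * U.cc v) := by
        rw [h]
        group
      have h'' : U.cc v' = (U.rr d)⁻¹ * ((U.cc u')⁻¹ * (U.cc u * U.rr d * U.cc v)) := by
        rw [← h', inv_mul_cancel_left]
      rw [h'']
      group
    have hn : ((u'⁻¹ * u : ↥S) : Ω) ∈ U.Nd d := U.mem_Nd.mpr ⟨_, hrel⟩
    have hc := U.ph_cc d hn
    rw [hrel] at hc
    -- m₁ := (ph n)⁻¹ * v' * v⁻¹ is in the kernel of c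
    have hm1 : U.cc ((U.ph d (u'⁻¹ * u))⁻¹ * (v' * v⁻¹)) = 1 := by
      rw [map_mul, map_inv, hc, inv_mul_cancel]
    refine ⟨v⁻¹ * ((U.ph d (u'⁻¹ * u))⁻¹ * (v' * v⁻¹)) * v, ?_, ?_⟩
    · rw [map_mul, map_mul, hm1, mul_one, map_inv, inv_mul_cancel]
    · rw [rmX_mk]
      apply U.mkX_eq' hn
      · rw [mul_inv_rev, inv_inv, mul_inv_cancel_left]
      · group

theorem compatX (q : ↥Q) (ξ : U.X) :
    U.lmX (U.jj q) ξ = U.rmX ξ (U.jj ((U.rhoX ξ)⁻¹ q)) := by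
  induction ξ using U.X_ind with
  | _ d u v =>
    rw [lmX_mk, rmX_mk, rhoX_mk]
    -- n = u⁻¹ (jq)⁻¹ u = j((c u)⁻¹ q⁻¹)
    have hn : ((U.jj ((U.cc u)⁻¹ q⁻¹) : ↥S) : Ω) ∈ U.Nd d := U.jj_mem_Nd d _
    apply U.mkX_eq' hn
    · rw [U.jj_cc_inv, map_inv]
      group
    · rw [U.ph_jj, mul_inv_rev, mul_inv_rev, MulAut.mul_apply, MulAut.mul_apply, U.jj_cc_inv v,
        map_inv, map_inv, map_inv]
      group

instance finite_Dc [Finite S] : Finite U.Dc := by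
  haveI : Finite ↥Q := finite_of_le U.hQS
  haveI : Finite (MulAut ↥Q) := Finite.of_injective (fun a : MulAut ↥Q => (a : ↥Q → ↥Q))
    (fun a b hab => MulEquiv.ext (fun x => congrFun hab x))
  exact Quotient.finite _

instance finite_X [Finite S] : Finite U.X := Quotient.finite _

/-- the thick biset of the set-up -/
noncomputable def toData [Finite S] : Thick.Data ↥S ↥Q where
  j := U.jj
  A := F.autGroup Q
  c := U.cc
  X := U.X
  lm := U.lmX
  rm := U.rmX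
  ρ := U.rhoX
  j_inj := Subgroup.inclusion_injective U.hQS
  c_mem := cS_mem_autGroup F U.hQS U.hN
  c_spec := U.jj_cc
  centric := fun s hs => cS_ker_of_centric F U.centric U.hN s hs
  finX := U.finite_X
  neX := ⟨U.mkX (Quotient.mk U.dcSetoid 1) 1 1⟩
  lm_one := U.lmX_one
  lm_mul := U.lmX_mul
  rm_one := U.rmX_one
  rm_mul := U.rmX_mul
  lm_rm := U.lmX_rmX
  free := U.freeX
  ρ_mem := U.rhoX_mem
  ρ_lm := U.rhoX_lmX
  ρ_rm := U.rhoX_rmX
  fiber := U.fiberX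
  compat := U.compatX

end Setup

end Cfsg.Agent.Lib.Helper27.Model
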