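import Mathlib
import Cfsg.Agent.Lib.Helper27.ThickC

/-!
# Thick bisets: constructing covering automorphisms orbit by orbit
-/

set_option autoImplicit false

namespace Cfsg.Agent.Lib.Helper27.Thick

universe u

variable {S₀ Q₀ : Type u} [Group S₀] [Group Q₀] (D : Data S₀ Q₀)

namespace Data

/-- the orbit relation of `H × S₀` on `X` -/
def orbH (H : Subgroup S₀) : Setoid D.X where
  r ξ η := ∃ x ∈ H, ∃ s, η = D.lm x (D.rm ξ s)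
  iseqv := by
    refine ⟨fun ξ => ⟨1, H.one_mem, 1, ?_⟩, ?_, ?_⟩
    · rw [D.rm_one, D.lm_one]
    · rintro ξ η ⟨x, hx, s, rfl⟩
      refine ⟨x⁻¹, H.inv_mem hx, s⁻¹, ?_⟩
      rw [← D.lm_rm, D.rm_rm_inv, D.lm_inv_lm]
    · rintro ξ η ζ ⟨x, hx, s, rfl⟩ ⟨x', hx', s', rfl⟩
      refine ⟨x' * x, H.mul_mem hx' hx, s * s', ?_⟩
      simp only [D.lm_mul, D.rm_mul, D.lm_rm]

theorem lm_rm_eq_iff (x : S₀) (ξ η : D.X) (s : S₀) :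
    D.lm x (D.rm ξ s) = η ↔ ξ = D.lm x⁻¹ (D.rm η s⁻¹) := by
  constructor
  · rintro rfl
    rw [← D.lm_rm, D.rm_rm_inv, D.lm_inv_lm]
  · rintro rfl
    rw [← D.lm_rm, D.rm_inv_rm, D.lm_lm_inv]

/-- constructing an equivariant map orbit by orbit -/
theorem exists_orbit_map (H : Subgroup S₀) (ψ : S₀ → S₀)
    (hψ : ∀ x ∈ H, ∀ y ∈ H, ψ (x * y) = ψ x * ψ y) (tgt : D.X → D.X)
    (htgt : ∀ ξ₀, ∀ y ∈ H, ∀ t, D.lm y ξ₀ = D.rm ξ₀ t → D.lm (ψ y) (tgt ξ₀) = D.rm (tgt ξ₀) t) :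
    ∃ γ : D.X → D.X,
      (∀ x ∈ H, ∀ s ξ, γ (D.lm x (D.rm ξ s)) = D.lm (ψ x) (D.rm (γ ξ) s)) ∧
      ∀ ξ, ∃ ξ₀, ∃ x ∈ H, ∃ s, ξ = D.lm x (D.rm ξ₀ s) ∧ γ ξ = D.lm (ψ x) (D.rm (tgt ξ₀) s) := by
  have hψ1 : ψ 1 = 1 := by
    have := hψ 1 H.one_mem 1 H.one_mem
    rw [mul_one] at this
    exact (mul_eq_left.mp this.symm)
  have hψinv : ∀ x ∈ H, ψ x⁻¹ = (ψ x)⁻¹ := by
    intro x hx
    have := hψ x⁻¹ (H.inv_mem hx) x hx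
    rw [inv_mul_cancel, hψ1] at this
    exact eq_inv_of_mul_eq_one_left this.symm
  let rep : D.X → D.X := fun ξ => Quotient.out (Quotient.mk (D.orbH H) ξ)
  have hrep : ∀ ξ, ∃ x ∈ H, ∃ s, ξ = D.lm x (D.rm (rep ξ) s) := fun ξ =>
    Quotient.mk_out (s := D.orbH H) ξ
  choose xx hxx ss hss using hrep
  have hrep_eq : ∀ ξ η, (D.orbH H).r ξ η → rep η = rep ξ := by
    intro ξ η h
    have : Quotient.mk (D.orbH H) ξ = Quotient.mk (D.orbH H) η := Quotient.sound h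
    show Quotient.out (Quotient.mk (D.orbH H) η) = Quotient.out (Quotient.mk (D.orbH H) ξ)
    rw [this]
  let γ : D.X → D.X := fun ξ => D.lm (ψ (xx ξ)) (D.rm (tgt (rep ξ)) (ss ξ))
  have key : ∀ ξ, ∀ x ∈ H, ∀ s, ξ = D.lm x (D.rm (rep ξ) s) →
      γ ξ = D.lm (ψ x) (D.rm (tgt (rep ξ)) s) := by
    intro ξ x hx s h
    have h0 := hss ξ
    -- lm x₁ (rm ξ₀ s₁) = lm x (rm ξ₀ s)
    have h1 : D.lm (xx ξ) (D.rm (rep ξ) (ss ξ)) = D.lm x (D.rm (rep ξ) s) := by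
      rw [← h0, ← h]
    have h2 : D.lm (x⁻¹ * xx ξ) (rep ξ) = D.rm (rep ξ) (s * (ss ξ)⁻¹) := by
      have h3 : D.lm x⁻¹ (D.lm (xx ξ) (D.rm (rep ξ) (ss ξ))) = D.rm (rep ξ) s := by
        rw [h1, D.lm_inv_lm]
      rw [D.lm_mul, D.rm_mul, ← h3, ← D.lm_rm, ← D.lm_rm, D.rm_rm_inv]
    have h4 := htgt (rep ξ) (x⁻¹ * xx ξ) (H.mul_mem (H.inv_mem hx) (hxx ξ)) _ h2
    rw [hψ _ (H.inv_mem hx) _ (hxx ξ), hψinv x hx, D.lm_mul] at h4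
    show D.lm (ψ (xx ξ)) (D.rm (tgt (rep ξ)) (ss ξ)) = D.lm (ψ x) (D.rm (tgt (rep ξ)) s)
    have h5 : D.lm (ψ (xx ξ)) (tgt (rep ξ)) = D.lm (ψ x) (D.rm (tgt (rep ξ)) (s * (ss ξ)⁻¹)) := by
      rw [← h4, D.lm_lm_inv]
    rw [D.lm_rm, h5, ← D.lm_rm, ← D.rm_mul, inv_mul_cancel_right]
  refine ⟨γ, ?_, fun ξ => ⟨rep ξ, xx ξ, hxx ξ, ss ξ, hss ξ, rfl⟩⟩
  intro y hy t ξ
  have hr : rep (D.lm y (D.rm ξ t)) = rep ξ := hrep_eq ξ _ ⟨y, hy, t, rfl⟩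
  have h1 : D.lm y (D.rm ξ t) = D.lm (y * xx ξ) (D.rm (rep (D.lm y (D.rm ξ t))) (ss ξ * t)) := by
    rw [hr, D.lm_mul, D.rm_mul, D.lm_rm (xx ξ), ← hss ξ]
  rw [key _ (y * xx ξ) (H.mul_mem hy (hxx ξ)) (ss ξ * t) h1, hr, hψ y hy _ (hxx ξ), D.lm_mul,
    D.rm_mul, D.lm_rm (ψ (xx ξ))]

/-- a right-equivariant self-map covering a left multiplication on `A` is a member of `Ghat` -/
theorem exists_Ghat_of_map (γ : D.X → D.X) {a : MulAut Q₀} (ha : a ∈ D.A)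
    (h1 : ∀ ξ s, γ (D.rm ξ s) = D.rm (γ ξ) s) (h2 : ∀ ξ, D.ρ (γ ξ) = a * D.ρ ξ) :
    ∃ g : D.Ghat, D.pihat g = a ∧ ∀ ξ, g.1 ξ = γ ξ := by
  haveI := D.finX
  have hinj : Function.Injective γ := by
    intro ξ η h
    have h3 : D.ρ ξ = D.ρ η := by
      have := congrArg D.ρ h
      rw [h2, h2] at this
      exact mul_left_cancel this
    obtain ⟨s, -, rfl⟩ := D.fiber ξ η h3
    rw [h1] at h
    have := D.free _ _ h.symm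
    rw [this, D.rm_one]
  have hbij : Function.Bijective γ := ⟨hinj, Finite.surjective_of_injective hinj⟩
  have hmem : Equiv.ofBijective γ hbij ∈ D.Ghat := ⟨h1, a, ha, h2⟩
  refine ⟨⟨Equiv.ofBijective γ hbij, hmem⟩, D.cov_unique h2, fun ξ => rfl⟩

/-- the lifting lemma in abstract form -/
theorem exists_lift_of_targets (H : Subgroup S₀) (ψ : S₀ → S₀) {a : MulAut Q₀} (ha : a ∈ D.A)
    (hψ : ∀ x ∈ H, ∀ y ∈ H, ψ (x * y) = ψ x * ψ y)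
    (hψc : ∀ x ∈ H, D.c (ψ x) = a * D.c x * a⁻¹)
    (htgt : ∀ ξ₀ : D.X, ∃ η, D.ρ η = a * D.ρ ξ₀ ∧
      ∀ y ∈ H, ∀ t, D.lm y ξ₀ = D.rm ξ₀ t → D.lm (ψ y) η = D.rm η t) :
    ∃ g : D.Ghat, D.pihat g = a ∧ ∀ x ∈ H, ∀ ξ, g.1 (D.lm x ξ) = D.lm (ψ x) (g.1 ξ) := by
  choose tgt htgt1 htgt2 using htgt
  obtain ⟨γ, hγ1, hγ2⟩ := D.exists_orbit_map H ψ hψ tgt htgt2
  have h1 : ∀ ξ s, γ (D.rm ξ s) = D.rm (γ ξ) s := by
    intro ξ s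
    have := hγ1 1 H.one_mem s ξ
    have hψ1 : ψ 1 = 1 := by
      have := hψ 1 H.one_mem 1 H.one_mem
      rw [mul_one] at this
      exact (mul_eq_left.mp this.symm)
    rw [D.lm_one, hψ1, D.lm_one] at this
    exact this
  have h2 : ∀ ξ, D.ρ (γ ξ) = a * D.ρ ξ := by
    intro ξ
    obtain ⟨ξ₀, x, hx, s, hξ, hγξ⟩ := hγ2 ξ
    rw [hγξ, hξ, D.ρ_lm, D.ρ_rm, D.ρ_lm, D.ρ_rm, htgt1, hψc x hx]
    group
  obtain ⟨g, hg1, hg2⟩ := D.exists_Ghat_of_map γ ha h1 h2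
  refine ⟨g, hg1, fun x hx ξ => ?_⟩
  rw [hg2, hg2]
  have := hγ1 x hx 1 ξ
  rw [D.rm_one, D.rm_one] at this
  exact this

end Data

end Cfsg.Agent.Lib.Helper27.Thick
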