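import Mathlib
import Cfsg.Agent.Lib.Helper27.ModelBiset
import Cfsg.Agent.Lib.Helper27.ThickD

/-!
# The thick biset of a constrained fusion system: lifting automorphisms
-/

set_option autoImplicit false

namespace Cfsg.Agent.Lib.Helper27.Model

open Cfsg Cfsg.FusionSystem Cfsg.Agent.Lib.Helper26

universe u

variable {Ω : Type u} [Group Ω] {S : Subgroup Ω}

variable {F : FusionSystem S} {Q : Subgroup Ω} (U : Setup F Q)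

namespace Setup

theorem exists_rr {a : MulAut ↥Q} (ha : a ∈ F.autGroup Q) :
    ∃ (d : U.Dc) (s t : ↥S), a = U.cc s * U.rr d * U.cc t :=
  ⟨Quotient.mk U.dcSetoid ⟨a, ha⟩, Quotient.mk_out (s := U.dcSetoid) ⟨a, ha⟩⟩

theorem exists_rhoX {a : MulAut ↥Q} (ha : a ∈ F.autGroup Q) : ∃ ξ : U.X, U.rhoX ξ = a := by
  obtain ⟨d, s, t, h⟩ := U.exists_rr ha
  exact ⟨U.mkX d s t, by rw [rhoX_mk, h]⟩

theorem mem_Nal_rho_inv (d : U.Dc) (u v x : ↥S) :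
    (x : Ω) ∈ Nal Q U.hN (U.cc u * U.rr d * U.cc v)⁻¹ ↔
      ((u⁻¹ * x * u : ↥S) : Ω) ∈ U.Nd d := by
  rw [mem_Nal, U.mem_Nd, inv_inv]
  constructor
  · rintro ⟨y, hy⟩
    refine ⟨v * y * v⁻¹, ?_⟩
    rw [map_mul, map_mul, map_mul, map_mul, map_inv, map_inv, ← hy]
    group
  · rintro ⟨y, hy⟩
    refine ⟨v⁻¹ * y * v, ?_⟩
    rw [map_mul, map_mul, map_inv, ← hy, map_mul, map_mul, map_inv]
    group

/-- every point of the biset has a "stabilizer map" -/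
theorem exists_psi (ξ : U.X) : ∃ f : ↥S → ↥S, MapOn F (Nal Q U.hN (U.rhoX ξ)⁻¹) f ∧
    (∀ q : ↥Q, f (U.jj q) = U.jj ((U.rhoX ξ)⁻¹ q)) ∧
    ∀ x : ↥S, (x : Ω) ∈ Nal Q U.hN (U.rhoX ξ)⁻¹ → U.lmX x ξ = U.rmX ξ (f x) := by
  induction ξ using U.X_ind with
  | _ d u v =>
    rw [rhoX_mk]
    have hmem : ∀ x : ↥S, (x : Ω) ∈ Nal Q U.hN (U.cc u * U.rr d * U.cc v)⁻¹ →
        ((u⁻¹ * x * u : ↥S) : Ω) ∈ U.Nd d := fun x hx => (U.mem_Nal_rho_inv d u v x).mp hx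
    refine ⟨fun x => v⁻¹ * U.ph d (u⁻¹ * x * u) * v, ?_, ?_, ?_⟩
    · have h1 : MapOn F (Nal Q U.hN (U.cc u * U.rr d * U.cc v)⁻¹) (fun x => u⁻¹ * x * u⁻¹⁻¹) :=
        mapOn_conj F (Nal_le _ _ _) u⁻¹
      have h2 := h1.comp (U.ph_mapOn d) (fun x hx => by
        have := hmem x hx
        rw [inv_inv]
        exact this)
      have h3 := h2.comp (mapOn_conj F (le_refl S) v⁻¹) (fun x _ => (U.ph d (u⁻¹ * x * u⁻¹⁻¹)).2)
      exact h3.congr (fun x _ => by simp only [inv_inv])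
    · intro q
      show v⁻¹ * U.ph d (u⁻¹ * U.jj q * u) * v = _
      rw [← U.jj_cc_inv, U.ph_jj, ← U.jj_cc_inv, mul_inv_rev, mul_inv_rev, MulAut.mul_apply,
        MulAut.mul_apply]
    · intro x hx
      have hn := hmem x hx
      have hn' : (((u⁻¹ * x * u)⁻¹ : ↥S) : Ω) ∈ U.Nd d := by
        rw [Subgroup.coe_inv]
        exact (U.Nd d).inv_mem hn
      rw [lmX_mk, rmX_mk]
      apply U.mkX_eq' hn'
      · rw [inv_inv]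
        group
      · rw [(U.ph_mapOn d).map_inv hn]
        group

theorem cc_jj_center {z : ↥Q} (hz : z ∈ Subgroup.center ↥Q) : U.cc (U.jj z) = 1 := by
  ext q
  have h1 : U.jj (U.cc (U.jj z) q) = U.jj q := by
    rw [U.jj_cc, ← map_inv, ← map_mul, ← map_mul]
    congr 1
    have := Subgroup.mem_center_iff.mp hz q
    rw [← this, mul_inv_cancel_right]
  exact congrArg (fun r : ↥S => (r : Ω)) h1

theorem aut_center (a : MulAut ↥Q) {z : ↥Q} (hz : z ∈ Subgroup.center ↥Q) :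
    a z ∈ Subgroup.center ↥Q := by
  rw [Subgroup.mem_center_iff] at hz ⊢
  intro g
  have := hz (a⁻¹ g)
  have h2 := congrArg a this
  rw [map_mul, map_mul, MulAut.apply_inv_self] at h2
  exact h2

theorem rmX_inj (ξ : U.X) {s t : ↥S} (h : U.rmX ξ s = U.rmX ξ t) : s = t := by
  have h1 : U.rmX (U.rmX ξ s) (s⁻¹ * t) = U.rmX ξ s := by
    rw [← U.rmX_mul, mul_inv_cancel_left, h]
  have := U.freeX _ _ h1
  exact inv_mul_eq_one.mp this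

/-- the choice of a target point for an orbit representative -/
theorem exists_target [Finite S] {p : ℕ} [Fact p.Prime] (hS : IsPGroup p S)
    (hF : F.IsSaturated p) {α : MulAut ↥Q} (hα : α ∈ F.autGroup Q) {ψ : ↥S → ↥S}
    (hψ : MapOn F (Nal Q U.hN α) ψ) (hψα : ∀ q : ↥Q, ψ (U.jj q) = U.jj (α q)) (ξ₀ : U.X) :
    ∃ η : U.X, U.rhoX η = α * U.rhoX ξ₀ ∧ ∀ y : ↥S, (y : Ω) ∈ Nal Q U.hN α → ∀ t : ↥S,
      U.lmX y ξ₀ = U.rmX ξ₀ t → U.lmX (ψ y) η = U.rmX η t := by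
  obtain ⟨η₀, hη₀⟩ := U.exists_rhoX ((F.autGroup Q).mul_mem hα (U.rhoX_mem ξ₀))
  obtain ⟨f₀, hf₀, hf₀Q, hf₀X⟩ := U.exists_psi ξ₀
  obtain ⟨f₁, hf₁, hf₁Q, hf₁X⟩ := U.exists_psi η₀
  have hψc : ∀ y : ↥S, (y : Ω) ∈ Nal Q U.hN α → U.cc (ψ y) = α * U.cc y * α⁻¹ := fun y hy =>
    ext_conj U.hQS U.hN (le_Nal U.hQS U.hN α) hψ hψα hy
  have hmem1 : ∀ y : ↥S, (y : Ω) ∈ Nal Q U.hN α ⊓ Nal Q U.hN (U.rhoX ξ₀)⁻¹ →
      ((ψ y : ↥S) : Ω) ∈ Nal Q U.hN (U.rhoX η₀)⁻¹ := by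
    rintro y ⟨hy1, hy2⟩
    obtain ⟨y', hy'⟩ := mem_Nal.mp hy2
    rw [mem_Nal, hη₀]
    refine ⟨y', ?_⟩
    rw [hψc y hy1, ← hy']
    group
  have hg : MapOn F (Nal Q U.hN α ⊓ Nal Q U.hN (U.rhoX ξ₀)⁻¹) (fun y => f₁ (ψ y)) :=
    (hψ.mono inf_le_left).comp hf₁ hmem1
  have hf : MapOn F (Nal Q U.hN α ⊓ Nal Q U.hN (U.rhoX ξ₀)⁻¹) f₀ := hf₀.mono inf_le_right
  have hQle : Q ≤ Nal Q U.hN α ⊓ Nal Q U.hN (U.rhoX ξ₀)⁻¹ :=
    le_inf (le_Nal U.hQS U.hN _) (le_Nal U.hQS U.hN _)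
  obtain ⟨z, hz, hzu⟩ := unique_ext hS hF hQle U.centric hf hg (by
    intro x hx
    have hxe : x = U.jj ⟨x, hx⟩ := Subtype.ext rfl
    rw [hxe, hf₀Q]
    show _ = f₁ (ψ (U.jj ⟨x, hx⟩))
    rw [hψα, hf₁Q, hη₀, mul_inv_rev, MulAut.mul_apply, MulAut.inv_apply_self])
  have hw : U.cc (U.jj ((U.rhoX ξ₀)⁻¹ z)) = 1 := U.cc_jj_center (aut_center _ hz)
  have hzmem : ((U.jj z : ↥S) : Ω) ∈ Nal Q U.hN α ⊓ Nal Q U.hN (U.rhoX ξ₀)⁻¹ := hQle z.2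
  have hzimem : (((U.jj z)⁻¹ : ↥S) : Ω) ∈ Nal Q U.hN α ⊓ Nal Q U.hN (U.rhoX ξ₀)⁻¹ := by
    rw [Subgroup.coe_inv]
    exact Subgroup.inv_mem _ hzmem
  refine ⟨U.rmX η₀ (U.jj ((U.rhoX ξ₀)⁻¹ z)), ?_, ?_⟩
  · rw [U.rhoX_rmX, hw, mul_one, hη₀]
  · intro y hy t hyt
    have hy2 : (y : Ω) ∈ Nal Q U.hN (U.rhoX ξ₀)⁻¹ := by
      rw [mem_Nal, inv_inv]
      refine ⟨t, ?_⟩
      have := congrArg U.rhoX hyt
      rw [U.rhoX_lmX, U.rhoX_rmX] at this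
      rw [mul_assoc, this, inv_mul_cancel_left]
    have ht : t = f₀ y := by
      have := hf₀X y hy2
      rw [hyt] at this
      exact U.rmX_inj ξ₀ this
    have hyH : (y : Ω) ∈ Nal Q U.hN α ⊓ Nal Q U.hN (U.rhoX ξ₀)⁻¹ := ⟨hy, hy2⟩
    have h3 := hf₁X (ψ y) (hmem1 y hyH)
    have h4 : f₁ (ψ y) = U.jj ((U.rhoX ξ₀)⁻¹ z) * f₀ y * (U.jj ((U.rhoX ξ₀)⁻¹ z))⁻¹ := by
      have h5 := hzu y hyH
      have hzy : ((U.jj z * y : ↥S) : Ω) ∈ Nal Q U.hN α ⊓ Nal Q U.hN (U.rhoX ξ₀)⁻¹ := by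
        rw [Subgroup.coe_mul]
        exact Subgroup.mul_mem _ hzmem hyH
      rw [hf.map_mul hzy hzimem, hf.map_mul hzmem hyH, hf.map_inv hzmem, hf₀Q] at h5
      exact h5
    rw [U.lmX_rmX, h3, h4, ← U.rmX_mul, inv_mul_cancel_right, U.rmX_mul, ht]

/-- the lifting lemma: every `F`-automorphism of `Q` is covered by an element of `Ghat`
compatible with a given extension -/
theorem exists_lift [Finite S] {p : ℕ} [Fact p.Prime] (hS : IsPGroup p S)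
    (hF : F.IsSaturated p) {α : MulAut ↥Q} (hα : α ∈ F.autGroup Q) {ψ : ↥S → ↥S}
    (hψ : MapOn F (Nal Q U.hN α) ψ) (hψα : ∀ q : ↥Q, ψ (U.jj q) = U.jj (α q)) :
    ∃ g : U.toData.Ghat, U.toData.pihat g = α ∧ ∀ x : ↥S, (x : Ω) ∈ Nal Q U.hN α →
      ∀ ξ, g.1 (U.toData.lm x ξ) = U.toData.lm (ψ x) (g.1 ξ) := by
  obtain ⟨g, hg1, hg2⟩ := U.toData.exists_lift_of_targets ((Nal Q U.hN α).subgroupOf S) ψ
    (a := α) hα
    (fun x hx y hy => hψ.map_mul (Subgroup.mem_subgroupOf.mp hx) (Subgroup.mem_subgroupOf.mp hy))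
    (fun x hx => ext_conj U.hQS U.hN (le_Nal U.hQS U.hN α) hψ hψα (Subgroup.mem_subgroupOf.mp hx))
    (fun ξ₀ => by
      obtain ⟨η, h1, h2⟩ := U.exists_target hS hF hα hψ hψα ξ₀
      exact ⟨η, h1, fun y hy t h => h2 y (Subgroup.mem_subgroupOf.mp hy) t h⟩)
  exact ⟨g, hg1, fun x hx ξ => hg2 x (Subgroup.mem_subgroupOf.mpr hx) ξ⟩

end Setup

end Cfsg.Agent.Lib.Helper27.Model
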