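import Mathlib
import Cfsg.Agent.Lib.Helper27.ModelStable
import Cfsg.Agent.Lib.Helper1.Cores

/-!
# The model theorem: existence

Assembling the model `G = Ghat / K` of a constrained fusion system from its thick biset.
-/

set_option autoImplicit false

namespace Cfsg.Agent.Lib.Helper27.Model

open Cfsg Cfsg.FusionSystem Cfsg.Agent.Lib.Helper26

universe u

variable {Ω : Type u} [Group Ω] {S : Subgroup Ω}

variable {F : FusionSystem S} {Q : Subgroup Ω} (U : Setup F Q)

namespace Setup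

section

variable [Finite S] {p : ℕ} [Fact p.Prime]

/-- conjugation by the class of a lift -/
theorem conj_lift {α : MulAut ↥Q} {ψ : ↥S → ↥S} {g : U.toData.Ghat}
    (hg : ∀ x : ↥S, (x : Ω) ∈ Nal Q U.hN α → ∀ ξ,
      g.1 (U.toData.lm x ξ) = U.toData.lm (ψ x) (g.1 ξ))
    {x : ↥S} (hx : (x : Ω) ∈ Nal Q U.hN α) :
    (QuotientGroup.mk' U.toData.K g) * U.toData.theta x * (QuotientGroup.mk' U.toData.K g)⁻¹ =
      U.toData.theta (ψ x) := by
  have h1 : g * U.toData.L x = U.toData.L (ψ x) * g := by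
    apply Subtype.ext
    ext ξ
    exact hg x hx ξ
  show (QuotientGroup.mk' U.toData.K) g * (QuotientGroup.mk' U.toData.K) (U.toData.L x) *
    ((QuotientGroup.mk' U.toData.K) g)⁻¹ = (QuotientGroup.mk' U.toData.K) (U.toData.L (ψ x))
  rw [← map_mul, h1, map_mul, mul_inv_cancel_right]

/-- every `F`-automorphism of `Q` is induced by an element of the model, compatibly with the
chosen extension -/
theorem exists_elt (hS : IsPGroup p S) (hF : F.IsSaturated p) {α : MulAut ↥Q}
    (hα : α ∈ F.autGroup Q) :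
    ∃ g : U.toData.G, U.toData.pi g = α ∧ ∀ x : ↥S, (x : Ω) ∈ Nal Q U.hN α →
      g * U.toData.theta x * g⁻¹ = U.toData.theta (U.ext α x) := by
  obtain ⟨γ, h1, h2⟩ := U.exists_lift hS hF hα (U.ext_mapOn α hα) (U.ext_spec α hα)
  exact ⟨QuotientGroup.mk' U.toData.K γ, h1, fun x hx => U.conj_lift h2 hx⟩

theorem hlift (hS : IsPGroup p S) (hF : F.IsSaturated p) :
    ∀ a ∈ U.toData.A, ∃ γ : U.toData.Ghat, U.toData.pihat γ = a := by
  intro a ha
  obtain ⟨γ, h1, -⟩ := U.exists_lift hS hF ha (U.ext_mapOn a ha) (U.ext_spec a ha)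
  exact ⟨γ, h1⟩

theorem hcop (hS : IsPGroup p S) (hF : F.IsSaturated p) (hfa : F.IsFullyAutomized p Q) :
    (Nat.card U.toData.T).Coprime p :=
  U.toData.card_T_coprime (U.hlift hS hF) (card_autGroup_of_fullyAutomized hfa U.hN)

theorem theta_inj (hS : IsPGroup p S) (hF : F.IsSaturated p) (hfa : F.IsFullyAutomized p Q) :
    Function.Injective U.toData.theta :=
  U.toData.theta_injective hS (U.hcop hS hF hfa)

/-- maps of the system are realized by conjugation in the model -/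
theorem realized_of_mem (hS : IsPGroup p S) (hF : F.IsSaturated p) (hQn : F.IsNormal Q)
    {P : Subgroup Ω} (hP : P ≤ S) {φ : P →* Ω} (hφS : ∀ x : P, φ x ∈ S) (hφ : φ ∈ F.Hom P) :
    ∃ g : U.toData.G, ∀ x : P,
      U.toData.theta ⟨φ x, hφS x⟩ = g * U.toData.theta ⟨x, hP x.2⟩ * g⁻¹ := by
  obtain ⟨φt, hφt, hext, hmapQ⟩ := hQn.2 P φ hφ
  have hRS : P ⊔ Q ≤ S := source_le F hφt
  have hf : MapOn F (P ⊔ Q) (totalFun φt) := mapOn_totalFun F hφt
  have hφQ : φt.comp (Subgroup.inclusion (le_sup_right : Q ≤ P ⊔ Q)) ∈ F.Hom Q :=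
    restrict_mem F hφt le_sup_right
  have hr := range_eq_of_isNormal hQn hφQ
  have hα : autOfHom F hφQ hr ∈ F.autGroup Q := autOfHom_mem F hφQ hr
  have hfα : ∀ q : ↥Q, totalFun φt (U.jj q) = U.jj (autOfHom F hφQ hr q) := by
    intro q
    apply Subtype.ext
    rw [totalFun_apply F hφt _ ((le_sup_right : Q ≤ P ⊔ Q) q.2)]
    rfl
  have hle : P ⊔ Q ≤ Nal Q U.hN (autOfHom F hφQ hr) := by
    intro x hx
    have hxS : x ∈ S := hRS hx
    have : ((⟨x, hxS⟩ : ↥S) : Ω) ∈ Nal Q U.hN (autOfHom F hφQ hr) := by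
      rw [mem_Nal]
      exact ⟨totalFun φt ⟨x, hxS⟩,
        (ext_conj U.hQS U.hN le_sup_right hf hfα (x := ⟨x, hxS⟩) hx).symm⟩
    exact this
  obtain ⟨z, hz, hzu⟩ := unique_ext hS hF (le_sup_right : Q ≤ P ⊔ Q) U.centric
    ((U.ext_mapOn _ hα).mono hle) hf (by
      intro x hx
      have hxe : x = U.jj ⟨x, hx⟩ := Subtype.ext rfl
      rw [hxe, U.ext_spec _ hα, hfα])
  obtain ⟨g, -, hg⟩ := U.exists_elt hS hF hα
  refine ⟨g * U.toData.theta (U.jj z), fun x => ?_⟩
  have hxR : ((⟨x, hP x.2⟩ : ↥S) : Ω) ∈ P ⊔ Q := (le_sup_left : P ≤ P ⊔ Q) x.2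
  have h1 : (⟨φ x, hφS x⟩ : ↥S) = totalFun φt ⟨x, hP x.2⟩ := by
    apply Subtype.ext
    rw [totalFun_apply F hφt _ hxR]
    exact (hext x).symm
  have hmem : ((U.jj z * ⟨x, hP x.2⟩ * (U.jj z)⁻¹ : ↥S) : Ω) ∈
      Nal Q U.hN (autOfHom F hφQ hr) := by
    have hzN : ((U.jj z : ↥S) : Ω) ∈ Nal Q U.hN (autOfHom F hφQ hr) := hle ((le_sup_right : Q ≤ P ⊔ Q) z.2)
    rw [Subgroup.coe_mul, Subgroup.coe_mul, Subgroup.coe_inv]
    exact Subgroup.mul_mem _ (Subgroup.mul_mem _ hzN (hle hxR)) (Subgroup.inv_mem _ hzN)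
  rw [h1, hzu _ hxR, ← hg _ hmem, map_mul, map_mul, map_inv]
  group

/-- conjugation in the model induces maps of the system -/
theorem mem_of_realized (hS : IsPGroup p S) (hF : F.IsSaturated p)
    (hfa : F.IsFullyAutomized p Q)
    {P : Subgroup Ω} (hP : P ≤ S) {φ : P →* Ω} (hφS : ∀ x : P, φ x ∈ S) (g : U.toData.G)
    (hg : ∀ x : P, U.toData.theta ⟨φ x, hφS x⟩ = g * U.toData.theta ⟨x, hP x.2⟩ * g⁻¹) :
    φ ∈ F.Hom P := by
  have hα : U.toData.pi g ∈ F.autGroup Q := U.toData.pi_mem g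
  have hle : P ≤ Nal Q U.hN (U.toData.pi g) := by
    intro x hx
    have : ((⟨x, hP hx⟩ : ↥S) : Ω) ∈ Nal Q U.hN (U.toData.pi g) := by
      rw [mem_Nal]
      refine ⟨⟨φ ⟨x, hx⟩, hφS ⟨x, hx⟩⟩, ?_⟩
      have h1 := congrArg U.toData.pi (hg ⟨x, hx⟩)
      rw [map_mul, map_mul, map_inv, U.toData.pi_theta, U.toData.pi_theta] at h1
      exact h1.symm
    exact this
  obtain ⟨g₁, hg₁, hg₁c⟩ := U.exists_elt hS hF hα
  have hker : U.toData.pi (g₁⁻¹ * g) = 1 := by
    rw [map_mul, map_inv, hg₁, inv_mul_cancel]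
  obtain ⟨z, hz, hzg⟩ := U.toData.ker_pi hS (U.hcop hS hF hfa) hker
  have hgz : g = g₁ * U.toData.theta (U.jj z) := by
    have : U.toData.theta (U.jj z) = g₁⁻¹ * g := hzg.symm
    rw [this, mul_inv_cancel_left]
  have hzN : ((U.jj z : ↥S) : Ω) ∈ Nal Q U.hN (U.toData.pi g) := le_Nal U.hQS U.hN _ z.2
  have hmap : MapOn F P (fun x => U.ext (U.toData.pi g) (U.jj z * x * (U.jj z)⁻¹)) := by
    refine (mapOn_conj F hP (U.jj z)).comp (U.ext_mapOn _ hα) (fun x hx => ?_)
    rw [Subgroup.coe_mul, Subgroup.coe_mul, Subgroup.coe_inv]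
    exact Subgroup.mul_mem _ (Subgroup.mul_mem _ hzN (hle hx)) (Subgroup.inv_mem _ hzN)
  obtain ⟨φ', hφ', h1⟩ := hmap
  refine mem_of_forall_eq F hφ' (fun x => ?_)
  rw [h1 ⟨x, hP x.2⟩ x.2]
  have hmem : ((U.jj z * ⟨x, hP x.2⟩ * (U.jj z)⁻¹ : ↥S) : Ω) ∈ Nal Q U.hN (U.toData.pi g) := by
    rw [Subgroup.coe_mul, Subgroup.coe_mul, Subgroup.coe_inv]
    exact Subgroup.mul_mem _ (Subgroup.mul_mem _ hzN (hle x.2)) (Subgroup.inv_mem _ hzN)
  have h2 : U.toData.theta ⟨φ x, hφS x⟩ =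
      U.toData.theta (U.ext (U.toData.pi g) (U.jj z * ⟨x, hP x.2⟩ * (U.jj z)⁻¹)) := by
    rw [hg x, ← hg₁c _ hmem, hgz, map_mul, map_mul, map_inv]
    group
  have h3 := U.theta_inj hS hF hfa h2
  exact congrArg (fun r : ↥S => (r : Ω)) h3

theorem finite_G : Finite U.toData.G := by
  haveI := U.toData.finX
  haveI : Finite (Equiv.Perm U.toData.X) := inferInstance
  haveI : Finite U.toData.Ghat := inferInstance
  exact inferInstanceAs (Finite (U.toData.Ghat ⧸ U.toData.K))

theorem sylow (hS : IsPGroup p S) (hF : F.IsSaturated p) (hfa : F.IsFullyAutomized p Q) :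
    ∃ T : Sylow p U.toData.G, (T : Subgroup U.toData.G) = U.toData.theta.range := by
  haveI := U.finite_G
  have hinj := U.theta_inj hS hF hfa
  have hcop := U.hcop hS hF hfa
  have hP : IsPGroup p U.toData.theta.range :=
    hS.of_equiv (MonoidHom.ofInjective hinj)
  have hcard : Nat.card U.toData.theta.range = Nat.card ↥S :=
    (Nat.card_congr (MonoidHom.ofInjective hinj).toEquiv).symm
  have hG := U.toData.card_G hS (U.hlift hS hF) hcop
  have hidx : U.toData.theta.range.index = Nat.card U.toData.T := by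
    have h1 := Subgroup.card_mul_index U.toData.theta.range
    rw [hcard, hG, mul_comm] at h1
    exact Nat.eq_of_mul_eq_mul_right Nat.card_pos h1
  have hnd : ¬ p ∣ U.toData.theta.range.index := by
    rw [hidx]
    exact (Fact.out : p.Prime).coprime_iff_not_dvd.mp hcop.symm
  exact ⟨hP.toSylow hnd, hP.toSylow_coe hnd⟩

theorem core_le (hS : IsPGroup p S) (hF : F.IsSaturated p) (hfa : F.IsFullyAutomized p Q) :
    Subgroup.centralizer ((pCore p U.toData.G : Subgroup U.toData.G) : Set U.toData.G) ≤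
      pCore p U.toData.G := by
  have hinj := U.theta_inj hS hF hfa
  have hcop := U.hcop hS hF hfa
  -- the image of `Q` is a normal `p`-subgroup
  have hnorm : (U.toData.theta.comp U.jj).range.Normal := by
    constructor
    rintro _ ⟨q, rfl⟩ g
    refine ⟨U.toData.pi g q, ?_⟩
    rw [MonoidHom.comp_apply, MonoidHom.comp_apply]
    exact (U.toData.conj_theta g q).symm
  have hpg : IsPGroup p (U.toData.theta.comp U.jj).range := by
    have hinj2 : Function.Injective (U.toData.theta.comp U.jj) :=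
      hinj.comp (Subgroup.inclusion_injective U.hQS)
    have hQp : IsPGroup p ↥Q := hS.of_injective U.jj (Subgroup.inclusion_injective U.hQS)
    exact hQp.of_equiv (MonoidHom.ofInjective hinj2)
  have hle : (U.toData.theta.comp U.jj).range ≤ pCore p U.toData.G :=
    Cfsg.Agent.Lib.Helper1.le_pCore hnorm hpg
  intro g hg
  rw [Subgroup.mem_centralizer_iff] at hg
  have hpi : U.toData.pi g = 1 := by
    ext q
    have h1 := hg _ (hle ⟨q, rfl⟩)
    rw [MonoidHom.comp_apply] at h1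
    have h2 : g * U.toData.theta (U.jj q) * g⁻¹ = U.toData.theta (U.jj (U.toData.pi g q)) :=
      U.toData.conj_theta g q
    have h3 : U.toData.theta (U.jj q) = U.toData.theta (U.jj (U.toData.pi g q)) := by
      rw [← h2, ← h1, mul_inv_cancel_right]
    have h4 := Subgroup.inclusion_injective U.hQS (hinj h3)
    rw [MulAut.one_apply, ← h4]
  obtain ⟨z, -, rfl⟩ := U.toData.ker_pi hS hcop hpi
  exact hle ⟨z, rfl⟩

/-- the model attached to a set-up -/
theorem isModel (hS : IsPGroup p S) (hF : F.IsSaturated p) (hQn : F.IsNormal Q)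
    (hfa : F.IsFullyAutomized p Q) : F.IsModel p U.toData.G U.toData.theta :=
  ⟨U.finite_G, ⟨U.theta_inj hS hF hfa, fun P hP φ hφS =>
    ⟨fun hφ => U.realized_of_mem hS hF hQn hP hφS hφ,
      fun ⟨g, hg⟩ => U.mem_of_realized hS hF hfa hP hφS g hg⟩⟩,
    U.sylow hS hF hfa, U.core_le hS hF hfa⟩

end

end Setup

open Classical in
/-- the set-up attached to a normal centric subgroup of a saturated system -/
noncomputable def mkSetup {p : ℕ} {F : FusionSystem S} (hF : F.IsSaturated p) {Q : Subgroup Ω}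
    (hQn : F.IsNormal Q) (hQc : F.IsCentric Q) : Setup F Q where
  hQS := hQn.1
  hN := isNormal_le_normalizer hQn
  centric := hQc
  ext α := if h : α ∈ F.autGroup Q then
    Classical.choose (exists_ext hF hQn (isNormal_le_normalizer hQn) h) else id
  ext_mapOn α hα := by
    rw [dif_pos hα]
    exact (Classical.choose_spec (exists_ext hF hQn (isNormal_le_normalizer hQn) hα)).1
  ext_spec α hα := by
    rw [dif_pos hα]
    exact (Classical.choose_spec (exists_ext hF hQn (isNormal_le_normalizer hQn) hα)).2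

/-- the model theorem, existence -/
theorem exists_model [Finite S] (p : ℕ) [Fact p.Prime] (hS : IsPGroup p S) (F : FusionSystem S)
    (hF : F.IsConstrained p) : ∃ (G : Type u) (_ : Group G) (ι : S →* G), F.IsModel p G ι := by
  obtain ⟨hsat, Q, hQn, hQc⟩ := hF
  have hfa := (isNormal_automized_receptive hsat hQn).1
  exact ⟨(mkSetup hsat hQn hQc).toData.G, inferInstance, (mkSetup hsat hQn hQc).toData.theta,
    (mkSetup hsat hQn hQc).isModel hS hsat hQn hfa⟩

end Cfsg.Agent.Lib.Helper27.Model
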