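import Cfsg.Prelude.Def_FusionComponents
import Cfsg.Agent.Lib.Helper27.FusLift2

set_option autoImplicit false

namespace Cfsg.Agent.Lib.Helper27

open Cfsg Cfsg.FusionSystem Cfsg.Agent.Lib.Helper26

variable {Ω : Type*} [Group Ω] {S : Subgroup Ω} {Ω' : Type*} [Group Ω'] {S' : Subgroup Ω'}

theorem mem_preimageAlong {θ : ↥S →* Ω'} {P' : Subgroup Ω'} {y : Ω} :
    y ∈ preimageAlong θ P' ↔ ∃ hy : y ∈ S, θ ⟨y, hy⟩ ∈ P' := by
  unfold preimageAlong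
  constructor
  · rintro ⟨s, hs, rfl⟩
    exact ⟨s.2, hs⟩
  · rintro ⟨hy, h⟩
    exact ⟨⟨y, hy⟩, h, rfl⟩

theorem preimageAlong_le (θ : ↥S →* Ω') (P' : Subgroup Ω') : preimageAlong θ P' ≤ S := by
  intro y hy
  exact (mem_preimageAlong.mp hy).1

theorem preimageAlong_map {θ : ↥S →* Ω'} {Q : Subgroup Ω} (hQS : Q ≤ S)
    (hker : ∀ s : S, θ s = 1 → (s : Ω) ∈ Q) :
    preimageAlong θ ((Q.subgroupOf S).map θ) = Q := by
  ext y
  rw [mem_preimageAlong]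
  constructor
  · rintro ⟨hy, q, hq, hqy⟩
    have h1 : θ (q⁻¹ * ⟨y, hy⟩) = 1 := by
      rw [map_mul, map_inv, hqy, inv_mul_cancel]
    have h2 := hker _ h1
    have h3 : y = (q : Ω) * ((q⁻¹ * ⟨y, hy⟩ : S) : Ω) := by
      simp
    rw [h3]
    exact Q.mul_mem (Subgroup.mem_subgroupOf.mp hq) h2
  · intro hy
    exact ⟨hQS hy, ⟨y, hQS hy⟩, Subgroup.mem_subgroupOf.mpr hy, rfl⟩

/-- An automorphism of `P'` in the factor system lifts to an automorphism of the preimage. -/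
theorem factor_lift_aut [Finite S] {F : FusionSystem S} {T : Subgroup Ω} {θ : ↥S →* Ω'}
    {E : FusionSystem S'} (hE : F.IsFactorSystem T θ E) {P' : Subgroup Ω'} (hP'S' : P' ≤ S')
    {β' : MulAut P'} (hβ' : β' ∈ E.autGroup P') :
    ∃ γ ∈ F.autGroup (preimageAlong θ P'), ∀ (x : ↥(preimageAlong θ P'))
      (h1 : (x : Ω) ∈ S) (h2 : ((γ x : ↥(preimageAlong θ P')) : Ω) ∈ S) (h3 : θ ⟨x, h1⟩ ∈ P'),
      θ ⟨γ x, h2⟩ = ((β' ⟨θ ⟨x, h1⟩, h3⟩ : P') : Ω') := by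
  have hβ'' : P'.subtype.comp β'.toMonoidHom ∈ E.Hom P' := (mem_autGroup_iff E hP'S').mp hβ'
  obtain ⟨-, φ, hφ, hP, hφS, hP', hind⟩ := (hE.2.2.2 P' _).mp hβ''
  have hle : φ.range ≤ preimageAlong θ P' := by
    rintro _ ⟨x, rfl⟩
    refine mem_preimageAlong.mpr ⟨hφS x, ?_⟩
    rw [← hind x]
    exact (β' _).2
  have hr := range_eq_of_range_le F hφ hle
  refine ⟨autOfHom F hφ hr, autOfHom_mem F hφ hr, fun x h1 h2 h3 => ?_⟩
  exact (hind x).symm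

/-- An automorphism of `Q ⊇ T` induces an automorphism of the image of `Q` in the factor system. -/
theorem factor_induce_aut {F : FusionSystem S} {T : Subgroup Ω} (hT : F.StronglyClosed T)
    {θ : ↥S →* Ω'} {E : FusionSystem S'} (hE : F.IsFactorSystem T θ E) {Q : Subgroup Ω}
    (hQS : Q ≤ S) (hTQ : T ≤ Q) {γ : MulAut Q} (hγ : γ ∈ F.autGroup Q) :
    ∃ γ' ∈ E.autGroup ((Q.subgroupOf S).map θ), ∀ (q : Q)
      (h1 : θ ⟨q, hQS q.2⟩ ∈ (Q.subgroupOf S).map θ),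
      ((γ' ⟨θ ⟨q, hQS q.2⟩, h1⟩ : ↥((Q.subgroupOf S).map θ)) : Ω') = θ ⟨γ q, hQS (γ q).2⟩ := by
  have hP'S' : (Q.subgroupOf S).map θ ≤ S' := by
    rw [← hE.2.2.1]
    rintro _ ⟨s, -, rfl⟩
    exact ⟨s, rfl⟩
  have hmemP' : ∀ q : Q, θ ⟨q, hQS q.2⟩ ∈ (Q.subgroupOf S).map θ := fun q =>
    ⟨⟨q, hQS q.2⟩, Subgroup.mem_subgroupOf.mpr q.2, rfl⟩
  let θQ : Q →* ↥((Q.subgroupOf S).map θ) :=
    (θ.comp (Subgroup.inclusion hQS)).codRestrict _ hmemP'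
  have hsurj : Function.Surjective θQ := by
    rintro ⟨_, s, hs, rfl⟩
    exact ⟨⟨s, Subgroup.mem_subgroupOf.mp hs⟩, rfl⟩
  let g : Q →* Ω' := θ.comp ((Subgroup.inclusion hQS).comp γ.toMonoidHom)
  have hγF : Q.subtype.comp γ.toMonoidHom ∈ F.Hom Q := (mem_autGroup_iff F hQS).mp hγ
  have hker : θQ.ker ≤ g.ker := by
    intro q hq
    rw [MonoidHom.mem_ker] at hq ⊢
    have h1 : θ ⟨q, hQS q.2⟩ = 1 := congrArg Subtype.val hq
    have h2 : (q : Ω) ∈ T := (hE.2.1 _).mp h1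
    have h3 : ((γ q : Q) : Ω) ∈ T := apply_mem_of_stronglyClosed F hT hγF q h2
    exact (hE.2.1 ⟨γ q, hQS (γ q).2⟩).mpr h3
  have hφ'apply : ∀ q : Q, (θQ.liftOfSurjective hsurj ⟨g, hker⟩) (θQ q) = g q := fun q =>
    MonoidHom.liftOfRightInverse_comp_apply _ _ _ ⟨g, hker⟩ q
  have hpre : preimageAlong θ ((Q.subgroupOf S).map θ) = Q :=
    preimageAlong_map hQS (fun s hs => hTQ ((hE.2.1 s).mp hs))
  obtain ⟨φ, hφ, hφe⟩ := hom_cast F hpre.symm _ hγF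
  have hmem : θQ.liftOfSurjective hsurj ⟨g, hker⟩ ∈ E.Hom ((Q.subgroupOf S).map θ) := by
    refine (hE.2.2.2 _ _).mpr ⟨hP'S', φ, hφ, preimageAlong_le θ _, fun x => apply_mem F hφ x,
      fun x => (mem_preimageAlong.mp x.2).2, fun x => ?_⟩
    have hxQ : (x : Ω) ∈ Q := hpre.le x.2
    have e1 : (⟨θ ⟨x, preimageAlong_le θ _ x.2⟩, (mem_preimageAlong.mp x.2).2⟩ :
        ↥((Q.subgroupOf S).map θ)) = θQ ⟨x, hxQ⟩ := rfl
    rw [e1, hφ'apply]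
    have e2 : φ x = ((γ ⟨x, hxQ⟩ : Q) : Ω) := hφe x.1 hxQ x.2
    show θ ⟨((γ ⟨x, hxQ⟩ : Q) : Ω), _⟩ = _
    congr 2
    exact e2.symm
  have hr : (θQ.liftOfSurjective hsurj ⟨g, hker⟩).range = (Q.subgroupOf S).map θ := by
    ext z
    constructor
    · rintro ⟨y, rfl⟩
      obtain ⟨q, rfl⟩ := hsurj y
      rw [hφ'apply]
      exact hmemP' (γ q)
    · intro hz
      obtain ⟨q, hq⟩ := hsurj ⟨z, hz⟩
      refine ⟨θQ (γ⁻¹ q), ?_⟩
      rw [hφ'apply]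
      have h5 : γ (γ⁻¹ q) = q := MulAut.apply_inv_self _ _ _
      have h6 : g (γ⁻¹ q) = ((θQ (γ (γ⁻¹ q)) : ↥((Q.subgroupOf S).map θ)) : Ω') := rfl
      rw [h6, h5, hq]
  refine ⟨autOfHom E hmem hr, autOfHom_mem E hmem hr, fun q h1 => ?_⟩
  rw [autOfHom_apply]
  exact hφ'apply q

end Cfsg.Agent.Lib.Helper27
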