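import Mathlib
import Cfsg.Agent.Lib.helper8.A7R.Defs
import Cfsg.Agent.Lib.helper8.SylowBasic
import Cfsg.Agent.Lib.helper8.Burnside
import Cfsg.Agent.Lib.helper8.SimpleEmbed

set_option autoImplicit false
set_option linter.unusedVariables false
set_option linter.style.haveILetI false

/-!
# Project A7R (designer helper8), row B06 (`stage2_three`): `n_3 = 70`.
-/

namespace Cfsg.Agent.Lib.helper8.A7R

open Subgroup
open Cfsg.Agent.Lib.helper8

universe u

variable {G : Type u} [Group G]

/-- conjugation by an element of the normalizer, as a self-map of the subgroup -/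
def a7rb06_conjEnd (P : Subgroup G) (z : G) (hz : z ∈ normalizer (P : Set G)) : Function.End ↥P :=
  fun x => ⟨z * (x : G) * z⁻¹, (mem_normalizer_iff.mp hz (x : G)).mp x.2⟩

theorem a7rb06_conjEnd_pow (P : Subgroup G) (z : G) (hz : z ∈ normalizer (P : Set G)) (n : ℕ)
    (x : ↥P) : (((a7rb06_conjEnd P z hz) ^ n) x : G) = z ^ n * (x : G) * (z ^ n)⁻¹ := by
  induction n generalizing x with
  | zero =>
    rw [pow_zero, pow_zero]
    show (x : G) = 1 * (x : G) * 1⁻¹
    simp
  | succ n ih =>
    rw [pow_succ']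
    show z * ((((a7rb06_conjEnd P z hz) ^ n) x : ↥P) : G) * z⁻¹ = _
    rw [ih, pow_succ']
    group

/-- a `q`-element of `N(P)` centralizes a nontrivial element of `P` when `|P| ≢ 1 mod q` -/
theorem a7rb06_fix (P : Subgroup G) [Finite ↥P] (q : ℕ) [hq : Fact q.Prime] (z : G)
    (hz : z ∈ normalizer (P : Set G)) (hzq : z ^ q = 1) (hm : Nat.card ↥P % q ≠ 1) :
    ∃ x ∈ P, x ≠ 1 ∧ z * x = x * z := by
  letI : DecidableEq ↥P := Classical.decEq _
  letI : Fintype ↥P := Fintype.ofFinite _
  have hf : (a7rb06_conjEnd P z hz) ^ q ^ 1 = 1 := by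
    rw [pow_one]
    funext x
    apply Subtype.ext
    show (((a7rb06_conjEnd P z hz) ^ q) x : G) = (x : G)
    rw [a7rb06_conjEnd_pow, hzq]
    simp
  have hmod := Equiv.Perm.card_fixedPoints_modEq (p := q) (n := 1) hf
  rw [Fintype.card_eq_nat_card, Fintype.card_eq_nat_card] at hmod
  by_contra hcon
  push Not at hcon
  have hfix : ∀ x : ↥P, x ∈ Function.fixedPoints (a7rb06_conjEnd P z hz) → x = 1 := by
    intro x hx
    by_contra hx1
    have hx' : (x : G) ≠ 1 := fun h => hx1 (Subtype.ext h)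
    have := hcon (x : G) x.2 hx'
    apply this
    have h2 : ((a7rb06_conjEnd P z hz) x : G) = (x : G) := congrArg Subtype.val hx
    have h3 : z * (x : G) * z⁻¹ = (x : G) := h2
    calc z * (x : G) = z * (x : G) * z⁻¹ * z := by group
      _ = (x : G) * z := by rw [h3]
  have hone : (1 : ↥P) ∈ Function.fixedPoints (a7rb06_conjEnd P z hz) := by
    show a7rb06_conjEnd P z hz 1 = 1
    apply Subtype.ext
    show z * ((1 : ↥P) : G) * z⁻¹ = ((1 : ↥P) : G)
    simp
  have hcard : Nat.card ↥(Function.fixedPoints (a7rb06_conjEnd P z hz)) = 1 := by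
    rw [Nat.card_eq_one_iff_unique]
    exact ⟨⟨fun a b => Subtype.ext ((hfix a.1 a.2).trans (hfix b.1 b.2).symm)⟩, ⟨⟨1, hone⟩⟩⟩
  rw [hcard] at hmod
  have h1 : Nat.card ↥P % q = 1 % q := hmod
  have hq2 : 2 ≤ q := hq.out.two_le
  rw [Nat.mod_eq_of_lt (by omega : 1 < q)] at h1
  exact hm h1

/-- an element of order `q` in `N(P)`, from `q ∣ |N(P)|` -/
theorem a7rb06_exists_order [Finite G] (H : Subgroup G) (q : ℕ) [hq : Fact q.Prime]
    (h : q ∣ Nat.card H) : ∃ z ∈ H, orderOf z = q := by
  obtain ⟨x, hx⟩ := exists_prime_orderOf_dvd_card' q h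
  exact ⟨(x : G), x.2, by rw [Subgroup.orderOf_coe]; exact hx⟩

theorem stage2_three (hS : Std G) (h1 : St1 G) (no15 : NoOrd G 15) : Nat.card (Sylow 3 G) = 70 := by
  haveI := hS.finite
  haveI := hS.simple
  haveI : Fact (Nat.Prime 3) := ⟨by norm_num⟩
  haveI : Fact (Nat.Prime 5) := ⟨by norm_num⟩
  haveI : Fact (Nat.Prime 7) := ⟨by norm_num⟩
  have hG3 : Nat.card G = 3 ^ 2 * 280 := by rw [hS.card]; norm_num
  have hmem := h8_nsylow_mem 3 2 280 hG3 (by norm_num)
  have hne1 := h8_simple_nsylow_ne_one 3 2 280 hG3 (by norm_num) (by norm_num) (by norm_num)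
  have hset : (Nat.divisors 280).filter (fun d => d % 3 = 1) = {1, 4, 7, 10, 28, 40, 70, 280} := by
    decide
  rw [hset] at hmem
  simp only [Finset.mem_insert, Finset.mem_singleton] at hmem
  have hnc : ¬ IsMulCommutative G := h8_not_comm_of_card (by rw [hS.card]; norm_num)
  obtain ⟨P⟩ : Nonempty (Sylow 3 G) := inferInstance
  have hPc : Nat.card (P : Subgroup G) = 9 := by
    have := h8_sylow_card 3 2 280 hG3 (by norm_num) P
    rwa [show (3 : ℕ) ^ 2 = 9 by norm_num] at this
  have hNc := h8_card_normalizer_sylow 3 P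
  rw [hS.card] at hNc
  have hidx := h8_nsylow_eq_index_normalizer 3 P
  have hNtop : normalizer ((P : Subgroup G) : Set G) ≠ ⊤ := by
    intro htop
    rw [htop, Subgroup.index_top] at hidx
    exact hne1 hidx
  -- an element of order 7 in `N(P)` is impossible
  have h7 : ¬ 7 ∣ Nat.card (normalizer ((P : Subgroup G) : Set G)) := by
    intro hd
    obtain ⟨z, hzN, hz7⟩ := a7rb06_exists_order _ 7 hd
    obtain ⟨x, hxP, hx1, hzx⟩ := a7rb06_fix (P : Subgroup G) 7 z hzN
      (by rw [← hz7]; exact pow_orderOf_eq_one z) (by rw [hPc]; norm_num)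
    have hxC : x ∈ Cz z := by
      show x ∈ centralizer ({z} : Set G)
      rw [mem_centralizer_iff]
      intro y hy
      rw [Set.mem_singleton_iff] at hy
      rw [hy]
      exact hzx
    rw [h1.selfc7 z hz7] at hxC
    have hd7 : orderOf x ∣ 7 := by
      have := Subgroup.orderOf_dvd_natCard _ hxC
      rwa [Nat.card_zpowers, hz7] at this
    have hd9 : orderOf x ∣ 9 := by
      have := Subgroup.orderOf_dvd_natCard _ hxP
      rwa [hPc] at this
    have hd1 : orderOf x ∣ Nat.gcd 7 9 := Nat.dvd_gcd hd7 hd9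
    norm_num at hd1
    exact hx1 hd1
  -- an element of order 5 in `N(P)` is impossible
  have h5 : ¬ 5 ∣ Nat.card (normalizer ((P : Subgroup G) : Set G)) := by
    intro hd
    obtain ⟨y, hyN, hy5⟩ := a7rb06_exists_order _ 5 hd
    obtain ⟨x, hxP, hx1, hyx⟩ := a7rb06_fix (P : Subgroup G) 5 y hyN
      (by rw [← hy5]; exact pow_orderOf_eq_one y) (by rw [hPc]; norm_num)
    have hd9 : orderOf x ∣ 9 := by
      have := Subgroup.orderOf_dvd_natCard _ hxP
      rwa [hPc] at this
    have hx1' : orderOf x ≠ 1 := fun h => hx1 (orderOf_eq_one_iff.mp h)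
    -- an element `x'` of order 3 commuting with `y`
    obtain ⟨x', hx'3, hyx'⟩ : ∃ x' : G, orderOf x' = 3 ∧ Commute x' y := by
      have hmem9 : orderOf x ∈ Nat.divisors 9 := Nat.mem_divisors.mpr ⟨hd9, by norm_num⟩
      have hdiv : Nat.divisors 9 = {1, 3, 9} := by decide
      rw [hdiv] at hmem9
      simp only [Finset.mem_insert, Finset.mem_singleton] at hmem9
      rcases hmem9 with h | h | h
      · exact absurd h hx1'
      · exact ⟨x, h, hyx.symm⟩
      · refine ⟨x ^ 3, ?_, ?_⟩
        · rw [orderOf_pow' x (by norm_num), h]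
          norm_num
        · exact (Commute.pow_left (show Commute x y from hyx.symm) 3)
    have h15 : orderOf (x' * y) = 15 := by
      rw [hyx'.orderOf_mul_eq_mul_orderOf_of_coprime (by rw [hx'3, hy5]; norm_num), hx'3, hy5]
    exact no15 (x' * y) h15
  rcases hmem with h | h | h | h | h | h | h | h
  · exact absurd h hne1
  · exfalso
    have hdvd := h8_simple_two_mul_card_dvd_factorial hnc _ hNtop
    rw [← hidx, h, hS.card] at hdvd
    norm_num [Nat.factorial] at hdvd
  · exfalso
    exact hS.no7 _ (by rw [← hidx, h])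
  · exfalso
    rw [h] at hNc
    exact h7 ⟨36, by omega⟩
  · exfalso
    rw [h] at hNc
    exact h5 ⟨18, by omega⟩
  · exfalso
    rw [h] at hNc
    exact h7 ⟨9, by omega⟩
  · exact h
  · exfalso
    rw [h] at hNc
    have hN9 : Nat.card (normalizer ((P : Subgroup G) : Set G)) = 9 := by omega
    have hle : (P : Subgroup G) ≤ normalizer ((P : Subgroup G) : Set G) := le_normalizer
    have heq : (P : Subgroup G) = normalizer ((P : Subgroup G) : Set G) := by
      apply Subgroup.eq_of_le_of_card_ge hle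
      rw [hN9, hPc]
    have hcomm := h8_comm_of_card_prime_sq 3 (P : Subgroup G) (by rw [hPc]; norm_num)
    apply h8_simple_not_normalizer_le_centralizer 3 2 280 hG3 (by norm_num) (by norm_num)
      (by norm_num) P
    intro n hn
    rw [← heq] at hn
    rw [mem_centralizer_iff]
    intro y hy
    exact hcomm y hy n hn

end Cfsg.Agent.Lib.helper8.A7R
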