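import Mathlib
import Cfsg.Agent.Lib.helper8.A7R.Defs
import Cfsg.Agent.Lib.helper8.SylowBasic
import Cfsg.Agent.Lib.helper8.Burnside

set_option autoImplicit false
set_option linter.unusedVariables false
set_option linter.style.haveILetI false

/-!
# Project A7R (designer helper8), row B08 (`expP`): a Sylow 3-subgroup is elementary abelian.
-/

namespace Cfsg.Agent.Lib.helper8.A7R

open Subgroup
open Cfsg.Agent.Lib.helper8

universe u

variable {G : Type u} [Group G]

/-- `|N(P)| = 36` for a Sylow 3-subgroup, from `n_3 = 70` -/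
theorem a7rb08_cardN (hS : Std G) (h3 : Nat.card (Sylow 3 G) = 70) (P : Sylow 3 G) :
    Nat.card (Nz (P : Subgroup G)) = 36 := by
  haveI := hS.finite
  haveI : Fact (Nat.Prime 3) := ⟨by norm_num⟩
  have hNc := h8_card_normalizer_sylow 3 P
  rw [h3, hS.card] at hNc
  show Nat.card (normalizer ((P : Subgroup G) : Set G)) = 36
  omega

/-- `|P| = 9` for a Sylow 3-subgroup -/
theorem a7rb08_cardP (hS : Std G) (P : Sylow 3 G) : Nat.card (P : Subgroup G) = 9 := by
  haveI := hS.finite
  haveI : Fact (Nat.Prime 3) := ⟨by norm_num⟩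
  have hG3 : Nat.card G = 3 ^ 2 * 280 := by rw [hS.card]; norm_num
  have := h8_sylow_card 3 2 280 hG3 (by norm_num) P
  rwa [show (3 : ℕ) ^ 2 = 9 by norm_num] at this

/-- `|N(P) : C(P)| = 4` when `C(P) = P` -/
theorem a7rb08_relIndex (hS : Std G) (h3 : Nat.card (Sylow 3 G) = 70) (P : Sylow 3 G)
    (hc : Cs (P : Subgroup G) = (P : Subgroup G)) :
    (centralizer ((P : Subgroup G) : Set G)).relIndex (normalizer ((P : Subgroup G) : Set G)) = 4 := by
  haveI := hS.finite
  have hrel := h8_card_centralizer_mul_relIndex (P : Subgroup G)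
  have hN : Nat.card (normalizer ((P : Subgroup G) : Set G)) = 36 := a7rb08_cardN hS h3 P
  have hC : Nat.card (centralizer ((P : Subgroup G) : Set G)) = 9 := by
    have : centralizer ((P : Subgroup G) : Set G) = (P : Subgroup G) := hc
    rw [this]
    exact a7rb08_cardP hS P
  rw [hN, hC] at hrel
  omega

theorem expP (hS : Std G) (h2 : St2 G) (hc : ∀ P : Sylow 3 G, Cs (P : Subgroup G) = (P : Subgroup G))
    (P : Sylow 3 G) (x : G) (hx : x ∈ (P : Subgroup G)) : x ^ 3 = 1 := by
  haveI := hS.finite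
  haveI : Fact (Nat.Prime 3) := ⟨by norm_num⟩
  have hPc : Nat.card (P : Subgroup G) = 9 := a7rb08_cardP hS P
  have hrel := a7rb08_relIndex hS h2.syl3 P (hc P)
  by_contra hx3
  have hd9 : orderOf x ∣ 9 := by
    have := Subgroup.orderOf_dvd_natCard _ hx
    rwa [hPc] at this
  have hmem9 : orderOf x ∈ Nat.divisors 9 := Nat.mem_divisors.mpr ⟨hd9, by norm_num⟩
  have hdiv : Nat.divisors 9 = {1, 3, 9} := by decide
  rw [hdiv] at hmem9
  simp only [Finset.mem_insert, Finset.mem_singleton] at hmem9
  have h9 : orderOf x = 9 := by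
    rcases hmem9 with h | h | h
    · exfalso
      apply hx3
      rw [orderOf_eq_one_iff.mp h, one_pow]
    · exfalso
      apply hx3
      rw [← h]
      exact pow_orderOf_eq_one x
    · exact h
  haveI : IsCyclic ↥(P : Subgroup G) := by
    apply isCyclic_of_orderOf_eq_card (⟨x, hx⟩ : ↥(P : Subgroup G))
    rw [hPc, ← h9]
    exact Subgroup.orderOf_mk x hx
  have hdvd := h8_relIndex_centralizer_normalizer_dvd (P : Subgroup G)
  rw [IsCyclic.card_mulAut, hPc, hrel] at hdvd
  have ht : Nat.totient 9 = 6 := by decide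
  rw [ht] at hdvd
  norm_num at hdvd

end Cfsg.Agent.Lib.helper8.A7R
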