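import Mathlib
import Cfsg.Agent.Lib.helper8.A7R.Defs
import Cfsg.Agent.Lib.helper8.SylowConj
import Cfsg.Agent.Lib.Helper27.A7RB08

set_option autoImplicit false
set_option linter.unusedVariables false
set_option linter.style.haveILetI false

/-!
# Project A7R (designer helper8), row C3 (`orbit_decomp`): `P \ 1` is the union of the `K`-orbits of `y` and of `y (k y k⁻¹)`.
-/

namespace Cfsg.Agent.Lib.helper8.A7R

open Subgroup
open Cfsg.Agent.Lib.helper8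

universe u

variable {G : Type u} [Group G]

/-- an element of `zpowers y`, `y` of order 3, is `y ^ m` with `m < 3` -/
theorem a7rc3_mem_zpowers {y a : G} (hy3 : orderOf y = 3) (ha : a ∈ zpowers y) :
    ∃ m : ℕ, m < 3 ∧ a = y ^ m := by
  classical
  have hfin : IsOfFinOrder y := by
    rw [← orderOf_pos_iff, hy3]
    norm_num
  rw [hfin.mem_zpowers_iff_mem_range_orderOf, hy3] at ha
  obtain ⟨m, hm, rfl⟩ := Finset.mem_image.mp ha
  exact ⟨m, Finset.mem_range.mp hm, rfl⟩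

/-- a group of order 9 containing two elements `y, z` of order 3 with `z ∉ ⟨y⟩`, which commute, consists of the `y^m z^n` -/
theorem a7rc3_span [Finite G] (Q : Subgroup G) (hQ : Nat.card Q = 9) (y z : G) (hy : y ∈ Q) (hz : z ∈ Q)
    (hy3 : orderOf y = 3) (hz3 : orderOf z = 3) (hzy : z ∉ zpowers y)
    (x : G) (hx : x ∈ Q) : ∃ m n : ℕ, m < 3 ∧ n < 3 ∧ x = y ^ m * z ^ n := by
  classical
  have hcy : Nat.card (zpowers y) = 3 := by rw [Nat.card_zpowers, hy3]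
  have hcz : Nat.card (zpowers z) = 3 := by rw [Nat.card_zpowers, hz3]
  have hyQ : zpowers y ≤ Q := (zpowers_le).mpr hy
  have hzQ : zpowers z ≤ Q := (zpowers_le).mpr hz
  -- the intersection is trivial
  have htriv : ∀ c : G, c ∈ zpowers y → c ∈ zpowers z → c = 1 := by
    intro c hc1 hc2
    by_contra hc
    have := h8_zpowers_eq_of_prime_card 3 (by norm_num) (zpowers z) hcz c hc2 hc
    apply hzy
    have hzc : z ∈ zpowers c := by rw [this]; exact mem_zpowers z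
    exact ((zpowers_le).mpr hc1) hzc
  let f : ↥(zpowers y) × ↥(zpowers z) → ↥Q := fun ab =>
    ⟨(ab.1 : G) * (ab.2 : G), mul_mem (hyQ ab.1.2) (hzQ ab.2.2)⟩
  have hinj : Function.Injective f := by
    rintro ⟨a, b⟩ ⟨a', b'⟩ hab
    have h1 : (a : G) * (b : G) = (a' : G) * (b' : G) := congrArg Subtype.val hab
    have h2 : (a' : G)⁻¹ * (a : G) = (b' : G) * (b : G)⁻¹ := by
      have : (a' : G)⁻¹ * ((a : G) * (b : G)) * (b : G)⁻¹ = (a' : G)⁻¹ * ((a' : G) * (b' : G)) * (b : G)⁻¹ := by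
        rw [h1]
      calc (a' : G)⁻¹ * (a : G) = (a' : G)⁻¹ * ((a : G) * (b : G)) * (b : G)⁻¹ := by group
        _ = (a' : G)⁻¹ * ((a' : G) * (b' : G)) * (b : G)⁻¹ := this
        _ = (b' : G) * (b : G)⁻¹ := by group
    have h3 : (a' : G)⁻¹ * (a : G) = 1 := by
      apply htriv
      · exact mul_mem (inv_mem a'.2) a.2
      · rw [h2]
        exact mul_mem b'.2 (inv_mem b.2)
    have h4 : (b' : G) * (b : G)⁻¹ = 1 := by rw [← h2, h3]
    have ha : a = a' := by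
      apply Subtype.ext
      have := inv_mul_eq_one.mp h3
      exact this.symm
    have hb : b = b' := by
      apply Subtype.ext
      have := mul_inv_eq_one.mp h4
      exact this.symm
    rw [ha, hb]
  have hcard : Nat.card (↥(zpowers y) × ↥(zpowers z)) = Nat.card ↥Q := by
    rw [Nat.card_prod, hcy, hcz, hQ]
  have hbij : Function.Bijective f := by
    rw [Nat.bijective_iff_injective_and_card]
    exact ⟨hinj, hcard⟩
  obtain ⟨⟨a, b⟩, hab⟩ := hbij.2 ⟨x, hx⟩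
  have hxe : x = (a : G) * (b : G) := (congrArg Subtype.val hab).symm
  obtain ⟨m, hm, hma⟩ := a7rc3_mem_zpowers hy3 a.2
  obtain ⟨n, hn, hnb⟩ := a7rc3_mem_zpowers hz3 b.2
  exact ⟨m, n, hm, hn, by rw [hxe, hma, hnb]⟩

/-- the eight non-trivial products `y^m y2^n` are `K`-conjugates of `y` or of `y y2` -/
theorem a7rc3_cases (k y y2 : G) (h1 : k * y * k⁻¹ = y2) (h2 : k * y2 * k⁻¹ = y⁻¹)
    (hy : y ^ 3 = 1) (hy2 : y2 ^ 3 = 1) (hc : y * y2 = y2 * y)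
    (m n : ℕ) (hm : m < 3) (hn : n < 3) (hmn : ¬ (m = 0 ∧ n = 0)) :
    ∃ i : ℕ, y ^ m * y2 ^ n = k ^ i * y * (k ^ i)⁻¹ ∨ y ^ m * y2 ^ n = k ^ i * (y * y2) * (k ^ i)⁻¹ := by
  have hc2 : ∀ z : G, k ^ 2 * z * (k ^ 2)⁻¹ = k * (k * z * k⁻¹) * k⁻¹ := by
    intro z
    rw [pow_two, mul_inv_rev]
    simp only [mul_assoc]
  have hc3 : ∀ z : G, k ^ 3 * z * (k ^ 3)⁻¹ = k * (k * (k * z * k⁻¹) * k⁻¹) * k⁻¹ := by
    intro z
    rw [pow_succ, pow_two, mul_inv_rev, mul_inv_rev]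
    simp only [mul_assoc]
  have hmul : ∀ a b : G, k * (a * b) * k⁻¹ = (k * a * k⁻¹) * (k * b * k⁻¹) := by intro a b; group
  have hinv : ∀ a : G, k * a⁻¹ * k⁻¹ = (k * a * k⁻¹)⁻¹ := by intro a; group
  have hysq : y ^ 2 = y⁻¹ := by
    apply eq_inv_of_mul_eq_one_left
    rw [← pow_succ]
    exact hy
  have hy2sq : y2 ^ 2 = y2⁻¹ := by
    apply eq_inv_of_mul_eq_one_left
    rw [← pow_succ]
    exact hy2
  -- commutation of inverses
  have hci1 : y⁻¹ * y2 = y2 * y⁻¹ := by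
    have : y2 = y⁻¹ * (y * y2) := by group
    calc y⁻¹ * y2 = y⁻¹ * y2 * (y * y⁻¹) := by group
      _ = y⁻¹ * (y2 * y) * y⁻¹ := by group
      _ = y⁻¹ * (y * y2) * y⁻¹ := by rw [hc]
      _ = y2 * y⁻¹ := by group
  have hci2 : y * y2⁻¹ = y2⁻¹ * y := by
    calc y * y2⁻¹ = y2⁻¹ * (y2 * y) * y2⁻¹ := by group
      _ = y2⁻¹ * (y * y2) * y2⁻¹ := by rw [hc]
      _ = y2⁻¹ * y := by group
  have hci3 : y⁻¹ * y2⁻¹ = y2⁻¹ * y⁻¹ := by
    calc y⁻¹ * y2⁻¹ = (y2 * y)⁻¹ := by group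
      _ = (y * y2)⁻¹ := by rw [hc]
      _ = y2⁻¹ * y⁻¹ := by group
  -- the conjugates
  have e1 : k * (y * y2) * k⁻¹ = y2 * y⁻¹ := by rw [hmul y y2, h1, h2]
  have e2 : k * (y2 * y⁻¹) * k⁻¹ = y⁻¹ * y2⁻¹ := by rw [hmul y2 y⁻¹, h2, hinv y, h1]
  have e3 : k * (y⁻¹ * y2⁻¹) * k⁻¹ = y2⁻¹ * y := by rw [hmul y⁻¹ y2⁻¹, hinv y, h1, hinv y2, h2, inv_inv]
  have f2 : k * y⁻¹ * k⁻¹ = y2⁻¹ := by rw [hinv y, h1]
  interval_cases m <;> interval_cases n
  · exact absurd ⟨rfl, rfl⟩ hmn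
  · -- (0,1): y2
    refine ⟨1, Or.inl ?_⟩
    rw [pow_zero, one_mul, pow_one, pow_one, h1]
  · -- (0,2): y2⁻¹
    refine ⟨3, Or.inl ?_⟩
    rw [hc3 y, h1, h2, f2, pow_zero, one_mul, hy2sq]
  · -- (1,0): y
    refine ⟨0, Or.inl ?_⟩
    simp
  · -- (1,1): y y2
    refine ⟨0, Or.inr ?_⟩
    simp
  · -- (1,2): y y2⁻¹
    refine ⟨3, Or.inr ?_⟩
    rw [hc3 (y * y2), e1, e2, e3, pow_one, hy2sq, hci2]
  · -- (2,0): y⁻¹
    refine ⟨2, Or.inl ?_⟩
    rw [hc2 y, h1, h2, pow_zero, mul_one, hysq]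
  · -- (2,1): y⁻¹ y2
    refine ⟨1, Or.inr ?_⟩
    rw [pow_one, pow_one, e1, hysq, hci1]
  · -- (2,2): y⁻¹ y2⁻¹
    refine ⟨2, Or.inr ?_⟩
    rw [hc2 (y * y2), e1, e2, hysq, hy2sq]

theorem orbit_decomp (hS : Std G) (h3 : St3 G) {P : Sylow 3 G} {k t : G} (hC : Ctx P k t) (y : G) (hy : y ∈ (P : Subgroup G)) (hy1 : y ≠ 1)
    (x : G) (hx : x ∈ (P : Subgroup G)) (hx1 : x ≠ 1) :
    ∃ i : ℕ, x = k ^ i * y * (k ^ i)⁻¹ ∨ x = k ^ i * (y * (k * y * k⁻¹)) * (k ^ i)⁻¹ := by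
  haveI := hS.finite
  haveI : Fact (Nat.Prime 3) := ⟨by norm_num⟩
  have hPc : Nat.card (P : Subgroup G) = 9 := a7rb08_cardP hS P
  have hkN : k ∈ normalizer ((P : Subgroup G) : Set G) := hC.hk
  have hconjP : ∀ a ∈ (P : Subgroup G), k * a * k⁻¹ ∈ (P : Subgroup G) := fun a ha =>
    (mem_normalizer_iff.mp hkN a).mp ha
  have hy2P : k * y * k⁻¹ ∈ (P : Subgroup G) := hconjP y hy
  have hcomm : ∀ a ∈ (P : Subgroup G), ∀ b ∈ (P : Subgroup G), a * b = b * a := by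
    intro a ha b hb
    have hcP : centralizer ((P : Subgroup G) : Set G) = (P : Subgroup G) := h3.centP P
    have : a ∈ centralizer ((P : Subgroup G) : Set G) := by rw [hcP]; exact ha
    exact (mem_centralizer_iff.mp this b hb).symm
  have hy3 : orderOf y = 3 := orderOf_eq_prime (h3.expP P y hy) hy1
  have hy21 : k * y * k⁻¹ ≠ 1 := by
    intro h
    apply hy1
    have : y = k⁻¹ * (k * y * k⁻¹) * k := by group
    rw [this, h]
    group
  have hy23 : orderOf (k * y * k⁻¹) = 3 := orderOf_eq_prime (h3.expP P _ hy2P) hy21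
  have hnot : k * y * k⁻¹ ∉ zpowers y := hC.nofix y hy hy1
  obtain ⟨m, n, hm, hn, hxe⟩ := a7rc3_span (P : Subgroup G) hPc y (k * y * k⁻¹) hy hy2P hy3 hy23 hnot x hx
  have hB : k * (k * y * k⁻¹) * k⁻¹ = y⁻¹ := by
    rw [← hC.inv y hy, pow_two, mul_inv_rev]
    simp only [mul_assoc]
  have hmn : ¬ (m = 0 ∧ n = 0) := by
    rintro ⟨rfl, rfl⟩
    apply hx1
    rw [hxe]
    simp
  rw [hxe]
  exact a7rc3_cases k y (k * y * k⁻¹) rfl hB (h3.expP P y hy) (h3.expP P _ hy2P)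
    (hcomm y hy _ hy2P) m n hm hn hmn

end Cfsg.Agent.Lib.helper8.A7R
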