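import Mathlib
import Cfsg.Agent.Lib.helper8.A7R.Defs

set_option autoImplicit false
set_option linter.unusedVariables false

/-!
# Project A7R (designer helper8), row F1 (`subgroup_exists`): `N ∪ N t N` is a subgroup.
-/

namespace Cfsg.Agent.Lib.helper8.A7R

open Subgroup

universe u

variable {G : Type u} [Group G]

/-- an element of order 2 is its own inverse -/
theorem a7rf1_inv_eq {t : G} (ht2 : orderOf t = 2) : t⁻¹ = t := by
  have h : t * t = 1 := by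
    rw [← pow_two, ← ht2]
    exact pow_orderOf_eq_one t
  exact inv_eq_of_mul_eq_one_right h

/-- `t k^i t⁻¹ = (k⁻¹)^i` -/
theorem a7rf1_conj_pow {k t : G} (htk : t * k * t⁻¹ = k⁻¹) (i : ℕ) :
    t * k ^ i * t⁻¹ = (k⁻¹) ^ i := by
  induction i with
  | zero => simp
  | succ i ih =>
    rw [pow_succ, pow_succ, ← ih, ← htk]
    group

/-- `t n t ∈ N ∪ N t N` for `n ∈ N` -/
theorem a7rf1_key {P : Sylow 3 G} {k t : G} (hC : Ctx P k t)
    (hcl : ∀ x ∈ (P : Subgroup G), t * x * t⁻¹ ∈ Nz (P : Subgroup G) ∨ InD P t (t * x * t⁻¹))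
    (n : G) (hn : n ∈ Nz (P : Subgroup G)) :
    t * n * t ∈ Nz (P : Subgroup G) ∨ InD P t (t * n * t) := by
  have hti : t⁻¹ = t := a7rf1_inv_eq hC.ht2
  obtain ⟨x, hx, i, rfl⟩ := hC.prod n hn
  have hki : (k⁻¹) ^ i ∈ Nz (P : Subgroup G) := pow_mem (inv_mem hC.hk) i
  have he : t * (x * k ^ i) * t = (t * x * t⁻¹) * (k⁻¹) ^ i := by
    rw [← a7rf1_conj_pow hC.htk i]
    have h2 : (t * x * t⁻¹) * (t * k ^ i * t⁻¹) = t * (x * k ^ i) * t⁻¹ := by group
    rw [h2, hti]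
  rw [he]
  rcases hcl x hx with h | ⟨a, ha, b, hb, hab⟩
  · exact Or.inl (mul_mem h hki)
  · refine Or.inr ⟨a, ha, b * (k⁻¹) ^ i, mul_mem hb hki, ?_⟩
    rw [hab]
    group

theorem subgroup_exists {P : Sylow 3 G} {k t : G} (hC : Ctx P k t)
    (hcl : ∀ x ∈ (P : Subgroup G), t * x * t⁻¹ ∈ Nz (P : Subgroup G) ∨ InD P t (t * x * t⁻¹)) :
    ∃ H : Subgroup G, ∀ g : G, g ∈ H ↔ (g ∈ Nz (P : Subgroup G) ∨ InD P t g) := by
  have hti : t⁻¹ = t := a7rf1_inv_eq hC.ht2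
  refine ⟨{ carrier := {g | g ∈ Nz (P : Subgroup G) ∨ InD P t g}
            mul_mem' := ?_
            one_mem' := Or.inl (one_mem _)
            inv_mem' := ?_ }, fun g => Iff.rfl⟩
  · intro a b ha hb
    rcases ha with ha | ⟨n1, hn1, n2, hn2, rfl⟩
    · rcases hb with hb | ⟨n3, hn3, n4, hn4, rfl⟩
      · exact Or.inl (mul_mem ha hb)
      · exact Or.inr ⟨a * n3, mul_mem ha hn3, n4, hn4, by group⟩
    · rcases hb with hb | ⟨n3, hn3, n4, hn4, rfl⟩
      · exact Or.inr ⟨n1, hn1, n2 * b, mul_mem hn2 hb, by group⟩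
      · have he : n1 * t * n2 * (n3 * t * n4) = n1 * (t * (n2 * n3) * t) * n4 := by group
        show n1 * t * n2 * (n3 * t * n4) ∈ Nz (P : Subgroup G) ∨ InD P t (n1 * t * n2 * (n3 * t * n4))
        rw [he]
        rcases a7rf1_key hC hcl (n2 * n3) (mul_mem hn2 hn3) with h | ⟨c, hc, d, hd, hcd⟩
        · exact Or.inl (mul_mem (mul_mem hn1 h) hn4)
        · refine Or.inr ⟨n1 * c, mul_mem hn1 hc, d * n4, mul_mem hd hn4, ?_⟩
          rw [hcd]
          group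
  · intro a ha
    rcases ha with ha | ⟨n1, hn1, n2, hn2, rfl⟩
    · exact Or.inl (inv_mem ha)
    · refine Or.inr ⟨n2⁻¹, inv_mem hn2, n1⁻¹, inv_mem hn1, ?_⟩
      have : (n1 * t * n2)⁻¹ = n2⁻¹ * t⁻¹ * n1⁻¹ := by group
      rw [this, hti]

end Cfsg.Agent.Lib.helper8.A7R
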