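import Mathlib
import Cfsg.Prelude.Def_GeometricClasses
import Cfsg.Agent.Lib.Helper27.ASC.Defs
import Cfsg.Agent.Lib.helper23.ASCO.Defs
import Cfsg.Agent.Lib.Lead.Reindex
import Cfsg.Agent.Lib.Helper28.OGenQ
import Cfsg.Agent.Lib.Helper28.SubF

/-!
# Project ASCO, piece PRC5 (backup copy, main theorem renamed `ascoprc5_omega_not_le_subfield_alt`) : `Ω` lies in no proper subfield group
-/

set_option autoImplicit false
set_option linter.unusedVariables false
set_option linter.unusedSectionVars false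

namespace Cfsg.Agent.Lib.helper23.ASCO

open Cfsg Cfsg.Geo Cfsg.Agent.Lib.Helper27.ASC
open scoped MatrixGroups Matrix

variable {n : ℕ} {F : Type*} [Field F] [Fintype F]

omit [Fintype F] in
/-- membership in a subfield group, unpacked in matrices -/
theorem ascoprc5_mem_sub {F₀ : Subfield F} {P g : GL (Fin n) F} (hg : g ∈ subfieldSubgroup F₀ P) :
    ∃ (lam : F) (M : Matrix (Fin n) (Fin n) F), lam ≠ 0 ∧ (∀ i j, M i j ∈ F₀) ∧
      ((P⁻¹ : GL (Fin n) F) : Matrix (Fin n) (Fin n) F) * (g : Matrix (Fin n) (Fin n) F) *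
        (P : Matrix (Fin n) (Fin n) F) = lam • M := by
  unfold subfieldSubgroup at hg
  rw [Subgroup.mem_map] at hg
  obtain ⟨x, hx, rfl⟩ := hg
  have := Cfsg.Agent.Lib.Helper28.SubF.scalars_normal (n := n) (F := F)
  rw [Subgroup.mem_sup_of_normal_right] at hx
  obtain ⟨h, ⟨g₀, rfl⟩, z, hz, rfl⟩ := hx
  obtain ⟨c, hc⟩ := (mem_scalars_iff z).mp hz
  refine ⟨c, (g₀ : Matrix (Fin n) (Fin n) F₀).map (F₀.subtype : F₀ →+* F), c.ne_zero,
    fun i j => (g₀.1 i j).2, ?_⟩
  have h1 : P⁻¹ * ((MulAut.conj P).toMonoidHom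
      (Matrix.GeneralLinearGroup.map (F₀.subtype : F₀ →+* F) g₀ * z)) * P =
      Matrix.GeneralLinearGroup.map (F₀.subtype : F₀ →+* F) g₀ * z := by
    simp only [MulEquiv.coe_toMonoidHom, MulAut.conj_apply]
    group
  have h2 := congrArg (fun y : GL (Fin n) F => (y : Matrix (Fin n) (Fin n) F)) h1
  simp only [Units.val_mul] at h2
  rw [h2, hc, Matrix.mul_smul, Matrix.mul_one]
  rfl

omit [Fintype F] in
/-- a double root of a matrix with entries in `F₀` lies in `F₀` -/
theorem ascoprc5_root_mem (F₀ : Subfield F) (h2 : (2 : F) ≠ 0) (hn : 0 < n)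
    (M : Matrix (Fin n) (Fin n) F) (hM : ∀ i j, M i j ∈ F₀) (a : F)
    (h : (M - a • (1 : Matrix (Fin n) (Fin n) F)) * (M - a • (1 : Matrix (Fin n) (Fin n) F)) = 0) :
    a ∈ F₀ := by
  classical
  have hMM : M * M = (2 * a) • M - (a * a) • (1 : Matrix (Fin n) (Fin n) F) := by
    have h1 : (M - a • (1 : Matrix (Fin n) (Fin n) F)) * (M - a • (1 : Matrix (Fin n) (Fin n) F)) =
        M * M - (2 * a) • M + (a * a) • (1 : Matrix (Fin n) (Fin n) F) := by
      rw [Matrix.sub_mul, Matrix.mul_sub, Matrix.mul_sub, Matrix.mul_smul, Matrix.smul_mul,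
        Matrix.smul_mul, Matrix.mul_smul, Matrix.mul_one, Matrix.one_mul, Matrix.one_mul, smul_smul,
        two_mul, add_smul]
      abel
    rw [h1] at h
    have h3 : M * M = (2 * a) • M - (a * a) • (1 : Matrix (Fin n) (Fin n) F) + 0 := by
      rw [← h]; abel
    rw [h3, add_zero]
  have hMMmem : ∀ i j, (M * M) i j ∈ F₀ := by
    intro i j
    rw [Matrix.mul_apply]
    exact Subfield.sum_mem _ fun k _ => F₀.mul_mem (hM i k) (hM k j)
  have h2mem : (2 : F) ∈ F₀ := by
    have : (2 : F) = 1 + 1 := by norm_num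
    rw [this]
    exact F₀.add_mem F₀.one_mem F₀.one_mem
  by_cases hoff : ∃ i j, i ≠ j ∧ M i j ≠ 0
  · obtain ⟨i, j, hij, hMij⟩ := hoff
    have h1 := congrFun (congrFun hMM i) j
    rw [Matrix.sub_apply, Matrix.smul_apply, Matrix.smul_apply, Matrix.one_apply_ne hij, smul_eq_mul,
      smul_eq_mul, mul_zero, sub_zero] at h1
    have h3 : a = (M * M) i j * (2 * M i j)⁻¹ := by
      rw [h1]
      field_simp
    rw [h3]
    exact F₀.mul_mem (hMMmem i j) (F₀.inv_mem (F₀.mul_mem h2mem (hM i j)))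
  · push Not at hoff
    let i0 : Fin n := ⟨0, hn⟩
    have h1 := congrFun (congrFun hMM i0) i0
    rw [Matrix.sub_apply, Matrix.smul_apply, Matrix.smul_apply, Matrix.one_apply_eq, smul_eq_mul,
      smul_eq_mul, mul_one, Matrix.mul_apply, Finset.sum_eq_single i0] at h1
    · have h3 : (M i0 i0 - a) * (M i0 i0 - a) = 0 := by
        linear_combination h1
      have h4 : M i0 i0 - a = 0 := by
        rcases mul_eq_zero.mp h3 with h | h <;> exact h
      have h5 : a = M i0 i0 := by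
        rw [sub_eq_zero] at h4; exact h4.symm
      rw [h5]
      exact hM i0 i0
    · intro k _ hk
      rw [hoff i0 k (Ne.symm hk), zero_mul]
    · intro hh; exact absurd (Finset.mem_univ _) hh

omit [Fintype F] in
/-- the key step: if `1 + c N'` (`N'² = 0`) is a scalar multiple of a matrix over `F₀`, then `c N'` has entries in `F₀` -/
theorem ascoprc5_key (F₀ : Subfield F) (h2 : (2 : F) ≠ 0) (hn : 0 < n)
    (N' : Matrix (Fin n) (Fin n) F) (hNN : N' * N' = 0) (c lam : F) (hlam : lam ≠ 0)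
    (M : Matrix (Fin n) (Fin n) F) (hM : ∀ i j, M i j ∈ F₀)
    (heq : (1 : Matrix (Fin n) (Fin n) F) + c • N' = lam • M) : ∀ i j, (c • N') i j ∈ F₀ := by
  classical
  have hMeq : M = lam⁻¹ • ((1 : Matrix (Fin n) (Fin n) F) + c • N') := by
    rw [heq, smul_smul, inv_mul_cancel₀ hlam, one_smul]
  have hsub : M - lam⁻¹ • (1 : Matrix (Fin n) (Fin n) F) = (lam⁻¹ * c) • N' := by
    rw [hMeq, smul_add, smul_smul]
    abel
  have hsq : (M - lam⁻¹ • (1 : Matrix (Fin n) (Fin n) F)) *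
      (M - lam⁻¹ • (1 : Matrix (Fin n) (Fin n) F)) = 0 := by
    rw [hsub, Matrix.smul_mul, Matrix.mul_smul, hNN, smul_zero, smul_zero]
  have ha : lam⁻¹ ∈ F₀ := ascoprc5_root_mem F₀ h2 hn M hM lam⁻¹ hsq
  have hlamF : lam ∈ F₀ := by
    have := F₀.inv_mem ha
    rwa [inv_inv] at this
  intro i j
  have h1 : (c • N') i j = lam * M i j - (1 : Matrix (Fin n) (Fin n) F) i j := by
    have := congrFun (congrFun heq i) j
    rw [Matrix.add_apply, Matrix.smul_apply lam, smul_eq_mul] at this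
    rw [← this]; ring
  rw [h1]
  apply F₀.sub_mem (F₀.mul_mem hlamF (hM i j))
  by_cases hij : i = j
  · rw [hij, Matrix.one_apply_eq]; exact F₀.one_mem
  · rw [Matrix.one_apply_ne hij]; exact F₀.zero_mem

open Cfsg.Agent.Lib.Helper28.OGenQ Cfsg.Agent.Lib.Helper28.OQ Cfsg.Agent.Lib.Helper28.OMax
  Cfsg.Agent.Lib.Helper28.OMax2 Cfsg.Agent.Lib.Helper28.OGen Cfsg.Agent.Lib.Helper28.HForm
  Cfsg.Agent.S0795 in
/-- PRC5 (second copy, renamed: the verbatim `omega_not_le_subfield` is in `Helper11.ASCOPRC5`) :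
`Ω` lies in no proper subfield group. -/
theorem ascoprc5_omega_not_le_subfield_alt (hn : 7 ≤ n) (h2 : (2 : F) ≠ 0) (Q : QuadraticForm F (Fin n → F))
    (hQ : (QuadraticMap.polarBilin Q).Nondegenerate) (F₀ : Subfield F) (h0 : F₀ ≠ ⊤)
    (P : GL (Fin n) F) : ¬ omegaGL (⇑Q) ≤ subfieldSubgroup F₀ P := by
  classical
  intro hle
  have hq := qf_of_quad Q hQ
  have hf := hq.sym
  have vf := vfacts_quad hn Q hQ
  have sg := sgGroupQ_quad hn Q hQ
  obtain ⟨s, hs, hs0⟩ := vf.sing
  obtain ⟨z, hz, hzs⟩ := hyp_partner_q hq s hs0 hs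
  obtain ⟨a, a', ha, ha', haz, has, ha'z, ha's, ha'a⟩ :=
    vf.hyp_perp z s hz hs (by rw [hzs]; exact one_ne_zero)
  have hsa : pf Q s a = 0 := by rw [s_symm hf]; exact has
  have hex : ∀ c : F, ∃ t : GL (Fin n) F, IsSg (pf Q) t s a c := fun c => sg.ex s a c hs ha hsa
  choose t ht using hex
  have htΩ : ∀ c, t c ∈ omegaGL (⇑Q) := fun c => sg.sg (t c) s a c hs ha hsa (ht c)
  set N : Matrix (Fin n) (Fin n) F := (t 1 : Matrix (Fin n) (Fin n) F) - 1 with hNdef
  have hN : ∀ x, N *ᵥ x = pf Q s x • a - pf Q a x • s := by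
    intro x
    rw [hNdef, Matrix.sub_mulVec, Matrix.one_mulVec, ht 1 x]
    unfold Tv
    rw [one_smul]
    abel
  have htc : ∀ c, (t c : Matrix (Fin n) (Fin n) F) = 1 + c • N := by
    intro c
    rw [Matrix.ext_iff_mulVec]
    intro x
    rw [ht c x, Matrix.add_mulVec, Matrix.one_mulVec, Matrix.smul_mulVec, hN]
    rfl
  have hss : pf Q s s = 0 := f_sing hq hs
  have haa : pf Q a a = 0 := f_sing hq ha
  have has' : pf Q a s = 0 := has
  have hNN : N * N = 0 := by
    rw [Matrix.ext_iff_mulVec]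
    intro x
    rw [← Matrix.mulVec_mulVec, hN x, hN, Matrix.zero_mulVec]
    rw [f_sub_right hf, f_sub_right hf, s_smul_right hf, s_smul_right hf, s_smul_right hf,
      s_smul_right hf, hsa, hss, haa, has']
    simp
  have hN0 : N ≠ 0 := by
    intro h
    have h1 := hN a'
    rw [h, Matrix.zero_mulVec] at h1
    have h3 : pf Q s a' = 0 := by rw [s_symm hf]; exact ha's
    have h4 : pf Q a a' = 1 := by rw [s_symm hf]; exact ha'a
    rw [h3, h4, zero_smul, one_smul, zero_sub] at h1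
    apply hs0
    have := congrArg Neg.neg h1
    simpa using this.symm
  -- conjugate by `P`
  set Pm : Matrix (Fin n) (Fin n) F := (P : Matrix (Fin n) (Fin n) F) with hPm
  set Pi' : Matrix (Fin n) (Fin n) F := ((P⁻¹ : GL (Fin n) F) : Matrix (Fin n) (Fin n) F) with hPi
  have hmi : Pm * Pi' = 1 := by rw [hPm, hPi, ← Units.val_mul, mul_inv_cancel]; rfl
  have him : Pi' * Pm = 1 := by rw [hPm, hPi, ← Units.val_mul, inv_mul_cancel]; rfl
  set N' : Matrix (Fin n) (Fin n) F := Pi' * N * Pm with hN'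
  have hN'N' : N' * N' = 0 := by
    rw [hN']
    have : Pi' * N * Pm * (Pi' * N * Pm) = Pi' * (N * (Pm * Pi') * N) * Pm := by
      simp only [Matrix.mul_assoc]
    rw [this, hmi, Matrix.mul_one, hNN, Matrix.mul_zero, Matrix.zero_mul]
  have hN'0 : N' ≠ 0 := by
    intro h
    apply hN0
    have : N = Pm * N' * Pi' := by
      rw [hN']
      have : Pm * (Pi' * N * Pm) * Pi' = (Pm * Pi') * N * (Pm * Pi') := by
        simp only [Matrix.mul_assoc]
      rw [this, hmi, Matrix.one_mul, Matrix.mul_one]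
    rw [this, h, Matrix.mul_zero, Matrix.zero_mul]
  have hn0 : 0 < n := by omega
  have hkey : ∀ c : F, ∀ i j, (c • N') i j ∈ F₀ := by
    intro c
    obtain ⟨lam, M, hlam, hM, heq⟩ := ascoprc5_mem_sub (hle (htΩ c))
    rw [htc c, Matrix.mul_add, Matrix.add_mul, Matrix.mul_one, him, Matrix.mul_smul, Matrix.smul_mul,
      ← hN'] at heq
    exact ascoprc5_key F₀ h2 hn0 N' hN'N' c lam hlam M hM heq
  obtain ⟨i, j, hij⟩ : ∃ i j, N' i j ≠ 0 := by
    by_contra hcon
    push Not at hcon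
    apply hN'0
    ext i j
    exact hcon i j
  apply h0
  rw [eq_top_iff]
  intro x _
  have := hkey (x / N' i j) i j
  rw [Matrix.smul_apply, smul_eq_mul, div_mul_cancel₀ x hij] at this
  exact this

end Cfsg.Agent.Lib.helper23.ASCO
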