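import Mathlib
import Cfsg.Prelude.Def_GeometricClasses
import Cfsg.Agent.Lib.Helper27.ASC.Defs
import Cfsg.Agent.Lib.helper23.ASCO.Defs
import Cfsg.Agent.Lib.Lead.Reindex
import Cfsg.Agent.Lib.Helper27.ASCOQRATcore
import Cfsg.Agent.Lib.Helper16.ASCOH90
import Cfsg.Agent.Lib.helper7.ASCOSQ
import Cfsg.Agent.Lib.Helper20.ASCOSCHURF

/-!
# Project ASCO, piece QRAT : `quad_rational_of_realisable` (verbatim vs `ASCO/Skel`)
-/

set_option autoImplicit false
set_option linter.unusedVariables false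
set_option linter.unusedSectionVars false

namespace Cfsg.Agent.Lib.helper23.ASCO

open Cfsg Cfsg.Geo Cfsg.Agent.Lib.Helper27.ASC
open scoped MatrixGroups Matrix

variable {n : ℕ} {F : Type*} [Field F] [Fintype F]

/-- QRAT : an absolutely irreducible normal subgroup realisable over a proper subfield puts `H` into a
subfield group whose structure carries `Q`. -/
theorem quad_rational_of_realisable (hodd : Odd n) (h2 : (2 : F) ≠ 0) (Q : QuadraticForm F (Fin n → F))
    (hQ : (QuadraticMap.polarBilin Q).Nondegenerate) (hG : GramPrime (⇑Q))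
    {H P : Subgroup (GL (Fin n) F)} (hP : NormalIn P H) (hA : AbsIrr P)
    (hHO : H ≤ isometryGroup F (⇑Q)) (F₀ : Subfield F) (h0 : F₀ ≠ ⊤)
    (hR : RealisableOver F₀ (matrixSet P)) :
    ∃ (F₁ : Subfield F) (ℓ : ℕ) (B : GL (Fin n) F), ℓ.Prime ∧ Fintype.card F = Nat.card F₁ ^ ℓ ∧
      IsQuadFormRationalStructure (⇑Q) F₁ B ∧ H ≤ subfieldSubgroup F₁ B :=
  ascoqrat_core (fun hS hu A A' hA h h' => invariant_gram_unique hS hu A A' hA h h')
    (fun F₁ ℓ hc c hc0 hN => hilbert90_subfield F₁ ℓ hc c hc0 hN)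
    (fun hF F₁ ℓ hℓ hc μ hμ => square_class_odd hF F₁ ℓ hℓ hc μ hμ)
    (fun hF F₁ hc x hx => square_of_mem_index_two hF F₁ hc x hx)
    hodd h2 Q hQ hG hP hA hHO F₀ h0 hR

end Cfsg.Agent.Lib.helper23.ASCO
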