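import Mathlib
import Cfsg.Prelude.Def_GeometricClasses
import Cfsg.Agent.Lib.Helper27.ASC.Defs
import Cfsg.Agent.Lib.Helper19.ASG.Defs
import Cfsg.Agent.Lib.Helper18.ASP.Defs
import Cfsg.Agent.Lib.Helper26.ASGD1.Defs
import Cfsg.Agent.Lib.Helper19.ASGD1GRP
import Cfsg.Agent.Lib.Helper18.ASPD2S
import Cfsg.Agent.Lib.Helper13.ASPD1SQ
import Cfsg.Agent.Lib.Helper13.ASPD1ST
import Cfsg.Agent.Lib.Helper11.ASPD1CARD
import Cfsg.Agent.Lib.Helper26.ASPD1MINUS
import Cfsg.Agent.Lib.Helper26.ASPD1REAL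

set_option autoImplicit false
set_option linter.unusedVariables false
set_option linter.unusedSectionVars false

/-!
# Project ASP, block D1 : assembly of `sp_nilp_case` (sub-leader helper27)
-/

namespace Cfsg.Agent.Lib.Helper18.ASP

open Cfsg Cfsg.Geo Cfsg.Agent.Lib.Helper27.ASC Cfsg.Agent.Lib.Helper19.ASG Cfsg.Agent.Lib.Lead.ASCU
open scoped MatrixGroups Matrix commutatorElement

variable {n : ℕ} {F : Type*} [Field F] [Fintype F]

/-- the prime field is a proper subfield unless `|F|` is prime -/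
theorem aspd1asm_bot_ne_top (hp : ¬ (Fintype.card F).Prime) : (⊥ : Subfield F) ≠ ⊤ := by
  intro h
  apply hp
  obtain ⟨p, hchar⟩ := CharP.exists F
  have hcharF : CharP F p := hchar
  have hpp : p.Prime := by
    rcases CharP.char_is_prime_or_zero F p with h1 | h1
    · exact h1
    · exfalso
      subst h1
      have : CharZero F := CharP.charP_to_charZero F
      exact not_finite F
  have : Fact p.Prime := ⟨hpp⟩
  have h1 : Nat.card (⊥ : Subfield F) = p := Subfield.card_bot F p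
  have h2 : Nat.card (⊤ : Subfield F) = Fintype.card F := by
    rw [Fintype.card_eq_nat_card]
    exact Nat.card_congr (Subfield.topEquiv (K := F)).toEquiv
  rw [← h2, ← h, h1]
  exact hpp

/-- `2 ≠ 0` gives `-1 ≠ 1` in the units and an odd field order -/
theorem aspd1asm_of_two_ne_zero (h2 : (2 : F) ≠ 0) : Odd (Fintype.card F) ∧ (-1 : Fˣ) ≠ 1 := by
  constructor
  · rw [← Nat.not_even_iff_odd]
    intro he
    have h5 : ringChar F = 2 := FiniteField.even_card_iff_char_two.mpr (Nat.even_iff.mp he)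
    have : CharP F 2 := by
      have := ringChar.charP F
      rwa [h5] at this
    exact h2 (CharP.cast_eq_zero F 2)
  · intro h
    have h3 : ((-1 : Fˣ) : F) = ((1 : Fˣ) : F) := by rw [h]
    have h4 : (-1 : F) = 1 := by simpa using h3
    apply h2
    calc (2 : F) = 1 - (-1) := by ring
      _ = 0 := by rw [h4]; ring

/-- D1-ODD (own copy): `|F|` is odd and `-1 ∈ N` -/
theorem aspd1asm_odd (hn : 2 ≤ n) (f : (Fin n → F) → (Fin n → F) → F) (hf : IsSymplecticForm f)
    {N : Subgroup (GL (Fin n) F)} (hNI : N ≤ isoGL f) (hA : AbsIrr N) (hab : ⁅N, N⁆ ≤ scalars (Fin n) F) :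
    Odd (Fintype.card F) ∧ (d1scal (-1 : Fˣ) : GL (Fin n) F) ∈ N := by
  have h2 : (2 : F) ≠ 0 := aspd1minus_two_ne_zero hn f hf hNI hA hab
  refine ⟨(aspd1asm_of_two_ne_zero h2).1, ?_⟩
  obtain ⟨x, hx, y, hy, hxy⟩ := d1_nonab hn hA
  have hcN : ⁅x, y⁆ ∈ N := N.mul_mem (N.mul_mem (N.mul_mem hx hy) (N.inv_mem hx)) (N.inv_mem hy)
  obtain ⟨ω, hω⟩ := (mem_scalars_iff_d1scal _).mp (hab (Subgroup.commutator_mem_commutator hx hy))
  have hne : ⁅x, y⁆ ≠ 1 := fun h => hxy (commutatorElement_eq_one_iff_mul_comm.mp h)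
  rcases aspd1sq_pm (by omega) f hf ω (hω ▸ hNI hcN) with rfl | rfl
  · exact absurd (by rw [hω, d1scal_one]) hne
  · rw [← hω]
    exact hcN

/-- SP-D1 -/
theorem sp_nilp_case {m : ℕ} (hm : 2 ≤ m) (hn : n = 2 * m) (f : (Fin n → F) → (Fin n → F) → F)
    (hf : IsSymplecticForm f) {H N : Subgroup (GL (Fin n) F)} (hI : H ≤ isoGL f) (hH : Irr H)
    (hD : AllNormalAbsIrr H) (hN : MinNonscalar N H) (hab : ⁅N, N⁆ ≤ scalars (Fin n) F) :
    InSp m f H := by
  have hn2 : 2 ≤ n := by omega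
  have hn0 : 0 < n := by omega
  have hA : AbsIrr N := (hD N hN.1).resolve_left hN.2.1
  have hNI : N ≤ isoGL f := hN.1.1.trans hI
  obtain ⟨hodd, hm1⟩ := aspd1asm_odd hn2 f hf hNI hA hab
  have hpm : ∀ c : Fˣ, (d1scal c : GL (Fin n) F) ∈ N → c = 1 ∨ c = -1 :=
    fun c hc => aspd1sq_pm hn0 f hf c (hNI hc)
  by_cases hp : (Fintype.card F).Prime
  · -- class 6
    have hsq := spd1_sq hn2 f hf hNI hA hab
    have hST := spd1_sympType hn2 hD hN.1 hA hsq
    have hneg : (-1 : Fˣ) ≠ 1 :=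
      (aspd1asm_of_two_ne_zero (aspd1minus_two_ne_zero hn2 f hf hNI hA hab)).2
    obtain ⟨k, hk, hcard, hz⟩ := spd1_card hn2 hA hab hneg hm1 hpm hST.pGroup
    have hminus := spd1_minus hn2 f hf hNI hA hab k hk
    have hsim : N ≤ similarityGroup f := by
      intro g hg
      exact ⟨1, fun u v => by rw [(mem_isoGL_iff f g).mp (hNI hg) u v]; simp⟩
    have hnorm : H ≤ subgroupNormalizer N := by
      intro h hh
      rw [subgroupNormalizer, Subgroup.mem_normalizer_iff]
      intro x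
      constructor
      · intro hx
        exact hN.1.2 h hh x hx
      · intro hx
        have h1 := hN.1.2 h⁻¹ (H.inv_mem hh) _ hx
        simpa [mul_assoc] using h1
    exact inSp_of_sympl hI N hST hA hsim hp hodd rfl hcard hz hminus hnorm
  · -- class 5
    exact sp_class_of_realisable f hf hI hN.1 hA ⊥ (aspd1asm_bot_ne_top hp) (spd1_real hA hab hpm ⊥)

end Cfsg.Agent.Lib.Helper18.ASP
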