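import Mathlib
import Cfsg.Prelude.Def_GeometricClasses
import Cfsg.Agent.Lib.Helper27.ASC.Defs
import Cfsg.Agent.Lib.Helper19.ASG.Defs
import Cfsg.Agent.Lib.Helper26.ASGD1.Defs
import Cfsg.Agent.Lib.Helper19.ASU.Defs
import Cfsg.Agent.Lib.Helper19.ASUADJ
import Cfsg.Agent.Lib.Helper26.ASUC.Defs
import Cfsg.Agent.Lib.Helper19.ASU33Defs
import Cfsg.Agent.Lib.Helper27.ASUC33NORMcore
import Cfsg.Agent.Lib.helper15.ASUC33REL
import Cfsg.Agent.Lib.helper15.ASUC33HEIS

set_option autoImplicit false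
set_option linter.unusedVariables false
set_option linter.unusedSectionVars false

/-!
# Project ASU, block C, case C-33, piece 33-NORM : a unitary `3 × 3` matrix over `F_4` normalises the Heisenberg set, VERBATIM
(`asuc33norm_core` + helper15's `u33_rel` + `u33_heis`).
-/

namespace Cfsg.Agent.Lib.Helper19.ASU

open Cfsg Cfsg.Geo Cfsg.Agent.Lib.Helper27.ASC Cfsg.Agent.Lib.Helper19.ASG
open scoped MatrixGroups Matrix Kronecker

variable {n : ℕ} {F : Type*} [Field F]

/-- 33-NORM -/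
theorem u33_normalises [Fintype F] (hF : Fintype.card F = 2 ^ 2) (ω : F) (hω : ω ^ 2 + ω + 1 = 0)
    (a : Matrix (Fin 3) (Fin 3) F) (ha : uadj 2 a * a = 1) :
    ∀ r ∈ u33Heis ω, a * r * uadj 2 a ∈ u33Heis ω := by
  have h2 : (2 : F) = 0 := Cfsg.Agent.Lib.Helper28.TT.two_eq_zero (by rw [hF]; norm_num)
  exact asuc33norm_core hF ω hω (u33_rel h2 ω hω) (u33_heis h2 ω hω) a ha

end Cfsg.Agent.Lib.Helper19.ASU
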