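import Mathlib
import Cfsg.Prelude.Def_GeometricClasses
import Cfsg.Agent.Lib.Helper27.ASC.Defs
import Cfsg.Agent.Lib.Helper19.ASG.Defs
import Cfsg.Agent.Lib.Helper26.ASGD1.Defs
import Cfsg.Agent.Lib.Helper19.ASU.Defs
import Cfsg.Agent.Lib.Helper26.ASGD1MAIN
import Cfsg.Agent.Lib.Helper20.ASUD1SIM
import Cfsg.Agent.Lib.Helper20.ASUD1MIN

set_option autoImplicit false
set_option linter.unusedVariables false
set_option linter.unusedSectionVars false

/-!
# Project ASU (helper19), block D1 (sub-leader helper27) : the assembly, with the subfield case (`u_subfield_case`, piece SUBF of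
helper10) as a HYPOTHESIS `hsub`.  The verbatim `u_nilp_case` is `Cfsg.Agent.Lib.Helper27.ASUD1MAIN` (this + SUBF).
-/

namespace Cfsg.Agent.Lib.Helper19.ASU

open Cfsg Cfsg.Geo Cfsg.Agent.Lib.Helper27.ASC Cfsg.Agent.Lib.Helper19.ASG
open scoped MatrixGroups Matrix

variable {n : ℕ} {F : Type*} [Field F] [Fintype F]

/-- a non-trivial `r`-th root of unity exists only for `r` different from the characteristic -/
theorem asud1main_ne_char {r : ℕ} (hr : r.Prime) (ω : Fˣ) (hω1 : ω ≠ 1) (hωr : ω ^ r = 1) (p : ℕ) [CharP F p] :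
    r ≠ p := by
  rintro rfl
  have : Fact r.Prime := ⟨hr⟩
  apply hω1
  have h1 : ((ω : F) - 1) ^ r = 0 := by
    rw [sub_pow_char, one_pow, ← Units.val_pow_eq_pow_val, hωr, Units.val_one, sub_self]
  have h2 : (ω : F) - 1 = 0 := pow_eq_zero_iff hr.ne_zero |>.mp h1
  exact Units.ext (by simpa [sub_eq_zero] using h2)

/-- a field with `q ^ 2` elements, `q` odd, has an element of order 4 -/
theorem asud1main_exists_four (q : ℕ) (hF : Fintype.card F = q ^ 2) (hq : Odd q) : ∃ i : Fˣ, orderOf i = 4 := by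
  classical
  obtain ⟨g, hg⟩ := IsCyclic.exists_ofOrder_eq_natCard (α := Fˣ)
  rw [Nat.card_eq_fintype_card, Fintype.card_units, hF] at hg
  obtain ⟨t, ht⟩ := hq
  have h4 : q ^ 2 - 1 = 4 * (t * (t + 1)) := by
    subst ht
    have : (2 * t + 1) ^ 2 = 4 * (t * (t + 1)) + 1 := by ring
    omega
  refine ⟨g ^ (t * (t + 1)), ?_⟩
  have hpos : 0 < t * (t + 1) := by
    rcases Nat.eq_zero_or_pos t with h | h
    · subst h
      subst ht
      simp at hF
      have := Fintype.one_lt_card (α := F)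
      omega
    · positivity
  rw [orderOf_pow_of_dvd hpos.ne' (by rw [hg, h4]; exact Dvd.intro_left 4 rfl), hg, h4]
  exact Nat.mul_div_cancel _ hpos

/-- minimality for the fourth roots of unity in a field with `q ^ 2` elements forces `e = 2` -/
theorem asud1main_min_four (q : ℕ) (hF : Fintype.card F = q ^ 2) {p e : ℕ} (hmin : IsMinimalFieldFor 4 p e F) :
    e = 2 ∧ 2 ≠ p := by
  obtain ⟨hp, hchar, hcard, hdvd, hmin'⟩ := hmin
  have hp2 : 2 ≠ p := by
    rintro rfl
    have h1 : 2 ∣ 2 ^ e - 1 := dvd_trans (by norm_num) hdvd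
    have h2 : 0 < e := by
      rcases Nat.eq_zero_or_pos e with h | h
      · subst h
        have := Fintype.one_lt_card (α := F)
        simp at hcard
        omega
      · exact h
    have h3 : 2 ∣ 2 ^ e := dvd_pow_self 2 h2.ne'
    have h4 : 1 ≤ 2 ^ e := Nat.one_le_two_pow
    omega
  refine ⟨?_, hp2⟩
  have hodd : Odd p := hp.eq_two_or_odd'.resolve_left (fun h => hp2 h.symm)
  have h4 : 4 ∣ p ^ 2 - 1 := by
    obtain ⟨t, rfl⟩ := hodd
    have : (2 * t + 1) ^ 2 - 1 = 4 * (t * (t + 1)) := by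
      have : (2 * t + 1) ^ 2 = 4 * (t * (t + 1)) + 1 := by ring
      omega
    rw [this]
    exact Dvd.intro _ rfl
  have he2 : e ≤ 2 := by
    by_contra hlt
    push Not at hlt
    exact hmin' 2 (by norm_num) hlt h4
  have he0 : e ≠ 0 := by
    rintro rfl
    have := Fintype.one_lt_card (α := F)
    simp at hcard
    omega
  have he1 : e ≠ 1 := by
    rintro rfl
    rw [hF, pow_one] at hcard
    have h5 : ¬ (q ^ 2).Prime := Nat.Prime.not_prime_pow (le_refl 2)
    rw [hcard] at h5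
    exact h5 hp
  omega

/-- U-D1 with the subfield case as a hypothesis -/
theorem asud1main_core (q : ℕ) (hF : Fintype.card F = q ^ 2) (hn : 3 ≤ n) {H N : Subgroup (GL (Fin n) F)}
    (hsub : ∀ (P : Subgroup (GL (Fin n) F)), D1NormBy P H → AbsIrr P → ∀ F₀ : Subfield F, F₀ ≠ ⊤ →
      UMult q F₀ P → RealisableOver F₀ (matrixSet P) → InU n q H)
    (hI : H ≤ GU n F q) (hH : Irr H) (hD : AllNormalAbsIrr H) (hN : MinNonscalar N H)
    (hab : ⁅N, N⁆ ≤ scalars (Fin n) F) : InU n q H := by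
  have hn2 : 2 ≤ n := by omega
  have hn0 : 0 < n := by omega
  have hA : AbsIrr N := (hD N hN.1).resolve_left hN.2.1
  have hnc := d1_nonab hn2 hA
  obtain ⟨r, hr, hel⟩ := d1_elab hN hab
  obtain ⟨ω, hω1, hωr⟩ := d1_root hnc hab hel
  have hpow := d1_pow hN hnc hab hr hel
  obtain ⟨R, hR, hRH, hRN⟩ := d1_core hN.1 hA hab hr hel hpow
  obtain ⟨hRsup, hHR⟩ := d1_normalIn_sup hRH
  have hRle : R ≤ N ⊔ scalars (Fin n) F := by rw [← hRN]; exact le_sup_left
  -- the invariants of `R`
  have hord := d1_order hn0 hR.absIrr hR.comm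
  obtain ⟨m, hm1, hnm, hcard⟩ := d1_arith hn2 hR hord
  obtain ⟨-, hcentcard⟩ := d1_cent hn0 hR
  have hexp := d1_exp hn2 hR
  have hcyc := d1_cyc hn2 hD hN.1 hRH hRle
  have hST : IsSymplecticTypeGroup r R := by
    refine ⟨hr, ?_, hcyc, hexp⟩
    intro y
    have hy : y ^ (r * Nat.gcd 2 r) = 1 := by
      apply Subtype.ext
      simpa using hR.pow y y.2
    rcases hr.eq_two_or_odd' with h2 | hodd
    · subst h2
      exact ⟨2, by simpa using hy⟩
    · have hg : Nat.gcd 2 r = 1 := (Nat.coprime_two_left.mpr hodd)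
      exact ⟨1, by simpa [hg] using hy⟩
  -- similitudes
  obtain ⟨hsim, hmult⟩ := ud1_sim hn0 q (hN.1.1.trans hI) hRle (r * Nat.gcd 2 r) hR.pow
  -- the common exit: the roots of unity lie in a proper subfield
  have hexit : ∀ F₀ : Subfield F, F₀ ≠ ⊤ → (∀ c : Fˣ, c ^ (r * Nat.gcd 2 r) = 1 → (c : F) ∈ F₀) → InU n q H := by
    intro F₀ h0 hroots
    exact hsub R hRH hR.absIrr F₀ h0 (hmult F₀ hroots) (d1_real hR F₀ hroots)
  rcases hr.eq_two_or_odd' with h2 | hodd
  · -- `r = 2`, `k = 4`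
    subst h2
    have hk : 2 * Nat.gcd 2 2 = 4 := by norm_num
    rw [hk] at hR hcentcard hexit
    -- `q` is odd
    have hqodd : Odd q := by
      rw [← Nat.not_even_iff_odd]
      intro he
      have hodd := asgd1main_odd_card ω hω1 hωr
      rw [hF] at hodd
      exact (Nat.not_even_iff_odd.mpr hodd) (Nat.even_pow.mpr ⟨he, by norm_num⟩)
    obtain ⟨i, hi⟩ := asud1main_exists_four q hF hqodd
    have hc4 : Nat.card (Subgroup.center R) = 4 := by
      rw [hcentcard]
      exact asgd1main_card_roots 4 (by norm_num) i hi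
    rcases ud1_min 4 i hi with ⟨p, e, hmin⟩ | ⟨F₀, h0, hroots⟩
    · obtain ⟨he, hp2⟩ := asud1main_min_four q hF hmin
      subst he
      refine inU_of_sympl_two hI R hST hR.absIrr hsim hp2 (by rw [hc4]; exact hmin) hc4 (k := m) ?_ hHR
      rw [hcard, hc4]
      ring
    · exact hexit F₀ h0 hroots
  · -- `r` odd, `k = r`
    have hg : Nat.gcd 2 r = 1 := (Nat.coprime_two_left.mpr hodd)
    have hk : r * Nat.gcd 2 r = r := by rw [hg, mul_one]
    rw [hk] at hR hcentcard hexit
    have : Fact r.Prime := ⟨hr⟩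
    have hωo : orderOf ω = r := orderOf_eq_prime hωr hω1
    have hcr : Nat.card (Subgroup.center R) = r := by
      rw [hcentcard]
      exact asgd1main_card_roots r hr.pos ω hωo
    rcases ud1_min r ω hωo with ⟨p, e, hmin⟩ | ⟨F₀, h0, hroots⟩
    · have hcharp : CharP F p := hmin.2.1
      have hrp : r ≠ p := asud1main_ne_char hr ω hω1 hωr p
      refine inU_of_sympl_odd hI R hST hR.absIrr hsim hrp (by rw [hcr]; exact hmin) hodd hcr hm1 ?_ hHR
      rw [hcard, hcr]
      ring
    · exact hexit F₀ h0 hroots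

end Cfsg.Agent.Lib.Helper19.ASU
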