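import Mathlib
import Cfsg.Prelude.Def_GeometricClasses
import Cfsg.Agent.Lib.Helper27.ASC.Defs
import Cfsg.Agent.Lib.Helper19.ASG.Defs
import Cfsg.Agent.Lib.Helper26.ASGD1.Defs
import Cfsg.Agent.Lib.Helper19.ASU.Defs
import Cfsg.Agent.Lib.Helper27.ASUD1MAINcore
import Cfsg.Agent.Lib.Helper10.ASUSUBF

/-!
# Project ASU (helper19), block D1 (sub-leader helper27) : `u_nilp_case`, VERBATIM
(the assembly `asud1main_core` + helper10's `u_subfield_case`).
-/

set_option autoImplicit false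
set_option linter.unusedVariables false
set_option linter.unusedSectionVars false

namespace Cfsg.Agent.Lib.Helper19.ASU

open Cfsg Cfsg.Geo Cfsg.Agent.Lib.Helper27.ASC Cfsg.Agent.Lib.Helper19.ASG
open scoped MatrixGroups Matrix

variable {n : ℕ} {F : Type*} [Field F] [Fintype F]

/-- U-D1 -/
theorem u_nilp_case (q : ℕ) (hF : Fintype.card F = q ^ 2) (hn : 3 ≤ n) {H N : Subgroup (GL (Fin n) F)}
    (hI : H ≤ GU n F q) (hH : Irr H) (hD : AllNormalAbsIrr H) (hN : MinNonscalar N H)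
    (hab : ⁅N, N⁆ ≤ scalars (Fin n) F) : InU n q H :=
  asud1main_core q hF hn (fun P hPH hA F₀ h0 hm hR => u_subfield_case q hF hn hI hPH hA F₀ h0 hm hR)
    hI hH hD hN hab

end Cfsg.Agent.Lib.Helper19.ASU
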