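import Mathlib
import Cfsg.Agent.Lib.helper6.AbCent.Defs
import Cfsg.Agent.Lib.helper2.AbCentB
import Cfsg.Agent.Lib.helper2.AbCentK
import Cfsg.Agent.Lib.helper17.AbCentT
import Cfsg.Agent.Lib.Helper21.AbCentF
import Cfsg.Agent.Lib.Helper22.AbCentQ
import Cfsg.Agent.Lib.Helper22.AbCentG

set_option autoImplicit false

namespace Cfsg.Agent.Lib.Helper27.AbCent
open Cfsg.Agent.Lib.helper6.AbCent
open Cfsg.Agent.Lib.helper2.AbCent (sylow_comm cent_invol mem_sylow_of_normalizes sylow_TI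
  odd_inf_normalizer three_le_nI mem_KK odd_card_KK NN_le_normalizer_KK mem_CC_decomp)
open Cfsg.Agent.Lib.helper17.AbCent (swap_count nI_eq)
open Cfsg.Agent.Lib.Helper21.AbCent (F_inverted F_trans)
open Cfsg.Agent.Lib.Helper22.AbCent (Setup.of_subgroup concl_card_invol concl_card_sylow_eq)

universe u
variable {G : Type u} [Group G] [Finite G]

/-- conjugating a generator into its cyclic group puts the element in the normalizer -/
theorem mem_normalizer_zpowers {d g : G} (h : g * d * g⁻¹ ∈ Subgroup.zpowers d) :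
    g ∈ Subgroup.normalizer ((Subgroup.zpowers d : Subgroup G) : Set G) := by
  have hfwd : ∀ x ∈ Subgroup.zpowers d, g * x * g⁻¹ ∈ Subgroup.zpowers d := by
    intro x hx
    obtain ⟨n, rfl⟩ := Subgroup.mem_zpowers_iff.1 hx
    have : g * d ^ n * g⁻¹ = (g * d * g⁻¹) ^ n := by
      rw [conj_zpow]
    rw [this]
    exact Subgroup.zpow_mem _ h n
  have hinj : Function.Injective (fun x : ↥(Subgroup.zpowers d) =>
      (⟨g * x.1 * g⁻¹, hfwd x.1 x.2⟩ : ↥(Subgroup.zpowers d))) := by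
    intro x y hxy
    have h1 : g * x.1 * g⁻¹ = g * y.1 * g⁻¹ := congrArg Subtype.val hxy
    apply Subtype.ext
    have h2 := mul_right_cancel h1
    exact mul_left_cancel h2
  have hsurj := Finite.surjective_of_injective hinj
  rw [Subgroup.mem_normalizer_iff]
  intro x
  constructor
  · intro hx
    exact hfwd x hx
  · intro hx
    obtain ⟨y, hy⟩ := hsurj ⟨g * x * g⁻¹, hx⟩
    have h1 : g * y.1 * g⁻¹ = g * x * g⁻¹ := congrArg Subtype.val hy
    have h2 := mul_left_cancel (mul_right_cancel h1)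
    rw [← h2]
    exact y.2


/-- the centralizer of `d` in `K(P)` -/
def K2 (P : Sylow 2 G) (d : G) : Subgroup G := KK P ⊓ Subgroup.centralizer ({d} : Set G)

theorem mem_K2 {P : Sylow 2 G} {d x : G} : x ∈ K2 P d ↔ x ∈ KK P ∧ x * d = d * x := by
  unfold K2
  rw [Subgroup.mem_inf, Subgroup.mem_centralizer_iff]
  constructor
  · rintro ⟨h1, h2⟩
    exact ⟨h1, (h2 d rfl).symm⟩
  · rintro ⟨h1, h2⟩
    refine ⟨h1, ?_⟩
    intro h hh
    rw [Set.mem_singleton_iff] at hh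
    rw [hh]
    exact h2.symm

theorem mem_NN_iff {R : Sylow 2 G} {y : G} : y ∈ NN R ↔ y • R = R :=
  (Sylow.smul_eq_iff_mem_normalizer (g := y) (P := R)).symm

theorem smul_mem_NN {R : Sylow 2 G} {g y : G} (hy : y ∈ NN R) : g * y * g⁻¹ ∈ NN (g • R) := by
  rw [mem_NN_iff] at hy ⊢
  rw [← mul_smul, mul_assoc, mul_assoc, inv_mul_cancel, mul_one, mul_smul, hy]

theorem mem_NN_of_smul {R : Sylow 2 G} {g y : G} (hy : y ∈ NN (g • R)) : g⁻¹ * y * g ∈ NN R := by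
  have := smul_mem_NN (g := g⁻¹) hy
  rwa [inv_inv, inv_smul_smul] at this

theorem CC_le_NN (P : Sylow 2 G) : CC P ≤ NN P := by
  intro x hx
  rw [Subgroup.mem_normalizer_iff]
  intro h
  rw [Subgroup.mem_centralizer_iff] at hx
  constructor
  · intro hh
    have : x * h * x⁻¹ = h := by
      rw [← hx h hh, mul_assoc, mul_inv_cancel, mul_one]
    rw [this]
    exact hh
  · intro hh
    have h1 := hx _ hh
    have : h = x * h * x⁻¹ := by
      have h2 : x * h * x⁻¹ * x = x * (x * h * x⁻¹) := h1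
      rw [inv_mul_cancel_right] at h2
      exact mul_left_cancel h2
    rw [this]
    exact hh

theorem conj_mem_CC (P : Sylow 2 G) {n a : G} (hn : n ∈ NN P) (ha : a ∈ CC P) :
    n * a * n⁻¹ ∈ CC P := by
  rw [Subgroup.mem_centralizer_iff] at ha ⊢
  intro h hh
  have h1 : n⁻¹ * h * n ∈ (P : Subgroup G) := by
    have := (Subgroup.mem_normalizer_iff.1 (inv_mem hn) h).1 hh
    rwa [inv_inv] at this
  have h2 := ha _ h1
  calc h * (n * a * n⁻¹) = n * ((n⁻¹ * h * n) * a) * n⁻¹ := by group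
    _ = n * (a * (n⁻¹ * h * n)) * n⁻¹ := by rw [h2]
    _ = n * a * n⁻¹ * h := by group


/-- the normalizer of the cyclic group generated by `d` -/
abbrev ND (d : G) : Subgroup G := Subgroup.normalizer ((Subgroup.zpowers d : Subgroup G) : Set G)

theorem d_mem_ND (d : G) : d ∈ ND d := by
  apply mem_normalizer_zpowers
  rw [mul_inv_cancel_right]
  exact Subgroup.mem_zpowers d

theorem K2_le_ND (P : Sylow 2 G) (d : G) : K2 P d ≤ ND d := by
  intro x hx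
  apply mem_normalizer_zpowers
  rw [(mem_K2.1 hx).2, mul_inv_cancel_right]
  exact Subgroup.mem_zpowers d

theorem ND_maps_fixed {d n : G} (hn : n ∈ ND d) {R : Sylow 2 G} (hdR : d ∈ NN R) :
    d ∈ NN (n • R) := by
  have h1 : n⁻¹ * d * n ∈ Subgroup.zpowers d := by
    have := (Subgroup.mem_normalizer_iff.1 (inv_mem hn) d).1 (Subgroup.mem_zpowers d)
    rwa [inv_inv] at this
  have h2 : Subgroup.zpowers d ≤ NN R := (Subgroup.zpowers_le).2 hdR
  have h3 := smul_mem_NN (g := n) (h2 h1)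
  have h4 : n * (n⁻¹ * d * n) * n⁻¹ = d := by group
  rwa [h4] at h3


theorem nI_le_of_map_le {N : Subgroup G} (T : Subgroup ↥N) (R : Subgroup G)
    (h : T.map N.subtype ≤ R) : nI T ≤ nI R := by
  unfold nI
  apply Nat.card_le_card_of_injective
    (fun t : {t : ↥N // t ∈ T ∧ orderOf t = 2} =>
      (⟨t.1.1, h (Subgroup.mem_map_of_mem N.subtype t.2.1), by
        rw [Subgroup.orderOf_coe]; exact t.2.2⟩ : {t : G // t ∈ R ∧ orderOf t = 2}))
  intro a b hab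
  have h1 : a.1.1 = b.1.1 := congrArg (fun z : {t : G // t ∈ R ∧ orderOf t = 2} => z.1) hab
  exact Subtype.ext (Subtype.ext h1)

theorem nI_add_one_pow (h : AC G) (P : Sylow 2 G) : ∃ r : ℕ, nI (P : Subgroup G) + 1 = 2 ^ r := by
  have hcomm := sylow_comm h P
  let Om : Subgroup G :=
    { carrier := {x | x ∈ P ∧ x ^ 2 = 1}
      one_mem' := ⟨one_mem _, one_pow 2⟩
      mul_mem' := by
        rintro a b ⟨ha, ha2⟩ ⟨hb, hb2⟩
        refine ⟨mul_mem ha hb, ?_⟩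
        have hc : Commute a b := hcomm a ha b hb
        rw [hc.mul_pow, ha2, hb2, one_mul]
      inv_mem' := by
        rintro a ⟨ha, ha2⟩
        exact ⟨inv_mem ha, by rw [inv_pow, ha2, inv_one]⟩ }
  have hle : Om ≤ (P : Subgroup G) := fun x hx => hx.1
  have hdvd : Nat.card ↥Om ∣ Nat.card ↥(P : Subgroup G) := Subgroup.card_dvd_of_le hle
  obtain ⟨n, hn⟩ := P.isPGroup'.exists_card_eq
  rw [hn] at hdvd
  obtain ⟨r, _, hr⟩ := (Nat.dvd_prime_pow Nat.prime_two).1 hdvd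
  refine ⟨r, ?_⟩
  rw [← hr]
  have h1 : (Om : Set G) = insert 1 {t : G | t ∈ (P : Subgroup G) ∧ orderOf t = 2} := by
    ext x
    simp only [Set.mem_insert_iff, Set.mem_ofPred_eq]
    constructor
    · rintro ⟨hx, hx2⟩
      have h2 : orderOf x ∣ 2 := orderOf_dvd_of_pow_eq_one hx2
      rcases (Nat.dvd_prime Nat.prime_two).1 h2 with h3 | h3
      · exact Or.inl (orderOf_eq_one_iff.1 h3)
      · exact Or.inr ⟨hx, h3⟩
    · rintro (hx | ⟨hx, hx2⟩)
      · rw [hx]; exact Om.one_mem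
      · refine ⟨hx, ?_⟩
        rw [← hx2]
        exact pow_orderOf_eq_one x
  have h2 : Nat.card ↥Om = (Om : Set G).ncard := Nat.card_coe_set_eq _
  rw [h2, h1, Set.ncard_insert_of_notMem _ (Set.toFinite _)]
  · unfold nI
    rw [← Nat.card_coe_set_eq]
    rfl
  · simp only [Set.mem_ofPred_eq, not_and]
    intro _
    rw [orderOf_one]
    norm_num

theorem arith_final {s a m r e : ℕ} (hs : s = 2 ^ e) (hs4 : 4 ≤ s) (hm : m + 1 = 2 ^ r)
    (hdvd : s ∣ a + 1) (hle : s ≤ m + 1) (hcount : (s + 1) * (s - 1) = a * m) : False := by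
  obtain ⟨k', hk'⟩ := hdvd
  have hk0 : k' ≠ 0 := by
    rintro rfl
    omega
  have hs1 : 1 ≤ s := by omega
  obtain ⟨s', rfl⟩ : ∃ s', s = s' + 1 := ⟨s - 1, by omega⟩
  obtain ⟨m', hmm⟩ : ∃ m', m' = m := ⟨m, rfl⟩
  subst hmm
  simp only [Nat.add_sub_cancel] at hcount
  by_cases hk1 : k' = 1
  · subst hk1
    have ha : a = s' := by omega
    subst ha
    have hs0 : 0 < a := by omega
    have hm2 : m' = a + 2 := by
      have := Nat.eq_of_mul_eq_mul_left hs0 (by rw [← hcount]; ring : a * m' = a * (a + 2))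
      exact this
    -- 2 ^ r = a + 3 = 2 ^ e + 2
    have h1 : 2 ^ r = 2 ^ e + 2 := by omega
    have he2 : 2 ≤ e := by
      by_contra hlt
      have : e = 0 ∨ e = 1 := by omega
      rcases this with rfl | rfl <;> simp at hs <;> omega
    obtain ⟨e', rfl⟩ : ∃ e', e = e' + 2 := ⟨e - 2, by omega⟩
    have hr2 : 2 ≤ r := by
      by_contra hlt
      have : r = 0 ∨ r = 1 := by omega
      have h2 : 4 ≤ 2 ^ (e' + 2) := by
        rw [pow_add]; have := Nat.one_le_two_pow (n := e'); omega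
      rcases this with rfl | rfl <;> simp at h1 <;> omega
    obtain ⟨r', rfl⟩ : ∃ r', r = r' + 2 := ⟨r - 2, by omega⟩
    rw [pow_add, pow_add] at h1
    omega
  · have hk2 : 2 ≤ k' := by omega
    have ha : 2 * (s' + 1) ≤ a + 1 := by
      rw [hk']
      calc 2 * (s' + 1) = (s' + 1) * 2 := by ring
        _ ≤ (s' + 1) * k' := Nat.mul_le_mul_left _ hk2
    have hm1 : s' ≤ m' := by omega
    have h1 : (2 * s' + 1) * s' ≤ a * m' := Nat.mul_le_mul (by omega) hm1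
    rw [← hcount] at h1
    have h2 : 2 * s' + 1 ≤ s' + 1 + 1 := Nat.le_of_mul_le_mul_right h1 (by omega)
    omega


open Pointwise in
theorem conj_mem_smul {R : Sylow 2 G} {g x : G} (hx : x ∈ R) : g * x * g⁻¹ ∈ g • R := by
  have h1 : MulAut.conj g • x ∈ MulAut.conj g • (R : Subgroup G) :=
    Subgroup.smul_mem_pointwise_smul x (MulAut.conj g) _ hx
  rw [MulAut.smul_def, MulAut.conj_apply] at h1
  exact h1

theorem eq_one_of_odd_of_two_pow {H : Type*} [Group H] {x : H} (hodd : Odd (orderOf x)) {n : ℕ}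
    (hn : orderOf x = 2 ^ n) : x = 1 := by
  rw [hn] at hodd
  rcases Nat.eq_zero_or_pos n with h0 | h0
  · rw [h0, pow_zero, orderOf_eq_one_iff] at hn
    exact hn
  · exfalso
    have : Even (2 ^ n) := (Nat.even_pow.2 ⟨even_two, h0.ne'⟩)
    exact (Nat.not_odd_iff_even.2 this) hodd

section basics

variable (hS : Setup G) (hsemi : ∀ P Q : Sylow 2 G, P ≠ Q → KK P ⊓ NN Q = ⊥)
include hS hsemi

theorem D_inf_CC (P Q : Sylow 2 G) (hPQ : P ≠ Q) {y : G} (hy : y ∈ NN P ⊓ NN Q)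
    (hyC : y ∈ CC P) : y = 1 := by
  have hodd : Odd (orderOf y) := by
    have h1 : orderOf (⟨y, hy⟩ : ↥(NN P ⊓ NN Q)) ∣ Nat.card ↥(NN P ⊓ NN Q) := orderOf_dvd_natCard _
    rw [Subgroup.orderOf_mk] at h1
    exact Odd.of_dvd_nat (odd_inf_normalizer hS.ac P Q hPQ) h1
  have h2 : y ∈ KK P := (mem_KK hS P).2 ⟨hyC, hodd⟩
  have h3 : y ∈ KK P ⊓ NN Q := Subgroup.mem_inf.2 ⟨h2, hy.2⟩
  rw [hsemi P Q hPQ] at h3
  exact Subgroup.mem_bot.1 h3

theorem D_comm_invol (P Q : Sylow 2 G) (hPQ : P ≠ Q) {y t : G} (hy : y ∈ NN P ⊓ NN Q)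
    (ht : orderOf t = 2) (htP : t ∈ P) (hc : y * t = t * y) : y = 1 := by
  apply D_inf_CC hS hsemi P Q hPQ hy
  rw [← cent_invol hS.ac P ht htP, Subgroup.mem_centralizer_iff]
  intro h hh
  rw [Set.mem_singleton_iff] at hh
  rw [hh]
  exact hc.symm

theorem D_comm_mem (P Q : Sylow 2 G) (hPQ : P ≠ Q) {y x : G} (hy : y ∈ NN P ⊓ NN Q)
    (hxP : x ∈ P) (hx1 : x ≠ 1) (hc : y * x = x * y) : y = 1 := by
  obtain ⟨n, hn⟩ := (IsPGroup.iff_orderOf.1 P.isPGroup') ⟨x, hxP⟩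
  rw [Subgroup.orderOf_mk] at hn
  have hn0 : n ≠ 0 := by
    rintro rfl
    rw [pow_zero, orderOf_eq_one_iff] at hn
    exact hx1 hn
  obtain ⟨m, rfl⟩ := Nat.exists_eq_succ_of_ne_zero hn0
  have ht : orderOf (x ^ 2 ^ m) = 2 := by
    rw [orderOf_pow' _ (by positivity), hn, Nat.gcd_eq_right (pow_dvd_pow 2 (Nat.le_succ m)),
      pow_succ, Nat.mul_div_cancel_left _ (by positivity)]
  apply D_comm_invol hS hsemi P Q hPQ hy ht (Subgroup.pow_mem _ hxP _)
  exact ((Commute.pow_right (show Commute y x from hc) _)).eq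


theorem inf_KK_eq_one (P : Sylow 2 G) {z : G} (hzP : z ∈ P) (hzK : z ∈ KK P) : z = 1 := by
  have h1 := ((mem_KK hS P).1 hzK).2
  obtain ⟨n, hn⟩ := (IsPGroup.iff_orderOf.1 P.isPGroup') ⟨z, hzP⟩
  rw [Subgroup.orderOf_mk] at hn
  rw [hn] at h1
  rcases Nat.eq_zero_or_pos n with h0 | h0
  · rw [h0, pow_zero, orderOf_eq_one_iff] at hn
    exact hn
  · exfalso
    have : Even (2 ^ n) := (Nat.even_pow.2 ⟨even_two, h0.ne'⟩)
    exact (Nat.not_odd_iff_even.2 this) h1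

/-- a point `R ≠ P` fixed by `d ≠ 1` is `x • Q` for some `x ∈ C_{K(P)}(d)` -/
theorem fixed_decomp (P Q : Sylow 2 G) (hPQ : P ≠ Q) {d : G} (hd : d ∈ NN P ⊓ NN Q) (hd1 : d ≠ 1)
    (R : Sylow 2 G) (hRP : R ≠ P) (hdR : d ∈ NN R) : ∃ x ∈ K2 P d, x • Q = R := by
  obtain ⟨a, ha, haQ⟩ := F_trans hS hsemi P Q R hPQ.symm hRP
  have haN : a ∈ NN P := CC_le_NN P ha
  have h1 : a⁻¹ * d * a ∈ NN Q := by
    apply mem_NN_of_smul
    rw [haQ]
    exact hdR
  have h2 : a⁻¹ * d * a ∈ NN P := by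
    have := mul_mem (mul_mem (inv_mem haN) hd.1) haN
    exact this
  have h3 : a⁻¹ * d * a * d⁻¹ ∈ NN P ⊓ NN Q :=
    Subgroup.mem_inf.2 ⟨mul_mem h2 (inv_mem hd.1), mul_mem h1 (inv_mem hd.2)⟩
  have h4 : a⁻¹ * d * a * d⁻¹ ∈ CC P := by
    have h5 := conj_mem_CC P hd.1 ha
    have h6 := mul_mem (inv_mem ha) h5
    have : a⁻¹ * (d * a * d⁻¹) = a⁻¹ * d * a * d⁻¹ := by group
    rwa [this] at h6
  have h7 := D_inf_CC hS hsemi P Q hPQ h3 h4
  have hcomm : d * a = a * d := by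
    have h8 : a⁻¹ * d * a = d := by
      have := congrArg (· * d) h7
      simpa using this
    calc d * a = a * (a⁻¹ * d * a) := by group
      _ = a * d := by rw [h8]
  obtain ⟨x, hxP, k₁, hk₁, rfl⟩ := mem_CC_decomp hS P ha
  have hdx : d * x * d⁻¹ ∈ (P : Subgroup G) := (Subgroup.mem_normalizer_iff.1 hd.1 x).1 hxP
  have hdk : d * k₁ * d⁻¹ ∈ KK P :=
    (Subgroup.mem_normalizer_iff.1 (NN_le_normalizer_KK P hd.1) k₁).1 hk₁
  have hz : x⁻¹ * (d * x * d⁻¹) = k₁ * (d * k₁ * d⁻¹)⁻¹ := by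
    have h9 : d * (x * k₁) * d⁻¹ = x * k₁ := by
      rw [hcomm, mul_inv_cancel_right]
    have h10 : (d * x * d⁻¹) * (d * k₁ * d⁻¹) = x * k₁ := by
      rw [← h9]; group
    calc x⁻¹ * (d * x * d⁻¹) = x⁻¹ * ((d * x * d⁻¹) * (d * k₁ * d⁻¹)) * (d * k₁ * d⁻¹)⁻¹ := by
          group
      _ = k₁ * (d * k₁ * d⁻¹)⁻¹ := by rw [h10]; group
  have hz1 : x⁻¹ * (d * x * d⁻¹) = 1 := by
    apply inf_KK_eq_one hS hsemi P
    · exact mul_mem (inv_mem hxP) hdx
    · rw [hz]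
      exact mul_mem hk₁ (inv_mem hdk)
  have hdxc : d * x = x * d := by
    have h11 : d * x * d⁻¹ = x := by
      have := congrArg (x * ·) hz1
      simpa using this
    calc d * x = (d * x * d⁻¹) * d := by group
      _ = x * d := by rw [h11]
  have hx1 : x = 1 := by
    by_contra hx1
    exact hd1 (D_comm_mem hS hsemi P Q hPQ hd hxP hx1 hdxc)
  subst hx1
  rw [one_mul] at hcomm haQ
  exact ⟨k₁, mem_K2.2 ⟨hk₁, hcomm.symm⟩, haQ⟩

theorem K2_free (P Q : Sylow 2 G) (hPQ : P ≠ Q) {x x' : G} (hx : x ∈ KK P) (hx' : x' ∈ KK P)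
    (h : x • Q = x' • Q) : x = x' := by
  have h1 : x'⁻¹ * x ∈ KK P ⊓ NN Q := by
    refine Subgroup.mem_inf.2 ⟨mul_mem (inv_mem hx') hx, ?_⟩
    rw [mem_NN_iff, mul_smul, h, inv_smul_smul]
  rw [hsemi P Q hPQ, Subgroup.mem_bot] at h1
  have := congrArg (x' * ·) h1
  simpa using this

theorem KK_le_NN (P : Sylow 2 G) : KK P ≤ NN P := by
  intro x hx
  exact CC_le_NN P ((mem_KK hS P).1 hx).1

theorem K2_smul_ne (P Q : Sylow 2 G) (hPQ : P ≠ Q) {x : G} (hx : x ∈ KK P) : x • Q ≠ P := by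
  intro h
  apply hPQ
  have h1 : x⁻¹ • P = P := by
    rw [← mem_NN_iff]
    exact inv_mem (KK_le_NN hS hsemi P hx)
  rw [← h1, ← h, inv_smul_smul]

theorem K2_smul_fixed (P Q : Sylow 2 G) {d : G} (hd : d ∈ NN P ⊓ NN Q) {x : G} (hx : x ∈ K2 P d) :
    d ∈ NN (x • Q) := by
  rw [mem_NN_iff, ← mul_smul, ← (mem_K2.1 hx).2, mul_smul, mem_NN_iff.1 hd.2]

/-- the fixed points of `d` other than `P` are in bijection with `C_{K(P)}(d)` -/
theorem card_fixed' (P Q : Sylow 2 G) (hPQ : P ≠ Q) {d : G} (hd : d ∈ NN P ⊓ NN Q) (hd1 : d ≠ 1) :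
    Nat.card {R : Sylow 2 G // R ≠ P ∧ d ∈ NN R} = Nat.card ↥(K2 P d) := by
  symm
  apply Nat.card_congr
  refine Equiv.ofBijective (fun x : ↥(K2 P d) => ⟨x.1 • Q,
    K2_smul_ne hS hsemi P Q hPQ (mem_K2.1 x.2).1, K2_smul_fixed hS hsemi P Q hd x.2⟩) ⟨?_, ?_⟩
  · intro x y hxy
    have h1 : x.1 • Q = y.1 • Q := congrArg Subtype.val hxy
    exact Subtype.ext (K2_free hS hsemi P Q hPQ (mem_K2.1 x.2).1 (mem_K2.1 y.2).1 h1)
  · rintro ⟨R, hRP, hdR⟩
    obtain ⟨x, hx, hxQ⟩ := fixed_decomp hS hsemi P Q hPQ hd hd1 R hRP hdR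
    exact ⟨⟨x, hx⟩, Subtype.ext hxQ⟩


theorem swap_mem_ND (R R' : Sylow 2 G) (hne : R ≠ R') {d : G} (hdR : d ∈ NN R) (hdR' : d ∈ NN R')
    {u : G} (hu : orderOf u = 2) (huR : u • R = R') : u ∈ ND d := by
  apply mem_normalizer_zpowers
  rw [F_inverted hS hsemi R R' hne hu huR d (Subgroup.mem_inf.2 ⟨hdR, hdR'⟩)]
  exact inv_mem (Subgroup.mem_zpowers d)

theorem no_invol_ND_inf_NN (P Q : Sylow 2 G) (hPQ : P ≠ Q) {d : G} (hd : d ∈ NN P ⊓ NN Q)
    (hd1 : d ≠ 1) {t : G} (htN : t ∈ ND d) (htP : t ∈ NN P) (ht : orderOf t = 2) : False := by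
  have htP' : t ∈ P := mem_sylow_of_normalizes P ⟨1, by rw [ht, pow_one]⟩ htP
  have h1 : t * d * t⁻¹ ∈ Subgroup.zpowers d :=
    (Subgroup.mem_normalizer_iff.1 htN d).1 (Subgroup.mem_zpowers d)
  have h2 : Subgroup.zpowers d ≤ NN P ⊓ NN Q := (Subgroup.zpowers_le).2 hd
  have h3 : t * d * t⁻¹ * d⁻¹ ∈ NN P ⊓ NN Q := mul_mem (h2 h1) (inv_mem hd)
  have h4 : t * d * t⁻¹ * d⁻¹ ∈ (P : Subgroup G) := by
    have h5 : d * t⁻¹ * d⁻¹ ∈ (P : Subgroup G) :=
      (Subgroup.mem_normalizer_iff.1 hd.1 t⁻¹).1 (inv_mem htP')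
    have h6 := mul_mem htP' h5
    have : t * (d * t⁻¹ * d⁻¹) = t * d * t⁻¹ * d⁻¹ := by group
    rwa [this] at h6
  have h7 : t * d * t⁻¹ * d⁻¹ = 1 := by
    have hodd : Odd (orderOf (t * d * t⁻¹ * d⁻¹)) := by
      have h8 : orderOf (⟨_, h3⟩ : ↥(NN P ⊓ NN Q)) ∣ Nat.card ↥(NN P ⊓ NN Q) :=
        orderOf_dvd_natCard _
      rw [Subgroup.orderOf_mk] at h8
      exact Odd.of_dvd_nat (odd_inf_normalizer hS.ac P Q hPQ) h8
    obtain ⟨n, hn⟩ := (IsPGroup.iff_orderOf.1 P.isPGroup') ⟨_, h4⟩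
    rw [Subgroup.orderOf_mk] at hn
    rw [hn] at hodd
    rcases Nat.eq_zero_or_pos n with h0 | h0
    · rw [h0, pow_zero, orderOf_eq_one_iff] at hn
      exact hn
    · exfalso
      have : Even (2 ^ n) := (Nat.even_pow.2 ⟨even_two, h0.ne'⟩)
      exact (Nat.not_odd_iff_even.2 this) hodd
  have h9 : d * t = t * d := by
    have h10 : t * d * t⁻¹ = d := by
      have := congrArg (· * d) h7
      simpa using this
    calc d * t = (t * d * t⁻¹) * t := by rw [h10]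
      _ = t * d := by group
  exact hd1 (D_comm_invol hS hsemi P Q hPQ hd ht htP' h9)

theorem fixed_ncard (P Q : Sylow 2 G) (hPQ : P ≠ Q) {d : G} (hd : d ∈ NN P ⊓ NN Q) (hd1 : d ≠ 1) :
    {R : Sylow 2 G | d ∈ NN R}.ncard = Nat.card ↥(K2 P d) + 1 := by
  have h1 : {R : Sylow 2 G | d ∈ NN R} = insert P {R : Sylow 2 G | R ≠ P ∧ d ∈ NN R} := by
    ext R
    simp only [Set.mem_ofPred_eq, Set.mem_insert_iff]
    constructor
    · intro h
      by_cases hRP : R = P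
      · exact Or.inl hRP
      · exact Or.inr ⟨hRP, h⟩
    · rintro (h | h)
      · rw [h]; exact hd.1
      · exact h.2
  rw [h1, Set.ncard_insert_of_notMem (by simp) (Set.toFinite _),
    ← card_fixed' hS hsemi P Q hPQ hd hd1, ← Nat.card_coe_set_eq]
  rfl

/-- orbit of `P` under a subgroup of `N(⟨d⟩)` containing `C_{K(P)}(d)` and moving `P` -/
theorem orbit_eq (P Q : Sylow 2 G) (hPQ : P ≠ Q) {d : G} (hd : d ∈ NN P ⊓ NN Q) (hd1 : d ≠ 1)
    (L : Subgroup G) (hLN : L ≤ ND d) (hKL : K2 P d ≤ L) {m : G} (hm : m ∈ L) (hmP : m • P ≠ P) :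
    MulAction.orbit ↥L P = {R : Sylow 2 G | d ∈ NN R} := by
  ext R
  simp only [Set.mem_ofPred_eq]
  constructor
  · rintro ⟨l, rfl⟩
    exact ND_maps_fixed (hLN l.2) hd.1
  · intro hR
    by_cases hRP : R = P
    · rw [hRP]
      exact MulAction.mem_orbit_self P
    · obtain ⟨x, hx, hxQ⟩ := fixed_decomp hS hsemi P Q hPQ hd hd1 R hRP hR
      obtain ⟨x', hx', hxQ'⟩ := fixed_decomp hS hsemi P Q hPQ hd hd1 (m • P) hmP
        (ND_maps_fixed (hLN hm) hd.1)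
      refine ⟨⟨x * x'⁻¹ * m, mul_mem (mul_mem (hKL hx) (inv_mem (hKL hx'))) hm⟩, ?_⟩
      show (x * x'⁻¹ * m) • P = R
      rw [mul_smul, mul_smul, ← hxQ', inv_smul_smul, hxQ]

theorem card_eq_of_le (P Q : Sylow 2 G) (hPQ : P ≠ Q) {d : G} (hd : d ∈ NN P ⊓ NN Q) (hd1 : d ≠ 1)
    (L : Subgroup G) (hLN : L ≤ ND d) (hKL : K2 P d ≤ L) {m : G} (hm : m ∈ L) (hmP : m • P ≠ P) :
    Nat.card ↥L = (Nat.card ↥(K2 P d) + 1) * Nat.card ↥(MulAction.stabilizer ↥L P) := by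
  rw [← fixed_ncard hS hsemi P Q hPQ hd hd1, ← orbit_eq hS hsemi P Q hPQ hd hd1 L hLN hKL hm hmP,
    ← MulAction.index_stabilizer, Subgroup.index_mul_card]


theorem invol_ND_moves (P Q : Sylow 2 G) (hPQ : P ≠ Q) {d : G} (hd : d ∈ NN P ⊓ NN Q)
    (hd1 : d ≠ 1) (t : {t : ↥(ND d) // orderOf t = 2}) :
    t.1.1 • P ≠ P ∧ d ∈ NN (t.1.1 • P) := by
  refine ⟨?_, ND_maps_fixed t.1.2 hd.1⟩
  intro h
  have h2 : orderOf t.1.1 = 2 := by
    rw [Subgroup.orderOf_coe]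
    exact t.2
  exact no_invol_ND_inf_NN hS hsemi P Q hPQ hd hd1 t.1.2 (mem_NN_iff.2 h) h2

/-- the number of involutions of `N(⟨d⟩)` -/
theorem card_invol_ND (P Q : Sylow 2 G) (hPQ : P ≠ Q) {d : G} (hd : d ∈ NN P ⊓ NN Q)
    (hd1 : d ≠ 1) :
    Nat.card {t : ↥(ND d) // orderOf t = 2} = Nat.card ↥(K2 P d) * nI (P : Subgroup G) := by
  classical
  let f : {t : ↥(ND d) // orderOf t = 2} → {R : Sylow 2 G // R ≠ P ∧ d ∈ NN R} :=
    fun t => ⟨t.1.1 • P, invol_ND_moves hS hsemi P Q hPQ hd hd1 t⟩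
  have hfib : ∀ b : {R : Sylow 2 G // R ≠ P ∧ d ∈ NN R},
      Nat.card {a : {t : ↥(ND d) // orderOf t = 2} // f a = b} = nI (P : Subgroup G) := by
    intro b
    rw [← swap_count hS P b.1 b.2.1.symm]
    apply Nat.card_congr
    refine ⟨fun a => ⟨a.1.1.1, ?_, ?_⟩, fun i => ⟨⟨⟨i.1, ?_⟩, ?_⟩, ?_⟩, ?_, ?_⟩
    · rw [Subgroup.orderOf_coe]
      exact a.1.2
    · exact congrArg Subtype.val a.2
    · exact swap_mem_ND hS hsemi P b.1 b.2.1.symm hd.1 b.2.2 i.2.1 i.2.2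
    · rw [← Subgroup.orderOf_coe]
      exact i.2.1
    · exact Subtype.ext i.2.2
    · intro a
      rfl
    · intro i
      rfl
  haveI : Fintype {R : Sylow 2 G // R ≠ P ∧ d ∈ NN R} := Fintype.ofFinite _
  rw [← Nat.card_congr (Equiv.sigmaFiberEquiv f), Nat.card_sigma]
  simp only [hfib, Finset.sum_const, Finset.card_univ, smul_eq_mul]
  rw [← Nat.card_eq_fintype_card, card_fixed' hS hsemi P Q hPQ hd hd1]

end basics


/-- Piece H of the AbCent project: `N(P) ∩ N(Q)` acts fixed-point-freely on `K(P)`. -/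
theorem stepH (hS : Setup G) (hsemi : ∀ P Q : Sylow 2 G, P ≠ Q → KK P ⊓ NN Q = ⊥)
    (hO : ∀ N : Subgroup G, N.Normal → Odd (Nat.card N) → N = ⊥)
    (IH : ∀ H : Subgroup G, H ≠ ⊤ → Setup ↥H → Concl ↥H)
    (P Q : Sylow 2 G) (hPQ : P ≠ Q) {d k : G} (hd : d ∈ NN P ⊓ NN Q) (hd1 : d ≠ 1) (hk : k ∈ KK P)
    (hkd : k * d = d * k) : k = 1 := by
  by_contra hk1
  have hkK : k ∈ K2 P d := mem_K2.2 ⟨hk, hkd⟩
  obtain ⟨u, hu, huP⟩ : ∃ u : G, orderOf u = 2 ∧ u • P = Q := by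
    have h1 := swap_count hS P Q hPQ
    have h2 := three_le_nI hS P
    have h3 : 0 < Nat.card {i : G // orderOf i = 2 ∧ i • P = Q} := by omega
    obtain ⟨i⟩ := (Nat.card_pos_iff.1 h3).1
    exact ⟨i.1, i.2.1, i.2.2⟩
  have huN : u ∈ ND d := swap_mem_ND hS hsemi P Q hPQ hd.1 hd.2 hu huP
  have huP' : u • P ≠ P := by rw [huP]; exact hPQ.symm
  have hNtop : ND d ≠ ⊤ := by
    intro htop
    have hnorm : (Subgroup.zpowers d).Normal := Subgroup.normalizer_eq_top_iff.1 htop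
    have hodd : Odd (Nat.card ↥(Subgroup.zpowers d)) := by
      have h2 : Subgroup.zpowers d ≤ NN P ⊓ NN Q := (Subgroup.zpowers_le).2 hd
      exact Odd.of_dvd_nat (odd_inf_normalizer hS.ac P Q hPQ) (Subgroup.card_dvd_of_le h2)
    have := hO _ hnorm hodd
    rw [Subgroup.zpowers_eq_bot] at this
    exact hd1 this
  have hcardN := card_eq_of_le hS hsemi P Q hPQ hd hd1 (ND d) le_rfl (K2_le_ND P d) huN huP'
  have hstab_odd : Odd (Nat.card ↥(MulAction.stabilizer ↥(ND d) P)) := by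
    by_contra hne
    rw [Nat.not_odd_iff_even, even_iff_two_dvd] at hne
    obtain ⟨t, ht⟩ := exists_prime_orderOf_dvd_card' 2 hne
    have h1 : orderOf t.1.1 = 2 := by
      rw [Subgroup.orderOf_coe, Subgroup.orderOf_coe]; exact ht
    have h2 : t.1.1 • P = P := t.2
    exact no_invol_ND_inf_NN hS hsemi P Q hPQ hd hd1 t.1.2 (mem_NN_iff.2 h2) h1
  have h2dvd : 2 ∣ Nat.card ↥(ND d) := by
    have h1 : orderOf (⟨u, huN⟩ : ↥(ND d)) ∣ Nat.card ↥(ND d) := orderOf_dvd_natCard _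
    rwa [Subgroup.orderOf_mk, hu] at h1
  have hK2odd : Odd (Nat.card ↥(K2 P d)) :=
    Odd.of_dvd_nat (odd_card_KK hS P) (Subgroup.card_dvd_of_le inf_le_left)
  obtain ⟨T⟩ : Nonempty (Sylow 2 ↥(ND d)) := inferInstance
  obtain ⟨R, hTR⟩ := (T.isPGroup'.map (ND d).subtype).exists_le_sylow
  have hT2 : 2 ∣ Nat.card ↥(T : Subgroup ↥(ND d)) := T.dvd_card_of_dvd_card h2dvd
  obtain ⟨t₀, ht₀⟩ := exists_prime_orderOf_dvd_card' 2 hT2
  by_cases hcyc : IsCyclic ↥(T : Subgroup ↥(ND d))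
  · -- the cyclic case: normal 2-complement
    have hmf : (Nat.card ↥(ND d)).minFac = 2 := (Nat.minFac_eq_two_iff _).2 h2dvd
    have hle := IsCyclic.normalizer_le_centralizer hmf (P := T) hcyc
    have hModd : ¬ 2 ∣ Nat.card ↥(MonoidHom.transferSylow T hle).ker :=
      MonoidHom.not_dvd_card_ker_transferSylow T hle
    set φ := MonoidHom.transferSylow T hle with hφ
    set M' : Subgroup G := φ.ker.map (ND d).subtype with hM'
    have hM'card : Nat.card ↥M' = Nat.card ↥φ.ker :=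
      Subgroup.card_map_of_injective (Subgroup.subtype_injective _)
    have hM'N : M' ≤ ND d := by
      rintro _ ⟨x, _, rfl⟩
      exact x.2
    have hKM : K2 P d ≤ M' := by
      intro x hx
      refine ⟨⟨x, K2_le_ND P d hx⟩, ?_, rfl⟩
      rw [SetLike.mem_coe, MonoidHom.mem_ker]
      have hxodd : Odd (orderOf x) := ((mem_KK hS P).1 (mem_K2.1 hx).1).2
      have h0 : orderOf (⟨x, K2_le_ND P d hx⟩ : ↥(ND d)) = orderOf x := Subgroup.orderOf_mk _ _
      have h1 : orderOf (φ ⟨x, K2_le_ND P d hx⟩) ∣ orderOf x := by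
        rw [← h0]
        exact orderOf_map_dvd φ _
      obtain ⟨n, hn⟩ := (IsPGroup.iff_orderOf.1 T.isPGroup') (φ ⟨x, K2_le_ND P d hx⟩)
      exact eq_one_of_odd_of_two_pow (Odd.of_dvd_nat hxodd h1) hn
    have hM'odd : Odd (Nat.card ↥M') := by
      rw [hM'card, ← Nat.not_even_iff_odd, even_iff_two_dvd]
      exact hModd
    have hMP : M' ≤ NN P := by
      intro m hm
      by_contra hmP
      have hmP' : m • P ≠ P := fun h => hmP (mem_NN_iff.2 h)
      have hc := card_eq_of_le hS hsemi P Q hPQ hd hd1 M' hM'N hKM hm hmP'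
      have h3 : Odd (Nat.card ↥(K2 P d) + 1) := Odd.of_dvd_nat hM'odd ⟨_, hc⟩
      exact (Nat.not_odd_iff_even.2 hK2odd.add_one) h3
    have hkM : k ∈ M' := hKM hkK
    have hkQ : k ∈ NN Q := by
      have h1 : u⁻¹ * k * u ∈ M' := by
        obtain ⟨x, hx, hxk⟩ := hkM
        refine ⟨(⟨u, huN⟩ : ↥(ND d))⁻¹ * x * (⟨u, huN⟩ : ↥(ND d)), ?_, ?_⟩
        · have hn : φ.ker.Normal := inferInstance
          have := hn.conj_mem x hx (⟨u, huN⟩ : ↥(ND d))⁻¹
          rwa [inv_inv] at this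
        · rw [← hxk]
          rfl
      have h2 := smul_mem_NN (g := u) (hMP h1)
      rw [huP] at h2
      have h3 : u * (u⁻¹ * k * u) * u⁻¹ = k := by group
      rwa [h3] at h2
    have h4 : k ∈ KK P ⊓ NN Q := Subgroup.mem_inf.2 ⟨hk, hkQ⟩
    rw [hsemi P Q hPQ, Subgroup.mem_bot] at h4
    exact hk1 h4
  by_cases hnorm : (T : Subgroup ↥(ND d)).Normal
  · -- the normal case
    have ht₀G : orderOf t₀.1.1 = 2 := by
      rw [Subgroup.orderOf_coe, Subgroup.orderOf_coe]; exact ht₀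
    have ht₀1 : t₀.1.1 ≠ 1 := by
      intro h
      rw [h, orderOf_one] at ht₀G
      omega
    have hNR : ND d ≤ NN R := by
      intro n hn
      rw [mem_NN_iff]
      have h1 : (⟨n, hn⟩ : ↥(ND d)) * t₀.1 * (⟨n, hn⟩ : ↥(ND d))⁻¹ ∈ (T : Subgroup ↥(ND d)) :=
        hnorm.conj_mem _ t₀.2 _
      have h2 : n * t₀.1.1 * n⁻¹ ∈ R := hTR ⟨_, h1, rfl⟩
      have h3 : n * t₀.1.1 * n⁻¹ ∈ n • R :=
        conj_mem_smul (hTR (Subgroup.mem_map_of_mem _ t₀.2))
      have hne1 : n * t₀.1.1 * n⁻¹ ≠ 1 := by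
        intro h
        apply ht₀1
        have := congrArg (fun z => n⁻¹ * z * n) h
        simpa [mul_assoc] using this
      exact sylow_TI hS.ac (n • R) R hne1 h3 h2
    have hRP : P ≠ R := by
      intro h
      apply huP'
      rw [← mem_NN_iff, h]
      exact hNR huN
    have h4 : k ∈ KK P ⊓ NN R := Subgroup.mem_inf.2 ⟨hk, hNR (K2_le_ND P d hkK)⟩
    rw [hsemi P R hRP, Subgroup.mem_bot] at h4
    exact hk1 h4
  -- the inductive case
  have hSN : Setup ↥(ND d) := Setup.of_subgroup hS.ac (ND d) T hcyc hnorm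
  have hCN := IH (ND d) hNtop hSN
  have e1 := concl_card_invol hSN hCN T
  have e2 := concl_card_sylow_eq hSN hCN T
  have e3 := card_invol_ND hS hsemi P Q hPQ hd hd1
  have e4 := three_le_nI hSN T
  have e5 : nI (T : Subgroup ↥(ND d)) ≤ nI (P : Subgroup G) :=
    (nI_le_of_map_le _ _ hTR).trans (nI_eq R P).le
  obtain ⟨r, hr⟩ := nI_add_one_pow hS.ac P
  obtain ⟨e, he⟩ := T.isPGroup'.exists_card_eq
  have e6 : Nat.card ↥(T : Subgroup ↥(ND d)) ∣ Nat.card ↥(K2 P d) + 1 := by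
    have h1 : Nat.card ↥(T : Subgroup ↥(ND d)) ∣ Nat.card ↥(ND d) :=
      Subgroup.card_subgroup_dvd_card _
    rw [hcardN] at h1
    refine Nat.Coprime.dvd_of_dvd_mul_right ?_ h1
    rw [he]
    exact Nat.Coprime.pow_left _ (Nat.coprime_two_left.2 hstab_odd)
  refine arith_final he (by omega) hr e6 (by omega) ?_
  rw [e2, Nat.add_sub_cancel, ← e2, ← e1, e3]

end Cfsg.Agent.Lib.Helper27.AbCent
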