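import Mathlib
import Cfsg.Agent.Lib.Helper27.SsChain

/-!
# Characteristic chains of abelian `p`-groups

The subgroups `V k = Ω₁ ∩ ℧^k` of a commutative group, the chain of characteristic subgroups built
from them, and the consequence for groups of automorphisms of order prime to `p`.
-/

set_option autoImplicit false

namespace Cfsg.Agent.Lib.Helper27.AbInv

open Cfsg.Agent.Lib.Helper27.SsChain

section Intrinsic

variable {A : Type*} [CommGroup A] (p : ℕ)

/-- the `p ^ j`-th power map -/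
def pk (j : ℕ) : A →* A := powMonoidHom (p ^ j)

theorem pk_apply (j : ℕ) (x : A) : pk p j x = x ^ (p ^ j) := rfl

/-- `Ω₁ ∩ ℧^k` -/
def V (k : ℕ) : Subgroup A := (pk p k).range ⊓ (pk p 1).ker

theorem mem_V {k : ℕ} {x : A} : x ∈ V p k ↔ (∃ y : A, y ^ (p ^ k) = x) ∧ x ^ p = 1 := by
  unfold V
  rw [Subgroup.mem_inf, MonoidHom.mem_range, MonoidHom.mem_ker, pk_apply, pow_one]
  rfl

/-- the elements whose `p ^ j`-th power lies in `V k` -/
def W (j k : ℕ) : Subgroup A := (V p k).comap (pk p j)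

theorem mem_W {j k : ℕ} {x : A} : x ∈ W p j k ↔ x ^ (p ^ j) ∈ V p k := Iff.rfl

theorem V_succ_le (k : ℕ) : V p (k + 1) ≤ (V p k : Subgroup A) := by
  intro x hx
  rw [mem_V] at hx ⊢
  obtain ⟨⟨y, hy⟩, hx1⟩ := hx
  refine ⟨⟨y ^ p, ?_⟩, hx1⟩
  rw [← pow_mul, ← pow_succ']
  exact hy

theorem W_succ_le (j k : ℕ) : W p j (k + 1) ≤ (W p j k : Subgroup A) :=
  Subgroup.comap_mono (V_succ_le p k)

theorem V_eq_bot {N : ℕ} (hN : ∀ x : A, x ^ (p ^ N) = 1) : (V p N : Subgroup A) = ⊥ := by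
  rw [eq_bot_iff]
  intro x hx
  rw [mem_V] at hx
  obtain ⟨⟨y, hy⟩, -⟩ := hx
  rw [Subgroup.mem_bot, ← hy, hN]

theorem W_top_eq {N : ℕ} (hN : ∀ x : A, x ^ (p ^ N) = 1) (j : ℕ) :
    (W p j N : Subgroup A) = (pk p j).ker := by
  ext x
  rw [mem_W, V_eq_bot p hN, Subgroup.mem_bot, MonoidHom.mem_ker, pk_apply]

theorem W_zero_eq (j : ℕ) : (W p j 0 : Subgroup A) = (pk p (j + 1)).ker := by
  ext x
  rw [mem_W, mem_V, MonoidHom.mem_ker, pk_apply, ← pow_mul, ← pow_succ]
  constructor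
  · exact fun h => h.2
  · exact fun h => ⟨⟨x ^ p ^ j, by rw [pow_zero, pow_one]⟩, h⟩

theorem V_invariant (α : MulAut A) {k : ℕ} {x : A} (hx : x ∈ V p k) : α x ∈ V p k := by
  rw [mem_V] at hx ⊢
  obtain ⟨⟨y, hy⟩, hx1⟩ := hx
  refine ⟨⟨α y, ?_⟩, ?_⟩
  · rw [← map_pow, hy]
  · rw [← map_pow, hx1, map_one]

theorem W_invariant (α : MulAut A) {j k : ℕ} {x : A} (hx : x ∈ W p j k) : α x ∈ W p j k := by
  rw [mem_W] at hx ⊢
  rw [← map_pow]
  exact V_invariant p α hx

/-- the chain, indexed by natural numbers -/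
def chn (N : ℕ) (t : ℕ) : Subgroup A := W p (t / N) (N - t % N)

theorem chn_step {N : ℕ} (hN0 : 0 < N) (hN : ∀ x : A, x ^ (p ^ N) = 1) (t : ℕ) :
    ∃ j k : ℕ, (chn p N t : Subgroup A) = W p j (k + 1) ∧
      (chn p N (t + 1) : Subgroup A) = W p j k := by
  have ht : N * (t / N) + t % N = t := Nat.div_add_mod t N
  have hs : t % N < N := Nat.mod_lt t hN0
  by_cases h : t % N + 1 < N
  · refine ⟨t / N, N - t % N - 1, ?_, ?_⟩
    · unfold chn
      congr 1
      omega
    · have e : t + 1 = N * (t / N) + (t % N + 1) := by omega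
      have e1 : (t + 1) / N = t / N := by
        rw [e, Nat.mul_add_div hN0, Nat.div_eq_of_lt h, add_zero]
      have e2 : (t + 1) % N = t % N + 1 := by
        rw [e, Nat.mul_add_mod, Nat.mod_eq_of_lt h]
      unfold chn
      rw [e1, e2]
      congr 1
  · have h' : t % N + 1 = N := by omega
    refine ⟨t / N, 0, ?_, ?_⟩
    · unfold chn
      congr 1
      omega
    · have e : t + 1 = N * (t / N + 1) + 0 := by
        rw [Nat.mul_add, Nat.mul_one]
        omega
      have e1 : (t + 1) / N = t / N + 1 := by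
        rw [e, Nat.mul_add_div hN0, Nat.zero_div, add_zero]
      have e2 : (t + 1) % N = 0 := by
        rw [e, Nat.mul_add_mod, Nat.zero_mod]
      unfold chn
      rw [e1, e2, Nat.sub_zero, W_top_eq p hN, W_zero_eq]

theorem chn_zero {N : ℕ} (hN : ∀ x : A, x ^ (p ^ N) = 1) :
    (chn p N 0 : Subgroup A) = ⊥ := by
  unfold chn
  rw [Nat.zero_div, Nat.zero_mod, Nat.sub_zero, W_top_eq p hN, eq_bot_iff]
  intro x hx
  rw [MonoidHom.mem_ker, pk_apply, pow_zero, pow_one] at hx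
  rw [Subgroup.mem_bot]
  exact hx

theorem chn_last {N : ℕ} (hN0 : 0 < N) (hN : ∀ x : A, x ^ (p ^ N) = 1) :
    (chn p N (N * N) : Subgroup A) = ⊤ := by
  unfold chn
  rw [Nat.mul_div_cancel _ hN0, Nat.mul_mod_left, Nat.sub_zero, W_top_eq p hN, eq_top_iff]
  intro x _
  rw [MonoidHom.mem_ker, pk_apply]
  exact hN x

/-- if all the factors `V k / V (k + 1)` are cyclic, groups of automorphisms of order prime to `p`
are abelian of exponent dividing `p - 1` -/
theorem aut_of_cyc [Finite A] [hp : Fact p.Prime] {n : ℕ} (hA : Nat.card A = p ^ n)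
    (hcyc : ∀ k : ℕ, IsCyclic ↥((V p k : Subgroup A).map (QuotientGroup.mk' (V p (k + 1)))))
    (K : Subgroup (MulAut A)) (hcop : (Nat.card K).Coprime p) :
    (∀ α ∈ K, ∀ β ∈ K, α * β = β * α) ∧ ∀ α ∈ K, α ^ (p - 1) = 1 := by
  have hN0 : 0 < n + 1 := Nat.succ_pos n
  have hN : ∀ x : A, x ^ (p ^ (n + 1)) = 1 := by
    intro x
    rw [pow_succ, pow_mul, ← hA, pow_card_eq_one', one_pow]
  have hchn : IsChn (fun i : Fin ((n + 1) * (n + 1) + 1) => (chn p (n + 1) i.val : Subgroup A)) := by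
    refine ⟨chn_zero p hN, chn_last p hN0 hN, fun i => ?_⟩
    obtain ⟨j, k, e1, e2⟩ := chn_step p hN0 hN i.val
    show chn p (n + 1) i.val ≤ chn p (n + 1) (i.val + 1)
    rw [e1, e2]
    exact W_succ_le p j k
  have hcyc' : ∀ i : Fin ((n + 1) * (n + 1)),
      IsCyclic ↥((chn p (n + 1) (i.succ : Fin ((n + 1) * (n + 1) + 1)).val : Subgroup A).map
        (QuotientGroup.mk' (chn p (n + 1) (i.castSucc : Fin ((n + 1) * (n + 1) + 1)).val))) := by
    intro i
    obtain ⟨j, k, e1, e2⟩ := chn_step p hN0 hN i.val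
    have h1 : IsCyclic ↥((W p j k : Subgroup A).map (QuotientGroup.mk' (W p j (k + 1)))) :=
      cyc_comap (pk p j) (V p (k + 1)) (V p k) (W p j (k + 1)) (W p j k) rfl le_rfl (hcyc k)
    have e1' : (chn p (n + 1) (i.castSucc : Fin ((n + 1) * (n + 1) + 1)).val : Subgroup A) =
        W p j (k + 1) := e1
    have e2' : (chn p (n + 1) (i.succ : Fin ((n + 1) * (n + 1) + 1)).val : Subgroup A) =
        W p j k := e2
    rw [e1', e2']
    exact h1
  have hK : ∀ α ∈ K, ∀ i : Fin ((n + 1) * (n + 1) + 1), ∀ t ∈ chn p (n + 1) i.val,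
      α t ∈ (chn p (n + 1) i.val : Subgroup A) := by
    intro α _ i t ht
    exact W_invariant p α ht
  haveI hn : ∀ i : Fin ((n + 1) * (n + 1) + 1), (chn p (n + 1) i.val : Subgroup A).Normal :=
    fun i => inferInstance
  exact ⟨fun α hα β hβ => comm_of_coprime hA hchn hcyc' hK hcop hα hβ,
    fun α hα => pow_of_coprime hA hchn hcyc' hK hcop hα⟩

end Intrinsic

section Transfer

variable {A : Type*} [CommGroup A] (p : ℕ)

theorem V_comap {G : Type*} [CommGroup G] (ι : A ≃* G) (k : ℕ) :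
    (V p k : Subgroup A) = (V p k : Subgroup G).comap ι.toMonoidHom := by
  ext x
  rw [Subgroup.mem_comap, mem_V, mem_V]
  have hι : ι.toMonoidHom x = ι x := rfl
  rw [hι]
  constructor
  · rintro ⟨⟨y, hy⟩, hx⟩
    exact ⟨⟨ι y, by rw [← map_pow, hy]⟩, by rw [← map_pow, hx, map_one]⟩
  · rintro ⟨⟨z, hz⟩, hx⟩
    refine ⟨⟨ι.symm z, ?_⟩, ?_⟩
    · apply ι.injective
      rw [map_pow, ι.apply_symm_apply]
      exact hz
    · apply ι.injective
      rw [map_pow, map_one]
      exact hx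

theorem cyc_transfer {G : Type*} [CommGroup G] (ι : A ≃* G)
    (h : ∀ k : ℕ, IsCyclic ↥((V p k : Subgroup G).map (QuotientGroup.mk' (V p (k + 1))))) :
    ∀ k : ℕ, IsCyclic ↥((V p k : Subgroup A).map (QuotientGroup.mk' (V p (k + 1)))) := fun k =>
  cyc_comap ι.toMonoidHom (V p (k + 1)) (V p k) (V p (k + 1)) (V p k) (V_comap p ι (k + 1))
    (V_comap p ι k).le (h k)

end Transfer

section Coord

/-- a quotient detected by a homomorphism to a cyclic group is cyclic -/
theorem cyc_of_hom {X C : Type*} [Group X] [Group C] [IsCyclic C] (π : X →* C)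
    (M L : Subgroup X) [M.Normal] (hM : M ≤ π.ker) (h : ∀ x ∈ L, π x = 1 → x ∈ M) :
    IsCyclic ↥(L.map (QuotientGroup.mk' M)) := by
  let f : ↥(L.map (QuotientGroup.mk' M)) →* C :=
    (QuotientGroup.lift M π hM).comp (Subgroup.subtype _)
  apply isCyclic_of_injective f
  rw [injective_iff_map_eq_one]
  rintro ⟨_, x, hx, rfl⟩ hfx
  have h1 : π x = 1 := hfx
  apply Subtype.ext
  show (QuotientGroup.mk' M x) = 1
  rw [QuotientGroup.mk'_apply, QuotientGroup.eq_one_iff]
  exact h x hx h1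

variable {p : ℕ} [hp : Fact p.Prime]

theorem zmod_pow_eq_one {E k : ℕ} (hE : E ≤ k) (x : Multiplicative (ZMod (p ^ E))) :
    x ^ (p ^ k) = 1 := by
  haveI : NeZero (p ^ E) := ⟨pow_ne_zero _ hp.out.ne_zero⟩
  have hcard : Nat.card (Multiplicative (ZMod (p ^ E))) = p ^ E := by
    rw [Nat.card_eq_fintype_card, Fintype.card_multiplicative, ZMod.card]
  obtain ⟨d, hd⟩ := pow_dvd_pow p hE
  have h := pow_card_eq_one' (x := x)
  rw [hcard] at h
  rw [hd, pow_mul, h, one_pow]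

theorem zmod_root {E k : ℕ} (hE : k + 2 ≤ E) (a : Multiplicative (ZMod (p ^ E)))
    (ha : a ^ p = 1) : ∃ y : Multiplicative (ZMod (p ^ E)), y ^ (p ^ (k + 1)) = a := by
  haveI : NeZero (p ^ E) := ⟨pow_ne_zero _ hp.out.ne_zero⟩
  have h1 : p • Multiplicative.toAdd a = 0 := by
    have := congrArg Multiplicative.toAdd ha
    rwa [toAdd_pow, toAdd_one] at this
  have h2 : ((p * (Multiplicative.toAdd a).val : ℕ) : ZMod (p ^ E)) = 0 := by
    rw [Nat.cast_mul, ZMod.natCast_zmod_val, ← nsmul_eq_mul]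
    exact h1
  rw [ZMod.natCast_eq_zero_iff] at h2
  have hE' : p ^ E = p * p ^ (E - 1) := by
    rw [← pow_succ']
    congr 1
    omega
  have h2' : p * p ^ (E - 1) ∣ p * (Multiplicative.toAdd a).val :=
    (dvd_of_eq hE'.symm).trans h2
  have h3 : p ^ (E - 1) ∣ (Multiplicative.toAdd a).val :=
    Nat.dvd_of_mul_dvd_mul_left hp.out.pos h2'
  have h4 : p ^ (k + 1) ∣ (Multiplicative.toAdd a).val :=
    (pow_dvd_pow p (by omega)).trans h3
  obtain ⟨w, hw⟩ := h4
  refine ⟨Multiplicative.ofAdd ((w : ℕ) : ZMod (p ^ E)), ?_⟩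
  rw [← ofAdd_nsmul, nsmul_eq_mul, ← Nat.cast_mul, ← hw, ZMod.natCast_zmod_val]
  rfl

/-- **The factors `V k / V (k + 1)` of a product of cyclic groups of distinct orders are cyclic.** -/
theorem pi_cyc {ι : Type*} (e : ι → ℕ) (hinj : Function.Injective e) (k : ℕ) :
    IsCyclic ↥((V p k : Subgroup ((i : ι) → Multiplicative (ZMod (p ^ e i)))).map
      (QuotientGroup.mk' (V p (k + 1)))) := by
  have claim : ∀ a ∈ (V p k : Subgroup ((i : ι) → Multiplicative (ZMod (p ^ e i)))),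
      (∀ i, e i = k + 1 → a i = 1) → a ∈ V p (k + 1) := by
    intro a ha h1
    rw [mem_V] at ha ⊢
    obtain ⟨⟨x, hx⟩, hap⟩ := ha
    refine ⟨?_, hap⟩
    have hy : ∀ i, ∃ y : Multiplicative (ZMod (p ^ e i)), y ^ (p ^ (k + 1)) = a i := by
      intro i
      rcases lt_trichotomy (e i) (k + 1) with h | h | h
      · refine ⟨1, ?_⟩
        rw [one_pow, ← hx, Pi.pow_apply, zmod_pow_eq_one (by omega)]
      · exact ⟨1, by rw [one_pow, h1 i h]⟩
      · exact zmod_root (by omega) (a i) (by rw [← Pi.pow_apply, hap]; rfl)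
    choose y hy using hy
    exact ⟨y, funext hy⟩
  by_cases h : ∃ i₀, e i₀ = k + 1
  · obtain ⟨i₀, hi₀⟩ := h
    refine cyc_of_hom (Pi.evalMonoidHom (fun i => Multiplicative (ZMod (p ^ e i))) i₀)
      (V p (k + 1)) (V p k) ?_ ?_
    · intro b hb
      rw [mem_V] at hb
      obtain ⟨⟨y, hy⟩, -⟩ := hb
      rw [MonoidHom.mem_ker, Pi.evalMonoidHom_apply, ← hy, Pi.pow_apply]
      exact zmod_pow_eq_one (by omega) _
    · intro a ha ha1
      refine claim a ha (fun i hi => ?_)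
      have : i = i₀ := hinj (hi.trans hi₀.symm)
      rw [this]
      exact ha1
  · refine cyc_of_hom (1 : ((i : ι) → Multiplicative (ZMod (p ^ e i))) →* Multiplicative (ZMod 1))
      (V p (k + 1)) (V p k) ?_ ?_
    · intro b _
      rw [MonoidHom.mem_ker]
      rfl
    · intro a ha _
      exact claim a ha (fun i hi => absurd ⟨i, hi⟩ h)

end Coord

section Split

theorem pi_split_two {ι : Type} (G : ι → Type) [∀ k, CommGroup (G k)] (i j : ι) (hij : i ≠ j) :
    ∃ (H : Type) (_ : CommGroup H), Nonempty (((k : ι) → G k) ≃* (G i × G j) × H) := by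
  classical
  let s1 : ((k : ι) → G k) ≃* G i × ((k : {k // k ≠ i}) → G k.1) :=
    { Equiv.piSplitAt i G with map_mul' := fun _ _ => rfl }
  let s2 : ((k : {k // k ≠ i}) → G k.1) ≃*
      G j × ((k' : {k' : {k // k ≠ i} // k' ≠ ⟨j, hij.symm⟩}) → G k'.1.1) :=
    { Equiv.piSplitAt (⟨j, hij.symm⟩ : {k // k ≠ i}) (fun k => G k.1) with
      map_mul' := fun _ _ => rfl }
  exact ⟨(k' : {k' : {k // k ≠ i} // k' ≠ ⟨j, hij.symm⟩}) → G k'.1.1, inferInstance,
    ⟨s1.trans ((MulEquiv.prodCongr (MulEquiv.refl _) s2).trans MulEquiv.prodAssoc.symm)⟩⟩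

variable {A : Type*} [CommGroup A] [Finite A] {p : ℕ} [hp : Fact p.Prime]

/-- **A finite abelian `p`-group with no repeated invariant has cyclic factors `V k / V (k + 1)`.** -/
theorem cyc_of_no_square (hA : IsPGroup p A)
    (hno : ¬ ∃ (n : ℕ) (H : Type) (_ : CommGroup H), 0 < n ∧
      Nonempty (A ≃* (Multiplicative (ZMod (p ^ n)) × Multiplicative (ZMod (p ^ n))) × H)) :
    ∀ k : ℕ, IsCyclic ↥((V p k : Subgroup A).map (QuotientGroup.mk' (V p (k + 1)))) := by
  obtain ⟨ι, hfin, n, hn1, ⟨φ⟩⟩ := CommGroup.equiv_prod_multiplicative_zmod_of_finite A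
  obtain ⟨N, hN⟩ := IsPGroup.iff_card.mp hA
  have hcard : Nat.card A = ∏ i, n i := by
    rw [Nat.card_congr φ.toEquiv, Nat.card_pi]
    refine Finset.prod_congr rfl (fun i _ => ?_)
    exact (Nat.card_congr Multiplicative.toAdd).trans (Nat.card_zmod (n i))
  have hpow : ∀ i, ∃ e : ℕ, n i = p ^ e := by
    intro i
    have h1 : n i ∣ p ^ N := by
      rw [← hN, hcard]
      exact Finset.dvd_prod_of_mem n (Finset.mem_univ i)
    obtain ⟨e, -, he⟩ := (Nat.dvd_prime_pow hp.out).mp h1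
    exact ⟨e, he⟩
  choose e he using hpow
  have hn : n = fun i => p ^ e i := funext he
  subst hn
  have hinj : Function.Injective e := by
    intro i j hij
    by_contra hne
    apply hno
    obtain ⟨H, hH, ⟨ψ⟩⟩ := pi_split_two (fun k => Multiplicative (ZMod (p ^ e k))) i j hne
    have hpos : 0 < e i := by
      rcases Nat.eq_zero_or_pos (e i) with h0 | h0
      · have := hn1 i
        rw [show (fun i => p ^ e i) i = p ^ e i from rfl, h0, pow_zero] at this
        exact absurd this (lt_irrefl 1)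
      · exact h0
    let cst : Multiplicative (ZMod (p ^ e j)) ≃* Multiplicative (ZMod (p ^ e i)) :=
      MulEquiv.cast (M := fun m : ℕ => Multiplicative (ZMod (p ^ m))) hij.symm
    exact ⟨e i, H, hH, hpos, ⟨(φ.trans ψ).trans
      (MulEquiv.prodCongr (MulEquiv.prodCongr (MulEquiv.refl _) cst) (MulEquiv.refl H))⟩⟩
  exact cyc_transfer p φ (pi_cyc e hinj)

end Split

end Cfsg.Agent.Lib.Helper27.AbInv
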