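import Mathlib
import Cfsg.Agent.Lib.Helper27.AiFus

set_option autoImplicit false

namespace Cfsg.Agent.Lib.Helper27.AiCore

open Cfsg Cfsg.FusionSystem Cfsg.Agent.Lib.Helper26 Cfsg.Agent.Lib.Helper27.XsFus
  Cfsg.Agent.Lib.Helper27.AiGroup Cfsg.Agent.Lib.Helper27.AiFus

section basic

variable {Ω : Type*} [Group Ω] {S : Subgroup Ω}

/-- the commutator subgroup of `S` inside `Ω` -/
def SD (S : Subgroup Ω) : Subgroup Ω := (_root_.commutator ↥S).map S.subtype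

theorem SD_le : SD S ≤ S := by
  rintro _ ⟨w, -, rfl⟩
  exact w.2

theorem comm_mem_SD {a b : Ω} (ha : a ∈ S) (hb : b ∈ S) : a * b * a⁻¹ * b⁻¹ ∈ SD S := by
  rw [SD, Subgroup.map_subtype_commutator, ← commutatorElement_def]
  exact Subgroup.commutator_mem_commutator ha hb

theorem aut_SD (α : MulAut S) {x : S} (hx : (x : Ω) ∈ SD S) : ((α x : S) : Ω) ∈ SD S := by
  obtain ⟨w, hw, hwx⟩ := hx
  have : w = x := Subtype.ext hwx
  subst this
  refine ⟨α w, ?_, rfl⟩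
  have h1 := (Subgroup.characteristic_iff_map_le.mp
    (inferInstance : (_root_.commutator ↥S).Characteristic)) α
  exact h1 ⟨w, hw, rfl⟩

/-- `Z(S) ∩ [S,S]` -/
def Z0 (S : Subgroup Ω) : Subgroup Ω := ZS S ⊓ SD S

theorem Z0_le_ZS : Z0 S ≤ ZS S := inf_le_left

theorem Z0_le_SD : Z0 S ≤ SD S := inf_le_right

theorem aut_Z0 [Finite S] (α : MulAut S) {x : S} (hx : (x : Ω) ∈ Z0 S) : ((α x : S) : Ω) ∈ Z0 S :=
  ⟨aut_ZS α hx.1, aut_SD α hx.2⟩

end basic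

section ab

variable {Ω : Type*} [Group Ω] {S A : Subgroup Ω} [Finite S] {p : ℕ} [hp : Fact p.Prime]
  {F : FusionSystem S} {P : Subgroup Ω} {x b : Ω}

/-- an abelian essential subgroup not inside `A`, with an element of `Z₂(S)` outside `Z(S)` -/
structure AbCtx (p : ℕ) (S A : Subgroup Ω) (F : FusionSystem S) (P : Subgroup Ω) (x b : Ω) :
    Prop where
  c : Ctx p S A F P x
  hab : ∀ a ∈ P, ∀ b ∈ P, a * b = b * a
  hb2 : b ∈ Z2S S
  hbZ : b ∉ ZS S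
  hZ2A : Z2S S ≤ A

theorem AbCtx.hbA (d : AbCtx p S A F P x b) : b ∈ A := d.hZ2A d.hb2

theorem AbCtx.hbN (d : AbCtx p S A F P x b) : b ∈ normalizerIn S P := by
  have h : b ∈ Z2S S ⊓ A := ⟨d.hb2, d.hbA⟩
  rw [← d.c.normalizer_inf_eq d.hab] at h
  exact h.1

theorem AbCtx.hbS (d : AbCtx p S A F P x b) : b ∈ S := d.hbN.1

/-- the automorphism of `P` induced by `b` -/
def AbCtx.u (d : AbCtx p S A F P x b) : MulAut P := conjAut P b d.hbN.2

theorem AbCtx.u_apply (d : AbCtx p S A F P x b) (y : P) :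
    ((d.u y : P) : Ω) = b * (y : Ω) * b⁻¹ := rfl

theorem AbCtx.u_mem (d : AbCtx p S A F P x b) : d.u ∈ F.autGroup P :=
  autInducedBy_le_autGroup F d.c.hPS (conjAut_mem_autInducedBy d.hbS d.hbN.2)

theorem AbCtx.hZidx (d : AbCtx p S A F P x b) : ((ZS S).subgroupOf P).index = p := by
  show (ZS S).relIndex P = p
  rw [← d.c.inf_eq_ZS d.hab, Subgroup.inf_relIndex_left]
  exact d.c.H.relIndex_of_not_le d.c.hS d.c.hPS d.c.not_le

theorem AbCtx.fix_iff (d : AbCtx p S A F P x b) (y : P) :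
    y ∈ (ZS S).subgroupOf P ↔ d.u y = y := by
  rw [Subgroup.mem_subgroupOf]
  constructor
  · intro hy
    apply Subtype.ext
    rw [d.u_apply, (mem_ZS.mp hy).2 b d.hbS, mul_inv_cancel_right]
  · intro hy
    have h1 := congrArg Subtype.val hy
    rw [d.u_apply] at h1
    have hcomm : b * (y : Ω) = (y : Ω) * b := by
      calc b * (y : Ω) = b * (y : Ω) * b⁻¹ * b := by group
        _ = (y : Ω) * b := by rw [h1]
    by_contra hyZ
    have hyA : (y : Ω) ∉ A := by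
      intro hyA
      apply hyZ
      rw [← d.c.inf_eq_ZS d.hab]
      exact ⟨y.2, hyA⟩
    exact d.hbZ ((d.c.H.facts d.c.hS (d.c.hPS y.2) hyA).2.2 b d.hbA hcomm.symm)

theorem AbCtx.comm_mem_Z0 (d : AbCtx p S A F P x b) (y : P) :
    b * (y : Ω) * b⁻¹ * (y : Ω)⁻¹ ∈ Z0 S :=
  ⟨(mem_Z2S.mp d.hb2).2 y (d.c.hPS y.2), comm_mem_SD d.hbS (d.c.hPS y.2)⟩

/-- the commutator subgroup `[P, b]` -/
def AbCtx.W (d : AbCtx p S A F P x b) : Subgroup P := (dfHom d.hab d.u).range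

theorem AbCtx.mem_W (d : AbCtx p S A F P x b) (w : P) : w ∈ d.W ↔ ∃ y, d.u y * y⁻¹ = w := by
  rw [AbCtx.W, MonoidHom.mem_range]
  rfl

theorem AbCtx.W_le_Z0 (d : AbCtx p S A F P x b) {w : P} (hw : w ∈ d.W) : (w : Ω) ∈ Z0 S := by
  obtain ⟨y, rfl⟩ := (d.mem_W w).mp hw
  rw [Subgroup.coe_mul, d.u_apply, Subgroup.coe_inv]
  exact d.comm_mem_Z0 y

theorem AbCtx.opc (d : AbCtx p S A F P x b) :
    ∀ B : Subgroup (F.autGroup P), B.Normal → IsPGroup p B → B = ⊥ := by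
  have hInn : Cfsg.Inn ↥P = ⊥ := by
    rw [eq_bot_iff]
    rintro φ ⟨g, rfl⟩
    rw [Subgroup.mem_bot]
    ext y
    rw [MulAut.conj_apply, MulAut.one_apply]
    have hc : g * y = y * g := Subtype.ext (d.hab g g.2 y y.2)
    rw [hc, mul_inv_cancel_right]
  intro B hBn hBp
  rw [eq_bot_iff]
  intro t ht
  have := mem_inn_of_normal_pgroup d.c.hP B hBn hBp t ht
  rw [hInn, Subgroup.mem_bot] at this
  exact Subgroup.mem_bot.mpr (Subtype.ext this)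

theorem AbCtx.syl (d : AbCtx p S A F P x b) :
    ∀ B : Subgroup (MulAut P), B ≤ F.autGroup P → IsPGroup p B → Nat.card B ≤ p := by
  haveI : Finite P := finite_of_le d.c.hPS
  obtain ⟨R, hR⟩ := d.c.sylow
  have hcR : Nat.card (R : Subgroup (F.autGroup P)) ≤ p := by
    rw [hR, Nat.card_congr (Subgroup.subgroupOfEquivOfLe
      (autInducedBy_le_autGroup F d.c.hPS)).toEquiv]
    exact d.c.card_autInduced_le d.hab
  intro B hBA hBp
  have hB' : IsPGroup p (B.subgroupOf (F.autGroup P)) := hBp.comap_subtype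
  obtain ⟨Q, hQ⟩ := hB'.exists_le_sylow
  have hcQ : Nat.card (Q : Subgroup (F.autGroup P)) = Nat.card (R : Subgroup (F.autGroup P)) := by
    rw [Sylow.card_eq_multiplicity, Sylow.card_eq_multiplicity]
  calc Nat.card B = Nat.card (B.subgroupOf (F.autGroup P)) :=
        (Nat.card_congr (Subgroup.subgroupOfEquivOfLe hBA).toEquiv).symm
    _ ≤ Nat.card (Q : Subgroup (F.autGroup P)) := Subgroup.card_le_of_le hQ
    _ = Nat.card (R : Subgroup (F.autGroup P)) := hcQ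
    _ ≤ p := hcR

theorem AbCtx.loc (d : AbCtx p S A F P x b) :
    XsLocal.Loc p (F.autGroup P) d.u ((ZS S).subgroupOf P) d.W where
  comm a b := Subtype.ext (d.hab a a.2 b b.2)
  pgrp := d.c.hS.to_le d.c.hPS
  mem := d.u_mem
  hZ := d.fix_iff
  hW := d.mem_W
  idx := d.hZidx
  le := fun _ hw => Subgroup.mem_subgroupOf.mpr (Z0_le_ZS (d.W_le_Z0 hw))
  syl := d.syl
  opc := d.opc

end ab

section tau

variable {Ω : Type*} [Group Ω] {S A : Subgroup Ω} [Finite S] {p : ℕ} [hp : Fact p.Prime]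
  {F : FusionSystem S} {P : Subgroup Ω} {x b : Ω}

theorem AbCtx.mem_W_iff (d : AbCtx p S A F P x b) (hZ0 : Nat.card (Z0 S) = p) (w : P) :
    w ∈ d.W ↔ (w : Ω) ∈ Z0 S := by
  haveI : Finite P := finite_of_le d.c.hPS
  haveI : Finite (Z0 S) := finite_of_le (Z0_le_ZS.trans ZS_le)
  refine ⟨d.W_le_Z0, fun hw => ?_⟩
  have hle : d.W.map P.subtype ≤ Z0 S := by
    rintro _ ⟨y, hy, rfl⟩
    exact d.W_le_Z0 hy
  have hcard : Nat.card (d.W.map P.subtype) = p := by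
    rw [Subgroup.card_map_of_injective P.subtype_injective]
    exact d.loc.main.1
  have heq : d.W.map P.subtype = Z0 S := by
    apply Subgroup.eq_of_le_of_card_ge hle
    rw [hcard, hZ0]
  rw [← heq] at hw
  obtain ⟨y, hy, hyw⟩ := hw
  have : y = w := Subtype.ext hyw
  rw [← this]
  exact hy

/-- the inverting automorphism of `Z(S)` attached to an abelian essential subgroup
and a moving element -/
theorem AbCtx.exists_tau (d : AbCtx p S A F P x b) (hp2 : p ≠ 2) (hZ0 : Nat.card (Z0 S) = p)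
    {g : MulAut P} (hg : g ∈ F.autGroup P)
    (hmov : ∃ y ∈ (ZS S).subgroupOf P, g y ∉ (ZS S).subgroupOf P) :
    ∃ τ ∈ F.autGroup (ZS S), (∀ z : ZS S, ((τ z * z⁻¹ : ZS S) : Ω) ∈ Z0 S) ∧
      (∀ w : ZS S, (w : Ω) ∈ Z0 S → τ w = w⁻¹) ∧
      ∀ z : ZS S, (τ z = z ↔ ((g⁻¹ ⟨z, d.c.ZS_le_P z.2⟩ : P) : Ω) ∈ ZS S) := by
  haveI : Finite P := finite_of_le d.c.hPS
  obtain ⟨-, -, -, hmain⟩ := d.loc.main
  obtain ⟨-, -, -, -, hodd, -⟩ := hmain g hg hmov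
  obtain ⟨t, htA, ht1, ht2, ht3⟩ := hodd hp2
  have hpres : ∀ y : P, (y : Ω) ∈ ZS S → ((t y : P) : Ω) ∈ ZS S := by
    intro y hy
    have h1 := ht1 y (Subgroup.mem_subgroupOf.mpr hy)
    have h2 := Z0_le_ZS (d.W_le_Z0 h1)
    have h3 := (ZS S).mul_mem h2 hy
    have e : ((t y * y⁻¹ : P) : Ω) * (y : Ω) = ((t y : P) : Ω) := by
      rw [Subgroup.coe_mul, Subgroup.coe_inv, inv_mul_cancel_right]
    rwa [e] at h3
  obtain ⟨τ, hτ, hτt⟩ := exists_restrict F d.c.hPS d.c.ZS_le_P htA hpres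
  refine ⟨τ, hτ, ?_, ?_, ?_⟩
  · intro z
    have h1 := ht1 ⟨z, d.c.ZS_le_P z.2⟩ (Subgroup.mem_subgroupOf.mpr z.2)
    have h2 := d.W_le_Z0 h1
    have e : ((τ z * z⁻¹ : ZS S) : Ω) =
        ((t ⟨z, d.c.ZS_le_P z.2⟩ * (⟨z, d.c.ZS_le_P z.2⟩ : P)⁻¹ : P) : Ω) := by
      rw [Subgroup.coe_mul, Subgroup.coe_mul, hτt z]
      rfl
    rw [e]
    exact h2
  · intro w hw
    have h1 := ht2 ⟨w, d.c.ZS_le_P w.2⟩ ((d.mem_W_iff hZ0 _).mpr hw)
    apply Subtype.ext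
    rw [hτt w, h1]
    rfl
  · intro z
    have h1 := ht3 ⟨z, d.c.ZS_le_P z.2⟩ (Subgroup.mem_subgroupOf.mpr z.2)
    rw [Subgroup.mem_subgroupOf] at h1
    rw [← h1]
    constructor
    · intro h
      apply Subtype.ext
      rw [← hτt z, h]
    · intro h
      apply Subtype.ext
      rw [hτt z, h]

/-- uniqueness of the inverting automorphism of `Z(S)` -/
theorem tau_unique' (hS : IsPGroup p S) (F : FusionSystem S) (hF : F.IsSaturated p)
    {τ₁ τ₂ : MulAut (ZS S)} (h₁ : τ₁ ∈ F.autGroup (ZS S)) (h₂ : τ₂ ∈ F.autGroup (ZS S))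
    (a₁ : ∀ z : ZS S, ((τ₁ z * z⁻¹ : ZS S) : Ω) ∈ Z0 S)
    (b₁ : ∀ w : ZS S, (w : Ω) ∈ Z0 S → τ₁ w = w⁻¹)
    (a₂ : ∀ z : ZS S, ((τ₂ z * z⁻¹ : ZS S) : Ω) ∈ Z0 S)
    (b₂ : ∀ w : ZS S, (w : Ω) ∈ Z0 S → τ₂ w = w⁻¹) : τ₁ = τ₂ := by
  haveI : Finite (ZS S) := finite_of_le ZS_le
  exact XsLocal.inv_unique (fun a b => Subtype.ext (ZS_comm a.2 b.2)) (hS.to_le ZS_le)
    (F.autGroup (ZS S)) (fun φ hφ k hk => autZ_p_elt hS F hF hφ k hk)
    ((Z0 S).subgroupOf (ZS S)) h₁ h₂ (fun z => Subgroup.mem_subgroupOf.mpr (a₁ z))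
    (fun w hw => b₁ w (Subgroup.mem_subgroupOf.mp hw))
    (fun z => Subgroup.mem_subgroupOf.mpr (a₂ z))
    (fun w hw => b₂ w (Subgroup.mem_subgroupOf.mp hw))

theorem mem_fixmap {τ₀ : MulAut (ZS S)} (y : Ω) : y ∈ (fixSub τ₀).map (ZS S).subtype ↔
    ∃ hy : y ∈ ZS S, τ₀ ⟨y, hy⟩ = ⟨y, hy⟩ := by
  constructor
  · rintro ⟨z, hz, rfl⟩
    exact ⟨z.2, hz⟩
  · rintro ⟨hy, h⟩
    exact ⟨⟨y, hy⟩, h, rfl⟩

/-- an automorphism preserving `Z(S)` and `Z(S) ∩ [S,S]` preserves the fixed points of `τ₀` -/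
theorem pres_fix (hS : IsPGroup p S) (F : FusionSystem S) (hF : F.IsSaturated p)
    {τ₀ : MulAut (ZS S)} (hτ₀ : τ₀ ∈ F.autGroup (ZS S))
    (a₀ : ∀ z : ZS S, ((τ₀ z * z⁻¹ : ZS S) : Ω) ∈ Z0 S)
    (b₀ : ∀ w : ZS S, (w : Ω) ∈ Z0 S → τ₀ w = w⁻¹)
    {P : Subgroup Ω} (hPS : P ≤ S) (hZP : ZS S ≤ P) {α : MulAut P} (hα : α ∈ F.autGroup P)
    (hpZ : ∀ y : P, (y : Ω) ∈ ZS S → ((α y : P) : Ω) ∈ ZS S)
    (hpZ0 : ∀ y : P, (y : Ω) ∈ Z0 S → ((α y : P) : Ω) ∈ Z0 S)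
    (y : P) (hy : (y : Ω) ∈ (fixSub τ₀).map (ZS S).subtype) :
    ((α y : P) : Ω) ∈ (fixSub τ₀).map (ZS S).subtype := by
  haveI : Finite (ZS S) := finite_of_le ZS_le
  obtain ⟨hyZ, hfix⟩ := (mem_fixmap _).mp hy
  obtain ⟨β, hβ, hβα⟩ := exists_restrict F hPS hZP hα hpZ
  have hβ0 : ∀ w ∈ (Z0 S).subgroupOf (ZS S), β w ∈ (Z0 S).subgroupOf (ZS S) := by
    intro w hw
    rw [Subgroup.mem_subgroupOf] at hw ⊢
    rw [hβα]
    exact hpZ0 _ hw
  have hβinv : ∀ w : ZS S, (w : Ω) ∈ Z0 S → ((β⁻¹ w : ZS S) : Ω) ∈ Z0 S := by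
    intro w hw
    exact Subgroup.mem_subgroupOf.mp
      (pres_inv _ β hβ0 w (Subgroup.mem_subgroupOf.mpr hw))
  have hτ' : β * τ₀ * β⁻¹ ∈ F.autGroup (ZS S) :=
    Subgroup.mul_mem _ (Subgroup.mul_mem _ hβ hτ₀) (Subgroup.inv_mem _ hβ)
  have a' : ∀ z : ZS S, (((β * τ₀ * β⁻¹) z * z⁻¹ : ZS S) : Ω) ∈ Z0 S := by
    intro z
    have e : (β * τ₀ * β⁻¹) z * z⁻¹ = β (τ₀ (β⁻¹ z) * (β⁻¹ z)⁻¹) := by
      rw [MulAut.mul_apply, MulAut.mul_apply, map_mul, map_inv, MulAut.apply_inv_self]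
    rw [e]
    exact Subgroup.mem_subgroupOf.mp (hβ0 _ (Subgroup.mem_subgroupOf.mpr (a₀ (β⁻¹ z))))
  have b' : ∀ w : ZS S, (w : Ω) ∈ Z0 S → (β * τ₀ * β⁻¹) w = w⁻¹ := by
    intro w hw
    rw [MulAut.mul_apply, MulAut.mul_apply, b₀ _ (hβinv w hw), map_inv, MulAut.apply_inv_self]
  have hcomm := tau_unique' hS F hF hτ' hτ₀ a' b' a₀ b₀
  have hcomm' : β * τ₀ = τ₀ * β := mul_inv_eq_iff_eq_mul.mp hcomm
  have h1 : τ₀ (β ⟨y, hyZ⟩) = β ⟨y, hyZ⟩ := by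
    have := congrArg (fun f : MulAut (ZS S) => f ⟨y, hyZ⟩) hcomm'
    simp only [MulAut.mul_apply] at this
    rw [← this, hfix]
  have h2 : ((α y : P) : Ω) = ((β ⟨y, hyZ⟩ : ZS S) : Ω) := by
    rw [hβα]
  rw [h2]
  exact (mem_fixmap _).mpr ⟨(β ⟨y, hyZ⟩).2, h1⟩

end tau

section nonab

variable {Ω : Type*} [Group Ω] {S A : Subgroup Ω} [Finite S] {p : ℕ} [hp : Fact p.Prime]
  {F : FusionSystem S} {P : Subgroup Ω} {x : Ω}

theorem center_index_le (c : Ctx p S A F P x) (hna : ¬ ∀ a ∈ P, ∀ b ∈ P, a * b = b * a) :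
    (Subgroup.center ↥P).index ≤ p ^ 2 := by
  rw [c.center_eq hna]
  show (ZS S).relIndex P ≤ p ^ 2
  have h1 := Subgroup.relIndex_mul_relIndex (ZS S) (P ⊓ A) P
    (le_inf c.ZS_le_P (c.H.ZS_le c.hS)) inf_le_left
  rw [c.relIndex_ZS_inf hna, Subgroup.inf_relIndex_left,
    c.H.relIndex_of_not_le c.hS c.hPS c.not_le] at h1
  rw [← h1, pow_two]

theorem comm_mem_Z0_of_nonabelian (c : Ctx p S A F P x)
    (hna : ¬ ∀ a ∈ P, ∀ b ∈ P, a * b = b * a) {a b : Ω} (ha : a ∈ P) (hb : b ∈ P) :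
    a * b * a⁻¹ * b⁻¹ ∈ Z0 S := by
  haveI : Finite P := finite_of_le c.hPS
  have h1 := XsGroup.comm_mem_center (c.hS.to_le c.hPS) (center_index_le c hna) ⟨a, ha⟩ ⟨b, hb⟩
  rw [c.center_eq hna, Subgroup.mem_subgroupOf] at h1
  exact ⟨h1, comm_mem_SD (c.hPS ha) (c.hPS hb)⟩

theorem commutator_eq_of_nonabelian (c : Ctx p S A F P x)
    (hna : ¬ ∀ a ∈ P, ∀ b ∈ P, a * b = b * a) (hZ0 : Nat.card (Z0 S) = p) :
    _root_.commutator ↥P = (Z0 S).subgroupOf P := by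
  haveI : Finite P := finite_of_le c.hPS
  have hZ0P : Z0 S ≤ P := Z0_le_ZS.trans c.ZS_le_P
  have hle : _root_.commutator ↥P ≤ (Z0 S).subgroupOf P := by
    rw [commutator_def, Subgroup.commutator_le]
    intro a _ b _
    rw [Subgroup.mem_subgroupOf, commutatorElement_def]
    exact comm_mem_Z0_of_nonabelian c hna a.2 b.2
  have hcardZ : Nat.card ((Z0 S).subgroupOf P) = p := by
    rw [Nat.card_congr (Subgroup.subgroupOfEquivOfLe hZ0P).toEquiv, hZ0]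
  have hdvd : Nat.card (_root_.commutator ↥P) ∣ p := by
    rw [← hcardZ]
    exact Subgroup.card_dvd_of_le hle
  have hne : Nat.card (_root_.commutator ↥P) ≠ 1 := by
    intro h1
    have hbot : _root_.commutator ↥P = ⊥ := Subgroup.card_eq_one.mp h1
    have hc : IsMulCommutative ↥P := (commutator_eq_bot_iff ↥P).mp hbot
    apply hna
    intro a ha b hb
    exact congrArg Subtype.val (hc.is_comm.comm ⟨a, ha⟩ ⟨b, hb⟩)
  apply Subgroup.eq_of_le_of_card_ge hle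
  rw [hcardZ]
  rcases (Nat.dvd_prime hp.out).mp hdvd with h | h
  · exact absurd h hne
  · exact h.ge

theorem aut_Z0_of_nonabelian (c : Ctx p S A F P x)
    (hna : ¬ ∀ a ∈ P, ∀ b ∈ P, a * b = b * a) (hZ0 : Nat.card (Z0 S) = p) (α : MulAut P)
    (y : P) (hy : (y : Ω) ∈ Z0 S) : ((α y : P) : Ω) ∈ Z0 S := by
  have h1 : y ∈ _root_.commutator ↥P := by
    rw [commutator_eq_of_nonabelian c hna hZ0]
    exact Subgroup.mem_subgroupOf.mpr hy
  have h2 := (Subgroup.characteristic_iff_map_le.mp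
    (inferInstance : (_root_.commutator ↥P).Characteristic)) α
  have h3 : α y ∈ _root_.commutator ↥P := h2 ⟨y, h1, rfl⟩
  rw [commutator_eq_of_nonabelian c hna hZ0] at h3
  exact Subgroup.mem_subgroupOf.mp h3

theorem aut_ZS_of_nonabelian (c : Ctx p S A F P x)
    (hna : ¬ ∀ a ∈ P, ∀ b ∈ P, a * b = b * a) (α : MulAut P)
    (y : P) (hy : (y : Ω) ∈ ZS S) : ((α y : P) : Ω) ∈ ZS S := by
  haveI : Finite P := finite_of_le c.hPS
  have h1 : y ∈ Subgroup.center ↥P := by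
    rw [c.center_eq hna]
    exact Subgroup.mem_subgroupOf.mpr hy
  have h3 : α y ∈ Subgroup.center ↥P := XsGroup.aut_mem_center α h1
  rw [c.center_eq hna] at h3
  exact Subgroup.mem_subgroupOf.mp h3

omit [Finite ↥S] hp in
theorem exists_ctx (H : Hyp p S A) (hS : IsPGroup p S) (hF : F.IsSaturated p)
    (hP : F.IsEssential p P) (hPA : P ≠ A) : ∃ x, Ctx p S A F P x := by
  have hPnle : ¬ P ≤ A := by
    intro hle
    apply hPA
    apply le_antisymm hle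
    intro a ha
    apply hP.1.2 P (isConj_refl F hP.1.1)
    exact ⟨H.hAS ha, Subgroup.mem_centralizer_iff.mpr (fun y hy => H.hab y (hle hy) a ha)⟩
  obtain ⟨x, hxP, hxA⟩ : ∃ x ∈ P, x ∉ A := by
    by_contra hcon
    push Not at hcon
    exact hPnle hcon
  exact ⟨x, ⟨H, hS, hF, hP, hxP, hxA⟩⟩

end nonab

section core

variable {Ω : Type*} [Group Ω] {S A : Subgroup Ω} [Finite S] {p : ℕ} [hp : Fact p.Prime]

theorem exists_Z2_not_ZS (hrel : (ZS S).relIndex (Z2S S) = p) : ∃ b ∈ Z2S S, b ∉ ZS S := by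
  by_contra hcon
  push Not at hcon
  have h1 : (ZS S).relIndex (Z2S S) = 1 := Subgroup.relIndex_eq_one.mpr hcon
  rw [hrel] at h1
  exact hp.out.one_lt.ne' h1

/-- the fixed points of the inverting automorphism form a normal subgroup of `F` -/
theorem core_normal (H : Hyp p S A) (hS : IsPGroup p S) (F : FusionSystem S)
    (hF : F.IsSaturated p) (hp2 : p ≠ 2) (hAe : ¬ F.IsEssential p A)
    (hZ2A : Z2S S ≤ A) (hrel : (ZS S).relIndex (Z2S S) = p) (hZ0 : Nat.card (Z0 S) = p)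
    (τ₀ : MulAut (ZS S)) (hτ₀ : τ₀ ∈ F.autGroup (ZS S))
    (a₀ : ∀ z : ZS S, ((τ₀ z * z⁻¹ : ZS S) : Ω) ∈ Z0 S)
    (b₀ : ∀ w : ZS S, (w : Ω) ∈ Z0 S → τ₀ w = w⁻¹) :
    (∀ (P : Subgroup Ω) (x b : Ω) (d : AbCtx p S A F P x b) (g : MulAut P)
      (_ : g ∈ F.autGroup P) (_ : ∃ y ∈ (ZS S).subgroupOf P, g y ∉ (ZS S).subgroupOf P)
      (z : ZS S), (τ₀ z = z ↔ ((g⁻¹ ⟨z, d.c.ZS_le_P z.2⟩ : P) : Ω) ∈ ZS S)) ∧
    F.IsNormal ((fixSub τ₀).map (ZS S).subtype) := by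
  have key : ∀ (P : Subgroup Ω) (x b : Ω) (d : AbCtx p S A F P x b) (g : MulAut P)
      (_ : g ∈ F.autGroup P) (_ : ∃ y ∈ (ZS S).subgroupOf P, g y ∉ (ZS S).subgroupOf P)
      (z : ZS S), (τ₀ z = z ↔ ((g⁻¹ ⟨z, d.c.ZS_le_P z.2⟩ : P) : Ω) ∈ ZS S) := by
    intro P x b d g hg hmov z
    obtain ⟨τ, hτ, a, b', c⟩ := d.exists_tau hp2 hZ0 hg hmov
    have := tau_unique' hS F hF hτ₀ hτ a₀ b₀ a b'
    rw [this]
    exact c z
  refine ⟨key, ?_⟩
  obtain ⟨b₁, hb₁2, hb₁Z⟩ := exists_Z2_not_ZS hrel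
  have hCZ : (fixSub τ₀).map (ZS S).subtype ≤ ZS S := by
    rintro _ ⟨z, -, rfl⟩
    exact z.2
  refine normal_of_invariant hS F hF _ (fun P hP => ?_)
  rcases hP with hPS | hE
  · obtain rfl : S = P := hPS.symm
    refine ⟨hCZ.trans ZS_le, fun α hα y hy => ?_⟩
    exact pres_fix hS F hF hτ₀ a₀ b₀ le_rfl ZS_le hα (fun y hy => aut_ZS α hy)
      (fun y hy => aut_Z0 α hy) y hy
  · have hPA : P ≠ A := by
      rintro rfl
      exact hAe hE
    obtain ⟨x, c⟩ := exists_ctx H hS hF hE hPA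
    haveI : Finite P := finite_of_le c.hPS
    by_cases hab : ∀ a ∈ P, ∀ b ∈ P, a * b = b * a
    swap
    · refine ⟨hCZ.trans c.ZS_le_P, fun α hα y hy => ?_⟩
      exact pres_fix hS F hF hτ₀ a₀ b₀ c.hPS c.ZS_le_P hα (aut_ZS_of_nonabelian c hab α)
        (aut_Z0_of_nonabelian c hab hZ0 α) y hy
    have d : AbCtx p S A F P x b₁ := ⟨c, hab, hb₁2, hb₁Z, hZ2A⟩
    refine ⟨hCZ.trans c.ZS_le_P, fun h hh y hy => ?_⟩
    obtain ⟨hyZ, hfix⟩ := (mem_fixmap _).mp hy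
    by_cases hmovh : ∃ y ∈ (ZS S).subgroupOf P, h y ∉ (ZS S).subgroupOf P
    · have hmovi : ∃ y ∈ (ZS S).subgroupOf P, h⁻¹ y ∉ (ZS S).subgroupOf P := by
        by_contra hcon
        push Not at hcon
        obtain ⟨y₁, hy₁, hy₁'⟩ := hmovh
        have := pres_inv _ h⁻¹ hcon y₁ hy₁
        rw [inv_inv] at this
        exact hy₁' this
      have h1 := (key P x b₁ d h⁻¹ (Subgroup.inv_mem _ hh) hmovi ⟨y, hyZ⟩).mp hfix
      rw [inv_inv] at h1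
      have h2 : ((h y : P) : Ω) ∈ ZS S := h1
      refine (mem_fixmap _).mpr ⟨h2, ?_⟩
      rw [key P x b₁ d h hh hmovh ⟨_, h2⟩]
      have e : (⟨((h y : P) : Ω), d.c.ZS_le_P h2⟩ : P) = h y := rfl
      rw [e, MulAut.inv_apply_self]
      exact hyZ
    · push Not at hmovh
      obtain ⟨-, -, ⟨g, hg, hmovg⟩, -⟩ := d.loc.main
      have hmovhg : ∃ y ∈ (ZS S).subgroupOf P, (h * g) y ∉ (ZS S).subgroupOf P := by
        obtain ⟨y₀, hy₀, hgy₀⟩ := hmovg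
        refine ⟨y₀, hy₀, fun hcon => hgy₀ ?_⟩
        have := pres_inv _ h hmovh _ hcon
        rwa [MulAut.mul_apply, MulAut.inv_apply_self] at this
      have h1 := (key P x b₁ d g hg hmovg ⟨y, hyZ⟩).mp hfix
      have h2 : ((h y : P) : Ω) ∈ ZS S :=
        Subgroup.mem_subgroupOf.mp (hmovh y (Subgroup.mem_subgroupOf.mpr hyZ))
      refine (mem_fixmap _).mpr ⟨h2, ?_⟩
      rw [key P x b₁ d (h * g) (Subgroup.mul_mem _ hh hg) hmovhg ⟨_, h2⟩]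
      have e : (⟨((h y : P) : Ω), d.c.ZS_le_P h2⟩ : P) = h y := rfl
      rw [e, mul_inv_rev, MulAut.mul_apply, MulAut.inv_apply_self]
      exact h1

end core

section supz

variable {Ω : Type*} [Group Ω] {S : Subgroup Ω}

theorem ZS_sup_zpowers_comm {y : Ω} (hyS : y ∈ S) :
    ∀ a ∈ ZS S ⊔ Subgroup.zpowers y, ∀ b ∈ ZS S ⊔ Subgroup.zpowers y, a * b = b * a := by
  obtain ⟨B, hB⟩ : ∃ B : Subgroup Ω, B = ZS S ⊔ Subgroup.zpowers y := ⟨_, rfl⟩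
  rw [← hB]
  have hBS : B ≤ S := by
    rw [hB]
    exact sup_le ZS_le (Subgroup.zpowers_le.mpr hyS)
  have hBc : B ≤ Subgroup.centralizer (B : Set Ω) := by
    have h1 : ZS S ≤ Subgroup.centralizer (B : Set Ω) := by
      intro z hz
      rw [Subgroup.mem_centralizer_iff]
      intro b hb
      exact (mem_ZS.mp hz).2 b (hBS hb)
    have h2 : B ≤ Subgroup.centralizer ({y} : Set Ω) := by
      rw [hB]
      refine sup_le (fun z hz => ?_) (Subgroup.zpowers_le.mpr ?_)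
      · rw [Subgroup.mem_centralizer_iff]
        rintro _ rfl
        exact ((mem_ZS.mp hz).2 _ hyS)
      · rw [Subgroup.mem_centralizer_iff]
        rintro _ rfl
        rfl
    have h3 : y ∈ Subgroup.centralizer (B : Set Ω) := by
      rw [Subgroup.mem_centralizer_iff]
      intro b hb
      have := Subgroup.mem_centralizer_iff.mp (h2 hb) y rfl
      exact this.symm
    calc B = ZS S ⊔ Subgroup.zpowers y := hB
      _ ≤ Subgroup.centralizer (B : Set Ω) := sup_le h1 (Subgroup.zpowers_le.mpr h3)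
  intro a ha b hb
  exact (Subgroup.mem_centralizer_iff.mp (hBc hb) a ha)

end supz

end Cfsg.Agent.Lib.Helper27.AiCore
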