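import Mathlib
import Cfsg.Agent.S5082

/-!
# An order-aware form of the Alperin–Goldschmidt theorem, and the subsystem preserving a subgroup

* `alperin_above`: if a fusion system `E` over `S` contains `Aut_F(P)` for `P = S` and every
  essential `P` of order larger than `m`, then `E` contains every map of `F` whose source has
  order larger than `m`.
* `presSys F N hN`: the maps `φ` of `F` with `x ∈ N ↔ φ x ∈ N`, for `N` normalized by `S`.
-/

set_option autoImplicit false

namespace Cfsg.Agent.Lib.Helper27.AlperinOrd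

open Cfsg Cfsg.FusionSystem Cfsg.Agent.Lib.Helper26 Cfsg.Agent.S5082

variable {Ω : Type*} [Group Ω] {S : Subgroup Ω}

theorem autGroup_le_of_ih_above [Finite S] (p : ℕ) [Fact p.Prime]
    (hS : IsPGroup p S) (F : FusionSystem S) (hF : F.IsSaturated p) (E : FusionSystem S) (m : ℕ)
    (hE : ∀ P : Subgroup Ω, (P = S ∨ F.IsEssential p P) → m < Nat.card P →
      F.autGroup P ≤ E.autGroup P)
    {P : Subgroup Ω} (hPn : F.IsFullyNormalized P) (hne : P ≠ S) (hm : m < Nat.card P)
    (ih : ∀ Q : Subgroup Ω, Q ≤ S → Nat.card P < Nat.card Q → F.Hom Q ⊆ E.Hom Q) :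
    F.autGroup P ≤ E.autGroup P := by
  by_cases hess : F.IsEssential p P
  · exact hE P (Or.inr hess) hm
  · refine (autGroup_le_closure_extGen hS F hF hPn hne hess).trans ?_
    refine (Subgroup.closure_le _).mpr ?_
    rintro α ⟨Q, hPQ, ψ, hψ, h⟩
    have hQS : Q ≤ S := source_le F hψ
    have hfinQ : Finite Q := finite_of_le hQS
    have hψE : ψ ∈ E.Hom Q := ih Q hQS (card_lt_card_of_lt hPQ) hψ
    exact extGen_subset_autGroup E P ⟨Q, hPQ, ψ, hψE, h⟩

theorem alperin_above_aux [Finite S] (p : ℕ) [Fact p.Prime]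
    (hS : IsPGroup p S) (F : FusionSystem S) (hF : F.IsSaturated p) (E : FusionSystem S) (m : ℕ)
    (hE : ∀ P : Subgroup Ω, (P = S ∨ F.IsEssential p P) → m < Nat.card P →
      F.autGroup P ≤ E.autGroup P) :
    ∀ (n : ℕ) (P : Subgroup Ω), P ≤ S → m < Nat.card P → Nat.card S - Nat.card P = n →
      F.Hom P ⊆ E.Hom P := by
  intro n
  induction n using Nat.strong_induction_on with
  | _ n ih =>
    intro P hPS hmP hn
    have ih' : ∀ Q : Subgroup Ω, Q ≤ S → Nat.card P < Nat.card Q → F.Hom Q ⊆ E.Hom Q := by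
      intro Q hQS hlt
      have hQc : Nat.card Q ≤ Nat.card S := card_le_card_of_le_of_finite hQS
      exact ih (Nat.card S - Nat.card Q) (by omega) Q hQS (by omega) rfl
    by_cases hne : P = S
    · subst hne
      exact hom_top_subset F E (hE P (Or.inl rfl) hmP)
    · intro φ hφ
      have hPlt : Nat.card P < Nat.card S := card_lt_of_ne hPS hne
      obtain ⟨eφ, heφ, heφx⟩ := exists_iso_of_hom F hφ rfl
      have hRS : φ.range ≤ S := range_le F hφ
      have hRcard : Nat.card φ.range = Nat.card P := (Nat.card_congr eφ.toEquiv).symm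
      have hRne : φ.range ≠ S := ne_top_of_card_lt (by omega)
      obtain ⟨T, hPT, hTn⟩ := exists_fullyNormalized_conj F hPS
      have hTS : T ≤ S := hTn.1
      have hTcard : Nat.card T = Nat.card P := (card_eq_of_isConj F hPT).symm
      have hTne : T ≠ S := ne_top_of_card_lt (by omega)
      obtain ⟨-, hTa, hTr⟩ := saturated_fullyNormalized hS F hF hTn
      obtain ⟨N₁⟩ := nonempty_normalizerHom hS F hTa hTr hPT
      have hRT : F.IsConj φ.range T := isConj_trans F (isConj_symm F heφ.isConj) hPT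
      obtain ⟨N₂⟩ := nonempty_normalizerHom hS F hTa hTr hRT
      have hfinNP : Finite ↥(normalizerIn S P) := finite_of_le inf_le_left
      have hfinNR : Finite ↥(normalizerIn S φ.range) := finite_of_le inf_le_left
      have hN₁E : N₁.φ ∈ E.Hom (normalizerIn S P) :=
        ih' (normalizerIn S P) inf_le_left (card_lt_card_of_lt (lt_normalizerIn hS hPS hne)) N₁.mem
      have hN₂E : N₂.φ ∈ E.Hom (normalizerIn S φ.range) :=
        ih' (normalizerIn S φ.range) inf_le_left (by
          have := card_lt_card_of_lt (lt_normalizerIn hS hRS hRne)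
          omega) N₂.mem
      obtain ⟨e₁, he₁, he₁x⟩ := exists_iso_of_hom F (N₁.restrictQ_mem hPS) (N₁.restrictQ_range hPS)
      obtain ⟨e₂, he₂, he₂x⟩ := exists_iso_of_hom F (N₂.restrictQ_mem hRS) (N₂.restrictQ_range hRS)
      have he₁E : IsIso E e₁ :=
        mem_of_forall_eq E (restrict_mem E hN₁E (le_normalizerIn_self hPS)) (fun x => he₁x x)
      have he₂E : IsIso E e₂ :=
        mem_of_forall_eq E (restrict_mem E hN₂E (le_normalizerIn_self hRS)) (fun x => he₂x x)
      have hαF : IsIso F (e₁.symm.trans (eφ.trans e₂)) := he₁.symm.trans (heφ.trans he₂)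
      have hle : F.autGroup T ≤ E.autGroup T :=
        autGroup_le_of_ih_above p hS F hF E m hE hTn hTne (by omega)
          (fun Q hQS hlt => ih' Q hQS (by omega))
      have hαE : IsIso E (e₁.symm.trans (eφ.trans e₂)) :=
        (isIso_iff_mem_autGroup E hTS _).mpr (hle ((isIso_iff_mem_autGroup F hTS _).mp hαF))
      have hfin : IsIso E (e₁.trans ((e₁.symm.trans (eφ.trans e₂)).trans e₂.symm)) :=
        he₁E.trans (hαE.trans he₂E.symm)
      refine mem_of_forall_eq E hfin (fun x => ?_)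
      rw [← heφx x]
      simp

theorem alperin_above [Finite S] (p : ℕ) [Fact p.Prime]
    (hS : IsPGroup p S) (F : FusionSystem S) (hF : F.IsSaturated p) (E : FusionSystem S) (m : ℕ)
    (hE : ∀ P : Subgroup Ω, (P = S ∨ F.IsEssential p P) → m < Nat.card P →
      F.autGroup P ≤ E.autGroup P)
    (P : Subgroup Ω) (hPS : P ≤ S) (hm : m < Nat.card P) : F.Hom P ⊆ E.Hom P :=
  alperin_above_aux p hS F hF E m hE _ P hPS hm rfl

/-- the maps of `F` that preserve membership in `N` -/
def presSys (F : FusionSystem S) (N : Subgroup Ω)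
    (hN : ∀ s ∈ S, ∀ x : Ω, x ∈ N ↔ s * x * s⁻¹ ∈ N) : FusionSystem S where
  Hom P := {φ | φ ∈ F.Hom P ∧ ∀ x : P, (x : Ω) ∈ N ↔ φ x ∈ N}
  le_of_mem h := F.le_of_mem h.1
  injective_of_mem h := F.injective_of_mem h.1
  conj_mem hP hg := ⟨F.conj_mem hP hg, fun x => hN _ hg x⟩
  comp_mem hφ hψ h := ⟨F.comp_mem hφ.1 hψ.1 h, fun x => (hφ.2 x).trans (hψ.2 ⟨_, h x⟩)⟩
  inv_mem hφ := by
    obtain ⟨ψ, hψ, hx⟩ := F.inv_mem hφ.1
    refine ⟨ψ, ⟨hψ, ?_⟩, hx⟩
    rintro ⟨_, x, rfl⟩
    rw [hx]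
    exact (hφ.2 x).symm

theorem mem_presSys (F : FusionSystem S) (N : Subgroup Ω)
    (hN : ∀ s ∈ S, ∀ x : Ω, x ∈ N ↔ s * x * s⁻¹ ∈ N) {P : Subgroup Ω} {φ : P →* Ω} :
    φ ∈ (presSys F N hN).Hom P ↔ φ ∈ F.Hom P ∧ ∀ x : P, (x : Ω) ∈ N ↔ φ x ∈ N := Iff.rfl

end Cfsg.Agent.Lib.Helper27.AlperinOrd
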