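import Mathlib
import Cfsg.Agent.Lib.Lead.BCG.Defs

set_option autoImplicit false

/-!
# Project BCG (designer lead), row A12 (helper27): cut an isometry down to an invariant nondegenerate subspace
(`y' = y` on `M`, `1` on `M^⊥`).
-/

namespace Cfsg.Agent.Lib.Lead.BCG

open Polynomial Module Matrix Cfsg.Agent.Lib.Helper13.S5955 Cfsg.Agent.Lib.helper15.S5972
  Cfsg.Agent.Lib.Helper18.ONE Cfsg.Agent.Lib.Lead.BCS

/-- the complement statement used in A12: a subspace on which a symmetric form is nondegenerate is a complement of its orthogonal -/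
theorem bcga12_compl {F : Type*} [Field F] {V : Type*} [AddCommGroup V] [Module F V]
    [FiniteDimensional F V] (B : LinearMap.BilinForm F V) (hsymm : ∀ u v, B u v = B v u)
    (M : Submodule F V) (hMnd : SND B M) : IsCompl M (B.orthogonal M) := by
  have hrefl : B.IsRefl := fun u v h => by rw [hsymm]; exact h
  have hndM : (LinearMap.BilinForm.restrict B M).Nondegenerate := by
    have hl : ∀ u : M, (∀ v : M, LinearMap.BilinForm.restrict B M u v = 0) → u = 0 := by
      intro u hu
      apply Subtype.ext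
      exact hMnd u.1 u.2 (fun v hv => hu ⟨v, hv⟩)
    refine ⟨hl, ?_⟩
    intro u hu
    refine hl u (fun v => ?_)
    have := hu v
    change B (v : V) (u : V) = 0 at this
    change B (u : V) (v : V) = 0
    rw [hsymm]; exact this
  exact LinearMap.BilinForm.isCompl_orthogonal_of_restrict_nondegenerate hrefl hndM

/-- A12 [M]: `V = M ⊕ M^⊥`, `y' = y` on `M`, `1` on `M^⊥`. -/
theorem o_cut {F : Type*} [Field F] {V : Type*} [AddCommGroup V] [Module F V]
    [FiniteDimensional F V] {r : ℕ} {B : LinearMap.BilinForm F V} {y : Module.End F V}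
    (h : OCtx r B y) (M : Submodule F V) (hM : SInv y M) (hMnd : SND B M) :
    ∃ y' : Module.End F V, OCtx r B y' ∧ (∀ v ∈ M, y' v = y v) ∧
      ∀ v ∈ B.orthogonal M, y' v = v := by
  have hc : IsCompl M (B.orthogonal M) := bcga12_compl B h.symm M hMnd
  set x : Module.End F V :=
    LinearMap.ofIsCompl hc (y ∘ₗ M.subtype) (B.orthogonal M).subtype with hx
  have hxM : ∀ m ∈ M, x m = y m := by
    intro m hm
    have := LinearMap.ofIsCompl_left_apply hc (φ := y ∘ₗ M.subtype)
      (ψ := (B.orthogonal M).subtype) ⟨m, hm⟩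
    exact this
  have hxO : ∀ m' ∈ B.orthogonal M, x m' = m' := by
    intro m' hm'
    have := LinearMap.ofIsCompl_right_apply hc (φ := y ∘ₗ M.subtype)
      (ψ := (B.orthogonal M).subtype) ⟨m', hm'⟩
    exact this
  have hdec : ∀ v : V, ∃ m ∈ M, ∃ m' ∈ B.orthogonal M, v = m + m' := by
    intro v
    have hv : v ∈ M ⊔ B.orthogonal M := by rw [hc.sup_eq_top]; exact Submodule.mem_top
    obtain ⟨m, hm, m', hm', rfl⟩ := Submodule.mem_sup.mp hv
    exact ⟨m, hm, m', hm', rfl⟩
  have horth : ∀ m ∈ M, ∀ m' ∈ B.orthogonal M, B m m' = 0 := by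
    intro m hm m' hm'
    exact (LinearMap.BilinForm.mem_orthogonal_iff.mp hm') m hm
  have horth' : ∀ m ∈ M, ∀ m' ∈ B.orthogonal M, B m' m = 0 := by
    intro m hm m' hm'
    rw [h.symm]; exact horth m hm m' hm'
  have hpow : ∀ k : ℕ, ∀ m ∈ M, ∀ m' ∈ B.orthogonal M,
      (x ^ k) (m + m') = (y ^ k) m + m' := by
    intro k
    induction k with
    | zero =>
      intro m _ m' _
      simp
    | succ k ih =>
      intro m hm m' hm'
      rw [pow_succ, pow_succ, Module.End.mul_apply, Module.End.mul_apply, map_add, hxM m hm,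
        hxO m' hm']
      exact ih (y m) (hM m hm) m' hm'
  refine ⟨x, ⟨h.symm, h.nd, ?_, ?_⟩, hxM, hxO⟩
  · intro u v
    obtain ⟨m, hm, m', hm', rfl⟩ := hdec u
    obtain ⟨k, hk, k', hk', rfl⟩ := hdec v
    have e1 : x (m + m') = y m + m' := by rw [map_add, hxM m hm, hxO m' hm']
    have e2 : x (k + k') = y k + k' := by rw [map_add, hxM k hk, hxO k' hk']
    rw [e1, e2]
    simp only [map_add, LinearMap.add_apply]
    rw [h.pres, horth (y m) (hM m hm) k' hk', horth' (y k) (hM k hk) m' hm', horth m hm k' hk',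
      horth' k hk m' hm']
  · apply LinearMap.ext
    intro v
    obtain ⟨m, hm, m', hm', rfl⟩ := hdec v
    rw [hpow r m hm m' hm', h.pow]
    simp

end Cfsg.Agent.Lib.Lead.BCG
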