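import Mathlib
import Cfsg.Agent.Lib.Lead.BCG.Defs
import Cfsg.Agent.Lib.Helper22.BCSB12
import Cfsg.Agent.Lib.Helper9.BCSA2
import Cfsg.Agent.Lib.helper15.S5972STDCTX

set_option autoImplicit false

/-!
# Project BCG (designer lead), row O6 (helper27): the type condition for an involution of `Ω` whose `(-1)`-eigenspace is
the `2n`-dimensional `cycS s y`.
-/

namespace Cfsg.Agent.Lib.Lead.BCG

open Polynomial Module Matrix Cfsg.Agent.Lib.Helper13.S5955 Cfsg.Agent.Lib.helper15.S5972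
  Cfsg.Agent.Lib.Helper18.ONE Cfsg.Agent.Lib.Lead.BCS

/-- `2 ≠ 0` in a field of odd cardinality -/
theorem bcgo6_two_ne {F : Type*} [Field F] [Fintype F] (hodd : Odd (Fintype.card F)) :
    (2 : F) ≠ 0 := by
  intro h
  have := (Cfsg.Agent.S0246.two_eq_zero_iff (F := F)).1 h
  exact (Nat.not_even_iff_odd.2 hodd) this

/-- O6 [M]: spare copy (same statement as the Skel row; the verbatim row `o_type_cond` is Helper16.BCGO6) -/
theorem bcgo6_h27 {F : Type*} [Field F] [Fintype F] {p : ℕ} [Fact p.Prime] [CharP F p]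
    (hodd : Odd (Fintype.card F)) (n : ℕ) (hn : 1 ≤ n) (s : ℕ) [Fact s.Prime] (hsp : s ≠ p)
    (hs2 : s ≠ 2) (Z Y : GL (Unit ⊕ (Fin n ⊕ Fin n)) F)
    (hZ : Z ∈ Cfsg.Geo.omegaGL (Cfsg.quadFormOdd n F)) (hZ2 : Z ^ 2 = 1)
    (hY : Y ∈ Cfsg.isometryGroup F (Cfsg.quadFormOdd n F)) (hYs : Y ^ s = 1)
    (heq : cycS 2 (Matrix.toLin'
        (Z : Matrix (Unit ⊕ (Fin n ⊕ Fin n)) (Unit ⊕ (Fin n ⊕ Fin n)) F)) =
      cycS s (Matrix.toLin' (Y : Matrix (Unit ⊕ (Fin n ⊕ Fin n)) (Unit ⊕ (Fin n ⊕ Fin n)) F)))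
    (hdim : finrank F (cycS s (Matrix.toLin'
      (Y : Matrix (Unit ⊕ (Fin n ⊕ Fin n)) (Unit ⊕ (Fin n ⊕ Fin n)) F))) = 2 * n)
    (hc : cOf (Fintype.card F) s = 2 * n) :
    (Odd (orderOf ((Fintype.card F : ℕ) : ZMod s)) ↔ Fintype.card F ^ n % 4 = 1) := by
  have h2 : (2 : F) ≠ 0 := bcgo6_two_ne hodd
  obtain ⟨_, hB12⟩ := bcs_invol_omega_ty hodd n Z hZ hZ2
  have hctx := std_octx h2 n s Y hY hYs
  obtain ⟨hA2a, hA2b⟩ := bcs_cyc_ty (p := p) h2 hsp hs2 hctx n hn hdim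
  have hdimZ : finrank F (cycS 2 (Matrix.toLin'
      (Z : Matrix (Unit ⊕ (Fin n ⊕ Fin n)) (Unit ⊕ (Fin n ⊕ Fin n)) F))) / 2 = n := by
    rw [heq, hdim]; omega
  rw [hdimZ] at hB12
  rcases ordc_of_cof hc with h | ⟨h, ho⟩
  · have hty := hA2a h
    rw [← heq] at hty
    have := hB12 (-1) (Or.inr rfl) hty
    constructor
    · intro hoo
      rw [h] at hoo
      exact absurd hoo (Nat.not_odd_iff_even.mpr ⟨n, by ring⟩)
    · intro hq
      exact absurd (this.mpr hq) (by norm_num)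
  · have hty := hA2b h
    rw [← heq] at hty
    have := hB12 1 (Or.inl rfl) hty
    constructor
    · intro _
      exact this.mp rfl
    · intro _
      rw [h]; exact ho

end Cfsg.Agent.Lib.Lead.BCG
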