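import Mathlib
import Cfsg.Agent.Lib.Helper21.BSQ.Defs
import Cfsg.Agent.Lib.Helper11.BSQA6
import Cfsg.Agent.Lib.Helper9.BSQA8
import Cfsg.Agent.Lib.Helper27.BSQB7core

/-!
# BSQ row B7: `conj_sylow_case` (verbatim from `Helper21/BSQ/Skel.lean.txt`) = `bsqb7_core` on the landed A6, A8.
-/

set_option autoImplicit false

namespace Cfsg.Agent.Lib.Helper21.BSQ

universe u

variable {G : Type u} [Group G]

/-- B7 [M] (cites A6 A8). `C := centralizer H'`; `S' ≤ C` and `g S g⁻¹ ≤ C` (`(g s g⁻¹)(g h g⁻¹) = (g h g⁻¹)(g s g⁻¹)`); A6 gives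
`c ∈ C` with `S' = c (g S g⁻¹) c⁻¹`; `c H' c⁻¹ = H'`; A8 with `g' := c * g`. -/
theorem conj_sylow_case [Finite G] (p : ℕ) [Fact p.Prime] (A B S H S' H' : Subgroup G)
    (hS : S ≤ A) (hH : H ≤ A) (hA : ∀ a ∈ A, ∃ s ∈ S, ∃ h ∈ H, a = s * h) (hS' : S' ≤ B)
    (hH' : H' ≤ B) (hB : ∀ b ∈ B, ∃ s ∈ S', ∃ h ∈ H', b = s * h)
    (hSH : ∀ h ∈ H, ∀ s ∈ S, h * s = s * h) (hSH' : ∀ h ∈ H', ∀ s ∈ S', h * s = s * h)
    (hcS : Nat.card ↥S = p ^ (Nat.card G).factorization p)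
    (hcS' : Nat.card ↥S' = p ^ (Nat.card G).factorization p) (g : G)
    (hg : H' = H.map (MulAut.conj g).toMonoidHom) :
    ∃ g' : G, B = A.map (MulAut.conj g').toMonoidHom :=
  bsqb7_core p (fun C S T => sylow_conj_in p C S T)
    (fun A B S H S' H' => prod_conj A B S H S' H')
    A B S H S' H' hS hH hA hS' hH' hB hSH hSH' hcS hcS' g hg

end Cfsg.Agent.Lib.Helper21.BSQ
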