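import Mathlib
import Cfsg.Agent.Lib.Helper21.BSQ.Defs
import Cfsg.Agent.Lib.Helper20.BSQA2
import Cfsg.Agent.Lib.Helper22.BSQA3
import Cfsg.Agent.Lib.Helper11.BSQA7
import Cfsg.Agent.Lib.Helper13.BSQB1
import Cfsg.Agent.Lib.Helper13.BSQB2
import Cfsg.Agent.Lib.helper8.BSQB3
import Cfsg.Agent.Lib.helper23.BSQB4
import Cfsg.Agent.Lib.helper23.BSQB6
import Cfsg.Agent.Lib.Helper27.BSQB7
import Cfsg.Agent.Lib.Helper27.BSQB8core

/-!
# BSQ row B8: `conj_of_dvd` (verbatim from `Helper21/BSQ/Skel.lean.txt`) = `bsqb8_core` on the landed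
A2 A3 A7 B1 B2 B3 B4 B6 B7.
-/

set_option autoImplicit false

namespace Cfsg.Agent.Lib.Helper21.BSQ

universe u

variable {G : Type u} [Group G]

/-- B8 [M-L] (cites A2 A3 A7 B1 B2 B3 B4 B6 B7).  `A B` the comaps, `|A| = p |A'| = |B|`; B1 twice: `(S, H)`, `(S', H')`; A7 (with
`|S| = p ^ a`, `IsPGroup.iff_card`): `|S| = |S'|`, `|H| = |H'|`; `p ^ 2 ∣ |A|` so `N ≠ S`, `N ≠ S'`; `hst` for both.
`H` centralises `S`: for `h ∈ H`, `orderOf h ∣ |H|` is prime to `p`; `h` centralises `N` by B3 (`S` cyclic) or B4 (`p = 2`); B2.  If `S` or `S'` has the Sylow order, both have: `hB` on `H, H'` and B7.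
Otherwise both are cyclic: `A B` commutative by B6, `hB`.  End with A2. -/
theorem conj_of_dvd [Finite G] (hB : IsBStar G) (p : ℕ) [Fact p.Prime] (N : Subgroup G)
    [N.Normal] (hN : Nat.card ↥N = p)
    (hst : ∀ S : Subgroup G, IsPGroup p ↥S → N ≤ S → N ≠ S →
      (∀ x ∈ S, ∀ y ∈ S, x * y * x⁻¹ * y⁻¹ ∈ N) →
      IsCyclic ↥S ∨ (p = 2 ∧ Nat.card ↥S = 2 ^ (Nat.card G).factorization 2))
    (A' B' : Subgroup (G ⧸ N)) (hA' : IsMulCommutative ↥A') (hB' : IsMulCommutative ↥B')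
    (hc : Nat.card ↥A' = Nat.card ↥B') (hdvd : p ∣ Nat.card ↥A') :
    ∃ g : G ⧸ N, B' = A'.map (MulAut.conj g).toMonoidHom :=
  bsqb8_core hB p N hN (descent N) (fun A' hA' => comap_facts N A' hA')
    (fun h hm hm' => arith_split (Fact.out : p.Prime) h hm hm')
    (fun A hNA hA => decomp p N hN A hNA hA)
    (fun S h hfin hh hc hhN =>
      cent_of_coprime p N S (IsPGroup.of_card (n := 1) (by rw [hN, pow_one])) h hfin hh hc hhN)
    (fun S hNS hne hS hSp h hc => cent_N_of_cyclic p N S hN hNS hne hS hSp h hc)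
    (central_of_card_two N)
    (fun S H A => prod_abelian S H A)
    (fun A B S H S' H' => conj_sylow_case p A B S H S' H')
    hst A' B' hA' hB' hc hdvd

end Cfsg.Agent.Lib.Helper21.BSQ
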