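import Mathlib
import Cfsg.Prelude.Def_Characters
import Cfsg.Prelude.Def_Blocks
import Cfsg.Agent.Lib.Helper25.CharLinear
import Cfsg.Agent.Lib.Helper29.LeoOrbit
import Cfsg.Agent.Lib.helper7.BR.Defs

/-!
# Project BT3 (S4501), piece NO3 : `3 ∤ |C_G(t)|`  (verbatim vs `BT3/Skel`)
-/

set_option autoImplicit false
set_option linter.unusedVariables false
set_option linter.unusedSectionVars false

namespace Cfsg.Agent.Lib.Helper13.BT3

open Classical
open scoped ComplexConjugate
open Cfsg.Agent.Lib.Helper25 Cfsg.Agent.Lib.Helper29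
open Cfsg.Agent.Lib.helper7.BR

universe u

variable {G : Type u} [Group G] [Fintype G]

/-- NO3 : `3 ∤ |C_G(t)|` (Cauchy: `y ∈ C_G(t)` of order `3`; `⟨y⟩` is a Sylow `3`-subgroup, `y = g x g⁻¹` with
`x ∈ P ∖ 1`; `g⁻¹ t g ∈ C_G(x) = C_G(P) = P` has order `2`) -/
theorem three_not_dvd_cent (P : Sylow 3 G) (hP : Nat.card ↥(P : Subgroup G) = 3)
    (hcen : cen P = (P : Subgroup G)) (t : G) (ht1 : t ≠ 1) (ht2 : t * t = 1) :
    ¬ 3 ∣ Nat.card ↥(Subgroup.centralizer ({t} : Set G)) := by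
  intro hdvd
  haveI : Fact (Nat.Prime 3) := ⟨Nat.prime_three⟩
  -- an element of order 3 in the centraliser
  obtain ⟨y, hy⟩ := exists_prime_orderOf_dvd_card' (G := ↥(Subgroup.centralizer ({t} : Set G))) 3 hdvd
  have hyt : (y : G) * t = t * (y : G) := by
    have := y.2
    rw [Subgroup.mem_centralizer_iff] at this
    exact (this t (Set.mem_singleton t)).symm
  have hyord : orderOf (y : G) = 3 := by
    rw [← hy]
    exact (Subgroup.orderOf_coe y)
  -- `⟨y⟩` lies in a conjugate of `P`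
  have hpg : IsPGroup 3 (Subgroup.zpowers (y : G)) := by
    apply IsPGroup.of_card (n := 1)
    rw [Nat.card_zpowers, hyord, pow_one]
  obtain ⟨Q, hQ⟩ := hpg.exists_le_sylow
  obtain ⟨g, hg⟩ := MulAction.exists_smul_eq G P Q
  have hyQ : (y : G) ∈ (Q : Subgroup G) := hQ (Subgroup.mem_zpowers _)
  rw [← hg, Sylow.coe_subgroup_smul, Subgroup.mem_pointwise_smul_iff_inv_smul_mem] at hyQ
  rw [MulAut.smul_def, MulAut.conj_inv_apply] at hyQ
  -- `x = g⁻¹ y g ∈ P`, `x ≠ 1`
  set x : G := g⁻¹ * (y : G) * g with hx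
  have hx1 : x ≠ 1 := by
    intro h
    have hy1 : (y : G) = 1 := by
      have : (y : G) = g * x * g⁻¹ := by rw [hx]; group
      rw [this, h]; group
    rw [hy1, orderOf_one] at hyord
    omega
  -- `P = ⟨x⟩`
  have hPx : ∀ z ∈ (P : Subgroup G), ∃ k : ℕ, z = x ^ k := by
    intro z hz
    have hord : orderOf (⟨x, hyQ⟩ : ↥(P : Subgroup G)) = 3 := by
      have h1 : orderOf (⟨x, hyQ⟩ : ↥(P : Subgroup G)) ∣ 3 := by
        have h0 := orderOf_dvd_natCard (⟨x, hyQ⟩ : ↥(P : Subgroup G))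
        rw [hP] at h0
        exact h0
      rcases (Nat.dvd_prime Nat.prime_three).mp h1 with h | h
      · exfalso
        rw [orderOf_eq_one_iff] at h
        exact hx1 (congrArg Subtype.val h)
      · exact h
    have hgen : ∀ w : ↥(P : Subgroup G), w ∈ Subgroup.zpowers (⟨x, hyQ⟩ : ↥(P : Subgroup G)) := by
      have htop : Subgroup.zpowers (⟨x, hyQ⟩ : ↥(P : Subgroup G)) = ⊤ := by
        apply Subgroup.eq_top_of_card_eq
        rw [Nat.card_zpowers, hord, hP]
      intro w; rw [htop]; exact Subgroup.mem_top w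
    have := hgen ⟨z, hz⟩
    rw [← mem_powers_iff_mem_zpowers] at this
    obtain ⟨k, hk⟩ := this
    refine ⟨k, ?_⟩
    have := congrArg Subtype.val hk
    simpa using this.symm
  -- `t' = g⁻¹ t g` centralises `P`
  set t' : G := g⁻¹ * t * g with ht'
  have ht'x : t' * x = x * t' := by
    rw [ht', hx]
    have : g⁻¹ * t * g * (g⁻¹ * (y : G) * g) = g⁻¹ * (t * (y : G)) * g := by group
    rw [this, ← hyt]; group
  have ht'P : t' ∈ cen P := by
    rw [Subgroup.mem_centralizer_iff]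
    intro z hz
    obtain ⟨k, rfl⟩ := hPx z hz
    have hc : Commute t' x := ht'x
    exact ((hc.pow_right k).eq).symm
  rw [hcen] at ht'P
  -- order of `t'` divides `2` and `3`
  have h2 : t' * t' = 1 := by
    rw [ht']
    have : g⁻¹ * t * g * (g⁻¹ * t * g) = g⁻¹ * (t * t) * g := by group
    rw [this, ht2]; group
  have h3 : t' ^ 3 = 1 := by
    have h1 : (⟨t', ht'P⟩ : ↥(P : Subgroup G)) ^ 3 = 1 := by
      have h0 : (⟨t', ht'P⟩ : ↥(P : Subgroup G)) ^ Nat.card ↥(P : Subgroup G) = 1 := pow_card_eq_one'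
      rw [hP] at h0
      exact h0
    have := congrArg Subtype.val h1
    simpa using this
  have ht'1 : t' = 1 := by
    have : t' ^ 3 = t' * (t' * t') := by rw [pow_succ, pow_two]; group
    rw [this, h2, mul_one] at h3
    exact h3
  apply ht1
  have : t = g * t' * g⁻¹ := by rw [ht']; group
  rw [this, ht'1]; group

end Cfsg.Agent.Lib.Helper13.BT3
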