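import Mathlib
import Cfsg.Agent.Lib.Helper22.C3L.Defs
import Cfsg.Agent.Lib.Helper10.C3LR2M3

set_option autoImplicit false
set_option linter.unusedVariables false
set_option linter.unusedSectionVars false
set_option linter.unusedSimpArgs false

/-!
# Project C3L (leader helper22) -> S5886, piece R2M2 (`ΓL_2(4) < GL_4(2)`), CASE B (helper27)

Atoms `e₁ = v`, `e₂ = ω • v`, `e₃ = w`, `e₄ = ω • w` (`ω² = ω + 1`, `(v, w)` a `K`-basis).  If `H` contains all `K`-semilinear maps and an
element `φ₂` with `φ₂ e₁ = e₁`, `φ₂ e₂ = e₂ + e₃`, `φ₂ e₃ = e₃`, `φ₂ e₄ = e₄ + e₃ + e₁`, then `τ = φ₂ n φ₂ n'`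
(`n : v ↦ ω w, w ↦ ω v`; `n' : v ↦ ω v, w ↦ ω² w`) is the transvection `x ↦ x + ψ x • y`, `y = e₂ + e₃ + e₄`,
`ψ e₁ = 1, ψ e₂ = 0, ψ e₃ = 1, ψ e₄ = 1`, and `ψ (K y) = 0`.
-/

namespace Cfsg.Agent.Lib.Helper22.C3L

open Module

variable {F K V : Type*} [Field F] [Field K] [Algebra F K] [AddCommGroup V] [Module F V] [Module K V]
  [IsScalarTower F K V]

/-- two `F`-linear maps agreeing on the four atoms are equal -/
theorem c3lr2m2b_ext (b : Basis (Fin 2) K V) (ω : K) (α β : K →ₗ[F] F)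
    (hαβ : ∀ c : K, c = algebraMap F K (α c) + algebraMap F K (β c) * ω)
    {W : Type*} [AddCommGroup W] [Module F W]
    (f g : V →ₗ[F] W) (h1 : f (b 0) = g (b 0)) (h2 : f (ω • b 0) = g (ω • b 0))
    (h3 : f (b 1) = g (b 1)) (h4 : f (ω • b 1) = g (ω • b 1)) : f = g := by
  have key : ∀ (c : K) (i : Fin 2), f (b i) = g (b i) → f (ω • b i) = g (ω • b i) →
      f (c • b i) = g (c • b i) := by
    intro c i hi hi'
    have hc : c • b i = α c • b i + β c • (ω • b i) := by
      conv_lhs => rw [hαβ c]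
      rw [add_smul, mul_smul, algebraMap_smul, algebraMap_smul]
    rw [hc, map_add, map_add, f.map_smul, f.map_smul, g.map_smul, g.map_smul, hi, hi']
  ext x
  have hx : x = b.repr x 0 • b 0 + b.repr x 1 • b 1 := by
    conv_lhs => rw [← b.sum_repr x]
    rw [Fin.sum_univ_two]
  rw [hx, map_add, map_add, key _ 0 h1 h2, key _ 1 h3 h4]

/-- CASE B of R2M2 -/
theorem c3lr2m2b_caseB (hchar : ∀ x : V, x + x = 0)
    (H : Subgroup (V ≃ₗ[F] V)) (hS : ∀ g : V ≃ₗ[F] V, IsSemi K g → g ∈ H)
    (ω : K) (hω : ω * ω = ω + 1) (α β : K →ₗ[F] F)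
    (hαβ : ∀ c : K, c = algebraMap F K (α c) + algebraMap F K (β c) * ω)
    (hα1 : α 1 = 1) (hβ1 : β 1 = 0) (hαω : α ω = 0) (hβω : β ω = 1)
    (b : Basis (Fin 2) K V)
    (φ₂ : V ≃ₗ[F] V) (hφ₂ : φ₂ ∈ H)
    (h1 : φ₂ (b 0) = b 0) (h2 : φ₂ (ω • b 0) = ω • b 0 + b 1) (h3 : φ₂ (b 1) = b 1)
    (h4 : φ₂ (ω • b 1) = ω • b 1 + b 1 + b 0) : HasTv2 K H := by
  classical
  have hω0 : ω ≠ 0 := by
    intro h0
    rw [h0, mul_zero, zero_add] at hω
    exact zero_ne_one hω
  have hωω0 : ω * ω ≠ 0 := mul_ne_zero hω0 hω0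
  -- the monomial `K`-linear maps
  have hu1 : ∀ i : Fin 2, IsUnit ((![ω, ω] : Fin 2 → K) i) := by
    intro i
    fin_cases i <;> simpa using hω0
  have hu2 : ∀ i : Fin 2, IsUnit ((![ω, ω * ω] : Fin 2 → K) i) := by
    intro i
    fin_cases i
    · simpa using hω0
    · simpa using hωω0
  let nK : V ≃ₗ[K] V := b.equiv (b.isUnitSMul hu1) (Equiv.swap 0 1)
  let nK' : V ≃ₗ[K] V := b.equiv (b.isUnitSMul hu2) (Equiv.refl _)
  have hn0 : nK (b 0) = ω • b 1 := by
    simp [nK, Basis.equiv_apply, Basis.isUnitSMul_apply]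
  have hn1 : nK (b 1) = ω • b 0 := by
    simp [nK, Basis.equiv_apply, Basis.isUnitSMul_apply]
  have hn0' : nK' (b 0) = ω • b 0 := by
    simp [nK', Basis.equiv_apply, Basis.isUnitSMul_apply]
  have hn1' : nK' (b 1) = (ω * ω) • b 1 := by
    simp [nK', Basis.equiv_apply, Basis.isUnitSMul_apply]
  let n : V ≃ₗ[F] V := nK.restrictScalars F
  let n' : V ≃ₗ[F] V := nK'.restrictScalars F
  have hnH : n ∈ H := hS n ⟨RingEquiv.refl K, fun a x => by
    show nK (a • x) = a • nK x
    rw [map_smul]⟩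
  have hnH' : n' ∈ H := hS n' ⟨RingEquiv.refl K, fun a x => by
    show nK' (a • x) = a • nK' x
    rw [map_smul]⟩
  -- values on the atoms
  have ωω : ∀ x : V, ω • ω • x = ω • x + x := by
    intro x
    rw [smul_smul, hω, add_smul, one_smul]
  have ωωω : ∀ x : V, ω • (ω • x + x) = x := by
    intro x
    rw [smul_add, ωω, add_assoc, add_comm x, ← add_assoc, hchar, zero_add]
  have e_n1 : n (b 0) = ω • b 1 := hn0
  have e_n2 : n (ω • b 0) = ω • b 1 + b 1 := by
    show nK (ω • b 0) = _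
    rw [map_smul, hn0, ωω]
  have e_n3 : n (b 1) = ω • b 0 := hn1
  have e_n4 : n (ω • b 1) = ω • b 0 + b 0 := by
    show nK (ω • b 1) = _
    rw [map_smul, hn1, ωω]
  have e_n1' : n' (b 0) = ω • b 0 := hn0'
  have e_n2' : n' (ω • b 0) = ω • b 0 + b 0 := by
    show nK' (ω • b 0) = _
    rw [map_smul, hn0', ωω]
  have e_n3' : n' (b 1) = ω • b 1 + b 1 := by
    show nK' (b 1) = _
    rw [hn1', mul_smul, ωω]
  have e_n4' : n' (ω • b 1) = b 1 := by
    show nK' (ω • b 1) = _
    rw [map_smul, hn1', mul_smul, ωω, ωω]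
    calc ω • b 1 + b 1 + ω • b 1 = b 1 + (ω • b 1 + ω • b 1) := by abel
      _ = b 1 := by rw [hchar, add_zero]
  -- the transvection
  let τ : V ≃ₗ[F] V := φ₂ * n * φ₂ * n'
  have hτH : τ ∈ H := H.mul_mem (H.mul_mem (H.mul_mem hφ₂ hnH) hφ₂) hnH'
  have hτ : ∀ x, τ x = φ₂ (n (φ₂ (n' x))) := fun x => rfl
  set y : V := ω • b 0 + b 1 + ω • b 1 with hy
  have h2z : ∀ x : V, (2 : ℤ) • x = 0 := fun x => by rw [two_zsmul, hchar]
  have h4z : ∀ x : V, (4 : ℤ) • x = 0 := fun x => by
    rw [show (4 : ℤ) = 2 + 2 from rfl, add_zsmul, h2z, add_zero]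
  have h6z : ∀ x : V, (6 : ℤ) • x = 0 := fun x => by
    rw [show (6 : ℤ) = 4 + 2 from rfl, add_zsmul, h2z, h4z, add_zero]
  have c2eq : ∀ {A B : V}, A + B = 0 → A = B := by
    intro A B hAB
    calc A = A + (B + B) := by rw [hchar, add_zero]
      _ = (A + B) + B := by abel
      _ = B := by rw [hAB, zero_add]
  have t1 : τ (b 0) = b 0 + y := by
    rw [hτ, hy]
    simp only [e_n1, e_n2, e_n3, e_n4, e_n1', e_n2', e_n3', e_n4', h1, h2, h3, h4, map_add]
    apply c2eq
    abel_nf
    simp only [h2z, h4z, h6z, add_zero, zero_add]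
  have t2 : τ (ω • b 0) = ω • b 0 := by
    rw [hτ]
    simp only [e_n1, e_n2, e_n3, e_n4, e_n1', e_n2', e_n3', e_n4', h1, h2, h3, h4, map_add]
    apply c2eq
    abel_nf
    simp only [h2z, h4z, h6z, add_zero, zero_add]
  have t3 : τ (b 1) = b 1 + y := by
    rw [hτ, hy]
    simp only [e_n1, e_n2, e_n3, e_n4, e_n1', e_n2', e_n3', e_n4', h1, h2, h3, h4, map_add]
    apply c2eq
    abel_nf
    simp only [h2z, h4z, h6z, add_zero, zero_add]
  have t4 : τ (ω • b 1) = ω • b 1 + y := by
    rw [hτ, hy]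
    simp only [e_n1, e_n2, e_n3, e_n4, e_n1', e_n2', e_n3', e_n4', h1, h2, h3, h4, map_add]
    apply c2eq
    abel_nf
    simp only [h2z, h4z, h6z, add_zero, zero_add]
  -- the functional
  let c0 : V →ₗ[F] K := (b.coord 0).restrictScalars F
  let c1 : V →ₗ[F] K := (b.coord 1).restrictScalars F
  let ψ : Module.Dual F V := α ∘ₗ c0 + (α + β) ∘ₗ c1
  have hc00 : ∀ k : K, c0 (k • b 0) = k := by
    intro k
    show b.coord 0 (k • b 0) = k
    simp
  have hc01 : ∀ k : K, c0 (k • b 1) = 0 := by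
    intro k
    show b.coord 0 (k • b 1) = 0
    simp
  have hc10 : ∀ k : K, c1 (k • b 0) = 0 := by
    intro k
    show b.coord 1 (k • b 0) = 0
    simp
  have hc11 : ∀ k : K, c1 (k • b 1) = k := by
    intro k
    show b.coord 1 (k • b 1) = k
    simp
  have hψ : ∀ x, ψ x = α (c0 x) + (α (c1 x) + β (c1 x)) := fun x => rfl
  have p1 : ψ (b 0) = 1 := by
    have a := hc00 1
    have c := hc10 1
    rw [one_smul] at a c
    rw [hψ, a, c, hα1, map_zero, map_zero, add_zero, add_zero]
  have p2 : ψ (ω • b 0) = 0 := by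
    rw [hψ, hc00, hc10, hαω, map_zero, map_zero, add_zero, add_zero]
  have p3 : ψ (b 1) = 1 := by
    have a := hc01 1
    have c := hc11 1
    rw [one_smul] at a c
    rw [hψ, a, c, hα1, hβ1, map_zero, zero_add, add_zero]
  have p4 : ψ (ω • b 1) = 1 := by
    rw [hψ, hc01, hc11, hαω, hβω, map_zero, zero_add, zero_add]
  have two : (1 : F) + 1 = 0 := by
    have := hchar (b 0)
    have h' : ((1 : F) + 1) • b 0 = 0 := by rw [add_smul, one_smul, this]
    rcases smul_eq_zero.mp h' with h'' | h''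
    · exact h''
    · exact absurd h'' (b.ne_zero 0)
  have py : ψ y = 0 := by
    rw [hy, map_add, map_add, p2, p3, p4, zero_add, two]
  have pωy : ψ (ω • y) = 0 := by
    have : ω • y = ω • b 0 + b 0 + ω • b 1 + (ω • b 1 + b 1) := by
      rw [hy, smul_add, smul_add, ωω, ωω]
    rw [this, map_add, map_add, map_add, map_add, p1, p2, p3, p4, zero_add]
    rw [show (1 : F) + 1 + (1 + 1) = (1 + 1) + (1 + 1) by ring, two, add_zero]
  have pK : ∀ a : K, ψ (a • y) = 0 := by
    intro a
    have ha : a • y = α a • y + β a • (ω • y) := by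
      conv_lhs => rw [hαβ a]
      rw [add_smul, mul_smul, algebraMap_smul, algebraMap_smul]
    rw [ha, map_add, map_smul, map_smul, py, pωy, smul_zero, smul_zero, add_zero]
  have hy0 : y ≠ 0 := by
    intro h0
    have := t1
    rw [h0, add_zero] at this
    -- `τ (b 0) = b 0`, but also `ψ`... use the coordinates instead
    have hc : c1 y = 1 + ω := by
      rw [hy, map_add, map_add, hc10]
      have a := hc11 1
      rw [one_smul] at a
      rw [a, hc11, zero_add]
    rw [h0, map_zero] at hc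
    have hω1 : ω = -1 := by
      have : ω + 1 = 0 := by rw [add_comm]; exact hc.symm
      exact eq_neg_of_add_eq_zero_left this
    rw [hω1] at hω
    have : ((-1 : K)) * (-1) = -1 + 1 := hω
    rw [neg_add_cancel] at this
    simp at this
  have hψ0 : ψ ≠ 0 := by
    intro h0
    rw [h0] at p1
    simp at p1
  refine ⟨ψ, y, py, hy0, hψ0, pK, ?_⟩
  have : LinearEquiv.transvection py = τ := by
    apply LinearEquiv.toLinearMap_injective
    apply c3lr2m2b_ext b ω α β hαβ
    · show LinearEquiv.transvection py (b 0) = τ (b 0)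
      rw [LinearEquiv.transvection.apply, p1, one_smul, t1]
    · show LinearEquiv.transvection py (ω • b 0) = τ (ω • b 0)
      rw [LinearEquiv.transvection.apply, p2, zero_smul, add_zero, t2]
    · show LinearEquiv.transvection py (b 1) = τ (b 1)
      rw [LinearEquiv.transvection.apply, p3, one_smul, t3]
    · show LinearEquiv.transvection py (ω • b 1) = τ (ω • b 1)
      rw [LinearEquiv.transvection.apply, p4, one_smul, t4]
  rw [this]
  exact hτH


/-- CASE B of R2M2 in the interface of the assembly (helper19) -/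
theorem c3lr2m2_caseB [FiniteDimensional F K] [FiniteDimensional K V]
    (hF : Nat.card F = 2) (h2 : finrank F K = 2) (hm : finrank K V = 2)
    (H : Subgroup (V ≃ₗ[F] V)) (hS : ∀ g : V ≃ₗ[F] V, IsSemi K g → g ∈ H)
    (ω : K) (hω : ω * ω = ω + 1) (v w : V) (hvw : LinearIndependent K ![v, w])
    (φ₂ : V ≃ₗ[F] V) (hφ₂ : φ₂ ∈ H)
    (e1 : φ₂ v = v) (e2 : φ₂ (ω • v) = ω • v + w) (e3 : φ₂ w = w)
    (e4 : φ₂ (ω • w) = ω • w + w + v) : HasTv2 K H := by
  classical
  -- characteristic two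
  have two : (1 : F) + 1 = 0 := by
    have h := card_nsmul_eq_zero' (G := F) (x := (1 : F))
    rw [hF, two_nsmul] at h
    exact h
  have hchar : ∀ x : V, x + x = 0 := by
    intro x
    have : ((1 : F) + 1) • x = 0 := by rw [two, zero_smul]
    rwa [add_smul, one_smul] at this
  have hF01 : ∀ f : F, f = 0 ∨ f = 1 := by
    intro f
    have : Finite F := Nat.finite_of_card_ne_zero (by rw [hF]; norm_num)
    let _ : Fintype F := Fintype.ofFinite F
    by_contra hcon
    push Not at hcon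
    have h3 : 3 ≤ Fintype.card F := by
      have hinj : Function.Injective (![0, 1, f] : Fin 3 → F) := by
        intro i j hij
        fin_cases i <;> fin_cases j <;> simp_all
      simpa using Fintype.card_le_of_injective _ hinj
    rw [← Nat.card_eq_fintype_card, hF] at h3
    omega
  have hωr : ω ∉ (algebraMap F K).range := by
    rintro ⟨f, hf⟩
    rcases hF01 f with rfl | rfl
    · rw [map_zero] at hf
      rw [← hf, mul_zero, zero_add] at hω
      exact zero_ne_one hω
    · rw [map_one] at hf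
      rw [← hf, mul_one] at hω
      have h11 : (1 : K) + 1 = 0 := by
        have := congrArg (algebraMap F K) two
        rwa [map_add, map_one, map_zero] at this
      rw [h11] at hω
      exact one_ne_zero hω
  obtain ⟨α, β, hαβ, hβω, -⟩ := c3lr2m3_coords h2 hωr
  have hinj : Function.Injective (algebraMap F K) := (algebraMap F K).injective
  have hβ1 : β 1 = 0 := by
    by_contra hne
    apply hωr
    have h := hαβ 1
    refine ⟨(1 - α 1) / β 1, ?_⟩
    have hne' : algebraMap F K (β 1) ≠ 0 := fun h0 => hne (hinj (by rw [h0, map_zero]))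
    rw [map_div₀, map_sub, map_one, div_eq_iff hne']
    rw [mul_comm]
    nth_rewrite 1 [h]
    ring
  have hα1 : α 1 = 1 := by
    have h := hαβ 1
    rw [hβ1, map_zero, zero_mul, add_zero] at h
    apply hinj
    rw [(algebraMap F K).map_one]
    exact h.symm
  have hαω : α ω = 0 := by
    have h := hαβ ω
    rw [hβω, map_one, one_mul] at h
    apply hinj
    rw [map_zero]
    have : algebraMap F K (α ω) + ω = 0 + ω := by rw [zero_add]; exact h.symm
    exact add_right_cancel this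
  -- the basis
  have hcard : Fintype.card (Fin 2) = finrank K V := by rw [hm]; rfl
  let b : Basis (Fin 2) K V := basisOfLinearIndependentOfCardEqFinrank hvw hcard
  have hb0 : b 0 = v := by
    show basisOfLinearIndependentOfCardEqFinrank hvw hcard 0 = v
    rw [coe_basisOfLinearIndependentOfCardEqFinrank]
    rfl
  have hb1 : b 1 = w := by
    show basisOfLinearIndependentOfCardEqFinrank hvw hcard 1 = w
    rw [coe_basisOfLinearIndependentOfCardEqFinrank]
    rfl
  exact c3lr2m2b_caseB hchar H hS ω hω α β hαβ hα1 hβ1 hαω hβω b φ₂ hφ₂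
    (by rw [hb0]; exact e1) (by rw [hb0, hb1]; exact e2) (by rw [hb1]; exact e3)
    (by rw [hb0, hb1]; exact e4)

end Cfsg.Agent.Lib.Helper22.C3L
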