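import Mathlib
import Cfsg.Prelude.Def_ClassicalGeometry
import Cfsg.Agent.Lib.helper6.SympBasis
import Cfsg.Agent.Lib.Helper22.C3U.Defs

/-!
# C3U row PARAM (S5976): the `j`-equivariant symplectic parametrisation of a `j`-invariant non-degenerate subspace
(`j² = c0`, `c0` a non-square, `j` skew-adjoint, `F` finite of odd characteristic).  Copy of `sqneg_param` (Helper27/SPSQNEG.lean).
-/

set_option autoImplicit false
set_option linter.unusedSectionVars false
set_option linter.unusedVariables false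

namespace Cfsg.Agent.Lib.Helper22.C3U

open Matrix Module Polynomial Cfsg.Agent.Lib.Lead.SPU Cfsg.Agent.Lib.helper6 Cfsg.Agent.Lib.helper6.SB

universe u v

variable {F : Type u} [Field F]

/-- the norm form `a² - c0 c²` of a finite field of odd characteristic is surjective (`c0 ≠ 0`). -/
theorem c3uparam_norm_surj [Fintype F] (h2 : (2 : F) ≠ 0) (c0 : F) (hc0 : c0 ≠ 0) (t : F) :
    ∃ a c : F, a ^ 2 - c0 * c ^ 2 = t := by
  classical
  have hodd : Fintype.card F % 2 = 1 := by
    apply FiniteField.odd_card_of_char_ne_two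
    intro h
    apply h2
    have := ringChar.Nat.cast_ringChar (R := F)
    rw [h] at this
    exact_mod_cast this
  let f : F[X] := X ^ 2
  let g : F[X] := C (-c0) * X ^ 2 - C t
  have hg : g.degree = 2 := by
    have h1 : (C (-c0) * X ^ 2 : F[X]).degree = 2 := by
      rw [degree_C_mul (neg_ne_zero.mpr hc0), degree_X_pow]
      rfl
    have h2' : (C t : F[X]).degree < (C (-c0) * X ^ 2 : F[X]).degree := by
      rw [h1]
      exact lt_of_le_of_lt degree_C_le (by decide)
    rw [degree_sub_eq_left_of_degree_lt h2', h1]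
  obtain ⟨a, b, hab⟩ := FiniteField.exists_root_sum_quadratic (f := f) (g := g)
    (degree_X_pow 2) hg hodd
  refine ⟨a, b, ?_⟩
  rw [← sub_eq_zero]
  simp only [f, g, eval_C, eval_X, eval_pow, eval_sub, eval_mul] at hab
  linear_combination hab

theorem c3uparam_jstd_rho (k : ℕ) (c0 : F) (z : Fin (k + 1) ⊕ Fin (k + 1) → F) :
    rho k (jstd (k + 1) c0 z) = jstd k c0 (rho k z) := by
  funext s
  rcases s with i | i
  · rw [rho_inl, jstd_inl, jstd_inl, rho_inr]
  · rw [rho_inr, jstd_inr, jstd_inr, rho_inl]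

/-- PARAM [L] : the `j`-equivariant symplectic parametrisation of a `j`-invariant non-degenerate subspace. -/
theorem param [Fintype F] (m : ℕ) (j : Matrix (Fin m ⊕ Fin m) (Fin m ⊕ Fin m) F) (c0 : F) (hJ : JS j c0) :
    ∀ (n : ℕ) (W : Submodule F (Fin m ⊕ Fin m → F)), finrank F W = n →
      (∀ w ∈ W, j *ᵥ w ∈ W) →
      (∀ u ∈ W, (∀ v ∈ W, Cfsg.sympForm m F u v = 0) → u = 0) →
      ∃ (k : ℕ) (φ : (Fin k ⊕ Fin k → F) →ₗ[F] (Fin m ⊕ Fin m → F)), LinearMap.range φ = W ∧
        (∀ x y, Cfsg.sympForm m F (φ x) (φ y) = Cfsg.sympForm k F x y) ∧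
        ∀ z, j *ᵥ φ z = φ (jstd k c0 z) := by
  have h2 : (2 : F) ≠ 0 := hJ.two
  have hc0 : c0 ≠ 0 := by
    intro h
    exact hJ.nsq 0 (by rw [h, mul_zero])
  have hMM : ∀ v, j *ᵥ (j *ᵥ v) = c0 • v := by
    intro v
    rw [Matrix.mulVec_mulVec, hJ.sq, Matrix.smul_mulVec, Matrix.one_mulVec]
  have hadj := hJ.adj
  intro d
  induction d using Nat.strong_induction_on with
  | _ d ih =>
  intro W hd hWM hW
  by_cases hbot : W = ⊥
  · refine ⟨0, 0, ?_, ?_, ?_⟩
    · rw [LinearMap.range_zero, hbot]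
    · intro x y
      rw [sympForm_zero_dim]
      simp [sympForm_zero_left]
    · intro z
      simp
  -- the symmetric form h(v,w) = f(v, j w)
  have hsym : ∀ v w, Cfsg.sympForm m F w (j *ᵥ v) = Cfsg.sympForm m F v (j *ᵥ w) := by
    intro v w
    have h1 := hadj w v
    rw [sympForm_swap _ v (j *ᵥ w)]
    linear_combination h1
  -- a vector with h(v,v) ≠ 0
  obtain ⟨v, hvW, hv⟩ : ∃ v ∈ W, Cfsg.sympForm m F v (j *ᵥ v) ≠ 0 := by
    obtain ⟨e, heW, he0⟩ := Submodule.exists_mem_ne_zero_of_ne_bot hbot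
    obtain ⟨f0, hf0W, hef0⟩ : ∃ f0 ∈ W, Cfsg.sympForm m F e f0 ≠ 0 := by
      by_contra h
      push Not at h
      exact he0 (hW e heW h)
    set w := c0⁻¹ • (j *ᵥ f0) with hw
    have hwW : w ∈ W := W.smul_mem _ (hWM f0 hf0W)
    have hMw : j *ᵥ w = f0 := by
      rw [hw, Matrix.mulVec_smul, hMM, smul_smul, inv_mul_cancel₀ hc0, one_smul]
    by_contra hcon
    push Not at hcon
    have h1 := hcon e heW
    have h3 := hcon w hwW
    have h4 := hcon (e + w) (W.add_mem heW hwW)
    rw [Matrix.mulVec_add, sympForm_add_left, sympForm_add_right, sympForm_add_right, h1, h3,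
      hsym e w, hMw] at h4
    apply hef0
    have : (2 : F) * Cfsg.sympForm m F e f0 = 0 := by linear_combination h4
    rcases mul_eq_zero.mp this with h | h
    · exact absurd h h2
    · exact h
  set c := Cfsg.sympForm m F v (j *ᵥ v) with hc
  obtain ⟨α, β, hαβ⟩ := c3uparam_norm_surj h2 c0 hc0 (-c⁻¹)
  set e : Fin m ⊕ Fin m → F := α • v + β • (j *ᵥ v) with he
  set f : Fin m ⊕ Fin m → F := j *ᵥ e with hf
  have heW : e ∈ W := W.add_mem (W.smul_mem _ hvW) (W.smul_mem _ (hWM v hvW))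
  have hfW : f ∈ W := hWM e heW
  have hfe' : f = α • (j *ᵥ v) + (β * c0) • v := by
    rw [hf, he, Matrix.mulVec_add, Matrix.mulVec_smul, Matrix.mulVec_smul, hMM, smul_smul]
  have hMf' : j *ᵥ f = c0 • e := by rw [hf, hMM]
  have hvv : Cfsg.sympForm m F v v = 0 := sympForm_self m v
  have hMvMv : Cfsg.sympForm m F (j *ᵥ v) (j *ᵥ v) = 0 := sympForm_self m _
  have hMvv : Cfsg.sympForm m F (j *ᵥ v) v = -c := by rw [sympForm_swap, ← hc]
  have hef : Cfsg.sympForm m F e f = -1 := by
    rw [hfe', he]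
    simp only [sympForm_add_left, sympForm_add_right, sympForm_smul_left, sympForm_smul_right, hvv, hMvMv,
      hMvv, ← hc]
    have : (α ^ 2 - c0 * β ^ 2) * c = -1 := by
      rw [hαβ]
      field_simp
    linear_combination this
  have hfe : Cfsg.sympForm m F f e = 1 := by
    rw [sympForm_swap, hef, neg_neg]
  have hee : Cfsg.sympForm m F e e = 0 := sympForm_self m e
  have hff : Cfsg.sympForm m F f f = 0 := sympForm_self m f
  set W' := perp2 m W e f with hW'
  have hW'le : W' ≤ W := fun w hw => hw.1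
  have hlt : W' < W := by
    rw [lt_iff_le_and_ne]
    refine ⟨hW'le, ?_⟩
    intro heq
    have : e ∈ W' := by rw [heq]; exact heW
    have h1 := this.2.2
    rw [hef] at h1
    exact (neg_ne_zero.mpr one_ne_zero) h1
  have hW'M : ∀ w ∈ W', j *ᵥ w ∈ W' := by
    intro w hw
    refine ⟨hWM w hw.1, ?_, ?_⟩
    · rw [hadj, ← hf, hw.2.2, neg_zero]
    · rw [hadj, hMf', sympForm_smul_right, hw.2.1, mul_zero, neg_zero]
  have hdecomp : ∀ w ∈ W, w - (-(Cfsg.sympForm m F w f)) • e - (Cfsg.sympForm m F w e) • f ∈ W' := by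
    intro w hw
    refine ⟨W.sub_mem (W.sub_mem hw (W.smul_mem _ heW)) (W.smul_mem _ hfW), ?_, ?_⟩
    · rw [sympForm_sub_left, sympForm_sub_left, sympForm_smul_left, sympForm_smul_left, hee, hfe]
      ring
    · rw [sympForm_sub_left, sympForm_sub_left, sympForm_smul_left, sympForm_smul_left, hef, hff]
      ring
  have hW'nd : ∀ u ∈ W', (∀ v ∈ W', Cfsg.sympForm m F u v = 0) → u = 0 := by
    intro u hu huv
    apply hW u hu.1
    intro w hw
    have h1 := huv _ (hdecomp w hw)
    rw [sympForm_sub_right, sympForm_sub_right, sympForm_smul_right, sympForm_smul_right, hu.2.1, hu.2.2] at h1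
    linear_combination h1
  obtain ⟨k, φk, hφkr, hφkf, hφkM⟩ := ih (Module.finrank F W')
    (by rw [← hd]; exact Submodule.finrank_lt_finrank_of_lt hlt) W' rfl hW'M hW'nd
  have hφkW' : ∀ z, φk z ∈ W' := fun z => by rw [← hφkr]; exact LinearMap.mem_range_self φk z
  let φ : (Fin (k + 1) ⊕ Fin (k + 1) → F) →ₗ[F] (Fin m ⊕ Fin m → F) :=
    (LinearMap.proj (Sum.inl (Fin.last k))).smulRight e + (LinearMap.proj (Sum.inr (Fin.last k))).smulRight f
      + φk ∘ₗ rho k
  have hφ : ∀ x, φ x = x (Sum.inl (Fin.last k)) • e + x (Sum.inr (Fin.last k)) • f + φk (rho k x) := fun x => rfl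
  refine ⟨k + 1, φ, ?_, ?_, ?_⟩
  · apply le_antisymm
    · rintro _ ⟨x, rfl⟩
      rw [hφ]
      exact W.add_mem (W.add_mem (W.smul_mem _ heW) (W.smul_mem _ hfW)) (hW'le (hφkW' _))
    · intro w hw
      have h1 := hdecomp w hw
      rw [← hφkr] at h1
      obtain ⟨z, hz⟩ := h1
      let x : Fin (k + 1) ⊕ Fin (k + 1) → F := fun s =>
        Sum.elim (Fin.lastCases (-(Cfsg.sympForm m F w f)) (fun i => z (Sum.inl i)))
          (Fin.lastCases (Cfsg.sympForm m F w e) (fun i => z (Sum.inr i))) s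
      have hx1 : x (Sum.inl (Fin.last k)) = -(Cfsg.sympForm m F w f) := by simp [x]
      have hx2 : x (Sum.inr (Fin.last k)) = Cfsg.sympForm m F w e := by simp [x]
      have hx3 : rho k x = z := by
        ext s
        rcases s with i | i
        · rw [rho_inl]; simp [x]
        · rw [rho_inr]; simp [x]
      refine ⟨x, ?_⟩
      rw [hφ, hx1, hx2, hx3, hz]
      abel
  · intro x y
    rw [sympForm_succ, hφ, hφ, ← hφkf]
    have hx := hφkW' (rho k x)
    have hy := hφkW' (rho k y)
    have hy1 : Cfsg.sympForm m F e (φk (rho k y)) = 0 := by rw [sympForm_swap, hy.2.1, neg_zero]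
    have hy2 : Cfsg.sympForm m F f (φk (rho k y)) = 0 := by rw [sympForm_swap, hy.2.2, neg_zero]
    simp only [sympForm_add_left, sympForm_add_right, sympForm_smul_left, sympForm_smul_right, hee, hff, hef, hfe,
      hx.2.1, hx.2.2, hy1, hy2]
    ring
  · intro z
    rw [hφ, hφ, Matrix.mulVec_add, Matrix.mulVec_add, Matrix.mulVec_smul, Matrix.mulVec_smul, ← hf, hMf',
      hφkM, c3uparam_jstd_rho, jstd_inl, jstd_inr, smul_smul]
    rw [mul_comm (z (Sum.inr (Fin.last k))) c0]
    abel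

end Cfsg.Agent.Lib.Helper22.C3U
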