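import Mathlib
import Cfsg.Prelude.Def_ClassicalGeometry
import Cfsg.Agent.Lib.helper6.SympBasis
import Cfsg.Agent.Lib.Helper27.SPINVCONJ
import Cfsg.Agent.Lib.Helper27.C3UPARAM

/-!
# C3U row NF (S5976): `j` is `Sp`-conjugate to the standard `jmat d c0`.
-/

set_option autoImplicit false
set_option linter.unusedSectionVars false
set_option linter.unusedVariables false

namespace Cfsg.Agent.Lib.Helper22.C3U

open Matrix Module Cfsg.Agent.Lib.Lead.SPU Cfsg.Agent.Lib.helper6 Cfsg.Agent.Lib.helper6.SB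

universe u v

variable {F : Type u} [Field F]

theorem c3unf_jmat_mulVec (d : ℕ) (c0 : F) (z : Fin d ⊕ Fin d → F) : jmat d c0 *ᵥ z = jstd d c0 z := by
  funext s
  rcases s with i | i
  · rw [jstd_inl, jmat, Matrix.fromBlocks_mulVec]
    simp only [Sum.elim_inl, Matrix.zero_mulVec, zero_add, Matrix.smul_mulVec,
      Matrix.one_mulVec, Pi.smul_apply, smul_eq_mul, Function.comp_apply]
  · rw [jstd_inr, jmat, Matrix.fromBlocks_mulVec]
    simp only [Sum.elim_inr, Matrix.zero_mulVec, add_zero,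
      Matrix.one_mulVec, Function.comp_apply]

section concrete

variable {d : ℕ} {j : Matrix (Fin d ⊕ Fin d) (Fin d ⊕ Fin d) F} {c0 : F}

/-- the linear form of NF: a symplectic linear automorphism `G` with `j (G z) = G (jstd z)`. -/
theorem c3unf_equiv [Fintype F] (hJ : JS j c0) :
    ∃ G : (Fin d ⊕ Fin d → F) ≃ₗ[F] (Fin d ⊕ Fin d → F),
      (∀ u v, Cfsg.sympForm d F (G u) (G v) = Cfsg.sympForm d F u v) ∧ ∀ z, j *ᵥ G z = G (jstd d c0 z) := by
  classical
  obtain ⟨k, φ, hr, hf, hjφ⟩ := param d j c0 hJ (finrank F (⊤ : Submodule F (Fin d ⊕ Fin d → F))) ⊤ rfl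
    (fun w _ => Submodule.mem_top)
    (fun u _ hu => by
      by_contra hne
      obtain ⟨y, hy⟩ := sympForm_nondeg d u hne
      exact hy (hu y Submodule.mem_top))
  have hk : k = d := by
    have h1 := finrank_of_param φ hf ⊤ hr
    rw [finrank_top, Module.finrank_fintype_fun_eq_card, Fintype.card_sum, Fintype.card_fin] at h1
    omega
  subst hk
  have hinj := param_injective φ hf
  have hsurj : Function.Surjective φ := LinearMap.range_eq_top.mp hr
  refine ⟨LinearEquiv.ofBijective φ ⟨hinj, hsurj⟩, ?_, ?_⟩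
  · intro u v
    exact hf u v
  · intro z
    exact hjφ z

/-- NF [M] : normal form. -/
theorem nf [Fintype F] (hJ : JS j c0) :
    ∃ P ∈ Cfsg.spGL d F, (P : Matrix (Fin d ⊕ Fin d) (Fin d ⊕ Fin d) F) * jmat d c0 =
      j * (P : Matrix (Fin d ⊕ Fin d) (Fin d ⊕ Fin d) F) := by
  obtain ⟨G, hGf, hGj⟩ := c3unf_equiv (d := d) (j := j) (c0 := c0) hJ
  obtain ⟨P, hP, hPv⟩ := Cfsg.Agent.Lib.Helper27.SpInv.spinv_gl_of_equiv d G hGf
  refine ⟨P, hP, ?_⟩
  rw [Matrix.ext_iff_mulVec]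
  intro v
  rw [← Matrix.mulVec_mulVec, ← Matrix.mulVec_mulVec, hPv, hPv, c3unf_jmat_mulVec, hGj]

end concrete

end Cfsg.Agent.Lib.Helper22.C3U
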