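import Mathlib
import Cfsg.Agent.Lib.Helper27.C3UPARAM

/-!
# C3U row NORMSURJ (S5976): the norm form `a² - c0 c²` of a finite field of odd characteristic is surjective.
-/

set_option autoImplicit false
set_option linter.unusedSectionVars false
set_option linter.unusedVariables false

namespace Cfsg.Agent.Lib.Helper22.C3U

open Matrix Module Cfsg.Agent.Lib.Lead.SPU

universe u v

variable {F : Type u} [Field F]

/-- NORMSURJ [S] -/
theorem norm_surj [Fintype F] (h2 : (2 : F) ≠ 0) (c0 : F) (hc0 : c0 ≠ 0) (t : F) : ∃ a c : F, a ^ 2 - c0 * c ^ 2 = t :=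
  c3uparam_norm_surj h2 c0 hc0 t

end Cfsg.Agent.Lib.Helper22.C3U
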