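import Mathlib
import Cfsg.Agent.Lib.helper2.CHMDefs

/-!
# Project CHM (S4139), piece A : transfer of counts.
-/

set_option autoImplicit false
set_option linter.unusedSectionVars false
set_option linter.unusedVariables false
set_option linter.style.haveILetI false

namespace Cfsg.Agent.Lib.Helper27.CHM

open Cfsg.Agent.Lib.helper2.CHM

open Classical in
/-- the number of elements whose class size lies in `s`, as a sum over the possible sizes -/
theorem card_csz_eq_sum {G : Type*} [Group G] [Finite G] (s : Set ℕ) (M : ℕ)
    (hM : Nat.card G ≤ M) :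
    Nat.card {x : G // csz x ∈ s} =
      ∑ k ∈ Finset.range (M + 1),
        Nat.card {C : ConjClasses G // Nat.card C.carrier = k} * (if k ∈ s then k else 0) := by
  classical
  haveI : Fintype G := Fintype.ofFinite G
  haveI : Fintype (ConjClasses G) := Fintype.ofFinite _
  let φ : ConjClasses G → ℕ := fun C => Nat.card C.carrier
  let g : ℕ → ℕ := fun k => if k ∈ s then k else 0
  have hφ : ∀ C : ConjClasses G,
      (Finset.univ.filter (fun x : G => ConjClasses.mk x = C)).card = φ C := by
    intro C
    show _ = Nat.card C.carrier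
    rw [Nat.card_congr (Equiv.subtypeEquivRight
      (fun x => (ConjClasses.mem_carrier_iff_mk_eq (a := x) (b := C)))),
      Nat.card_eq_fintype_card, Fintype.card_subtype]
  have h1 : Nat.card {x : G // csz x ∈ s} = ∑ x : G, if csz x ∈ s then 1 else 0 := by
    rw [Nat.card_eq_fintype_card, Fintype.card_subtype, Finset.card_filter]
  have h2 : (∑ x : G, if csz x ∈ s then 1 else 0) = ∑ C : ConjClasses G, g (φ C) := by
    rw [← Finset.sum_fiberwise Finset.univ ConjClasses.mk]
    apply Finset.sum_congr rfl
    intro C _
    have hin : ∀ x ∈ Finset.univ.filter (fun x : G => ConjClasses.mk x = C),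
        (if csz x ∈ s then 1 else 0) = if φ C ∈ s then 1 else 0 := by
      intro x hx
      rw [Finset.mem_filter] at hx
      have hcs : csz x = φ C := by
        unfold csz
        rw [hx.2]
      rw [hcs]
    rw [Finset.sum_congr rfl hin, Finset.sum_const, smul_eq_mul, hφ C]
    show φ C * (if φ C ∈ s then 1 else 0) = if φ C ∈ s then φ C else 0
    split_ifs <;> simp
  have hmaps : ∀ C ∈ (Finset.univ : Finset (ConjClasses G)), φ C ∈ Finset.range (M + 1) := by
    intro C _
    rw [Finset.mem_range]
    have : φ C ≤ Nat.card G :=
      Nat.card_le_card_of_injective (fun x : C.carrier => (x : G)) Subtype.val_injective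
    omega
  have h3 : ∑ C : ConjClasses G, g (φ C) =
      ∑ k ∈ Finset.range (M + 1),
        Nat.card {C : ConjClasses G // Nat.card C.carrier = k} * g k := by
    rw [← Finset.sum_fiberwise_of_maps_to hmaps]
    apply Finset.sum_congr rfl
    intro k _
    have hin : ∀ C ∈ Finset.univ.filter (fun C : ConjClasses G => φ C = k), g (φ C) = g k := by
      intro C hC
      rw [(Finset.mem_filter.mp hC).2]
    rw [Finset.sum_congr rfl hin, Finset.sum_const, smul_eq_mul, Nat.card_eq_fintype_card,
      Fintype.card_subtype]
  rw [h1, h2, h3]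

theorem card_csz_mem_eq {G H : Type*} [Group G] [Finite G] [Group H] [Finite H]
    (h : ∀ k : ℕ, Nat.card {C : ConjClasses G // Nat.card C.carrier = k} =
      Nat.card {C : ConjClasses H // Nat.card C.carrier = k}) (s : Set ℕ) :
    Nat.card {x : G // csz x ∈ s} = Nat.card {x : H // csz x ∈ s} := by
  rw [card_csz_eq_sum s (Nat.card G + Nat.card H) (Nat.le_add_right _ _),
    card_csz_eq_sum s (Nat.card G + Nat.card H) (Nat.le_add_left _ _)]
  apply Finset.sum_congr rfl
  intro k _
  rw [h k]

end Cfsg.Agent.Lib.Helper27.CHM
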