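import Mathlib
import Cfsg.Agent.Lib.helper2.CHMDefs

/-!
# Project CHM (S4139), piece C5 : a bound for the number of Sylow subgroups.
-/

set_option autoImplicit false
set_option linter.unusedSectionVars false
set_option linter.unusedVariables false

namespace Cfsg.Agent.Lib.Helper27.CHM

open Cfsg.Agent.Lib.helper2.CHM

theorem card_sylow_mul_le {G : Type*} [Group G] [Finite G] (p : ℕ) [Fact p.Prime] (P : Sylow p G) :
    Nat.card (Sylow p G) * (Nat.card (P : Subgroup G) *
      ordCompl[p] (Nat.card (Subgroup.centralizer ((P : Subgroup G) : Set G)))) ≤ Nat.card G := by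
  have hp : p.Prime := Fact.out
  set N := Subgroup.normalizer ((P : Subgroup G) : Set G) with hN
  set C := Subgroup.centralizer ((P : Subgroup G) : Set G) with hC
  have h1 : Nat.card (Sylow p G) = N.index := Sylow.card_eq_index_normalizer P
  have h2 : N.index * Nat.card N = Nat.card G := Subgroup.index_mul_card N
  have hPN : Nat.card (P : Subgroup G) ∣ Nat.card N :=
    Subgroup.card_dvd_of_le Subgroup.le_normalizer
  have hCN : Nat.card C ∣ Nat.card N :=
    Subgroup.card_dvd_of_le (Subgroup.centralizer_le_normalizer _)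
  have hC0 : Nat.card C ≠ 0 := Nat.card_pos.ne'
  have hcN : ordCompl[p] (Nat.card C) ∣ Nat.card N :=
    (Nat.ordCompl_dvd (Nat.card C) p).trans hCN
  obtain ⟨k, hk⟩ := IsPGroup.iff_card.mp P.isPGroup'
  have hcop : Nat.Coprime (Nat.card (P : Subgroup G)) (ordCompl[p] (Nat.card C)) := by
    rw [hk]
    exact Nat.Coprime.pow_left k (Nat.coprime_ordCompl hp hC0)
  have hdvd : Nat.card (P : Subgroup G) * ordCompl[p] (Nat.card C) ∣ Nat.card N :=
    Nat.Coprime.mul_dvd_of_dvd_of_dvd hcop hPN hcN
  have hle : Nat.card (P : Subgroup G) * ordCompl[p] (Nat.card C) ≤ Nat.card N :=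
    Nat.le_of_dvd Nat.card_pos hdvd
  calc Nat.card (Sylow p G) * (Nat.card (P : Subgroup G) * ordCompl[p] (Nat.card C))
      ≤ N.index * Nat.card N := by rw [h1]; exact Nat.mul_le_mul_left _ hle
    _ = Nat.card G := h2

end Cfsg.Agent.Lib.Helper27.CHM
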