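import Cfsg.Agent.Lib.Helper27.SubFSTransport

set_option autoImplicit false

namespace Cfsg.Agent.Lib.Helper27

open Cfsg Cfsg.FusionSystem Cfsg.Agent.Lib.Helper26

section Abstract

variable {Ω : Type*} [Group Ω] {S : Subgroup Ω}

/-- In a constrained system, an element of `S` centralizing an `Aut_F(O_p(F))`-invariant subgroup
`V` and acting trivially on `O_p(F)` modulo `V` lies in `O_p(F)`. -/
theorem mem_core_of_chain [Finite S] {p : ℕ} [Fact p.Prime] (hS : IsPGroup p S)
    (F : FusionSystem S) (hF : F.IsConstrained p) {V : Subgroup Ω} (hVS : V ≤ S)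
    (hV : AutInvariant (F.autGroup F.core) V) {c : Ω} (hcS : c ∈ S)
    (hcV : c ∈ Subgroup.centralizer (V : Set Ω))
    (h1 : ∀ x ∈ F.core, x⁻¹ * (c * x * c⁻¹) ∈ V) (h2 : ∀ x ∈ F.core, x⁻¹ * (c⁻¹ * x * c) ∈ V) :
    c ∈ F.core := by
  obtain ⟨hFs, Q₀, hQ₀n, hQ₀c⟩ := hF
  have hQ : F.IsNormal F.core := isNormal_core F
  have hQ₀le : Q₀ ≤ F.core := le_sSup hQ₀n
  have hQc : F.IsCentric F.core := isCentric_of_le F hQ₀c hQ₀le hQ.1
  have hNK : F.IsNormal (NK S F.core
      ((Cfsg.pCore p ↥(F.autGroup F.core)).map (F.autGroup F.core).subtype)) :=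
    isNormal_NK hS F hFs hQ hQc _ (fun α hα κ hκ => pCoreMap_conj_mem p _ hα hκ)
      (pCoreMap_isPGroup p _)
  have hNKle : NK S F.core
      ((Cfsg.pCore p ↥(F.autGroup F.core)).map (F.autGroup F.core).subtype) ≤ F.core :=
    le_sSup hNK
  have hcN : c ∈ Subgroup.normalizer ((F.core : Subgroup Ω) : Set Ω) := isNormal_le_normalizer hQ hcS
  apply hNKle
  refine mem_NK_iff.mpr ⟨hcS, conjAut F.core c hcN, ?_, fun x => rfl⟩
  exact conjAut_mem_pCoreMap_of_chain hS F hQ.1 hVS hV hcS hcN hcV h1 h2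

theorem core_isNormal_isCentric_of_constrained [Finite S] {p : ℕ} (F : FusionSystem S)
    (hF : F.IsConstrained p) : F.IsNormal F.core ∧ F.IsCentric F.core := by
  obtain ⟨-, Q₀, hQ₀n, hQ₀c⟩ := hF
  have hQ : F.IsNormal F.core := isNormal_core F
  exact ⟨hQ, isCentric_of_le F hQ₀c (le_sSup hQ₀n) hQ.1⟩

end Abstract

section Quot

variable {G : Type*} [Group G]

/-- A `p`-element of `T · Z(G)` lies in the Sylow `p`-subgroup `T`. -/
theorem mem_sylow_of_mk_mem [Finite G] {p : ℕ} [Fact p.Prime] (T : Sylow p G) {y : G}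
    (hy : QuotientGroup.mk' (Subgroup.center G) y ∈
      (T : Subgroup G).map (QuotientGroup.mk' (Subgroup.center G)))
    (hp : ∃ k : ℕ, y ^ (p ^ k) = 1) : y ∈ (T : Subgroup G) := by
  obtain ⟨t, ht, hty⟩ := hy
  have hz : t⁻¹ * y ∈ Subgroup.center G := by
    have := (QuotientGroup.eq (s := Subgroup.center G)).mp hty
    exact this
  have hzc : ∀ x : G, x * (t⁻¹ * y) = (t⁻¹ * y) * x := fun x => (Subgroup.mem_center_iff.mp hz x)
  obtain ⟨k, hk⟩ := hp
  obtain ⟨j, hj⟩ := T.isPGroup' ⟨t, ht⟩
  have hj' : t ^ (p ^ j) = 1 := by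
    have := congrArg Subtype.val hj
    simpa using this
  have hcomm : Commute t⁻¹ y := by
    have h1 := hzc t
    have h2 : t * y = y * t := by
      have e1 : t * (t⁻¹ * y) = y := by group
      have e2 : t * y = t * (t * (t⁻¹ * y)) := by rw [e1]
      rw [e2, h1]
      group
    exact (Commute.inv_left (show Commute t y from h2))
  have hzpow : (t⁻¹ * y) ^ (p ^ (j + k)) = 1 := by
    rw [hcomm.mul_pow, inv_pow, pow_add, pow_mul, hj', one_pow, inv_one, one_mul, mul_comm (p ^ j),
      pow_mul, hk, one_pow]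
  have hn : (Subgroup.zpowers (t⁻¹ * y)).Normal := by
    constructor
    intro n hn g
    obtain ⟨i, rfl⟩ := Subgroup.mem_zpowers_iff.mp hn
    have hzi : (t⁻¹ * y) ^ i ∈ Subgroup.center G := Subgroup.zpow_mem _ hz i
    have : g * (t⁻¹ * y) ^ i * g⁻¹ = (t⁻¹ * y) ^ i := by
      rw [(Subgroup.mem_center_iff.mp hzi g)]; group
    rw [this]
    exact Subgroup.zpow_mem _ (Subgroup.mem_zpowers _) i
  have hpg : IsPGroup p (Subgroup.zpowers (t⁻¹ * y)) := by
    rintro ⟨w, hw⟩
    obtain ⟨i, rfl⟩ := Subgroup.mem_zpowers_iff.mp hw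
    refine ⟨j + k, Subtype.ext ?_⟩
    show ((t⁻¹ * y) ^ i) ^ (p ^ (j + k)) = 1
    rw [← zpow_natCast, ← zpow_mul, mul_comm, zpow_mul, zpow_natCast, hzpow, one_zpow]
  have hle := hpg.le_sylow_of_normal T
  have hzT : t⁻¹ * y ∈ (T : Subgroup G) := hle (Subgroup.mem_zpowers _)
  have : y = t * (t⁻¹ * y) := by group
  rw [this]
  exact Subgroup.mul_mem _ ht hzT

/-- If `F_T(G)` is constrained then so is the fusion system of `G / Z(G)` on the image of `T`. -/
theorem groupFS_center_quotient_constrained [Finite G] {p : ℕ} [Fact p.Prime] (T : Sylow p G)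
    (hF : (groupFusionSystem (T : Subgroup G)).IsConstrained p) :
    (groupFusionSystem
      ((T : Subgroup G).map (QuotientGroup.mk' (Subgroup.center G)))).IsConstrained p := by
  have hπs : Function.Surjective (QuotientGroup.mk' (Subgroup.center G)) :=
    QuotientGroup.mk'_surjective _
  obtain ⟨hQn, hQc⟩ := core_isNormal_isCentric_of_constrained _ hF
  have hTp : IsPGroup p (T : Subgroup G) := T.isPGroup'
  have hQT : (groupFusionSystem (T : Subgroup G)).core ≤ T := hQn.1
  have hsat : (groupFusionSystem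
      ((T : Subgroup G).map (QuotientGroup.mk' (Subgroup.center G)))).IsSaturated p := by
    have := Cfsg.Agent.S5076.result p (T.mapSurjective hπs)
    rw [Sylow.coe_mapSurjective] at this
    exact this
  have hnormal : (groupFusionSystem
      ((T : Subgroup G).map (QuotientGroup.mk' (Subgroup.center G)))).IsNormal
      ((groupFusionSystem (T : Subgroup G)).core.map (QuotientGroup.mk' (Subgroup.center G))) := by
    refine ⟨Subgroup.map_mono hQT, ?_⟩
    rintro P' φ' ⟨hP'T, hval, g', hg'⟩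
    obtain ⟨g, rfl⟩ := hπs g'
    have hPmap : ∀ x' ∈ P', ∃ x ∈ (T : Subgroup G) ⊓
        P'.comap (QuotientGroup.mk' (Subgroup.center G)),
        QuotientGroup.mk' (Subgroup.center G) x = x' := by
      intro x' hx'
      obtain ⟨t, ht, rfl⟩ := hP'T hx'
      exact ⟨t, ⟨ht, hx'⟩, rfl⟩
    have hφ : conjHom ((T : Subgroup G) ⊓ P'.comap (QuotientGroup.mk' (Subgroup.center G))) g ∈
        (groupFusionSystem (T : Subgroup G)).Hom
          ((T : Subgroup G) ⊓ P'.comap (QuotientGroup.mk' (Subgroup.center G))) := by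
      refine ⟨inf_le_left, fun x => ?_, g, fun x => rfl⟩
      apply mem_sylow_of_mk_mem T
      · have h1 := hval ⟨QuotientGroup.mk' (Subgroup.center G) x, x.2.2⟩
        rw [hg'] at h1
        show QuotientGroup.mk' (Subgroup.center G) (g * x * g⁻¹) ∈ _
        rw [map_mul, map_mul, map_inv]
        exact h1
      · obtain ⟨k, hk⟩ := hTp ⟨x, x.2.1⟩
        refine ⟨k, ?_⟩
        have hk' : (x : G) ^ (p ^ k) = 1 := by
          have := congrArg Subtype.val hk
          simpa using this
        show (g * x * g⁻¹) ^ (p ^ k) = 1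
        rw [conj_pow, hk']
        group
    obtain ⟨ψ, ⟨-, hψT, k, hk⟩, hψφ, hψQ⟩ := hQn.2 _ _ hφ
    have hsup : ∀ x' ∈ P' ⊔ (groupFusionSystem (T : Subgroup G)).core.map
        (QuotientGroup.mk' (Subgroup.center G)),
        ∃ x, ∃ _ : x ∈ ((T : Subgroup G) ⊓ P'.comap (QuotientGroup.mk' (Subgroup.center G))) ⊔
          (groupFusionSystem (T : Subgroup G)).core,
          QuotientGroup.mk' (Subgroup.center G) x = x' := by
      have e : (((T : Subgroup G) ⊓ P'.comap (QuotientGroup.mk' (Subgroup.center G))) ⊔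
          (groupFusionSystem (T : Subgroup G)).core).map (QuotientGroup.mk' (Subgroup.center G)) =
          P' ⊔ (groupFusionSystem (T : Subgroup G)).core.map
            (QuotientGroup.mk' (Subgroup.center G)) := by
        rw [Subgroup.map_sup]
        congr 1
        apply le_antisymm
        · rintro _ ⟨x, hx, rfl⟩
          exact hx.2
        · intro x' hx'
          obtain ⟨x, hx, rfl⟩ := hPmap x' hx'
          exact ⟨x, hx, rfl⟩
      intro x' hx'
      rw [← e] at hx'
      obtain ⟨x, hx, rfl⟩ := hx'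
      exact ⟨x, hx, rfl⟩
    refine ⟨conjHom (P' ⊔ (groupFusionSystem (T : Subgroup G)).core.map
        (QuotientGroup.mk' (Subgroup.center G))) (QuotientGroup.mk' (Subgroup.center G) k),
      ⟨sup_le hP'T (Subgroup.map_mono hQT), ?_, QuotientGroup.mk' (Subgroup.center G) k,
        fun x => rfl⟩, ?_, ?_⟩
    · intro x'
      obtain ⟨x, hx, hxx⟩ := hsup x' x'.2
      show QuotientGroup.mk' (Subgroup.center G) k * (x' : G ⧸ Subgroup.center G) *
        (QuotientGroup.mk' (Subgroup.center G) k)⁻¹ ∈ _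
      rw [← hxx, ← map_inv, ← map_mul, ← map_mul]
      refine ⟨k * x * k⁻¹, ?_, rfl⟩
      have := hψT ⟨x, hx⟩
      rw [hk] at this
      exact this
    · intro x'
      obtain ⟨x, hx, hxx⟩ := hPmap x' x'.2
      show QuotientGroup.mk' (Subgroup.center G) k * ((x' : G ⧸ Subgroup.center G)) *
        (QuotientGroup.mk' (Subgroup.center G) k)⁻¹ = φ' x'
      rw [hg', ← hxx, ← map_inv, ← map_mul, ← map_mul, ← map_inv, ← map_mul, ← map_mul]
      congr 1
      have := hψφ ⟨x, hx⟩
      rw [hk] at this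
      exact this
    · ext y'
      constructor
      · rintro ⟨x', hx', rfl⟩
        have hx' : x' ∈ ((groupFusionSystem (T : Subgroup G)).core.map
            (QuotientGroup.mk' (Subgroup.center G))).subgroupOf _ := hx'
        rw [Subgroup.mem_subgroupOf] at hx'
        obtain ⟨q, hq, hqx⟩ := hx'
        show QuotientGroup.mk' (Subgroup.center G) k * (x' : G ⧸ Subgroup.center G) *
          (QuotientGroup.mk' (Subgroup.center G) k)⁻¹ ∈ _
        rw [← hqx, ← map_inv, ← map_mul, ← map_mul]
        refine ⟨k * q * k⁻¹, ?_, rfl⟩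
        have h1 : ψ ⟨q, (le_sup_right : (groupFusionSystem (T : Subgroup G)).core ≤ _) hq⟩ ∈
            (groupFusionSystem (T : Subgroup G)).core :=
          hψQ.le ⟨⟨q, _⟩, Subgroup.mem_subgroupOf.mpr hq, rfl⟩
        rw [hk] at h1
        exact h1
      · rintro ⟨y, hy, rfl⟩
        obtain ⟨x, hx, hxy⟩ := hψQ.ge hy
        have hx : x ∈ (groupFusionSystem (T : Subgroup G)).core.subgroupOf _ := hx
        rw [Subgroup.mem_subgroupOf] at hx
        rw [hk] at hxy
        have hmem : QuotientGroup.mk' (Subgroup.center G) (x : G) ∈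
            (groupFusionSystem (T : Subgroup G)).core.map
              (QuotientGroup.mk' (Subgroup.center G)) := ⟨x, hx, rfl⟩
        refine ⟨⟨QuotientGroup.mk' (Subgroup.center G) (x : G),
          (le_sup_right : (groupFusionSystem (T : Subgroup G)).core.map
            (QuotientGroup.mk' (Subgroup.center G)) ≤ P' ⊔ _) hmem⟩,
          Subgroup.mem_subgroupOf.mpr hmem, ?_⟩
        show QuotientGroup.mk' (Subgroup.center G) k * QuotientGroup.mk' (Subgroup.center G) (x : G) *
          (QuotientGroup.mk' (Subgroup.center G) k)⁻¹ = QuotientGroup.mk' (Subgroup.center G) y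
        rw [← hxy, map_mul, map_mul, map_inv]
  refine ⟨hsat, _, hnormal, Subgroup.map_mono hQT, fun R' hR' => ?_⟩
  rw [isConj_eq_of_isNormal _ hnormal hR']
  rintro x' ⟨hx'T, hx'C⟩
  obtain ⟨x, hxT, rfl⟩ := hx'T
  refine ⟨x, ?_, rfl⟩
  have hx'C' := Subgroup.mem_centralizer_iff.mp hx'C
  have hcen : ∀ q ∈ (groupFusionSystem (T : Subgroup G)).core, ∀ u : G, u = x ∨ u = x⁻¹ →
      q⁻¹ * (u * q * u⁻¹) ∈ (T : Subgroup G) ⊓ Subgroup.center G := by
    intro q hq u hu
    have huT : u ∈ (T : Subgroup G) := by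
      rcases hu with rfl | rfl
      · exact hxT
      · exact Subgroup.inv_mem _ hxT
    refine ⟨?_, ?_⟩
    · exact Subgroup.mul_mem _ (Subgroup.inv_mem _ (hQT hq))
        (Subgroup.mul_mem _ (Subgroup.mul_mem _ huT (hQT hq)) (Subgroup.inv_mem _ huT))
    · show q⁻¹ * (u * q * u⁻¹) ∈ Subgroup.center G
      rw [← QuotientGroup.ker_mk' (Subgroup.center G), MonoidHom.mem_ker]
      have h1 := hx'C' (QuotientGroup.mk' (Subgroup.center G) q) ⟨q, hq, rfl⟩
      rw [map_mul, map_inv, map_mul, map_mul, map_inv]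
      rcases hu with rfl | rfl
      · rw [← h1]
        group
      · rw [map_inv, inv_inv]
        have h2 : QuotientGroup.mk' (Subgroup.center G) q =
            (QuotientGroup.mk' (Subgroup.center G) x)⁻¹ *
              QuotientGroup.mk' (Subgroup.center G) q * QuotientGroup.mk' (Subgroup.center G) x := by
          rw [mul_assoc, h1]
          group
        rw [← h2]
        group
  refine mem_core_of_chain hTp _ hF (V := (T : Subgroup G) ⊓ Subgroup.center G) inf_le_left ?_ hxT
    ?_ ?_ ?_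
  · intro α hα y hy
    have hmem := (mem_autGroup_iff (groupFusionSystem (T : Subgroup G)) hQT).mp hα
    obtain ⟨-, -, g, hg⟩ := hmem
    have h1 : ((α y : (groupFusionSystem (T : Subgroup G)).core) : G) = g * y * g⁻¹ := hg y
    have h2 : g * (y : G) * g⁻¹ = y := by
      rw [(Subgroup.mem_center_iff.mp hy.2 g)]
      group
    rw [h1, h2]
    exact hy
  · rw [Subgroup.mem_centralizer_iff]
    intro v hv
    exact (Subgroup.mem_center_iff.mp hv.2 x).symm
  · intro q hq
    exact hcen q hq x (Or.inl rfl)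
  · intro q hq
    have := hcen q hq x⁻¹ (Or.inr rfl)
    rw [inv_inv] at this
    exact this

end Quot

end Cfsg.Agent.Lib.Helper27
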