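import Cfsg.Agent.Lib.Helper26.FusionSeries3
import Cfsg.Agent.Lib.Helper1.Cores

set_option autoImplicit false

namespace Cfsg.Agent.Lib.Helper27

open Cfsg Cfsg.FusionSystem Cfsg.Agent.Lib.Helper26

variable {Ω : Type*} [Group Ω] {S : Subgroup Ω}

theorem autInvariant_bot {P : Subgroup Ω} (A : Subgroup (MulAut P)) : AutInvariant A ⊥ := by
  intro α _ x hx
  have : x = 1 := Subtype.ext (Subgroup.mem_bot.mp hx)
  rw [this, map_one]
  exact Subgroup.one_mem _

/-- An element of `N_S(P)` centralizing `V` and acting trivially on `P` modulo `V`, where `V` is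
invariant under `Aut_F(P)`, induces an element of `O_p(Aut_F(P))`. -/
theorem conjAut_mem_pCoreMap_of_chain [Finite S] {p : ℕ} [Fact p.Prime] (hS : IsPGroup p S)
    (F : FusionSystem S) {P V : Subgroup Ω} (hPS : P ≤ S) (hVS : V ≤ S)
    (hV : AutInvariant (F.autGroup P) V) {c : Ω} (hcS : c ∈ S)
    (hcP : c ∈ Subgroup.normalizer (P : Set Ω)) (hcV : c ∈ Subgroup.centralizer (V : Set Ω))
    (h1 : ∀ x ∈ P, x⁻¹ * (c * x * c⁻¹) ∈ V) (h2 : ∀ x ∈ P, x⁻¹ * (c⁻¹ * x * c) ∈ V) :
    conjAut P c hcP ∈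
      ((Cfsg.pCore p ↥(F.autGroup P)).map (F.autGroup P).subtype : Subgroup (MulAut ↥P)) := by
  have hn1 : ((linkStab P ⊥ V).subgroupOf (F.autGroup P)).Normal :=
    linkStab_subgroupOf_normal _ (autInvariant_bot _) hV
  have hn2 : ((linkStab P V P).subgroupOf (F.autGroup P)).Normal :=
    linkStab_subgroupOf_normal _ hV (autInvariant_self _)
  have hKn : ((linkStab P ⊥ V).subgroupOf (F.autGroup P) ⊓
      (linkStab P V P).subgroupOf (F.autGroup P)).Normal := Subgroup.normal_inf_normal _ _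
  have hKp : IsPGroup p ↥((linkStab P ⊥ V).subgroupOf (F.autGroup P) ⊓
      (linkStab P V P).subgroupOf (F.autGroup P)) := by
    refine isPGroup_of_forall_isPElementOn (P := P)
      ((F.autGroup P).subtype.comp (Subgroup.subtype _))
      ((F.autGroup P).subtype_injective.comp (Subgroup.subtype_injective _)) ?_
    rintro ⟨β, hβ⟩
    rw [Subgroup.mem_inf] at hβ
    obtain ⟨hβ1, hβ2⟩ := hβ
    show IsPElementOn p (β : MulAut P) P
    have hstep1 : IsPElementOn p (β : MulAut P) V := by
      refine isPElementOn_step hS bot_le _ (isPElementOn_bot p _) (fun x hx => ?_)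
      have := (Subgroup.mem_subgroupOf.mp hβ1) x hx
      exact ⟨this.1.1, this.2.1⟩
    refine isPElementOn_step hS hVS _ hstep1 (fun x hx => ?_)
    have := (Subgroup.mem_subgroupOf.mp hβ2) x hx
    exact ⟨this.1.1, this.2.1⟩
  have hA : conjAut P c hcP ∈ F.autGroup P :=
    autInducedBy_le_autGroup F hPS (conjAut_mem_autInducedBy hcS hcP)
  have hcVn : c ∈ Subgroup.normalizer (V : Set Ω) := Subgroup.centralizer_le_normalizer _ hcV
  have hcomm : ∀ x ∈ V, c * x * c⁻¹ = x := by
    intro x hx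
    have := (Subgroup.mem_centralizer_iff.mp hcV) x hx
    rw [← this]; group
  have hcomm' : ∀ x ∈ V, c⁻¹ * x * c = x := by
    intro x hx
    have := (Subgroup.mem_centralizer_iff.mp hcV) x hx
    rw [mul_assoc, this]; group
  have hK : (⟨conjAut P c hcP, hA⟩ : F.autGroup P) ∈
      (linkStab P ⊥ V).subgroupOf (F.autGroup P) ⊓
        (linkStab P V P).subgroupOf (F.autGroup P) := by
    rw [Subgroup.mem_inf]
    constructor
    · rw [Subgroup.mem_subgroupOf]
      refine conjAut_mem_linkStab hcP hcVn (fun x hx => ?_) (fun x hx => ?_)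
      · rw [hcomm x hx, inv_mul_cancel]; exact Subgroup.one_mem _
      · rw [hcomm' x hx, inv_mul_cancel]; exact Subgroup.one_mem _
    · rw [Subgroup.mem_subgroupOf]
      exact conjAut_mem_linkStab hcP hcP h1 h2
  exact ⟨⟨conjAut P c hcP, hA⟩, Helper1.le_pCore hKn hKp hK, rfl⟩

end Cfsg.Agent.Lib.Helper27
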