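import Mathlib
import Cfsg.Agent.Lib.Helper27.FusCentric

set_option autoImplicit false

namespace Cfsg.Agent.Lib.Helper27

variable {K : Type*} [Group K]

/-- Automorphisms of `K` acting trivially on `N` modulo `M`. -/
def facStab (M N : Subgroup K) [hM : M.Characteristic] [hN : N.Characteristic] :
    Subgroup (MulAut K) where
  carrier := {γ | ∀ x ∈ N, x⁻¹ * γ x ∈ M}
  one_mem' := by
    intro x _
    simp
  mul_mem' := by
    intro γ δ hγ hδ x hx
    have h1 : x⁻¹ * δ x ∈ M := hδ x hx
    have h2 : γ (x⁻¹ * δ x) ∈ M := by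
      have := hM.fixed γ
      have h3 : x⁻¹ * δ x ∈ Subgroup.comap γ.toMonoidHom M := by rw [this]; exact h1
      exact h3
    have e : x⁻¹ * (γ * δ) x = (x⁻¹ * γ x) * γ (x⁻¹ * δ x) := by
      rw [MulAut.mul_apply, map_mul, map_inv]; group
    rw [e]
    exact M.mul_mem (hγ x hx) h2
  inv_mem' := by
    intro γ hγ x hx
    have hx' : γ⁻¹ x ∈ N := by
      have := hN.fixed γ⁻¹
      have h3 : x ∈ Subgroup.comap (γ⁻¹ : MulAut K).toMonoidHom N := by rw [this]; exact hx
      exact h3
    have h1 := hγ _ hx'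
    rw [MulAut.apply_inv_self] at h1
    have e : x⁻¹ * γ⁻¹ x = ((γ⁻¹ x)⁻¹ * x)⁻¹ := by group
    rw [e]
    exact M.inv_mem h1

theorem mem_facStab_iff {M N : Subgroup K} [hM : M.Characteristic] [hN : N.Characteristic]
    {γ : MulAut K} : γ ∈ facStab M N ↔ ∀ x ∈ N, x⁻¹ * γ x ∈ M := Iff.rfl

theorem facStab_normal (M N : Subgroup K) [hM : M.Characteristic] [hN : N.Characteristic] :
    (facStab M N).Normal := by
  constructor
  intro γ hγ φ x hx
  have hx' : φ⁻¹ x ∈ N := by
    have := hN.fixed φ⁻¹
    have h3 : x ∈ Subgroup.comap (φ⁻¹ : MulAut K).toMonoidHom N := by rw [this]; exact hx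
    exact h3
  have h1 := hγ _ hx'
  have h2 : φ ((φ⁻¹ x)⁻¹ * γ (φ⁻¹ x)) ∈ M := by
    have := hM.fixed φ
    have h3 : (φ⁻¹ x)⁻¹ * γ (φ⁻¹ x) ∈ Subgroup.comap φ.toMonoidHom M := by rw [this]; exact h1
    exact h3
  have e : x⁻¹ * (φ * γ * φ⁻¹) x = φ ((φ⁻¹ x)⁻¹ * γ (φ⁻¹ x)) := by
    rw [MulAut.mul_apply, MulAut.mul_apply, map_mul, map_inv, MulAut.apply_inv_self]
  rw [e]
  exact h2

/-- Restriction of an automorphism to a characteristic subgroup. -/
def charRestrict (N : Subgroup K) [hN : N.Characteristic] (α : MulAut K) : MulAut N where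
  toFun x := ⟨α x, by
    have := hN.fixed α
    have h3 : (x : K) ∈ Subgroup.comap α.toMonoidHom N := by rw [this]; exact x.2
    exact h3⟩
  invFun x := ⟨α⁻¹ x, by
    have := hN.fixed α⁻¹
    have h3 : (x : K) ∈ Subgroup.comap (α⁻¹ : MulAut K).toMonoidHom N := by rw [this]; exact x.2
    exact h3⟩
  left_inv x := Subtype.ext (by simp)
  right_inv x := Subtype.ext (by simp)
  map_mul' x y := Subtype.ext (by simp)

theorem charRestrict_apply (N : Subgroup K) [hN : N.Characteristic] (α : MulAut K) (x : N) :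
    ((charRestrict N α x : N) : K) = α x := rfl

theorem charRestrict_pow_apply (N : Subgroup K) [hN : N.Characteristic] (α : MulAut K) (j : ℕ)
    (x : N) : (((charRestrict N α) ^ j) x : K) = (α ^ j) x := by
  induction j generalizing x with
  | zero => simp
  | succ j ih =>
    rw [pow_succ, pow_succ, MulAut.mul_apply, MulAut.mul_apply, ih, charRestrict_apply]

theorem pow_pred_mem_facStab [Finite K] {p : ℕ} [hp : Fact p.Prime] (M N : Subgroup K)
    [hM : M.Characteristic] [hN : N.Characteristic] (hMN : M ≤ N)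
    (hidx : Nat.card N = p * Nat.card M) (α : MulAut K) : α ^ (p - 1) ∈ facStab M N := by
  have hnorm : (M.subgroupOf N).Normal := Subgroup.normal_subgroupOf
  have hmap : Subgroup.map ((charRestrict N α : N ≃* N) : N →* N) (M.subgroupOf N) =
      M.subgroupOf N := by
    apply le_antisymm
    · rintro _ ⟨x, hx, rfl⟩
      have hx : x ∈ M.subgroupOf N := hx
      rw [Subgroup.mem_subgroupOf] at hx ⊢
      have := hM.fixed α
      have h3 : (x : K) ∈ Subgroup.comap α.toMonoidHom M := by rw [this]; exact hx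
      exact h3
    · intro y hy
      rw [Subgroup.mem_subgroupOf] at hy
      refine ⟨(charRestrict N α).symm y, ?_, by simp⟩
      show (charRestrict N α).symm y ∈ M.subgroupOf N
      rw [Subgroup.mem_subgroupOf]
      have := hM.fixed α⁻¹
      have h3 : (y : K) ∈ Subgroup.comap (α⁻¹ : MulAut K).toMonoidHom M := by rw [this]; exact hy
      exact h3
  set β : (N ⧸ M.subgroupOf N) ≃* (N ⧸ M.subgroupOf N) :=
    QuotientGroup.congr (M.subgroupOf N) (M.subgroupOf N) (charRestrict N α) hmap with hβ
  have hcardQ : Nat.card (N ⧸ M.subgroupOf N) = p := by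
    have h1 := Subgroup.card_eq_card_quotient_mul_card_subgroup (M.subgroupOf N)
    have h2 : Nat.card (M.subgroupOf N) = Nat.card M :=
      Nat.card_congr (Subgroup.subgroupOfEquivOfLe hMN).toEquiv
    rw [h2, hidx] at h1
    have hpos : 0 < Nat.card M := Nat.card_pos
    exact (Nat.eq_of_mul_eq_mul_right hpos h1).symm
  have hcyc : IsCyclic (N ⧸ M.subgroupOf N) := isCyclic_of_prime_card hcardQ
  have hfinQ : Finite (N ⧸ M.subgroupOf N) := Nat.finite_of_card_ne_zero (by
    rw [hcardQ]; exact hp.out.ne_zero)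
  have hcardA : Nat.card (MulAut (N ⧸ M.subgroupOf N)) = p - 1 := by
    rw [IsCyclic.card_mulAut, hcardQ, Nat.totient_prime hp.out]
  have hfinA : Finite (MulAut (N ⧸ M.subgroupOf N)) := Nat.finite_of_card_ne_zero (by
    rw [hcardA]
    have := hp.out.two_le
    omega)
  have hβpow : (β : MulAut (N ⧸ M.subgroupOf N)) ^ (p - 1) = 1 := by
    rw [← hcardA]
    exact pow_card_eq_one'
  have hβj : ∀ (j : ℕ) (x : N), ((β : MulAut (N ⧸ M.subgroupOf N)) ^ j)
      (QuotientGroup.mk x) = QuotientGroup.mk (((charRestrict N α) ^ j) x) := by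
    intro j
    induction j with
    | zero => intro x; simp
    | succ j ih =>
      intro x
      rw [pow_succ, pow_succ, MulAut.mul_apply, MulAut.mul_apply]
      have h1 : (β : MulAut (N ⧸ M.subgroupOf N)) (QuotientGroup.mk x) =
          QuotientGroup.mk (charRestrict N α x) :=
        QuotientGroup.congr_mk _ _ _ hmap x
      rw [h1, ih]
  intro x hx
  have h1 := hβj (p - 1) ⟨x, hx⟩
  rw [hβpow, MulAut.one_apply] at h1
  have h2 := (QuotientGroup.eq).mp h1
  rw [Subgroup.mem_subgroupOf] at h2
  have h4 : (((⟨x, hx⟩ : N)⁻¹ * ((charRestrict N α) ^ (p - 1)) ⟨x, hx⟩ : N) : K) =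
      x⁻¹ * (α ^ (p - 1)) x := by
    rw [Subgroup.coe_mul, Subgroup.coe_inv, charRestrict_pow_apply]
  rw [h4] at h2
  exact h2

theorem pow_card_subgroup_eq_one {X : Subgroup K} [Finite X] {t : K} (ht : t ∈ X) :
    t ^ Nat.card X = 1 := by
  have h : (⟨t, ht⟩ : X) ^ Nat.card X = 1 := pow_card_eq_one'
  have h2 := congrArg Subtype.val h
  rw [Subgroup.coe_pow, Subgroup.coe_one] at h2
  exact h2

/-- A group of order `p³` with a characteristic chain `X < Y` of orders `p`, `p²`: every automorphism
raised to the power `p - 1` lies in a fixed normal `p`-subgroup of the automorphism group. -/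
theorem exists_normal_pgroup_of_chain [Finite K] {p : ℕ} [hp : Fact p.Prime]
    (hcard : Nat.card K = p ^ 3) (X Y : Subgroup K) [hX : X.Characteristic]
    [hY : Y.Characteristic] (hXY : X ≤ Y) (hXc : Nat.card X = p) (hYc : Nat.card Y = p ^ 2) :
    ∃ St : Subgroup (MulAut K), St.Normal ∧ IsPGroup p St ∧ ∀ α : MulAut K, α ^ (p - 1) ∈ St := by
  have n1 := facStab_normal (⊥ : Subgroup K) X
  have n2 := facStab_normal X Y
  have n3 := facStab_normal Y (⊤ : Subgroup K)
  refine ⟨facStab (⊥ : Subgroup K) X ⊓ facStab X Y ⊓ facStab Y (⊤ : Subgroup K), ?_, ?_, ?_⟩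
  · have : (facStab (⊥ : Subgroup K) X ⊓ facStab X Y).Normal := Subgroup.normal_inf_normal _ _
    exact Subgroup.normal_inf_normal _ _
  · rintro ⟨γ, hγ⟩
    obtain ⟨⟨h1, h2⟩, h3⟩ := hγ
    refine ⟨3, ?_⟩
    apply Subtype.ext
    show γ ^ (p ^ 3) = 1
    have hfix1 : ∀ x ∈ X, γ x = x := by
      intro x hx
      have := h1 x hx
      rw [Subgroup.mem_bot, inv_mul_eq_one] at this
      exact this.symm
    have hfix2 : ∀ y ∈ Y, (γ ^ p) y = y := by
      intro y hy
      have ht : y⁻¹ * γ y ∈ X := h2 y hy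
      have h4 := aut_pow_apply_of_fixed γ y (y⁻¹ * γ y) (by group) (hfix1 _ ht) p
      rw [h4]
      have := pow_card_subgroup_eq_one ht
      rw [hXc] at this
      rw [this, mul_one]
    have h3' : γ ^ p ∈ facStab Y (⊤ : Subgroup K) := Subgroup.pow_mem _ h3 p
    ext k
    have ht : k⁻¹ * (γ ^ p) k ∈ Y := h3' k (Subgroup.mem_top k)
    have h4 := aut_pow_apply_of_fixed (γ ^ p) k (k⁻¹ * (γ ^ p) k) (by group) (hfix2 _ ht) (p ^ 2)
    have e : γ ^ (p ^ 3) = (γ ^ p) ^ (p ^ 2) := by
      rw [← pow_mul]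
      congr 1
      ring
    rw [e, h4]
    have := pow_card_subgroup_eq_one ht
    rw [hYc] at this
    rw [this, mul_one]
    rfl
  · intro α
    refine ⟨⟨?_, ?_⟩, ?_⟩
    · exact pow_pred_mem_facStab ⊥ X bot_le (by rw [Subgroup.card_bot, mul_one, hXc]) α
    · exact pow_pred_mem_facStab X Y hXY (by rw [hXc, hYc]; ring) α
    · exact pow_pred_mem_facStab Y ⊤ le_top (by rw [Subgroup.card_top, hcard, hYc]; ring) α

theorem ker_characteristic_of_pow {f : K →* K} {n : ℕ} (hf : ∀ x, f x = x ^ n) :
    f.ker.Characteristic := by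
  rw [Subgroup.characteristic_iff_le_comap]
  intro φ x hx
  rw [MonoidHom.mem_ker, hf] at hx
  show f (φ x) = 1
  rw [hf, ← map_pow, hx, map_one]

theorem range_characteristic_of_pow {f : K →* K} {n : ℕ} (hf : ∀ x, f x = x ^ n) :
    f.range.Characteristic := by
  rw [Subgroup.characteristic_iff_map_le]
  rintro φ _ ⟨_, ⟨x, rfl⟩, rfl⟩
  refine ⟨φ x, ?_⟩
  rw [hf, hf]
  exact (map_pow φ x n).symm

theorem card_ker_mul_card_range [Finite K] (f : K →* K) :
    Nat.card f.ker * Nat.card f.range = Nat.card K := by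
  rw [← Subgroup.index_ker]
  exact Subgroup.card_mul_index f.ker

/-- A homomorphism `x ↦ x ^ p` on a group of order `p³` whose kernel and image are proper and
nontrivial yields a characteristic chain. -/
theorem exists_char_chain_of_powHom [Finite K] {p : ℕ} [hp : Fact p.Prime]
    (hcard : Nat.card K = p ^ 3) (f : K →* K) (hf : ∀ x, f x = x ^ p)
    (hne : ¬ ∀ x : K, x ^ p = 1) :
    ∃ X Y : Subgroup K, X.Characteristic ∧ Y.Characteristic ∧ X ≤ Y ∧ Nat.card X = p ∧
      Nat.card Y = p ^ 2 := by
  have hkc := ker_characteristic_of_pow hf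
  have hrc := range_characteristic_of_pow hf
  have hmul := card_ker_mul_card_range f
  rw [hcard] at hmul
  have hdvd : Nat.card f.ker ∣ p ^ 3 := Dvd.intro _ hmul
  obtain ⟨i, hi, hki⟩ := (Nat.dvd_prime_pow hp.out).mp hdvd
  have hppos : 0 < p := hp.out.pos
  interval_cases i
  · exfalso
    rw [pow_zero] at hki
    have hbot : f.ker = ⊥ := Subgroup.card_eq_one.mp hki
    obtain ⟨x, hx⟩ := exists_prime_orderOf_dvd_card' (G := K) p (by rw [hcard]; exact dvd_pow_self p (by norm_num))
    have hxk : x ∈ f.ker := by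
      rw [MonoidHom.mem_ker, hf, ← hx, pow_orderOf_eq_one]
    rw [hbot, Subgroup.mem_bot] at hxk
    rw [hxk, orderOf_one] at hx
    exact hp.out.one_lt.ne hx
  · have hrange : Nat.card f.range = p ^ 2 := by
      rw [hki, pow_one] at hmul
      have : p * Nat.card f.range = p * p ^ 2 := by rw [hmul]; ring
      exact Nat.eq_of_mul_eq_mul_left hppos this
    refine ⟨f.ker, f.range, hkc, hrc, ?_, by rw [hki, pow_one], hrange⟩
    obtain ⟨y, hy⟩ := exists_prime_orderOf_dvd_card' (G := f.range) p
      (by rw [hrange]; exact dvd_pow_self p (by norm_num))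
    have hy1 : (y : K) ≠ 1 := by
      intro h
      have : y = 1 := Subtype.ext h
      rw [this, orderOf_one] at hy
      exact hp.out.one_lt.ne hy
    have hyk : (y : K) ∈ f.ker := by
      rw [MonoidHom.mem_ker, hf]
      have h1 : y ^ p = 1 := by rw [← hy, pow_orderOf_eq_one]
      have := congrArg Subtype.val h1
      rw [Subgroup.coe_pow, Subgroup.coe_one] at this
      exact this
    have hinf : (y : K) ∈ f.ker ⊓ f.range := ⟨hyk, y.2⟩
    have hd : Nat.card ↥(f.ker ⊓ f.range) ∣ Nat.card f.ker := Subgroup.card_dvd_of_le inf_le_left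
    rw [hki, pow_one] at hd
    rcases (Nat.dvd_prime hp.out).mp hd with h1 | h1
    · exfalso
      have hbot : f.ker ⊓ f.range = ⊥ := Subgroup.card_eq_one.mp h1
      rw [hbot, Subgroup.mem_bot] at hinf
      exact hy1 hinf
    · have heq : f.ker ⊓ f.range = f.ker :=
        Subgroup.eq_of_le_of_card_ge inf_le_left (by rw [h1, hki, pow_one])
      rw [← heq]
      exact inf_le_right
  · have hrange : Nat.card f.range = p := by
      rw [hki] at hmul
      have : p ^ 2 * Nat.card f.range = p ^ 2 * p := by rw [hmul]; ring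
      exact Nat.eq_of_mul_eq_mul_left (pow_pos hppos 2) this
    refine ⟨f.range, f.ker, hrc, hkc, ?_, hrange, hki⟩
    intro y hy
    rw [MonoidHom.mem_ker, hf]
    have := pow_card_subgroup_eq_one hy
    rw [hrange] at this
    exact this
  · exfalso
    apply hne
    have htop : f.ker = ⊤ := (Subgroup.card_eq_iff_eq_top _).mp (by rw [hki, hcard])
    intro x
    have : x ∈ f.ker := by rw [htop]; exact Subgroup.mem_top x
    rw [MonoidHom.mem_ker, hf] at this
    exact this

theorem exists_char_chain_of_comm [Finite K] {p : ℕ} [hp : Fact p.Prime]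
    (hcard : Nat.card K = p ^ 3) (hc : ∀ a b : K, a * b = b * a) (hne : ¬ ∀ x : K, x ^ p = 1) :
    ∃ X Y : Subgroup K, X.Characteristic ∧ Y.Characteristic ∧ X ≤ Y ∧ Nat.card X = p ∧
      Nat.card Y = p ^ 2 :=
  exists_char_chain_of_powHom hcard
    { toFun := fun x => x ^ p
      map_one' := one_pow p
      map_mul' := fun a b => Commute.mul_pow (hc a b) p } (fun _ => rfl) hne

theorem comm_of_cyclic_center_quotient (hcyc : IsCyclic (K ⧸ Subgroup.center K)) :
    ∀ a b : K, a * b = b * a := by
  have h := MonoidHom.isMulCommutative_of_isCyclic_of_ker_le_center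
    (QuotientGroup.mk' (Subgroup.center K)) (by rw [QuotientGroup.ker_mk'])
  exact fun a b => h.is_comm.comm a b

/-- The centre of a nonabelian group of order `p³` has order `p`, equals the commutator subgroup,
and contains all `p`-th powers. -/
theorem center_facts_of_nonabelian [Finite K] {p : ℕ} [hp : Fact p.Prime]
    (hcard : Nat.card K = p ^ 3) (hnc : ¬ ∀ a b : K, a * b = b * a) :
    Nat.card (Subgroup.center K) = p ∧ commutator K = Subgroup.center K ∧
      ∀ x : K, x ^ p ∈ Subgroup.center K := by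
  have hG : IsPGroup p K := IsPGroup.of_card hcard
  have hppos : 0 < p := hp.out.pos
  have hnt : Nontrivial K := by
    rw [← Finite.one_lt_card_iff_nontrivial, hcard]
    exact Nat.one_lt_pow (by norm_num) hp.out.one_lt
  have hZbot : ⊥ < Subgroup.center K := hG.bot_lt_center
  have hdvd : Nat.card (Subgroup.center K) ∣ p ^ 3 := by
    rw [← hcard]; exact Subgroup.card_subgroup_dvd_card _
  obtain ⟨i, hi, hZi⟩ := (Nat.dvd_prime_pow hp.out).mp hdvd
  have hquot := Subgroup.card_eq_card_quotient_mul_card_subgroup (Subgroup.center K)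
  rw [hcard, hZi] at hquot
  have hZ1 : Nat.card (Subgroup.center K) = p := by
    interval_cases i
    · exfalso
      rw [pow_zero] at hZi
      rw [Subgroup.card_eq_one.mp hZi] at hZbot
      exact lt_irrefl _ hZbot
    · rw [hZi, pow_one]
    · exfalso
      apply hnc
      have hq : Nat.card (K ⧸ Subgroup.center K) = p := by
        have : Nat.card (K ⧸ Subgroup.center K) * p ^ 2 = p * p ^ 2 := by rw [← hquot]; ring
        exact Nat.eq_of_mul_eq_mul_right (pow_pos hppos 2) this
      exact comm_of_cyclic_center_quotient (isCyclic_of_prime_card hq)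
    · exfalso
      apply hnc
      have htop : Subgroup.center K = ⊤ :=
        (Subgroup.card_eq_iff_eq_top _).mp (by rw [hZi, hcard])
      have := Subgroup.center_eq_top_iff.mp htop
      exact fun a b => this.is_comm.comm a b
  have hq : Nat.card (K ⧸ Subgroup.center K) = p ^ 2 := by
    rw [hZ1] at hZi
    rw [← hZi] at hquot
    have : Nat.card (K ⧸ Subgroup.center K) * p = p ^ 2 * p := by rw [← hquot]; ring
    exact Nat.eq_of_mul_eq_mul_right hppos this
  have hfinQ : Finite (K ⧸ Subgroup.center K) := inferInstance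
  have hqc : IsMulCommutative (K ⧸ Subgroup.center K) :=
    IsPGroup.isMulCommutative_of_card_eq_prime_sq hq
  have hcomle : commutator K ≤ Subgroup.center K :=
    Subgroup.Normal.quotient_commutative_iff_commutator_le.mp hqc
  have hcomne : commutator K ≠ ⊥ := by
    intro h
    apply hnc
    rw [commutator_def, Subgroup.commutator_eq_bot_iff_le_centralizer] at h
    intro a b
    have := h (Subgroup.mem_top a)
    rw [Subgroup.mem_centralizer_iff] at this
    exact (this b (Subgroup.mem_top b)).symm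
  refine ⟨hZ1, ?_, ?_⟩
  · have hd : Nat.card (commutator K) ∣ p := by
      rw [← hZ1]; exact Subgroup.card_dvd_of_le hcomle
    rcases (Nat.dvd_prime hp.out).mp hd with h1 | h1
    · exact absurd (Subgroup.card_eq_one.mp h1) hcomne
    · exact Subgroup.eq_of_le_of_card_ge hcomle (by rw [h1, hZ1])
  · intro x
    rw [← QuotientGroup.eq_one_iff, QuotientGroup.mk_pow, ← orderOf_dvd_iff_pow_eq_one]
    have hd : orderOf (x : K ⧸ Subgroup.center K) ∣ p ^ 2 := by
      rw [← hq]; exact orderOf_dvd_natCard _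
    obtain ⟨j, hj, hoj⟩ := (Nat.dvd_prime_pow hp.out).mp hd
    interval_cases j
    · rw [hoj, pow_zero]; exact one_dvd p
    · rw [hoj, pow_one]
    · exfalso
      apply hnc
      exact comm_of_cyclic_center_quotient (isCyclic_of_orderOf_eq_card _ (by rw [hoj, hq]))

end Cfsg.Agent.Lib.Helper27
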