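import Mathlib
import Cfsg.Agent.Lib.Helper27.OrderPCube
import Cfsg.Agent.Lib.Helper26.KNorm2
import Cfsg.Agent.Lib.Helper1.Frat
import Cfsg.Agent.S5080
import Cfsg.Agent.S4207

/-!
# Characteristic flags above the Frattini subgroup exclude essential subgroups

* `not_essential_of_normal_pgroup`: if `Aut(H)` has a normal `p`-subgroup containing all
  `(p - 1)`-st powers then `H` is not essential.
* `pow_mem_facStab_trans`: two successive trivial actions give a trivial action of the `p`-th power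
  modulo the Frattini subgroup.
* `not_essential_of_flag`: a flag `Φ(H) ≤ K₁ ≤ K₂ ≤ H` of characteristic subgroups with steps of
  index `1` or `p` excludes essentiality.
-/

set_option autoImplicit false
universe u

namespace Cfsg.Agent.Lib.Helper27.CharFlag

open Cfsg Cfsg.FusionSystem Cfsg.Agent.Lib.Helper26 Cfsg.Agent.Lib.Helper27

theorem not_essential_of_normal_pgroup {Ω : Type u} [Group Ω] {S : Subgroup Ω} [Finite S] {p : ℕ}
    [hp : Fact p.Prime] (hS : IsPGroup p S) (F : Cfsg.FusionSystem S) (hF : F.IsSaturated p)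
    {H : Subgroup Ω} (hH : F.IsEssential p H) (St : Subgroup (MulAut H)) (hStn : St.Normal)
    (hStp : IsPGroup p St) (hSt : ∀ α : MulAut H, α ^ (p - 1) ∈ St) : False := by
  have hHS : H ≤ S := hH.2.1.1
  have hfinH : Finite H := finite_of_le hHS
  have hfinA : Finite (MulAut H) := finite_mulAut_of_le hHS
  have hrad := Cfsg.Agent.S5080.result p hS F hF H hH
  have hn : (St.subgroupOf (F.autGroup H)).Normal := hStn.subgroupOf _
  have hpg : IsPGroup p (St.subgroupOf (F.autGroup H)) := hStp.comap_subtype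
  have hle := Cfsg.Agent.Lib.Helper1.le_pCore hn hpg
  have key : ∀ α ∈ F.autGroup H, α ^ (p - 1) ∈ Cfsg.Inn H := by
    intro α hα
    rw [← hrad.2]
    exact ⟨⟨α ^ (p - 1), Subgroup.pow_mem _ hα _⟩, hle (Subgroup.mem_subgroupOf.mpr (hSt α)), rfl⟩
  obtain ⟨-, -, hnI, E, hE⟩ := hH
  obtain ⟨g, hg⟩ := exists_prime_orderOf_dvd_card' p hE.1
  obtain ⟨a, rfl⟩ := QuotientGroup.mk_surjective g
  have h1 : ((a : F.autGroup H ⧸ (Cfsg.Inn H).subgroupOf (F.autGroup H))) ^ (p - 1) = 1 := by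
    rw [← QuotientGroup.mk_pow, QuotientGroup.eq_one_iff, Subgroup.mem_subgroupOf, Subgroup.coe_pow]
    exact key a a.2
  have h2 := orderOf_dvd_of_pow_eq_one h1
  rw [hg] at h2
  have h3 : 0 < p - 1 := by
    have := hp.out.two_le
    omega
  have := Nat.le_of_dvd h3 h2
  omega

variable {K : Type*} [Group K]

theorem facStab_of_eq (M N : Subgroup K) [hM : M.Characteristic] [hN : N.Characteristic]
    (h : N ≤ M) (α : MulAut K) : α ∈ facStab M N := by
  intro x hx
  have hx' : α x ∈ N := by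
    have := hN.fixed α
    have h3 : x ∈ Subgroup.comap α.toMonoidHom N := by rw [this]; exact hx
    exact h3
  exact M.mul_mem (M.inv_mem (h hx)) (h hx')

/-- two successive trivial actions combine, modulo a characteristic subgroup `Φ` containing the
derived subgroup and all `p`-th powers of `M` -/
theorem pow_mem_facStab_trans (p : ℕ) (Φ M N : Subgroup K) [hΦ : Φ.Characteristic]
    [hM : M.Characteristic] [hN : N.Characteristic]
    (hpow : ∀ m ∈ M, m ^ p ∈ Φ)
    (γ : MulAut K) (h1 : γ ∈ facStab Φ M) (h2 : γ ∈ facStab M N) : γ ^ p ∈ facStab Φ N := by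
  haveI hΦn : Φ.Normal := inferInstance
  intro x hx
  -- work in the quotient by `Φ`
  have hγΦ : ∀ y, y ∈ Φ → γ y ∈ Φ := by
    intro y hy
    have := hΦ.fixed γ
    have h3 : y ∈ Subgroup.comap γ.toMonoidHom Φ := by rw [this]; exact hy
    exact h3
  have hcong : ∀ y z : K, (QuotientGroup.mk' Φ) y = (QuotientGroup.mk' Φ) z →
      (QuotientGroup.mk' Φ) (γ y) = (QuotientGroup.mk' Φ) (γ z) := by
    intro y z hyz
    have h3 : y⁻¹ * z ∈ Φ := QuotientGroup.eq.mp hyz
    have h4 := hγΦ _ h3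
    rw [map_mul, map_inv] at h4
    exact QuotientGroup.eq.mpr h4
  obtain ⟨k, hk⟩ : ∃ k : K, k = x⁻¹ * γ x := ⟨_, rfl⟩
  have hkM : k ∈ M := by rw [hk]; exact h2 x hx
  have hγx : γ x = x * k := by rw [hk]; group
  have hγk : (QuotientGroup.mk' Φ) (γ k) = (QuotientGroup.mk' Φ) k := by
    have h3 : k⁻¹ * γ k ∈ Φ := h1 k hkM
    exact (QuotientGroup.eq.mpr h3).symm
  have hind : ∀ j : ℕ, (QuotientGroup.mk' Φ) ((γ ^ j) x) =
      (QuotientGroup.mk' Φ) x * (QuotientGroup.mk' Φ) k ^ j := by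
    intro j
    induction j with
    | zero => simp
    | succ j ih =>
      have e1 : (γ ^ (j + 1)) x = γ ((γ ^ j) x) := by
        rw [pow_succ', MulAut.mul_apply]
      have h3 : (QuotientGroup.mk' Φ) ((γ ^ j) x) = (QuotientGroup.mk' Φ) (x * k ^ j) := by
        rw [ih, map_mul, map_pow]
      have h4 : (QuotientGroup.mk' Φ) (γ ((γ ^ j) x)) = (QuotientGroup.mk' Φ) (γ (x * k ^ j)) :=
        hcong _ _ h3
      have h5 : γ (x * k ^ j) = x * k * (γ k) ^ j := by
        rw [map_mul, map_pow, hγx]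
      rw [e1, h4, h5, map_mul, map_mul, map_pow, hγk, pow_succ', mul_assoc]
  have h4 := hind p
  have h5 : (QuotientGroup.mk' Φ) k ^ p = 1 := by
    rw [← map_pow]
    exact (QuotientGroup.eq_one_iff _).mpr (hpow k hkM)
  rw [h5, mul_one] at h4
  exact QuotientGroup.eq.mp h4.symm

theorem card_eq_pow_of_isPGroup [Finite K] {p : ℕ} [hp : Fact p.Prime] (hK : IsPGroup p K) :
    ∃ n, Nat.card K = p ^ n := (IsPGroup.iff_card.mp hK)

/-- the stabilizer of a flag above the Frattini subgroup is a normal `p`-subgroup containing all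
`(p - 1)`-st powers -/
theorem exists_normal_pgroup_of_flag [Finite K] {p : ℕ} [hp : Fact p.Prime] (hK : IsPGroup p K)
    (K₁ K₂ : Subgroup K) [h₁ : K₁.Characteristic] [h₂ : K₂.Characteristic]
    (h0 : frattini K ≤ K₁) (h12 : K₁ ≤ K₂)
    (c0 : K₁ ≤ frattini K ∨ Nat.card K₁ = p * Nat.card (frattini K))
    (c1 : K₂ ≤ K₁ ∨ Nat.card K₂ = p * Nat.card K₁)
    (c2 : (⊤ : Subgroup K) ≤ K₂ ∨ Nat.card K = p * Nat.card K₂) :
    ∃ St : Subgroup (MulAut K), St.Normal ∧ IsPGroup p St ∧ ∀ α : MulAut K, α ^ (p - 1) ∈ St := by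
  haveI hΦc : (frattini K).Characteristic := frattini_characteristic
  have n1 := facStab_normal (frattini K) K₁
  have n2 := facStab_normal K₁ K₂
  have n3 := facStab_normal K₂ (⊤ : Subgroup K)
  have hpowΦ : ∀ m : K, m ^ p ∈ frattini K := fun m =>
    Cfsg.Agent.Lib.Helper1.pgroup_pow_mem_frattini hK m
  refine ⟨facStab (frattini K) K₁ ⊓ facStab K₁ K₂ ⊓ facStab K₂ (⊤ : Subgroup K), ?_, ?_, ?_⟩
  · have : (facStab (frattini K) K₁ ⊓ facStab K₁ K₂).Normal := Subgroup.normal_inf_normal _ _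
    exact Subgroup.normal_inf_normal _ _
  · -- `p`-group
    obtain ⟨n, hn⟩ := IsPGroup.iff_card.mp hK
    obtain ⟨r, -, hr⟩ := (Nat.dvd_prime_pow hp.out).mp
      (hn ▸ (frattini K).index_dvd_card)
    have hA : ∀ α ∈ facStab (frattini K) (⊤ : Subgroup K), ∀ x : K, α x * x⁻¹ ∈ frattini K := by
      intro α hα x
      have h3 : x⁻¹ * α x ∈ frattini K := hα x (Subgroup.mem_top x)
      have hn' : (frattini K).Normal := inferInstance
      have h4 := hn'.conj_mem _ h3 x
      have e : x * (x⁻¹ * α x) * x⁻¹ = α x * x⁻¹ := by group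
      rwa [e] at h4
    have hcardA := Cfsg.Agent.S4207.result hn hr (facStab (frattini K) (⊤ : Subgroup K)) hA
    have hAp : IsPGroup p (facStab (frattini K) (⊤ : Subgroup K)) := by
      haveI : Finite (MulAut K) := by
        have : Finite (K → K) := inferInstance
        exact Finite.of_injective (fun α : MulAut K => (α : K → K))
          (fun α β h => MulEquiv.ext (congrFun h))
      obtain ⟨m, -, hm⟩ := (Nat.dvd_prime_pow hp.out).mp hcardA
      exact IsPGroup.of_card hm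
    rintro ⟨γ, hγ⟩
    obtain ⟨⟨h1, h2⟩, h3⟩ := hγ
    have h4 : γ ^ p ∈ facStab (frattini K) K₂ :=
      pow_mem_facStab_trans p (frattini K) K₁ K₂ (fun m _ => hpowΦ m) γ h1 h2
    have h5 : γ ^ p ∈ facStab K₂ (⊤ : Subgroup K) := Subgroup.pow_mem _ h3 p
    have h6 : (γ ^ p) ^ p ∈ facStab (frattini K) (⊤ : Subgroup K) :=
      pow_mem_facStab_trans p (frattini K) K₂ ⊤ (fun m _ => hpowΦ m) (γ ^ p) h4 h5
    obtain ⟨m, hm⟩ := hAp ⟨(γ ^ p) ^ p, h6⟩
    refine ⟨2 + m, ?_⟩
    apply Subtype.ext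
    have h7 := congrArg Subtype.val hm
    simp only [Subgroup.coe_pow, Subgroup.coe_one] at h7 ⊢
    rw [← h7, ← pow_mul, ← pow_mul]
    congr 1
    ring
  · intro α
    refine ⟨⟨?_, ?_⟩, ?_⟩
    · rcases c0 with h | h
      · exact facStab_of_eq _ _ h _
      · exact pow_pred_mem_facStab (frattini K) K₁ h0 h α
    · rcases c1 with h | h
      · exact facStab_of_eq _ _ h _
      · exact pow_pred_mem_facStab K₁ K₂ h12 h α
    · rcases c2 with h | h
      · exact facStab_of_eq _ _ h _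
      · exact pow_pred_mem_facStab K₂ ⊤ le_top (by rw [Subgroup.card_top]; exact h) α

theorem not_essential_of_flag {Ω : Type u} [Group Ω] {S : Subgroup Ω} [Finite S] {p : ℕ}
    [hp : Fact p.Prime] (hS : IsPGroup p S) (F : Cfsg.FusionSystem S) (hF : F.IsSaturated p)
    {H : Subgroup Ω} (hH : F.IsEssential p H)
    (K₁ K₂ : Subgroup H) [h₁ : K₁.Characteristic] [h₂ : K₂.Characteristic]
    (h0 : frattini ↥H ≤ K₁) (h12 : K₁ ≤ K₂)
    (c0 : K₁ ≤ frattini ↥H ∨ Nat.card K₁ = p * Nat.card (frattini ↥H))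
    (c1 : K₂ ≤ K₁ ∨ Nat.card K₂ = p * Nat.card K₁)
    (c2 : (⊤ : Subgroup H) ≤ K₂ ∨ Nat.card H = p * Nat.card K₂) : False := by
  have hHS : H ≤ S := hH.2.1.1
  haveI hfinH : Finite H := finite_of_le hHS
  have hHp : IsPGroup p H := hS.to_le hHS
  obtain ⟨St, hStn, hStp, hSt⟩ := exists_normal_pgroup_of_flag hHp K₁ K₂ h0 h12 c0 c1 c2
  exact not_essential_of_normal_pgroup hS F hF hH St hStn hStp hSt

end Cfsg.Agent.Lib.Helper27.CharFlag
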