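import Cfsg.Agent.Lib.Helper27.NKNormal
import Cfsg.Agent.Lib.Helper27.ChainCore
import Cfsg.Agent.Lib.Helper27.FusJoin

set_option autoImplicit false

namespace Cfsg.Agent.Lib.Helper27

open Cfsg Cfsg.FusionSystem Cfsg.Agent.Lib.Helper26

variable {Ω : Type*} [Group Ω] {S : Subgroup Ω}

/-- If `Q` is normal in `F` and `E` is a saturated subsystem of `F` over a subgroup `T` strongly
closed in `F`, then `Q ∩ T` is normal in `E`. -/
theorem isNormal_inf_of_subsystem [Finite S] {p : ℕ} [Fact p.Prime] (hS : IsPGroup p S)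
    (F : FusionSystem S) {Q : Subgroup Ω} (hQ : F.IsNormal Q)
    {T : Subgroup Ω} (E : FusionSystem T) (hE : E.IsSaturated p) (hEF : E.IsSubsystemOf F)
    (hT : F.StronglyClosed T) : E.IsNormal (Q ⊓ T) := by
  have hTS : T ≤ S := hT.1
  have : Finite T := finite_of_le hTS
  have hTp : IsPGroup p T := hS.to_le hTS
  have hscF : F.StronglyClosed Q := stronglyClosed_of_isNormal F hQ
  have hsc : E.StronglyClosed (Q ⊓ T) := by
    refine ⟨inf_le_right, fun R hR φ hφ x => ⟨?_, (E.le_of_mem hφ).2 x⟩⟩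
    exact hscF.2 R (hR.trans inf_le_left) φ (hEF R hφ) x
  refine isNormal_of_stronglyClosed_of_le_pCore hTp E hE hsc (fun P hess => ?_)
  have hPT : P ≤ T := hess.2.1.1
  have hPS : P ≤ S := hPT.trans hTS
  have hXT : ((P ⊔ Q) ⊓ T) ⊓ Subgroup.normalizer (P : Set Ω) ≤ T := inf_le_left.trans inf_le_right
  have hnorm : ((autInducedBy (((P ⊔ Q) ⊓ T) ⊓ Subgroup.normalizer (P : Set Ω)) P).subgroupOf
      (E.autGroup P)).Normal := by
    constructor
    intro b hb a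
    obtain ⟨g, hgX, hg, hbg⟩ := mem_autInducedBy_iff'.mp (Subgroup.mem_subgroupOf.mp hb)
    have haE : P.subtype.comp (a : MulAut P).toMonoidHom ∈ E.Hom P :=
      (mem_autGroup_iff E hPT).mp a.2
    have hφ : P.subtype.comp (a : MulAut P).toMonoidHom ∈ F.Hom P := hEF P haE
    obtain ⟨ψ, hψ, hψφ, hψQ⟩ := hQ.2 P _ hφ
    have hform := fun y => conj_formula_of_extension (α := (a : MulAut P)) hψφ hgX.1.1 hg y
    have hrange : ψ.range = P ⊔ Q := by
      rw [range_ext_eq hψφ hψQ, range_subtype_comp_equiv]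
    have hg'L : ψ ⟨g, hgX.1.1⟩ ∈ P ⊔ Q := hrange.le ⟨_, rfl⟩
    have hg'T : ψ ⟨g, hgX.1.1⟩ ∈ T :=
      hT.2 ((P ⊔ Q) ⊓ T) inf_le_right _ (restrict_mem F hψ inf_le_left) ⟨g, hgX.1⟩
    have hg'N : ψ ⟨g, hgX.1.1⟩ ∈ Subgroup.normalizer (P : Set Ω) :=
      mem_normalizer_of_conj_aut hform
    rw [Subgroup.mem_subgroupOf]
    refine mem_autInducedBy_iff.mpr ⟨ψ ⟨g, hgX.1.1⟩, ⟨⟨hg'L, hg'T⟩, hg'N⟩, fun y => ?_⟩
    rw [← hform y]
    show (((a * b * a⁻¹ : E.autGroup P) : MulAut P) y : Ω) = _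
    rw [Subgroup.coe_mul, Subgroup.coe_mul, Subgroup.coe_inv, hbg]
  have hBp : IsPGroup p ((autInducedBy (((P ⊔ Q) ⊓ T) ⊓ Subgroup.normalizer (P : Set Ω)) P).subgroupOf
      (E.autGroup P)) :=
    ((isPGroup_autInducedBy hS P).to_le (autInducedBy_mono (hXT.trans hTS) P)).comap_subtype
  refine le_trans ?_ (Helper1.le_pCore hnorm hBp)
  intro b hb
  rw [Subgroup.mem_subgroupOf] at hb ⊢
  refine autInducedBy_mono ?_ P hb
  exact inf_le_inf_right _ (le_inf (inf_le_left.trans le_sup_right) inf_le_right)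

/-- A saturated subsystem, over a strongly closed subgroup, of a constrained fusion system is
constrained. -/
theorem constrained_of_subsystem [Finite S] {p : ℕ} [Fact p.Prime] (hS : IsPGroup p S)
    (F : FusionSystem S) (hF : F.IsConstrained p) {T : Subgroup Ω} (E : FusionSystem T)
    (hE : E.IsSaturated p) (hEF : E.IsSubsystemOf F) (hT : F.StronglyClosed T) :
    E.IsConstrained p := by
  obtain ⟨hFs, Q₀, hQ₀n, hQ₀c⟩ := hF
  have hQ : F.IsNormal F.core := isNormal_core F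
  have hQ₀le : Q₀ ≤ F.core := le_sSup hQ₀n
  have hQc : F.IsCentric F.core := isCentric_of_le F hQ₀c hQ₀le hQ.1
  have hNK : F.IsNormal (NK S F.core
      ((Cfsg.pCore p ↥(F.autGroup F.core)).map (F.autGroup F.core).subtype)) :=
    isNormal_NK hS F hFs hQ hQc _ (fun α hα κ hκ => pCoreMap_conj_mem p _ hα hκ)
      (pCoreMap_isPGroup p _)
  have hNKle : NK S F.core
      ((Cfsg.pCore p ↥(F.autGroup F.core)).map (F.autGroup F.core).subtype) ≤ F.core :=
    le_sSup hNK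
  have hV : E.IsNormal (F.core ⊓ T) := isNormal_inf_of_subsystem hS F hQ E hE hEF hT
  refine ⟨hE, F.core ⊓ T, hV, inf_le_right, fun Q' hQ' => ?_⟩
  rw [isConj_eq_of_isNormal E hV hQ']
  rintro c ⟨hcT, hcV⟩
  have hcS : c ∈ S := hT.1 hcT
  have hcN : c ∈ Subgroup.normalizer ((F.core : Subgroup Ω) : Set Ω) := isNormal_le_normalizer hQ hcS
  have hTn : S ≤ Subgroup.normalizer (T : Set Ω) := le_normalizer_of_stronglyClosed F hT
  have hVinv : AutInvariant (F.autGroup F.core) (F.core ⊓ T) := by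
    intro α hα x hx
    exact ⟨(α x).2, autInvariant_of_stronglyClosed F hT hQ.1 α hα x hx.2⟩
  have hcinvN : c⁻¹ ∈ Subgroup.normalizer ((F.core : Subgroup Ω) : Set Ω) := Subgroup.inv_mem _ hcN
  refine ⟨hNKle ?_, hcT⟩
  refine mem_NK_iff.mpr ⟨hcS, conjAut F.core c hcN, ?_, fun x => rfl⟩
  refine conjAut_mem_pCoreMap_of_chain hS F hQ.1 (inf_le_left.trans hQ.1) hVinv hcS hcN hcV
    (fun x hx => ⟨?_, ?_⟩) (fun x hx => ⟨?_, ?_⟩)
  · exact Subgroup.mul_mem _ (Subgroup.inv_mem _ hx) ((Subgroup.mem_normalizer_iff.mp hcN x).mp hx)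
  · have h1 : x⁻¹ * c * x⁻¹⁻¹ ∈ T :=
      (Subgroup.mem_normalizer_iff.mp (hTn (S.inv_mem (hQ.1 hx))) c).mp hcT
    have e : x⁻¹ * (c * x * c⁻¹) = (x⁻¹ * c * x⁻¹⁻¹) * c⁻¹ := by group
    rw [e]
    exact T.mul_mem h1 (T.inv_mem hcT)
  · have h2 := (Subgroup.mem_normalizer_iff.mp hcinvN x).mp hx
    rw [inv_inv] at h2
    exact Subgroup.mul_mem _ (Subgroup.inv_mem _ hx) h2
  · have h1 : x⁻¹ * c⁻¹ * x⁻¹⁻¹ ∈ T :=
      (Subgroup.mem_normalizer_iff.mp (hTn (S.inv_mem (hQ.1 hx))) c⁻¹).mp (T.inv_mem hcT)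
    have e : x⁻¹ * (c⁻¹ * x * c) = (x⁻¹ * c⁻¹ * x⁻¹⁻¹) * c := by group
    rw [e]
    exact T.mul_mem h1 hcT

end Cfsg.Agent.Lib.Helper27
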