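import Mathlib
import Cfsg.Agent.Lib.helper14.OBNd
import Cfsg.Agent.Lib.helper14.DBN.Defs

set_option autoImplicit false

/-!
# Project DBN, row BN3 (helper27): the double coset axiom in `OQ`, as cores on the statements of the rows
DCOQ (`dc_OQ`), NUOQ (`NU_le_OQ`) and TNORM (`tL_conj_BO`).
-/

namespace Cfsg.Agent.Lib.helper14.DBN

open Matrix DoubleCoset
open Cfsg.Agent.Lib.helper3 Cfsg.Agent.Lib.helper14
open Cfsg.Agent.Lib.helper14.UBN Cfsg.Agent.Lib.helper14.OBN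

universe u
variable {F : Type u} [Field F] {n : ℕ}

/-- BN3, the nodes `sRef k` -/
theorem dbnbn3_sRef_core
    (hdc : ∀ (g : GS n F), g ∈ OQ n F → ∀ n₁ : GS n F, n₁ ∈ NU n (Sid F) →
      g ∈ doubleCoset n₁ (BU n (Sid F) : Set (GS n F)) (BU n (Sid F)) →
      g ∈ doubleCoset n₁ (BO n F : Set (GS n F)) (BO n F))
    (hNU : NU n (Sid F) ≤ OQ n F)
    (k : Fin (n / 2)) (n₁ : GS n F) (hn₁ : n₁ ∈ NU n (Sid F))
    (b : GS n F) (hb : b ∈ BO n F) :
    sRef k * b * n₁ ∈ doubleCoset (sRef k * n₁) (BO n F : Set (GS n F)) (BO n F) ∪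
      doubleCoset n₁ (BO n F : Set (GS n F)) (BO n F) := by
  have hs : sRef (S := Sid F) k ∈ NU n (Sid F) := sRef_mem_NU k
  have hg : sRef k * b * n₁ ∈ OQ n F :=
    (OQ n F).mul_mem ((OQ n F).mul_mem (hNU hs) hb.2) (hNU hn₁)
  rcases gu_mul_mem_union k n₁ hn₁ b hb.1 with h | h
  · left
    exact hdc _ hg _ ((NU n (Sid F)).mul_mem hs hn₁) h
  · right
    exact hdc _ hg _ hn₁ h

/-- BN3, the node `sD` -/
theorem dbnbn3_sD_core (hn4 : 4 ≤ n)
    (hdc : ∀ (g : GS n F), g ∈ OQ n F → ∀ n₁ : GS n F, n₁ ∈ NU n (Sid F) →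
      g ∈ doubleCoset n₁ (BU n (Sid F) : Set (GS n F)) (BU n (Sid F)) →
      g ∈ doubleCoset n₁ (BO n F : Set (GS n F)) (BO n F))
    (hNU : NU n (Sid F) ≤ OQ n F)
    (hconj : ∀ b : GS n F, b ∈ BO n F →
      tL F (le_trans (by norm_num) hn4) * b * tL F (le_trans (by norm_num) hn4) ∈ BO n F)
    (n₁ : GS n F) (hn₁ : n₁ ∈ NU n (Sid F))
    (b : GS n F) (hb : b ∈ BO n F) :
    sD F hn4 * b * n₁ ∈ doubleCoset (sD F hn4 * n₁) (BO n F : Set (GS n F)) (BO n F) ∪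
      doubleCoset n₁ (BO n F : Set (GS n F)) (BO n F) := by
  have hn2 : 2 ≤ n := le_trans (by norm_num) hn4
  set t : GS n F := tL F hn2 with ht
  have htt : t * t = 1 := sRef_mul_self (S := Sid F) (kL hn2)
  have htN : t ∈ NU n (Sid F) := sRef_mem_NU (S := Sid F) (kL hn2)
  have hsD : sD F hn4 = t * sRef (S := Sid F) (kP hn4) * t := rfl
  have key : sD F hn4 * b * n₁ = t * (sRef (S := Sid F) (kP hn4) * (t * b * t) * (t * n₁)) := by
    rw [hsD]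
    calc t * sRef (S := Sid F) (kP hn4) * t * b * n₁
        = t * sRef (S := Sid F) (kP hn4) * t * b * (t * t) * n₁ := by rw [htt, mul_one]
      _ = t * (sRef (S := Sid F) (kP hn4) * (t * b * t) * (t * n₁)) := by group
  rcases dbnbn3_sRef_core hdc hNU (kP hn4) (t * n₁) ((NU n (Sid F)).mul_mem htN hn₁)
    (t * b * t) (hconj b hb) with h | h
  · left
    rw [mem_doubleCoset] at h ⊢
    obtain ⟨β₁, hβ₁, β₂, hβ₂, e⟩ := h
    refine ⟨t * β₁ * t, hconj β₁ hβ₁, β₂, hβ₂, ?_⟩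
    rw [key, e, hsD]
    calc t * (β₁ * (sRef (S := Sid F) (kP hn4) * (t * n₁)) * β₂)
        = t * β₁ * (1 : GS n F) * (sRef (S := Sid F) (kP hn4) * (t * n₁)) * β₂ := by group
      _ = t * β₁ * (t * t) * (sRef (S := Sid F) (kP hn4) * (t * n₁)) * β₂ := by rw [htt]
      _ = t * β₁ * t * (t * sRef (S := Sid F) (kP hn4) * t * n₁) * β₂ := by group
  · right
    rw [mem_doubleCoset] at h ⊢
    obtain ⟨β₁, hβ₁, β₂, hβ₂, e⟩ := h
    refine ⟨t * β₁ * t, hconj β₁ hβ₁, β₂, hβ₂, ?_⟩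
    rw [key, e]
    group

end Cfsg.Agent.Lib.helper14.DBN
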