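import Mathlib
import Cfsg.Agent.Lib.helper14.OBNd
import Cfsg.Agent.Lib.helper14.DBN.Defs
import Cfsg.Agent.Lib.Helper24.DBNNUOQ
import Cfsg.Agent.Lib.helper6.DBNTNORM
import Cfsg.Agent.Lib.Helper28.DBNDCOQ
import Cfsg.Agent.Lib.Helper27.DBNBN3core

set_option autoImplicit false

/-!
# Project DBN, row BN3 (helper27): the verbatim statements (the double coset axiom in `OQ`),
from `Helper27.DBNBN3core` and the rows DCOQ (`dc_OQ`), NUOQ (`NU_le_OQ`), TNORM (`tL_conj_BO`).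
-/

namespace Cfsg.Agent.Lib.helper14.DBN

open Matrix DoubleCoset
open Cfsg.Agent.Lib.helper3 Cfsg.Agent.Lib.helper14
open Cfsg.Agent.Lib.helper14.UBN Cfsg.Agent.Lib.helper14.OBN

universe u
variable {F : Type u} [Field F] {n : ℕ}

theorem bn3_sRef (hn : n % 2 = 0) (k : Fin (n / 2)) (n₁ : GS n F) (hn₁ : n₁ ∈ NU n (Sid F))
    (b : GS n F) (hb : b ∈ BO n F) :
    sRef k * b * n₁ ∈ doubleCoset (sRef k * n₁) (BO n F : Set (GS n F)) (BO n F) ∪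
      doubleCoset n₁ (BO n F : Set (GS n F)) (BO n F) :=
  dbnbn3_sRef_core (dc_OQ hn) (NU_le_OQ hn) k n₁ hn₁ b hb

theorem bn3_sD (hn4 : 4 ≤ n) (hn : n % 2 = 0) (n₁ : GS n F) (hn₁ : n₁ ∈ NU n (Sid F))
    (b : GS n F) (hb : b ∈ BO n F) :
    sD F hn4 * b * n₁ ∈ doubleCoset (sD F hn4 * n₁) (BO n F : Set (GS n F)) (BO n F) ∪
      doubleCoset n₁ (BO n F : Set (GS n F)) (BO n F) :=
  dbnbn3_sD_core hn4 (dc_OQ hn) (NU_le_OQ hn) (tL_conj_BO _ hn) n₁ hn₁ b hb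

end Cfsg.Agent.Lib.helper14.DBN
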