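import Mathlib
import Cfsg.Agent.Lib.helper14.OBNd
import Cfsg.Agent.Lib.helper14.DBN.Defs

set_option autoImplicit false

/-!
# Project DBN, row GEN (helper27): the even monomial group is generated by `SD` and the torus.

This file: everything of the row that does not need the row SDBASIC, with the two SDBASIC facts
`SD_subset_NE` and `tL_conj_SD` as hypotheses in `dbngen_closure_core`.
-/

namespace Cfsg.Agent.Lib.helper14.DBN

open Matrix DoubleCoset
open Cfsg.Agent.Lib.helper3 Cfsg.Agent.Lib.helper14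
open Cfsg.Agent.Lib.helper14.UBN Cfsg.Agent.Lib.helper14.OBN

universe u
variable {F : Type u} [Field F] {n : ℕ}

/-- the permutation of a monomial matrix is unique -/
theorem dbngen_isMono_unique (g : GS n F) {π ρ : Equiv.Perm (Fin n)} (h1 : IsMono (mt g) π)
    (h2 : IsMono (mt g) ρ) : π = ρ := by
  ext y
  exact congrArg Fin.val (h2 _ _ (mono_pivot_ne_zero g h1 y))

/-- the permutation of the last node is a transposition -/
theorem dbngen_tauS_last (k : Fin (n / 2)) (hk : ¬ k.val + 1 < n / 2) :
    tauS k = Equiv.swap (pa k) (rv (pa k)) := by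
  ext x
  apply congrArg Fin.val
  rw [tauS_apply, pc_of_not_lt k hk]
  unfold tauF
  by_cases h1 : x = pa k
  · rw [if_pos h1, h1, Equiv.swap_apply_left]
  · rw [if_neg h1]
    by_cases h2 : x = rv (pa k)
    · rw [if_pos h2, h2, Equiv.swap_apply_right]
    · rw [if_neg h2, if_neg h2, rv_rv, if_neg h1, Equiv.swap_apply_of_ne_of_ne h1 h2]

/-- the permutation of the last node is odd -/
theorem dbngen_sign_tauS_last (k : Fin (n / 2)) (hk : ¬ k.val + 1 < n / 2) :
    Equiv.Perm.sign (tauS k) = -1 := by
  rw [dbngen_tauS_last k hk]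
  exact Equiv.Perm.sign_swap (rv_pa_ne k).symm

theorem dbngen_isMono_tL (hn2 : 2 ≤ n) : IsMono (mt (tL F hn2)) (tauS (kL hn2)) :=
  isMono_sRef (S := Sid F) (kL hn2)

theorem dbngen_kL_last (hn2 : 2 ≤ n) : ¬ (kL hn2 : Fin (n / 2)).val + 1 < n / 2 := by
  rw [kL_val]
  omega

theorem dbngen_tL_mul_self (hn2 : 2 ≤ n) : tL F hn2 * tL F hn2 = 1 :=
  sRef_mul_self (S := Sid F) (kL hn2)

theorem dbngen_tL_inv (hn2 : 2 ≤ n) : (tL F hn2)⁻¹ = tL F hn2 :=
  sRef_inv (S := Sid F) (kL hn2)

theorem dbngen_tL_mem_NU (hn2 : 2 ≤ n) : tL F hn2 ∈ NU n (Sid F) :=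
  sRef_mem_NU (S := Sid F) (kL hn2)

theorem dbngen_NE_le_NU : NE n F ≤ NU n (Sid F) := by
  rintro g ⟨π, hπ, hg, _⟩
  exact ⟨π, hπ, hg⟩

theorem dbngen_TO_le_NE : TO n F ≤ NE n F := by
  intro g hg
  exact ⟨1, RvC_one, (mem_TU_iff g).1 hg, Equiv.Perm.sign_one⟩

/-- GEN, first statement -/
theorem dbngen_NU_cases (hn2 : 2 ≤ n) (g : GS n F) (hg : g ∈ NU n (Sid F)) :
    g ∈ NE n F ∨ g * tL F hn2 ∈ NE n F := by
  obtain ⟨π, hπ, hm⟩ := hg
  rcases Int.units_eq_one_or (Equiv.Perm.sign π) with h | h
  · exact Or.inl ⟨π, hπ, hm, h⟩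
  · right
    refine ⟨π * tauS (kL hn2), RvC_mul hπ (RvC_tauS _), ?_, ?_⟩
    · rw [mt_mul]
      exact isMono_mul hm (dbngen_isMono_tL hn2)
    · rw [Equiv.Perm.sign_mul, h, dbngen_sign_tauS_last _ (dbngen_kL_last hn2)]
      rfl

/-- GEN, second statement -/
theorem dbngen_tL_not_mem_NE (hn2 : 2 ≤ n) : tL F hn2 ∉ NE n F := by
  rintro ⟨π, hπ, hm, hs⟩
  have e : π = tauS (kL hn2) := dbngen_isMono_unique _ hm (dbngen_isMono_tL hn2)
  rw [e, dbngen_sign_tauS_last _ (dbngen_kL_last hn2)] at hs
  exact absurd hs (by decide)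

/-- a subgroup `H` normalised by an involution `t`: `H ∪ H t` is a subgroup -/
def dbngenExt {G : Type*} [Group G] (H : Subgroup G) (t : G) (ht : t * t = 1)
    (hN : ∀ h ∈ H, t * h * t ∈ H) : Subgroup G where
  carrier := {g | g ∈ H ∨ g * t ∈ H}
  one_mem' := Or.inl H.one_mem
  mul_mem' := by
    rintro a b (ha | ha) (hb | hb)
    · exact Or.inl (H.mul_mem ha hb)
    · right
      have : a * b * t = a * (b * t) := by group
      rw [this]
      exact H.mul_mem ha hb
    · right
      have : a * b * t = (a * t) * (t * b * t) := by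
        calc a * b * t = a * (t * t) * b * t := by rw [ht, mul_one]
          _ = (a * t) * (t * b * t) := by group
      rw [this]
      exact H.mul_mem ha (hN b hb)
    · left
      have : a * b = (a * t) * (t * (b * t) * t) := by
        calc a * b = a * (t * t) * b * (t * t) := by rw [ht, mul_one, mul_one]
          _ = (a * t) * (t * (b * t) * t) := by group
      rw [this]
      exact H.mul_mem ha (hN _ hb)
  inv_mem' := by
    rintro a (ha | ha)
    · exact Or.inl (H.inv_mem ha)
    · right
      have htinv : t⁻¹ = t := inv_eq_of_mul_eq_one_right ht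
      have : a⁻¹ * t = t * (a * t)⁻¹ * t := by
        rw [_root_.mul_inv_rev, htinv]
        calc a⁻¹ * t = (t * t) * a⁻¹ * t := by rw [ht, one_mul]
          _ = t * (t * a⁻¹) * t := by group
      rw [this]
      exact hN _ (H.inv_mem ha)

/-- GEN, third statement, from the two SDBASIC facts -/
theorem dbngen_closure_core (hn4 : 4 ≤ n) (hn : n % 2 = 0)
    (hSD : SD F hn4 ⊆ (NE n F : Set (GS n F)))
    (hconj : ∀ s ∈ SD F hn4,
      tL F (le_trans (by norm_num) hn4) * s * tL F (le_trans (by norm_num) hn4) ∈ SD F hn4) :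
    Subgroup.closure (SD F hn4) ⊔ TO n F = NE n F := by
  have hn2 : 2 ≤ n := le_trans (by norm_num) hn4
  have hle : Subgroup.closure (SD F hn4) ⊔ TO n F ≤ NE n F := by
    apply sup_le
    · rw [Subgroup.closure_le]
      exact hSD
    · exact dbngen_TO_le_NE
  apply le_antisymm hle
  set H : Subgroup (GS n F) := Subgroup.closure (SD F hn4) ⊔ TO n F with hH
  set t : GS n F := tL F hn2 with ht
  have htt : t * t = 1 := dbngen_tL_mul_self hn2
  have htinv : t⁻¹ = t := dbngen_tL_inv hn2
  -- `t` normalises `H`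
  have hN : ∀ h ∈ H, t * h * t ∈ H := by
    intro h hh
    have hmap : H.map (MulAut.conj t).toMonoidHom ≤ H := by
      rw [hH, Subgroup.map_sup, MonoidHom.map_closure]
      apply sup_le
      · apply le_trans _ le_sup_left
        rw [Subgroup.closure_le]
        rintro _ ⟨s, hs, rfl⟩
        apply Subgroup.subset_closure
        show t * s * t⁻¹ ∈ SD F hn4
        rw [htinv]
        exact hconj s hs
      · apply le_trans _ le_sup_right
        rintro _ ⟨x, hx, rfl⟩
        show t * x * t⁻¹ ∈ TO n F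
        refine ⟨conj_torus_mem t x (dbngen_tL_mem_NU hn2) hx, ?_⟩
        exact (NU n (Sid F)).mul_mem ((NU n (Sid F)).mul_mem (dbngen_tL_mem_NU hn2) hx.2)
          ((NU n (Sid F)).inv_mem (dbngen_tL_mem_NU hn2))
    have := hmap ⟨h, hh, rfl⟩
    have e : (MulAut.conj t).toMonoidHom h = t * h * t := by
      show t * h * t⁻¹ = _
      rw [htinv]
    rwa [e] at this
  -- every monomial element lies in `H ∪ H t`
  have hNU : NU n (Sid F) ≤ dbngenExt H t htt hN := by
    rw [← closure_SSet_sup]
    apply sup_le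
    · rw [Subgroup.closure_le]
      rintro _ ⟨k, rfl⟩
      by_cases hk : k.val + 1 < n / 2
      · left
        apply Subgroup.mem_sup_left
        apply Subgroup.subset_closure
        left
        exact ⟨k, hk, rfl⟩
      · right
        have hk' : k = kL hn2 := by
          apply Fin.ext
          rw [kL_val]
          have := k.2
          omega
        show sRef (S := Sid F) k * t ∈ H
        rw [hk']
        have : sRef (S := Sid F) (kL hn2) * t = 1 := htt
        rw [this]
        exact H.one_mem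
    · intro x hx
      left
      exact Subgroup.mem_sup_right hx
  intro g hg
  rcases hNU (dbngen_NE_le_NU hg) with h | h
  · exact h
  · exfalso
    apply dbngen_tL_not_mem_NE (F := F) hn2
    have h1 : g * t ∈ NE n F := hle h
    have : t = g⁻¹ * (g * t) := by group
    rw [ht] at this
    rw [this]
    exact (NE n F).mul_mem ((NE n F).inv_mem hg) h1

end Cfsg.Agent.Lib.helper14.DBN
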