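import Mathlib
import Cfsg.Agent.Lib.helper14.OBNd
import Cfsg.Agent.Lib.helper14.DBN.Defs
import Cfsg.Agent.Lib.helper17.DBNSDBASIC
import Cfsg.Agent.Lib.Helper27.DBNGENcore

set_option autoImplicit false

/-!
# Project DBN, row GEN (helper27): the verbatim statements.

`NU_cases`, `tL_not_mem_NE` (no dependencies); `closure_SD_sup` from the row SDBASIC
(`SD_subset_NE`, `tL_conj_SD`, helper17) by `dbngen_closure_core` of `Helper27.DBNGENcore`.
-/

namespace Cfsg.Agent.Lib.helper14.DBN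

open Matrix DoubleCoset
open Cfsg.Agent.Lib.helper3 Cfsg.Agent.Lib.helper14
open Cfsg.Agent.Lib.helper14.UBN Cfsg.Agent.Lib.helper14.OBN

universe u
variable {F : Type u} [Field F] {n : ℕ}

theorem NU_cases (hn2 : 2 ≤ n) (g : GS n F) (hg : g ∈ NU n (Sid F)) :
    g ∈ NE n F ∨ g * tL F hn2 ∈ NE n F := dbngen_NU_cases hn2 g hg

theorem tL_not_mem_NE (hn2 : 2 ≤ n) : tL F hn2 ∉ NE n F := dbngen_tL_not_mem_NE hn2

theorem closure_SD_sup (hn4 : 4 ≤ n) (hn : n % 2 = 0) :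
    Subgroup.closure (SD F hn4) ⊔ TO n F = NE n F :=
  dbngen_closure_core hn4 hn (SD_subset_NE hn4) (tL_conj_SD hn4)

end Cfsg.Agent.Lib.helper14.DBN
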