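import Mathlib
import Cfsg.Prelude.Def_GeometricClasses
import Cfsg.Agent.Lib.Helper27.ASC.Defs
import Cfsg.Agent.Lib.helper23.ASCO.Defs
import Cfsg.Agent.Lib.Helper19.ASG.Defs
import Cfsg.Agent.Lib.Helper1.ASGCLIF3
import Cfsg.Agent.Lib.Helper25.ASO.Defs
import Cfsg.Agent.Lib.helper23.ASE.Defs
import Cfsg.Agent.Lib.Helper20.ASE10M.Defs
import Cfsg.Agent.Lib.Lead.E10MF5SQ
import Cfsg.Agent.Lib.Lead.E10MF5POLAR

set_option autoImplicit false
set_option linter.unusedVariables false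
set_option linter.unusedSectionVars false

/-!
# E10M F5-ISO2 : `efield_iso_pair` (row added by helper27 for the plus row S5847)

A self-adjoint field `K` of degree `r = n / 2` in coordinates (`EFieldCoord`) whose binary norm form `X² + s X Y + β Y²` is isotropic:
the totally singular `K`-lines are exactly two, `K x₀` and `K x₁`, they are complementary, and every isometry normalising `K` permutes
them.  Extras prefixed `e10mf5iso2_`.
-/

namespace Cfsg.Agent.Lib.Helper16.E10M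

open Cfsg Cfsg.Geo Cfsg.Agent.Lib.Helper27.ASC Cfsg.Agent.Lib.helper23.ASCO Cfsg.Agent.Lib.Helper19.ASG
  Cfsg.Agent.Lib.Helper25.ASO
open scoped MatrixGroups Matrix Kronecker

variable {n : ℕ} {F : Type*} [Field F] [Fintype F]

/-! ## commutative algebra in `K` -/

open scoped IsMulCommutative in
/-- the binary form on a `K`-combination -/
theorem e10mf5iso2_ident (K : Subalgebra F (Matrix (Fin n) (Fin n) F))
    (hcomm : ∀ x ∈ K, ∀ y ∈ K, x * y = y * x) (a b a' b' s β l m : Matrix (Fin n) (Fin n) F)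
    (ha : a ∈ K) (hb : b ∈ K) (ha' : a' ∈ K) (hb' : b' ∈ K) (hs : s ∈ K) (hβ : β ∈ K) (hl : l ∈ K) (hm : m ∈ K) :
    (l * a + m * a') * (l * a + m * a') + s * (l * a + m * a') * (l * b + m * b') +
        β * (l * b + m * b') * (l * b + m * b') =
      (a * a + s * a * b + β * b * b) * l * l +
        ((2 : F) • (a * a') + s * (a * b' + a' * b) + (2 : F) • (β * b * b')) * l * m +
        (a' * a' + s * a' * b' + β * b' * b') * m * m := by
  have : IsMulCommutative K := ⟨⟨fun x y => Subtype.ext (hcomm x x.2 y y.2)⟩⟩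
  let a₁ : K := ⟨a, ha⟩
  let b₁ : K := ⟨b, hb⟩
  let a₂ : K := ⟨a', ha'⟩
  let b₂ : K := ⟨b', hb'⟩
  let s₁ : K := ⟨s, hs⟩
  let β₁ : K := ⟨β, hβ⟩
  let l₁ : K := ⟨l, hl⟩
  let m₁ : K := ⟨m, hm⟩
  have e : (l₁ * a₁ + m₁ * a₂) * (l₁ * a₁ + m₁ * a₂) + s₁ * (l₁ * a₁ + m₁ * a₂) * (l₁ * b₁ + m₁ * b₂) +
        β₁ * (l₁ * b₁ + m₁ * b₂) * (l₁ * b₁ + m₁ * b₂) =
      (a₁ * a₁ + s₁ * a₁ * b₁ + β₁ * b₁ * b₁) * l₁ * l₁ +
        ((2 : F) • (a₁ * a₂) + s₁ * (a₁ * b₂ + a₂ * b₁) + (2 : F) • (β₁ * b₁ * b₂)) * l₁ * m₁ +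
        (a₂ * a₂ + s₁ * a₂ * b₂ + β₁ * b₂ * b₂) * m₁ * m₁ := by
    rw [two_smul, two_smul]
    ring
  exact congrArg Subtype.val e

/-! ## `K` is a field -/

theorem e10mf5iso2_inv {r : ℕ} (K : Subalgebra F (Matrix (Fin n) (Fin n) F)) (hK : IsFieldSubalgebra r K)
    (k : Matrix (Fin n) (Fin n) F) (hk : k ∈ K) (hk0 : k ≠ 0) : ∃ y ∈ K, k * y = 1 ∧ y * k = 1 := by
  obtain ⟨y, hy, h⟩ := hK.inv k hk hk0
  exact ⟨y, hy, h, by rw [hK.comm y hy k hk]; exact h⟩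

theorem e10mf5iso2_mul_eq_zero {r : ℕ} (K : Subalgebra F (Matrix (Fin n) (Fin n) F)) (hK : IsFieldSubalgebra r K)
    (a b : Matrix (Fin n) (Fin n) F) (ha : a ∈ K) (hb : b ∈ K) (h : a * b = 0) : a = 0 ∨ b = 0 := by
  by_cases ha0 : a = 0
  · exact Or.inl ha0
  · right
    obtain ⟨y, hy, h1, h2⟩ := e10mf5iso2_inv K hK a ha ha0
    calc b = (y * a) * b := by rw [h2, one_mul]
      _ = 0 := by rw [mul_assoc, h, mul_zero]

/-! ## `K`-lines -/

/-- `k ↦ k x` -/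
def e10mf5iso2_lineMap (K : Subalgebra F (Matrix (Fin n) (Fin n) F)) (x : Fin n → F) : K →ₗ[F] (Fin n → F) where
  toFun k := (k : Matrix (Fin n) (Fin n) F) *ᵥ x
  map_add' k k' := by
    show ((k + k' : K) : Matrix (Fin n) (Fin n) F) *ᵥ x = _
    rw [Subalgebra.coe_add, Matrix.add_mulVec]
  map_smul' c k := by
    show ((c • k : K) : Matrix (Fin n) (Fin n) F) *ᵥ x = _
    rw [Subalgebra.coe_smul, Matrix.smul_mulVec]
    rfl

/-- the `K`-line `K x` -/
def e10mf5iso2_line (K : Subalgebra F (Matrix (Fin n) (Fin n) F)) (x : Fin n → F) : Submodule F (Fin n → F) :=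
  LinearMap.range (e10mf5iso2_lineMap K x)

theorem e10mf5iso2_mem_line (K : Subalgebra F (Matrix (Fin n) (Fin n) F)) (x y : Fin n → F) :
    y ∈ e10mf5iso2_line K x ↔ ∃ k ∈ K, y = k *ᵥ x := by
  constructor
  · rintro ⟨k, rfl⟩
    exact ⟨k, k.2, rfl⟩
  · rintro ⟨k, hk, rfl⟩
    exact ⟨⟨k, hk⟩, rfl⟩

theorem e10mf5iso2_self_mem (K : Subalgebra F (Matrix (Fin n) (Fin n) F)) (x : Fin n → F) :
    x ∈ e10mf5iso2_line K x :=
  (e10mf5iso2_mem_line K x x).2 ⟨1, K.one_mem, by rw [Matrix.one_mulVec]⟩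

theorem e10mf5iso2_finrank_line {r : ℕ} (K : Subalgebra F (Matrix (Fin n) (Fin n) F)) (hK : IsFieldSubalgebra r K)
    (x : Fin n → F) (hx : x ≠ 0) : Module.finrank F (e10mf5iso2_line K x) = r := by
  have hinj : Function.Injective (e10mf5iso2_lineMap K x) := by
    rw [← LinearMap.ker_eq_bot, LinearMap.ker_eq_bot']
    intro k hk
    by_contra hk0
    have hk0' : (k : Matrix (Fin n) (Fin n) F) ≠ 0 := fun h => hk0 (Subtype.ext h)
    obtain ⟨y, hy, h1, h2⟩ := e10mf5iso2_inv K hK k k.2 hk0'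
    apply hx
    have hk' : (k : Matrix (Fin n) (Fin n) F) *ᵥ x = 0 := hk
    calc x = (y * (k : Matrix (Fin n) (Fin n) F)) *ᵥ x := by rw [h2, Matrix.one_mulVec]
      _ = 0 := by rw [← Matrix.mulVec_mulVec, hk', Matrix.mulVec_zero]
  unfold e10mf5iso2_line
  rw [LinearMap.finrank_range_of_inj hinj, hK.finrank_eq]

theorem e10mf5iso2_line_le (K : Subalgebra F (Matrix (Fin n) (Fin n) F)) (x y : Fin n → F)
    (hy : y ∈ e10mf5iso2_line K x) : e10mf5iso2_line K y ≤ e10mf5iso2_line K x := by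
  obtain ⟨k₀, hk₀, rfl⟩ := (e10mf5iso2_mem_line K x y).1 hy
  intro z hz
  obtain ⟨k, hk, rfl⟩ := (e10mf5iso2_mem_line K _ z).1 hz
  exact (e10mf5iso2_mem_line K x _).2 ⟨k * k₀, K.mul_mem hk hk₀, by rw [Matrix.mulVec_mulVec]⟩

theorem e10mf5iso2_line_eq {r : ℕ} (K : Subalgebra F (Matrix (Fin n) (Fin n) F)) (hK : IsFieldSubalgebra r K)
    (x y : Fin n → F) (hy : y ∈ e10mf5iso2_line K x) (hy0 : y ≠ 0) :
    e10mf5iso2_line K y = e10mf5iso2_line K x := by
  have hx0 : x ≠ 0 := by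
    rintro rfl
    obtain ⟨k, hk, rfl⟩ := (e10mf5iso2_mem_line K _ y).1 hy
    exact hy0 (Matrix.mulVec_zero _)
  apply Submodule.eq_of_le_of_finrank_eq (e10mf5iso2_line_le K x y hy)
  rw [e10mf5iso2_finrank_line K hK y hy0, e10mf5iso2_finrank_line K hK x hx0]

/-- the image of a `K`-line under an element of the normaliser of `K` -/
theorem e10mf5iso2_map_line (K : Subalgebra F (Matrix (Fin n) (Fin n) F)) (g : GL (Fin n) F)
    (hg : g ∈ subalgebraNormalizer K) (x : Fin n → F) :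
    (e10mf5iso2_line K x).map (Matrix.toLin' (g : Matrix (Fin n) (Fin n) F)) =
      e10mf5iso2_line K ((g : Matrix (Fin n) (Fin n) F) *ᵥ x) := by
  have e1 : ((g⁻¹ : GL (Fin n) F) : Matrix (Fin n) (Fin n) F) * (g : Matrix (Fin n) (Fin n) F) = 1 := by
    rw [← Units.val_mul, inv_mul_cancel, Units.val_one]
  have e2 : (g : Matrix (Fin n) (Fin n) F) * ((g⁻¹ : GL (Fin n) F) : Matrix (Fin n) (Fin n) F) = 1 := by
    rw [← Units.val_mul, mul_inv_cancel, Units.val_one]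
  have hginv : g⁻¹ ∈ subalgebraNormalizer K := (subalgebraNormalizer K).inv_mem hg
  ext z
  rw [Submodule.mem_map, e10mf5iso2_mem_line]
  constructor
  · rintro ⟨y, hy, rfl⟩
    obtain ⟨k, hk, rfl⟩ := (e10mf5iso2_mem_line K x y).1 hy
    refine ⟨(g : Matrix (Fin n) (Fin n) F) * k * ((g⁻¹ : GL (Fin n) F) : Matrix (Fin n) (Fin n) F), (hg k).1 hk, ?_⟩
    rw [Matrix.toLin'_apply, Matrix.mulVec_mulVec, Matrix.mulVec_mulVec, Matrix.mul_assoc, Matrix.mul_assoc, e1,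
      Matrix.mul_one]
  · rintro ⟨k, hk, rfl⟩
    have hk' : ((g⁻¹ : GL (Fin n) F) : Matrix (Fin n) (Fin n) F) * k * (g : Matrix (Fin n) (Fin n) F) ∈ K := by
      have := (hginv k).mp hk
      rwa [inv_inv] at this
    refine ⟨(((g⁻¹ : GL (Fin n) F) : Matrix (Fin n) (Fin n) F) * k * (g : Matrix (Fin n) (Fin n) F)) *ᵥ x,
      (e10mf5iso2_mem_line K x _).2 ⟨_, hk', rfl⟩, ?_⟩
    rw [Matrix.toLin'_apply, Matrix.mulVec_mulVec, Matrix.mulVec_mulVec, ← Matrix.mul_assoc, ← Matrix.mul_assoc, e2,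
      Matrix.one_mul]

/-! ## the quadratic form on `K`-combinations -/

theorem e10mf5iso2_quad_comb {r : ℕ} (Q : QuadraticForm F (Fin n → F)) (K : Subalgebra F (Matrix (Fin n) (Fin n) F))
    (hK : IsFieldSubalgebra r K) {ℓ : Matrix (Fin n) (Fin n) F →ₗ[F] F} {v w : Fin n → F}
    {s β : Matrix (Fin n) (Fin n) F} (hc : EFieldCoord (⇑Q) K ℓ v w s β)
    (a b a' b' l m : Matrix (Fin n) (Fin n) F) (ha : a ∈ K) (hb : b ∈ K) (ha' : a' ∈ K) (hb' : b' ∈ K)
    (hl : l ∈ K) (hm : m ∈ K) :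
    Q (l *ᵥ (a *ᵥ v + b *ᵥ w) + m *ᵥ (a' *ᵥ v + b' *ᵥ w)) =
      ℓ ((a * a + s * a * b + β * b * b) * l * l +
        ((2 : F) • (a * a') + s * (a * b' + a' * b) + (2 : F) • (β * b * b')) * l * m +
        (a' * a' + s * a' * b' + β * b' * b') * m * m) := by
  have hsum : l *ᵥ (a *ᵥ v + b *ᵥ w) + m *ᵥ (a' *ᵥ v + b' *ᵥ w) =
      (l * a + m * a') *ᵥ v + (l * b + m * b') *ᵥ w := by
    rw [Matrix.mulVec_add, Matrix.mulVec_add, Matrix.mulVec_mulVec, Matrix.mulVec_mulVec, Matrix.mulVec_mulVec,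
      Matrix.mulVec_mulVec, Matrix.add_mulVec, Matrix.add_mulVec]
    abel
  rw [hsum, hc.quad _ (K.add_mem (K.mul_mem hl ha) (K.mul_mem hm ha')) _
    (K.add_mem (K.mul_mem hl hb) (K.mul_mem hm hb')),
    e10mf5iso2_ident K hK.comm a b a' b' s β l m ha hb ha' hb' hc.hs hc.hβ hl hm]

theorem e10mf5iso2_quad_smul {r : ℕ} (Q : QuadraticForm F (Fin n → F)) (K : Subalgebra F (Matrix (Fin n) (Fin n) F))
    (hK : IsFieldSubalgebra r K) {ℓ : Matrix (Fin n) (Fin n) F →ₗ[F] F} {v w : Fin n → F}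
    {s β : Matrix (Fin n) (Fin n) F} (hc : EFieldCoord (⇑Q) K ℓ v w s β)
    (a b k : Matrix (Fin n) (Fin n) F) (ha : a ∈ K) (hb : b ∈ K) (hk : k ∈ K) :
    Q (k *ᵥ (a *ᵥ v + b *ᵥ w)) = ℓ ((a * a + s * a * b + β * b * b) * k * k) := by
  have h := e10mf5iso2_quad_comb Q K hK hc a b 0 0 k 0 ha hb K.zero_mem K.zero_mem hk K.zero_mem
  simpa using h

/-- the `K`-line through `a v + b w` is totally singular iff `(a, b)` is isotropic for the binary form -/
theorem e10mf5iso2_ts_iff {r : ℕ} (hr : 0 < r) (Q : QuadraticForm F (Fin n → F))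
    (K : Subalgebra F (Matrix (Fin n) (Fin n) F))
    (hK : IsFieldSubalgebra r K) {ℓ : Matrix (Fin n) (Fin n) F →ₗ[F] F} {v w : Fin n → F}
    {s β : Matrix (Fin n) (Fin n) F} (hc : EFieldCoord (⇑Q) K ℓ v w s β)
    (a b : Matrix (Fin n) (Fin n) F) (ha : a ∈ K) (hb : b ∈ K) :
    (∀ k ∈ K, Q (k *ᵥ (a *ᵥ v + b *ᵥ w)) = 0) ↔ a * a + s * a * b + β * b * b = 0 := by
  have hN : a * a + s * a * b + β * b * b ∈ K :=
    K.add_mem (K.add_mem (K.mul_mem ha ha) (K.mul_mem (K.mul_mem hc.hs ha) hb)) (K.mul_mem (K.mul_mem hc.hβ hb) hb)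
  constructor
  · intro h
    apply efield_sq K hK hr ℓ hc.ell _ hN
    intro k hk
    rw [← e10mf5iso2_quad_smul Q K hK hc a b k ha hb hk]
    exact h k hk
  · intro h k hk
    rw [e10mf5iso2_quad_smul Q K hK hc a b k ha hb hk, h, zero_mul, zero_mul, map_zero]

theorem e10mf5iso2_ts_line (Q : QuadraticForm F (Fin n → F)) (K : Subalgebra F (Matrix (Fin n) (Fin n) F))
    (x : Fin n → F) : IsTotallySingularQuad (⇑Q) (e10mf5iso2_line K x) ↔ ∀ k ∈ K, Q (k *ᵥ x) = 0 := by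
  constructor
  · intro h k hk
    exact h _ ((e10mf5iso2_mem_line K x _).2 ⟨k, hk, rfl⟩)
  · intro h y hy
    obtain ⟨k, hk, rfl⟩ := (e10mf5iso2_mem_line K x y).1 hy
    exact h k hk

/-! ## F5-ISO2 -/

/-- F5-ISO2 : an isotropic vector of the binary form: the two totally singular `K`-lines form a decomposition stabilised by the
isometries normalising `K`. -/
theorem efield_iso_pair {r : ℕ} (hn : n = 2 * r) (hr : 0 < r) (Q : QuadraticForm F (Fin n → F))
    (hQ : (QuadraticMap.polarBilin Q).Nondegenerate) (K : Subalgebra F (Matrix (Fin n) (Fin n) F))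
    (hK : IsFieldSubalgebra r K) {ℓ : Matrix (Fin n) (Fin n) F →ₗ[F] F} {v w : Fin n → F}
    {s β : Matrix (Fin n) (Fin n) F} (hc : EFieldCoord (⇑Q) K ℓ v w s β)
    (a b : Matrix (Fin n) (Fin n) F) (ha : a ∈ K) (hb : b ∈ K) (hab : a ≠ 0 ∨ b ≠ 0)
    (h0 : a * a + s * a * b + β * b * b = 0) {G : Subgroup (GL (Fin n) F)}
    (hGO : G ≤ isometryGroup F (⇑Q)) (hGK : G ≤ subalgebraNormalizer K) :
    ∃ D : Fin 2 → Submodule F (Fin n → F), IsMDecomposition r D ∧ (∀ i, IsTotallySingularQuad (⇑Q) (D i)) ∧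
      G ≤ decompositionStabilizer D := by
  classical
  have hs := hc.hs
  have hβ := hc.hβ
  have hxe : a *ᵥ v + b *ᵥ w ≠ 0 := by
    intro h
    obtain ⟨h1, h2⟩ := hc.inj a ha b hb h
    rcases hab with h' | h'
    · exact h' h1
    · exact h' h2
  have hts0 : ∀ k ∈ K, Q (k *ᵥ (a *ᵥ v + b *ᵥ w)) = 0 := (e10mf5iso2_ts_iff hr Q K hK hc a b ha hb).2 h0
  -- a vector not orthogonal to `xe`
  obtain ⟨y, hy⟩ : ∃ y, QuadraticMap.polar (⇑Q) (a *ᵥ v + b *ᵥ w) y ≠ 0 := by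
    by_contra hcon
    push Not at hcon
    exact hxe (hQ.1 _ (fun y => hcon y))
  obtain ⟨a', ha', b', hb', rfl⟩ := hc.surj y
  have hpol := efield_polar Q K hK hc a b a' b' ha hb ha' hb'
  have hBvK : (2 : F) • (a * a') + s * (a * b' + a' * b) + (2 : F) • (β * b * b') ∈ K :=
    K.add_mem (K.add_mem (K.smul_mem (K.mul_mem ha ha') _)
      (K.mul_mem hs (K.add_mem (K.mul_mem ha hb') (K.mul_mem ha' hb))))
      (K.smul_mem (K.mul_mem (K.mul_mem hβ hb) hb') _)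
  have hBv0 : (2 : F) • (a * a') + s * (a * b' + a' * b) + (2 : F) • (β * b * b') ≠ 0 := by
    intro h
    apply hy
    rw [hpol, h, map_zero]
  obtain ⟨Bi, hBi, hB1, hB2⟩ := e10mf5iso2_inv K hK _ hBvK hBv0
  have hN'K : a' * a' + s * a' * b' + β * b' * b' ∈ K :=
    K.add_mem (K.add_mem (K.mul_mem ha' ha') (K.mul_mem (K.mul_mem hs ha') hb')) (K.mul_mem (K.mul_mem hβ hb') hb')
  obtain ⟨t, htK, htB⟩ : ∃ t ∈ K, ((2 : F) • (a * a') + s * (a * b' + a' * b) + (2 : F) • (β * b * b')) * t =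
      a' * a' + s * a' * b' + β * b' * b' := by
    refine ⟨(a' * a' + s * a' * b' + β * b' * b') * Bi, K.mul_mem hN'K hBi, ?_⟩
    rw [← mul_assoc, hK.comm _ hBvK _ hN'K, mul_assoc, hB1, mul_one]
  -- the second vector
  obtain ⟨af, hafdef⟩ : ∃ af, af = (-t) * a + 1 * a' := ⟨_, rfl⟩
  obtain ⟨bf, hbfdef⟩ : ∃ bf, bf = (-t) * b + 1 * b' := ⟨_, rfl⟩
  have hafK : af ∈ K := by
    rw [hafdef]
    exact K.add_mem (K.mul_mem (K.neg_mem htK) ha) (K.mul_mem K.one_mem ha')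
  have hbfK : bf ∈ K := by
    rw [hbfdef]
    exact K.add_mem (K.mul_mem (K.neg_mem htK) hb) (K.mul_mem K.one_mem hb')
  have hNf : af * af + s * af * bf + β * bf * bf = 0 := by
    rw [hafdef, hbfdef,
      e10mf5iso2_ident K hK.comm a b a' b' s β (-t) 1 ha hb ha' hb' hs hβ (K.neg_mem htK) K.one_mem, h0]
    rw [zero_mul, zero_mul, zero_add, mul_one, mul_one, mul_one, mul_neg, htB, neg_add_cancel]
  have hxf_eq : af *ᵥ v + bf *ᵥ w = (-t) *ᵥ (a *ᵥ v + b *ᵥ w) + (a' *ᵥ v + b' *ᵥ w) := by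
    rw [hafdef, hbfdef, Matrix.mulVec_add, Matrix.mulVec_mulVec, Matrix.mulVec_mulVec, Matrix.add_mulVec,
      Matrix.add_mulVec, one_mul, one_mul]
    abel
  have hts1 : ∀ k ∈ K, Q (k *ᵥ (af *ᵥ v + bf *ᵥ w)) = 0 := (e10mf5iso2_ts_iff hr Q K hK hc af bf hafK hbfK).2 hNf
  have hpol0 : ∀ k ∈ K, QuadraticMap.polar (⇑Q) (a *ᵥ v + b *ᵥ w) (k *ᵥ (a *ᵥ v + b *ᵥ w)) = 0 := by
    intro k hk
    have e : (a *ᵥ v + b *ᵥ w) + k *ᵥ (a *ᵥ v + b *ᵥ w) = (1 + k) *ᵥ (a *ᵥ v + b *ᵥ w) := by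
      rw [Matrix.add_mulVec, Matrix.one_mulVec]
    have h1 := hts0 1 K.one_mem
    rw [Matrix.one_mulVec] at h1
    unfold QuadraticMap.polar
    rw [e, hts0 _ (K.add_mem K.one_mem hk), hts0 k hk, h1]
    simp
  have hpolf : QuadraticMap.polar (⇑Q) (a *ᵥ v + b *ᵥ w) (af *ᵥ v + bf *ᵥ w) ≠ 0 := by
    rw [hxf_eq, QuadraticMap.polar_add_right, hpol0 _ (K.neg_mem htK), zero_add]
    exact hy
  have hxf : af *ᵥ v + bf *ᵥ w ≠ 0 := by
    intro h
    apply hpolf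
    rw [h]
    exact QuadraticMap.polar_zero_right _ _
  obtain ⟨xe, hxedef⟩ : ∃ xe, xe = a *ᵥ v + b *ᵥ w := ⟨_, rfl⟩
  obtain ⟨xf, hxfdef⟩ : ∃ xf, xf = af *ᵥ v + bf *ᵥ w := ⟨_, rfl⟩
  rw [← hxedef] at hxe hts0 hpol0 hpolf
  rw [← hxfdef] at hxf hts1 hpolf
  have hd0 := e10mf5iso2_finrank_line K hK xe hxe
  have hd1 := e10mf5iso2_finrank_line K hK xf hxf
  have hdisj : e10mf5iso2_line K xe ⊓ e10mf5iso2_line K xf = ⊥ := by
    rw [eq_bot_iff]
    intro z hz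
    rw [Submodule.mem_bot]
    by_contra hz0
    have h1 := e10mf5iso2_line_eq K hK xe z hz.1 hz0
    have h2 := e10mf5iso2_line_eq K hK xf z hz.2 hz0
    have hmem : xf ∈ e10mf5iso2_line K xe := by
      rw [← h1, h2]
      exact e10mf5iso2_self_mem K xf
    obtain ⟨k, hk, hkx⟩ := (e10mf5iso2_mem_line K xe xf).1 hmem
    apply hpolf
    rw [hkx]
    exact hpol0 k hk
  have hsup : e10mf5iso2_line K xe ⊔ e10mf5iso2_line K xf = ⊤ := by
    apply Submodule.eq_top_of_finrank_eq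
    have hsi := Submodule.finrank_sup_add_finrank_inf_eq (e10mf5iso2_line K xe) (e10mf5iso2_line K xf)
    rw [hdisj, finrank_bot, add_zero] at hsi
    rw [Module.finrank_fin_fun]
    omega
  -- the binary polar form at the two isotropic vectors
  have hBf := efield_polar Q K hK hc a b af bf ha hb hafK hbfK
  rw [← hxedef, ← hxfdef] at hBf
  have hBfK : (2 : F) • (a * af) + s * (a * bf + af * b) + (2 : F) • (β * b * bf) ∈ K :=
    K.add_mem (K.add_mem (K.smul_mem (K.mul_mem ha hafK) _)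
      (K.mul_mem hs (K.add_mem (K.mul_mem ha hbfK) (K.mul_mem hafK hb))))
      (K.smul_mem (K.mul_mem (K.mul_mem hβ hb) hbfK) _)
  have hBf0 : (2 : F) • (a * af) + s * (a * bf + af * b) + (2 : F) • (β * b * bf) ≠ 0 := by
    intro h
    apply hpolf
    rw [hBf, h, map_zero]
  -- exactly two totally singular lines
  have htwo : ∀ y : Fin n → F, y ≠ 0 → (∀ k ∈ K, Q (k *ᵥ y) = 0) →
      e10mf5iso2_line K y = e10mf5iso2_line K xe ∨ e10mf5iso2_line K y = e10mf5iso2_line K xf := by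
    intro y hy0 hyts
    have hytop : y ∈ e10mf5iso2_line K xe ⊔ e10mf5iso2_line K xf := by
      rw [hsup]
      exact Submodule.mem_top
    obtain ⟨y0, hy0m, y1, hy1m, rfl⟩ := Submodule.mem_sup.1 hytop
    obtain ⟨l, hl, rfl⟩ := (e10mf5iso2_mem_line K xe y0).1 hy0m
    obtain ⟨m, hm, rfl⟩ := (e10mf5iso2_mem_line K xf y1).1 hy1m
    have hsum : l *ᵥ xe + m *ᵥ xf = (l * a + m * af) *ᵥ v + (l * b + m * bf) *ᵥ w := by
      rw [hxedef, hxfdef, Matrix.mulVec_add, Matrix.mulVec_add, Matrix.mulVec_mulVec, Matrix.mulVec_mulVec,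
        Matrix.mulVec_mulVec, Matrix.mulVec_mulVec, Matrix.add_mulVec, Matrix.add_mulVec]
      abel
    rw [hsum] at hyts
    have hN := (e10mf5iso2_ts_iff hr Q K hK hc _ _ (K.add_mem (K.mul_mem hl ha) (K.mul_mem hm hafK))
      (K.add_mem (K.mul_mem hl hb) (K.mul_mem hm hbfK))).1 hyts
    rw [e10mf5iso2_ident K hK.comm a b af bf s β l m ha hb hafK hbfK hs hβ hl hm, h0, hNf] at hN
    simp only [zero_mul, zero_add, add_zero] at hN
    rcases e10mf5iso2_mul_eq_zero K hK _ m (K.mul_mem hBfK hl) hm hN with h | h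
    · rcases e10mf5iso2_mul_eq_zero K hK _ l hBfK hl h with h' | h'
      · exact absurd h' hBf0
      · right
        apply e10mf5iso2_line_eq K hK xf _ _ hy0
        rw [h', Matrix.zero_mulVec, zero_add]
        exact (e10mf5iso2_mem_line K xf _).2 ⟨m, hm, rfl⟩
    · left
      apply e10mf5iso2_line_eq K hK xe _ _ hy0
      rw [h, Matrix.zero_mulVec, add_zero]
      exact (e10mf5iso2_mem_line K xe _).2 ⟨l, hl, rfl⟩
  have hne : e10mf5iso2_line K xe ≠ e10mf5iso2_line K xf := by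
    intro h
    have hmem : xe ∈ e10mf5iso2_line K xe ⊓ e10mf5iso2_line K xf :=
      ⟨e10mf5iso2_self_mem K xe, h ▸ e10mf5iso2_self_mem K xe⟩
    rw [hdisj] at hmem
    exact hxe ((Submodule.mem_bot F).1 hmem)
  have h01 : (0 : Fin 2) ≠ 1 := by decide
  have huniv : ∀ i : Fin 2, i = 0 ∨ i = 1 := by decide
  refine ⟨![e10mf5iso2_line K xe, e10mf5iso2_line K xf], ⟨le_refl 2, hr, ?_, ?_, ?_⟩, ?_, ?_⟩
  · rw [Fin.forall_fin_two]
    exact ⟨hd0, hd1⟩
  · exact (iSupIndep_pair h01 huniv).mpr (disjoint_iff.mpr hdisj)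
  · rw [eq_top_iff, ← hsup]
    exact sup_le (le_iSup ![e10mf5iso2_line K xe, e10mf5iso2_line K xf] 0)
      (le_iSup ![e10mf5iso2_line K xe, e10mf5iso2_line K xf] 1)
  · rw [Fin.forall_fin_two]
    exact ⟨(e10mf5iso2_ts_line Q K xe).2 hts0, (e10mf5iso2_ts_line Q K xf).2 hts1⟩
  · intro g hg
    have hgO := hGO hg
    have hgK := hGK hg
    have e1 : ((g⁻¹ : GL (Fin n) F) : Matrix (Fin n) (Fin n) F) * (g : Matrix (Fin n) (Fin n) F) = 1 := by
      rw [← Units.val_mul, inv_mul_cancel, Units.val_one]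
    have e2 : (g : Matrix (Fin n) (Fin n) F) * ((g⁻¹ : GL (Fin n) F) : Matrix (Fin n) (Fin n) F) = 1 := by
      rw [← Units.val_mul, mul_inv_cancel, Units.val_one]
    have hginv : g⁻¹ ∈ subalgebraNormalizer K := (subalgebraNormalizer K).inv_mem hgK
    have hQg : ∀ u : Fin n → F, Q ((g : Matrix (Fin n) (Fin n) F) *ᵥ u) = Q u := fun u => hgO u u
    have himg : ∀ x : Fin n → F, x ≠ 0 → (∀ k ∈ K, Q (k *ᵥ x) = 0) →
        (g : Matrix (Fin n) (Fin n) F) *ᵥ x ≠ 0 ∧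
          ∀ k ∈ K, Q (k *ᵥ ((g : Matrix (Fin n) (Fin n) F) *ᵥ x)) = 0 := by
      intro x hx hxts
      constructor
      · intro h
        apply hx
        calc x = (((g⁻¹ : GL (Fin n) F) : Matrix (Fin n) (Fin n) F) * (g : Matrix (Fin n) (Fin n) F)) *ᵥ x := by
              rw [e1, Matrix.one_mulVec]
          _ = 0 := by rw [← Matrix.mulVec_mulVec, h, Matrix.mulVec_zero]
      · intro k hk
        have hk' : ((g⁻¹ : GL (Fin n) F) : Matrix (Fin n) (Fin n) F) * k * (g : Matrix (Fin n) (Fin n) F) ∈ K := by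
          have := (hginv k).mp hk
          rwa [inv_inv] at this
        have e : k *ᵥ ((g : Matrix (Fin n) (Fin n) F) *ᵥ x) =
            (g : Matrix (Fin n) (Fin n) F) *ᵥ
              ((((g⁻¹ : GL (Fin n) F) : Matrix (Fin n) (Fin n) F) * k * (g : Matrix (Fin n) (Fin n) F)) *ᵥ x) := by
          rw [Matrix.mulVec_mulVec, Matrix.mulVec_mulVec, ← Matrix.mul_assoc, ← Matrix.mul_assoc, e2, Matrix.one_mul]
        rw [e, hQg]
        exact hxts _ hk'
    have hm0 := e10mf5iso2_map_line K g hgK xe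
    have hm1 := e10mf5iso2_map_line K g hgK xf
    have hinj : Function.Injective (Matrix.toLin' (g : Matrix (Fin n) (Fin n) F)) := by
      intro x y hxy
      rw [Matrix.toLin'_apply, Matrix.toLin'_apply] at hxy
      calc x = (((g⁻¹ : GL (Fin n) F) : Matrix (Fin n) (Fin n) F) * (g : Matrix (Fin n) (Fin n) F)) *ᵥ x := by
            rw [e1, Matrix.one_mulVec]
        _ = (((g⁻¹ : GL (Fin n) F) : Matrix (Fin n) (Fin n) F) * (g : Matrix (Fin n) (Fin n) F)) *ᵥ y := by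
            rw [← Matrix.mulVec_mulVec, hxy, Matrix.mulVec_mulVec]
        _ = y := by rw [e1, Matrix.one_mulVec]
    have hmapne : (e10mf5iso2_line K xe).map (Matrix.toLin' (g : Matrix (Fin n) (Fin n) F)) ≠
        (e10mf5iso2_line K xf).map (Matrix.toLin' (g : Matrix (Fin n) (Fin n) F)) :=
      fun h => hne (Submodule.map_injective_of_injective hinj h)
    obtain ⟨hge0, hgets⟩ := himg xe hxe hts0
    obtain ⟨hgf0, hgfts⟩ := himg xf hxf hts1
    rcases htwo _ hge0 hgets with h0' | h0' <;> rcases htwo _ hgf0 hgfts with h1' | h1'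
    · exfalso
      apply hmapne
      rw [hm0, hm1, h0', h1']
    · refine ⟨1, ?_⟩
      rw [Fin.forall_fin_two]
      constructor
      · show (e10mf5iso2_line K xe).map _ = e10mf5iso2_line K xe
        rw [hm0, h0']
      · show (e10mf5iso2_line K xf).map _ = e10mf5iso2_line K xf
        rw [hm1, h1']
    · refine ⟨Equiv.swap 0 1, ?_⟩
      rw [Fin.forall_fin_two]
      constructor
      · show (e10mf5iso2_line K xe).map _ = e10mf5iso2_line K xf
        rw [hm0, h0']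
      · show (e10mf5iso2_line K xf).map _ = e10mf5iso2_line K xe
        rw [hm1, h1']
    · exfalso
      apply hmapne
      rw [hm0, hm1, h0', h1']

end Cfsg.Agent.Lib.Helper16.E10M
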