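import Mathlib
import Cfsg.Prelude.Def_GeometricClasses
import Cfsg.Agent.Lib.Helper27.ASC.Defs
import Cfsg.Agent.Lib.helper23.ASCO.Defs
import Cfsg.Agent.Lib.Helper19.ASG.Defs
import Cfsg.Agent.Lib.Helper1.ASGCLIF3
import Cfsg.Agent.Lib.Helper25.ASO.Defs
import Cfsg.Agent.Lib.helper23.ASE.Defs
import Cfsg.Agent.Lib.Helper27.E10P.Defs
import Cfsg.Agent.Lib.Helper20.E10MFTEN
import Cfsg.Agent.Lib.Helper20.E10PFLD2U
import Cfsg.Agent.Lib.Helper27.E10MF5ISO2

set_option autoImplicit false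
set_option linter.unusedVariables false
set_option linter.unusedSectionVars false

/-!
# Project E10P (leader helper27), piece FLD5 : `field5_case` VERBATIM vs `Helper27/E10P/Skel.lean.txt`.

Assembly of helper20's E10M FIELD block, stage 2 (`Helper20.E10MF5HALF` with the isotropic alternative refined by
`Helper16.E10M.efield_iso_pair`, `Helper27.E10MF5ISO2`).  Extra: `e10pfld5_half` (general `n = 2 r`).
-/

namespace Cfsg.Agent.Lib.Helper27.E10P

open Cfsg Cfsg.Geo Cfsg.Agent.Lib.Helper27.ASC Cfsg.Agent.Lib.helper23.ASCO Cfsg.Agent.Lib.Helper19.ASG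
  Cfsg.Agent.Lib.Helper25.ASO Cfsg.Agent.Lib.helper23.ASE
open scoped MatrixGroups Matrix Kronecker

variable {n : ℕ} {F : Type*} [Field F] [Fintype F]

/-- the refined form of `efield_half`: a self-adjoint field of degree `r = n / 2` normalised by an irreducible group of isometries:
`G` stabilises a pair of complementary totally singular `r`-spaces or normalises an adjoint-closed field of degree 2 -/
theorem e10pfld5_half {r : ℕ} (hn : n = 2 * r) (hr : 0 < r) (Q : QuadraticForm F (Fin n → F))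
    (hQ : (QuadraticMap.polarBilin Q).Nondegenerate) {G : Subgroup (GL (Fin n) F)} (hG : Irr G)
    (hGO : G ≤ isometryGroup F (⇑Q)) (K : Subalgebra F (Matrix (Fin n) (Fin n) F)) (hK : IsFieldSubalgebra r K)
    (hsa : ∀ k ∈ K, oadj (⇑Q) k = k) (hGK : G ≤ subalgebraNormalizer K) :
    (∃ D : Fin 2 → Submodule F (Fin n → F), IsMDecomposition r D ∧ (∀ i, IsTotallySingularQuad (⇑Q) (D i)) ∧
        G ≤ decompositionStabilizer D) ∨
      ∃ K₂ : Subalgebra F (Matrix (Fin n) (Fin n) F), IsFieldSubalgebra 2 K₂ ∧ (∀ k ∈ K₂, oadj (⇑Q) k ∈ K₂) ∧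
        G ≤ subalgebraNormalizer K₂ := by
  classical
  have hstar : ∀ k ∈ K, oadj (⇑Q) k ∈ K := fun k hk => by rw [hsa k hk]; exact hk
  -- coordinates
  obtain ⟨ℓ, v, w, s, β, hc⟩ : ∃ (ℓ : Matrix (Fin n) (Fin n) F →ₗ[F] F) (v w : Fin n → F)
      (s β : Matrix (Fin n) (Fin n) F), Cfsg.Agent.Lib.Helper16.E10M.EFieldCoord (⇑Q) K ℓ v w s β := by
    by_cases h2 : (2 : F) = 0
    · have halt := Cfsg.Agent.Lib.Helper16.E10M.efield_sa_alt h2 Q hQ hG hGO (by omega : r < n) K hK hsa hGK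
      exact Cfsg.Agent.Lib.Helper16.E10M.efield_coord_even h2 hn hr Q hQ K hK hsa halt
    · exact Cfsg.Agent.Lib.Helper16.E10M.efield_coord_odd h2 hn hr Q hQ K hK hsa
  by_cases haniso : ∀ a ∈ K, ∀ b ∈ K, a * a + s * a * b + β * b * b = 0 → a = 0 ∧ b = 0
  swap
  · -- isotropic
    left
    push Not at haniso
    obtain ⟨a, ha, b, hb, h0, hab⟩ := haniso
    have hab' : a ≠ 0 ∨ b ≠ 0 := by
      by_contra hcon
      push Not at hcon
      exact hab hcon.1 hcon.2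
    exact Cfsg.Agent.Lib.Helper16.E10M.efield_iso_pair hn hr Q hQ K hK hc a b ha hb hab' h0 hGO hGK
  · -- anisotropic
    right
    obtain ⟨j, hjK, hj⟩ := Cfsg.Agent.Lib.Helper16.E10M.efield_j Q K hK hc
    have hjsq := Cfsg.Agent.Lib.Helper16.E10M.efield_j_sq Q K hK hc j hjK hj
    obtain ⟨L, hL, hKL, hjL, hLmem⟩ := Cfsg.Agent.Lib.Helper16.E10M.efield_L Q K hK hc haniso j hjK hj hjsq
    have hgen := Cfsg.Agent.Lib.Helper16.E10M.efield_gen_mem hr Q K hK hc haniso j hjK hj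
    have hgj := Cfsg.Agent.Lib.Helper16.E10M.efield_gen_j hr Q K hK hc haniso j hjK hj
    obtain ⟨hGL, hLstar⟩ :=
      Cfsg.Agent.Lib.Helper16.E10M.efield_L_norm Q hQ K hstar L hKL j hjL hLmem hgen hgj hGO hGK
    obtain ⟨K₂, hK₂, -, hnorm, hK₂star⟩ :=
      Cfsg.Agent.Lib.Helper16.E10M.efield_sub Q hQ L hL (by omega) hLstar 2 ⟨r, rfl⟩
    exact ⟨K₂, hK₂, hK₂star, hGL.trans hnorm⟩

/-- FLD5 -/
theorem field5_case (Q : QuadraticForm F (Fin 10 → F)) (hQ : (QuadraticMap.polarBilin Q).Nondegenerate)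
    {H : Subgroup (GL (Fin 10) F)} (hH : Irr H) (hHO : H ≤ isometryGroup F (⇑Q))
    (K : Subalgebra F (Matrix (Fin 10) (Fin 10) F)) (hK : IsFieldSubalgebra 5 K)
    (hadj : IsAdjointClosedFor (QuadraticMap.polar (⇑Q)) K) (hle : H ≤ subalgebraNormalizer K) :
    (∃ D : Fin 2 → Submodule F (Fin 10 → F), IsMDecomposition 5 D ∧ (∀ i, IsTotallySingularQuad (⇑Q) (D i)) ∧
        H ≤ decompositionStabilizer D) ∨
    (∃ K₂ : Subalgebra F (Matrix (Fin 10) (Fin 10) F), IsFieldSubalgebra 2 K₂ ∧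
        IsAdjointClosedFor (QuadraticMap.polar (⇑Q)) K₂ ∧ H ≤ subalgebraNormalizer K₂) := by
  have hstar := e10pfld2u_star Q hQ K hadj
  have hsa := Cfsg.Agent.Lib.Helper16.E10M.efield_odd_sa Q hQ (by decide : Odd 5) K hK hstar
  rcases e10pfld5_half (n := 10) (r := 5) rfl (by norm_num) Q hQ hH hHO K hK hsa hle with h | ⟨K₂, hK₂, hK₂star, hHK⟩
  · exact Or.inl h
  · exact Or.inr ⟨K₂, hK₂, Cfsg.Agent.Lib.Helper16.E10M.e10mftwo_adjClosed Q hQ K₂ hK₂star, hHK⟩

end Cfsg.Agent.Lib.Helper27.E10P
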