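import Mathlib
import Cfsg.Agent.Lib.Helper27.TvDual
import Cfsg.Agent.Lib.Helper27.AiCore

set_option autoImplicit false

/-!
Essential subgroups all of whose commutators with a subgroup `T` of the normalizer lie in a
central subgroup of order `p` (helper27): they are abelian and `T` induces at most `p` automorphisms.
-/

namespace Cfsg.Agent.Lib.Helper27.EsIdx

open Cfsg Cfsg.FusionSystem Cfsg.Agent.Lib.Helper26 Cfsg.Agent.Lib.Helper27.XsFus
  Cfsg.Agent.Lib.Helper27.AiGroup Cfsg.Agent.Lib.Helper27.AiFus Cfsg.Agent.Lib.Helper27.AiCore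
  Cfsg.Agent.Lib.Helper27.TvDual Cfsg.Agent.Lib.helper17

section spe

variable {Ω : Type*} [Group Ω] {S : Subgroup Ω} [Finite S] {p : ℕ} [hp : Fact p.Prime]

/-- for an abelian essential subgroup the automizer itself has a strongly `p`-embedded subgroup -/
theorem exists_spe_of_abelian_essential {F : FusionSystem S} {E : Subgroup Ω}
    (hE : F.IsEssential p E) (hab : ∀ a ∈ E, ∀ b ∈ E, a * b = b * a) :
    ∃ Y : Subgroup (F.autGroup E), IsStronglyPEmbedded p Y := by
  haveI : Finite E := finite_of_le hE.1.1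
  obtain ⟨-, -, hnorm, E', hE'⟩ := hE
  have hInn : Cfsg.Inn ↥E = ⊥ := by
    rw [eq_bot_iff]
    rintro φ ⟨g, rfl⟩
    rw [Subgroup.mem_bot]
    ext y
    rw [MulAut.conj_apply, MulAut.one_apply]
    have hc : g * y = y * g := Subtype.ext (hab g g.2 y y.2)
    rw [hc, mul_inv_cancel_right]
  have hN : (Cfsg.Inn ↥E).subgroupOf (F.autGroup E) = ⊥ := by
    rw [hInn]
    exact Subgroup.bot_subgroupOf _
  obtain ⟨π, hπ⟩ : ∃ π : F.autGroup E →* F.autGroup E ⧸ (Cfsg.Inn ↥E).subgroupOf (F.autGroup E),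
      π = QuotientGroup.mk' _ := ⟨_, rfl⟩
  have hsurj : Function.Surjective π := hπ ▸ QuotientGroup.mk'_surjective _
  have hinj : Function.Injective π := by
    rw [injective_iff_map_eq_one]
    intro a ha
    rw [hπ] at ha
    have h1 : a ∈ (Cfsg.Inn ↥E).subgroupOf (F.autGroup E) := (QuotientGroup.eq_one_iff a).mp ha
    rw [hN] at h1
    exact h1
  obtain ⟨hdiv, htop, hfus⟩ := spe_iff_fusion.mp hE'
  refine ⟨E'.comap π, spe_iff_fusion.mpr ⟨?_, ?_, ?_⟩⟩
  · obtain ⟨x', hx'E, hx'⟩ := exists_orderOf_eq_prime_of_dvd_card hdiv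
    obtain ⟨x, rfl⟩ := hsurj x'
    have hxY : x ∈ E'.comap π := hx'E
    have hord : orderOf (⟨x, hxY⟩ : E'.comap π) = p := by
      rw [Subgroup.orderOf_mk, ← hx', orderOf_injective π hinj]
    rw [← hord]
    exact orderOf_dvd_natCard _
  · intro h
    apply htop
    rw [eq_top_iff]
    intro y' _
    obtain ⟨y, rfl⟩ := hsurj y'
    have : y ∈ E'.comap π := by rw [h]; exact Subgroup.mem_top _
    exact this
  · intro a ha hap g hg
    have h1 : π a ∈ E' := ha
    have h2 : orderOf (π a) = p := by rw [orderOf_injective π hinj, hap]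
    have h3 : π g * π a * (π g)⁻¹ ∈ E' := by
      have : π (g * a * g⁻¹) ∈ E' := hg
      rwa [map_mul, map_mul, map_inv] at this
    exact hfus (π a) h1 h2 (π g) h3

end spe

section idx

variable {Ω : Type*} [Group Ω] {S B : Subgroup Ω} [Finite S] {p : ℕ} [hp : Fact p.Prime]

theorem center_index_eq : (Subgroup.center ↥S).index = (ZS S).relIndex S := by
  have h : (ZS S).subgroupOf S = Subgroup.center ↥S :=
    Subgroup.comap_map_eq_self_of_injective S.subtype_injective _
  rw [Subgroup.relIndex, h]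

/-- an abelian subgroup of index `p` and all commutators in a subgroup of order at most `p`:
the centre has index at most `p²` -/
theorem center_index_le (H : Hyp p S B) (hS : IsPGroup p S) (W : Subgroup Ω) [Finite W]
    (hW : Nat.card W ≤ p) (hcomm : ∀ a ∈ S, ∀ b ∈ S, a * b * a⁻¹ * b⁻¹ ∈ W) :
    (Subgroup.center ↥S).index ≤ p ^ 2 := by
  haveI : Finite B := finite_of_le H.hAS
  obtain ⟨x, hxS, hxB⟩ := H.exists_not_mem
  obtain ⟨ψ, hψ⟩ : ∃ ψ, ψ = psi (H.normal hS) H.hab x hxS := ⟨_, rfl⟩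
  have hker : ψ.ker = (ZS S).subgroupOf B := by
    ext b
    rw [MonoidHom.mem_ker, hψ, psi_eq_one_iff_mem_ZS H hS hxS hxB, Subgroup.mem_subgroupOf]
  have hrange : Nat.card ψ.range ≤ p := by
    have hmem : ∀ r : ψ.range, ((r : B) : Ω) ∈ W := by
      rintro ⟨_, ⟨b, rfl⟩⟩
      rw [hψ, psi_apply]
      exact hcomm _ (H.hAS b.2) _ hxS
    have hinj : Function.Injective (fun r : ψ.range => (⟨((r : B) : Ω), hmem r⟩ : W)) := by
      intro r s hrs
      have := congrArg Subtype.val hrs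
      exact Subtype.ext (Subtype.ext this)
    exact (Nat.card_le_card_of_injective _ hinj).trans hW
  have h1 : (ZS S).relIndex B ≤ p := by
    show ((ZS S).subgroupOf B).index ≤ p
    rw [← hker, Subgroup.index_ker]
    exact hrange
  have h2 := Subgroup.relIndex_mul_relIndex (ZS S) B S (H.ZS_le hS) H.hAS
  have h3 : B.relIndex S = p := H.hidx
  rw [center_index_eq, ← h2, h3, pow_two]
  exact Nat.mul_le_mul_right p h1

end idx

section ess

variable {Ω : Type*} [Group Ω] {S : Subgroup Ω} [Finite S] {p : ℕ} [hp : Fact p.Prime]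

/-- an essential subgroup `E ≤ T ≤ N_S(E)`, `T ≰ E`, with all commutators of `T` in a subgroup `W ≤ E`
of order `p` centralized by `T`: `E` is abelian of index at most `p` in `T` -/
theorem essential_common_center (hS : IsPGroup p S) {F : FusionSystem S} {E : Subgroup Ω}
    (hE : F.IsEssential p E) (W T : Subgroup Ω) (hWE : W ≤ E) (hWcard : Nat.card W = p)
    (hTS : T ≤ S) (hET : E ≤ T) (hTE : ¬ T ≤ E)
    (hfix : ∀ g ∈ T, ∀ w ∈ W, g * w * g⁻¹ = w)
    (hcomm : ∀ g ∈ T, ∀ y ∈ T, g * y * g⁻¹ * y⁻¹ ∈ W) :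
    (∀ a ∈ E, ∀ b ∈ E, a * b = b * a) ∧ (E.subgroupOf T).index ≤ p := by
  have hPS : E ≤ S := hE.1.1
  haveI : Finite E := finite_of_le hPS
  haveI : Finite T := finite_of_le hTS
  have hTN : T ≤ Subgroup.normalizer (E : Set Ω) := by
    have key : ∀ g ∈ T, ∀ y ∈ E, g * y * g⁻¹ ∈ E := by
      intro g hg y hy
      have h1 := hWE (hcomm g hg y (hET hy))
      have h2 := E.mul_mem h1 hy
      rwa [inv_mul_cancel_right] at h2
    intro g hg
    apply mem_normalizer_of_forall (key g hg)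
    intro y hy
    have := key g⁻¹ (T.inv_mem hg) y hy
    rwa [inv_inv] at this
  obtain ⟨Wsub, hWsub⟩ : ∃ Wsub : Subgroup E, Wsub = W.subgroupOf E := ⟨_, rfl⟩
  have hWsubcard : Nat.card Wsub = p := by
    rw [hWsub, Nat.card_congr (Subgroup.subgroupOfEquivOfLe hWE).toEquiv, hWcard]
  have hstab : ∀ g (hg : g ∈ T), conjAut E g (hTN hg) ∈ stabN Wsub := by
    intro g hg
    refine ⟨fun y hy => ?_, fun r => ?_⟩
    · apply Subtype.ext
      rw [conjAut_apply]
      rw [hWsub, Subgroup.mem_subgroupOf] at hy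
      exact hfix g hg y hy
    · rw [hWsub, Subgroup.mem_subgroupOf, Subgroup.coe_mul, conjAut_apply, Subgroup.coe_inv]
      exact hcomm g hg r (hET r.2)
  have hninv : ¬ ∀ φ ∈ F.autGroup E, ∀ y ∈ Wsub, φ y ∈ Wsub := by
    intro hinv
    apply hTE
    intro g hg
    exact mem_of_conjAut_mem_stabN hS hE Wsub hinv (hTS hg) (hTN hg) (hstab g hg)
  have hab : ∀ a ∈ E, ∀ b ∈ E, a * b = b * a := by
    by_contra hna
    apply hninv
    have hle : _root_.commutator ↥E ≤ Wsub := by
      rw [commutator_def, Subgroup.commutator_le]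
      intro a _ b _
      rw [hWsub, Subgroup.mem_subgroupOf, commutatorElement_def]
      exact hcomm a (hET a.2) b (hET b.2)
    have hdvd : Nat.card (_root_.commutator ↥E) ∣ p := by
      rw [← hWsubcard]
      exact Subgroup.card_dvd_of_le hle
    have hne : Nat.card (_root_.commutator ↥E) ≠ 1 := by
      intro h1
      have hbot : _root_.commutator ↥E = ⊥ := Subgroup.card_eq_one.mp h1
      have hc : IsMulCommutative ↥E := (commutator_eq_bot_iff ↥E).mp hbot
      apply hna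
      intro a ha b hb
      exact congrArg Subtype.val (hc.is_comm.comm ⟨a, ha⟩ ⟨b, hb⟩)
    have heq : _root_.commutator ↥E = Wsub := by
      apply Subgroup.eq_of_le_of_card_ge hle
      rw [hWsubcard]
      rcases (Nat.dvd_prime hp.out).mp hdvd with h | h
      · exact absurd h hne
      · exact h.ge
    intro φ _ y hy
    rw [← heq] at hy ⊢
    have h2 := (Subgroup.characteristic_iff_map_le.mp
      (inferInstance : (_root_.commutator ↥E).Characteristic)) φ
    exact h2 ⟨y, hy, rfl⟩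
  refine ⟨hab, ?_⟩
  obtain ⟨Y, hY⟩ := exists_spe_of_abelian_essential hE hab
  have hTA : autInducedBy T E ≤ F.autGroup E :=
    (autInducedBy_mono hTS E).trans (autInducedBy_le_autGroup F hPS)
  obtain ⟨A, hAdef⟩ : ∃ A : Subgroup (F.autGroup E),
      A = (autInducedBy T E).subgroupOf (F.autGroup E) := ⟨_, rfl⟩
  have hTp : IsPGroup p (autInducedBy T E) := by
    rw [autInducedBy_eq_map]
    exact ((hS.to_le hTS).comap_subtype).map _
  have hA : IsPGroup p A := hAdef ▸ hTp.comap_subtype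
  have hAW : ∀ t ∈ A, (t : MulAut E) ∈ stabN Wsub := by
    intro t ht
    rw [hAdef, Subgroup.mem_subgroupOf] at ht
    obtain ⟨g, hg, hgN, hgt⟩ := mem_autInducedBy_iff'.mp ht
    rw [hgt]
    exact hstab g hg
  have hcardA := common_center_card_le (hS.to_le hPS) (F.autGroup E) hY A hA Wsub hWsubcard hAW
  rw [hAdef, Nat.card_congr (Subgroup.subgroupOfEquivOfLe hTA).toEquiv] at hcardA
  -- the conjugation homomorphism
  obtain ⟨θ, hθ⟩ : ∃ θ : T →* MulAut E, θ = (Subgroup.normalizerMonoidHom E).comp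
      (Subgroup.inclusion hTN) := ⟨_, rfl⟩
  have hθapp : ∀ (g : T) (y : E), ((θ g y : E) : Ω) = (g : Ω) * (y : Ω) * (g : Ω)⁻¹ := by
    intro g y
    rw [hθ]
    rfl
  have hker : θ.ker = E.subgroupOf T := by
    ext g
    rw [MonoidHom.mem_ker, Subgroup.mem_subgroupOf]
    constructor
    · intro h
      apply hE.1.2 E (isConj_refl F hPS)
      refine ⟨hTS g.2, Subgroup.mem_centralizer_iff.mpr (fun y hy => ?_)⟩
      have h1 : θ g ⟨y, hy⟩ = ⟨y, hy⟩ := by rw [h]; rfl
      have h2 := congrArg Subtype.val h1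
      rw [hθapp] at h2
      have h3 : (g : Ω) * y * (g : Ω)⁻¹ = y := h2
      calc y * (g : Ω) = ((g : Ω) * y * (g : Ω)⁻¹) * (g : Ω) := by rw [h3]
        _ = (g : Ω) * y := by group
    · intro h
      ext y
      rw [hθapp, hab _ h _ y.2, mul_inv_cancel_right]
      rfl
  have hrange : θ.range ≤ autInducedBy T E := by
    rintro _ ⟨g, rfl⟩
    exact mem_autInducedBy_iff.mpr ⟨g, g.2, fun y => hθapp g y⟩
  rw [← hker, Subgroup.index_ker]
  haveI : Finite (autInducedBy T E) := Finite.of_injective _ Subtype.val_injective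
  exact (Subgroup.card_le_of_le hrange).trans hcardA

end ess

section extra

variable {Ω : Type*} [Group Ω] {S Q : Subgroup Ω} {p : ℕ} [hp : Fact p.Prime]

/-- basic consequences of `Q` being extraspecial -/
theorem extraspecial_facts (hQ : Cfsg.IsExtraspecial p ↥Q) :
    Nat.card (ZS Q) = p ∧ (∀ a ∈ Q, ∀ b ∈ Q, a * b * a⁻¹ * b⁻¹ ∈ ZS Q) ∧
      ∃ a ∈ Q, ∃ b ∈ Q, a * b ≠ b * a := by
  obtain ⟨⟨-, -, hcomQ⟩, hcardZ⟩ := hQ
  have h1 : Nat.card (ZS Q) = p := by
    rw [ZS, Subgroup.card_map_of_injective Q.subtype_injective, hcardZ]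
  refine ⟨h1, ?_, ?_⟩
  · intro a ha b hb
    have := comm_mem_SD ha hb
    rw [SD, hcomQ] at this
    exact this
  · by_contra hcon
    push Not at hcon
    have hc : IsMulCommutative ↥Q := ⟨⟨fun a b => Subtype.ext (hcon a a.2 b b.2)⟩⟩
    have hbot : _root_.commutator ↥Q = ⊥ := (commutator_eq_bot_iff ↥Q).mpr hc
    rw [← hcomQ, hbot, Subgroup.card_bot] at hcardZ
    exact hp.out.one_lt.ne hcardZ

/-- products of elements of `Q` with central elements of `S` have commutators in `Q` -/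
theorem comm_central {q q' c c' : Ω} (hc : ∀ s ∈ S, s * c = c * s) (hc' : ∀ s ∈ S, s * c' = c' * s)
    (hq : q ∈ S) (hq' : q' ∈ S) (hcS : c ∈ S) (hc'S : c' ∈ S) :
    (q * c) * (q' * c') * (q * c)⁻¹ * (q' * c')⁻¹ = q * q' * q⁻¹ * q'⁻¹ := by
  have h1 : (q' * c') * c = c * (q' * c') := hc _ (S.mul_mem hq' hc'S)
  have h2 : q⁻¹ * c' = c' * q⁻¹ := hc' _ (S.inv_mem hq)
  calc (q * c) * (q' * c') * (q * c)⁻¹ * (q' * c')⁻¹
      = q * (c * (q' * c')) * c⁻¹ * q⁻¹ * (q' * c')⁻¹ := by group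
    _ = q * ((q' * c') * c) * c⁻¹ * q⁻¹ * (q' * c')⁻¹ := by rw [h1]
    _ = q * q' * (c' * q⁻¹) * c'⁻¹ * q'⁻¹ := by group
    _ = q * q' * (q⁻¹ * c') * c'⁻¹ * q'⁻¹ := by rw [h2]
    _ = q * q' * q⁻¹ * q'⁻¹ := by group

end extra

section decomp

variable {Ω : Type*} [Group Ω] {S Q : Subgroup Ω} [Finite S] {p : ℕ} [hp : Fact p.Prime]

/-- a subgroup of index `p` and a central element outside it generate everything -/
theorem decomp_of_central (hQi : (Q.subgroupOf S).index = p) {z : Ω} (hz : z ∈ ZS S)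
    (hzQ : z ∉ Q) : ∀ s ∈ S, ∃ q ∈ Q, ∃ k : ℤ, s = q * z ^ k := by
  obtain ⟨z', hz'⟩ : ∃ z' : S, z' = ⟨z, ZS_le hz⟩ := ⟨_, rfl⟩
  have hcen : ∀ g : S, g * z' = z' * g := by
    intro g
    apply Subtype.ext
    rw [hz']
    exact (mem_ZS.mp hz).2 g g.2
  haveI hN : (Subgroup.zpowers z').Normal := by
    refine ⟨fun n hn g => ?_⟩
    obtain ⟨k, rfl⟩ := Subgroup.mem_zpowers_iff.mp hn
    have hc : Commute g z' := hcen g
    have e : g * z' ^ k * g⁻¹ = z' ^ k := by
      rw [(hc.zpow_right k).eq, mul_inv_cancel_right]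
    rw [e]
    exact hn
  have htop : Q.subgroupOf S ⊔ Subgroup.zpowers z' = ⊤ := by
    refine XsGroup.eq_top_of_index_prime hQi le_sup_left (fun h => hzQ ?_)
    have h1 : z' ∈ Q.subgroupOf S := h (Subgroup.mem_sup_right (Subgroup.mem_zpowers z'))
    rw [Subgroup.mem_subgroupOf, hz'] at h1
    exact h1
  intro s hs
  have hg : (⟨s, hs⟩ : S) ∈ ((Q.subgroupOf S ⊔ Subgroup.zpowers z' : Subgroup S) : Set S) := by
    rw [htop]
    exact Set.mem_univ _
  rw [Subgroup.mul_normal] at hg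
  obtain ⟨e, he, n, hn, hen⟩ := Set.mem_mul.mp hg
  obtain ⟨k, rfl⟩ := Subgroup.mem_zpowers_iff.mp hn
  refine ⟨e, Subgroup.mem_subgroupOf.mp he, k, ?_⟩
  have h1 := congrArg Subtype.val hen
  rw [hz'] at h1
  simpa using h1.symm

end decomp

end Cfsg.Agent.Lib.Helper27.EsIdx
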