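import Cfsg.Agent.Lib.Helper27.ExtrLFb0

/-!
# EXTRACTION-L, piece Fb (`c0_rigid`)
-/

set_option autoImplicit false
set_option linter.unusedSimpArgs false
set_option linter.unusedSectionVars false

namespace Cfsg.Agent.Lib.Helper27.ExtrL

open Matrix Cfsg.Agent.Lib.Helper29.ExtrL

variable {ι : Type} [Fintype ι] [DecidableEq ι] {F : Type*} [Field F]

/-! ### closure properties of monomial matrices -/

theorem fb_isMono_mul (A B : Matrix ι ι F) (hA : IsMono A) (hB : IsMono B) : IsMono (A * B) := by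
  intro a
  obtain ⟨kb, hkb⟩ := hB a
  obtain ⟨ka, hka⟩ := hA kb
  refine ⟨ka, fun r hr => ?_⟩
  rw [Matrix.mul_apply]
  refine Finset.sum_eq_zero (fun c _ => ?_)
  by_cases hc : c = kb
  · subst hc; rw [hka r hr, zero_mul]
  · rw [hkb c hc, mul_zero]

theorem fb_col_of_colAt (A : Matrix ι ι F) (a k : ι) (h : ColAt A a k) :
    A *ᵥ (Pi.single a 1) = A k a • (Pi.single k 1 : ι → F) := by
  funext r
  rw [Matrix.mulVec_single_one]
  simp only [Matrix.col_apply, Pi.smul_apply, smul_eq_mul, Pi.single_apply]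
  by_cases hr : r = k
  · subst hr; simp
  · rw [if_neg hr, mul_zero]; exact h r hr

theorem fb_isMono_inv (A Ai : Matrix ι ι F) (h1 : Ai * A = 1) (hA : IsMono A) : IsMono Ai := by
  classical
  choose κ hκ using hA
  have hcol : ∀ a, A *ᵥ (Pi.single a 1) = A (κ a) a • (Pi.single (κ a) 1 : ι → F) :=
    fun a => fb_col_of_colAt A a (κ a) (hκ a)
  have hμ : ∀ a, A (κ a) a ≠ 0 := by
    intro a h0
    have h2 : A *ᵥ (Pi.single a 1) = 0 := by rw [hcol a, h0, zero_smul]
    have h3 := congrFun (fb0_inj_of_left_inv A Ai h1 _ h2) a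
    simp at h3
  have hinj : Function.Injective κ := by
    intro a b hab
    by_contra hne
    have h2 : A *ᵥ (A (κ b) b • Pi.single a 1 - A (κ a) a • Pi.single b 1) = 0 := by
      rw [Matrix.mulVec_sub, Matrix.mulVec_smul, Matrix.mulVec_smul, hcol a, hcol b, hab,
        smul_smul, smul_smul, mul_comm, sub_self]
    have h3 := congrFun (fb0_inj_of_left_inv A Ai h1 _ h2) a
    simp only [Pi.sub_apply, Pi.smul_apply, smul_eq_mul, Pi.single_eq_same, mul_one,
      Pi.zero_apply, Pi.single_apply] at h3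
    rw [if_neg hne, mul_zero, sub_zero] at h3
    exact hμ b h3
  have hsurj : Function.Surjective κ := Finite.injective_iff_surjective.mp hinj
  intro c
  obtain ⟨a, rfl⟩ := hsurj c
  refine ⟨a, fun r hr => ?_⟩
  have h2 : Ai *ᵥ (A *ᵥ (Pi.single a 1)) = Pi.single a 1 := by
    rw [Matrix.mulVec_mulVec, h1, Matrix.one_mulVec]
  rw [hcol a, Matrix.mulVec_smul, Matrix.mulVec_single_one] at h2
  have h3 := congrFun h2 r
  simp only [Pi.smul_apply, smul_eq_mul, Matrix.col_apply, Pi.single_apply, if_neg hr] at h3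
  rcases mul_eq_zero.mp h3 with h | h
  · exact absurd h (hμ a)
  · exact h

/-! ### the monomial matrix `e_c ↦ d c • e_{σ c}` -/

/-- the monomial matrix sending `e_c` to `d c • e_{σ c}` -/
def fbMono (σ : Equiv.Perm ι) (d : ι → F) : Matrix ι ι F :=
  fun r c => if r = σ c then d c else 0

theorem fbMono_isMono (σ : Equiv.Perm ι) (d : ι → F) : IsMono (fbMono σ d) := by
  intro a
  refine ⟨σ a, fun r hr => ?_⟩
  simp [fbMono, hr]

theorem fbMono_eq (σ : Equiv.Perm ι) (d : ι → F) :
    fbMono σ d = (σ⁻¹).permMatrix F * Matrix.diagonal d := by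
  ext r c
  rw [Matrix.mul_diagonal]
  show fbMono σ d r c = (σ⁻¹).toPEquiv.toMatrix r c * d c
  rw [PEquiv.toMatrix_apply]
  simp only [fbMono, Equiv.toPEquiv_apply, Option.mem_def, Option.some.injEq]
  by_cases h : r = σ c
  · subst h; simp
  · have : ¬ (Equiv.symm σ) r = c := by
      intro h2; apply h; rw [← h2]; simp
    simp [h, this]

theorem fbMono_det (σ : Equiv.Perm ι) (d : ι → F) :
    (fbMono σ d).det = (Equiv.Perm.sign σ⁻¹ : ℤ) * ∏ l, d l := by
  rw [fbMono_eq, Matrix.det_mul, Matrix.det_permutation, Matrix.det_diagonal]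

theorem fbMono_mulVec (σ : Equiv.Perm ι) (d : ι → F) (v : ι → F) (r : ι) :
    (fbMono σ d *ᵥ v) r = d (σ.symm r) * v (σ.symm r) := by
  rw [Matrix.mulVec, dotProduct]
  rw [Finset.sum_eq_single (σ.symm r)]
  · simp [fbMono]
  · intro c _ hc
    have : ¬ r = σ c := by
      intro h; apply hc; rw [h]; simp
    simp [fbMono, this]
  · intro h; exact absurd (Finset.mem_univ _) h

theorem fb_diag_mul_fbMono (τ : ι → F) (σ : Equiv.Perm ι) (d : ι → F) :
    Matrix.diagonal τ * fbMono σ d = fbMono σ (fun c => τ (σ c) * d c) := by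
  ext r c
  rw [Matrix.diagonal_mul]
  simp only [fbMono]
  by_cases h : r = σ c
  · subst h; simp
  · simp [h]

/-! ### the three-cycle -/

/-- the three-cycle `i → j → k → i` -/
def fbCyc (i j k : ι) : Equiv.Perm ι := Equiv.swap i j * Equiv.swap j k

theorem fbCyc_i {i j k : ι} (hij : i ≠ j) (hik : i ≠ k) : fbCyc i j k i = j := by
  simp [fbCyc, Equiv.swap_apply_of_ne_of_ne hij hik]

theorem fbCyc_j {i j k : ι} (hik : i ≠ k) (hjk : j ≠ k) : fbCyc i j k j = k := by
  simp [fbCyc, Equiv.swap_apply_of_ne_of_ne (Ne.symm hik) (Ne.symm hjk)]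

theorem fbCyc_k {i j k : ι} : fbCyc i j k k = i := by
  simp [fbCyc]

theorem fbCyc_other {i j k l : ι} (hi : l ≠ i) (hj : l ≠ j) (hk : l ≠ k) : fbCyc i j k l = l := by
  simp [fbCyc, Equiv.swap_apply_of_ne_of_ne hj hk, Equiv.swap_apply_of_ne_of_ne hi hj]

theorem fbCyc_sign {i j k : ι} (hij : i ≠ j) (hjk : j ≠ k) :
    Equiv.Perm.sign (fbCyc i j k)⁻¹ = 1 := by
  rw [Equiv.Perm.sign_inv, fbCyc, Equiv.Perm.sign_mul, Equiv.Perm.sign_swap hij,
    Equiv.Perm.sign_swap hjk]
  rfl

theorem fbCyc_symm_j {i j k : ι} (hij : i ≠ j) (hik : i ≠ k) : (fbCyc i j k).symm j = i := by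
  rw [Equiv.symm_apply_eq, fbCyc_i hij hik]

theorem fbCyc_symm_k {i j k : ι} (hik : i ≠ k) (hjk : j ≠ k) : (fbCyc i j k).symm k = j := by
  rw [Equiv.symm_apply_eq, fbCyc_j hik hjk]

theorem fbCyc_symm_i {i j k : ι} : (fbCyc i j k).symm i = k := by
  rw [Equiv.symm_apply_eq, fbCyc_k]

theorem fbCyc_symm_other {i j k l : ι} (hi : l ≠ i) (hj : l ≠ j) (hk : l ≠ k) :
    (fbCyc i j k).symm l = l := by
  rw [Equiv.symm_apply_eq, fbCyc_other hi hj hk]

/-- the scalars: `d i = x`, `d j = y`, `d k = z`, `1` elsewhere -/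
def fbD (i j k : ι) (x y z : F) : ι → F :=
  fun l => if l = i then x else if l = j then y else if l = k then z else 1

theorem fbD_i (i j k : ι) (x y z : F) : fbD i j k x y z i = x := by simp [fbD]
theorem fbD_j {i j k : ι} (hij : i ≠ j) (x y z : F) : fbD i j k x y z j = y := by
  simp [fbD, Ne.symm hij]
theorem fbD_k {i j k : ι} (hik : i ≠ k) (hjk : j ≠ k) (x y z : F) : fbD i j k x y z k = z := by
  simp [fbD, Ne.symm hik, Ne.symm hjk]
theorem fbD_other {i j k l : ι} (hi : l ≠ i) (hj : l ≠ j) (hk : l ≠ k) (x y z : F) :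
    fbD i j k x y z l = 1 := by
  simp [fbD, hi, hj, hk]

theorem fbD_prod {i j k : ι} (hij : i ≠ j) (hik : i ≠ k) (hjk : j ≠ k) (x y z : F) :
    ∏ l, fbD i j k x y z l = x * y * z := by
  have h : ∀ l, fbD i j k x y z l =
      (if l = i then x else 1) * (if l = j then y else 1) * (if l = k then z else 1) := by
    intro l
    by_cases h1 : l = i
    · subst h1; simp [fbD, hij, hik]
    · by_cases h2 : l = j
      · subst h2; simp [fbD, h1, hjk]
      · by_cases h3 : l = k
        · subst h3; simp [fbD, h1, h2]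
        · simp [fbD, h1, h2, h3]
  simp_rw [h]
  rw [Finset.prod_mul_distrib, Finset.prod_mul_distrib]
  simp

/-! ### the key remark (K) for a three-cycle monomial matrix -/

theorem fb_key (M : Subgroup (Matrix.GeneralLinearGroup ι F)) (hN : HasMonoSL M) (hC0 : C0 M)
    (g : Matrix.GeneralLinearGroup ι F) (hg : g ∈ M) (c i j k : ι)
    (hij : i ≠ j) (hik : i ≠ k) (hjk : j ≠ k)
    (hi : (g : Matrix ι ι F) i c ≠ 0) (hj : (g : Matrix ι ι F) j c ≠ 0)
    (hk : (g : Matrix ι ι F) k c ≠ 0) :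
    ∃ X : Matrix.GeneralLinearGroup ι F,
      (X : Matrix ι ι F) = fbMono (fbCyc i j k)
        (fbD i j k ((g : Matrix ι ι F) j c / (g : Matrix ι ι F) i c)
          ((g : Matrix ι ι F) k c / (g : Matrix ι ι F) j c)
          ((g : Matrix ι ι F) i c / (g : Matrix ι ι F) k c)) ∧
      X ∈ M ∧ IsMono ((g⁻¹ * X * g : Matrix.GeneralLinearGroup ι F) : Matrix ι ι F) := by
  classical
  have hdet : (fbMono (fbCyc i j k)
        (fbD i j k ((g : Matrix ι ι F) j c / (g : Matrix ι ι F) i c)
          ((g : Matrix ι ι F) k c / (g : Matrix ι ι F) j c)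
          ((g : Matrix ι ι F) i c / (g : Matrix ι ι F) k c))).det = 1 := by
    rw [fbMono_det, fbCyc_sign hij hjk, fbD_prod hij hik hjk]
    field_simp
    simp
  have hne : (fbMono (fbCyc i j k)
        (fbD i j k ((g : Matrix ι ι F) j c / (g : Matrix ι ι F) i c)
          ((g : Matrix ι ι F) k c / (g : Matrix ι ι F) j c)
          ((g : Matrix ι ι F) i c / (g : Matrix ι ι F) k c))).det ≠ 0 := by
    rw [hdet]; exact one_ne_zero
  refine ⟨Matrix.GeneralLinearGroup.mkOfDetNeZero _ hne, rfl, ?_, ?_⟩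
  · exact hN _ (fbMono_isMono _ _) hdet
  · have hXM : Matrix.GeneralLinearGroup.mkOfDetNeZero _ hne ∈ M :=
      hN _ (fbMono_isMono _ _) hdet
    have hmem : g⁻¹ * Matrix.GeneralLinearGroup.mkOfDetNeZero _ hne * g ∈ M :=
      M.mul_mem (M.mul_mem (M.inv_mem hg) hXM) hg
    refine hC0 _ hmem ⟨c, c, fun r hr => ?_⟩
    -- column `c` of `g⁻¹ X g` is `e_c`
    have hGi : ((g⁻¹ : Matrix.GeneralLinearGroup ι F) : Matrix ι ι F) * (g : Matrix ι ι F) = 1 := by
      rw [← Units.val_mul, inv_mul_cancel]; rfl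
    have hfix : fbMono (fbCyc i j k)
        (fbD i j k ((g : Matrix ι ι F) j c / (g : Matrix ι ι F) i c)
          ((g : Matrix ι ι F) k c / (g : Matrix ι ι F) j c)
          ((g : Matrix ι ι F) i c / (g : Matrix ι ι F) k c)) *ᵥ ((g : Matrix ι ι F).col c) =
        (g : Matrix ι ι F).col c := by
      funext r
      rw [fbMono_mulVec]
      by_cases h1 : r = i
      · subst h1
        rw [fbCyc_symm_i, fbD_k hik hjk]
        simp only [Matrix.col_apply]
        field_simp
      · by_cases h2 : r = j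
        · subst h2
          rw [fbCyc_symm_j hij hik, fbD_i]
          simp only [Matrix.col_apply]
          field_simp
        · by_cases h3 : r = k
          · subst h3
            rw [fbCyc_symm_k hik hjk, fbD_j hij]
            simp only [Matrix.col_apply]
            field_simp
          · rw [fbCyc_symm_other h1 h2 h3, fbD_other h1 h2 h3, one_mul]
    have hcol : (((g⁻¹ * Matrix.GeneralLinearGroup.mkOfDetNeZero _ hne * g :
        Matrix.GeneralLinearGroup ι F) : Matrix ι ι F)) *ᵥ (Pi.single c 1) = Pi.single c 1 := by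
      rw [Units.val_mul, Units.val_mul, ← Matrix.mulVec_mulVec, ← Matrix.mulVec_mulVec,
        Matrix.mulVec_single_one]
      show ((g⁻¹ : Matrix.GeneralLinearGroup ι F) : Matrix ι ι F) *ᵥ
        (fbMono (fbCyc i j k) _ *ᵥ (g : Matrix ι ι F).col c) = _
      rw [hfix, ← Matrix.mulVec_single_one, Matrix.mulVec_mulVec, hGi, Matrix.one_mulVec]
    have h4 := congrFun hcol r
    rw [Matrix.mulVec_single_one] at h4
    simp only [Matrix.col_apply, Pi.single_apply, if_neg hr] at h4
    exact h4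

theorem fb_exists_notMem13 (hn : 13 ≤ Fintype.card ι) (s : Finset ι) (hs : s.card ≤ 12) :
    ∃ a : ι, a ∉ s := by
  by_contra hcon
  push Not at hcon
  have : s = Finset.univ := Finset.eq_univ_iff_forall.mpr hcon
  rw [this, Finset.card_univ] at hs
  omega

theorem fbD_ne_zero {i j k : ι} (hij : i ≠ j) (hik : i ≠ k) (hjk : j ≠ k) (x y z : F)
    (hx : x ≠ 0) (hy : y ≠ 0) (hz : z ≠ 0) (l : ι) : fbD i j k x y z l ≠ 0 := by
  by_cases h1 : l = i
  · subst h1; rw [fbD_i]; exact hx
  · by_cases h2 : l = j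
    · subst h2; rw [fbD_j hij]; exact hy
    · by_cases h3 : l = k
      · subst h3; rw [fbD_k hik hjk]; exact hz
      · rw [fbD_other h1 h2 h3]; exact one_ne_zero

/-- **Fb** -/
theorem c0_rigid [Fintype F] (hn : 13 ≤ Fintype.card ι)
    (M : Subgroup (Matrix.GeneralLinearGroup ι F)) (hMS : InSL M) (hN : HasMonoSL M)
    (hC0 : C0 M) (hW : W1 M) : Rigid M := by
  classical
  intro g hg hnm a b i j hab hij hia hja hib hjb
  have hWg := hW g hg hnm
  -- a third row
  have hza : (Finset.univ.filter (fun l => (g : Matrix ι ι F) l a = 0)).card ≤ 1 := by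
    rw [Finset.card_le_one]
    intro x hx y hy
    simp only [Finset.mem_filter, Finset.mem_univ, true_and] at hx hy
    by_contra hxy
    exact hWg a x y hxy ⟨hx, hy⟩
  have hzb : (Finset.univ.filter (fun l => (g : Matrix ι ι F) l b = 0)).card ≤ 1 := by
    rw [Finset.card_le_one]
    intro x hx y hy
    simp only [Finset.mem_filter, Finset.mem_univ, true_and] at hx hy
    by_contra hxy
    exact hWg b x y hxy ⟨hx, hy⟩
  have hcard : ((({i, j} : Finset ι) ∪ Finset.univ.filter (fun l => (g : Matrix ι ι F) l a = 0)) ∪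
      Finset.univ.filter (fun l => (g : Matrix ι ι F) l b = 0)).card ≤ 12 := by
    refine (Finset.card_union_le _ _).trans ?_
    have h1 := Finset.card_union_le ({i, j} : Finset ι)
      (Finset.univ.filter (fun l => (g : Matrix ι ι F) l a = 0))
    have h2 : ({i, j} : Finset ι).card ≤ 2 := Finset.card_le_two
    omega
  obtain ⟨k, hk⟩ := fb_exists_notMem13 hn _ hcard
  simp only [Finset.mem_union, Finset.mem_insert, Finset.mem_singleton, Finset.mem_filter,
    Finset.mem_univ, true_and, not_or] at hk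
  obtain ⟨⟨⟨hki, hkj⟩, hka⟩, hkb⟩ := hk
  have hik : i ≠ k := Ne.symm hki
  have hjk : j ≠ k := Ne.symm hkj
  obtain ⟨Xa, hXa, hXaM, hma⟩ := fb_key M hN hC0 g hg a i j k hij hik hjk hia hja hka
  obtain ⟨Xb, hXb, hXbM, hmb⟩ := fb_key M hN hC0 g hg b i j k hij hik hjk hib hjb hkb
  -- the diagonal matrix
  set da : ι → F := fbD i j k ((g : Matrix ι ι F) j a / (g : Matrix ι ι F) i a)
          ((g : Matrix ι ι F) k a / (g : Matrix ι ι F) j a)
          ((g : Matrix ι ι F) i a / (g : Matrix ι ι F) k a) with hda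
  set db : ι → F := fbD i j k ((g : Matrix ι ι F) j b / (g : Matrix ι ι F) i b)
          ((g : Matrix ι ι F) k b / (g : Matrix ι ι F) j b)
          ((g : Matrix ι ι F) i b / (g : Matrix ι ι F) k b) with hdb
  have hdb0 : ∀ l, db l ≠ 0 := fun l =>
    fbD_ne_zero hij hik hjk _ _ _ (div_ne_zero hjb hib) (div_ne_zero hkb hjb)
      (div_ne_zero hib hkb) l
  let τ : ι → F := fun l => da ((fbCyc i j k).symm l) / db ((fbCyc i j k).symm l)
  have hXab : (Xa : Matrix ι ι F) = Matrix.diagonal τ * (Xb : Matrix ι ι F) := by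
    rw [hXa, hXb, fb_diag_mul_fbMono]
    congr 1
    funext c
    show da c = da ((fbCyc i j k).symm (fbCyc i j k c)) / db ((fbCyc i j k).symm (fbCyc i j k c)) *
      db c
    rw [Equiv.symm_apply_apply]
    field_simp [hdb0 c]
  have htval : ((Xa * Xb⁻¹ : Matrix.GeneralLinearGroup ι F) : Matrix ι ι F) = Matrix.diagonal τ := by
    rw [Units.val_mul, hXab, Matrix.mul_assoc, ← Units.val_mul, mul_inv_cancel]
    simp
  have hmono : IsMono ((g⁻¹ * (Xa * Xb⁻¹) * g : Matrix.GeneralLinearGroup ι F) : Matrix ι ι F) := by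
    have e : g⁻¹ * (Xa * Xb⁻¹) * g = (g⁻¹ * Xa * g) * (g⁻¹ * Xb * g)⁻¹ := by group
    rw [e, Units.val_mul]
    refine fb_isMono_mul _ _ hma (fb_isMono_inv _ _ ?_ hmb)
    rw [← Units.val_mul, inv_mul_cancel]; rfl
  have hnot2 : ¬ ∃ l l' : ι, l ≠ l' ∧
      ((Xa * Xb⁻¹ : Matrix.GeneralLinearGroup ι F) : Matrix ι ι F) l l ≠ 1 ∧
      ((Xa * Xb⁻¹ : Matrix.GeneralLinearGroup ι F) : Matrix ι ι F) l' l' ≠ 1 := by
    intro h
    refine small_support (by omega) g (Xa * Xb⁻¹) hWg ?_ i j k ?_ h hmono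
    · intro r c hrc
      rw [htval, Matrix.diagonal_apply_ne _ hrc]
    · intro l hli hlj hlk
      rw [htval, Matrix.diagonal_apply_eq]
      show da ((fbCyc i j k).symm l) / db ((fbCyc i j k).symm l) = 1
      rw [fbCyc_symm_other hli hlj hlk, hda, hdb, fbD_other hli hlj hlk, fbD_other hli hlj hlk]
      simp
  rw [htval] at hnot2
  simp only [Matrix.diagonal_apply_eq] at hnot2
  have hτi : τ i = ((g : Matrix ι ι F) i a / (g : Matrix ι ι F) k a) /
      ((g : Matrix ι ι F) i b / (g : Matrix ι ι F) k b) := by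
    show da ((fbCyc i j k).symm i) / db ((fbCyc i j k).symm i) = _
    rw [fbCyc_symm_i, hda, hdb, fbD_k hik hjk, fbD_k hik hjk]
  have hτj : τ j = ((g : Matrix ι ι F) j a / (g : Matrix ι ι F) i a) /
      ((g : Matrix ι ι F) j b / (g : Matrix ι ι F) i b) := by
    show da ((fbCyc i j k).symm j) / db ((fbCyc i j k).symm j) = _
    rw [fbCyc_symm_j hij hik, hda, hdb, fbD_i, fbD_i]
  have hτk : τ k = ((g : Matrix ι ι F) k a / (g : Matrix ι ι F) j a) /
      ((g : Matrix ι ι F) k b / (g : Matrix ι ι F) j b) := by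
    show da ((fbCyc i j k).symm k) / db ((fbCyc i j k).symm k) = _
    rw [fbCyc_symm_k hik hjk, hda, hdb, fbD_j hij, fbD_j hij]
  have hprod : τ i * τ j * τ k = 1 := by
    rw [hτi, hτj, hτk]
    field_simp
  have hj1 : τ j = 1 := by
    by_contra hne
    have hi1 : τ i = 1 := by
      by_contra hne'
      exact hnot2 ⟨i, j, hij, hne', hne⟩
    have hk1 : τ k = 1 := by
      by_contra hne'
      exact hnot2 ⟨j, k, hjk, hne, hne'⟩
    rw [hi1, hk1, one_mul, mul_one] at hprod
    exact hne hprod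
  rw [hτj] at hj1
  field_simp at hj1
  linear_combination -hj1

end Cfsg.Agent.Lib.Helper27.ExtrL
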