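import Mathlib
import Cfsg.Prelude.Def_FischerSpaces

set_option autoImplicit false

namespace Cfsg.Agent.Lib.Helper27

open Cfsg Cfsg.LineSystem

section FSpaceBasic

variable {X : Type*}

/-- `z` is the third point of a line through `x` and `y` -/
def Third (L : Set (Set X)) (x y z : X) : Prop :=
  z ≠ x ∧ z ≠ y ∧ x ≠ y ∧ ({x, y, z} : Set X) ∈ L

/-- `w` is the image of `v` under the reflection in `x` -/
def Img (L : Set (Set X)) (x v w : X) : Prop :=
  Third L x v w ∨ ((¬ ∃ u, Third L x v u) ∧ w = v)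

theorem Third.swap_right {L : Set (Set X)} {x y z : X} (h : Third L x y z) : Third L x z y := by
  obtain ⟨h1, h2, h3, h4⟩ := h
  refine ⟨h3.symm, h2.symm, h1.symm, ?_⟩
  have : ({x, z, y} : Set X) = {x, y, z} := by
    rw [Set.pair_comm z y]
  rw [this]
  exact h4

theorem Third.swap_left {L : Set (Set X)} {x y z : X} (h : Third L x y z) : Third L y x z := by
  obtain ⟨h1, h2, h3, h4⟩ := h
  refine ⟨h2, h1, h3.symm, ?_⟩
  have : ({y, x, z} : Set X) = {x, y, z} := Set.insert_comm y x {z}
  rw [this]
  exact h4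

theorem Third.unique {L : Set (Set X)} (hPL : IsPartialLinear L) {x y z z' : X}
    (h : Third L x y z) (h' : Third L x y z') : z = z' := by
  obtain ⟨h1, h2, h3, h4⟩ := h
  obtain ⟨h1', h2', -, h4'⟩ := h'
  have heq := hPL _ h4 _ h4' x y h3 (by simp) (by simp) (by simp) (by simp)
  have hz : z ∈ ({x, y, z'} : Set X) := by rw [← heq]; simp
  rcases hz with hz | hz | hz
  · exact absurd hz h1
  · exact absurd hz h2
  · exact hz

theorem lineMap_eq_of_third {L : Set (Set X)} (hPL : IsPartialLinear L) {x y z : X}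
    (h : Third L x y z) : lineMap L x y = z := by
  unfold lineMap
  have hex : ∃ z : X, z ≠ x ∧ z ≠ y ∧ x ≠ y ∧ ({x, y, z} : Set X) ∈ L := ⟨z, h⟩
  rw [dif_pos hex]
  exact Third.unique hPL hex.choose_spec h

theorem lineMap_eq_self {L : Set (Set X)} {x y : X} (h : ¬ ∃ u, Third L x y u) :
    lineMap L x y = y := by
  unfold lineMap
  have h' : ¬ ∃ z : X, z ≠ x ∧ z ≠ y ∧ x ≠ y ∧ ({x, y, z} : Set X) ∈ L := h
  rw [dif_neg h']

theorem lineMap_eq_iff {L : Set (Set X)} (hPL : IsPartialLinear L) {x v w : X} :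
    lineMap L x v = w ↔ Img L x v w := by
  constructor
  · intro h
    by_cases hex : ∃ u, Third L x v u
    · obtain ⟨u, hu⟩ := hex
      rw [lineMap_eq_of_third hPL hu] at h
      exact Or.inl (h ▸ hu)
    · rw [lineMap_eq_self hex] at h
      exact Or.inr ⟨hex, h.symm⟩
  · rintro (h | ⟨h, rfl⟩)
    · exact lineMap_eq_of_third hPL h
    · exact lineMap_eq_self h

theorem lineMap_self {L : Set (Set X)} (x : X) : lineMap L x x = x := by
  apply lineMap_eq_self
  rintro ⟨u, -, -, h, -⟩
  exact h rfl

theorem lineMap_invol {L : Set (Set X)} (hPL : IsPartialLinear L) (x y : X) :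
    lineMap L x (lineMap L x y) = y := by
  by_cases hex : ∃ u, Third L x y u
  · obtain ⟨u, hu⟩ := hex
    rw [lineMap_eq_of_third hPL hu, lineMap_eq_of_third hPL hu.swap_right]
  · rw [lineMap_eq_self hex, lineMap_eq_self hex]

/-- the reflection as a permutation -/
noncomputable def reflPerm (L : Set (Set X)) (hPL : IsPartialLinear L) (x : X) : Equiv.Perm X where
  toFun := lineMap L x
  invFun := lineMap L x
  left_inv := lineMap_invol hPL x
  right_inv := lineMap_invol hPL x

theorem coe_reflPerm (L : Set (Set X)) (hPL : IsPartialLinear L) (x : X) :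
    ⇑(reflPerm L hPL x) = lineMap L x := rfl

theorem reflPerm_mul_self (L : Set (Set X)) (hPL : IsPartialLinear L) (x : X) :
    reflPerm L hPL x * reflPerm L hPL x = 1 := by
  ext y
  exact lineMap_invol hPL x y

theorem reflPerm_inv (L : Set (Set X)) (hPL : IsPartialLinear L) (x : X) :
    (reflPerm L hPL x)⁻¹ = reflPerm L hPL x :=
  inv_eq_of_mul_eq_one_right (reflPerm_mul_self L hPL x)

/-- two distinct points of a three-point line, with the third point -/
theorem exists_third_of_mem {L : Set (Set X)} (h3 : ∀ l ∈ L, l.ncard = 3) {l : Set X}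
    (hl : l ∈ L) {x y : X} (hx : x ∈ l) (hy : y ∈ l) (hxy : x ≠ y) :
    ∃ z, Third L x y z ∧ l = {x, y, z} := by
  obtain ⟨a, b, c, hab, hac, hbc, rfl⟩ := Set.ncard_eq_three.mp (h3 l hl)
  have key : ∀ p q r : X, ({a, b, c} : Set X) = {p, q, r} → p ≠ q → r ≠ p → r ≠ q →
      ∃ z, Third L p q z ∧ ({a, b, c} : Set X) = {p, q, z} := by
    intro p q r he hpq hrp hrq
    refine ⟨r, ⟨hrp, hrq, hpq, ?_⟩, he⟩
    rw [← he]
    exact hl
  simp only [Set.mem_insert_iff, Set.mem_singleton_iff] at hx hy
  rcases hx with hx | hx | hx <;> rcases hy with hy | hy | hy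
  · exact absurd (hx.trans hy.symm) hxy
  · rw [hx, hy]
    exact key a b c rfl hab hac.symm hbc.symm
  · rw [hx, hy]
    exact key a c b (by rw [Set.pair_comm]) hac hab.symm hbc
  · rw [hx, hy]
    exact key b a c (Set.insert_comm _ _ _) hab.symm hbc.symm hac.symm
  · exact absurd (hx.trans hy.symm) hxy
  · rw [hx, hy]
    refine key b c a ?_ hbc hab hac
    rw [Set.insert_comm a b, Set.pair_comm a c]
  · rw [hx, hy]
    refine key c a b ?_ hac.symm hbc hab.symm
    rw [Set.pair_comm b c, Set.insert_comm a c]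
  · rw [hx, hy]
    refine key c b a ?_ hbc.symm hac hab
    rw [Set.pair_comm b c, Set.insert_comm a c, Set.pair_comm a b]
  · exact absurd (hx.trans hy.symm) hxy

theorem reflPerm_orderOf {L : Set (Set X)} (hPL : IsPartialLinear L)
    (h3 : ∀ l ∈ L, l.ncard = 3) (hnd : IsNondegenerate L) (x : X) :
    orderOf (reflPerm L hPL x) = 2 := by
  apply orderOf_eq_prime
  · rw [pow_two]
    exact reflPerm_mul_self L hPL x
  · intro h1
    obtain ⟨l, hl, hxl⟩ := hnd x
    obtain ⟨a, b, c, hab, hac, hbc, rfl⟩ := Set.ncard_eq_three.mp (h3 l hl)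
    have hex : ∃ y ∈ ({a, b, c} : Set X), x ≠ y := by
      by_cases hxa : x = a
      · exact ⟨b, by simp, hxa ▸ hab⟩
      · exact ⟨a, by simp, hxa⟩
    obtain ⟨y, hy, hxy⟩ := hex
    obtain ⟨z, hz, -⟩ := exists_third_of_mem h3 hl hxl hy hxy
    have h2 : reflPerm L hPL x y = z := lineMap_eq_of_third hPL hz
    rw [h1] at h2
    exact hz.2.1 h2.symm

/-- isomorphisms preserve the third-point relation -/
theorem third_iff_of_iso {Y : Type*} {N : Set (Set X)} {N' : Set (Set Y)} {e : X ≃ Y}
    (he : IsIso N N' e) (a b c : X) : Third N a b c ↔ Third N' (e a) (e b) (e c) := by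
  have himg : e '' ({a, b, c} : Set X) = {e a, e b, e c} := by
    rw [Set.image_insert_eq, Set.image_insert_eq, Set.image_singleton]
  unfold Third
  rw [he, himg, e.injective.ne_iff, e.injective.ne_iff, e.injective.ne_iff]

theorem img_iff_of_iso {Y : Type*} {N : Set (Set X)} {N' : Set (Set Y)} {e : X ≃ Y}
    (he : IsIso N N' e) (x v w : X) : Img N x v w ↔ Img N' (e x) (e v) (e w) := by
  unfold Img
  rw [third_iff_of_iso he, e.injective.eq_iff]
  have : (∃ u, Third N x v u) ↔ ∃ u', Third N' (e x) (e v) u' := by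
    constructor
    · rintro ⟨u, hu⟩
      exact ⟨e u, (third_iff_of_iso he _ _ _).mp hu⟩
    · rintro ⟨u', hu'⟩
      refine ⟨e.symm u', (third_iff_of_iso he _ _ _).mpr ?_⟩
      rw [Equiv.apply_symm_apply]
      exact hu'
  rw [this]

theorem isIso_symm {N : Set (Set X)} {e : Equiv.Perm X} (he : IsIso N N e) :
    IsIso N N e.symm := by
  intro l
  rw [he (e.symm '' l)]
  have : e '' (e.symm '' l) = l := by
    rw [Set.image_image]
    simp
  rw [this]

/-- an automorphism conjugates reflections to reflections -/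
theorem lineMap_conj {L : Set (Set X)} (hPL : IsPartialLinear L) {τ : Equiv.Perm X}
    (hτ : IsIso L L τ) (y w : X) : τ (lineMap L y w) = lineMap L (τ y) (τ w) := by
  symm
  rw [lineMap_eq_iff hPL, ← img_iff_of_iso hτ, ← lineMap_eq_iff hPL]

theorem reflPerm_conj {L : Set (Set X)} (hPL : IsPartialLinear L) {τ : Equiv.Perm X}
    (hτ : IsIso L L τ) (y : X) :
    τ * reflPerm L hPL y * τ⁻¹ = reflPerm L hPL (τ y) := by
  ext w
  show τ (lineMap L y (τ⁻¹ w)) = lineMap L (τ y) w
  rw [lineMap_conj hPL hτ]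
  simp

/-- the order conditions, given that reflections are automorphisms -/
theorem refl_three_transposition {L : Set (Set X)} (hPL : IsPartialLinear L)
    (hauto : ∀ x, IsIso L L (reflPerm L hPL x)) (x y : X) :
    (reflPerm L hPL x * reflPerm L hPL y) ^ 2 = 1 ∨
      (reflPerm L hPL x * reflPerm L hPL y) ^ 3 = 1 := by
  have hx2 := reflPerm_mul_self L hPL x
  have hy2 := reflPerm_mul_self L hPL y
  have hxi := reflPerm_inv L hPL x
  have hyi := reflPerm_inv L hPL y
  by_cases hex : ∃ u, Third L x y u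
  · right
    obtain ⟨u, hu⟩ := hex
    have h1 := reflPerm_conj hPL (hauto x) y
    have h2 := reflPerm_conj hPL (hauto y) x
    have e1 : reflPerm L hPL x y = u := lineMap_eq_of_third hPL hu
    have e2 : reflPerm L hPL y x = u := lineMap_eq_of_third hPL hu.swap_left
    rw [e1, hxi] at h1
    rw [e2, hyi] at h2
    have h3 : reflPerm L hPL x * reflPerm L hPL y * reflPerm L hPL x =
        reflPerm L hPL y * reflPerm L hPL x * reflPerm L hPL y := h1.trans h2.symm
    rw [pow_succ, pow_two]
    calc reflPerm L hPL x * reflPerm L hPL y * (reflPerm L hPL x * reflPerm L hPL y) *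
          (reflPerm L hPL x * reflPerm L hPL y)
        = (reflPerm L hPL x * reflPerm L hPL y * reflPerm L hPL x) *
          (reflPerm L hPL y * reflPerm L hPL x * reflPerm L hPL y) := by group
      _ = (reflPerm L hPL y * reflPerm L hPL x * reflPerm L hPL y) *
          (reflPerm L hPL y * reflPerm L hPL x * reflPerm L hPL y) := by rw [h3]
      _ = reflPerm L hPL y * reflPerm L hPL x * (reflPerm L hPL y * reflPerm L hPL y) *
          reflPerm L hPL x * reflPerm L hPL y := by group
      _ = reflPerm L hPL y * (reflPerm L hPL x * reflPerm L hPL x) * reflPerm L hPL y := by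
          rw [hy2]; group
      _ = 1 := by rw [hx2, mul_one, hy2]
  · left
    have h1 := reflPerm_conj hPL (hauto x) y
    have e1 : reflPerm L hPL x y = y := lineMap_eq_self hex
    rw [e1, hxi] at h1
    rw [pow_two]
    calc reflPerm L hPL x * reflPerm L hPL y * (reflPerm L hPL x * reflPerm L hPL y)
        = (reflPerm L hPL x * reflPerm L hPL y * reflPerm L hPL x) * reflPerm L hPL y := by group
      _ = reflPerm L hPL y * reflPerm L hPL y := by rw [h1]
      _ = 1 := hy2

end FSpaceBasic

end Cfsg.Agent.Lib.Helper27
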