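import Cfsg.Agent.Lib.Helper27.FSpaceBasic

set_option autoImplicit false

namespace Cfsg.Agent.Lib.Helper27

open Cfsg Cfsg.LineSystem

section FSpaceModels

/-- reflections map lines off the centre which meet the neighbourhood of the centre to lines -/
def ReflLineClosed {Y : Type*} (N : Set (Set Y)) : Prop :=
  ∀ x : Y, ∀ l₀ ∈ N, x ∉ l₀ → (∃ v ∈ l₀, ∃ u, Third N x v u) →
    {w | ∃ v ∈ l₀, Img N x v w} ∈ N

theorem reflLineClosed_of_iso {Y Y' : Type*} {N : Set (Set Y)} {N' : Set (Set Y')} {e : Y ≃ Y'}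
    (he : IsIso N N' e) (h : ReflLineClosed N') : ReflLineClosed N := by
  intro x l₀ hl₀ hx hv
  have h1 : e '' l₀ ∈ N' := (he l₀).mp hl₀
  have h2 : e x ∉ e '' l₀ := by
    rintro ⟨y, hy, hyx⟩
    exact hx (e.injective hyx ▸ hy)
  have h3 : ∃ v' ∈ e '' l₀, ∃ u', Third N' (e x) v' u' := by
    obtain ⟨v, hvl, u, hu⟩ := hv
    exact ⟨e v, ⟨v, hvl, rfl⟩, e u, (third_iff_of_iso he _ _ _).mp hu⟩
  have h4 := h (e x) (e '' l₀) h1 h2 h3
  rw [he]
  have h5 : e '' {w | ∃ v ∈ l₀, Img N x v w} = {w' | ∃ v' ∈ e '' l₀, Img N' (e x) v' w'} := by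
    ext w'
    constructor
    · rintro ⟨w, ⟨v, hvl, hvw⟩, rfl⟩
      exact ⟨e v, ⟨v, hvl, rfl⟩, (img_iff_of_iso he _ _ _).mp hvw⟩
    · rintro ⟨_, ⟨v, hvl, rfl⟩, hvw⟩
      refine ⟨e.symm w', ⟨v, hvl, (img_iff_of_iso he _ _ _).mpr ?_⟩, by simp⟩
      rw [Equiv.apply_symm_apply]
      exact hvw
  rw [h5]
  exact h4

/-! ### the affine plane of order three -/

theorem third_affine_iff (a b c : Fin 2 → ZMod 3) :
    Third affinePlaneThree a b c ↔ a ≠ b ∧ c = -(a + b) := by
  constructor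
  · rintro ⟨hca, hcb, hab, v, w, -, hline⟩
    refine ⟨hab, ?_⟩
    have ha : a ∈ ({a, b, c} : Set (Fin 2 → ZMod 3)) := by simp
    have hb : b ∈ ({a, b, c} : Set (Fin 2 → ZMod 3)) := by simp
    have hc : c ∈ ({a, b, c} : Set (Fin 2 → ZMod 3)) := by simp
    rw [hline] at ha hb hc
    obtain ⟨t₁, rfl⟩ := ha
    obtain ⟨t₂, rfl⟩ := hb
    obtain ⟨t₃, rfl⟩ := hc
    have h12 : t₁ ≠ t₂ := fun h => hab (by rw [h])
    have h31 : t₃ ≠ t₁ := fun h => hca (by rw [h])
    have h32 : t₃ ≠ t₂ := fun h => hcb (by rw [h])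
    have key : ∀ (p q t₁ t₂ t₃ : ZMod 3), t₁ ≠ t₂ → t₃ ≠ t₁ → t₃ ≠ t₂ →
        p + t₃ * q = -((p + t₁ * q) + (p + t₂ * q)) := by decide
    funext i
    simp only [Pi.add_apply, Pi.smul_apply, Pi.neg_apply, smul_eq_mul]
    exact key _ _ _ _ _ h12 h31 h32
  · rintro ⟨hab, rfl⟩
    have k1 : ∀ p q : ZMod 3, -(p + q) = p → p = q := by decide
    have k2 : ∀ p q : ZMod 3, -(p + q) = q → p = q := by decide
    refine ⟨?_, ?_, hab, a, b - a, sub_ne_zero.mpr hab.symm, ?_⟩
    · intro h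
      apply hab
      funext i
      exact k1 _ _ (congrFun h i)
    · intro h
      apply hab
      funext i
      exact k2 _ _ (congrFun h i)
    · have k3 : ∀ s t : ZMod 3, s + 2 * (t - s) = -(s + t) := by decide
      have kc : ∀ c : ZMod 3, c = 0 ∨ c = 1 ∨ c = 2 := by decide
      ext w
      simp only [Set.mem_insert_iff, Set.mem_singleton_iff, Set.mem_ofPred_eq]
      constructor
      · rintro (rfl | rfl | rfl)
        · exact ⟨0, by simp⟩
        · exact ⟨1, by simp⟩
        · refine ⟨2, ?_⟩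
          funext i
          simp only [Pi.neg_apply, Pi.add_apply, Pi.smul_apply, Pi.sub_apply, smul_eq_mul]
          exact (k3 _ _).symm
      · rintro ⟨c, rfl⟩
        rcases kc c with rfl | rfl | rfl
        · exact Or.inl (by simp)
        · exact Or.inr (Or.inl (by simp))
        · refine Or.inr (Or.inr ?_)
          funext i
          simp only [Pi.neg_apply, Pi.add_apply, Pi.smul_apply, Pi.sub_apply, smul_eq_mul]
          exact k3 _ _

theorem img_affine_iff (x v w : Fin 2 → ZMod 3) :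
    Img affinePlaneThree x v w ↔ w = -(x + v) := by
  unfold Img
  by_cases hxv : x = v
  · subst hxv
    have h1 : ¬ ∃ u, Third affinePlaneThree x x u := by
      rintro ⟨u, hu⟩
      exact ((third_affine_iff _ _ _).mp hu).1 rfl
    have k : ∀ p : ZMod 3, -(p + p) = p := by decide
    have h2 : -(x + x) = x := by
      funext i
      exact k _
    rw [h2]
    constructor
    · rintro (h | ⟨-, h⟩)
      · exact absurd ⟨w, h⟩ h1
      · exact h
    · intro h
      exact Or.inr ⟨h1, h⟩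
  · have h1 : ∃ u, Third affinePlaneThree x v u :=
      ⟨-(x + v), (third_affine_iff _ _ _).mpr ⟨hxv, rfl⟩⟩
    constructor
    · rintro (h | ⟨h, -⟩)
      · exact ((third_affine_iff _ _ _).mp h).2
      · exact absurd h1 h
    · intro h
      exact Or.inl ((third_affine_iff _ _ _).mpr ⟨hxv, h⟩)

theorem reflLineClosed_affine : ReflLineClosed affinePlaneThree := by
  rintro x l₀ ⟨v₀, w₀, hw₀, rfl⟩ - -
  refine ⟨-(x + v₀), -w₀, neg_ne_zero.mpr hw₀, ?_⟩
  ext w
  simp only [Set.mem_ofPred_eq]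
  constructor
  · rintro ⟨v, ⟨c, rfl⟩, hvw⟩
    rw [img_affine_iff] at hvw
    refine ⟨c, ?_⟩
    rw [hvw]
    funext i
    simp only [Pi.neg_apply, Pi.add_apply, Pi.smul_apply, smul_eq_mul]
    ring
  · rintro ⟨c, rfl⟩
    refine ⟨v₀ + c • w₀, ⟨c, rfl⟩, ?_⟩
    rw [img_affine_iff]
    funext i
    simp only [Pi.neg_apply, Pi.add_apply, Pi.smul_apply, smul_eq_mul]
    ring

/-! ### the dual affine plane of order two -/

/-- decidable form of the third-point relation in the dual affine plane -/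
def dapThird (a b c : DualAffinePoint) : Prop :=
  c ≠ a ∧ c ≠ b ∧ a ≠ b ∧ ∃ i : Fin 4, i ∉ a.val ∧ i ∉ b.val ∧ i ∉ c.val

instance (a b c : DualAffinePoint) : Decidable (dapThird a b c) := by
  unfold dapThird
  infer_instance

set_option synthInstance.maxSize 1000 in
set_option synthInstance.maxHeartbeats 200000 in
set_option maxRecDepth 1000000 in
theorem dap_three : ∀ (i : Fin 4) (a b c s : DualAffinePoint), c ≠ a → c ≠ b → a ≠ b →
    i ∉ a.val → i ∉ b.val → i ∉ c.val → i ∉ s.val → s = a ∨ s = b ∨ s = c := by decide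

set_option synthInstance.maxSize 1000 in
set_option synthInstance.maxHeartbeats 200000 in
set_option maxRecDepth 1000000 in
theorem dap_refl : ∀ (x : DualAffinePoint) (i : Fin 4), i ∈ x.val → ∃ j : Fin 4,
    ∀ w : DualAffinePoint, j ∉ w.val ↔ ∃ v : DualAffinePoint, i ∉ v.val ∧
      (dapThird x v w ∨ ((¬ ∃ u, dapThird x v u) ∧ w = v)) := by decide

theorem third_dap_iff (a b c : DualAffinePoint) :
    Third dualAffinePlaneTwo a b c ↔ dapThird a b c := by
  constructor
  · rintro ⟨hca, hcb, hab, i, hi⟩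
    refine ⟨hca, hcb, hab, i, ?_, ?_, ?_⟩
    · have : a ∈ ({a, b, c} : Set DualAffinePoint) := by simp
      rw [hi] at this
      exact this
    · have : b ∈ ({a, b, c} : Set DualAffinePoint) := by simp
      rw [hi] at this
      exact this
    · have : c ∈ ({a, b, c} : Set DualAffinePoint) := by simp
      rw [hi] at this
      exact this
  · rintro ⟨hca, hcb, hab, i, hia, hib, hic⟩
    refine ⟨hca, hcb, hab, i, ?_⟩
    ext s
    simp only [Set.mem_insert_iff, Set.mem_singleton_iff, Set.mem_ofPred_eq]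
    constructor
    · rintro (rfl | rfl | rfl)
      · exact hia
      · exact hib
      · exact hic
    · intro his
      exact dap_three i a b c s hca hcb hab hia hib hic his

theorem reflLineClosed_dap : ReflLineClosed dualAffinePlaneTwo := by
  rintro x l₀ ⟨i, rfl⟩ hx -
  have hix : i ∈ x.val := by
    by_contra h
    exact hx h
  obtain ⟨j, hj⟩ := dap_refl x i hix
  refine ⟨j, ?_⟩
  ext w
  simp only [Set.mem_ofPred_eq]
  rw [hj w]
  unfold Img
  constructor
  · rintro ⟨v, hv, h⟩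
    refine ⟨v, hv, ?_⟩
    rcases h with h | ⟨h1, h2⟩
    · exact Or.inl ((third_dap_iff _ _ _).mp h)
    · refine Or.inr ⟨?_, h2⟩
      rintro ⟨u, hu⟩
      exact h1 ⟨u, (third_dap_iff _ _ _).mpr hu⟩
  · rintro ⟨v, hv, h⟩
    refine ⟨v, hv, ?_⟩
    rcases h with h | ⟨h1, h2⟩
    · exact Or.inl ((third_dap_iff _ _ _).mpr h)
    · refine Or.inr ⟨?_, h2⟩
      rintro ⟨u, hu⟩
      exact h1 ⟨u, (third_dap_iff _ _ _).mp hu⟩

end FSpaceModels

end Cfsg.Agent.Lib.Helper27
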