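import Cfsg.Agent.Lib.Helper27.FSpaceModels

set_option autoImplicit false

namespace Cfsg.Agent.Lib.Helper27

open Cfsg Cfsg.LineSystem

section FSpacePlane

variable {X : Type*}

theorem subset_span (L : Set (Set X)) (S : Set X) : S ⊆ span L S :=
  fun _ hx => Set.mem_sInter.mpr (fun _ hT => hT.1 hx)

theorem span_isSubspace (L : Set (Set X)) (S : Set X) : IsSubspace L (span L S) := by
  intro l hl x hx y hy hxy hxl hyl z hz
  unfold span
  rw [Set.mem_sInter]
  intro T hT
  exact hT.2 l hl x (Set.mem_sInter.mp hx T hT) y (Set.mem_sInter.mp hy T hT) hxy hxl hyl hz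

theorem third_restrict_iff {L : Set (Set X)} {π : Set X} (a b c : ↥π) :
    Third (restrict L π) a b c ↔ Third L (a : X) (b : X) (c : X) := by
  constructor
  · rintro ⟨hca, hcb, hab, l', hl', hl'π, hset⟩
    refine ⟨fun h => hca (Subtype.ext h), fun h => hcb (Subtype.ext h),
      fun h => hab (Subtype.ext h), ?_⟩
    have heq : l' = {(a : X), (b : X), (c : X)} := by
      ext z
      simp only [Set.mem_insert_iff, Set.mem_singleton_iff]
      constructor
      · intro hz
        have h1 : (⟨z, hl'π hz⟩ : ↥π) ∈ ({a, b, c} : Set ↥π) := by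
          rw [hset]
          exact hz
        simp only [Set.mem_insert_iff, Set.mem_singleton_iff] at h1
        rcases h1 with h1 | h1 | h1
        · exact Or.inl (congrArg Subtype.val h1)
        · exact Or.inr (Or.inl (congrArg Subtype.val h1))
        · exact Or.inr (Or.inr (congrArg Subtype.val h1))
      · have ha : a ∈ ({a, b, c} : Set ↥π) := by simp
        have hb : b ∈ ({a, b, c} : Set ↥π) := by simp
        have hc : c ∈ ({a, b, c} : Set ↥π) := by simp
        rw [hset] at ha hb hc
        rintro (rfl | rfl | rfl)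
        · exact ha
        · exact hb
        · exact hc
    rw [← heq]
    exact hl'
  · rintro ⟨hca, hcb, hab, hmem⟩
    refine ⟨fun h => hca (congrArg Subtype.val h), fun h => hcb (congrArg Subtype.val h),
      fun h => hab (congrArg Subtype.val h), {(a : X), (b : X), (c : X)}, hmem, ?_, ?_⟩
    · rintro z (rfl | rfl | rfl)
      · exact a.2
      · exact b.2
      · exact c.2
    · ext p
      simp only [Set.mem_insert_iff, Set.mem_singleton_iff, Set.mem_ofPred_eq, Subtype.ext_iff]

theorem exists_third_restrict_iff {L : Set (Set X)} {π : Set X} (hπ : IsSubspace L π) (a b : ↥π) :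
    (∃ u : ↥π, Third (restrict L π) a b u) ↔ ∃ u : X, Third L (a : X) (b : X) u := by
  constructor
  · rintro ⟨u, hu⟩
    exact ⟨u, (third_restrict_iff _ _ _).mp hu⟩
  · rintro ⟨u, hu⟩
    have hu' := hu
    obtain ⟨-, -, hab, hmem⟩ := hu'
    have hsub := hπ _ hmem a a.2 b b.2 hab (by simp) (by simp)
    have huπ : u ∈ π := hsub (by simp)
    exact ⟨⟨u, huπ⟩, (third_restrict_iff a b ⟨u, huπ⟩).mpr hu⟩

theorem img_restrict_iff {L : Set (Set X)} {π : Set X} (hπ : IsSubspace L π) (a b c : ↥π) :
    Img (restrict L π) a b c ↔ Img L (a : X) (b : X) (c : X) := by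
  unfold Img
  rw [third_restrict_iff, exists_third_restrict_iff hπ, Subtype.ext_iff]

theorem img_mem_of_mem {L : Set (Set X)} {π : Set X} (hπ : IsSubspace L π) {x v w : X}
    (hx : x ∈ π) (hv : v ∈ π) (h : Img L x v w) : w ∈ π := by
  rcases h with h | ⟨-, rfl⟩
  · obtain ⟨-, -, hxv, hmem⟩ := h
    exact hπ _ hmem x hx v hv hxv (by simp) (by simp) (by simp)
  · exact hv

theorem lineMap_image_mem {L : Set (Set X)} (hF : IsFischerSpace L) (x : X) {l : Set X}
    (hl : l ∈ L) : lineMap L x '' l ∈ L := by
  obtain ⟨hPL, h3, hplane⟩ := hF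
  by_cases hxl : x ∈ l
  · -- the line passes through the centre
    have hex : ∃ y ∈ l, x ≠ y := by
      obtain ⟨a, b, c, hab, hac, hbc, rfl⟩ := Set.ncard_eq_three.mp (h3 l hl)
      by_cases hxa : x = a
      · exact ⟨b, by simp, hxa ▸ hab⟩
      · exact ⟨a, by simp, hxa⟩
    obtain ⟨y, hyl, hxy⟩ := hex
    obtain ⟨z, hz, rfl⟩ := exists_third_of_mem h3 hl hxl hyl hxy
    rw [Set.image_insert_eq, Set.image_insert_eq, Set.image_singleton, lineMap_self,
      lineMap_eq_of_third hPL hz, lineMap_eq_of_third hPL hz.swap_right, Set.pair_comm z y]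
    exact hl
  · by_cases hcol : ∃ v ∈ l, ∃ u, Third L x v u
    · obtain ⟨v, hvl, u, hu⟩ := hcol
      have hm : ({x, v, u} : Set X) ∈ L := hu.2.2.2
      have hne : l ≠ {x, v, u} := by
        intro h
        apply hxl
        rw [h]
        simp
      have hmeet : (l ∩ {x, v, u}).Nonempty := ⟨v, hvl, by simp⟩
      have hπ := span_isSubspace L (l ∪ {x, v, u})
      have hlπ : l ⊆ span L (l ∪ {x, v, u}) :=
        fun z hz => subset_span L _ (Or.inl hz)
      have hxπ : x ∈ span L (l ∪ {x, v, u}) := subset_span L _ (Or.inr (by simp))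
      have hRC : ReflLineClosed (restrict L (span L (l ∪ {x, v, u}))) := by
        rcases hplane l hl _ hm hne hmeet with ⟨e, he⟩ | ⟨e, he⟩
        · exact reflLineClosed_of_iso he reflLineClosed_dap
        · exact reflLineClosed_of_iso he reflLineClosed_affine
      have hlr : {p : ↥(span L (l ∪ {x, v, u})) | (p : X) ∈ l} ∈
          restrict L (span L (l ∪ {x, v, u})) := ⟨l, hl, hlπ, rfl⟩
      have h1 := hRC ⟨x, hxπ⟩ _ hlr hxl ⟨⟨v, hlπ hvl⟩, hvl, ⟨u, img_mem_of_mem hπ hxπ (hlπ hvl)
        (Or.inl hu)⟩, (third_restrict_iff _ _ _).mpr hu⟩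
      obtain ⟨l', hl', hl'π, hset⟩ := h1
      have heq : lineMap L x '' l = l' := by
        ext w
        constructor
        · rintro ⟨v', hv'l, rfl⟩
          have himg : Img L x v' (lineMap L x v') := (lineMap_eq_iff hPL).mp rfl
          have hwπ := img_mem_of_mem hπ hxπ (hlπ hv'l) himg
          have h2 : (⟨lineMap L x v', hwπ⟩ : ↥(span L (l ∪ {x, v, u}))) ∈
              {w | ∃ v₀ ∈ {p : ↥(span L (l ∪ {x, v, u})) | (p : X) ∈ l},
                Img (restrict L (span L (l ∪ {x, v, u}))) ⟨x, hxπ⟩ v₀ w} :=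
            ⟨⟨v', hlπ hv'l⟩, hv'l, (img_restrict_iff hπ _ _ _).mpr himg⟩
          rw [hset] at h2
          exact h2
        · intro hw
          have h2 : (⟨w, hl'π hw⟩ : ↥(span L (l ∪ {x, v, u}))) ∈
              {p : ↥(span L (l ∪ {x, v, u})) | (p : X) ∈ l'} := hw
          rw [← hset] at h2
          obtain ⟨v', hv'l, himg⟩ := h2
          exact ⟨v', hv'l, (lineMap_eq_iff hPL).mpr ((img_restrict_iff hπ _ _ _).mp himg)⟩
      rw [heq]
      exact hl'
    · have heq : lineMap L x '' l = l := by
        ext w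
        constructor
        · rintro ⟨v, hvl, rfl⟩
          rw [lineMap_eq_self (fun h => hcol ⟨v, hvl, h⟩)]
          exact hvl
        · intro hw
          exact ⟨w, hw, lineMap_eq_self (fun h => hcol ⟨w, hw, h⟩)⟩
      rw [heq]
      exact hl

theorem reflPerm_isIso {L : Set (Set X)} (hF : IsFischerSpace L) (x : X) :
    IsIso L L (reflPerm L hF.1 x) := by
  intro l
  constructor
  · intro hl
    exact lineMap_image_mem hF x hl
  · intro h
    have h2 := lineMap_image_mem hF x h
    have e : lineMap L x '' (⇑(reflPerm L hF.1 x) '' l) = l := by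
      rw [coe_reflPerm, Set.image_image]
      have : (fun y => lineMap L x (lineMap L x y)) = id := by
        funext y
        exact lineMap_invol hF.1 x y
      rw [this, Set.image_id]
    rw [e] at h2
    exact h2

end FSpacePlane

end Cfsg.Agent.Lib.Helper27
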