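import Cfsg.Agent.Lib.Helper27.FischerS4

set_option autoImplicit false

namespace Cfsg.Agent.Lib.Helper27

open Cfsg

section HeisPart

variable {G : Type*} [Group G]

theorem cube_eq (g : G) : g ^ 3 = g * g * g := by rw [pow_succ, pow_two]

theorem heis_comm {x y : G} (hy : y ^ 3 = 1) (hxy : (x * y) ^ 3 = 1)
    (hxy' : (x * y⁻¹) ^ 3 = 1) : Commute x (y * x * y⁻¹) := by
  have h1 : x * y * x = y⁻¹ * x⁻¹ * y⁻¹ := by
    have e : (x * y) ^ 3 = x * y * x * (y * x * y) := by rw [cube_eq]; group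
    rw [e] at hxy
    rw [eq_inv_of_mul_eq_one_left hxy]
    group
  have h2 : x * y⁻¹ * x = y * x⁻¹ * y := by
    have e : (x * y⁻¹) ^ 3 = x * y⁻¹ * x * (y⁻¹ * x * y⁻¹) := by rw [cube_eq]; group
    rw [e] at hxy'
    rw [eq_inv_of_mul_eq_one_left hxy']
    group
  have h3 : y⁻¹ * y⁻¹ = y := by
    have hy' : y * (y * y) = 1 := by rw [← hy, cube_eq]; group
    have h4 := eq_inv_of_mul_eq_one_left hy'
    calc y⁻¹ * y⁻¹ = (y * y)⁻¹ := by group
      _ = y := h4.symm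
  have h3' : y * y = y⁻¹ := by
    have hy' : y * y * y = 1 := by rw [← hy, cube_eq]
    exact eq_inv_of_mul_eq_one_left hy'
  show x * (y * x * y⁻¹) = y * x * y⁻¹ * x
  calc x * (y * x * y⁻¹) = (x * y * x) * y⁻¹ := by group
    _ = y⁻¹ * x⁻¹ * y⁻¹ * y⁻¹ := by rw [h1]
    _ = y⁻¹ * x⁻¹ * (y⁻¹ * y⁻¹) := by group
    _ = y⁻¹ * x⁻¹ * y := by rw [h3]
    _ = (y * y) * x⁻¹ * y := by rw [h3']
    _ = y * (y * x⁻¹ * y) := by group
    _ = y * (x * y⁻¹ * x) := by rw [h2]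
    _ = y * x * y⁻¹ * x := by group

/-- data of a quotient of the group of order 54 -/
structure HeisData (a x y : G) : Prop where
  ha : a * a = 1
  hax : a * x * a⁻¹ = x⁻¹
  hay : a * y * a⁻¹ = y⁻¹
  hx3 : x ^ 3 = 1
  hy3 : y ^ 3 = 1
  hxy3 : (x * y) ^ 3 = 1
  hxy'3 : (x * y⁻¹) ^ 3 = 1
  hx1 : x ≠ 1
  hy1 : y ≠ 1
  hxy1 : x * y ≠ 1
  hxy : x ≠ y

namespace HeisData

variable {a x y : G} (h : HeisData a x y)

include h

theorem z_comm_x : Commute (x * y * x⁻¹ * y⁻¹) x := by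
  have h1 : Commute x (y * x * y⁻¹) := heis_comm h.hy3 h.hxy3 h.hxy'3
  have e : x * y * x⁻¹ * y⁻¹ = x * (y * x * y⁻¹)⁻¹ := by group
  rw [e]
  exact ((Commute.refl x).mul_right h1.inv_right).symm

theorem z_comm_y : Commute (x * y * x⁻¹ * y⁻¹) y := by
  have hyx : (y * x) ^ 3 = 1 := by
    have e : (y * x) ^ 3 = x⁻¹ * (x * y) ^ 3 * x := by rw [cube_eq, cube_eq]; group
    rw [e, h.hxy3]
    group
  have hyx' : (y * x⁻¹) ^ 3 = 1 := by
    have e : (y * x⁻¹) ^ 3 = ((x * y⁻¹) ^ 3)⁻¹ := by rw [cube_eq, cube_eq]; group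
    rw [e, h.hxy'3, inv_one]
  have h1 : Commute y (x * y * x⁻¹) := heis_comm h.hx3 hyx hyx'
  have e : x * y * x⁻¹ * y⁻¹ = (x * y * x⁻¹) * y⁻¹ := by group
  rw [e]
  exact (h1.mul_right (Commute.refl y).inv_right).symm

theorem z_comm_a : Commute (x * y * x⁻¹ * y⁻¹) a := by
  have hzx := h.z_comm_x
  have hzy := h.z_comm_y
  have h1 : a * (x * y * x⁻¹ * y⁻¹) * a⁻¹ = x⁻¹ * y⁻¹ * x * y := by
    have e : a * (x * y * x⁻¹ * y⁻¹) * a⁻¹ =
        (a * x * a⁻¹) * (a * y * a⁻¹) * (a * x * a⁻¹)⁻¹ * (a * y * a⁻¹)⁻¹ := by group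
    rw [e, h.hax, h.hay]
    group
  have h2 : x⁻¹ * y⁻¹ * x * y = x * y * x⁻¹ * y⁻¹ := by
    have e1 : x⁻¹ * y⁻¹ * x * y = y⁻¹ * (x⁻¹ * (x * y * x⁻¹ * y⁻¹) * x) * y := by group
    have e2 : x⁻¹ * (x * y * x⁻¹ * y⁻¹) * x = x * y * x⁻¹ * y⁻¹ := by
      rw [mul_assoc, hzx.eq, ← mul_assoc, inv_mul_cancel, one_mul]
    rw [e1, e2, mul_assoc, hzy.eq, ← mul_assoc, inv_mul_cancel, one_mul]
  rw [h2] at h1
  show x * y * x⁻¹ * y⁻¹ * a = a * (x * y * x⁻¹ * y⁻¹)
  calc x * y * x⁻¹ * y⁻¹ * a = a * (x * y * x⁻¹ * y⁻¹) * a⁻¹ * a := by rw [h1]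
    _ = a * (x * y * x⁻¹ * y⁻¹) := by group

/-- the elements commuting with `a`, `x` and `y` -/
def cen (a x y : G) : Subgroup G := Subgroup.centralizer {a, x, y}

omit h in
theorem mem_cen_iff {w : G} : w ∈ cen a x y ↔ Commute w a ∧ Commute w x ∧ Commute w y := by
  unfold cen
  rw [Subgroup.mem_centralizer_iff]
  constructor
  · intro hw
    refine ⟨?_, ?_, ?_⟩
    · exact (hw a (by simp)).symm
    · exact (hw x (by simp)).symm
    · exact (hw y (by simp)).symm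
  · rintro ⟨h1, h2, h3⟩ g hg
    rcases hg with rfl | rfl | rfl
    · exact h1.eq.symm
    · exact h2.eq.symm
    · exact h3.eq.symm

theorem z_mem_cen : x * y * x⁻¹ * y⁻¹ ∈ cen a x y :=
  mem_cen_iff.mpr ⟨h.z_comm_a, h.z_comm_x, h.z_comm_y⟩

theorem swap_one (n : ℕ) : ∃ w ∈ cen a x y, y * x ^ n = x ^ n * y * w := by
  induction n with
  | zero => exact ⟨1, Subgroup.one_mem _, by simp⟩
  | succ n ih =>
    obtain ⟨w, hw, hwe⟩ := ih
    have hz := h.z_mem_cen
    refine ⟨(x * y * x⁻¹ * y⁻¹)⁻¹ * w, Subgroup.mul_mem _ (Subgroup.inv_mem _ hz) hw, ?_⟩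
    obtain ⟨-, hwx, -⟩ := mem_cen_iff.mp hw
    obtain ⟨-, hzx, hzy⟩ := mem_cen_iff.mp hz
    have e1 : y * x = x * y * (x * y * x⁻¹ * y⁻¹)⁻¹ := by
      have : x * y * (x * y * x⁻¹ * y⁻¹)⁻¹ = (x * y * x⁻¹ * y⁻¹)⁻¹ * (x * y) := by
        have hc : Commute (x * y * x⁻¹ * y⁻¹) (x * y) := hzx.mul_right hzy
        exact hc.inv_left.eq.symm
      rw [this]
      group
    calc y * x ^ (n + 1) = (y * x ^ n) * x := by rw [pow_succ, mul_assoc]
      _ = x ^ n * y * w * x := by rw [hwe]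
      _ = x ^ n * (y * x) * w := by
          rw [mul_assoc (x ^ n * y) w x, hwx.eq]
          group
      _ = x ^ n * (x * y * (x * y * x⁻¹ * y⁻¹)⁻¹) * w := by rw [e1]
      _ = x ^ (n + 1) * y * ((x * y * x⁻¹ * y⁻¹)⁻¹ * w) := by
          rw [pow_succ]
          group

theorem swap_pow (m n : ℕ) : ∃ w ∈ cen a x y, y ^ m * x ^ n = x ^ n * y ^ m * w := by
  induction m with
  | zero => exact ⟨1, Subgroup.one_mem _, by simp⟩
  | succ m ih =>
    obtain ⟨w, hw, hwe⟩ := ih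
    obtain ⟨w', hw', hwe'⟩ := h.swap_one n
    refine ⟨w' * w, Subgroup.mul_mem _ hw' hw, ?_⟩
    obtain ⟨-, -, hwy⟩ := mem_cen_iff.mp hw'
    have hwym : Commute w' (y ^ m) := hwy.pow_right m
    calc y ^ (m + 1) * x ^ n = y * (y ^ m * x ^ n) := by rw [pow_succ', mul_assoc]
      _ = y * (x ^ n * y ^ m * w) := by rw [hwe]
      _ = (y * x ^ n) * y ^ m * w := by group
      _ = x ^ n * y * w' * y ^ m * w := by rw [hwe']
      _ = x ^ n * y * (w' * y ^ m) * w := by group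
      _ = x ^ n * y * (y ^ m * w') * w := by rw [hwym.eq]
      _ = x ^ n * y ^ (m + 1) * (w' * w) := by
          rw [pow_succ']
          group

/-- the conjugate of `a` by `k` -/
def conjA (a k : G) : G := k * a * k⁻¹

omit h in
theorem conjA_mul_cen {w : G} (k : G) (hw : w ∈ cen a x y) : conjA a (k * w) = conjA a k := by
  obtain ⟨hwa, -, -⟩ := mem_cen_iff.mp hw
  unfold conjA
  rw [mul_inv_rev, mul_assoc k w a, hwa.eq]
  group

omit h in
theorem conjA_conj (k k' : G) :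
    conjA a k * conjA a k' * (conjA a k)⁻¹ = conjA a (k * (a * (k⁻¹ * k') * a⁻¹)) := by
  unfold conjA
  group

theorem conj_a_pow (i j : ℕ) : a * (x ^ i * y ^ j) * a⁻¹ = (x⁻¹) ^ i * (y⁻¹) ^ j := by
  have e : a * (x ^ i * y ^ j) * a⁻¹ = (a * x * a⁻¹) ^ i * (a * y * a⁻¹) ^ j := by
    rw [conj_pow, conj_pow]
    group
  rw [e, h.hax, h.hay]

theorem inv_x : x⁻¹ = x ^ 2 := by
  have h1 : x ^ 2 * x = 1 := by rw [← pow_succ]; exact h.hx3
  exact (eq_inv_of_mul_eq_one_left h1).symm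

theorem inv_y : y⁻¹ = y ^ 2 := by
  have h1 : y ^ 2 * y = 1 := by rw [← pow_succ]; exact h.hy3
  exact (eq_inv_of_mul_eq_one_left h1).symm

/-- the point with natural-number coordinates -/
def pt (a x y : G) (i j : ℕ) : G := conjA a (x ^ i * y ^ j)

theorem pt_conj (i j i' j' : ℕ) :
    pt a x y i j * pt a x y i' j' * (pt a x y i j)⁻¹ = pt a x y (2 * i + 2 * i') (2 * j + 2 * j') := by
  unfold pt
  rw [conjA_conj]
  have e1 : a * ((x ^ i * y ^ j)⁻¹ * (x ^ i' * y ^ j')) * a⁻¹ =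
      (a * (x ^ i * y ^ j) * a⁻¹)⁻¹ * (a * (x ^ i' * y ^ j') * a⁻¹) := by group
  rw [e1, h.conj_a_pow, h.conj_a_pow]
  have e2 : ((x⁻¹) ^ i * (y⁻¹) ^ j)⁻¹ = y ^ j * x ^ i := by
    rw [mul_inv_rev, inv_pow, inv_pow, inv_inv, inv_inv]
  rw [e2, h.inv_x, h.inv_y, ← pow_mul, ← pow_mul]
  obtain ⟨w, hw, hwe⟩ := h.swap_pow (2 * j) (i + 2 * i')
  obtain ⟨-, -, hwy⟩ := mem_cen_iff.mp hw
  have hwy' : Commute w (y ^ (2 * j')) := hwy.pow_right _
  have e3 : x ^ i * y ^ j * (y ^ j * x ^ i * (x ^ (2 * i') * y ^ (2 * j'))) =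
      x ^ (2 * i + 2 * i') * y ^ (2 * j + 2 * j') * w := by
    calc x ^ i * y ^ j * (y ^ j * x ^ i * (x ^ (2 * i') * y ^ (2 * j')))
        = x ^ i * (y ^ (2 * j) * x ^ (i + 2 * i')) * y ^ (2 * j') := by
          rw [two_mul j, pow_add y j j, pow_add x i (2 * i')]
          group
      _ = x ^ i * (x ^ (i + 2 * i') * y ^ (2 * j) * w) * y ^ (2 * j') := by rw [hwe]
      _ = x ^ i * x ^ (i + 2 * i') * y ^ (2 * j) * (w * y ^ (2 * j')) := by group
      _ = x ^ i * x ^ (i + 2 * i') * y ^ (2 * j) * (y ^ (2 * j') * w) := by rw [hwy'.eq]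
      _ = x ^ (2 * i + 2 * i') * y ^ (2 * j + 2 * j') * w := by
          rw [← pow_add x, pow_add y (2 * j) (2 * j')]
          have : i + (i + 2 * i') = 2 * i + 2 * i' := by ring
          rw [this]
          group
  rw [e3, conjA_mul_cen _ hw]

theorem pt_mod (i j : ℕ) : pt a x y i j = pt a x y (i % 3) (j % 3) := by
  unfold pt
  rw [pow_eq_pow_mod i h.hx3, pow_eq_pow_mod j h.hy3]

/-- the point with coordinates modulo three -/
def ptZ (a x y : G) (u v : ZMod 3) : G := pt a x y u.val v.val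

theorem pt_eq_ptZ (i j : ℕ) : pt a x y i j = ptZ a x y (i : ZMod 3) (j : ZMod 3) := by
  unfold ptZ
  rw [ZMod.val_natCast, ZMod.val_natCast]
  exact h.pt_mod i j

theorem ptZ_conj (u v u' v' : ZMod 3) :
    ptZ a x y u v * ptZ a x y u' v' * (ptZ a x y u v)⁻¹ = ptZ a x y (-(u + u')) (-(v + v')) := by
  have key : ∀ s t : ZMod 3, ((2 * s.val + 2 * t.val : ℕ) : ZMod 3) = -(s + t) := by decide
  unfold ptZ
  rw [h.pt_conj, h.pt_eq_ptZ, key, key]
  rfl

theorem ptZ_x (u v : ZMod 3) : x * ptZ a x y u v * x⁻¹ = ptZ a x y (u + 1) v := by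
  have key : ∀ s : ZMod 3, ((s.val + 1 : ℕ) : ZMod 3) = s + 1 := by decide
  have key2 : ∀ s : ZMod 3, ((s.val : ℕ) : ZMod 3) = s := by decide
  have e : x * ptZ a x y u v * x⁻¹ = pt a x y (u.val + 1) v.val := by
    unfold ptZ pt conjA
    rw [pow_succ']
    group
  rw [e, h.pt_eq_ptZ, key, key2]

theorem ptZ_y (u v : ZMod 3) : y * ptZ a x y u v * y⁻¹ = ptZ a x y u (v + 1) := by
  have key : ∀ s : ZMod 3, ((s.val + 1 : ℕ) : ZMod 3) = s + 1 := by decide
  have key2 : ∀ s : ZMod 3, ((s.val : ℕ) : ZMod 3) = s := by decide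
  obtain ⟨w, hw, hwe⟩ := h.swap_one u.val
  obtain ⟨-, -, hwy⟩ := mem_cen_iff.mp hw
  have hwy' : Commute w (y ^ v.val) := hwy.pow_right _
  have e : y * ptZ a x y u v * y⁻¹ = pt a x y u.val (v.val + 1) := by
    have e1 : y * ptZ a x y u v * y⁻¹ = conjA a (y * (x ^ u.val * y ^ v.val)) := by
      unfold ptZ pt conjA
      group
    have e2 : y * (x ^ u.val * y ^ v.val) = x ^ u.val * y ^ (v.val + 1) * w := by
      calc y * (x ^ u.val * y ^ v.val) = (y * x ^ u.val) * y ^ v.val := by group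
        _ = x ^ u.val * y * w * y ^ v.val := by rw [hwe]
        _ = x ^ u.val * y * (w * y ^ v.val) := by group
        _ = x ^ u.val * y * (y ^ v.val * w) := by rw [hwy'.eq]
        _ = x ^ u.val * y ^ (v.val + 1) * w := by
            rw [pow_succ']
            group
    rw [e1, e2, conjA_mul_cen _ hw]
    rfl
  rw [e, h.pt_eq_ptZ, key, key2]

omit h in
theorem ptZ_zero : ptZ a x y 0 0 = a := by
  unfold ptZ pt conjA
  simp

theorem ptZ_shift_x (n : ℕ) {u v u' v' : ZMod 3} (he : ptZ a x y u v = ptZ a x y u' v') :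
    ptZ a x y (u + n) v = ptZ a x y (u' + n) v' := by
  induction n with
  | zero => simpa using he
  | succ n ih =>
    have h1 := h.ptZ_x (u + n) v
    have h2 := h.ptZ_x (u' + n) v'
    rw [ih, h2] at h1
    push_cast
    rw [← add_assoc, ← add_assoc]
    exact h1.symm

theorem ptZ_shift_y (n : ℕ) {u v u' v' : ZMod 3} (he : ptZ a x y u v = ptZ a x y u' v') :
    ptZ a x y u (v + n) = ptZ a x y u' (v' + n) := by
  induction n with
  | zero => simpa using he
  | succ n ih =>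
    have h1 := h.ptZ_y u (v + n)
    have h2 := h.ptZ_y u' (v' + n)
    rw [ih, h2] at h1
    push_cast
    rw [← add_assoc, ← add_assoc]
    exact h1.symm

omit h in
theorem conjA_eq_a_iff (k : G) : conjA a k = a ↔ a * k * a⁻¹ = k := by
  unfold conjA
  constructor
  · intro h1
    have : k * a = a * k := by
      calc k * a = k * a * k⁻¹ * k := by group
        _ = a * k := by rw [h1]
    rw [← this]
    group
  · intro h1
    have : a * k = k * a := by
      calc a * k = a * k * a⁻¹ * a := by group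
        _ = k * a := by rw [h1]
    rw [← this]
    group

theorem ptZ_ne_10 : ptZ a x y 1 0 ≠ a := by
  intro h1
  have e : ptZ a x y 1 0 = conjA a x := by
    unfold ptZ pt
    simp [ZMod.val_one]
  rw [e, conjA_eq_a_iff, h.hax] at h1
  apply h.hx1
  have h2 : x ^ 2 = 1 := by
    rw [pow_two]
    calc x * x = x⁻¹ * x := by rw [h1]
      _ = 1 := inv_mul_cancel x
  have h3 := h.hx3
  rw [pow_succ, h2, one_mul] at h3
  exact h3

theorem ptZ_ne_01 : ptZ a x y 0 1 ≠ a := by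
  intro h1
  have e : ptZ a x y 0 1 = conjA a y := by
    unfold ptZ pt
    simp [ZMod.val_one]
  rw [e, conjA_eq_a_iff, h.hay] at h1
  apply h.hy1
  have h2 : y ^ 2 = 1 := by
    rw [pow_two]
    calc y * y = y⁻¹ * y := by rw [h1]
      _ = 1 := inv_mul_cancel y
  have h3 := h.hy3
  rw [pow_succ, h2, one_mul] at h3
  exact h3

theorem ptZ_ne_11 : ptZ a x y 1 1 ≠ a := by
  intro h1
  have e : ptZ a x y 1 1 = conjA a (x * y) := by
    unfold ptZ pt
    simp [ZMod.val_one]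
  rw [e, conjA_eq_a_iff] at h1
  have e2 : a * (x * y) * a⁻¹ = (a * x * a⁻¹) * (a * y * a⁻¹) := by group
  rw [e2, h.hax, h.hay] at h1
  apply h.hxy1
  -- x⁻¹ y⁻¹ = x y
  have h2 : y⁻¹ * y⁻¹ = x * x := by
    calc y⁻¹ * y⁻¹ = x * (x⁻¹ * y⁻¹) * y⁻¹ := by group
      _ = x * (x * y) * y⁻¹ := by rw [h1]
      _ = x * x := by group
  have hx2 : x * x = x⁻¹ := by
    have := h.inv_x
    rw [pow_two] at this
    exact this.symm
  have hy2 : y⁻¹ * y⁻¹ = y := by
    have := h.inv_y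
    rw [pow_two] at this
    calc y⁻¹ * y⁻¹ = (y * y)⁻¹ := by group
      _ = y := by rw [← this, inv_inv]
  rw [hx2, hy2] at h2
  rw [h2]
  exact mul_inv_cancel x

theorem ptZ_ne_12 : ptZ a x y 1 2 ≠ a := by
  intro h1
  have e : ptZ a x y 1 2 = conjA a (x * y⁻¹) := by
    unfold ptZ pt
    have : (2 : ZMod 3).val = 2 := rfl
    rw [this, ZMod.val_one, pow_one, h.inv_y]
  rw [e, conjA_eq_a_iff] at h1
  have e2 : a * (x * y⁻¹) * a⁻¹ = (a * x * a⁻¹) * (a * y * a⁻¹)⁻¹ := by group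
  rw [e2, h.hax, h.hay, inv_inv] at h1
  apply h.hxy
  -- x⁻¹ y = x y⁻¹
  have h2 : y * y = x * x := by
    calc y * y = x * (x⁻¹ * y) * y := by group
      _ = x * (x * y⁻¹) * y := by rw [h1]
      _ = x * x := by group
  have hx2 : x * x = x⁻¹ := by
    have := h.inv_x
    rw [pow_two] at this
    exact this.symm
  have hy2 : y * y = y⁻¹ := by
    have := h.inv_y
    rw [pow_two] at this
    exact this.symm
  rw [hx2, hy2] at h2
  exact (inv_injective h2).symm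

theorem ptZ_neg {t s : ZMod 3} (h1 : ptZ a x y t s = a) : ptZ a x y (-t) (-s) = a := by
  have h2 := h.ptZ_conj 0 0 t s
  rw [ptZ_zero, h1, zero_add, zero_add] at h2
  rw [← h2]
  group

theorem ptZ_eq_a {t s : ZMod 3} (h1 : ptZ a x y t s = a) : t = 0 ∧ s = 0 := by
  have hc : ∀ t s : ZMod 3, (t = 0 ∧ s = 0) ∨ (t = 1 ∧ s = 0) ∨ (-t = 1 ∧ -s = 0) ∨
      (t = 0 ∧ s = 1) ∨ (-t = 0 ∧ -s = 1) ∨ (t = 1 ∧ s = 1) ∨ (-t = 1 ∧ -s = 1) ∨
      (t = 1 ∧ s = 2) ∨ (-t = 1 ∧ -s = 2) := by decide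
  have h2 := h.ptZ_neg h1
  rcases hc t s with h3 | ⟨rfl, rfl⟩ | ⟨h3, h4⟩ | ⟨rfl, rfl⟩ | ⟨h3, h4⟩ | ⟨rfl, rfl⟩ | ⟨h3, h4⟩ |
    ⟨rfl, rfl⟩ | ⟨h3, h4⟩
  · exact h3
  · exact absurd h1 h.ptZ_ne_10
  · rw [h3, h4] at h2; exact absurd h2 h.ptZ_ne_10
  · exact absurd h1 h.ptZ_ne_01
  · rw [h3, h4] at h2; exact absurd h2 h.ptZ_ne_01
  · exact absurd h1 h.ptZ_ne_11
  · rw [h3, h4] at h2; exact absurd h2 h.ptZ_ne_11
  · exact absurd h1 h.ptZ_ne_12
  · rw [h3, h4] at h2; exact absurd h2 h.ptZ_ne_12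

theorem ptZ_inj {u v u' v' : ZMod 3} (he : ptZ a x y u v = ptZ a x y u' v') :
    u = u' ∧ v = v' := by
  have h1 := h.ptZ_shift_x (-u).val he
  have h2 := h.ptZ_shift_y (-v).val h1
  have key : ∀ s : ZMod 3, s + ((-s).val : ℕ) = 0 := by decide
  rw [key, key, ptZ_zero] at h2
  obtain ⟨h3, h4⟩ := h.ptZ_eq_a h2.symm
  have key2 : ∀ s s' : ZMod 3, s' + ((-s).val : ℕ) = 0 → s = s' := by decide
  exact ⟨key2 u u' h3, key2 v v' h4⟩

end HeisData

end HeisPart

section AffinePart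

variable {G : Type*} [Group G]

theorem tt_comm_of_sq {D : Set G} (hD : IsThreeTranspositionSet D) {d e : G} (hd : d ∈ D)
    (he : e ∈ D) (h : (d * e) ^ 2 = 1) : Commute d e := by
  have hd2 := tt_sq hD hd
  have he2 := tt_sq hD he
  have h1 : d * e * (d * e) = 1 := by rw [← pow_two]; exact h
  have h2 : e * d = d * e := by
    calc e * d = e * d * (d * e * (d * e)) := by rw [h1, mul_one]
      _ = e * (d * d) * e * d * e := by group
      _ = e * e * d * e := by rw [hd2, mul_one]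
      _ = d * e := by rw [he2, one_mul]
  exact h2.symm

theorem fl_cube {D : Set G} (hD : IsThreeTranspositionSet D) {d e : G} (hd : d ∈ D)
    (he : e ∈ D) (hne : ¬ Commute d e) : (d * e) ^ 3 = 1 := by
  rcases hD.2 d hd e he with h | h
  · exact absurd (tt_comm_of_sq hD hd he h) hne
  · exact h

theorem heisData_of {D : Set G} (hD : IsThreeTranspositionSet D)
    (hconj : ∀ g : G, ∀ d ∈ D, g * d * g⁻¹ ∈ D) {a b c : G} (ha : a ∈ D) (hb : b ∈ D)
    (hc : c ∈ D) (hab : ¬ Commute a b) (hac : ¬ Commute a c) (hbc : ¬ Commute b c)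
    (h1 : ¬ Commute (a * b * a⁻¹) c) : HeisData a (a * b) (a * c) := by
  have ha2 := tt_sq hD ha
  have hai := tt_inv hD ha
  have hbi := tt_inv hD hb
  have hci := tt_inv hD hc
  have hu : a * b * a⁻¹ ∈ D := hconj a b hb
  refine ⟨ha2, ?_, ?_, fl_cube hD ha hb hab, fl_cube hD ha hc hac, ?_, ?_, ?_, ?_, ?_, ?_⟩
  · rw [mul_inv_rev, hbi, hai]
    calc a * (a * b) * a = (a * a) * b * a := by group
      _ = b * a := by rw [ha2, one_mul]
  · rw [mul_inv_rev, hci, hai]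
    calc a * (a * c) * a = (a * a) * c * a := by group
      _ = c * a := by rw [ha2, one_mul]
  · have e : a * b * (a * c) = (a * b * a⁻¹) * c := by rw [hai]; group
    rw [e]
    exact fl_cube hD hu hc h1
  · have e : a * b * (a * c)⁻¹ = a * (b * c) * a⁻¹ := by rw [mul_inv_rev, hci]; group
    rw [e, conj_pow, fl_cube hD hb hc hbc]
    group
  · intro h
    apply hab
    have : b = a := by
      have h2 : a * b = a * a := by rw [h, ha2]
      exact mul_left_cancel h2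
    rw [this]
  · intro h
    apply hac
    have : c = a := by
      have h2 : a * c = a * a := by rw [h, ha2]
      exact mul_left_cancel h2
    rw [this]
  · intro h
    apply h1
    have e : a * b * (a * c) = (a * b * a⁻¹) * c := by rw [hai]; group
    rw [e] at h
    have h2 : a * b * a⁻¹ = c := by
      have h3 : a * b * a⁻¹ = c⁻¹ := eq_inv_of_mul_eq_one_left h
      rw [h3, hci]
    rw [h2]
  · intro h
    apply hbc
    have : b = c := mul_left_cancel h
    rw [this]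

theorem affine_line_eq (w₁ w₂ : Fin 2 → ZMod 3) :
    {w : Fin 2 → ZMod 3 | w = w₁ ∨ w = w₂ ∨ w = -(w₂ + w₁)} =
      {x | ∃ c : ZMod 3, x = w₁ + c • (w₂ - w₁)} := by
  have k2 : ∀ s t : ZMod 3, s + 2 * (t - s) = -(t + s) := by decide
  have kc : ∀ c : ZMod 3, c = 0 ∨ c = 1 ∨ c = 2 := by decide
  ext w
  constructor
  · rintro (rfl | rfl | rfl)
    · exact ⟨0, by simp⟩
    · exact ⟨1, by simp⟩
    · refine ⟨2, ?_⟩
      funext i
      simp only [Pi.neg_apply, Pi.add_apply, Pi.smul_apply, Pi.sub_apply, smul_eq_mul]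
      exact (k2 _ _).symm
  · rintro ⟨c, rfl⟩
    rcases kc c with rfl | rfl | rfl
    · exact Or.inl (by simp)
    · exact Or.inr (Or.inl (by simp))
    · refine Or.inr (Or.inr ?_)
      funext i
      simp only [Pi.neg_apply, Pi.add_apply, Pi.smul_apply, Pi.sub_apply, smul_eq_mul]
      exact k2 _ _

theorem fischer_caseB {D : Set G} (hD : IsThreeTranspositionSet D)
    (hconj : ∀ g : G, ∀ d ∈ D, g * d * g⁻¹ ∈ D) (p b c : D)
    (hpb : ¬ Commute (p : G) (b : G)) (hpc : ¬ Commute (p : G) (c : G))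
    (hbc : ¬ Commute (b : G) (c : G))
    (h1 : ¬ Commute ((p : G) * b * (p : G)⁻¹) (c : G)) :
    LineSystem.Isomorphic
      (LineSystem.restrict (threeTranspositionLines D)
        (LineSystem.span (threeTranspositionLines D) (tline D p b ∪ tline D p c)))
      affinePlaneThree := by
  have H : HeisData (p : G) ((p : G) * b) ((p : G) * c) :=
    heisData_of hD hconj p.2 b.2 c.2 hpb hpc hbc h1
  have hp2 := tt_sq hD p.2
  have hpi := tt_inv hD p.2
  have hbi := tt_inv hD b.2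
  have hci := tt_inv hD c.2
  have hmemD : ∀ u v : ZMod 3, HeisData.ptZ (p : G) ((p : G) * b) ((p : G) * c) u v ∈ D := by
    intro u v
    exact hconj _ _ p.2
  have h00 : HeisData.ptZ (p : G) ((p : G) * b) ((p : G) * c) 0 0 = p := HeisData.ptZ_zero
  have h10 : HeisData.ptZ (p : G) ((p : G) * b) ((p : G) * c) 1 0 = b := by
    have e : HeisData.ptZ (p : G) ((p : G) * b) ((p : G) * c) 1 0 =
        (p : G) * b * p * ((p : G) * b)⁻¹ := by
      unfold HeisData.ptZ HeisData.pt HeisData.conjA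
      simp [ZMod.val_one]
    rw [e, mul_inv_rev, hbi, hpi]
    have hbr := fl_braid hD p.2 b.2 hpb
    calc (p : G) * b * p * ((b : G) * p) = p * ((b : G) * p * b) * p := by group
      _ = p * ((p : G) * b * p) * p := by rw [hbr]
      _ = ((p : G) * p) * b * ((p : G) * p) := by group
      _ = b := by rw [hp2, one_mul, mul_one]
  have h01 : HeisData.ptZ (p : G) ((p : G) * b) ((p : G) * c) 0 1 = c := by
    have e : HeisData.ptZ (p : G) ((p : G) * b) ((p : G) * c) 0 1 =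
        (p : G) * c * p * ((p : G) * c)⁻¹ := by
      unfold HeisData.ptZ HeisData.pt HeisData.conjA
      simp [ZMod.val_one]
    rw [e, mul_inv_rev, hci, hpi]
    have hbr := fl_braid hD p.2 c.2 hpc
    calc (p : G) * c * p * ((c : G) * p) = p * ((c : G) * p * c) * p := by group
      _ = p * ((p : G) * c * p) * p := by rw [hbr]
      _ = ((p : G) * p) * c * ((p : G) * p) := by group
      _ = c := by rw [hp2, one_mul, mul_one]
  have hm1 : (-(0 + 1) : ZMod 3) = 2 := by decide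
  have hm0 : (-(0 + 0) : ZMod 3) = 0 := by decide
  have h20 : HeisData.ptZ (p : G) ((p : G) * b) ((p : G) * c) 2 0 = (p : G) * b * (p : G)⁻¹ := by
    have := H.ptZ_conj 0 0 1 0
    rw [h00, h10, hm1, hm0] at this
    exact this.symm
  have h02 : HeisData.ptZ (p : G) ((p : G) * b) ((p : G) * c) 0 2 = (p : G) * c * (p : G)⁻¹ := by
    have := H.ptZ_conj 0 0 0 1
    rw [h00, h01, hm1, hm0] at this
    exact this.symm
  have hnc : ∀ u v u' v' : ZMod 3, ¬ (u = u' ∧ v = v') →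
      ¬ Commute (HeisData.ptZ (p : G) ((p : G) * b) ((p : G) * c) u v)
        (HeisData.ptZ (p : G) ((p : G) * b) ((p : G) * c) u' v') := by
    intro u v u' v' hne hcomm
    apply hne
    have h2 := H.ptZ_conj u v u' v'
    have h3 : HeisData.ptZ (p : G) ((p : G) * b) ((p : G) * c) u v *
        HeisData.ptZ (p : G) ((p : G) * b) ((p : G) * c) u' v' *
        (HeisData.ptZ (p : G) ((p : G) * b) ((p : G) * c) u v)⁻¹ =
        HeisData.ptZ (p : G) ((p : G) * b) ((p : G) * c) u' v' := by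
      rw [hcomm.eq]
      group
    rw [h3] at h2
    obtain ⟨h4, h5⟩ := H.ptZ_inj h2
    have key : ∀ s t : ZMod 3, t = -(s + t) → s = t := by decide
    exact ⟨key u u' h4, key v v' h5⟩
  set L := threeTranspositionLines D with hL
  set P : Set D := {z | ∃ u v : ZMod 3,
    (z : G) = HeisData.ptZ (p : G) ((p : G) * b) ((p : G) * c) u v} with hP
  have hPsub : LineSystem.IsSubspace L P := by
    intro l hl z₁ hz₁ z₂ hz₂ hne hz₁l hz₂l
    obtain ⟨-, rfl⟩ := line_eq_of_mem hD hconj hl hz₁l hz₂l hne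
    obtain ⟨u, v, huv⟩ := hz₁
    obtain ⟨u', v', huv'⟩ := hz₂
    rintro z (hz | hz | hz)
    · exact ⟨u, v, hz.trans huv⟩
    · exact ⟨u', v', hz.trans huv'⟩
    · refine ⟨-(u' + u), -(v' + v), ?_⟩
      rw [hz, huv, huv', H.ptZ_conj]
  have hspan : LineSystem.span L (tline D p b ∪ tline D p c) = P := by
    apply span_eq_of
    · rintro z (hz | hz)
      · rcases hz with hz | hz | hz
        · exact ⟨0, 0, hz.trans h00.symm⟩
        · exact ⟨1, 0, hz.trans h10.symm⟩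
        · refine ⟨2, 0, ?_⟩
          rw [hz, h20, fl_third_eq hD p.2 b.2 hpb]
      · rcases hz with hz | hz | hz
        · exact ⟨0, 0, hz.trans h00.symm⟩
        · exact ⟨0, 1, hz.trans h01.symm⟩
        · refine ⟨0, 2, ?_⟩
          rw [hz, h02, fl_third_eq hD p.2 c.2 hpc]
    · exact hPsub
    · intro T hT hTsub
      have hcl : ∀ u v u' v' : ZMod 3,
          (⟨_, hmemD u v⟩ : D) ∈ T → (⟨_, hmemD u' v'⟩ : D) ∈ T → ¬ (u = u' ∧ v = v') →
          (⟨_, hmemD (-(u + u')) (-(v + v'))⟩ : D) ∈ T := by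
        intro u v u' v' h1 h2 hne
        have hncp := hnc u v u' v' hne
        have hne2 : (⟨_, hmemD u v⟩ : D) ≠ ⟨_, hmemD u' v'⟩ := by
          intro h
          apply hne
          exact H.ptZ_inj (congrArg Subtype.val h)
        have hline := hTsub _ (tline_mem_lines (D := D) (x := ⟨_, hmemD u v⟩)
          (y := ⟨_, hmemD u' v'⟩) hncp) _ h1 _ h2 hne2 (left_mem_tline D _ _)
          (right_mem_tline D _ _)
        apply hline
        refine Or.inr (Or.inr ?_)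
        show HeisData.ptZ (p : G) ((p : G) * b) ((p : G) * c) (-(u + u')) (-(v + v')) = _
        rw [H.ptZ_conj, add_comm u' u, add_comm v' v]
      have q00 : (⟨_, hmemD 0 0⟩ : D) ∈ T := by
        have : (⟨_, hmemD 0 0⟩ : D) = p := Subtype.ext h00
        rw [this]
        exact hT (Or.inl (left_mem_tline D p b))
      have q10 : (⟨_, hmemD 1 0⟩ : D) ∈ T := by
        have : (⟨_, hmemD 1 0⟩ : D) = b := Subtype.ext h10
        rw [this]
        exact hT (Or.inl (right_mem_tline D p b))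
      have q01 : (⟨_, hmemD 0 1⟩ : D) ∈ T := by
        have : (⟨_, hmemD 0 1⟩ : D) = c := Subtype.ext h01
        rw [this]
        exact hT (Or.inr (right_mem_tline D p c))
      have q20 : (⟨_, hmemD 2 0⟩ : D) ∈ T := by
        apply hT
        refine Or.inl (Or.inr (Or.inr ?_))
        show HeisData.ptZ (p : G) ((p : G) * b) ((p : G) * c) 2 0 = _
        rw [h20, fl_third_eq hD p.2 b.2 hpb]
      have q02 : (⟨_, hmemD 0 2⟩ : D) ∈ T := by
        apply hT
        refine Or.inr (Or.inr (Or.inr ?_))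
        show HeisData.ptZ (p : G) ((p : G) * b) ((p : G) * c) 0 2 = _
        rw [h02, fl_third_eq hD p.2 c.2 hpc]
      have q22 : (⟨_, hmemD 2 2⟩ : D) ∈ T := hcl 1 0 0 1 q10 q01 (by decide)
      have q11 : (⟨_, hmemD 1 1⟩ : D) ∈ T := hcl 0 0 2 2 q00 q22 (by decide)
      have q21 : (⟨_, hmemD 2 1⟩ : D) ∈ T := hcl 1 0 0 2 q10 q02 (by decide)
      have q12 : (⟨_, hmemD 1 2⟩ : D) ∈ T := hcl 2 0 0 1 q20 q01 (by decide)
      rintro z ⟨u, v, huv⟩
      have hz : z = ⟨_, hmemD u v⟩ := Subtype.ext huv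
      rw [hz]
      fin_cases u <;> fin_cases v <;> assumption
  rw [hspan]
  have hfinj : Function.Injective (fun w : Fin 2 → ZMod 3 =>
      (⟨⟨_, hmemD (w 0) (w 1)⟩, ⟨w 0, w 1, rfl⟩⟩ : ↥P)) := by
    intro w w' hww'
    have h2 : HeisData.ptZ (p : G) ((p : G) * b) ((p : G) * c) (w 0) (w 1) =
        HeisData.ptZ (p : G) ((p : G) * b) ((p : G) * c) (w' 0) (w' 1) :=
      congrArg (fun z : ↥P => ((z : D) : G)) hww'
    obtain ⟨h3, h4⟩ := H.ptZ_inj h2
    funext i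
    fin_cases i
    · exact h3
    · exact h4
  have hfsurj : Function.Surjective (fun w : Fin 2 → ZMod 3 =>
      (⟨⟨_, hmemD (w 0) (w 1)⟩, ⟨w 0, w 1, rfl⟩⟩ : ↥P)) := by
    rintro ⟨z, u, v, huv⟩
    exact ⟨![u, v], Subtype.ext (Subtype.ext huv.symm)⟩
  have hmemline : ∀ (w₁ w₂ w : Fin 2 → ZMod 3),
      (⟨_, hmemD (w 0) (w 1)⟩ : D) ∈ tline D ⟨_, hmemD (w₁ 0) (w₁ 1)⟩ ⟨_, hmemD (w₂ 0) (w₂ 1)⟩ ↔
        (w = w₁ ∨ w = w₂ ∨ w = -(w₂ + w₁)) := by
    intro w₁ w₂ w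
    have hfun : ∀ w w' : Fin 2 → ZMod 3,
        HeisData.ptZ (p : G) ((p : G) * b) ((p : G) * c) (w 0) (w 1) =
          HeisData.ptZ (p : G) ((p : G) * b) ((p : G) * c) (w' 0) (w' 1) ↔ w = w' := by
      intro w w'
      constructor
      · intro h2
        obtain ⟨h3, h4⟩ := H.ptZ_inj h2
        funext i
        fin_cases i
        · exact h3
        · exact h4
      · rintro rfl
        rfl
    show (HeisData.ptZ (p : G) ((p : G) * b) ((p : G) * c) (w 0) (w 1) =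
        HeisData.ptZ (p : G) ((p : G) * b) ((p : G) * c) (w₁ 0) (w₁ 1) ∨
      HeisData.ptZ (p : G) ((p : G) * b) ((p : G) * c) (w 0) (w 1) =
        HeisData.ptZ (p : G) ((p : G) * b) ((p : G) * c) (w₂ 0) (w₂ 1) ∨
      HeisData.ptZ (p : G) ((p : G) * b) ((p : G) * c) (w 0) (w 1) =
        HeisData.ptZ (p : G) ((p : G) * b) ((p : G) * c) (w₂ 0) (w₂ 1) *
          HeisData.ptZ (p : G) ((p : G) * b) ((p : G) * c) (w₁ 0) (w₁ 1) *
          (HeisData.ptZ (p : G) ((p : G) * b) ((p : G) * c) (w₂ 0) (w₂ 1))⁻¹) ↔ _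
    rw [H.ptZ_conj, hfun, hfun]
    have e3 : HeisData.ptZ (p : G) ((p : G) * b) ((p : G) * c) (-(w₂ 0 + w₁ 0)) (-(w₂ 1 + w₁ 1)) =
        HeisData.ptZ (p : G) ((p : G) * b) ((p : G) * c) ((-(w₂ + w₁)) 0) ((-(w₂ + w₁)) 1) := rfl
    rw [e3, hfun]
  refine ⟨(Equiv.ofBijective _ ⟨hfinj, hfsurj⟩).symm, ?_⟩
  intro lam
  rw [Equiv.image_eq_preimage_symm, Equiv.symm_symm]
  constructor
  · rintro ⟨l', hl', hl'P, rfl⟩
    obtain ⟨z₁, z₂, hncz, rfl⟩ := hl'
    obtain ⟨u, v, huv⟩ := hl'P (left_mem_tline D z₁ z₂)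
    obtain ⟨u', v', huv'⟩ := hl'P (right_mem_tline D z₁ z₂)
    have hz₁ : z₁ = ⟨_, hmemD (![u, v] 0) (![u, v] 1)⟩ := Subtype.ext huv
    have hz₂ : z₂ = ⟨_, hmemD (![u', v'] 0) (![u', v'] 1)⟩ := Subtype.ext huv'
    have hwne : (![u, v] : Fin 2 → ZMod 3) ≠ ![u', v'] := by
      intro h
      apply hncz
      rw [hz₁, hz₂, h]
    refine ⟨![u, v], ![u', v'] - ![u, v], sub_ne_zero.mpr hwne.symm, ?_⟩
    rw [← affine_line_eq]
    ext w
    show (⟨_, hmemD (w 0) (w 1)⟩ : D) ∈ tline D z₁ z₂ ↔ _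
    rw [hz₁, hz₂]
    exact hmemline _ _ _
  · rintro ⟨v, w, hw, hlam⟩
    have hne : ¬ (v 0 = (v + w) 0 ∧ v 1 = (v + w) 1) := by
      rintro ⟨h2, h3⟩
      apply hw
      funext i
      fin_cases i
      · simpa using h2
      · simpa using h3
    have hncp := hnc (v 0) (v 1) ((v + w) 0) ((v + w) 1) hne
    refine ⟨tline D ⟨_, hmemD (v 0) (v 1)⟩ ⟨_, hmemD ((v + w) 0) ((v + w) 1)⟩,
      tline_mem_lines hncp, ?_, ?_⟩
    · rintro z (hz | hz | hz)
      · exact ⟨_, _, hz⟩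
      · exact ⟨_, _, hz⟩
      · refine ⟨-((v + w) 0 + v 0), -((v + w) 1 + v 1), ?_⟩
        rw [hz]
        exact H.ptZ_conj _ _ _ _
    · ext z
      obtain ⟨u, rfl⟩ := hfsurj z
      have h2 : (⟨⟨_, hmemD (u 0) (u 1)⟩, ⟨u 0, u 1, rfl⟩⟩ : ↥P) ∈ lam ↔
          u ∈ {x | ∃ c : ZMod 3, x = v + c • w} := by
        rw [← hlam]
        rfl
      rw [h2]
      have e : w = (v + w) - v := by simp
      rw [e, ← affine_line_eq, ← e]
      exact (hmemline v (v + w) u).symm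

end AffinePart

end Cfsg.Agent.Lib.Helper27
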