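import Cfsg.Agent.Lib.Helper27.TTrans
import Cfsg.Prelude.Def_FischerSpaces

set_option autoImplicit false

namespace Cfsg.Agent.Lib.Helper27

open Cfsg

section FischerLines

variable {G : Type*} [Group G]

theorem fl_braid {D : Set G} (hD : IsThreeTranspositionSet D) {d e : G} (hd : d ∈ D) (he : e ∈ D)
    (hne : ¬ Commute d e) : e * d * e = d * e * d := by
  have hd2 := tt_sq hD hd
  have he2 := tt_sq hD he
  rcases hD.2 d hd e he with h | h
  · exfalso
    apply hne
    have h1 : d * e * (d * e) = 1 := by rw [← pow_two]; exact h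
    show d * e = e * d
    calc d * e = d * e * (d * e) * (e * d) := by
          rw [mul_assoc (d * e) (d * e), mul_assoc d e (e * d), ← mul_assoc e e d, he2, one_mul,
            ← mul_assoc (d * e), mul_assoc d e d, mul_assoc d (e * d) d]
          rw [mul_assoc e d d, hd2, mul_one]
      _ = e * d := by rw [h1, one_mul]
  · have h1 : d * e * (d * e) * (d * e) = 1 := by
      rw [← h, pow_succ, pow_two]
    have h2 : d * e * d * (e * d * e) = 1 := by
      rw [← h1]; group
    have h3 : e * d * e * (e * d * e) = 1 := by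
      calc e * d * e * (e * d * e) = e * d * (e * e) * d * e := by group
        _ = e * (d * d) * e := by rw [he2]; group
        _ = 1 := by rw [hd2, mul_one, he2]
    have h4 : d * e * d = (e * d * e)⁻¹ := eq_inv_of_mul_eq_one_left h2
    have h5 : e * d * e = (e * d * e)⁻¹ := eq_inv_of_mul_eq_one_left h3
    rw [h5, ← h4]

/-- the element-level line through `x` and `y` -/
def gline (x y : G) : Set G := {z | z = x ∨ z = y ∨ z = y * x * y⁻¹}

theorem fl_third_eq {D : Set G} (hD : IsThreeTranspositionSet D) {x y : G} (hx : x ∈ D)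
    (hy : y ∈ D) (hne : ¬ Commute x y) : y * x * y⁻¹ = x * y * x⁻¹ := by
  rw [tt_inv hD hx, tt_inv hD hy]
  exact fl_braid hD hx hy hne

theorem fl_third_ne_left {x y : G} (hne : ¬ Commute x y) : y * x * y⁻¹ ≠ x := by
  intro h
  apply hne
  show x * y = y * x
  calc x * y = y * x * y⁻¹ * y := by rw [h]
    _ = y * x := by group

theorem fl_third_ne_right {x y : G} (hne : ¬ Commute x y) : y * x * y⁻¹ ≠ y := by
  intro h
  apply hne
  have h1 : x = y := by
    have : y * x = y * y := by
      calc y * x = y * x * y⁻¹ * y := by group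
        _ = y * y := by rw [h]
    exact mul_left_cancel this
  rw [h1]

theorem fl_nc_third_right {x y : G} (hne : ¬ Commute x y) : ¬ Commute y (y * x * y⁻¹) := by
  intro h
  apply hne
  have h1 : y * (y * x * y⁻¹) = y * x * y⁻¹ * y := h
  have h2 : y * x * y⁻¹ = x := by
    have : y * (y * x * y⁻¹) = y * x := by rw [h1]; group
    exact mul_left_cancel this
  exact absurd h2 (fl_third_ne_left hne)

theorem fl_nc_third_left {D : Set G} (hD : IsThreeTranspositionSet D) {x y : G} (hx : x ∈ D)
    (hy : y ∈ D) (hne : ¬ Commute x y) : ¬ Commute x (y * x * y⁻¹) := by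
  rw [fl_third_eq hD hx hy hne]
  exact fl_nc_third_right (fun h => hne h.symm)

theorem fl_conj_third {D : Set G} (hD : IsThreeTranspositionSet D) {x y : G} (hx : x ∈ D)
    (hy : y ∈ D) (hne : ¬ Commute x y) :
    (y * x * y⁻¹) * x * (y * x * y⁻¹)⁻¹ = y := by
  have h1 := fl_braid hD hx hy hne
  have hx2 := tt_sq hD hx
  have hy2 := tt_sq hD hy
  rw [tt_inv hD hy]
  have e : (y * x * y)⁻¹ = y * x * y := by
    rw [mul_inv_rev, mul_inv_rev, tt_inv hD hy, tt_inv hD hx, mul_assoc]
  rw [e]
  calc y * x * y * x * (y * x * y) = y * x * y * x * (x * y * x) := by rw [h1]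
    _ = y * x * y * (x * x) * y * x := by group
    _ = y * x * (y * y) * x := by rw [hx2]; group
    _ = y := by rw [hy2, mul_one, mul_assoc, hx2, mul_one]

theorem gline_comm {D : Set G} (hD : IsThreeTranspositionSet D) {x y : G} (hx : x ∈ D)
    (hy : y ∈ D) (hne : ¬ Commute x y) : gline x y = gline y x := by
  ext z
  unfold gline
  simp only [Set.mem_ofPred_eq]
  rw [fl_third_eq hD hx hy hne]
  tauto

/-- the line through `x` and the third point of the line through `x` and `y` -/
theorem gline_third {D : Set G} (hD : IsThreeTranspositionSet D) {x y : G} (hx : x ∈ D)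
    (hy : y ∈ D) (hne : ¬ Commute x y) : gline x (y * x * y⁻¹) = gline x y := by
  ext z
  unfold gline
  simp only [Set.mem_ofPred_eq]
  rw [fl_conj_third hD hx hy hne]
  tauto

theorem gline_eq_of_mem {D : Set G} (hD : IsThreeTranspositionSet D)
    (hconj : ∀ g : G, ∀ d ∈ D, g * d * g⁻¹ ∈ D) {x y : G} (hx : x ∈ D)
    (hy : y ∈ D) (hne : ¬ Commute x y) {p q : G} (hp : p ∈ gline x y) (hq : q ∈ gline x y)
    (hpq : p ≠ q) : ¬ Commute p q ∧ gline p q = gline x y := by
  have ht : y * x * y⁻¹ ∈ D := hconj y x hx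
  have hne' : ¬ Commute y x := fun h => hne h.symm
  rcases hp with rfl | rfl | rfl <;> rcases hq with rfl | rfl | rfl
  · exact absurd rfl hpq
  · exact ⟨hne, rfl⟩
  · exact ⟨fl_nc_third_left hD hx hy hne, gline_third hD hx hy hne⟩
  · exact ⟨hne', (gline_comm hD hx hy hne).symm⟩
  · exact absurd rfl hpq
  · refine ⟨fl_nc_third_right hne, ?_⟩
    rw [fl_third_eq hD hx hy hne, gline_third hD hy hx hne', gline_comm hD hx hy hne]
  · refine ⟨fun h => fl_nc_third_left hD hx hy hne h.symm, ?_⟩
    rw [gline_comm hD ht hx (fun h => fl_nc_third_left hD hx hy hne h.symm),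
      gline_third hD hx hy hne]
  · refine ⟨fun h => fl_nc_third_right hne h.symm, ?_⟩
    rw [gline_comm hD ht hy (fun h => fl_nc_third_right hne h.symm),
      fl_third_eq hD hx hy hne, gline_third hD hy hx hne', gline_comm hD hx hy hne]
  · exact absurd rfl hpq

/-- the line through two points, as a set of points -/
def tline (D : Set G) (x y : D) : Set D := {z : D | (z : G) ∈ gline (x : G) (y : G)}

theorem lines_eq (D : Set G) :
    threeTranspositionLines D = {l | ∃ x y : D, ¬ Commute (x : G) (y : G) ∧ l = tline D x y} := rfl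

theorem tline_eq_of_mem {D : Set G} (hD : IsThreeTranspositionSet D)
    (hconj : ∀ g : G, ∀ d ∈ D, g * d * g⁻¹ ∈ D) {x y : D} (hne : ¬ Commute (x : G) (y : G))
    {p q : D} (hp : p ∈ tline D x y) (hq : q ∈ tline D x y) (hpq : p ≠ q) :
    ¬ Commute (p : G) (q : G) ∧ tline D p q = tline D x y := by
  have hpq' : (p : G) ≠ (q : G) := fun h => hpq (Subtype.ext h)
  obtain ⟨h1, h2⟩ := gline_eq_of_mem hD hconj x.2 y.2 hne hp hq hpq'
  refine ⟨h1, ?_⟩
  unfold tline
  rw [h2]

theorem line_eq_of_mem {D : Set G} (hD : IsThreeTranspositionSet D)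
    (hconj : ∀ g : G, ∀ d ∈ D, g * d * g⁻¹ ∈ D) {l : Set D} (hl : l ∈ threeTranspositionLines D)
    {p q : D} (hp : p ∈ l) (hq : q ∈ l) (hpq : p ≠ q) :
    ¬ Commute (p : G) (q : G) ∧ l = tline D p q := by
  obtain ⟨x, y, hne, rfl⟩ := hl
  obtain ⟨h1, h2⟩ := tline_eq_of_mem hD hconj hne hp hq hpq
  exact ⟨h1, h2.symm⟩

theorem tline_mem_lines {D : Set G} {x y : D} (hne : ¬ Commute (x : G) (y : G)) :
    tline D x y ∈ threeTranspositionLines D := ⟨x, y, hne, rfl⟩

theorem left_mem_tline (D : Set G) (x y : D) : x ∈ tline D x y := Or.inl rfl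

theorem right_mem_tline (D : Set G) (x y : D) : y ∈ tline D x y := Or.inr (Or.inl rfl)

theorem lines_partialLinear {D : Set G} (hD : IsThreeTranspositionSet D)
    (hconj : ∀ g : G, ∀ d ∈ D, g * d * g⁻¹ ∈ D) :
    LineSystem.IsPartialLinear (threeTranspositionLines D) := by
  intro l hl m hm x y hxy hxl hyl hxm hym
  rw [(line_eq_of_mem hD hconj hl hxl hyl hxy).2, (line_eq_of_mem hD hconj hm hxm hym hxy).2]

theorem lines_ncard {D : Set G}
    (hconj : ∀ g : G, ∀ d ∈ D, g * d * g⁻¹ ∈ D) :
    ∀ l ∈ threeTranspositionLines D, l.ncard = 3 := by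
  rintro l ⟨x, y, hne, rfl⟩
  rw [Set.ncard_eq_three]
  refine ⟨x, y, ⟨(y : G) * x * (y : G)⁻¹, hconj y x x.2⟩, ?_, ?_, ?_, ?_⟩
  · intro h
    apply hne
    rw [h]
  · intro h
    exact fl_third_ne_left hne (congrArg Subtype.val h).symm
  · intro h
    exact fl_third_ne_right hne (congrArg Subtype.val h).symm
  · ext z
    simp only [Set.mem_insert_iff, Set.mem_singleton_iff]
    constructor
    · rintro (h | h | h)
      · exact Or.inl (Subtype.ext h)
      · exact Or.inr (Or.inl (Subtype.ext h))
      · exact Or.inr (Or.inr (Subtype.ext h))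
    · rintro (h | h | h)
      · exact Or.inl (congrArg Subtype.val h)
      · exact Or.inr (Or.inl (congrArg Subtype.val h))
      · exact Or.inr (Or.inr (congrArg Subtype.val h))

end FischerLines

end Cfsg.Agent.Lib.Helper27
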