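import Cfsg.Agent.Lib.Helper27.FischerLines

set_option autoImplicit false

namespace Cfsg.Agent.Lib.Helper27

open Cfsg

section FischerS4

/-- the transposition attached to a two-element subset of a four-element set -/
def dapTau (s : DualAffinePoint) : Equiv.Perm (Fin 4) :=
  if s.val = {0, 1} then Equiv.swap 0 1 else if s.val = {0, 2} then Equiv.swap 0 2
  else if s.val = {0, 3} then Equiv.swap 0 3 else if s.val = {1, 2} then Equiv.swap 1 2
  else if s.val = {1, 3} then Equiv.swap 1 3 else Equiv.swap 2 3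

set_option maxRecDepth 100000 in
theorem dapTau_inj : ∀ s t : DualAffinePoint, dapTau s = dapTau t → s = t := by decide

set_option maxRecDepth 100000 in
theorem dapTau_conj01 : ∀ s : DualAffinePoint,
    ∃ g : Equiv.Perm (Fin 4), dapTau s = g * Equiv.swap 0 1 * g⁻¹ := by decide

set_option maxRecDepth 100000 in
theorem dapTau_conj : ∀ s t : DualAffinePoint, dapTau s * dapTau t ≠ dapTau t * dapTau s →
    ∃ r : DualAffinePoint, dapTau t * dapTau s * (dapTau t)⁻¹ = dapTau r ∧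
      ∃ i : Fin 4, ∀ u : DualAffinePoint, i ∉ u.val ↔ (u = s ∨ u = t ∨ u = r) := by decide

set_option maxRecDepth 100000 in
theorem dapTau_line : ∀ i : Fin 4, ∃ s t r : DualAffinePoint,
    dapTau s * dapTau t ≠ dapTau t * dapTau s ∧
    dapTau t * dapTau s * (dapTau t)⁻¹ = dapTau r ∧
      ∀ u : DualAffinePoint, i ∉ u.val ↔ (u = s ∨ u = t ∨ u = r) := by decide

set_option maxRecDepth 100000 in
theorem dapTau_six : ∀ s : DualAffinePoint,
    dapTau s = Equiv.swap 0 1 ∨ dapTau s = Equiv.swap 1 2 ∨ dapTau s = Equiv.swap 2 3 ∨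
    dapTau s = Equiv.swap 1 2 * Equiv.swap 0 1 * (Equiv.swap 1 2)⁻¹ ∨
    dapTau s = Equiv.swap 1 2 * Equiv.swap 2 3 * (Equiv.swap 1 2)⁻¹ ∨
    dapTau s = (Equiv.swap 1 2 * Equiv.swap 0 1 * (Equiv.swap 1 2)⁻¹) * Equiv.swap 2 3 *
      (Equiv.swap 1 2 * Equiv.swap 0 1 * (Equiv.swap 1 2)⁻¹)⁻¹ := by decide

theorem s4_tau02 : Equiv.swap (1 : Fin 4) 2 * Equiv.swap 0 1 * (Equiv.swap 1 2)⁻¹ =
    dapTau ⟨{0, 2}, by decide⟩ := by decide

theorem s4_tau13 : Equiv.swap (1 : Fin 4) 2 * Equiv.swap 2 3 * (Equiv.swap 1 2)⁻¹ =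
    dapTau ⟨{1, 3}, by decide⟩ := by decide

theorem s4_nc_02_23 : (Equiv.swap (1 : Fin 4) 2 * Equiv.swap 0 1 * (Equiv.swap 1 2)⁻¹) * Equiv.swap 2 3 ≠
    Equiv.swap 2 3 * (Equiv.swap (1 : Fin 4) 2 * Equiv.swap 0 1 * (Equiv.swap 1 2)⁻¹) := by decide

variable {G : Type*} [Group G]

theorem span_eq_of {X : Type*} (L : Set (Set X)) (S P : Set X) (h1 : S ⊆ P)
    (h2 : LineSystem.IsSubspace L P)
    (h3 : ∀ T : Set X, S ⊆ T → LineSystem.IsSubspace L T → P ⊆ T) :
    LineSystem.span L S = P := by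
  apply Set.Subset.antisymm
  · exact Set.sInter_subset_of_mem ⟨h1, h2⟩
  · apply Set.subset_sInter
    rintro T ⟨hT1, hT2⟩
    exact h3 T hT1 hT2

theorem fischer_caseA {D : Set G} (hD : IsThreeTranspositionSet D)
    (hconj : ∀ g : G, ∀ d ∈ D, g * d * g⁻¹ ∈ D) (p b c : D)
    (hpb : ¬ Commute (p : G) (b : G)) (hpc : ¬ Commute (p : G) (c : G))
    (hbc : Commute (b : G) (c : G)) (hne : b ≠ c) :
    LineSystem.Isomorphic
      (LineSystem.restrict (threeTranspositionLines D)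
        (LineSystem.span (threeTranspositionLines D) (tline D p b ∪ tline D p c)))
      dualAffinePlaneTwo := by
  have hne' : (b : G) ≠ (c : G) := fun h => hne (Subtype.ext h)
  obtain ⟨φ, hφinj, hφb, hφp, hφc⟩ := Cfsg.Agent.S5344.result hD b.2 p.2 c.2 hne' hbc
    (fun h => hpb h.symm) hpc
  have hmemD : ∀ s : DualAffinePoint, φ (dapTau s) ∈ D := by
    intro s
    obtain ⟨g, hg⟩ := dapTau_conj01 s
    rw [hg, map_mul, map_mul, map_inv, hφb]
    exact hconj _ _ b.2
  have hncφ : ∀ s t : DualAffinePoint, ¬ Commute (φ (dapTau s)) (φ (dapTau t)) →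
      dapTau s * dapTau t ≠ dapTau t * dapTau s := by
    intro s t h h'
    apply h
    show φ (dapTau s) * φ (dapTau t) = φ (dapTau t) * φ (dapTau s)
    rw [← map_mul, ← map_mul, h']
  have hncφ' : ∀ s t : DualAffinePoint, dapTau s * dapTau t ≠ dapTau t * dapTau s →
      ¬ Commute (φ (dapTau s)) (φ (dapTau t)) := by
    intro s t h h'
    apply h
    apply hφinj
    rw [map_mul, map_mul]
    exact h'
  set L := threeTranspositionLines D with hL
  set P : Set D := {z | ∃ s : DualAffinePoint, (z : G) = φ (dapTau s)} with hP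
  have hPsub : LineSystem.IsSubspace L P := by
    intro l hl x hx y hy hxy hxl hyl
    obtain ⟨hnc, rfl⟩ := line_eq_of_mem hD hconj hl hxl hyl hxy
    obtain ⟨s, hs⟩ := hx
    obtain ⟨t, ht⟩ := hy
    rw [hs, ht] at hnc
    obtain ⟨r, hr, -⟩ := dapTau_conj s t (hncφ s t hnc)
    rintro z (hz | hz | hz)
    · exact ⟨s, hz.trans hs⟩
    · exact ⟨t, hz.trans ht⟩
    · refine ⟨r, ?_⟩
      rw [hz, hs, ht, ← hr, map_mul, map_mul, map_inv]
  have hspan : LineSystem.span L (tline D p b ∪ tline D p c) = P := by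
    apply span_eq_of
    · rintro z (hz | hz)
      · rcases hz with hz | hz | hz
        · exact ⟨⟨{1, 2}, by decide⟩, by rw [hz, ← hφp]; rfl⟩
        · exact ⟨⟨{0, 1}, by decide⟩, by rw [hz, ← hφb]; rfl⟩
        · refine ⟨⟨{0, 2}, by decide⟩, ?_⟩
          rw [hz, fl_third_eq hD p.2 b.2 hpb, ← hφp, ← hφb, ← map_inv, ← map_mul, ← map_mul,
            s4_tau02]
      · rcases hz with hz | hz | hz
        · exact ⟨⟨{1, 2}, by decide⟩, by rw [hz, ← hφp]; rfl⟩
        · exact ⟨⟨{2, 3}, by decide⟩, by rw [hz, ← hφc]; rfl⟩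
        · refine ⟨⟨{1, 3}, by decide⟩, ?_⟩
          rw [hz, fl_third_eq hD p.2 c.2 hpc, ← hφp, ← hφc, ← map_inv, ← map_mul, ← map_mul,
            s4_tau13]
    · exact hPsub
    · intro T hT hTsub
      have hpT : p ∈ T := hT (Or.inl (left_mem_tline D p b))
      have hbT : b ∈ T := hT (Or.inl (right_mem_tline D p b))
      have hcT : c ∈ T := hT (Or.inr (right_mem_tline D p c))
      have hu : (p : G) * b * (p : G)⁻¹ ∈ D := hconj _ _ b.2
      have hv : (p : G) * c * (p : G)⁻¹ ∈ D := hconj _ _ c.2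
      have huT : (⟨(p : G) * b * (p : G)⁻¹, hu⟩ : D) ∈ T := by
        apply hT
        refine Or.inl (Or.inr (Or.inr ?_))
        exact (fl_third_eq hD p.2 b.2 hpb).symm
      have hvT : (⟨(p : G) * c * (p : G)⁻¹, hv⟩ : D) ∈ T := by
        apply hT
        refine Or.inr (Or.inr (Or.inr ?_))
        exact (fl_third_eq hD p.2 c.2 hpc).symm
      have hueq : (p : G) * b * (p : G)⁻¹ =
          φ (Equiv.swap 1 2 * Equiv.swap 0 1 * (Equiv.swap 1 2)⁻¹) := by
        rw [map_mul, map_mul, map_inv, hφp, hφb]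
      have hnc : ¬ Commute ((p : G) * b * (p : G)⁻¹) (c : G) := by
        intro h
        apply s4_nc_02_23
        apply hφinj
        rw [map_mul φ (Equiv.swap 1 2 * Equiv.swap 0 1 * (Equiv.swap 1 2)⁻¹) (Equiv.swap 2 3),
          map_mul φ (Equiv.swap 2 3) (Equiv.swap 1 2 * Equiv.swap 0 1 * (Equiv.swap 1 2)⁻¹),
          ← hueq, hφc]
        exact h
      have hne2 : (⟨(p : G) * b * (p : G)⁻¹, hu⟩ : D) ≠ c := by
        intro h
        apply hnc
        have : (p : G) * b * (p : G)⁻¹ = c := congrArg Subtype.val h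
        rw [this]
      have hline : tline D ⟨(p : G) * b * (p : G)⁻¹, hu⟩ c ⊆ T :=
        hTsub _ (tline_mem_lines (D := D) (x := ⟨(p : G) * b * (p : G)⁻¹, hu⟩) (y := c) hnc)
          _ huT _ hcT hne2 (left_mem_tline D _ _) (right_mem_tline D _ _)
      rintro z ⟨s, hs⟩
      rcases dapTau_six s with h | h | h | h | h | h
      · have : z = b := Subtype.ext (by rw [hs, h, hφb])
        rw [this]; exact hbT
      · have : z = p := Subtype.ext (by rw [hs, h, hφp])
        rw [this]; exact hpT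
      · have : z = c := Subtype.ext (by rw [hs, h, hφc])
        rw [this]; exact hcT
      · have : z = ⟨(p : G) * b * (p : G)⁻¹, hu⟩ := by
          apply Subtype.ext
          show (z : G) = (p : G) * b * (p : G)⁻¹
          rw [hs, h]
          exact hueq.symm
        rw [this]; exact huT
      · have : z = ⟨(p : G) * c * (p : G)⁻¹, hv⟩ := by
          apply Subtype.ext
          show (z : G) = (p : G) * c * (p : G)⁻¹
          rw [hs, h, map_mul, map_mul, map_inv, hφp, hφc]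
        rw [this]; exact hvT
      · apply hline
        refine Or.inr (Or.inr ?_)
        rw [hs, h, fl_third_eq hD hu c.2 hnc, map_mul, map_mul, map_inv, ← hueq, hφc]
  rw [hspan]
  have hfinj : Function.Injective (fun s : DualAffinePoint =>
      (⟨⟨φ (dapTau s), hmemD s⟩, ⟨s, rfl⟩⟩ : ↥P)) := by
    intro s t hst
    have h1 : φ (dapTau s) = φ (dapTau t) := congrArg (fun z : ↥P => ((z : D) : G)) hst
    exact dapTau_inj s t (hφinj h1)
  have hfsurj : Function.Surjective (fun s : DualAffinePoint =>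
      (⟨⟨φ (dapTau s), hmemD s⟩, ⟨s, rfl⟩⟩ : ↥P)) := by
    rintro ⟨z, s, hs⟩
    exact ⟨s, Subtype.ext (Subtype.ext hs.symm)⟩
  refine ⟨(Equiv.ofBijective _ ⟨hfinj, hfsurj⟩).symm, ?_⟩
  intro lam
  rw [Equiv.image_eq_preimage_symm, Equiv.symm_symm]
  constructor
  · rintro ⟨l', hl', hl'P, rfl⟩
    obtain ⟨x, y, hnc, rfl⟩ := hl'
    obtain ⟨s, hs⟩ := hl'P (left_mem_tline D x y)
    obtain ⟨t, ht⟩ := hl'P (right_mem_tline D x y)
    have hnc' := hnc
    rw [hs, ht] at hnc'
    obtain ⟨r, hr, i, hi⟩ := dapTau_conj s t (hncφ s t hnc')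
    refine ⟨i, ?_⟩
    ext u
    rw [Set.mem_ofPred_eq, hi u]
    show (φ (dapTau u) = x ∨ φ (dapTau u) = y ∨ φ (dapTau u) = (y : G) * x * (y : G)⁻¹) ↔ _
    rw [hs, ht, ← map_inv, ← map_mul, ← map_mul, hr]
    constructor
    · rintro (h | h | h)
      · exact Or.inl (dapTau_inj _ _ (hφinj h))
      · exact Or.inr (Or.inl (dapTau_inj _ _ (hφinj h)))
      · exact Or.inr (Or.inr (dapTau_inj _ _ (hφinj h)))
    · rintro (h | h | h)
      · exact Or.inl (by rw [h])
      · exact Or.inr (Or.inl (by rw [h]))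
      · exact Or.inr (Or.inr (by rw [h]))
  · rintro ⟨i, hi⟩
    obtain ⟨s, t, r, hnc, hr, hu⟩ := dapTau_line i
    have hnc' := hncφ' s t hnc
    refine ⟨tline D ⟨φ (dapTau s), hmemD s⟩ ⟨φ (dapTau t), hmemD t⟩, tline_mem_lines hnc', ?_, ?_⟩
    · rintro z (hz | hz | hz)
      · exact ⟨s, hz⟩
      · exact ⟨t, hz⟩
      · refine ⟨r, ?_⟩
        rw [hz, ← hr, map_mul, map_mul, map_inv]
    · ext z
      obtain ⟨u, rfl⟩ := hfsurj z
      have h1 : (⟨⟨φ (dapTau u), hmemD u⟩, ⟨u, rfl⟩⟩ : ↥P) ∈ lam ↔ i ∉ u.val := by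
        have : u ∈ (⇑(Equiv.ofBijective _ ⟨hfinj, hfsurj⟩) ⁻¹' lam) ↔ u ∈ {s : DualAffinePoint | i ∉ s.val} := by
          rw [hi]
        exact this
      rw [h1, hu u]
      show _ ↔ (φ (dapTau u) = φ (dapTau s) ∨ φ (dapTau u) = φ (dapTau t) ∨
        φ (dapTau u) = φ (dapTau t) * φ (dapTau s) * (φ (dapTau t))⁻¹)
      rw [← map_inv, ← map_mul, ← map_mul, hr]
      constructor
      · rintro (h | h | h)
        · exact Or.inl (by rw [h])
        · exact Or.inr (Or.inl (by rw [h]))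
        · exact Or.inr (Or.inr (by rw [h]))
      · rintro (h | h | h)
        · exact Or.inl (dapTau_inj _ _ (hφinj h))
        · exact Or.inr (Or.inl (dapTau_inj _ _ (hφinj h)))
        · exact Or.inr (Or.inr (dapTau_inj _ _ (hφinj h)))

end FischerS4

end Cfsg.Agent.Lib.Helper27
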