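import Cfsg.Agent.Lib.Helper26.FusionSat2
import Cfsg.Agent.Lib.Helper27.FusJoin

set_option autoImplicit false

namespace Cfsg.Agent.Lib.Helper27

open Cfsg Cfsg.FusionSystem Cfsg.Agent.Lib.Helper26

section Coprime

variable {M : Type*} [CommGroup M] [Finite M]

/-- the "norm" map for a finite group of automorphisms of an abelian group -/
noncomputable def autNorm (A : Subgroup (MulAut M)) : M →* M :=
  letI := Fintype.ofFinite A
  { toFun := fun x => ∏ α : A, (α : MulAut M) x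
    map_one' := by simp
    map_mul' := fun x y => by simp [Finset.prod_mul_distrib] }

theorem autNorm_apply (A : Subgroup (MulAut M)) [Fintype A] (x : M) :
    autNorm A x = ∏ α : A, (α : MulAut M) x := by
  unfold autNorm
  simp only [MonoidHom.coe_mk, OneHom.coe_mk]
  congr!

theorem autNorm_fixed (A : Subgroup (MulAut M)) (x : M) (β : MulAut M) (hβ : β ∈ A) :
    β (autNorm A x) = autNorm A x := by
  let _ := Fintype.ofFinite A
  rw [autNorm_apply, map_prod]
  exact Fintype.prod_equiv (Equiv.mulLeft (⟨β, hβ⟩ : A)) (fun α : A => β ((α : MulAut M) x))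
    (fun α : A => (α : MulAut M) x) (fun α => rfl)

theorem autNorm_comp (A : Subgroup (MulAut M)) (x : M) (β : MulAut M) (hβ : β ∈ A) :
    autNorm A (β x) = autNorm A x := by
  let _ := Fintype.ofFinite A
  rw [autNorm_apply, autNorm_apply]
  exact Fintype.prod_equiv (Equiv.mulRight (⟨β, hβ⟩ : A)) (fun α : A => (α : MulAut M) (β x))
    (fun α : A => (α : MulAut M) x) (fun α => rfl)

theorem autNorm_of_fixed (A : Subgroup (MulAut M)) (x : M) (hx : ∀ α ∈ A, α x = x) :
    autNorm A x = x ^ Nat.card A := by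
  let _ := Fintype.ofFinite A
  rw [autNorm_apply]
  have : ∀ α : A, (α : MulAut M) x = x := fun α => hx α α.2
  simp only [this, Finset.prod_const, Finset.card_univ, Nat.card_eq_fintype_card]

/-- the commutator-like subgroup `[M, A]` -/
def autComm (A : Subgroup (MulAut M)) : Subgroup M :=
  Subgroup.closure {y : M | ∃ α ∈ A, ∃ z : M, y = z⁻¹ * α z}

theorem autNorm_autComm (A : Subgroup (MulAut M)) {w : M} (hw : w ∈ autComm A) :
    autNorm A w = 1 := by
  have : autComm A ≤ (autNorm A).ker := by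
    unfold autComm
    rw [Subgroup.closure_le]
    rintro _ ⟨α, hα, z, rfl⟩
    rw [SetLike.mem_coe, MonoidHom.mem_ker, map_mul, map_inv, autNorm_comp A z α hα]
    exact inv_mul_cancel _
  exact MonoidHom.mem_ker.mp (this hw)

theorem coprime_fixed_inter (A : Subgroup (MulAut M)) (hcop : (Nat.card A).Coprime (Nat.card M))
    {x : M} (hx : ∀ α ∈ A, α x = x) (hw : x ∈ autComm A) : x = 1 := by
  have h1 : x ^ Nat.card A = 1 := by
    rw [← autNorm_of_fixed A x hx]
    exact autNorm_autComm A hw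
  have h2 : orderOf x ∣ Nat.card A := orderOf_dvd_of_pow_eq_one h1
  have h3 : orderOf x ∣ Nat.card M := orderOf_dvd_natCard x
  have h4 : orderOf x = 1 := Nat.eq_one_of_dvd_coprimes hcop h2 h3
  exact orderOf_eq_one_iff.mp h4

theorem coprime_decomp (A : Subgroup (MulAut M)) (hcop : (Nat.card A).Coprime (Nat.card M))
    (x : M) : ∃ c w : M, (∀ α ∈ A, α c = c) ∧ w ∈ autComm A ∧ x = c * w := by
  let _ := Fintype.ofFinite A
  obtain ⟨y, rfl⟩ : ∃ y : M, y ^ Nat.card A = x := (powCoprime hcop.symm).surjective x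
  refine ⟨autNorm A y, (∏ α : A, (y⁻¹ * (α : MulAut M) y))⁻¹, fun α hα => autNorm_fixed A y α hα,
    ?_, ?_⟩
  · apply Subgroup.inv_mem
    apply Subgroup.prod_mem
    intro α _
    exact Subgroup.subset_closure ⟨α, α.2, y, rfl⟩
  · rw [autNorm_apply, Finset.prod_mul_distrib, Finset.prod_const, Finset.card_univ,
      Nat.card_eq_fintype_card]
    simp
end Coprime

section Abelian

variable {Ω : Type*} [Group Ω] {S : Subgroup Ω}

theorem conj_eq_of_abelian (hab : ∀ x ∈ S, ∀ y ∈ S, x * y = y * x) {g h : Ω} (hg : g ∈ S)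
    (hh : h ∈ S) : g * h * g⁻¹ = h := by
  rw [hab g hg h hh, mul_inv_cancel_right]

theorem normalizerIn_eq_of_abelian (hab : ∀ x ∈ S, ∀ y ∈ S, x * y = y * x) {Q : Subgroup Ω}
    (hQ : Q ≤ S) : normalizerIn S Q = S := by
  apply le_antisymm inf_le_left
  intro g hg
  refine ⟨hg, ?_⟩
  refine mem_normalizer_of_forall (fun y hy => ?_) (fun y hy => ?_)
  · rw [conj_eq_of_abelian hab hg (hQ hy)]
    exact hy
  · have := conj_eq_of_abelian hab (S.inv_mem hg) (hQ hy)
    rw [inv_inv] at this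
    rw [this]
    exact hy

theorem centralizerIn_eq_of_abelian (hab : ∀ x ∈ S, ∀ y ∈ S, x * y = y * x) {Q : Subgroup Ω}
    (hQ : Q ≤ S) : centralizerIn S Q = S := by
  apply le_antisymm inf_le_left
  intro g hg
  refine ⟨hg, ?_⟩
  intro y hy
  exact hab y (hQ hy) g hg

theorem fullyNormalized_of_abelian [Finite S] (F : FusionSystem S)
    (hab : ∀ x ∈ S, ∀ y ∈ S, x * y = y * x) {Q : Subgroup Ω} (hQ : Q ≤ S) :
    F.IsFullyNormalized Q := by
  refine ⟨hQ, fun Q' _ => ?_⟩
  rw [normalizerIn_eq_of_abelian hab hQ]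
  exact card_le_card_of_le_of_finite inf_le_left

/-- In a saturated fusion system over an abelian `S`, every map extends to an element of
`Aut_F(S)`. -/
theorem abelian_extend [Finite S] {p : ℕ} [Fact p.Prime] (hS : IsPGroup p S) (F : FusionSystem S)
    (hF : F.IsSaturated p) (hab : ∀ x ∈ S, ∀ y ∈ S, x * y = y * x) {P : Subgroup Ω} {φ : P →* Ω}
    (hφ : φ ∈ F.Hom P) :
    ∃ α : MulAut S, α ∈ F.autGroup S ∧
      ∀ x : P, ((α ⟨x, (source_le F hφ) x.2⟩ : S) : Ω) = φ x := by
  have hPS : P ≤ S := source_le F hφ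
  have hQS : φ.range ≤ S := range_le F hφ
  obtain ⟨-, -, hrec⟩ := saturated_fullyNormalized hS F hF (fullyNormalized_of_abelian F hab hQS)
  obtain ⟨ψ, hψ, hψφ⟩ := hrec.2 P φ hφ rfl
  have hext : extender S P φ = S := by
    apply le_antisymm ((extender_le_normalizerIn S P φ).trans inf_le_left)
    have := centralizerIn_le_extender S P φ
    rwa [centralizerIn_eq_of_abelian hab hPS] at this
  obtain ⟨ψ', hψ', hψ'eq⟩ := hom_cast F hext ψ hψ
  have hinj : Function.Injective ψ' := F.injective_of_mem hψ'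
  have hr : ψ'.range = S := by
    apply Subgroup.eq_of_le_of_card_ge (range_le F hψ')
    exact (Nat.card_congr (MonoidHom.ofInjective hinj).toEquiv).le
  refine ⟨autOfHom F hψ' hr, autOfHom_mem F hψ' hr, fun x => ?_⟩
  rw [autOfHom_apply]
  have hxN : (x : Ω) ∈ extender S P φ := by rw [hext]; exact hPS x.2
  rw [hψ'eq x hxN (hPS x.2)]
  exact hψφ x x.2 hxN

theorem autInducedBy_self_of_abelian (hab : ∀ x ∈ S, ∀ y ∈ S, x * y = y * x) :
    autInducedBy S S = ⊥ := by
  rw [eq_bot_iff]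
  intro α hα
  obtain ⟨g, hg, hgα⟩ := mem_autInducedBy_iff.mp hα
  rw [Subgroup.mem_bot]
  ext x
  rw [hgα x, conj_eq_of_abelian hab hg x.2]
  rfl

theorem autGroup_not_dvd_of_abelian [Finite S] {p : ℕ} [Fact p.Prime] (hS : IsPGroup p S)
    (F : FusionSystem S) (hF : F.IsSaturated p) (hab : ∀ x ∈ S, ∀ y ∈ S, x * y = y * x) :
    ¬ p ∣ Nat.card (F.autGroup S) := by
  obtain ⟨-, ⟨-, R, hR⟩, -⟩ :=
    saturated_fullyNormalized hS F hF (fullyNormalized_of_abelian F hab (le_refl S))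
  rw [autInducedBy_self_of_abelian hab, Subgroup.bot_subgroupOf] at hR
  have h := R.not_dvd_index
  rw [hR, Subgroup.index_bot] at h
  exact h

theorem autGroup_coprime_of_abelian [Finite S] {p : ℕ} [Fact p.Prime] (hS : IsPGroup p S)
    (F : FusionSystem S) (hF : F.IsSaturated p) (hab : ∀ x ∈ S, ∀ y ∈ S, x * y = y * x) :
    (Nat.card (F.autGroup S)).Coprime (Nat.card S) := by
  obtain ⟨n, hn⟩ := IsPGroup.iff_card.mp hS
  rw [hn]
  apply Nat.Coprime.pow_right
  rw [Nat.coprime_comm, Nat.Prime.coprime_iff_not_dvd Fact.out]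
  exact autGroup_not_dvd_of_abelian hS F hF hab

/-- the subgroup of `S` (inside `Ω`) of elements fixed by all of `Aut_F(S)` -/
def autFixed (F : FusionSystem S) : Subgroup Ω :=
  Subgroup.map S.subtype
    { carrier := {x : S | ∀ α ∈ F.autGroup S, α x = x}
      one_mem' := fun α _ => map_one α
      mul_mem' := fun {a b} ha hb α hα => by rw [map_mul, ha α hα, hb α hα]
      inv_mem' := fun {a} ha α hα => by rw [map_inv, ha α hα] }

theorem mem_autFixed_iff (F : FusionSystem S) {x : Ω} :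
    x ∈ autFixed F ↔ ∃ hx : x ∈ S, ∀ α ∈ F.autGroup S, α ⟨x, hx⟩ = ⟨x, hx⟩ := by
  constructor
  · rintro ⟨y, hy, rfl⟩
    exact ⟨y.2, hy⟩
  · rintro ⟨hx, h⟩
    exact ⟨⟨x, hx⟩, h, rfl⟩

theorem center_le_autFixed [Finite S] (F : FusionSystem S) : F.center ≤ autFixed F := by
  intro x hx
  have hc := isCentral_center F
  have hxS : x ∈ S := hc.1 hx
  refine (mem_autFixed_iff F).mpr ⟨hxS, fun α hα => ?_⟩
  have hφ := (mem_autGroup_iff F (le_refl S)).mp hα
  obtain ⟨ψ, -, hext, hfix⟩ := hc.2 S _ hφ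
  have h1 := hext ⟨x, hxS⟩
  have h2 := hfix ⟨x, hx⟩
  have e : Subgroup.inclusion (le_sup_left : S ≤ S ⊔ F.center) ⟨x, hxS⟩ =
      Subgroup.inclusion (le_sup_right : F.center ≤ S ⊔ F.center) ⟨x, hx⟩ := rfl
  rw [e, h2] at h1
  apply Subtype.ext
  exact h1.symm

theorem autFixed_le_center [Finite S] {p : ℕ} [Fact p.Prime] (hS : IsPGroup p S)
    (F : FusionSystem S) (hF : F.IsSaturated p) (hab : ∀ x ∈ S, ∀ y ∈ S, x * y = y * x) :
    autFixed F ≤ F.center := by
  have hle : autFixed F ≤ S := by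
    intro x hx
    exact ((mem_autFixed_iff F).mp hx).1
  apply le_sSup
  refine ⟨hle, fun P φ hφ => ?_⟩
  have hPS : P ≤ S := source_le F hφ
  obtain ⟨α, hα, hαφ⟩ := abelian_extend hS F hF hab hφ
  have hα' := (mem_autGroup_iff F (le_refl S)).mp hα
  have hsup : P ⊔ autFixed F ≤ S := sup_le hPS hle
  refine ⟨_, restrict_mem F hα' hsup, fun x => hαφ x, fun x => ?_⟩
  obtain ⟨hxS, hx⟩ := (mem_autFixed_iff F).mp x.2
  exact congrArg Subtype.val (hx α hα)

theorem focal_eq_of_abelian [Finite S] {p : ℕ} [Fact p.Prime] (hS : IsPGroup p S)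
    (F : FusionSystem S) (hF : F.IsSaturated p) (hab : ∀ x ∈ S, ∀ y ∈ S, x * y = y * x) :
    F.focalSubgroup = Subgroup.map S.subtype
      (Subgroup.closure {y : S | ∃ α ∈ F.autGroup S, ∃ z : S, y = z⁻¹ * α z}) := by
  apply le_antisymm
  · unfold focalSubgroup
    rw [Subgroup.closure_le]
    rintro _ ⟨P, φ, x, hφ, rfl⟩
    obtain ⟨α, hα, hαφ⟩ := abelian_extend hS F hF hab hφ
    refine ⟨(⟨x, (source_le F hφ) x.2⟩ : S)⁻¹ * α ⟨x, (source_le F hφ) x.2⟩,
      Subgroup.subset_closure ⟨α, hα, _, rfl⟩, ?_⟩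
    rw [← hαφ x]
    rfl
  · rw [Subgroup.map_le_iff_le_comap, Subgroup.closure_le]
    rintro _ ⟨α, hα, z, rfl⟩
    have hα' := (mem_autGroup_iff F (le_refl S)).mp hα
    exact Subgroup.subset_closure ⟨S, _, z, hα', rfl⟩

end Abelian

end Cfsg.Agent.Lib.Helper27
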