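import Cfsg.Agent.Lib.Helper26.FusionAlperin
import Cfsg.Agent.Lib.Helper27.FusJoin

set_option autoImplicit false

namespace Cfsg.Agent.Lib.Helper27

open Cfsg Cfsg.FusionSystem Cfsg.Agent.Lib.Helper26

variable {Ω : Type*} [Group Ω] {S : Subgroup Ω}

theorem card_eq_of_isConj' (F : FusionSystem S) {P Q : Subgroup Ω} (h : F.IsConj P Q) :
    Nat.card P = Nat.card Q := by
  obtain ⟨e, -⟩ := exists_iso_of_isConj F h
  exact Nat.card_congr e.toEquiv

theorem ne_top_of_card_lt' {P : Subgroup Ω} (h : Nat.card P < Nat.card S) : P ≠ S := by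
  rintro rfl
  exact lt_irrefl _ h

theorem card_lt_of_ne' {P : Subgroup Ω} [Finite S] (hPS : P ≤ S) (hne : P ≠ S) :
    Nat.card P < Nat.card S :=
  card_lt_card_of_lt (lt_of_le_of_ne hPS hne)

theorem hom_top_subset' [Finite S] (F E : FusionSystem S)
    (h : F.autGroup S ≤ E.autGroup S) : F.Hom S ⊆ E.Hom S := by
  intro φ hφ
  have hr : φ.range = S := by
    apply Subgroup.eq_of_le_of_card_ge (range_le F hφ)
    rw [Nat.card_congr (MonoidHom.ofInjective (F.injective_of_mem hφ)).toEquiv]
  obtain ⟨e, he, hex⟩ := exists_iso_of_hom F hφ hr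
  have h1 : (e : MulAut S) ∈ E.autGroup S := h ((isIso_iff_mem_autGroup F le_rfl e).mp he)
  have h2 : IsIso E e := (isIso_iff_mem_autGroup E le_rfl e).mpr h1
  exact mem_of_forall_eq E h2 (fun x => (hex x).symm)

/-- An `F`-automorphism of a receptive `P` normalizing `Aut_S(P)` extends to `N_S(P)`. -/
theorem exists_normalizerHom_of_normalizes (F : FusionSystem S) {P : Subgroup Ω}
    (hrec : F.IsReceptive P) {γ : MulAut P} (hγ : γ ∈ F.autGroup P)
    (hnorm : ∀ u ∈ autInducedBy S P, γ * u * γ⁻¹ ∈ autInducedBy S P) :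
    ∃ N : NormalizerHom F P P, ∀ x : P,
      N.φ ⟨x, le_normalizerIn_self hrec.1 x.2⟩ = (γ x : P) := by
  have hPS : P ≤ S := hrec.1
  have hγiso : IsIso F γ := (isIso_iff_mem_autGroup F hPS γ).mpr hγ
  have := extend_to_normalizer F hrec γ hγiso (by
    intro g hg
    have hu := conjAut_mem_autInducedBy (P := P) hg.1 hg.2
    obtain ⟨h, hhS, hh⟩ := mem_autInducedBy_iff.mp (hnorm _ hu)
    refine ⟨h, hhS, fun x => ?_⟩
    have h1 := hh (γ x)
    have h2 : (γ * conjAut P g hg.2 * γ⁻¹) (γ x) = γ (conjAut P g hg.2 x) := by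
      simp [MulAut.mul_apply]
    rw [h2] at h1
    exact h1)
  exact this

theorem isIso_mono {F F' : FusionSystem S} (h : F' ≤ F) {Q P : Subgroup Ω} {e : Q ≃* P}
    (he : IsIso F' e) : IsIso F e := h _ he

/-- Downward induction principle behind Alperin's theorem: to show `F ≤ F'` for a saturated `F`,
it is enough to treat the maps defined on `S` and the `F`-automorphisms of fully normalized proper
subgroups, assuming all maps of `F` on bigger subgroups are already known to lie in `F'`. -/
theorem le_of_aut_induction [Finite S] {p : ℕ} [Fact p.Prime] (hS : IsPGroup p S)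
    (F : FusionSystem S) (hF : F.IsSaturated p) (F' : FusionSystem S) (hle : F' ≤ F)
    (htop : F.Hom S ⊆ F'.Hom S)
    (haut : ∀ P : Subgroup Ω, F.IsFullyNormalized P → P ≠ S →
      (∀ Q : Subgroup Ω, Q ≤ S → Nat.card P < Nat.card Q → F.Hom Q ⊆ F'.Hom Q) →
      F.autGroup P ≤ F'.autGroup P) : F ≤ F' := by
  have claim : ∀ d n : ℕ, Nat.card S + 1 ≤ n + d →
      ∀ P : Subgroup Ω, n ≤ Nat.card P → F.Hom P ⊆ F'.Hom P := by
    intro d
    induction d with
    | zero =>
      intro n hn P hP φ hφ
      have := card_le_card_of_le_of_finite (source_le F hφ)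
      omega
    | succ d ih =>
      intro n hn P hP φ hφ
      have IH := ih (n + 1) (by omega)
      by_cases hlt : n + 1 ≤ Nat.card P
      · exact IH P hlt hφ
      have hcard : Nat.card P = n := by omega
      have hPS : P ≤ S := source_le F hφ
      by_cases hne : P = S
      · subst hne
        exact htop hφ
      have IH' : ∀ R : Subgroup Ω, R ≤ S → Nat.card R = n →
          ∀ Q : Subgroup Ω, Q ≤ S → Nat.card R < Nat.card Q → F.Hom Q ⊆ F'.Hom Q := by
        intro R _ hR Q _ hQ
        exact IH Q (by omega)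
      obtain ⟨P', hconj, hfn⟩ := exists_fullyNormalized_conj F hPS
      have hP'S : P' ≤ S := hfn.1
      have hcard' : Nat.card P' = n := (card_eq_of_isConj' F hconj).symm.trans hcard
      have hltS : Nat.card P < Nat.card S := card_lt_of_ne' hPS hne
      have hne' : P' ≠ S := ne_top_of_card_lt' (by omega)
      obtain ⟨-, h₁, h₂⟩ := saturated_fullyNormalized hS F hF hfn
      obtain ⟨N₁⟩ := nonempty_normalizerHom hS F h₁ h₂ hconj
      have hQS : φ.range ≤ S := range_le F hφ
      have hQconj : F.IsConj φ.range P' := isConj_trans F (isConj_symm F ⟨φ, hφ, rfl⟩) hconj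
      have hcardQ : Nat.card φ.range = n := (card_eq_of_isConj' F hQconj).trans hcard'
      have hneQ : φ.range ≠ S := ne_top_of_card_lt' (by omega)
      obtain ⟨N₂⟩ := nonempty_normalizerHom hS F h₁ h₂ hQconj
      have hfin1 : Finite ↥(normalizerIn S P) := finite_of_le inf_le_left
      have hfin2 : Finite ↥(normalizerIn S φ.range) := finite_of_le inf_le_left
      have hN₁ : N₁.φ ∈ F'.Hom (normalizerIn S P) :=
        IH' P hPS hcard (normalizerIn S P) inf_le_left
          (card_lt_card_of_lt (lt_normalizerIn hS hPS hne)) N₁.mem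
      have hN₂ : N₂.φ ∈ F'.Hom (normalizerIn S φ.range) :=
        IH' _ hQS hcardQ (normalizerIn S φ.range) inf_le_left
          (card_lt_card_of_lt (lt_normalizerIn hS hQS hneQ)) N₂.mem
      have hr₁ : N₁.restrictQ hPS ∈ F'.Hom P := restrict_mem F' hN₁ _
      have hr₂ : N₂.restrictQ hQS ∈ F'.Hom φ.range := restrict_mem F' hN₂ _
      obtain ⟨e₁, he₁, -⟩ := exists_iso_of_hom F' hr₁ (N₁.restrictQ_range hPS)
      obtain ⟨e₂, he₂, -⟩ := exists_iso_of_hom F' hr₂ (N₂.restrictQ_range hQS)
      obtain ⟨eφ, heφ, hφx⟩ := exists_iso_of_hom F hφ rfl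
      have hα : IsIso F ((e₁.symm.trans eφ).trans e₂) :=
        ((isIso_mono hle he₁).symm.trans heφ).trans (isIso_mono hle he₂)
      have hα' : IsIso F' ((e₁.symm.trans eφ).trans e₂) := by
        rw [isIso_iff_mem_autGroup F' hP'S]
        apply haut P' hfn hne' (IH' P' hP'S hcard')
        rw [← isIso_iff_mem_autGroup F hP'S]
        exact hα
      have hφ' : IsIso F' (e₁.trans (((e₁.symm.trans eφ).trans e₂).trans e₂.symm)) :=
        he₁.trans (hα'.trans he₂.symm)
      have heq : e₁.trans (((e₁.symm.trans eφ).trans e₂).trans e₂.symm) = eφ := by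
        ext x
        simp
      rw [heq] at hφ'
      exact mem_of_forall_eq F' hφ' (fun x => (hφx x).symm)
  intro P φ hφ
  exact claim (Nat.card S + 1) 0 (by omega) P (Nat.zero_le _) hφ

end Cfsg.Agent.Lib.Helper27
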