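import Cfsg.Agent.Lib.Helper27.FusFactor2

set_option autoImplicit false

namespace Cfsg.Agent.Lib.Helper27

open Cfsg Cfsg.FusionSystem Cfsg.Agent.Lib.Helper26

variable {Ω : Type*} [Group Ω] {S : Subgroup Ω} {Ω' : Type*} [Group Ω'] {S' : Subgroup Ω'}

theorem apply_eq_of_isCentral (F : FusionSystem S) {Z : Subgroup Ω} (hZ : F.IsCentral Z)
    {P : Subgroup Ω} {φ : P →* Ω} (hφ : φ ∈ F.Hom P) (x : P) (hx : (x : Ω) ∈ Z) : φ x = x := by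
  obtain ⟨ψ, hψ, hext, hfix⟩ := hZ.2 P φ hφ
  have h1 := hfix ⟨x, hx⟩
  have h2 := hext x
  have e : Subgroup.inclusion (le_sup_right : Z ≤ P ⊔ Z) ⟨x, hx⟩ =
      Subgroup.inclusion (le_sup_left : P ≤ P ⊔ Z) x := Subtype.ext rfl
  rw [e, h2] at h1
  exact h1

theorem stronglyClosed_of_isCentral' (F : FusionSystem S) {Q : Subgroup Ω} (hQ : F.IsCentral Q) :
    F.StronglyClosed Q := by
  refine ⟨hQ.1, fun R hR φ hφ x => ?_⟩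
  rw [apply_eq_of_isCentral F hQ hφ x (hR x.2)]
  exact hR x.2

theorem map_le_of_factor {F : FusionSystem S} {T : Subgroup Ω} {θ : ↥S →* Ω'}
    {E : FusionSystem S'} (hE : F.IsFactorSystem T θ E) (Q : Subgroup Ω) :
    (Q.subgroupOf S).map θ ≤ S' := by
  rw [← hE.2.2.1]
  rintro _ ⟨s, -, rfl⟩
  exact ⟨s, rfl⟩

/-- A map of `F` whose source contains `T` induces a map of the factor system. -/
theorem factor_induce_hom {F : FusionSystem S} {T : Subgroup Ω} (hT : F.StronglyClosed T)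
    {θ : ↥S →* Ω'} {E : FusionSystem S'} (hE : F.IsFactorSystem T θ E) {Q : Subgroup Ω}
    (hQS : Q ≤ S) (hTQ : T ≤ Q) {ψ : Q →* Ω} (hψ : ψ ∈ F.Hom Q) :
    ∃ ψ' ∈ E.Hom ((Q.subgroupOf S).map θ), ∀ (q : Q)
      (h1 : θ ⟨q, hQS q.2⟩ ∈ (Q.subgroupOf S).map θ),
      ψ' ⟨θ ⟨q, hQS q.2⟩, h1⟩ = θ ⟨ψ q, apply_mem F hψ q⟩ := by
  have hP'S' := map_le_of_factor hE Q
  have hpre : preimageAlong θ ((Q.subgroupOf S).map θ) = Q :=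
    preimageAlong_map hQS (fun s hs => hTQ ((hE.2.1 s).mp hs))
  obtain ⟨φ, hφ, hφe⟩ := hom_cast F hpre.symm ψ hψ
  obtain ⟨ψ', hψ'⟩ := exists_induced F hT hE.2.1 hE.2.2.1 hP'S' hφ
  refine ⟨ψ', (hE.2.2.2 _ _).mpr ⟨hP'S', φ, hφ, hψ'⟩, fun q h1 => ?_⟩
  obtain ⟨hP, hφS, hmem, hind⟩ := hψ'
  have hq : (q : Ω) ∈ preimageAlong θ ((Q.subgroupOf S).map θ) := hpre.ge q.2
  have h2 := hind ⟨q, hq⟩
  have e : φ ⟨q, hq⟩ = ψ q := hφe q.1 q.2 hq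
  rw [h2]
  congr 2

theorem pow_lift_apply {θ : ↥S →* Ω'} {P' : Subgroup Ω'} (hPS : preimageAlong θ P' ≤ S)
    (γ : MulAut ↥(preimageAlong θ P')) (β' : MulAut P')
    (h : ∀ (x : ↥(preimageAlong θ P')) (h1 : (x : Ω) ∈ S)
      (h2 : ((γ x : ↥(preimageAlong θ P')) : Ω) ∈ S) (h3 : θ ⟨x, h1⟩ ∈ P'),
      θ ⟨γ x, h2⟩ = ((β' ⟨θ ⟨x, h1⟩, h3⟩ : P') : Ω')) (n : ℕ) :
    ∀ (x : ↥(preimageAlong θ P')),
      θ ⟨((γ ^ n) x : ↥(preimageAlong θ P')), hPS ((γ ^ n) x).2⟩ =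
        (((β' ^ n) ⟨θ ⟨x, hPS x.2⟩, (mem_preimageAlong.mp x.2).2⟩ : P') : Ω') := by
  induction n with
  | zero => intro x; rfl
  | succ n ih =>
    intro x
    rw [pow_succ', pow_succ', MulAut.mul_apply, MulAut.mul_apply]
    have hm : θ ⟨((γ ^ n) x : ↥(preimageAlong θ P')), hPS ((γ ^ n) x).2⟩ ∈ P' :=
      (mem_preimageAlong.mp ((γ ^ n) x).2).2
    have e : (⟨θ ⟨((γ ^ n) x : ↥(preimageAlong θ P')), hPS ((γ ^ n) x).2⟩, hm⟩ : P') =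
        (β' ^ n) ⟨θ ⟨x, hPS x.2⟩, (mem_preimageAlong.mp x.2).2⟩ := Subtype.ext (ih x)
    rw [h ((γ ^ n) x) (hPS ((γ ^ n) x).2) (hPS (γ ((γ ^ n) x)).2) hm, e]

theorem pow_induce_apply {θ : ↥S →* Ω'} {Q : Subgroup Ω} (hQS : Q ≤ S) (γ : MulAut Q)
    (γ' : MulAut ↥((Q.subgroupOf S).map θ))
    (h : ∀ (q : Q) (h1 : θ ⟨q, hQS q.2⟩ ∈ (Q.subgroupOf S).map θ),
      ((γ' ⟨θ ⟨q, hQS q.2⟩, h1⟩ : ↥((Q.subgroupOf S).map θ)) : Ω') = θ ⟨γ q, hQS (γ q).2⟩)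
    (n : ℕ) : ∀ (q : Q) (h1 : θ ⟨q, hQS q.2⟩ ∈ (Q.subgroupOf S).map θ),
      (((γ' ^ n) ⟨θ ⟨q, hQS q.2⟩, h1⟩ : ↥((Q.subgroupOf S).map θ)) : Ω') =
        θ ⟨(γ ^ n) q, hQS ((γ ^ n) q).2⟩ := by
  induction n with
  | zero => intro q h1; rfl
  | succ n ih =>
    intro q h1
    rw [pow_succ', pow_succ', MulAut.mul_apply, MulAut.mul_apply]
    have hmem : θ ⟨(γ ^ n) q, hQS ((γ ^ n) q).2⟩ ∈ (Q.subgroupOf S).map θ :=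
      ⟨⟨_, hQS ((γ ^ n) q).2⟩, Subgroup.mem_subgroupOf.mpr ((γ ^ n) q).2, rfl⟩
    have e : (γ' ^ n) ⟨θ ⟨q, hQS q.2⟩, h1⟩ =
        ⟨θ ⟨(γ ^ n) q, hQS ((γ ^ n) q).2⟩, hmem⟩ := Subtype.ext (ih q h1)
    rw [e, h]

end Cfsg.Agent.Lib.Helper27
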