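import Cfsg.Agent.Lib.Helper27.FusSolvable2
import Cfsg.Agent.Lib.Helper26.FusionSeries4
import Cfsg.Agent.S5088

set_option autoImplicit false

namespace Cfsg.Agent.Lib.Helper27

open Cfsg Cfsg.FusionSystem Cfsg.Agent.Lib.Helper26
open scoped commutatorElement

variable {Ω : Type*} [Group Ω] {S : Subgroup Ω}

/-- The preimage of `X` under the automorphism `α` of `T`, as a subgroup of the ambient group. -/
def preAut {T : Subgroup Ω} (α : MulAut T) (X : Subgroup Ω) : Subgroup Ω :=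
  ((X.subgroupOf T).comap α.toMonoidHom).map T.subtype

theorem mem_preAut {T : Subgroup Ω} {α : MulAut T} {X : Subgroup Ω} {y : Ω} :
    y ∈ preAut α X ↔ ∃ hy : y ∈ T, ((α ⟨y, hy⟩ : T) : Ω) ∈ X := by
  constructor
  · rintro ⟨t, ht, rfl⟩
    exact ⟨t.2, Subgroup.mem_subgroupOf.mp ht⟩
  · rintro ⟨hy, h⟩
    exact ⟨⟨y, hy⟩, Subgroup.mem_subgroupOf.mpr h, rfl⟩

theorem preAut_le {T : Subgroup Ω} (α : MulAut T) (X : Subgroup Ω) : preAut α X ≤ T :=
  Subgroup.map_subtype_le _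

theorem preAut_mono {T : Subgroup Ω} (α : MulAut T) {X Y : Subgroup Ω} (h : X ≤ Y) :
    preAut α X ≤ preAut α Y := by
  intro y hy
  obtain ⟨hyT, hy'⟩ := mem_preAut.mp hy
  exact mem_preAut.mpr ⟨hyT, h hy'⟩

theorem preAut_bot {T : Subgroup Ω} (α : MulAut T) : preAut α ⊥ = ⊥ := by
  rw [eq_bot_iff]
  intro y hy
  obtain ⟨hyT, hy'⟩ := mem_preAut.mp hy
  have h1 : α ⟨y, hyT⟩ = 1 := Subtype.ext (Subgroup.mem_bot.mp hy')
  have h2 : (⟨y, hyT⟩ : T) = 1 := by
    have := congrArg (α⁻¹ : MulAut T) h1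
    rwa [MulAut.inv_apply_self, map_one] at this
  exact Subgroup.mem_bot.mpr (congrArg Subtype.val h2)

theorem apply_mem_preAut_inv {T : Subgroup Ω} (α : MulAut T) {X : Subgroup Ω} {x : T}
    (hx : (x : Ω) ∈ X) : ((α x : T) : Ω) ∈ preAut α⁻¹ X := by
  refine mem_preAut.mpr ⟨(α x).2, ?_⟩
  show (((α⁻¹ : MulAut T) (α x) : T) : Ω) ∈ X
  rw [MulAut.inv_apply_self]
  exact hx

theorem preAut_commutator {T : Subgroup Ω} (α : MulAut T) (X Y : Subgroup Ω) :
    ⁅preAut α X, preAut α Y⁆ ≤ preAut α ⁅X, Y⁆ := by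
  rw [Subgroup.commutator_le]
  intro a ha b hb
  obtain ⟨haT, ha'⟩ := mem_preAut.mp ha
  obtain ⟨hbT, hb'⟩ := mem_preAut.mp hb
  have hcT : ⁅a, b⁆ ∈ T := by
    rw [commutatorElement_def]
    exact T.mul_mem (T.mul_mem (T.mul_mem haT hbT) (T.inv_mem haT)) (T.inv_mem hbT)
  refine mem_preAut.mpr ⟨hcT, ?_⟩
  have e : (⟨⁅a, b⁆, hcT⟩ : T) = ⁅(⟨a, haT⟩ : T), ⟨b, hbT⟩⁆ := by
    apply Subtype.ext
    simp [commutatorElement_def]
  rw [e, map_commutatorElement]
  have := Subgroup.commutator_mem_commutator ha' hb'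
  simpa [commutatorElement_def] using this

/-- The preimage of an `E`-strongly closed subgroup under an element of `Aut_F(T)` is again
`E`-strongly closed, when `E` is invariant in `F`. -/
theorem preAut_stronglyClosed {T : Subgroup Ω} {E : FusionSystem T} {F : FusionSystem S}
    (hinv : E.IsInvariantIn F) {α : MulAut T} (hα : α ∈ F.autGroup T) {R : Subgroup Ω}
    (hR : E.StronglyClosed R) : E.StronglyClosed (preAut α R) := by
  refine ⟨preAut_le α R, fun P hP φ hφ z => ?_⟩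
  have hPT : P ≤ T := hP.trans (preAut_le α R)
  obtain ⟨χ, hχ, hχe⟩ := hinv.2.2.1 P hPT φ hφ α hα
  have hφT : φ z ∈ T := apply_mem E hφ z
  refine mem_preAut.mpr ⟨hφT, ?_⟩
  have hαz : ((α ⟨z, hPT z.2⟩ : T) : Ω) ∈
      (P.subgroupOf T).map (T.subtype.comp α.toMonoidHom) :=
    ⟨⟨z, hPT z.2⟩, Subgroup.mem_subgroupOf.mpr z.2, rfl⟩
  have hαPR : (P.subgroupOf T).map (T.subtype.comp α.toMonoidHom) ≤ R := by
    rintro _ ⟨y, hy, rfl⟩
    obtain ⟨hyT, hy'⟩ := mem_preAut.mp (hP (Subgroup.mem_subgroupOf.mp hy))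
    exact hy'
  have h1 := hR.2 _ hαPR χ hχ ⟨_, hαz⟩
  rw [hχe z hφT hαz] at h1
  exact h1

/-- The preimage of a subgroup normal in `E` under an element of `Aut_F(T)` is normal in `E`. -/
theorem preAut_isNormal {T : Subgroup Ω} [Finite T] {p : ℕ} [Fact p.Prime] (hT : IsPGroup p T)
    {E : FusionSystem T} (hEsat : E.IsSaturated p) {F : FusionSystem S}
    (hinv : E.IsInvariantIn F) {α : MulAut T} (hα : α ∈ F.autGroup T) {R : Subgroup Ω}
    (hR : E.IsNormal R) : E.IsNormal (preAut α R) := by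
  obtain ⟨n, Qs, h0, hlast, -, hstep⟩ := (Cfsg.Agent.S5088.result p hT E hEsat R).mp hR
  refine isNormal_of_chain hT E hEsat (preAut α R) n (fun i => preAut α (Qs i)) ?_ ?_ ?_
  · show preAut α (Qs 0) = ⊥
    rw [h0, preAut_bot]
  · show preAut α (Qs (Fin.last n)) = preAut α R
    rw [hlast]
  · intro i
    exact ⟨preAut_stronglyClosed hinv hα (hstep i).1,
      (preAut_commutator α R (Qs i.succ)).trans (preAut_mono α (hstep i).2)⟩

end Cfsg.Agent.Lib.Helper27
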