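import Cfsg.Agent.Lib.Helper26.FusionSat2
import Cfsg.Agent.Lib.Helper27.FusJoin

set_option autoImplicit false

namespace Cfsg.Agent.Lib.Helper27

open Cfsg Cfsg.FusionSystem Cfsg.Agent.Lib.Helper26

variable {Ω : Type*} [Group Ω] {S : Subgroup Ω}

/-- a subgroup normal in `F` is weakly closed -/
theorem range_eq_of_isNormal (F : FusionSystem S) {Q : Subgroup Ω} (hQ : F.IsNormal Q)
    {φ : Q →* Ω} (hφ : φ ∈ F.Hom Q) : φ.range = Q := by
  obtain ⟨ψ, -, hext, hmap⟩ := hQ.2 Q φ hφ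
  ext z
  constructor
  · rintro ⟨x, rfl⟩
    have : φ x ∈ Subgroup.map ψ (Q.subgroupOf (Q ⊔ Q)) :=
      ⟨Subgroup.inclusion le_sup_left x, Subgroup.mem_subgroupOf.mpr x.2, hext x⟩
    exact hmap.le this
  · intro hz
    obtain ⟨y, hy, rfl⟩ := hmap.ge hz
    have hyQ : (y : Ω) ∈ Q := Subgroup.mem_subgroupOf.mp hy
    exact ⟨⟨y, hyQ⟩, (hext ⟨y, hyQ⟩).symm⟩

theorem isConj_eq_of_isNormal (F : FusionSystem S) {Q Q' : Subgroup Ω} (hQ : F.IsNormal Q)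
    (h : F.IsConj Q Q') : Q' = Q := by
  obtain ⟨φ, hφ, hr⟩ := h
  rw [← hr]
  exact range_eq_of_isNormal F hQ hφ

theorem fullyNormalized_of_isNormal (F : FusionSystem S) {Q : Subgroup Ω} (hQ : F.IsNormal Q) :
    F.IsFullyNormalized Q := by
  refine ⟨hQ.1, fun Q' h => ?_⟩
  rw [isConj_eq_of_isNormal F hQ h]

theorem mem_normalizer_of_isNormal (F : FusionSystem S) {Q : Subgroup Ω} (hQ : F.IsNormal Q)
    {g : Ω} (hg : g ∈ S) : g ∈ Subgroup.normalizer (Q : Set Ω) := by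
  have hr := range_eq_of_isNormal F hQ (F.conj_mem hQ.1 hg)
  refine mem_normalizer_of_forall (fun y hy => ?_) (fun y hy => ?_)
  · exact hr.le ⟨⟨y, hy⟩, rfl⟩
  · obtain ⟨x, hx⟩ := hr.ge hy
    have hx' : g * (x : Ω) * g⁻¹ = y := hx
    rw [← hx']
    simp [mul_assoc]

/-- a subgroup normal in `F` is strongly closed -/
theorem stronglyClosed_of_isNormal (F : FusionSystem S) {Q : Subgroup Ω} (hQ : F.IsNormal Q) :
    F.StronglyClosed Q := by
  refine ⟨hQ.1, fun R hR φ hφ x => ?_⟩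
  obtain ⟨ψ, -, hext, hmap⟩ := hQ.2 R φ hφ
  rw [← hext x]
  exact hmap.le ⟨_, Subgroup.mem_subgroupOf.mpr (hR x.2), rfl⟩

end Cfsg.Agent.Lib.Helper27
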