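import Cfsg.Agent.Lib.Helper27.OmegaAut
import Cfsg.Agent.Lib.Helper26.FusionSeries3
import Cfsg.Prelude.Def_PLocal

set_option autoImplicit false

namespace Cfsg.Agent.Lib.Helper27

open Cfsg Cfsg.FusionSystem Cfsg.Agent.Lib.Helper26

variable {Ω : Type*} [Group Ω] {S : Subgroup Ω}

theorem pow_apply_mem {R P : Subgroup Ω} (β : MulAut R)
    (hβP : ∀ x : R, (x : Ω) ∈ P → ((β x : R) : Ω) ∈ P) (j : ℕ) :
    ∀ x : R, (x : Ω) ∈ P → (((β ^ j) x : R) : Ω) ∈ P := by
  induction j with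
  | zero => intro x hx; simpa using hx
  | succ j ih =>
    intro x hx
    rw [pow_succ', MulAut.mul_apply]
    exact hβP _ (ih x hx)

theorem pow_apply_eq_self {R : Type*} [Group R] (γ : MulAut R) {x : R} (h : γ x = x) (j : ℕ) :
    (γ ^ j) x = x := by
  induction j with
  | zero => simp
  | succ j ih => rw [pow_succ', MulAut.mul_apply, ih, h]

/-- For odd `p`: an automorphism that is a `p`-element on `Ω₁(P)` and stabilizes `P` is a
`p`-element on `P`. -/
theorem isPElementOn_of_omegaOne [Finite S] {p : ℕ} [Fact p.Prime] (hp : p ≠ 2)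
    (hS : IsPGroup p S) {R P : Subgroup Ω} (hRS : R ≤ S) (β : MulAut R)
    (hβP : ∀ x : R, (x : Ω) ∈ P → ((β x : R) : Ω) ∈ P)
    (hβP' : ∀ x : R, (x : Ω) ∈ P → ((β⁻¹ x : R) : Ω) ∈ P)
    (h : IsPElementOn p β (omegaOne p P)) : IsPElementOn p β P := by
  have hfin : Finite R := finite_of_le hRS
  obtain ⟨k, hk⟩ := h
  have hn : orderOf (β ^ (p ^ k)) ≠ 0 := (orderOf_pos _).ne'
  obtain ⟨a, m, hm, hnm⟩ := Nat.exists_eq_pow_mul_and_not_dvd hn p (Fact.out : p.Prime).ne_one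
  have hδ : β ^ (p ^ (k + a)) = (β ^ (p ^ k)) ^ (p ^ a) := by
    rw [← pow_mul, pow_add]
  have hδm : (β ^ (p ^ (k + a))) ^ m = 1 := by
    rw [hδ, ← pow_mul, ← hnm]
    exact pow_orderOf_eq_one _
  have hcop : (orderOf (β ^ (p ^ (k + a)))).Coprime p := by
    have hdvd : orderOf (β ^ (p ^ (k + a))) ∣ m := orderOf_dvd_of_pow_eq_one hδm
    have hmp : m.Coprime p := ((Nat.Prime.coprime_iff_not_dvd Fact.out).mpr hm).symm
    exact Nat.Coprime.coprime_dvd_left hdvd hmp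
  have hT : IsPGroup p ↥(P.subgroupOf R) := (hS.to_le hRS).to_subgroup _
  have hinv : (β ^ (p ^ (k + a)))⁻¹ = β⁻¹ ^ (p ^ (k + a)) := (inv_pow _ _).symm
  refine ⟨k + a, fun x hx => ?_⟩
  refine aut_fix_of_fix_small (β ^ (p ^ (k + a))) hcop (P.subgroupOf R) hT ?_ ?_ ?_ x
    (Subgroup.mem_subgroupOf.mpr hx)
  · intro y hy
    exact Subgroup.mem_subgroupOf.mpr (pow_apply_mem β hβP _ y (Subgroup.mem_subgroupOf.mp hy))
  · intro y hy
    rw [hinv]
    exact Subgroup.mem_subgroupOf.mpr (pow_apply_mem β⁻¹ hβP' _ y (Subgroup.mem_subgroupOf.mp hy))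
  · intro y hy hsm
    rcases hsm with h1 | ⟨h2, -⟩
    · have hyΩ : (y : Ω) ∈ omegaOne p P := by
        refine Subgroup.subset_closure ⟨Subgroup.mem_subgroupOf.mp hy, ?_⟩
        have := congrArg Subtype.val h1
        simpa using this
      rw [hδ]
      exact pow_apply_eq_self _ (hk y hyΩ) _
    · exact absurd h2 hp

end Cfsg.Agent.Lib.Helper27
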