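import Cfsg.Agent.Lib.Helper27.FusFactorSat
import Cfsg.Agent.Lib.Helper27.FusNormal
import Cfsg.Agent.S5134
import Cfsg.Agent.S5128
import Cfsg.Agent.S5089
import Cfsg.Agent.S5085

set_option autoImplicit false

namespace Cfsg.Agent.Lib.Helper27

open Cfsg Cfsg.FusionSystem Cfsg.Agent.Lib.Helper26
open scoped commutatorElement

variable {Ω : Type*} [Group Ω] {S : Subgroup Ω} {Ω' : Type*} [Group Ω'] {S' : Subgroup Ω'}

theorem stronglyClosed_top (F : FusionSystem S) : F.StronglyClosed S :=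
  ⟨le_rfl, fun _ _ _ hφ x => apply_mem F hφ x⟩

/-- The preimage of a strongly closed subgroup of the factor system is strongly closed. -/
theorem preimage_stronglyClosed [Finite S] {p : ℕ} [Fact p.Prime] (hS : IsPGroup p S)
    {F : FusionSystem S} (hF : F.IsSaturated p) {T : Subgroup Ω} (hT : F.StronglyClosed T)
    {θ : ↥S →* Ω'} {E : FusionSystem S'} (hE : F.IsFactorSystem T θ E) {Z' : Subgroup Ω'}
    (hZ' : E.StronglyClosed Z') : F.StronglyClosed (preimageAlong θ Z') := by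
  refine ⟨preimageAlong_le θ Z', fun P hP φ hφ x => ?_⟩
  obtain ⟨hmor, -, -⟩ := Cfsg.Agent.S5134.result p hS F hF T hT θ E hE
  obtain ⟨φ', hφ', hPS, hφS, hmem, hind⟩ := hmor.2 P φ hφ
  refine mem_preimageAlong.mpr ⟨hφS x, ?_⟩
  rw [← hind x]
  refine hZ'.2 _ ?_ φ' hφ' _
  rintro _ ⟨s, hs, rfl⟩
  exact (mem_preimageAlong.mp (hP (Subgroup.mem_subgroupOf.mp hs))).2

/-- The image of a strongly closed subgroup containing the kernel is strongly closed. -/
theorem image_stronglyClosed {F : FusionSystem S} {T : Subgroup Ω}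
    {θ : ↥S →* Ω'} {E : FusionSystem S'} (hE : F.IsFactorSystem T θ E) {A : Subgroup Ω}
    (hA : F.StronglyClosed A) (hTA : T ≤ A) : E.StronglyClosed ((A.subgroupOf S).map θ) := by
  have hpre : preimageAlong θ ((A.subgroupOf S).map θ) = A :=
    preimageAlong_map hA.1 (fun s hs => hTA ((hE.2.1 s).mp hs))
  refine ⟨map_le_of_factor hE A, fun P' hP' φ' hφ' y => ?_⟩
  have hP'S' : P' ≤ S' := source_le E hφ'
  obtain ⟨-, φ, hφ, hPS, hφS, hmem, hind⟩ := (hE.2.2.2 P' φ').mp hφ'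
  obtain ⟨x, hx⟩ := exists_preimage_of_mem_range hE.2.2.1 hP'S' y
  have e : y = ⟨θ ⟨x, hPS x.2⟩, hmem x⟩ := Subtype.ext hx.symm
  rw [e, hind x]
  have hPA : preimageAlong θ P' ≤ A := by
    intro z hz
    obtain ⟨hzS, hz'⟩ := mem_preimageAlong.mp hz
    exact hpre.le (mem_preimageAlong.mpr ⟨hzS, hP' hz'⟩)
  have h1 : φ x ∈ A := hA.2 _ hPA φ hφ x
  exact ⟨⟨φ x, hφS x⟩, Subgroup.mem_subgroupOf.mpr h1, rfl⟩

theorem subgroupOf_normal_of_stronglyClosed (F : FusionSystem S) {R : Subgroup Ω}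
    (hR : F.StronglyClosed R) : (R.subgroupOf S).Normal :=
  (Subgroup.normal_subgroupOf_iff_le_normalizer hR.1).mpr (le_normalizer_of_stronglyClosed F hR)

theorem mk'_ker_iff (R : Subgroup Ω) [(R.subgroupOf S).Normal] (s : S) :
    (QuotientGroup.mk' (R.subgroupOf S)) s = 1 ↔ (s : Ω) ∈ R := by
  rw [QuotientGroup.mk'_apply, QuotientGroup.eq_one_iff, Subgroup.mem_subgroupOf]

theorem mk'_range_top (R : Subgroup Ω) [(R.subgroupOf S).Normal] :
    (QuotientGroup.mk' (R.subgroupOf S)).range = ⊤ :=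
  MonoidHom.range_eq_top.mpr (QuotientGroup.mk'_surjective _)

/-- In a solvable saturated system, a proper strongly closed subgroup has a strictly larger strongly
closed subgroup with abelian quotient. -/
theorem exists_next [Finite S] {p : ℕ} [Fact p.Prime] (hS : IsPGroup p S) {F : FusionSystem S}
    (hF : F.IsSaturated p) (hsolv : F.IsSolvableSystem) {R : Subgroup Ω}
    (hR : F.StronglyClosed R) (hne : R ≠ S) :
    ∃ R₁ : Subgroup Ω, F.StronglyClosed R₁ ∧ R < R₁ ∧ ⁅R₁, R₁⁆ ≤ R := by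
  have hnorm : (R.subgroupOf S).Normal := subgroupOf_normal_of_stronglyClosed F hR
  have hE := factorSystem_isFactorSystem F hR (QuotientGroup.mk' (R.subgroupOf S))
    (mk'_ker_iff R) (mk'_range_top R)
  have hcore := hsolv R hR hne _ hE
  have hN := isNormal_core (factorSystem F hR (QuotientGroup.mk' (R.subgroupOf S))
    (mk'_ker_iff R) (mk'_range_top R))
  obtain ⟨E, hEdef⟩ : ∃ E, E = factorSystem F hR (QuotientGroup.mk' (R.subgroupOf S))
    (mk'_ker_iff R) (mk'_range_top R) := ⟨_, rfl⟩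
  rw [← hEdef] at hE hcore hN
  have hpq : IsPGroup p (↥S ⧸ R.subgroupOf S) := hS.to_quotient _
  have hpc : IsPGroup p ↥E.core := hpq.to_subgroup _
  have : Nontrivial ↥E.core := (Subgroup.nontrivial_iff_ne_bot _).mpr hcore
  have hcn : Nontrivial ↥(Subgroup.center ↥E.core) := hpc.center_nontrivial
  obtain ⟨z, hz1⟩ := exists_ne (1 : ↥(Subgroup.center ↥E.core))
  have hZ'le : (Subgroup.center ↥E.core).map E.core.subtype ≤ E.core := Subgroup.map_subtype_le _
  have hchar : (((Subgroup.center ↥E.core).map E.core.subtype).subgroupOf E.core).Characteristic := by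
    have e : ((Subgroup.center ↥E.core).map E.core.subtype).subgroupOf E.core =
        Subgroup.center ↥E.core :=
      Subgroup.comap_map_eq_self_of_injective (Subgroup.subtype_injective _) _
    rw [e]
    infer_instance
  have hZ'N : E.IsNormal ((Subgroup.center ↥E.core).map E.core.subtype) :=
    Cfsg.Agent.S5085.result E E.core _ hN hZ'le hchar
  have hR₁ := preimage_stronglyClosed hS hF hR hE (stronglyClosed_of_isNormal E hZ'N)
  refine ⟨_, hR₁, ?_, ?_⟩
  · refine lt_of_le_of_ne (ker_le_preimageAlong hE _) (fun heq => ?_)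
    obtain ⟨s, hs⟩ := QuotientGroup.mk'_surjective (R.subgroupOf S) ((z : ↥E.core) : ↥S ⧸ R.subgroupOf S)
    have hsR₁ : (s : Ω) ∈ preimageAlong (QuotientGroup.mk' (R.subgroupOf S))
        ((Subgroup.center ↥E.core).map E.core.subtype) := by
      refine mem_preimageAlong.mpr ⟨s.2, ?_⟩
      show (QuotientGroup.mk' (R.subgroupOf S)) s ∈ _
      rw [hs]
      exact ⟨z, z.2, rfl⟩
    rw [← heq] at hsR₁
    have h1 := (mk'_ker_iff R s).mpr hsR₁
    rw [hs] at h1
    apply hz1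
    apply Subtype.ext
    apply Subtype.ext
    exact h1
  · rw [Subgroup.commutator_le]
    intro a ha b hb
    obtain ⟨haS, ha'⟩ := mem_preimageAlong.mp ha
    obtain ⟨hbS, hb'⟩ := mem_preimageAlong.mp hb
    obtain ⟨ca, hca, hcae⟩ := ha'
    obtain ⟨cb, hcb, hcbe⟩ := hb'
    have hcomm : ca * cb = cb * ca := (Subgroup.mem_center_iff.mp hcb ca)
    have hcS : ⁅a, b⁆ ∈ S := by
      rw [commutatorElement_def]
      exact S.mul_mem (S.mul_mem (S.mul_mem haS hbS) (S.inv_mem haS)) (S.inv_mem hbS)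
    have e1 : (⟨⁅a, b⁆, hcS⟩ : S) = ⟨a, haS⟩ * ⟨b, hbS⟩ * ⟨a, haS⟩⁻¹ * ⟨b, hbS⟩⁻¹ := by
      apply Subtype.ext
      rfl
    have h2 : (QuotientGroup.mk' (R.subgroupOf S)) ⟨⁅a, b⁆, hcS⟩ = 1 := by
      rw [e1, map_mul, map_mul, map_mul, map_inv, map_inv, ← hcae, ← hcbe]
      have h3 := congrArg (fun x : ↥E.core => (x : ↥S ⧸ R.subgroupOf S)) hcomm
      simp only [Subgroup.coe_mul] at h3
      show (ca : ↥S ⧸ R.subgroupOf S) * cb * (ca : ↥S ⧸ R.subgroupOf S)⁻¹ * (cb : ↥S ⧸ R.subgroupOf S)⁻¹ = 1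
      rw [h3]
      group
    exact (mk'_ker_iff R _).mp h2

end Cfsg.Agent.Lib.Helper27
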