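import Cfsg.Agent.Lib.Helper27.FusSolvable

set_option autoImplicit false

namespace Cfsg.Agent.Lib.Helper27

open Cfsg Cfsg.FusionSystem Cfsg.Agent.Lib.Helper26
open scoped commutatorElement

variable {Ω : Type*} [Group Ω] {S : Subgroup Ω} {Ω' : Type*} [Group Ω'] {S' : Subgroup Ω'}

/-- One step of an abelian series of strongly closed subgroups. -/
def StepRel (F : FusionSystem S) (R R' : Subgroup Ω) : Prop :=
  F.StronglyClosed R' ∧ ⁅R', R'⁆ ≤ R

theorem rtg_of_chain (F : FusionSystem S) {n : ℕ} {T : Fin (n + 1) → Subgroup Ω} (h0 : T 0 = ⊥)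
    (hSC : ∀ i, F.StronglyClosed (T i))
    (hcomm : ∀ i : Fin n, ⁅T i.succ, T i.succ⁆ ≤ T (Fin.castSucc i)) :
    ∀ i, Relation.ReflTransGen (StepRel F) ⊥ (T i) := by
  intro i
  induction i using Fin.induction with
  | zero => rw [h0]
  | succ i ih => exact ih.tail ⟨hSC _, hcomm i⟩

theorem exists_step_of_rtg (F : FusionSystem S) {Y : Subgroup Ω}
    (h : Relation.ReflTransGen (StepRel F) ⊥ Y) (R : Subgroup Ω) (hY : ¬ Y ≤ R) :
    ∃ A, F.StronglyClosed A ∧ ¬ A ≤ R ∧ ⁅A, A⁆ ≤ R := by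
  induction h with
  | refl => exact absurd bot_le hY
  | @tail b c _ hbc ih =>
    by_cases hb : b ≤ R
    · exact ⟨c, hbc.1, hY, hbc.2.trans hb⟩
    · exact ih hb

/-- A strongly closed subgroup not inside `R` but abelian modulo `R` gives a nontrivial core in the
factor system. -/
theorem core_ne_bot_of_step [Finite S] {p : ℕ} [Fact p.Prime] (hS : IsPGroup p S)
    {F : FusionSystem S} (hF : F.IsSaturated p) {R : Subgroup Ω} (hR : F.StronglyClosed R)
    [(R.subgroupOf S).Normal] {E : FusionSystem (⊤ : Subgroup (S ⧸ R.subgroupOf S))}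
    (hE : F.IsFactorSystem R (QuotientGroup.mk' (R.subgroupOf S)) E) {A₀ : Subgroup Ω}
    (hA₀ : F.StronglyClosed A₀) (hi : ¬ A₀ ≤ R) (hjR : ⁅A₀, A₀⁆ ≤ R) : E.core ≠ ⊥ := by
  have hA : F.StronglyClosed (A₀ ⊔ R) := Cfsg.Agent.S5128.result p hS F hF _ _ hA₀ hR
  have hA' := image_stronglyClosed hE hA le_sup_right
  have hEsat : E.IsSaturated p := factor_saturated hS hF hR hE
  have hpq : IsPGroup p (↥S ⧸ R.subgroupOf S) := hS.to_quotient _
  have hS' : IsPGroup p ↥(⊤ : Subgroup (↥S ⧸ R.subgroupOf S)) := hpq.to_subgroup _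
  have hTS : A₀ ≤ S := hA₀.1
  have hnorm : A₀ ≤ Subgroup.normalizer (R : Set Ω) :=
    hTS.trans (le_normalizer_of_stronglyClosed F hR)
  have hdecomp : ∀ a : ↥S, (a : Ω) ∈ A₀ ⊔ R → ∃ t : ↥S, (t : Ω) ∈ A₀ ∧
      QuotientGroup.mk' (R.subgroupOf S) a = QuotientGroup.mk' (R.subgroupOf S) t := by
    intro a ha
    obtain ⟨t, ht, r, hr, e⟩ := exists_mul_of_mem_sup hnorm ha
    refine ⟨⟨t, hTS ht⟩, ht, ?_⟩
    have hrS : r ∈ S := hR.1 hr
    have e' : a = (⟨t, hTS ht⟩ : ↥S) * ⟨r, hrS⟩ := Subtype.ext e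
    rw [e', map_mul, (mk'_ker_iff R ⟨r, hrS⟩).mpr hr, mul_one]
  refine (Cfsg.Agent.S5089.result p hS' E hEsat).mpr ⟨_, ?_, ?_, hA'⟩
  · intro hbot
    apply hi
    intro t ht
    have htS : t ∈ S := hTS ht
    have hmem : QuotientGroup.mk' (R.subgroupOf S) ⟨t, htS⟩ ∈
        ((A₀ ⊔ R).subgroupOf S).map (QuotientGroup.mk' (R.subgroupOf S)) :=
      ⟨⟨t, htS⟩, Subgroup.mem_subgroupOf.mpr ((le_sup_left : A₀ ≤ _) ht), rfl⟩
    rw [hbot, Subgroup.mem_bot] at hmem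
    exact (mk'_ker_iff R ⟨t, htS⟩).mp hmem
  · refine ⟨⟨fun a b => Subtype.ext ?_⟩⟩
    obtain ⟨a0, ha0, hae⟩ := a.2
    obtain ⟨b0, hb0, hbe⟩ := b.2
    obtain ⟨ta, hta, hea⟩ := hdecomp a0 (Subgroup.mem_subgroupOf.mp ha0)
    obtain ⟨tb, htb, heb⟩ := hdecomp b0 (Subgroup.mem_subgroupOf.mp hb0)
    show (a : ↥S ⧸ R.subgroupOf S) * b = b * a
    rw [← hae, ← hbe, hea, heb, ← map_mul, ← map_mul]
    have hc : ⁅(ta : Ω), (tb : Ω)⁆ ∈ R :=
      hjR (Subgroup.commutator_mem_commutator hta htb)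
    have hc' : QuotientGroup.mk' (R.subgroupOf S) ⁅ta, tb⁆ = 1 := by
      refine (mk'_ker_iff R _).mpr ?_
      simpa [commutatorElement_def] using hc
    have e : ta * tb = ⁅ta, tb⁆ * (tb * ta) := by
      rw [commutatorElement_def]; group
    rw [e, map_mul, hc', one_mul]

theorem solvable_of_rtg [Finite S] {p : ℕ} [Fact p.Prime] (hS : IsPGroup p S)
    {F : FusionSystem S} (hF : F.IsSaturated p)
    (h : Relation.ReflTransGen (StepRel F) ⊥ S) : F.IsSolvableSystem := by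
  intro R hR hne _ E hE
  have hSR : ¬ S ≤ R := fun hle => hne (le_antisymm hR.1 hle)
  obtain ⟨A, hA, hAR, hAc⟩ := exists_step_of_rtg F h R hSR
  exact core_ne_bot_of_step hS hF hR hE hA hAR hAc

/-- The smallest strongly closed subgroup containing `X`. -/
def scClosure {T : Subgroup Ω} (E : FusionSystem T) (X : Subgroup Ω) : Subgroup Ω :=
  sInf {R | E.StronglyClosed R ∧ X ≤ R}

theorem le_scClosure {T : Subgroup Ω} (E : FusionSystem T) (X : Subgroup Ω) :
    X ≤ scClosure E X :=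
  le_sInf fun _ hR => hR.2

theorem scClosure_le {T : Subgroup Ω} (E : FusionSystem T) {X R : Subgroup Ω}
    (hR : E.StronglyClosed R) (hX : X ≤ R) : scClosure E X ≤ R :=
  sInf_le ⟨hR, hX⟩

theorem scClosure_stronglyClosed {T : Subgroup Ω} (E : FusionSystem T) {X : Subgroup Ω}
    (hX : X ≤ T) : E.StronglyClosed (scClosure E X) := by
  refine ⟨scClosure_le E (stronglyClosed_top E) hX, fun P hP φ hφ x => ?_⟩
  refine Subgroup.mem_sInf.mpr fun R hR => ?_
  exact hR.1.2 P (hP.trans (sInf_le hR)) φ hφ x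

/-- `W` is strongly closed in `E` and invariant under `Aut_F(T)`. -/
def InvSC {T : Subgroup Ω} (E : FusionSystem T) (F : FusionSystem S) (W : Subgroup Ω) : Prop :=
  E.StronglyClosed W ∧ ∀ α ∈ F.autGroup T, ∀ x : T, (x : Ω) ∈ W → ((α x : T) : Ω) ∈ W

theorem stronglyClosed_of_invSC {T : Subgroup Ω} {E : FusionSystem T} {F : FusionSystem S}
    (hinv : E.IsInvariantIn F) {W : Subgroup Ω} (hW : InvSC E F W) : F.StronglyClosed W := by
  refine ⟨hW.1.1.trans hinv.2.1.1, fun P hP ψ hψ x => ?_⟩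
  obtain ⟨α, hα, φ₀, hφ₀, h⟩ := hinv.2.2.2 P (hP.trans hW.1.1) ψ hψ
  rw [h x (apply_mem E hφ₀ x)]
  exact hW.2 α hα _ (hW.1.2 P hP φ₀ hφ₀ x)

theorem invSC_commutator {T : Subgroup Ω} {E : FusionSystem T} {F : FusionSystem S}
    {W : Subgroup Ω} (hW : InvSC E F W) :
    ∀ α ∈ F.autGroup T, ∀ x : T, (x : Ω) ∈ ⁅W, W⁆ → ((α x : T) : Ω) ∈ ⁅W, W⁆ := by
  intro α hα
  have hWT : W ≤ T := hW.1.1
  have key : ⁅W, W⁆ ≤ ((⁅W, W⁆.subgroupOf T).comap α.toMonoidHom).map T.subtype := by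
    rw [Subgroup.commutator_le]
    intro a ha b hb
    refine ⟨⁅(⟨a, hWT ha⟩ : T), ⟨b, hWT hb⟩⁆, ?_, rfl⟩
    show α.toMonoidHom ⁅(⟨a, hWT ha⟩ : T), ⟨b, hWT hb⟩⁆ ∈ ⁅W, W⁆.subgroupOf T
    rw [map_commutatorElement, Subgroup.mem_subgroupOf]
    have h1 := hW.2 α hα ⟨a, hWT ha⟩ ha
    have h2 := hW.2 α hα ⟨b, hWT hb⟩ hb
    have := Subgroup.commutator_mem_commutator h1 h2
    simpa [commutatorElement_def] using this
  intro x hx
  obtain ⟨y, hy, hyx⟩ := key hx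
  have e : y = x := Subtype.ext hyx
  rw [← e]
  exact Subgroup.mem_subgroupOf.mp hy

theorem invSC_scClosure {T : Subgroup Ω} {E : FusionSystem T} {F : FusionSystem S}
    (hinv : E.IsInvariantIn F) {X : Subgroup Ω} (hXT : X ≤ T)
    (hX : ∀ α ∈ F.autGroup T, ∀ x : T, (x : Ω) ∈ X → ((α x : T) : Ω) ∈ X) :
    InvSC E F (scClosure E X) := by
  refine ⟨scClosure_stronglyClosed E hXT, fun α hα x hx => ?_⟩
  refine Subgroup.mem_sInf.mpr fun R hR => ?_
  have hmem : ((R.subgroupOf T).comap α.toMonoidHom).map T.subtype ∈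
      {R | E.StronglyClosed R ∧ X ≤ R} := by
    refine ⟨⟨Subgroup.map_subtype_le _, fun P hP φ hφ z => ?_⟩, ?_⟩
    · have hPT : P ≤ T := hP.trans (Subgroup.map_subtype_le _)
      obtain ⟨χ, hχ, hχe⟩ := hinv.2.2.1 P hPT φ hφ α hα
      have hφT : φ z ∈ T := apply_mem E hφ z
      refine ⟨⟨φ z, hφT⟩, ?_, rfl⟩
      show α.toMonoidHom ⟨φ z, hφT⟩ ∈ R.subgroupOf T
      rw [Subgroup.mem_subgroupOf]
      have hαz : ((α ⟨z, hPT z.2⟩ : T) : Ω) ∈
          (P.subgroupOf T).map (T.subtype.comp α.toMonoidHom) :=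
        ⟨⟨z, hPT z.2⟩, Subgroup.mem_subgroupOf.mpr z.2, rfl⟩
      have hαPR : (P.subgroupOf T).map (T.subtype.comp α.toMonoidHom) ≤ R := by
        rintro _ ⟨y, hy, rfl⟩
        obtain ⟨y', hy', hyy⟩ := hP (Subgroup.mem_subgroupOf.mp hy)
        have e : y' = y := Subtype.ext hyy
        rw [← e]
        exact Subgroup.mem_subgroupOf.mp hy'
      have h1 := hR.1.2 _ hαPR χ hχ ⟨_, hαz⟩
      rw [hχe z hφT hαz] at h1
      exact h1
    · intro y hy
      refine ⟨⟨y, hXT hy⟩, ?_, rfl⟩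
      show α.toMonoidHom ⟨y, hXT hy⟩ ∈ R.subgroupOf T
      rw [Subgroup.mem_subgroupOf]
      exact hR.2 (hX α hα ⟨y, hXT hy⟩ hy)
  obtain ⟨y, hy, hyx⟩ := (sInf_le hmem : scClosure E X ≤ _) hx
  have e : y = x := Subtype.ext hyx
  rw [← e]
  exact Subgroup.mem_subgroupOf.mp hy

/-- An abelian series of `E`-strongly closed subgroups below `T` can be replaced by one of
`F`-strongly closed subgroups, when `E` is invariant in `F`. -/
theorem rtg_of_invariant {T : Subgroup Ω} {E : FusionSystem T} {F : FusionSystem S}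
    (hinv : E.IsInvariantIn F) {X : Subgroup Ω}
    (h : Relation.ReflTransGen (StepRel E) X T) :
    E.StronglyClosed X → ∃ W ≤ X, InvSC E F W ∧ Relation.ReflTransGen (StepRel F) W T := by
  induction h using Relation.ReflTransGen.head_induction_on with
  | refl =>
    intro _
    exact ⟨T, le_rfl, ⟨stronglyClosed_top E, fun α _ x _ => (α x).2⟩, Relation.ReflTransGen.refl⟩
  | @head a c hac _ ih =>
    intro ha
    obtain ⟨W', hW'c, hW', hrtg⟩ := ih hac.1
    have hcomm : ⁅W', W'⁆ ≤ a := (Subgroup.commutator_mono hW'c hW'c).trans hac.2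
    refine ⟨scClosure E ⁅W', W'⁆, scClosure_le E ha hcomm,
      invSC_scClosure hinv (hcomm.trans ha.1) (invSC_commutator hW'), ?_⟩
    exact Relation.ReflTransGen.head ⟨stronglyClosed_of_invSC hinv hW', le_scClosure E _⟩ hrtg

theorem rtg_bot_of_invariant {T : Subgroup Ω} {E : FusionSystem T} {F : FusionSystem S}
    (hinv : E.IsInvariantIn F) (h : Relation.ReflTransGen (StepRel E) ⊥ T) :
    Relation.ReflTransGen (StepRel F) ⊥ T := by
  obtain ⟨W, hW, -, hrtg⟩ := rtg_of_invariant hinv h (stronglyClosed_bot E)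
  rw [le_bot_iff] at hW
  rw [hW] at hrtg
  exact hrtg

/-- Lifting an abelian series of the factor system to the preimages. -/
theorem rtg_preimage [Finite S] {p : ℕ} [Fact p.Prime] (hS : IsPGroup p S)
    {F : FusionSystem S} (hF : F.IsSaturated p) {T : Subgroup Ω} (hT : F.StronglyClosed T)
    {θ : ↥S →* Ω'} {D : FusionSystem S'} (hD : F.IsFactorSystem T θ D) {X' Y' : Subgroup Ω'}
    (h : Relation.ReflTransGen (StepRel D) X' Y') :
    Relation.ReflTransGen (StepRel F) (preimageAlong θ X') (preimageAlong θ Y') := by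
  refine Relation.ReflTransGen.lift (preimageAlong θ) (fun a b hab => ?_) _ _ h
  refine ⟨preimage_stronglyClosed hS hF hT hD hab.1, ?_⟩
  rw [Subgroup.commutator_le]
  intro x hx y hy
  obtain ⟨hxS, hx'⟩ := mem_preimageAlong.mp hx
  obtain ⟨hyS, hy'⟩ := mem_preimageAlong.mp hy
  have hcS : ⁅x, y⁆ ∈ S := by
    rw [commutatorElement_def]
    exact S.mul_mem (S.mul_mem (S.mul_mem hxS hyS) (S.inv_mem hxS)) (S.inv_mem hyS)
  refine mem_preimageAlong.mpr ⟨hcS, ?_⟩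
  have e : (⟨⁅x, y⁆, hcS⟩ : S) = ⁅(⟨x, hxS⟩ : S), ⟨y, hyS⟩⁆ := by
    apply Subtype.ext
    simp [commutatorElement_def]
  rw [e, map_commutatorElement]
  exact hab.2 (Subgroup.commutator_mem_commutator hx' hy')

theorem preimageAlong_bot {F : FusionSystem S} {T : Subgroup Ω} {θ : ↥S →* Ω'}
    {D : FusionSystem S'} (hD : F.IsFactorSystem T θ D) : preimageAlong θ ⊥ = T := by
  ext x
  rw [mem_preimageAlong]
  constructor
  · rintro ⟨hxS, hx⟩
    exact (hD.2.1 _).mp (Subgroup.mem_bot.mp hx)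
  · intro hx
    exact ⟨hD.1 hx, Subgroup.mem_bot.mpr ((hD.2.1 _).mpr hx)⟩

theorem preimageAlong_top' {F : FusionSystem S} {T : Subgroup Ω} {θ : ↥S →* Ω'}
    {D : FusionSystem S'} (hD : F.IsFactorSystem T θ D) : preimageAlong θ S' = S := by
  ext x
  rw [mem_preimageAlong]
  constructor
  · rintro ⟨hxS, -⟩
    exact hxS
  · intro hx
    refine ⟨hx, ?_⟩
    rw [← hD.2.2.1]
    exact ⟨_, rfl⟩

end Cfsg.Agent.Lib.Helper27
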