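import Mathlib
import Cfsg.Agent.Lib.Helper27.GTBasic
import Cfsg.Agent.Lib.Helper27.FusJoin

/-!
# Witnesses for a non-inner normalizer system

`NormWit p F V`: some subgroup `U` with `V ≤ U ≤ N_S(V)` has a nontrivial `F`-automorphism of order
prime to `p` leaving `V` invariant.  For fully normalized `V` this says exactly that `N_F(V)` is not
inner.  Witnesses can be transported along a map defined on `N_S(V)`.
-/

set_option autoImplicit false

namespace Cfsg.Agent.Lib.Helper27.GT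

open Cfsg Cfsg.FusionSystem Cfsg.Agent.Lib.Helper26 Cfsg.Agent.Lib.Helper27

universe u

variable {Ω : Type u} [Group Ω] {S : Subgroup Ω}

/-- a witness that the normalizer system of `V` is not inner -/
def NormWit (p : ℕ) (F : FusionSystem S) (V : Subgroup Ω) : Prop :=
  ∃ (U : Subgroup Ω) (β : MulAut U), V ≤ U ∧ U ≤ normalizerIn S V ∧ PAut p F U β ∧
    ∀ x : U, (x : Ω) ∈ V → ((β x : U) : Ω) ∈ V

/-- an injective self-map of a finite subgroup is onto -/
theorem map_subgroupOf_eq_of_invariant [Finite S] {V U : Subgroup Ω} (hVU : V ≤ U) (hUS : U ≤ S)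
    (β : MulAut U) (hinv : ∀ x : U, (x : Ω) ∈ V → ((β x : U) : Ω) ∈ V) :
    (V.subgroupOf U).map (U.subtype.comp β.toMonoidHom) = V := by
  haveI : Finite V := finite_of_le (hVU.trans hUS)
  apply Subgroup.eq_of_le_of_card_ge
  · rintro _ ⟨x, hx, rfl⟩
    exact hinv x (Subgroup.mem_subgroupOf.mp hx)
  · have hinj : Function.Injective (U.subtype.comp β.toMonoidHom) :=
      U.subtype_injective.comp β.injective
    rw [Subgroup.card_map_of_injective hinj]
    exact (Nat.card_congr (Subgroup.subgroupOfEquivOfLe hVU).toEquiv).ge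

theorem mem_normalizerHom_of_aut [Finite S] (F : FusionSystem S) {V U : Subgroup Ω} (hVU : V ≤ U)
    (hUN : U ≤ normalizerIn S V) {β : MulAut U} (hβ : β ∈ F.autGroup U)
    (hinv : ∀ x : U, (x : Ω) ∈ V → ((β x : U) : Ω) ∈ V) :
    U.subtype.comp β.toMonoidHom ∈ F.normalizerHom V U := by
  have hUS : U ≤ S := hUN.trans inf_le_left
  have hφ : U.subtype.comp β.toMonoidHom ∈ F.Hom U := (mem_autGroup_iff F hUS).mp hβ
  refine ⟨hφ, hUN, fun x => hUN (β x).2, ?_⟩
  obtain ⟨ψ, hψ, h1, h2⟩ := hom_cast' F (sup_eq_left.mpr hVU).symm _ hφ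
  refine ⟨ψ, hψ, fun x => h1 x x.2 _, ?_⟩
  rw [h2 V]
  exact map_subgroupOf_eq_of_invariant hVU hUS β hinv

theorem not_inner_of_normWit [Finite S] {p : ℕ} [Fact p.Prime] (hS : IsPGroup p S)
    {F : FusionSystem S} {V : Subgroup Ω} (h : NormWit p F V)
    {N : FusionSystem (normalizerIn S V)} (hN : F.IsNormalizerSystem V N) : ¬ Inner N := by
  intro hin
  obtain ⟨U, β, hVU, hUN, hβ, hinv⟩ := h
  have hβN : β ∈ N.autGroup U := by
    rw [mem_autGroup_iff N hUN, hN U]
    exact mem_normalizerHom_of_aut F hVU hUN hβ.1 hinv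
  exact not_paut_of_inner (hS.to_le (normalizerIn_le S V)) hin hUN ⟨hβN, hβ.2.1, hβ.2.2⟩

/-- the automorphisms leaving `V` invariant form a submonoid -/
def stabMon {U : Subgroup Ω} (V : Subgroup Ω) : Submonoid (MulAut U) where
  carrier := {γ | ∀ x : U, (x : Ω) ∈ V → ((γ x : U) : Ω) ∈ V}
  one_mem' := fun x hx => hx
  mul_mem' := fun {a b} ha hb x hx => ha _ (hb x hx)

theorem normWit_of_not_inner [Finite S] {p : ℕ} [Fact p.Prime] (hS : IsPGroup p S)
    {F : FusionSystem S} (hF : F.IsSaturated p) {V : Subgroup Ω} (hV : F.IsFullyNormalized V)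
    {N : FusionSystem (normalizerIn S V)} (hN : F.IsNormalizerSystem V N) (h : ¬ Inner N) :
    NormWit p F V := by
  have hVS : V ≤ S := hV.1
  haveI : Finite ↥(normalizerIn S V) := finite_of_le (normalizerIn_le S V)
  have hNsat : N.IsSaturated p := normalizerSystem_saturated hS F hF hV N hN
  obtain ⟨U₀, β₀, hU₀, hβ₀, hβ₀1, hβ₀ord⟩ :=
    exists_paut_of_not_inner (hS.to_le (normalizerIn_le S V)) N hNsat h
  have hφ₀ : U₀.subtype.comp β₀.toMonoidHom ∈ F.normalizerHom V U₀ := by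
    rw [← hN U₀]
    exact (mem_autGroup_iff N hU₀).mp hβ₀
  obtain ⟨hφ₀F, -, -, ψ, hψ, hext, hmapV⟩ := hφ₀
  have hr₀ : (U₀.subtype.comp β₀.toMonoidHom).range = U₀ := by
    ext z
    constructor
    · rintro ⟨x, rfl⟩
      exact (β₀ x).2
    · intro hz
      exact ⟨β₀⁻¹ ⟨z, hz⟩, by simp⟩
  have hr : ψ.range = U₀ ⊔ V := by
    rw [range_ext_eq hext hmapV, hr₀]
  have hUS : U₀ ⊔ V ≤ S := source_le F hψ
  haveI : Finite (MulAut ↥(U₀ ⊔ V)) := finite_mulAut_of_le hUS
  obtain ⟨k, hk, hkord⟩ := exists_pprime_pow p (autOfHom F hψ hr) hβ₀ord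
  have hγ : autOfHom F hψ hr ∈ F.autGroup (U₀ ⊔ V) := autOfHom_mem F hψ hr
  have hres : ∀ x : U₀, (((autOfHom F hψ hr) ⟨x, (le_sup_left : U₀ ≤ U₀ ⊔ V) x.2⟩ : ↥(U₀ ⊔ V)) : Ω)
      = (β₀ x : U₀) := by
    intro x
    rw [autOfHom_apply]
    exact hext x
  have hpow := aut_pow_restrict (le_sup_left : U₀ ≤ U₀ ⊔ V) (autOfHom F hψ hr) β₀ hres k
  have hβ₀k : β₀ ^ k = β₀ := by
    rw [← pow_mod_orderOf, hk, pow_mod_orderOf, pow_one]
  refine ⟨U₀ ⊔ V, (autOfHom F hψ hr) ^ k, le_sup_right,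
    sup_le hU₀ (le_normalizerIn_self hVS), ⟨Subgroup.pow_mem _ hγ k, ?_, hkord⟩, ?_⟩
  · intro h1
    apply hβ₀1
    ext x
    have := hpow x
    rw [h1, hβ₀k] at this
    exact this.symm
  · have hmem : autOfHom F hψ hr ∈ stabMon (U := U₀ ⊔ V) V := by
      intro x hx
      rw [autOfHom_apply]
      have : ψ x ∈ (V.subgroupOf (U₀ ⊔ V)).map ψ := ⟨x, Subgroup.mem_subgroupOf.mpr hx, rfl⟩
      rw [hmapV] at this
      exact this
    exact Submonoid.pow_mem _ hmem k

/-- transport of witnesses along a map defined on the normalizer -/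
theorem normWit_transport [Finite S] {p : ℕ} [Fact p.Prime] {F : FusionSystem S}
    {X V : Subgroup Ω} (hXS : X ≤ S) (M : NormalizerHom F X V) (h : NormWit p F X) :
    NormWit p F V := by
  obtain ⟨U, β, hXU, hUN, ⟨hβ, hβ1, hβord⟩, hinv⟩ := h
  have hres : M.φ.comp (Subgroup.inclusion hUN) ∈ F.Hom U := restrict_mem F M.mem hUN
  obtain ⟨e, he, hex⟩ := exists_iso_of_hom F hres rfl
  refine ⟨(M.φ.comp (Subgroup.inclusion hUN)).range, MulAut.congr e β, ?_, ?_,
    ⟨congr_mem_autGroup he hβ, ?_, ?_⟩, ?_⟩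
  · intro y hy
    obtain ⟨x, rfl⟩ := M.exists_preimage hXS hy
    exact ⟨⟨x, hXU x.2⟩, rfl⟩
  · rintro _ ⟨x, rfl⟩
    exact M.maps _
  · intro h1
    apply hβ1
    have : MulAut.congr e β = MulAut.congr e 1 := by rw [h1, map_one]
    exact (MulAut.congr e).injective this
  · rw [MulEquiv.orderOf_eq]
    exact hβord
  · intro y hy
    -- `y = φ x` with `x ∈ U`, and `y ∈ V = φ(X)`
    obtain ⟨x', hx'⟩ := M.exists_preimage hXS hy
    have hy' : ((e (e.symm y) : _) : Ω) = (y : Ω) := by rw [MulEquiv.apply_symm_apply]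
    rw [hex] at hy'
    have hxx : (⟨(e.symm y : U), hUN (e.symm y).2⟩ : ↥(normalizerIn S X)) =
        ⟨x', le_normalizerIn_self hXS x'.2⟩ := by
      apply M.injective
      rw [hx']
      exact hy'
    have hxX : ((e.symm y : U) : Ω) ∈ X := by
      have := congrArg (fun r : ↥(normalizerIn S X) => (r : Ω)) hxx
      simp only at this
      rw [this]
      exact x'.2
    have h2 := hinv (e.symm y) hxX
    show (((MulAut.congr e β) y : _) : Ω) ∈ V
    have h3 : (MulAut.congr e β) y = e (β (e.symm y)) := rfl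
    rw [h3, hex]
    exact M.apply_mem_of_mem hXS ⟨_, h2⟩

end Cfsg.Agent.Lib.Helper27.GT
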