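import Mathlib
import Cfsg.Agent.Lib.Helper27.GTWit
import Cfsg.Agent.Lib.Helper26.Realize2
import Cfsg.Agent.Lib.Helper1.NPC2
import Cfsg.Agent.S0071

/-!
# Realized systems, normal `p`-complements and witnesses

For a fusion system `F` over `S` realized by `ι : S →* L` with `ι(S)` a Sylow `p`-subgroup of `L`:

* `inner_of_npc`: if `L` has a normal `p`-complement then `F` is inner;
* `npc_normalizer_of_not_normWit`: if `X ⊴ S` has no witness then `N_L(ι X)` has a normal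
  `p`-complement.
-/

set_option autoImplicit false

namespace Cfsg.Agent.Lib.Helper27.GT

open Cfsg Cfsg.FusionSystem Cfsg.Agent.Lib.Helper26 Cfsg.Agent.Lib.Helper27

universe u

variable {Ω : Type u} [Group Ω] {S : Subgroup Ω} {L : Type u} [Group L]

/-- a group with a normal `p`-complement induces the inner fusion system on its Sylow subgroup -/
theorem inner_of_npc [Finite L] {p : ℕ} [Fact p.Prime] {F : FusionSystem S} {ι : S →* L}
    (hR : F.IsRealizedBy ι) (T : Sylow p L) (hT : (T : Subgroup L) = ι.range)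
    (h : HasNormalPComplement p L) : Inner F := by
  obtain ⟨N, hNn, hNc⟩ := (Cfsg.Agent.Lib.Helper1.hasNormalPComplement_iff T).mp h
  have hdisj : N ⊓ (T : Subgroup L) = ⊥ := hNc.disjoint.eq_bot
  apply inner_of_le
  intro P φ hφ
  have hPS : P ≤ S := source_le F hφ
  obtain ⟨g, hg⟩ := exists_of_mem_hom F hR hφ
  -- decompose `g = t * n`
  have hg' : g ∈ N ⊔ (T : Subgroup L) := by
    rw [hNc.sup_eq_top]
    exact Subgroup.mem_top g
  rw [Subgroup.mem_sup_of_normal_left] at hg'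
  obtain ⟨n, hn, t, ht, rfl⟩ := hg'
  rw [hT] at ht
  obtain ⟨s, rfl⟩ := ht
  refine ⟨hPS, s, s.2, fun x => ?_⟩
  have hx := hg x
  -- `y = ι x`
  have hyT : ι ⟨x, hPS x.2⟩ ∈ (T : Subgroup L) := by
    rw [hT]
    exact ⟨_, rfl⟩
  have hgyT : n * ι s * ι ⟨x, hPS x.2⟩ * (n * ι s)⁻¹ ∈ (T : Subgroup L) := by
    rw [← hx, hT]
    exact ⟨_, rfl⟩
  have hsyT : ι s * ι ⟨x, hPS x.2⟩ * (ι s)⁻¹ ∈ (T : Subgroup L) := by
    rw [hT, ← map_inv, ← map_mul, ← map_mul]
    exact ⟨_, rfl⟩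
  -- the commutator lies in `N ⊓ T`
  have hc : n * (ι s * ι ⟨x, hPS x.2⟩ * (ι s)⁻¹) * n⁻¹ * (ι s * ι ⟨x, hPS x.2⟩ * (ι s)⁻¹)⁻¹ ∈
      N ⊓ (T : Subgroup L) := by
    refine ⟨?_, ?_⟩
    · have e : n * (ι s * ι ⟨x, hPS x.2⟩ * (ι s)⁻¹) * n⁻¹ * (ι s * ι ⟨x, hPS x.2⟩ * (ι s)⁻¹)⁻¹ =
          n * ((ι s * ι ⟨x, hPS x.2⟩ * (ι s)⁻¹) * n⁻¹ * (ι s * ι ⟨x, hPS x.2⟩ * (ι s)⁻¹)⁻¹) := by
        group
      rw [e]
      exact N.mul_mem hn (hNn.conj_mem _ (N.inv_mem hn) _)
    · refine Subgroup.mul_mem _ ?_ (Subgroup.inv_mem _ hsyT)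
      have e : n * (ι s * ι ⟨x, hPS x.2⟩ * (ι s)⁻¹) * n⁻¹ =
          n * ι s * ι ⟨x, hPS x.2⟩ * (n * ι s)⁻¹ := by group
      rw [e]
      exact hgyT
  rw [hdisj, Subgroup.mem_bot] at hc
  have h1 : n * ι s * ι ⟨x, hPS x.2⟩ * (n * ι s)⁻¹ = ι s * ι ⟨x, hPS x.2⟩ * (ι s)⁻¹ := by
    have e : n * ι s * ι ⟨x, hPS x.2⟩ * (n * ι s)⁻¹ =
        (n * (ι s * ι ⟨x, hPS x.2⟩ * (ι s)⁻¹) * n⁻¹ * (ι s * ι ⟨x, hPS x.2⟩ * (ι s)⁻¹)⁻¹) *
          (ι s * ι ⟨x, hPS x.2⟩ * (ι s)⁻¹) := by group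
    rw [e, hc, one_mul]
  rw [h1, ← map_inv, ← map_mul, ← map_mul] at hx
  have := hR.1 hx
  exact congrArg (fun r : S => (r : Ω)) this

theorem conj_imSub_eq {ι : S →* L} {X : Subgroup Ω} (hXS : X ≤ S)
    (hSX : S ≤ Subgroup.normalizer (X : Set Ω)) (s : S) {y : L} (hy : y ∈ imSub ι X) :
    ι s * y * (ι s)⁻¹ ∈ imSub ι X := by
  obtain ⟨x, hxS, hx, rfl⟩ := mem_imSub_iff.mp hy
  rw [← map_inv, ← map_mul, ← map_mul]
  exact apply_mem_imSub ι _ ((Subgroup.mem_normalizer_iff.mp (hSX s.2) x).mp hx)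

theorem range_le_normalizer_imSub {ι : S →* L} {X : Subgroup Ω} (hXS : X ≤ S)
    (hSX : S ≤ Subgroup.normalizer (X : Set Ω)) :
    ι.range ≤ Subgroup.normalizer (imSub ι X : Set L) := by
  rintro _ ⟨s, rfl⟩
  refine mem_normalizer_of_forall (fun y hy => conj_imSub_eq hXS hSX s hy) (fun y hy => ?_)
  have := conj_imSub_eq hXS hSX s⁻¹ hy
  rwa [map_inv, inv_inv] at this

/-- the automorphism induced by an element normalizing the image of `U` -/
theorem exists_aut_of_normalizes [Finite S] {F : FusionSystem S} {ι : S →* L}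
    (hR : F.IsRealizedBy ι) {U₁ : Subgroup L} (hU₁ : U₁ ≤ ι.range) {g : L}
    (hg : g ∈ Subgroup.normalizer (U₁ : Set L)) :
    ∃ β ∈ F.autGroup (preSub ι U₁), ∀ x : ↥(preSub ι U₁),
      ι ⟨β x, preSub_le ι U₁ (β x).2⟩ = g * ι ⟨x, preSub_le ι U₁ x.2⟩ * g⁻¹ := by
  have hUS := preSub_le ι U₁
  have hmem : ∀ x : ↥(preSub ι U₁), g * ι ⟨x, hUS x.2⟩ * g⁻¹ ∈ U₁ := by
    intro x
    obtain ⟨hxS, hx⟩ := mem_preSub_iff.mp x.2
    exact (Subgroup.mem_normalizer_iff.mp hg _).mp hx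
  have h : ∀ x : ↥(preSub ι U₁), g * ι ⟨x, hUS x.2⟩ * g⁻¹ ∈ ι.range := fun x => hU₁ (hmem x)
  have hφ := pullHom_mem_hom F hR (preSub ι U₁) hUS g h
  have hle : (pullHom hR.1 (preSub ι U₁) hUS g h).range ≤ preSub ι U₁ := by
    rintro _ ⟨x, rfl⟩
    refine mem_preSub_iff.mpr ⟨pullHom_mem hR.1 _ hUS g h x, ?_⟩
    rw [apply_pullHom]
    exact hmem x
  have hr := range_eq_of_range_le F hφ hle
  refine ⟨autOfHom F hφ hr, autOfHom_mem F hφ hr, fun x => ?_⟩
  exact apply_pullHom hR.1 _ hUS g h x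

theorem pow_conj_apply {ι : S →* L} {U : Subgroup Ω} (hUS : U ≤ S) (β : MulAut U) (g : L)
    (h : ∀ x : U, ι ⟨β x, hUS (β x).2⟩ = g * ι ⟨x, hUS x.2⟩ * g⁻¹) (m : ℕ) :
    ∀ x : U, ι ⟨(β ^ m) x, hUS ((β ^ m) x).2⟩ = g ^ m * ι ⟨x, hUS x.2⟩ * (g ^ m)⁻¹ := by
  induction m with
  | zero => intro x; simp
  | succ m ih =>
    intro x
    rw [pow_succ', MulAut.mul_apply, h, ih, pow_succ']
    group

/-- if `X ⊴ S` has no witness, then the normalizer of its image has a normal `p`-complement -/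
theorem npc_normalizer_of_not_normWit [Finite S] [Finite L] {p : ℕ} [Fact p.Prime]
    {F : FusionSystem S} {ι : S →* L} (hR : F.IsRealizedBy ι) (T : Sylow p L)
    (hT : (T : Subgroup L) = ι.range) {X : Subgroup Ω} (hXS : X ≤ S)
    (hSX : S ≤ Subgroup.normalizer (X : Set Ω)) (hX : ¬ NormWit p F X) :
    HasNormalPComplement p ↥(Subgroup.normalizer (imSub ι X : Set L)) := by
  have hTH : (T : Subgroup L) ≤ Subgroup.normalizer (imSub ι X : Set L) := by
    rw [hT]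
    exact range_le_normalizer_imSub hXS hSX
  rw [Cfsg.Agent.Lib.Helper1.hasNormalPComplement_iff (T.subtype hTH)]
  rw [Cfsg.Agent.S0071.result (T.subtype hTH)]
  intro Q hQ g hgQ hgord
  rw [Subgroup.mem_centralizer_iff]
  intro q hq
  -- the subgroup `U₁ = Q₀ ⊔ ι X`
  have hQ₀ : Q.map (Subgroup.normalizer (imSub ι X : Set L)).subtype ≤ ι.range := by
    rintro _ ⟨y, hy, rfl⟩
    have := hQ hy
    rw [Sylow.coe_subtype, Subgroup.mem_subgroupOf, hT] at this
    exact this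
  have hU₁ : Q.map (Subgroup.normalizer (imSub ι X : Set L)).subtype ⊔ imSub ι X ≤ ι.range :=
    sup_le hQ₀ (imSub_le_range ι X)
  have hgn : (g : L) ∈ Subgroup.normalizer
      ((Q.map (Subgroup.normalizer (imSub ι X : Set L)).subtype ⊔ imSub ι X : Subgroup L) : Set L) := by
    have h1 : (g : L) ∈ Subgroup.normalizer
        ((Q.map (Subgroup.normalizer (imSub ι X : Set L)).subtype : Subgroup L) : Set L) := by
      refine mem_normalizer_of_forall ?_ ?_
      · rintro _ ⟨y, hy, rfl⟩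
        exact ⟨g * y * g⁻¹, (Subgroup.mem_normalizer_iff.mp hgQ y).mp hy, rfl⟩
      · rintro _ ⟨y, hy, rfl⟩
        exact ⟨g⁻¹ * y * g, (Subgroup.mem_normalizer_iff''.mp hgQ y).mp hy, rfl⟩
    have h2 : (g : L) ∈ Subgroup.normalizer ((imSub ι X : Subgroup L) : Set L) := g.2
    refine mem_normalizer_of_forall (fun y hy => ?_) (fun y hy => ?_)
    · have hy' : y ∈ (Q.map (Subgroup.normalizer (imSub ι X : Set L)).subtype ⊔ imSub ι X).comap
          (MulAut.conj (g : L)).toMonoidHom := by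
        revert y
        rw [← SetLike.le_def]
        refine sup_le (fun y hy => ?_) (fun y hy => ?_)
        · exact Subgroup.mem_sup_left ((Subgroup.mem_normalizer_iff.mp h1 y).mp hy)
        · exact Subgroup.mem_sup_right ((Subgroup.mem_normalizer_iff.mp h2 y).mp hy)
      exact hy'
    · have hy' : y ∈ (Q.map (Subgroup.normalizer (imSub ι X : Set L)).subtype ⊔ imSub ι X).comap
          (MulAut.conj (g : L)⁻¹).toMonoidHom := by
        revert y
        rw [← SetLike.le_def]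
        refine sup_le (fun y hy => ?_) (fun y hy => ?_)
        · refine Subgroup.mem_sup_left ?_
          have := (Subgroup.mem_normalizer_iff''.mp h1 y).mp hy
          simpa using this
        · refine Subgroup.mem_sup_right ?_
          have := (Subgroup.mem_normalizer_iff''.mp h2 y).mp hy
          simpa using this
      simpa using hy'
  obtain ⟨β, hβ, hβg⟩ := exists_aut_of_normalizes hR hU₁ hgn
  have hUS := preSub_le ι (Q.map (Subgroup.normalizer (imSub ι X : Set L)).subtype ⊔ imSub ι X)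
  haveI := finite_mulAut_of_le hUS
  -- the order of `β` is prime to `p`
  have hpow := pow_conj_apply hUS β (g : L) hβg (orderOf g)
  have hβord : (orderOf β).Coprime p := by
    have h1 : β ^ orderOf g = 1 := by
      ext x
      have := hpow x
      rw [← Subgroup.coe_pow, pow_orderOf_eq_one, Subgroup.coe_one, one_mul, inv_one, mul_one] at this
      have := hR.1 this
      exact congrArg (fun r : S => (r : Ω)) this
    exact Nat.Coprime.coprime_dvd_left (orderOf_dvd_of_pow_eq_one h1) hgord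
  -- `β` is trivial
  have hβ1 : β = 1 := by
    by_contra hne
    apply hX
    refine ⟨_, β, ?_, hUS.trans (le_inf le_rfl hSX), ⟨hβ, hne, hβord⟩, ?_⟩
    · intro x hx
      exact mem_preSub_iff.mpr ⟨hXS hx, Subgroup.mem_sup_right (apply_mem_imSub ι (hXS hx) hx)⟩
    · intro x hx
      have h1 : ι ⟨β x, hUS (β x).2⟩ ∈ imSub ι X := by
        rw [hβg]
        exact (Subgroup.mem_normalizer_iff.mp g.2 _).mp (apply_mem_imSub ι (hUS x.2) hx)
      have h2 : ((β x : _) : Ω) ∈ preSub ι (imSub ι X) := mem_preSub_iff.mpr ⟨_, h1⟩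
      rwa [preSub_imSub hR.1 hXS] at h2
  -- hence `g` centralizes `q`
  have hq₀ : (q : L) ∈ Q.map (Subgroup.normalizer (imSub ι X : Set L)).subtype := ⟨q, hq, rfl⟩
  obtain ⟨s, hs⟩ := hQ₀ hq₀
  have hsU : (s : Ω) ∈ preSub ι (Q.map (Subgroup.normalizer (imSub ι X : Set L)).subtype ⊔ imSub ι X) :=
    mem_preSub_iff.mpr ⟨s.2, by rw [hs]; exact Subgroup.mem_sup_left hq₀⟩
  have h3 := hβg ⟨s, hsU⟩
  rw [hβ1, MulAut.one_apply] at h3
  apply Subtype.ext
  rw [Subgroup.coe_mul, Subgroup.coe_mul, ← hs]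
  have h4 : ι s = (g : L) * ι s * (g : L)⁻¹ := h3
  calc ι s * (g : L) = ((g : L) * ι s * (g : L)⁻¹) * (g : L) := by rw [← h4]
    _ = (g : L) * ι s := by group

end Cfsg.Agent.Lib.Helper27.GT
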