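import Mathlib
import Cfsg.Agent.Lib.Helper27.GTWit
import Cfsg.Agent.Lib.Helper27.FusNormal
import Cfsg.Agent.Lib.Helper26.FusionNormal

/-!
# The normalizer system of a subgroup normalized by `S`, as a system over `S`
-/

set_option autoImplicit false

namespace Cfsg.Agent.Lib.Helper27.GT

open Cfsg Cfsg.FusionSystem Cfsg.Agent.Lib.Helper26 Cfsg.Agent.Lib.Helper27

universe u

variable {Ω : Type u} [Group Ω] {S : Subgroup Ω}

theorem normalizerIn_eq_self {V : Subgroup Ω} (hSV : S ≤ Subgroup.normalizer (V : Set Ω)) :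
    normalizerIn S V = S := inf_eq_left.mpr hSV

theorem castSystem_saturated {T S : Subgroup Ω} (h : T = S) (E : FusionSystem T) {p : ℕ}
    (hE : E.IsSaturated p) : (castSystem h E).IsSaturated p := by
  subst h
  exact hE

/-- the normalizer system of `V ⊴ S`, as a system over `S` -/
def normSys (F : FusionSystem S) (V : Subgroup Ω) (hVS : V ≤ S)
    (hSV : S ≤ Subgroup.normalizer (V : Set Ω)) : FusionSystem S :=
  castSystem (normalizerIn_eq_self hSV) (normalizerSystem F V hVS)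

theorem normSys_hom (F : FusionSystem S) (V : Subgroup Ω) (hVS : V ≤ S)
    (hSV : S ≤ Subgroup.normalizer (V : Set Ω)) (P : Subgroup Ω) :
    (normSys F V hVS hSV).Hom P = F.normalizerHom V P := by
  unfold normSys
  rw [castSystem_Hom]
  rfl

theorem normSys_le (F : FusionSystem S) (V : Subgroup Ω) (hVS : V ≤ S)
    (hSV : S ≤ Subgroup.normalizer (V : Set Ω)) : normSys F V hVS hSV ≤ F := by
  intro P φ hφ
  rw [normSys_hom] at hφ
  exact hφ.1

theorem fullyNormalized_of_normal [Finite S] (F : FusionSystem S) {V : Subgroup Ω} (hVS : V ≤ S)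
    (hSV : S ≤ Subgroup.normalizer (V : Set Ω)) : F.IsFullyNormalized V := by
  refine ⟨hVS, fun Q _ => ?_⟩
  rw [normalizerIn_eq_self hSV]
  exact card_le_card_of_le_of_finite (normalizerIn_le S Q)

theorem normSys_saturated [Finite S] {p : ℕ} [Fact p.Prime] (hS : IsPGroup p S)
    (F : FusionSystem S) (hF : F.IsSaturated p) (V : Subgroup Ω) (hVS : V ≤ S)
    (hSV : S ≤ Subgroup.normalizer (V : Set Ω)) : (normSys F V hVS hSV).IsSaturated p := by
  apply castSystem_saturated
  exact normalizerSystem_saturated hS F hF (fullyNormalized_of_normal F hVS hSV) _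
    (normalizerSystem_isNormalizerSystem F V hVS)

theorem normSys_isNormal (F : FusionSystem S) (V : Subgroup Ω) (hVS : V ≤ S)
    (hSV : S ≤ Subgroup.normalizer (V : Set Ω)) : (normSys F V hVS hSV).IsNormal V := by
  refine ⟨hVS, fun P φ hφ => ?_⟩
  rw [normSys_hom] at hφ
  obtain ⟨hφF, hPN, hφN, ψ, hψ, hext, hmapV⟩ := hφ
  have hPVS : P ⊔ V ≤ S := source_le F hψ
  refine ⟨ψ, ?_, hext, hmapV⟩
  rw [normSys_hom]
  have hle : P ⊔ V ≤ normalizerIn S V := by
    rw [normalizerIn_eq_self hSV]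
    exact hPVS
  refine ⟨hψ, hle, fun x => ?_, ?_⟩
  · rw [normalizerIn_eq_self hSV]
    exact apply_mem F hψ x
  · obtain ⟨ψ', hψ', h1, h2⟩ := hom_cast' F
      (sup_eq_left.mpr (le_sup_right : V ≤ P ⊔ V)).symm ψ hψ
    refine ⟨ψ', hψ', fun x => h1 x x.2 _, ?_⟩
    rw [h2 V, hmapV]

theorem autGroup_mono {E F : FusionSystem S} (h : E ≤ F) {U : Subgroup Ω} (hU : U ≤ S) :
    E.autGroup U ≤ F.autGroup U := by
  intro α hα
  rw [mem_autGroup_iff _ hU] at hα ⊢
  exact h U hα

theorem normWit_mono {p : ℕ} {E F : FusionSystem S} (h : E ≤ F) {X : Subgroup Ω}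
    (hw : NormWit p E X) : NormWit p F X := by
  obtain ⟨U, β, h1, h2, ⟨h3, h4, h5⟩, h6⟩ := hw
  exact ⟨U, β, h1, h2, ⟨autGroup_mono h (h2.trans (normalizerIn_le S X)) h3, h4, h5⟩, h6⟩

/-- a witness for `V` is an automorphism of the normalizer system -/
theorem mem_autGroup_normSys [Finite S] (F : FusionSystem S) {V : Subgroup Ω} (hVS : V ≤ S)
    (hSV : S ≤ Subgroup.normalizer (V : Set Ω)) {U : Subgroup Ω} (hVU : V ≤ U) (hUS : U ≤ S)
    {β : MulAut U} (hβ : β ∈ F.autGroup U)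
    (hinv : ∀ x : U, (x : Ω) ∈ V → ((β x : U) : Ω) ∈ V) :
    β ∈ (normSys F V hVS hSV).autGroup U := by
  rw [mem_autGroup_iff _ hUS, normSys_hom]
  refine mem_normalizerHom_of_aut F hVU ?_ hβ hinv
  rw [normalizerIn_eq_self hSV]
  exact hUS

theorem normSys_not_inner [Finite S] {p : ℕ} [Fact p.Prime] (hS : IsPGroup p S)
    (F : FusionSystem S) {V : Subgroup Ω} (hVS : V ≤ S)
    (hSV : S ≤ Subgroup.normalizer (V : Set Ω)) (hw : NormWit p F V) :
    ¬ Inner (normSys F V hVS hSV) := by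
  intro hin
  obtain ⟨U, β, h1, h2, ⟨h3, h4, h5⟩, h6⟩ := hw
  have hUS : U ≤ S := h2.trans (normalizerIn_le S V)
  exact not_paut_of_inner hS hin hUS ⟨mem_autGroup_normSys F hVS hSV h1 hUS h3 h6, h4, h5⟩

end Cfsg.Agent.Lib.Helper27.GT
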