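import Mathlib
import Cfsg.Agent.Lib.Helper27.GTWit
import Cfsg.Agent.Lib.Helper27.FusFactorSat

/-!
# Witnesses and factor systems

* `normWit_lift`: a witness in a factor system lifts to a witness for the preimage;
* `trivial_mod_of_factor_inner`: if the factor system is inner, automorphisms of order prime to `p`
  act trivially modulo the kernel;
* `eq_one_of_stable`: an automorphism of order prime to `p` of a `p`-group acting trivially on a
  subgroup and modulo it is trivial.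
-/

set_option autoImplicit false

namespace Cfsg.Agent.Lib.Helper27.GT

open Cfsg Cfsg.FusionSystem Cfsg.Agent.Lib.Helper26 Cfsg.Agent.Lib.Helper27

universe u

variable {Ω : Type u} [Group Ω] {S : Subgroup Ω} {Ω' : Type u} [Group Ω'] {S' : Subgroup Ω'}

theorem preimageAlong_mono (θ : ↥S →* Ω') {A B : Subgroup Ω'} (h : A ≤ B) :
    preimageAlong θ A ≤ preimageAlong θ B := by
  intro y hy
  obtain ⟨hyS, hy'⟩ := mem_preimageAlong.mp hy
  exact mem_preimageAlong.mpr ⟨hyS, h hy'⟩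

/-- a witness in the factor system lifts -/
theorem normWit_lift [Finite S] {p : ℕ} [Fact p.Prime] {F : FusionSystem S} {T : Subgroup Ω}
    {θ : ↥S →* Ω'} {E : FusionSystem S'} (hE : F.IsFactorSystem T θ E) {X' : Subgroup Ω'}
    (h : NormWit p E X') : NormWit p F (preimageAlong θ X') := by
  obtain ⟨U', β', hXU, hUN, ⟨hβ', hβ'1, hβ'ord⟩, hinv⟩ := h
  have hU'S' : U' ≤ S' := hUN.trans inf_le_left
  obtain ⟨γ, hγ, hγβ⟩ := factor_lift_aut hE hU'S' hβ'
  have hPS : preimageAlong θ U' ≤ S := preimageAlong_le θ U'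
  haveI : Finite (MulAut ↥(preimageAlong θ U')) := finite_mulAut_of_le hPS
  obtain ⟨k, hk, hkord⟩ := exists_pprime_pow p γ hβ'ord
  have hpow := pow_lift_apply hPS γ β' hγβ k
  have hβ'k : β' ^ k = β' := by
    rw [← pow_mod_orderOf, hk, pow_mod_orderOf, pow_one]
  rw [hβ'k] at hpow
  refine ⟨preimageAlong θ U', γ ^ k, preimageAlong_mono θ hXU, ?_,
    ⟨Subgroup.pow_mem _ hγ k, ?_, hkord⟩, ?_⟩
  · intro y hy
    obtain ⟨hyS, hy'⟩ := mem_preimageAlong.mp hy
    refine ⟨hyS, ?_⟩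
    have hn := (hUN hy').2
    refine mem_normalizer_of_forall (fun r hr => ?_) (fun r hr => ?_)
    · obtain ⟨hrS, hr'⟩ := mem_preimageAlong.mp hr
      refine mem_preimageAlong.mpr ⟨S.mul_mem (S.mul_mem hyS hrS) (S.inv_mem hyS), ?_⟩
      have e : (⟨y * r * y⁻¹, S.mul_mem (S.mul_mem hyS hrS) (S.inv_mem hyS)⟩ : S) =
          ⟨y, hyS⟩ * ⟨r, hrS⟩ * ⟨y, hyS⟩⁻¹ := rfl
      rw [e, map_mul, map_mul, map_inv]
      exact (Subgroup.mem_normalizer_iff.mp hn _).mp hr'
    · obtain ⟨hrS, hr'⟩ := mem_preimageAlong.mp hr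
      refine mem_preimageAlong.mpr ⟨S.mul_mem (S.mul_mem (S.inv_mem hyS) hrS) hyS, ?_⟩
      have e : (⟨y⁻¹ * r * y, S.mul_mem (S.mul_mem (S.inv_mem hyS) hrS) hyS⟩ : S) =
          ⟨y, hyS⟩⁻¹ * ⟨r, hrS⟩ * ⟨y, hyS⟩ := rfl
      rw [e, map_mul, map_mul, map_inv]
      exact (Subgroup.mem_normalizer_iff''.mp hn _).mp hr'
  · intro h1
    apply hβ'1
    ext y'
    obtain ⟨y, hy⟩ := y'
    have hyS' : y ∈ S' := hU'S' hy
    rw [← hE.2.2.1] at hyS'
    obtain ⟨s, rfl⟩ := hyS'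
    have hsU : (s : Ω) ∈ preimageAlong θ U' := mem_preimageAlong.mpr ⟨s.2, hy⟩
    have := hpow ⟨s, hsU⟩
    rw [h1] at this
    exact this.symm
  · intro x hx
    obtain ⟨hxS, hx'⟩ := mem_preimageAlong.mp hx
    refine mem_preimageAlong.mpr ⟨hPS ((γ ^ k) x).2, ?_⟩
    rw [hpow x]
    exact hinv _ hx'

/-- an automorphism of order prime to `p` acting trivially on a `p`-subgroup `T` and modulo `T` is
trivial -/
theorem eq_one_of_stable {U : Type*} [Group U] {p : ℕ} [Fact p.Prime] (T : Subgroup U) [Finite T]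
    (hT : IsPGroup p T) (β : MulAut U) (hord : (orderOf β).Coprime p)
    (h1 : ∀ t ∈ T, β t = t) (h2 : ∀ x : U, x⁻¹ * β x ∈ T) : β = 1 := by
  have hpow : ∀ (n : ℕ) (x : U), (β ^ n) x = x * (x⁻¹ * β x) ^ n := by
    intro n
    induction n with
    | zero => intro x; simp
    | succ n ih =>
      intro x
      rw [pow_succ', MulAut.mul_apply, ih, map_mul, map_pow, h1 _ (h2 x),
        pow_succ' (x⁻¹ * β x), ← mul_assoc, mul_inv_cancel_left]
  obtain ⟨a, ha⟩ := hT.exists_card_eq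
  have h3 : β ^ (p ^ a) = 1 := by
    ext x
    rw [hpow, MulAut.one_apply]
    have : (⟨x⁻¹ * β x, h2 x⟩ : T) ^ Nat.card T = 1 := pow_card_eq_one'
    rw [ha] at this
    have := congrArg Subtype.val this
    rw [Subgroup.coe_pow, Subgroup.coe_one] at this
    rw [this, mul_one]
  have h4 : orderOf β ∣ p ^ a := orderOf_dvd_of_pow_eq_one h3
  have h5 : orderOf β = 1 := Nat.Coprime.eq_one_of_dvd (Nat.Coprime.pow_right a hord) h4
  exact orderOf_eq_one_iff.mp h5

/-- if the factor system is inner, an automorphism of order prime to `p` acts trivially modulo the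
kernel -/
theorem trivial_mod_of_factor_inner [Finite S] {p : ℕ} [Fact p.Prime] (hS : IsPGroup p S)
    {F : FusionSystem S} {T : Subgroup Ω} (hT : F.StronglyClosed T)
    {θ : ↥S →* Ω'} {E : FusionSystem S'} (hE : F.IsFactorSystem T θ E) (hin : Inner E)
    {U : Subgroup Ω} (hUS : U ≤ S) (hTU : T ≤ U) {β : MulAut U} (hβ : β ∈ F.autGroup U)
    (hord : (orderOf β).Coprime p) (x : U) : (x : Ω)⁻¹ * ((β x : U) : Ω) ∈ T := by
  obtain ⟨γ', hγ', hγ'β⟩ := factor_induce_aut hT hE hUS hTU hβ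
  have hU'S' : (U.subgroupOf S).map θ ≤ S' := by
    rw [← hE.2.2.1]
    rintro _ ⟨s, -, rfl⟩
    exact ⟨s, rfl⟩
  haveI : Finite S' := by
    rw [← hE.2.2.1]
    exact Finite.of_surjective (fun s : S => (⟨θ s, ⟨s, rfl⟩⟩ : θ.range))
      (fun ⟨_, s, rfl⟩ => ⟨s, rfl⟩)
  have hS' : IsPGroup p S' := by
    rw [← hE.2.2.1]
    exact hS.of_surjective θ.rangeRestrict θ.rangeRestrict_surjective
  haveI : Finite (MulAut U) := finite_mulAut_of_le hUS
  -- the order of `γ'` divides the order of `β`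
  have hpow := pow_induce_apply hUS β γ' hγ'β (orderOf β)
  have h1 : γ' ^ orderOf β = 1 := by
    ext y'
    obtain ⟨_, s, hs, rfl⟩ := y'
    have hsU : (s : Ω) ∈ U := Subgroup.mem_subgroupOf.mp hs
    have := hpow ⟨s, hsU⟩ ⟨s, hs, rfl⟩
    rw [pow_orderOf_eq_one] at this
    exact this
  have h2 : (orderOf γ').Coprime p :=
    Nat.Coprime.coprime_dvd_left (orderOf_dvd_of_pow_eq_one h1) hord
  have h3 : γ' = 1 := by
    by_contra hne
    exact not_paut_of_inner hS' hin hU'S' ⟨hγ', hne, h2⟩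
  -- hence `θ (β x) = θ x`
  have h4 := hγ'β x ⟨⟨x, hUS x.2⟩, Subgroup.mem_subgroupOf.mpr x.2, rfl⟩
  rw [h3, MulAut.one_apply] at h4
  have h5 : θ (⟨x, hUS x.2⟩⁻¹ * ⟨β x, hUS (β x).2⟩) = 1 := by
    rw [map_mul, map_inv, ← h4, inv_mul_cancel]
  exact (hE.2.1 _).mp h5

end Cfsg.Agent.Lib.Helper27.GT
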