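import Mathlib
import Cfsg.Agent.Lib.Helper27.GTNormSys
import Cfsg.Agent.Lib.Helper27.GTQuot
import Cfsg.Agent.Lib.Helper27.GTModel
import Cfsg.Agent.Lib.Helper27.ModelMain
import Cfsg.Agent.Lib.Helper27.FusSolvable

/-!
# Characteristic functors with the Glauberman–Thompson property
-/

set_option autoImplicit false

namespace Cfsg.Agent.Lib.Helper27.GT

open Cfsg Cfsg.FusionSystem Cfsg.Agent.Lib.Helper26 Cfsg.Agent.Lib.Helper27

universe u

/-- a positive characteristic functor on finite `p`-groups such that a group of characteristic `p`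
has a normal `p`-complement as soon as the normalizer of `W` of a Sylow `p`-subgroup has one -/
structure GTFunctor (p : ℕ) where
  W : ∀ {Ω : Type u} [Group Ω], Subgroup Ω → Subgroup Ω
  le : ∀ {Ω : Type u} [Group Ω] (S : Subgroup Ω), W S ≤ S
  ne_bot : ∀ {Ω : Type u} [Group Ω] (S : Subgroup Ω) [Finite S], IsPGroup p S → S ≠ ⊥ → W S ≠ ⊥
  map : ∀ {Ω Ω' : Type u} [Group Ω] [Group Ω'] (f : Ω →* Ω'), Function.Injective f →
    ∀ S : Subgroup Ω, W (S.map f) = (W S).map f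
  npc : ∀ {L : Type u} [Group L] [Finite L] (T : Sylow p L),
    Subgroup.centralizer ((pCore p L : Subgroup L) : Set L) ≤ pCore p L →
    HasNormalPComplement p ↥(Subgroup.normalizer (W (T : Subgroup L) : Set L)) →
    HasNormalPComplement p L

namespace GTFunctor

variable {p : ℕ} (𝒲 : GTFunctor.{u} p) {Ω : Type u} [Group Ω]

theorem map_conj_eq {S : Subgroup Ω} {g : Ω} (hg : g ∈ Subgroup.normalizer (S : Set Ω)) :
    S.map (MulAut.conj g).toMonoidHom = S := by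
  ext y
  constructor
  · rintro ⟨x, hx, rfl⟩
    exact (Subgroup.mem_normalizer_iff.mp hg x).mp hx
  · intro hy
    refine ⟨g⁻¹ * y * g, (Subgroup.mem_normalizer_iff''.mp hg y).mp hy, ?_⟩
    show g * (g⁻¹ * y * g) * g⁻¹ = y
    group

theorem conj_mem (S : Subgroup Ω) {g : Ω} (hg : g ∈ Subgroup.normalizer (S : Set Ω)) {y : Ω}
    (hy : y ∈ 𝒲.W S) : g * y * g⁻¹ ∈ 𝒲.W S := by
  have h1 := 𝒲.map (MulAut.conj g).toMonoidHom (MulAut.conj g).injective S
  rw [map_conj_eq hg] at h1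
  rw [h1]
  exact ⟨y, hy, rfl⟩

theorem normalizer_le (S : Subgroup Ω) :
    Subgroup.normalizer (S : Set Ω) ≤ Subgroup.normalizer (𝒲.W S : Set Ω) := by
  intro g hg
  refine mem_normalizer_of_forall (fun y hy => 𝒲.conj_mem S hg hy) (fun y hy => ?_)
  have := 𝒲.conj_mem S (Subgroup.inv_mem _ hg) hy
  rwa [inv_inv] at this

theorem W_eq_map_top (S : Subgroup Ω) :
    𝒲.W S = (𝒲.W (⊤ : Subgroup ↥S)).map S.subtype := by
  have h1 : (⊤ : Subgroup ↥S).map S.subtype = S := by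
    rw [← MonoidHom.range_eq_map, Subgroup.range_subtype]
  have h2 := 𝒲.map S.subtype S.subtype_injective (⊤ : Subgroup ↥S)
  rwa [h1] at h2

theorem mem_W_top_iff (S : Subgroup Ω) (x : S) :
    x ∈ 𝒲.W (⊤ : Subgroup ↥S) ↔ (x : Ω) ∈ 𝒲.W S := by
  rw [𝒲.W_eq_map_top S]
  constructor
  · intro hx
    exact ⟨x, hx, rfl⟩
  · rintro ⟨y, hy, hyx⟩
    have : y = x := Subtype.ext hyx
    rwa [← this]

/-- `W S` is invariant under all automorphisms of `S` -/
theorem aut_mem (S : Subgroup Ω) (β : MulAut S) {x : S} (hx : (x : Ω) ∈ 𝒲.W S) :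
    ((β x : S) : Ω) ∈ 𝒲.W S := by
  have h1 : (⊤ : Subgroup ↥S).map (S.subtype.comp β.toMonoidHom) = S := by
    ext y
    constructor
    · rintro ⟨z, -, rfl⟩
      exact (β z).2
    · intro hy
      exact ⟨β⁻¹ ⟨y, hy⟩, Subgroup.mem_top _, by simp⟩
  have h2 := 𝒲.map (S.subtype.comp β.toMonoidHom) (S.subtype_injective.comp β.injective)
    (⊤ : Subgroup ↥S)
  rw [h1] at h2
  rw [h2]
  exact ⟨x, (𝒲.mem_W_top_iff S x).mpr hx, rfl⟩

theorem imSub_eq {S : Subgroup Ω} {L : Type u} [Group L] {ι : S →* L}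
    (hι : Function.Injective ι) : imSub ι (𝒲.W S) = 𝒲.W ι.range := by
  have h1 : (⊤ : Subgroup ↥S).map ι = ι.range := (MonoidHom.range_eq_map ι).symm
  have h2 := 𝒲.map ι hι (⊤ : Subgroup ↥S)
  rw [h1] at h2
  rw [h2]
  ext y
  rw [mem_imSub_iff]
  constructor
  · rintro ⟨x, hxS, hx, rfl⟩
    exact ⟨⟨x, hxS⟩, (𝒲.mem_W_top_iff S _).mpr hx, rfl⟩
  · rintro ⟨x, hx, rfl⟩
    exact ⟨x, x.2, (𝒲.mem_W_top_iff S x).mp hx, rfl⟩

end GTFunctor

end Cfsg.Agent.Lib.Helper27.GT
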