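import Mathlib
import Cfsg.Agent.Lib.Helper27.GTFun

/-!
# The steps of the reduction for Glauberman–Thompson type theorems on fusion systems
-/

set_option autoImplicit false

namespace Cfsg.Agent.Lib.Helper27.GT

open Cfsg Cfsg.FusionSystem Cfsg.Agent.Lib.Helper26 Cfsg.Agent.Lib.Helper27

universe u

variable {Ω : Type u} [Group Ω] {S : Subgroup Ω}

/-- the model step: if `V ⊴ S` is self-centralizing and `W S` has no witness, then `N_F(V)` is
inner -/
theorem inner_normSys_of_centric [Finite S] {p : ℕ} [Fact p.Prime] (𝒲 : GTFunctor.{u} p)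
    (hS : IsPGroup p S) (F : FusionSystem S) (hF : F.IsSaturated p) {V : Subgroup Ω} (hVS : V ≤ S)
    (hSV : S ≤ Subgroup.normalizer (V : Set Ω)) (hcent : centralizerIn S V ≤ V)
    (hW : ¬ NormWit p F (𝒲.W S)) : Inner (normSys F V hVS hSV) := by
  have hEsat := normSys_saturated hS F hF V hVS hSV
  have hVn := normSys_isNormal F V hVS hSV
  have hVc : (normSys F V hVS hSV).IsCentric V := by
    refine ⟨hVS, fun Q' hconj => ?_⟩
    rw [isConj_eq_of_isNormal _ hVn hconj]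
    exact hcent
  obtain ⟨L, _, ι, hfin, hR, ⟨T, hT⟩, hcore⟩ :=
    Model.exists_model p hS (normSys F V hVS hSV) ⟨hEsat, V, hVn, hVc⟩
  haveI := hfin
  have hW' : ¬ NormWit p (normSys F V hVS hSV) (𝒲.W S) :=
    fun h => hW (normWit_mono (normSys_le F V hVS hSV) h)
  have h1 := npc_normalizer_of_not_normWit hR T hT (𝒲.le S)
    (Subgroup.le_normalizer.trans (𝒲.normalizer_le S)) hW'
  rw [𝒲.imSub_eq hR.1, ← hT] at h1
  exact inner_of_npc hR T hT (𝒲.npc T hcore h1)

theorem pow_agree {A B V : Subgroup Ω} (hVA : V ≤ A) (hVB : V ≤ B) (γ : MulAut A) (β : MulAut B)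
    (hβV : ∀ x : B, (x : Ω) ∈ V → ((β x : B) : Ω) ∈ V)
    (h : ∀ v : V, ((γ ⟨v, hVA v.2⟩ : A) : Ω) = (β ⟨v, hVB v.2⟩ : B)) (m : ℕ) :
    ∀ v : V, (((γ ^ m) ⟨v, hVA v.2⟩ : A) : Ω) = ((β ^ m) ⟨v, hVB v.2⟩ : B) := by
  induction m with
  | zero => intro v; rfl
  | succ m ih =>
    intro v
    rw [pow_succ', pow_succ', MulAut.mul_apply, MulAut.mul_apply]
    have hmem : (((β ^ m) ⟨v, hVB v.2⟩ : B) : Ω) ∈ V := by
      have h0 : β ∈ stabMon (U := B) V := hβV
      have : β ^ m ∈ stabMon (U := B) V := Submonoid.pow_mem _ h0 m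
      exact this _ v.2
    have e1 : (γ ^ m) ⟨v, hVA v.2⟩ = ⟨(((β ^ m) ⟨v, hVB v.2⟩ : B) : Ω), hVA hmem⟩ :=
      Subtype.ext (ih v)
    have e2 : (β ^ m) ⟨v, hVB v.2⟩ = ⟨(((β ^ m) ⟨v, hVB v.2⟩ : B) : Ω), hVB hmem⟩ := Subtype.ext rfl
    rw [e1]
    conv_rhs => rw [e2]
    exact h ⟨_, hmem⟩

theorem le_normalizer_centralizerIn {V : Subgroup Ω} (hSV : S ≤ Subgroup.normalizer (V : Set Ω)) :
    S ≤ Subgroup.normalizer (centralizerIn S V : Set Ω) := by
  have key : ∀ s ∈ S, ∀ c ∈ centralizerIn S V, s * c * s⁻¹ ∈ centralizerIn S V := by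
    intro s hs c hc
    refine ⟨S.mul_mem (S.mul_mem hs hc.1) (S.inv_mem hs), ?_⟩
    show s * c * s⁻¹ ∈ Subgroup.centralizer (V : Set Ω)
    rw [Subgroup.mem_centralizer_iff]
    intro v hv
    have hv' : s⁻¹ * v * s ∈ V := (Subgroup.mem_normalizer_iff''.mp (hSV hs) v).mp hv
    have h1 := (Subgroup.mem_centralizer_iff.mp hc.2) _ hv'
    have e1 : v * (s * c * s⁻¹) = s * ((s⁻¹ * v * s) * c) * s⁻¹ := by group
    have e2 : s * c * s⁻¹ * v = s * (c * (s⁻¹ * v * s)) * s⁻¹ := by group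
    rw [e1, e2, h1]
  intro s hs
  refine mem_normalizer_of_forall (fun c hc => key s hs c hc) (fun c hc => ?_)
  have := key s⁻¹ (S.inv_mem hs) c hc
  rwa [inv_inv] at this

/-- the centric step: if the factor system of `N_F(V)` modulo `V` is inner, a witness for `V`
gives a witness for `V C_S(V)` -/
theorem normWit_sup_centralizer [Finite S] {p : ℕ} [Fact p.Prime] (hS : IsPGroup p S)
    (F : FusionSystem S) (hF : F.IsSaturated p) {V : Subgroup Ω} (hVS : V ≤ S)
    (hSV : S ≤ Subgroup.normalizer (V : Set Ω)) {Ω' : Type u} [Group Ω'] {S' : Subgroup Ω'}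
    {θ : ↥S →* Ω'} {E' : FusionSystem S'}
    (hE' : (normSys F V hVS hSV).IsFactorSystem V θ E') (hin : Inner E')
    (hw : NormWit p F V) : NormWit p F (V ⊔ centralizerIn S V) := by
  obtain ⟨U, β, hVU, hUN, ⟨hβ, hβ1, hβord⟩, hinv⟩ := hw
  have hUS : U ≤ S := hUN.trans (normalizerIn_le S V)
  have hβE := mem_autGroup_normSys F hVS hSV hVU hUS hβ hinv
  have hVsc : (normSys F V hVS hSV).StronglyClosed V :=
    stronglyClosed_of_isNormal _ (normSys_isNormal F V hVS hSV)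
  have hmod := trivial_mod_of_factor_inner hS hVsc hE' hin hUS hVU hβE hβord
  -- `β` is nontrivial on `V`
  have hnt : ∃ v : U, (v : Ω) ∈ V ∧ β v ≠ v := by
    by_contra hcon
    push Not at hcon
    apply hβ1
    haveI : Finite U := finite_of_le hUS
    refine eq_one_of_stable (V.subgroupOf U) ((hS.to_le hUS).to_subgroup _) β hβord
      (fun t ht => hcon t (Subgroup.mem_subgroupOf.mp ht))
      (fun x => Subgroup.mem_subgroupOf.mpr ?_)
    exact hmod x
  -- the restriction of `β` to `V`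
  have hφU : U.subtype.comp β.toMonoidHom ∈ F.Hom U := (mem_autGroup_iff F hUS).mp hβ
  have hφ₁ : (U.subtype.comp β.toMonoidHom).comp (Subgroup.inclusion hVU) ∈ F.Hom V :=
    restrict_mem F hφU hVU
  have hr₁ : ((U.subtype.comp β.toMonoidHom).comp (Subgroup.inclusion hVU)).range = V := by
    apply range_eq_of_range_le F hφ₁
    rintro _ ⟨x, rfl⟩
    exact hinv _ x.2
  have hrec : F.IsReceptive V :=
    (saturated_fullyNormalized hS F hF (fullyNormalized_of_normal F hVS hSV)).2.2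
  obtain ⟨ψ, hψ, hagree⟩ := hrec.2 V _ hφ₁ hr₁
  have hle : V ⊔ centralizerIn S V ≤
      extender S V ((U.subtype.comp β.toMonoidHom).comp (Subgroup.inclusion hVU)) :=
    sup_le (le_extender F hφ₁) (centralizerIn_le_extender S V _)
  have hψ₁ : ψ.comp (Subgroup.inclusion hle) ∈ F.Hom (V ⊔ centralizerIn S V) :=
    restrict_mem F hψ hle
  have hV₁S : V ⊔ centralizerIn S V ≤ S := sup_le hVS (centralizerIn_le S V)
  -- values on `V`
  have hψV : ∀ v : V, (ψ.comp (Subgroup.inclusion hle)) (Subgroup.inclusion le_sup_left v) =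
      ((β ⟨v, hVU v.2⟩ : U) : Ω) := by
    intro v
    exact hagree v v.2 (hle ((le_sup_left : V ≤ V ⊔ centralizerIn S V) v.2))
  have hrange : (ψ.comp (Subgroup.inclusion hle)).range ≤ V ⊔ centralizerIn S V := by
    rintro _ ⟨z, rfl⟩
    refine map_sup_mem (ψ.comp (Subgroup.inclusion hle)) (V ⊔ centralizerIn S V)
      (fun v => ?_) (fun c => ?_) z
    · rw [hψV]
      exact (le_sup_left : V ≤ V ⊔ centralizerIn S V) (hinv _ v.2)
    · refine (le_sup_right : centralizerIn S V ≤ V ⊔ centralizerIn S V) ⟨apply_mem F hψ₁ _, ?_⟩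
      show _ ∈ Subgroup.centralizer (V : Set Ω)
      rw [Subgroup.mem_centralizer_iff]
      intro y hy
      -- `y = ψ v'` for some `v' ∈ V`
      obtain ⟨v', hv'⟩ := hr₁.ge hy
      have hv'' : (ψ.comp (Subgroup.inclusion hle)) (Subgroup.inclusion le_sup_left v') = y := by
        rw [hψV]
        exact hv'
      rw [← hv'', ← map_mul, ← map_mul]
      congr 1
      apply Subtype.ext
      exact (Subgroup.mem_centralizer_iff.mp c.2.2) v' v'.2
  have hr := range_eq_of_range_le F hψ₁ hrange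
  haveI : Finite (MulAut ↥(V ⊔ centralizerIn S V)) := finite_mulAut_of_le hV₁S
  obtain ⟨k, hk, hkord⟩ := exists_pprime_pow p (autOfHom F hψ₁ hr) hβord
  have hβk : β ^ k = β := by
    rw [← pow_mod_orderOf, hk, pow_mod_orderOf, pow_one]
  have hpow := pow_agree (le_sup_left : V ≤ V ⊔ centralizerIn S V) hVU (autOfHom F hψ₁ hr) β hinv
    (fun v => by rw [autOfHom_apply]; exact hψV v) k
  refine ⟨V ⊔ centralizerIn S V, (autOfHom F hψ₁ hr) ^ k, le_rfl, le_normalizerIn_self hV₁S,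
    ⟨Subgroup.pow_mem _ (autOfHom_mem F hψ₁ hr) k, ?_, hkord⟩,
    fun x _ => (((autOfHom F hψ₁ hr) ^ k) x).2⟩
  intro h1
  obtain ⟨v, hvV, hv⟩ := hnt
  apply hv
  have := hpow ⟨v, hvV⟩
  rw [h1, hβk, MulAut.one_apply] at this
  exact Subtype.ext this.symm

end Cfsg.Agent.Lib.Helper27.GT
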