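import Mathlib
import Cfsg.Agent.Lib.Helper27.GTSteps

/-!
# The Glauberman–Thompson theorem for fusion systems, in functor form

For a functor `𝒲 : GTFunctor p`: a saturated fusion system `F` over `S` which is not inner has a
witness for `𝒲.W S`, that is, `N_F(W(S))` is not inner.
-/

set_option autoImplicit false

namespace Cfsg.Agent.Lib.Helper27.GT

open Cfsg Cfsg.FusionSystem Cfsg.Agent.Lib.Helper26 Cfsg.Agent.Lib.Helper27

universe u

variable {Ω : Type u} [Group Ω] {S : Subgroup Ω}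

/-- the induction hypothesis -/
def IHyp (p : ℕ) (𝒲 : GTFunctor.{u} p) (n : ℕ) : Prop :=
  ∀ {Ω' : Type u} [Group Ω'] (S' : Subgroup Ω') [Finite S'], Nat.card S' < n → IsPGroup p S' →
    ∀ F' : FusionSystem S', F'.IsSaturated p → ¬ Inner F' → NormWit p F' (𝒲.W S')

/-- the climbing step -/
theorem climb [Finite S] {p : ℕ} [Fact p.Prime] (𝒲 : GTFunctor.{u} p) (hS : IsPGroup p S)
    (F : FusionSystem S) (hF : F.IsSaturated p) {V : Subgroup Ω} (hVn : F.IsFullyNormalized V)
    (hVne : V ≠ ⊥) (hw : NormWit p F V) (hR : normalizerIn S V ≠ S)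
    (ih : IHyp p 𝒲 (Nat.card S)) :
    ∃ V' : Subgroup Ω, V' ≠ ⊥ ∧ F.IsFullyNormalized V' ∧ NormWit p F V' ∧
      Nat.card (normalizerIn S V) < Nat.card (normalizerIn S V') := by
  have hVS : V ≤ S := hVn.1
  have hRS : normalizerIn S V ≤ S := normalizerIn_le S V
  haveI : Finite ↥(normalizerIn S V) := finite_of_le hRS
  have hcard : Nat.card (normalizerIn S V) < Nat.card S := Cfsg.Agent.S5082.card_lt_of_ne hRS hR
  have hNN := normalizerSystem_isNormalizerSystem F V hVS
  have hNsat := normalizerSystem_saturated hS F hF hVn _ hNN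
  have hNni := not_inner_of_normWit hS hw hNN
  obtain ⟨U₁, β₁, hWU₁, hU₁N, ⟨hβ₁N, hβ₁1, hβ₁o⟩, hinv₁⟩ :=
    ih (normalizerIn S V) hcard (hS.to_le hRS) _ hNsat hNni
  have hU₁R : U₁ ≤ normalizerIn S V := hU₁N.trans (normalizerIn_le _ _)
  have hU₁S : U₁ ≤ S := hU₁R.trans hRS
  have hβ₁F : β₁ ∈ F.autGroup U₁ := by
    rw [mem_autGroup_iff F hU₁S]
    have := (mem_autGroup_iff _ hU₁R).mp hβ₁N
    exact this.1
  have hXR : 𝒲.W (normalizerIn S V) ≤ normalizerIn S V := 𝒲.le _
  have hXS : 𝒲.W (normalizerIn S V) ≤ S := hXR.trans hRS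
  have hwX : NormWit p F (𝒲.W (normalizerIn S V)) :=
    ⟨U₁, β₁, hWU₁, le_inf hU₁S (hU₁N.trans inf_le_right), ⟨hβ₁F, hβ₁1, hβ₁o⟩, hinv₁⟩
  have hRne : normalizerIn S V ≠ ⊥ := by
    intro h
    apply hVne
    rw [eq_bot_iff, ← h]
    exact le_normalizerIn_self hVS
  have hXne : 𝒲.W (normalizerIn S V) ≠ ⊥ := 𝒲.ne_bot _ (hS.to_le hRS) hRne
  have hlt : normalizerIn S V < normalizerIn S (normalizerIn S V) := lt_normalizerIn hS hRS hR
  have hle : normalizerIn S (normalizerIn S V) ≤ normalizerIn S (𝒲.W (normalizerIn S V)) :=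
    inf_le_inf_left S (𝒲.normalizer_le _)
  obtain ⟨V', hXV', hV'n⟩ := exists_fullyNormalized_conj F hXS
  obtain ⟨-, hV'a, hV'r⟩ := saturated_fullyNormalized hS F hF hV'n
  obtain ⟨M⟩ := nonempty_normalizerHom hS F hV'a hV'r hXV'
  refine ⟨V', ?_, hV'n, normWit_transport hXS M hwX, ?_⟩
  · intro h
    have h1 := Cfsg.Agent.S5082.card_eq_of_isConj F hXV'
    rw [h, Subgroup.card_bot] at h1
    exact hXne (Subgroup.eq_bot_of_card_eq _ h1)
  · haveI : Finite ↥(normalizerIn S (normalizerIn S V)) := finite_of_le (normalizerIn_le _ _)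
    haveI : Finite ↥(normalizerIn S (𝒲.W (normalizerIn S V))) := finite_of_le (normalizerIn_le _ _)
    haveI : Finite ↥(normalizerIn S V') := finite_of_le (normalizerIn_le _ _)
    have h1 := card_lt_card_of_lt hlt
    have h2 : Nat.card ↥(normalizerIn S (normalizerIn S V)) ≤
        Nat.card ↥(normalizerIn S (𝒲.W (normalizerIn S V))) :=
      Nat.card_le_card_of_injective (Subgroup.inclusion hle) (Subgroup.inclusion_injective _)
    have h3 : Nat.card ↥(normalizerIn S (𝒲.W (normalizerIn S V))) ≤ Nat.card ↥(normalizerIn S V') :=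
      Nat.card_le_card_of_injective (fun x => (⟨M.φ x, M.maps x⟩ : ↥(normalizerIn S V')))
        (fun a b hab => M.injective (congrArg Subtype.val hab))
    omega

/-- the quotient step -/
theorem quot_step [Finite S] {p : ℕ} [Fact p.Prime] (𝒲 : GTFunctor.{u} p) (hS : IsPGroup p S)
    (F : FusionSystem S) (hF : F.IsSaturated p) {V : Subgroup Ω} (hVS : V ≤ S)
    (hSV : S ≤ Subgroup.normalizer (V : Set Ω)) (hVne : V ≠ ⊥) (hVtop : V ≠ S)
    (ih : IHyp p 𝒲 (Nat.card S))
    (hmax : ∀ R' : Subgroup Ω, R' ≤ S → S ≤ Subgroup.normalizer (R' : Set Ω) → NormWit p F R' →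
      Nat.card R' ≤ Nat.card V) :
    ∃ (Ω' : Type u) (_ : Group Ω') (S' : Subgroup Ω') (θ : ↥S →* Ω') (E' : FusionSystem S'),
      (normSys F V hVS hSV).IsFactorSystem V θ E' ∧ Inner E' := by
  have hEsat := normSys_saturated hS F hF V hVS hSV
  have hVsc : (normSys F V hVS hSV).StronglyClosed V :=
    stronglyClosed_of_isNormal _ (normSys_isNormal F V hVS hSV)
  haveI hnorm : (V.subgroupOf S).Normal :=
    (Subgroup.normal_subgroupOf_iff_le_normalizer hVS).mpr hSV
  have hE' := factorSystem_isFactorSystem (normSys F V hVS hSV) hVsc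
    (QuotientGroup.mk' (V.subgroupOf S)) (mk'_ker_iff V) (mk'_range_top V)
  refine ⟨↥S ⧸ V.subgroupOf S, inferInstance, ⊤, QuotientGroup.mk' (V.subgroupOf S), _, hE', ?_⟩
  by_contra hni
  have hE'sat := factor_saturated hS hEsat hVsc hE'
  haveI : Finite (↥S ⧸ V.subgroupOf S) := inferInstance
  haveI : Finite ↥(⊤ : Subgroup (↥S ⧸ V.subgroupOf S)) := inferInstance
  haveI : Finite V := finite_of_le hVS
  -- cardinality
  have hcardV : Nat.card (V.subgroupOf S) = Nat.card V :=
    Nat.card_congr (Subgroup.subgroupOfEquivOfLe hVS).toEquiv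
  have hV2 : 1 < Nat.card V := by
    have h1 : Nat.card V ≠ 1 := fun h => hVne (Subgroup.eq_bot_of_card_eq _ h)
    have h2 : 0 < Nat.card V := Nat.card_pos
    omega
  have hcard : Nat.card ↥(⊤ : Subgroup (↥S ⧸ V.subgroupOf S)) < Nat.card S := by
    rw [Subgroup.card_top]
    have h1 := Subgroup.card_eq_card_quotient_mul_card_subgroup (V.subgroupOf S)
    rw [hcardV] at h1
    have h2 : 0 < Nat.card (↥S ⧸ V.subgroupOf S) := Nat.card_pos
    rw [h1]
    nlinarith
  have hS' : IsPGroup p ↥(⊤ : Subgroup (↥S ⧸ V.subgroupOf S)) :=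
    (hS.of_surjective (QuotientGroup.mk' (V.subgroupOf S))
      (QuotientGroup.mk'_surjective _)).of_equiv Subgroup.topEquiv.symm
  have hw' := ih ⊤ hcard hS' _ hE'sat hni
  have hwF := normWit_mono (normSys_le F V hVS hSV) (normWit_lift hE' hw')
  -- the preimage `R'` of `W` of the quotient
  have hR'S := preimageAlong_le (QuotientGroup.mk' (V.subgroupOf S))
    (𝒲.W (⊤ : Subgroup (↥S ⧸ V.subgroupOf S)))
  have hconj : ∀ s ∈ S, ∀ r ∈ preimageAlong (QuotientGroup.mk' (V.subgroupOf S))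
      (𝒲.W (⊤ : Subgroup (↥S ⧸ V.subgroupOf S))), s * r * s⁻¹ ∈
        preimageAlong (QuotientGroup.mk' (V.subgroupOf S))
          (𝒲.W (⊤ : Subgroup (↥S ⧸ V.subgroupOf S))) := by
    intro s hs r hr
    obtain ⟨hrS, hr'⟩ := mem_preimageAlong.mp hr
    refine mem_preimageAlong.mpr ⟨S.mul_mem (S.mul_mem hs hrS) (S.inv_mem hs), ?_⟩
    have e : (⟨s * r * s⁻¹, S.mul_mem (S.mul_mem hs hrS) (S.inv_mem hs)⟩ : S) =
        ⟨s, hs⟩ * ⟨r, hrS⟩ * ⟨s, hs⟩⁻¹ := rfl
    rw [e, map_mul, map_mul, map_inv]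
    refine 𝒲.conj_mem ⊤ ?_ hr'
    rw [Subgroup.normalizer_eq_top]
    exact Subgroup.mem_top _
  have hSR' : S ≤ Subgroup.normalizer ((preimageAlong (QuotientGroup.mk' (V.subgroupOf S))
      (𝒲.W (⊤ : Subgroup (↥S ⧸ V.subgroupOf S))) : Subgroup Ω) : Set Ω) := by
    intro s hs
    refine mem_normalizer_of_forall (fun r hr => hconj s hs r hr) (fun r hr => ?_)
    have := hconj s⁻¹ (S.inv_mem hs) r hr
    rwa [inv_inv] at this
  have h1 := hmax _ hR'S hSR' hwF
  -- but `V < R'`
  have hVR' : V ≤ preimageAlong (QuotientGroup.mk' (V.subgroupOf S))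
      (𝒲.W (⊤ : Subgroup (↥S ⧸ V.subgroupOf S))) := ker_le_preimageAlong hE' _
  have htopne : (⊤ : Subgroup (↥S ⧸ V.subgroupOf S)) ≠ ⊥ := by
    intro h
    apply hVtop
    apply le_antisymm hVS
    intro s hs
    have h2 : (QuotientGroup.mk' (V.subgroupOf S)) ⟨s, hs⟩ ∈ (⊤ : Subgroup (↥S ⧸ V.subgroupOf S)) :=
      Subgroup.mem_top _
    rw [h, Subgroup.mem_bot] at h2
    exact (mk'_ker_iff V ⟨s, hs⟩).mp h2
  have hWne := 𝒲.ne_bot (⊤ : Subgroup (↥S ⧸ V.subgroupOf S)) hS' htopne
  obtain ⟨y, hy1⟩ := (Subgroup.ne_bot_iff_exists_ne_one.mp hWne)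
  obtain ⟨s, hs⟩ := QuotientGroup.mk'_surjective (V.subgroupOf S) (y : ↥S ⧸ V.subgroupOf S)
  have hsR' : (s : Ω) ∈ preimageAlong (QuotientGroup.mk' (V.subgroupOf S))
      (𝒲.W (⊤ : Subgroup (↥S ⧸ V.subgroupOf S))) := by
    refine mem_preimageAlong.mpr ⟨s.2, ?_⟩
    rw [hs]
    exact y.2
  have hsV : (s : Ω) ∉ V := by
    intro h
    have := (mk'_ker_iff V s).mpr h
    rw [hs] at this
    apply hy1
    exact Subtype.ext this
  have hlt : V < preimageAlong (QuotientGroup.mk' (V.subgroupOf S))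
      (𝒲.W (⊤ : Subgroup (↥S ⧸ V.subgroupOf S))) :=
    lt_of_le_of_ne hVR' (fun h => hsV (h ▸ hsR'))
  haveI : Finite ↥(preimageAlong (QuotientGroup.mk' (V.subgroupOf S))
      (𝒲.W (⊤ : Subgroup (↥S ⧸ V.subgroupOf S)))) := finite_of_le hR'S
  have := card_lt_card_of_lt hlt
  omega

/-- a non-inner saturated system has a candidate -/
theorem exists_candidate [Finite S] {p : ℕ} [Fact p.Prime] (hS : IsPGroup p S)
    (F : FusionSystem S) (hF : F.IsSaturated p) (hni : ¬ Inner F) :
    ∃ V : Subgroup Ω, V ≠ ⊥ ∧ F.IsFullyNormalized V ∧ NormWit p F V := by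
  obtain ⟨U, β, hUS, hβ⟩ := exists_paut_of_not_inner hS F hF hni
  have hUne : U ≠ ⊥ := by
    rintro rfl
    apply hβ.2.1
    ext x
    have : x = 1 := Subsingleton.elim _ _
    rw [this, map_one]
    rfl
  have hwU : NormWit p F U := ⟨U, β, le_rfl, le_normalizerIn_self hUS, hβ, fun x _ => (β x).2⟩
  obtain ⟨V₀, hUV₀, hV₀n⟩ := exists_fullyNormalized_conj F hUS
  obtain ⟨-, hV₀a, hV₀r⟩ := saturated_fullyNormalized hS F hF hV₀n
  obtain ⟨M₀⟩ := nonempty_normalizerHom hS F hV₀a hV₀r hUV₀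
  refine ⟨V₀, ?_, hV₀n, normWit_transport hUS M₀ hwU⟩
  intro h
  have h1 := Cfsg.Agent.S5082.card_eq_of_isConj F hUV₀
  rw [h, Subgroup.card_bot] at h1
  exact hUne (Subgroup.eq_bot_of_card_eq _ h1)

/-- the Glauberman–Thompson theorem for fusion systems, functor form -/
theorem gt_main {p : ℕ} [Fact p.Prime] (𝒲 : GTFunctor.{u} p) :
    ∀ (n : ℕ) {Ω : Type u} [Group Ω] (S : Subgroup Ω) [Finite S], Nat.card S = n →
      IsPGroup p S → ∀ F : FusionSystem S, F.IsSaturated p → ¬ Inner F →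
        NormWit p F (𝒲.W S) := by
  intro n
  induction n using Nat.strong_induction_on with
  | _ n IH =>
    intro Ω _ S _ hn hS F hF hni
    by_contra hW
    have ih : IHyp p 𝒲 (Nat.card S) := fun S' _ hlt hS' F' hF' hni' =>
      IH (Nat.card S') (hn ▸ hlt) S' rfl hS' F' hF' hni'
    obtain ⟨V₀, hV₀⟩ := exists_candidate hS F hF hni
    obtain ⟨V, ⟨hVne, hVn, hwV⟩, hVmax⟩ := exists_max_nat
      {V : Subgroup Ω | V ≠ ⊥ ∧ F.IsFullyNormalized V ∧ NormWit p F V} ⟨V₀, hV₀⟩
      (fun V => Nat.card (normalizerIn S V) * (Nat.card S + 1) + Nat.card V)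
      (Nat.card S * (Nat.card S + 1) + Nat.card S) (by
        rintro V ⟨-, hVn, -⟩
        have h1 : Nat.card (normalizerIn S V) ≤ Nat.card S :=
          card_le_card_of_le_of_finite (normalizerIn_le S V)
        have h2 : Nat.card V ≤ Nat.card S := card_le_card_of_le_of_finite hVn.1
        have h3 : Nat.card (normalizerIn S V) * (Nat.card S + 1) ≤
            Nat.card S * (Nat.card S + 1) := Nat.mul_le_mul_right _ h1
        show Nat.card (normalizerIn S V) * (Nat.card S + 1) + Nat.card V ≤ _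
        omega)
    have hVS : V ≤ S := hVn.1
    have hVcard : Nat.card V ≤ Nat.card S := card_le_card_of_le_of_finite hVS
    -- the normalizer of `V` is `S`
    have hNS : normalizerIn S V = S := by
      by_contra hR
      obtain ⟨V', hV'ne, hV'n, hwV', hlt⟩ := climb 𝒲 hS F hF hVn hVne hwV hR ih
      have h1 := hVmax V' ⟨hV'ne, hV'n, hwV'⟩
      have h2 : (Nat.card (normalizerIn S V) + 1) * (Nat.card S + 1) ≤
          Nat.card (normalizerIn S V') * (Nat.card S + 1) := Nat.mul_le_mul_right _ hlt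
      have h1' : Nat.card (normalizerIn S V') * (Nat.card S + 1) + Nat.card V' ≤
          Nat.card (normalizerIn S V) * (Nat.card S + 1) + Nat.card V := h1
      have h3 : (Nat.card (normalizerIn S V) + 1) * (Nat.card S + 1) =
          Nat.card (normalizerIn S V) * (Nat.card S + 1) + (Nat.card S + 1) := by ring
      omega
    have hSV : S ≤ Subgroup.normalizer (V : Set Ω) := inf_eq_left.mp hNS
    have hmax : ∀ R' : Subgroup Ω, R' ≤ S → S ≤ Subgroup.normalizer (R' : Set Ω) →
        NormWit p F R' → Nat.card R' ≤ Nat.card V := by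
      intro R' hR'S hSR' hwR'
      haveI : Finite V := finite_of_le hVS
      by_cases hR'ne : R' = ⊥
      · rw [hR'ne, Subgroup.card_bot]
        exact Nat.card_pos
      · have h1 := hVmax R' ⟨hR'ne, fullyNormalized_of_normal F hR'S hSR', hwR'⟩
        have h1' : Nat.card (normalizerIn S R') * (Nat.card S + 1) + Nat.card R' ≤
            Nat.card (normalizerIn S V) * (Nat.card S + 1) + Nat.card V := h1
        rw [normalizerIn_eq_self hSR', hNS] at h1'
        omega
    by_cases hVtop : V = S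
    · -- `Aut_F(S)` has a witness, which normalizes `W S`
      obtain ⟨U, β, hSU, hUN, hβ, hinv⟩ := hwV
      have hUS : U ≤ S := hUN.trans (normalizerIn_le S V)
      have hUeq : S = U := le_antisymm (hVtop ▸ hSU) hUS
      subst hUeq
      apply hW
      exact ⟨S, β, 𝒲.le S, le_inf le_rfl (Subgroup.le_normalizer.trans (𝒲.normalizer_le S)), hβ,
        fun x hx => 𝒲.aut_mem S β hx⟩
    · obtain ⟨Ω', _, S', θ, E', hE', hin⟩ := quot_step 𝒲 hS F hF hVS hSV hVne hVtop ih hmax
      have hw₁ := normWit_sup_centralizer hS F hF hVS hSV hE' hin hwV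
      have hV₁S : V ⊔ centralizerIn S V ≤ S := sup_le hVS (centralizerIn_le S V)
      have hSV₁ : S ≤ Subgroup.normalizer ((V ⊔ centralizerIn S V : Subgroup Ω) : Set Ω) := by
        intro s hs
        have h1 := hSV hs
        have h2 := le_normalizer_centralizerIn hSV hs
        refine mem_normalizer_of_forall (fun y hy => ?_) (fun y hy => ?_)
        · have hy' : y ∈ (V ⊔ centralizerIn S V).comap (MulAut.conj s).toMonoidHom := by
            revert y
            rw [← SetLike.le_def]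
            refine sup_le (fun y hy => ?_) (fun y hy => ?_)
            · exact Subgroup.mem_sup_left ((Subgroup.mem_normalizer_iff.mp h1 y).mp hy)
            · exact Subgroup.mem_sup_right ((Subgroup.mem_normalizer_iff.mp h2 y).mp hy)
          exact hy'
        · have hy' : y ∈ (V ⊔ centralizerIn S V).comap (MulAut.conj s⁻¹).toMonoidHom := by
            revert y
            rw [← SetLike.le_def]
            refine sup_le (fun y hy => ?_) (fun y hy => ?_)
            · refine Subgroup.mem_sup_left ?_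
              have := (Subgroup.mem_normalizer_iff''.mp h1 y).mp hy
              simpa using this
            · refine Subgroup.mem_sup_right ?_
              have := (Subgroup.mem_normalizer_iff''.mp h2 y).mp hy
              simpa using this
          simpa using hy'
      have h1 := hmax _ hV₁S hSV₁ hw₁
      haveI : Finite ↥(V ⊔ centralizerIn S V) := finite_of_le hV₁S
      have h2 : V = V ⊔ centralizerIn S V := Subgroup.eq_of_le_of_card_ge le_sup_left h1
      have hcent : centralizerIn S V ≤ V := sup_eq_left.mp h2.symm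
      exact normSys_not_inner hS F hVS hSV hwV
        (inner_normSys_of_centric 𝒲 hS F hF hVS hSV hcent hW)

end Cfsg.Agent.Lib.Helper27.GT
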