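import Mathlib
import Cfsg.Agent.Lib.Helper27.GTMain

/-!
# A non-inner saturated fusion system contains a non-inner constrained one (functor form)
-/

set_option autoImplicit false

namespace Cfsg.Agent.Lib.Helper27.GT

open Cfsg Cfsg.FusionSystem Cfsg.Agent.Lib.Helper26 Cfsg.Agent.Lib.Helper27

universe u

variable {Ω : Type u} [Group Ω] {S : Subgroup Ω}

theorem normal_sup_centralizerIn {V : Subgroup Ω}
    (hSV : S ≤ Subgroup.normalizer (V : Set Ω)) :
    S ≤ Subgroup.normalizer ((V ⊔ centralizerIn S V : Subgroup Ω) : Set Ω) := by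
  intro s hs
  have h1 := hSV hs
  have h2 := le_normalizer_centralizerIn hSV hs
  refine mem_normalizer_of_forall (fun y hy => ?_) (fun y hy => ?_)
  · have hy' : y ∈ (V ⊔ centralizerIn S V).comap (MulAut.conj s).toMonoidHom := by
      revert y
      rw [← SetLike.le_def]
      refine sup_le (fun y hy => ?_) (fun y hy => ?_)
      · exact Subgroup.mem_sup_left ((Subgroup.mem_normalizer_iff.mp h1 y).mp hy)
      · exact Subgroup.mem_sup_right ((Subgroup.mem_normalizer_iff.mp h2 y).mp hy)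
    exact hy'
  · have hy' : y ∈ (V ⊔ centralizerIn S V).comap (MulAut.conj s⁻¹).toMonoidHom := by
      revert y
      rw [← SetLike.le_def]
      refine sup_le (fun y hy => ?_) (fun y hy => ?_)
      · refine Subgroup.mem_sup_left ?_
        have := (Subgroup.mem_normalizer_iff''.mp h1 y).mp hy
        simpa using this
      · refine Subgroup.mem_sup_right ?_
        have := (Subgroup.mem_normalizer_iff''.mp h2 y).mp hy
        simpa using this
    simpa using hy'

theorem ihyp_all {p : ℕ} [Fact p.Prime] (𝒲 : GTFunctor.{u} p) (n : ℕ) : IHyp p 𝒲 n :=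
  fun S' _ _ hS' F' hF' hni' => gt_main 𝒲 (Nat.card S') S' rfl hS' F' hF' hni'

/-- a non-inner saturated fusion system has a normal subgroup `V` of `S` containing its
centralizer whose normalizer system is not inner -/
theorem exists_normal_centric_wit [Finite S] {p : ℕ} [Fact p.Prime] (𝒲 : GTFunctor.{u} p)
    (hS : IsPGroup p S) (F : FusionSystem S) (hF : F.IsSaturated p) (hni : ¬ Inner F) :
    ∃ V : Subgroup Ω, V ≤ S ∧ S ≤ Subgroup.normalizer (V : Set Ω) ∧ centralizerIn S V ≤ V ∧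
      NormWit p F V := by
  have hW := gt_main 𝒲 (Nat.card S) S rfl hS F hF hni
  have hWS : 𝒲.W S ≤ S := 𝒲.le S
  have hSW : S ≤ Subgroup.normalizer (𝒲.W S : Set Ω) :=
    Subgroup.le_normalizer.trans (𝒲.normalizer_le S)
  have hSne : S ≠ ⊥ := by
    rintro rfl
    obtain ⟨U, β, hUS, hβ⟩ := exists_paut_of_not_inner hS F hF hni
    apply hβ.2.1
    ext x
    have hx : (x : Ω) = 1 := (Subgroup.mem_bot.mp (hUS x.2))
    have hx1 : x = 1 := Subtype.ext hx
    rw [hx1, map_one]
    rfl
  have hWne : 𝒲.W S ≠ ⊥ := 𝒲.ne_bot S hS hSne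
  obtain ⟨V, ⟨hVS, hSV, hwV⟩, hVmax⟩ := exists_max_nat
    {V : Subgroup Ω | V ≤ S ∧ S ≤ Subgroup.normalizer (V : Set Ω) ∧ NormWit p F V}
    ⟨𝒲.W S, hWS, hSW, hW⟩ (fun V => Nat.card V) (Nat.card S) (by
      rintro V ⟨hVS, -, -⟩
      exact card_le_card_of_le_of_finite hVS)
  have hmax : ∀ R' : Subgroup Ω, R' ≤ S → S ≤ Subgroup.normalizer (R' : Set Ω) →
      NormWit p F R' → Nat.card R' ≤ Nat.card V := fun R' h1 h2 h3 => hVmax R' ⟨h1, h2, h3⟩
  refine ⟨V, hVS, hSV, ?_, hwV⟩
  haveI : Finite V := finite_of_le hVS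
  have hVne : V ≠ ⊥ := by
    rintro rfl
    have h1 := hmax _ hWS hSW hW
    rw [Subgroup.card_bot] at h1
    haveI : Finite ↥(𝒲.W S) := finite_of_le hWS
    exact hWne ((Subgroup.card_le_one_iff_eq_bot _).mp h1)
  by_cases hVtop : V = S
  · rw [hVtop]
    exact centralizerIn_le S S
  · obtain ⟨Ω', _, S', θ, E', hE', hin⟩ :=
      quot_step 𝒲 hS F hF hVS hSV hVne hVtop (ihyp_all 𝒲 _) hmax
    have hw₁ := normWit_sup_centralizer hS F hF hVS hSV hE' hin hwV
    have hV₁S : V ⊔ centralizerIn S V ≤ S := sup_le hVS (centralizerIn_le S V)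
    have h1 := hmax _ hV₁S (normal_sup_centralizerIn hSV) hw₁
    haveI : Finite ↥(V ⊔ centralizerIn S V) := finite_of_le hV₁S
    have h2 : V = V ⊔ centralizerIn S V := Subgroup.eq_of_le_of_card_ge le_sup_left h1
    exact sup_eq_left.mp h2.symm

/-- a non-inner saturated fusion system contains a non-inner constrained one -/
theorem exists_constrained [Finite S] {p : ℕ} [Fact p.Prime] (𝒲 : GTFunctor.{u} p)
    (hS : IsPGroup p S) (F : FusionSystem S) (hF : F.IsSaturated p) (hni : ¬ Inner F) :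
    ∃ E : FusionSystem S, E ≤ F ∧ E.IsConstrained p ∧ ¬ Inner E := by
  obtain ⟨V, hVS, hSV, hcent, hwV⟩ := exists_normal_centric_wit 𝒲 hS F hF hni
  refine ⟨normSys F V hVS hSV, normSys_le F V hVS hSV,
    ⟨normSys_saturated hS F hF V hVS hSV, V, normSys_isNormal F V hVS hSV, hVS, ?_⟩,
    normSys_not_inner hS F hVS hSV hwV⟩
  intro Q hQ
  rw [isConj_eq_of_isNormal _ (normSys_isNormal F V hVS hSV) hQ]
  exact hcent

end Cfsg.Agent.Lib.Helper27.GT
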