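import Mathlib
import Cfsg.Agent.Lib.Helper27.GTConstrained

/-!
# The common core of the Glauberman–Thompson type inductions

`core`: for a saturated non-inner fusion system, a goal `Stop` follows from three local steps
(climbing, quotient, constrained).
-/

set_option autoImplicit false

namespace Cfsg.Agent.Lib.Helper27.GT

open Cfsg Cfsg.FusionSystem Cfsg.Agent.Lib.Helper26 Cfsg.Agent.Lib.Helper27

universe u

variable {Ω : Type u} [Group Ω] {S : Subgroup Ω}

/-- a witness of a normalizer system is a witness of the system -/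
theorem normWit_of_normalizerSystem {p : ℕ} {F : FusionSystem S} {V : Subgroup Ω}
    {N : FusionSystem (normalizerIn S V)} (hN : F.IsNormalizerSystem V N) {X : Subgroup Ω}
    (h : NormWit p N X) : NormWit p F X := by
  obtain ⟨U₁, β₁, hWU₁, hU₁N, ⟨hβ₁N, hβ₁1, hβ₁o⟩, hinv₁⟩ := h
  have hRS : normalizerIn S V ≤ S := normalizerIn_le S V
  have hU₁R : U₁ ≤ normalizerIn S V := hU₁N.trans (normalizerIn_le _ _)
  have hU₁S : U₁ ≤ S := hU₁R.trans hRS
  have hβ₁F : β₁ ∈ F.autGroup U₁ := by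
    rw [mem_autGroup_iff F hU₁S]
    have := (mem_autGroup_iff _ hU₁R).mp hβ₁N
    rw [hN U₁] at this
    exact this.1
  exact ⟨U₁, β₁, hWU₁, le_inf hU₁S (hU₁N.trans inf_le_right), ⟨hβ₁F, hβ₁1, hβ₁o⟩, hinv₁⟩

/-- generic climbing -/
theorem climb_of_wit [Finite S] {p : ℕ} [Fact p.Prime] (hS : IsPGroup p S)
    (F : FusionSystem S) (hF : F.IsSaturated p) {V X : Subgroup Ω}
    (hR : normalizerIn S V ≠ S) (hXne : X ≠ ⊥) (hXR : X ≤ normalizerIn S V)
    (hwX : NormWit p F X)
    (hle : normalizerIn S (normalizerIn S V) ≤ normalizerIn S X) :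
    ∃ V' : Subgroup Ω, V' ≠ ⊥ ∧ F.IsFullyNormalized V' ∧ NormWit p F V' ∧
      Nat.card (normalizerIn S V) < Nat.card (normalizerIn S V') := by
  have hRS : normalizerIn S V ≤ S := normalizerIn_le S V
  haveI : Finite ↥(normalizerIn S V) := finite_of_le hRS
  have hXS : X ≤ S := hXR.trans hRS
  have hlt : normalizerIn S V < normalizerIn S (normalizerIn S V) := lt_normalizerIn hS hRS hR
  obtain ⟨V', hXV', hV'n⟩ := exists_fullyNormalized_conj F hXS
  obtain ⟨-, hV'a, hV'r⟩ := saturated_fullyNormalized hS F hF hV'n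
  obtain ⟨M⟩ := nonempty_normalizerHom hS F hV'a hV'r hXV'
  refine ⟨V', ?_, hV'n, normWit_transport hXS M hwX, ?_⟩
  · intro h
    have h1 := Cfsg.Agent.S5082.card_eq_of_isConj F hXV'
    rw [h, Subgroup.card_bot] at h1
    exact hXne (Subgroup.eq_bot_of_card_eq _ h1)
  · haveI : Finite ↥(normalizerIn S (normalizerIn S V)) := finite_of_le (normalizerIn_le _ _)
    haveI : Finite ↥(normalizerIn S X) := finite_of_le (normalizerIn_le _ _)
    haveI : Finite ↥(normalizerIn S V') := finite_of_le (normalizerIn_le _ _)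
    have h1 := card_lt_card_of_lt hlt
    have h2 : Nat.card ↥(normalizerIn S (normalizerIn S V)) ≤ Nat.card ↥(normalizerIn S X) :=
      Nat.card_le_card_of_injective (Subgroup.inclusion hle) (Subgroup.inclusion_injective _)
    have h3 : Nat.card ↥(normalizerIn S X) ≤ Nat.card ↥(normalizerIn S V') :=
      Nat.card_le_card_of_injective (fun x => (⟨M.φ x, M.maps x⟩ : ↥(normalizerIn S V')))
        (fun a b hab => M.injective (congrArg Subtype.val hab))
    omega

/-- the normalizer system of a candidate is saturated and not inner -/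
theorem normalizerSystem_facts [Finite S] {p : ℕ} [Fact p.Prime] (hS : IsPGroup p S)
    (F : FusionSystem S) (hF : F.IsSaturated p) {V : Subgroup Ω} (hVn : F.IsFullyNormalized V)
    (hw : NormWit p F V) :
    (normalizerSystem F V hVn.1).IsSaturated p ∧ ¬ Inner (normalizerSystem F V hVn.1) :=
  ⟨normalizerSystem_saturated hS F hF hVn _ (normalizerSystem_isNormalizerSystem F V hVn.1),
    not_inner_of_normWit hS hw (normalizerSystem_isNormalizerSystem F V hVn.1)⟩

/-- generic quotient step -/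
theorem quot_step_gen [Finite S] {p : ℕ} [Fact p.Prime] (hS : IsPGroup p S)
    (F : FusionSystem S) (hF : F.IsSaturated p) {V : Subgroup Ω} (hVS : V ≤ S)
    (hSV : S ≤ Subgroup.normalizer (V : Set Ω)) [hnorm : (V.subgroupOf S).Normal] (hVne : V ≠ ⊥)
    (hmax : ∀ R' : Subgroup Ω, R' ≤ S → S ≤ Subgroup.normalizer (R' : Set Ω) → NormWit p F R' →
      Nat.card R' ≤ Nat.card V)
    (hX : ∀ E' : FusionSystem (⊤ : Subgroup (↥S ⧸ V.subgroupOf S)),
      (normSys F V hVS hSV).IsFactorSystem V (QuotientGroup.mk' (V.subgroupOf S)) E' →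
      E'.IsSaturated p → ¬ Inner E' →
      Nat.card ↥(⊤ : Subgroup (↥S ⧸ V.subgroupOf S)) < Nat.card S →
      ∃ X' : Subgroup (↥S ⧸ V.subgroupOf S), X' ≠ ⊥ ∧
        (∀ s r : ↥S ⧸ V.subgroupOf S, r ∈ X' → s * r * s⁻¹ ∈ X') ∧ NormWit p E' X') :
    ∃ (Ω' : Type u) (_ : Group Ω') (S' : Subgroup Ω') (θ : ↥S →* Ω') (E' : FusionSystem S'),
      (normSys F V hVS hSV).IsFactorSystem V θ E' ∧ Inner E' := by
  have hEsat := normSys_saturated hS F hF V hVS hSV
  have hVsc : (normSys F V hVS hSV).StronglyClosed V :=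
    stronglyClosed_of_isNormal _ (normSys_isNormal F V hVS hSV)
  have hE' := factorSystem_isFactorSystem (normSys F V hVS hSV) hVsc
    (QuotientGroup.mk' (V.subgroupOf S)) (mk'_ker_iff V) (mk'_range_top V)
  refine ⟨↥S ⧸ V.subgroupOf S, inferInstance, ⊤, QuotientGroup.mk' (V.subgroupOf S), _, hE', ?_⟩
  by_contra hni
  have hE'sat := factor_saturated hS hEsat hVsc hE'
  haveI : Finite (↥S ⧸ V.subgroupOf S) := inferInstance
  haveI : Finite ↥(⊤ : Subgroup (↥S ⧸ V.subgroupOf S)) := inferInstance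
  haveI : Finite V := finite_of_le hVS
  have hcardV : Nat.card (V.subgroupOf S) = Nat.card V :=
    Nat.card_congr (Subgroup.subgroupOfEquivOfLe hVS).toEquiv
  have hV2 : 1 < Nat.card V := by
    have h1 : Nat.card V ≠ 1 := fun h => hVne (Subgroup.eq_bot_of_card_eq _ h)
    have h2 : 0 < Nat.card V := Nat.card_pos
    omega
  have hcard : Nat.card ↥(⊤ : Subgroup (↥S ⧸ V.subgroupOf S)) < Nat.card S := by
    rw [Subgroup.card_top]
    have h1 := Subgroup.card_eq_card_quotient_mul_card_subgroup (V.subgroupOf S)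
    rw [hcardV] at h1
    have h2 : 0 < Nat.card (↥S ⧸ V.subgroupOf S) := Nat.card_pos
    rw [h1]
    nlinarith
  obtain ⟨X', hX'ne, hX'conj, hw'⟩ := hX _ hE' hE'sat hni hcard
  have hwF := normWit_mono (normSys_le F V hVS hSV) (normWit_lift hE' hw')
  have hR'S := preimageAlong_le (QuotientGroup.mk' (V.subgroupOf S)) X'
  have hconj : ∀ s ∈ S, ∀ r ∈ preimageAlong (QuotientGroup.mk' (V.subgroupOf S)) X',
      s * r * s⁻¹ ∈ preimageAlong (QuotientGroup.mk' (V.subgroupOf S)) X' := by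
    intro s hs r hr
    obtain ⟨hrS, hr'⟩ := mem_preimageAlong.mp hr
    refine mem_preimageAlong.mpr ⟨S.mul_mem (S.mul_mem hs hrS) (S.inv_mem hs), ?_⟩
    have e : (⟨s * r * s⁻¹, S.mul_mem (S.mul_mem hs hrS) (S.inv_mem hs)⟩ : S) =
        ⟨s, hs⟩ * ⟨r, hrS⟩ * ⟨s, hs⟩⁻¹ := rfl
    rw [e, map_mul, map_mul, map_inv]
    exact hX'conj _ _ hr'
  have hSR' : S ≤ Subgroup.normalizer
      ((preimageAlong (QuotientGroup.mk' (V.subgroupOf S)) X' : Subgroup Ω) : Set Ω) := by
    intro s hs
    refine mem_normalizer_of_forall (fun r hr => hconj s hs r hr) (fun r hr => ?_)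
    have := hconj s⁻¹ (S.inv_mem hs) r hr
    rwa [inv_inv] at this
  have h1 := hmax _ hR'S hSR' hwF
  have hVR' : V ≤ preimageAlong (QuotientGroup.mk' (V.subgroupOf S)) X' :=
    ker_le_preimageAlong hE' _
  obtain ⟨y, hy1⟩ := (Subgroup.ne_bot_iff_exists_ne_one.mp hX'ne)
  obtain ⟨s, hs⟩ := QuotientGroup.mk'_surjective (V.subgroupOf S) (y : ↥S ⧸ V.subgroupOf S)
  have hsR' : (s : Ω) ∈ preimageAlong (QuotientGroup.mk' (V.subgroupOf S)) X' := by
    refine mem_preimageAlong.mpr ⟨s.2, ?_⟩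
    rw [hs]
    exact y.2
  have hsV : (s : Ω) ∉ V := by
    intro h
    have := (mk'_ker_iff V s).mpr h
    rw [hs] at this
    apply hy1
    exact Subtype.ext this
  have hlt : V < preimageAlong (QuotientGroup.mk' (V.subgroupOf S)) X' :=
    lt_of_le_of_ne hVR' (fun h => hsV (h ▸ hsR'))
  haveI : Finite ↥(preimageAlong (QuotientGroup.mk' (V.subgroupOf S)) X') := finite_of_le hR'S
  have := card_lt_card_of_lt hlt
  omega

/-- the common core -/
theorem core [Finite S] {p : ℕ} [Fact p.Prime] (hS : IsPGroup p S)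
    (F : FusionSystem S) (hF : F.IsSaturated p) (hni : ¬ Inner F) {Stop : Prop}
    (h1 : ∀ V : Subgroup Ω, F.IsFullyNormalized V → V ≠ ⊥ → NormWit p F V →
      normalizerIn S V ≠ S →
      ∃ X : Subgroup Ω, X ≠ ⊥ ∧ X ≤ normalizerIn S V ∧ NormWit p F X ∧
        normalizerIn S (normalizerIn S V) ≤ normalizerIn S X)
    (h2 : ∀ (V : Subgroup Ω) (hVS : V ≤ S) (hSV : S ≤ Subgroup.normalizer (V : Set Ω)),
      V ≠ ⊥ → V ≠ S → NormWit p F V →
      (∀ R' : Subgroup Ω, R' ≤ S → S ≤ Subgroup.normalizer (R' : Set Ω) → NormWit p F R' →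
        Nat.card R' ≤ Nat.card V) →
      Stop ∨ ∃ (Ω' : Type u) (_ : Group Ω') (S' : Subgroup Ω') (θ : ↥S →* Ω')
        (E' : FusionSystem S'), (normSys F V hVS hSV).IsFactorSystem V θ E' ∧ Inner E')
    (h3 : ∀ (V : Subgroup Ω), V ≤ S → S ≤ Subgroup.normalizer (V : Set Ω) →
      centralizerIn S V ≤ V → NormWit p F V → Stop) : Stop := by
  by_contra hstop
  obtain ⟨V₀, hV₀⟩ := exists_candidate hS F hF hni
  obtain ⟨V, ⟨hVne, hVn, hwV⟩, hVmax⟩ := exists_max_nat
    {V : Subgroup Ω | V ≠ ⊥ ∧ F.IsFullyNormalized V ∧ NormWit p F V} ⟨V₀, hV₀⟩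
    (fun V => Nat.card (normalizerIn S V) * (Nat.card S + 1) + Nat.card V)
    (Nat.card S * (Nat.card S + 1) + Nat.card S) (by
      rintro V ⟨-, hVn, -⟩
      have h1 : Nat.card (normalizerIn S V) ≤ Nat.card S :=
        card_le_card_of_le_of_finite (normalizerIn_le S V)
      have h2 : Nat.card V ≤ Nat.card S := card_le_card_of_le_of_finite hVn.1
      have h3 : Nat.card (normalizerIn S V) * (Nat.card S + 1) ≤
          Nat.card S * (Nat.card S + 1) := Nat.mul_le_mul_right _ h1
      show Nat.card (normalizerIn S V) * (Nat.card S + 1) + Nat.card V ≤ _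
      omega)
  have hVS : V ≤ S := hVn.1
  have hVcard : Nat.card V ≤ Nat.card S := card_le_card_of_le_of_finite hVS
  have hNS : normalizerIn S V = S := by
    by_contra hR
    obtain ⟨X, hXne, hXR, hwX, hle⟩ := h1 V hVn hVne hwV hR
    obtain ⟨V', hV'ne, hV'n, hwV', hlt⟩ := climb_of_wit hS F hF hR hXne hXR hwX hle
    have h1 := hVmax V' ⟨hV'ne, hV'n, hwV'⟩
    have h2 : (Nat.card (normalizerIn S V) + 1) * (Nat.card S + 1) ≤
        Nat.card (normalizerIn S V') * (Nat.card S + 1) := Nat.mul_le_mul_right _ hlt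
    have h1' : Nat.card (normalizerIn S V') * (Nat.card S + 1) + Nat.card V' ≤
        Nat.card (normalizerIn S V) * (Nat.card S + 1) + Nat.card V := h1
    have h3 : (Nat.card (normalizerIn S V) + 1) * (Nat.card S + 1) =
        Nat.card (normalizerIn S V) * (Nat.card S + 1) + (Nat.card S + 1) := by ring
    omega
  have hSV : S ≤ Subgroup.normalizer (V : Set Ω) := inf_eq_left.mp hNS
  have hmax : ∀ R' : Subgroup Ω, R' ≤ S → S ≤ Subgroup.normalizer (R' : Set Ω) →
      NormWit p F R' → Nat.card R' ≤ Nat.card V := by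
    intro R' hR'S hSR' hwR'
    have : Finite V := finite_of_le hVS
    by_cases hR'ne : R' = ⊥
    · rw [hR'ne, Subgroup.card_bot]
      exact Nat.card_pos
    · have h1 := hVmax R' ⟨hR'ne, fullyNormalized_of_normal F hR'S hSR', hwR'⟩
      have h1' : Nat.card (normalizerIn S R') * (Nat.card S + 1) + Nat.card R' ≤
          Nat.card (normalizerIn S V) * (Nat.card S + 1) + Nat.card V := h1
      rw [normalizerIn_eq_self hSR', hNS] at h1'
      omega
  by_cases hVtop : V = S
  · apply hstop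
    refine h3 V hVS hSV ?_ hwV
    rw [hVtop]
    exact centralizerIn_le S S
  · rcases h2 V hVS hSV hVne hVtop hwV hmax with hst | ⟨Ω', _, S', θ, E', hE', hin⟩
    · exact hstop hst
    · have hw₁ := normWit_sup_centralizer hS F hF hVS hSV hE' hin hwV
      have hV₁S : V ⊔ centralizerIn S V ≤ S := sup_le hVS (centralizerIn_le S V)
      have h1 := hmax _ hV₁S (normal_sup_centralizerIn hSV) hw₁
      have : Finite ↥(V ⊔ centralizerIn S V) := finite_of_le hV₁S
      have h2 : V = V ⊔ centralizerIn S V := Subgroup.eq_of_le_of_card_ge le_sup_left h1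
      exact hstop (h3 V hVS hSV (sup_eq_left.mp h2.symm) hwV)

end Cfsg.Agent.Lib.Helper27.GT
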