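import Mathlib
import Cfsg.Agent.Lib.Helper27.GTCore
import Cfsg.Agent.Lib.Helper1.Nilp

/-!
# The Glauberman–Thompson theorem relative to a strongly closed subgroup
-/

set_option autoImplicit false

namespace Cfsg.Agent.Lib.Helper27.GT

open Cfsg Cfsg.FusionSystem Cfsg.Agent.Lib.Helper26 Cfsg.Agent.Lib.Helper27

universe u

variable {Ω : Type u} [Group Ω] {S : Subgroup Ω}

theorem stronglyClosed_normalizer {F : FusionSystem S} {D : Subgroup Ω}
    (hD : F.StronglyClosed D) : S ≤ Subgroup.normalizer (D : Set Ω) := by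
  have key : ∀ s ∈ S, ∀ y ∈ D, s * y * s⁻¹ ∈ D := by
    intro s hs y hy
    exact hD.2 D le_rfl _ (F.conj_mem hD.1 hs) ⟨y, hy⟩
  intro s hs
  refine mem_normalizer_of_forall (key s hs) (fun y hy => ?_)
  have := key s⁻¹ (S.inv_mem hs) y hy
  rwa [inv_inv] at this

theorem stronglyClosed_inf_normalizerSystem {F : FusionSystem S} {V D : Subgroup Ω}
    {N : FusionSystem (normalizerIn S V)} (hN : F.IsNormalizerSystem V N)
    (hD : F.StronglyClosed D) : N.StronglyClosed (D ⊓ normalizerIn S V) := by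
  refine ⟨inf_le_right, fun R hR φ hφ x => Subgroup.mem_inf.mpr ⟨?_, (N.le_of_mem hφ).2 x⟩⟩
  have h1 : φ ∈ F.normalizerHom V R := by
    rw [← hN R]
    exact hφ
  exact hD.2 R (hR.trans inf_le_left) φ h1.1 x

theorem stronglyClosed_factor {Ω' : Type u} [Group Ω'] {S' : Subgroup Ω'} {F : FusionSystem S}
    {T D : Subgroup Ω} {θ : ↥S →* Ω'} {E : FusionSystem S'} (hE : F.IsFactorSystem T θ E)
    (hD : F.StronglyClosed D) : E.StronglyClosed ((D.subgroupOf S).map θ) := by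
  refine ⟨?_, fun R' hR' φ' hφ' x' => ?_⟩
  · rintro _ ⟨s, -, rfl⟩
    rw [← hE.2.2.1]
    exact ⟨s, rfl⟩
  · obtain ⟨-, φ, hφ, hP, hφS, hP', hind⟩ := (hE.2.2.2 R' φ').mp hφ'
    obtain ⟨d, hd, hdx⟩ := hR' x'.2
    have hdpre : (d : Ω) ∈ preimageAlong θ R' := by
      refine mem_preimageAlong.mpr ⟨d.2, ?_⟩
      rw [hdx]
      exact x'.2
    have h1 := hind ⟨d, hdpre⟩
    have h2 : (⟨θ ⟨(d : Ω), hP hdpre⟩, hP' ⟨d, hdpre⟩⟩ : R') = x' := Subtype.ext hdx
    rw [h2] at h1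
    rw [h1]
    have h3 : φ ⟨d, hdpre⟩ ∈ D :=
      apply_mem_of_stronglyClosed F hD hφ ⟨d, hdpre⟩ (Subgroup.mem_subgroupOf.mp hd)
    exact ⟨⟨φ ⟨d, hdpre⟩, hφS _⟩, Subgroup.mem_subgroupOf.mpr h3, rfl⟩

namespace GTFunctor

variable {p : ℕ} (𝒲 : GTFunctor.{u} p)

/-- `W D` is invariant under injective endomorphisms of `D` -/
theorem hom_mem (D : Subgroup Ω) [Finite D] (φ : D →* Ω) (hinj : Function.Injective φ)
    (hmaps : ∀ x : D, φ x ∈ D) {x : D} (hx : (x : Ω) ∈ 𝒲.W D) : φ x ∈ 𝒲.W D := by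
  have hle : φ.range ≤ D := by
    rintro _ ⟨y, rfl⟩
    exact hmaps y
  have hcard : Nat.card D ≤ Nat.card φ.range :=
    (Nat.card_congr (MonoidHom.ofInjective hinj).toEquiv).le
  have hr : φ.range = D := Subgroup.eq_of_le_of_card_ge hle hcard
  have h1 : (⊤ : Subgroup ↥D).map φ = D := by
    rw [← MonoidHom.range_eq_map, hr]
  have h2 := 𝒲.map φ hinj (⊤ : Subgroup ↥D)
  rw [h1] at h2
  rw [h2]
  exact ⟨x, (𝒲.mem_W_top_iff D x).mpr hx, rfl⟩

theorem W_imSub {L : Type u} [Group L] {ι : S →* L} (hι : Function.Injective ι)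
    {D : Subgroup Ω} (hDS : D ≤ S) : 𝒲.W (imSub ι D) = imSub ι (𝒲.W D) := by
  have h1 : imSub ι D = (D.subgroupOf S).map ι := rfl
  have h2 : D = (D.subgroupOf S).map S.subtype := by
    ext y
    constructor
    · intro hy
      exact ⟨⟨y, hDS hy⟩, Subgroup.mem_subgroupOf.mpr hy, rfl⟩
    · rintro ⟨s, hs, rfl⟩
      exact Subgroup.mem_subgroupOf.mp hs
  have h3 : 𝒲.W D = (𝒲.W (D.subgroupOf S)).map S.subtype := by
    conv_lhs => rw [h2]
    exact 𝒲.map S.subtype S.subtype_injective _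
  rw [h1, 𝒲.map ι hι]
  ext y
  constructor
  · rintro ⟨s, hs, rfl⟩
    refine mem_imSub_iff.mpr ⟨s, s.2, ?_, rfl⟩
    rw [h3]
    exact ⟨s, hs, rfl⟩
  · intro hy
    obtain ⟨x, hxS, hx, rfl⟩ := mem_imSub_iff.mp hy
    rw [h3] at hx
    obtain ⟨s, hs, hsx⟩ := hx
    have : s = ⟨x, hxS⟩ := Subtype.ext hsx
    exact ⟨s, hs, by rw [this]⟩

end GTFunctor

/-- a witness for `V ⊇ D` is a witness for `W D` -/
theorem normWit_W_of_le [Finite S] {p : ℕ} [Fact p.Prime] (𝒲 : GTFunctor.{u} p)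
    {F : FusionSystem S} {D V : Subgroup Ω} (hD : F.StronglyClosed D) (hDV : D ≤ V)
    (h : NormWit p F V) : NormWit p F (𝒲.W D) := by
  obtain ⟨U, β, hVU, hUN, hβ, hinv⟩ := h
  have hUS : U ≤ S := hUN.trans (normalizerIn_le S V)
  have hDU : D ≤ U := hDV.trans hVU
  haveI : Finite D := finite_of_le hD.1
  have hβF : U.subtype.comp β.toMonoidHom ∈ F.Hom U := (mem_autGroup_iff F hUS).mp hβ.1
  have hφ := restrict_mem F hβF hDU
  refine ⟨U, β, (𝒲.le D).trans hDU, ?_, hβ, fun x hx => ?_⟩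
  · exact le_inf hUS (hUS.trans ((stronglyClosed_normalizer hD).trans (𝒲.normalizer_le D)))
  · have hxD : (x : Ω) ∈ D := 𝒲.le D hx
    have := 𝒲.hom_mem D ((U.subtype.comp β.toMonoidHom).comp (Subgroup.inclusion hDU))
      (F.injective_of_mem hφ) (fun y => hD.2 D le_rfl _ hφ y) (x := ⟨x, hxD⟩) hx
    exact this

theorem inf_normalizerIn_ne_bot [Finite S] {p : ℕ} [Fact p.Prime] (hS : IsPGroup p S)
    {F : FusionSystem S} {D : Subgroup Ω} (hD : F.StronglyClosed D) (hDne : D ≠ ⊥)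
    {V : Subgroup Ω} (hVS : V ≤ S) : D ⊓ normalizerIn S V ≠ ⊥ := by
  haveI : Group.IsNilpotent S := hS.isNilpotent
  haveI : (D.subgroupOf S).Normal :=
    (Subgroup.normal_subgroupOf_iff_le_normalizer hD.1).mpr (stronglyClosed_normalizer hD)
  have hne : D.subgroupOf S ≠ ⊥ := by
    intro h
    apply hDne
    rw [eq_bot_iff]
    intro y hy
    have : (⟨y, hD.1 hy⟩ : S) ∈ D.subgroupOf S := Subgroup.mem_subgroupOf.mpr hy
    rw [h, Subgroup.mem_bot] at this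
    exact Subgroup.mem_bot.mpr (congrArg Subtype.val this)
  have h1 := Cfsg.Agent.Lib.Helper1.normal_inf_center_ne_bot (D.subgroupOf S) hne
  obtain ⟨⟨z, hz⟩, hz1⟩ := (Subgroup.ne_bot_iff_exists_ne_one.mp h1)
  intro hbot
  apply hz1
  obtain ⟨hzD, hzc⟩ := Subgroup.mem_inf.mp hz
  have hcomm : ∀ y ∈ V, (z : Ω) * y = y * z := by
    intro y hy
    have := Subgroup.mem_center_iff.mp hzc ⟨y, hVS hy⟩
    exact (congrArg Subtype.val this).symm
  have hzN : (z : Ω) ∈ normalizerIn S V := by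
    refine Subgroup.mem_inf.mpr ⟨z.2, ?_⟩
    refine mem_normalizer_of_forall (fun y hy => ?_) (fun y hy => ?_)
    · rw [hcomm y hy, mul_inv_cancel_right]
      exact hy
    · rw [mul_assoc, ← hcomm y hy, inv_mul_cancel_left]
      exact hy
  have : (z : Ω) ∈ D ⊓ normalizerIn S V :=
    Subgroup.mem_inf.mpr ⟨Subgroup.mem_subgroupOf.mp hzD, hzN⟩
  rw [hbot, Subgroup.mem_bot] at this
  exact Subtype.ext (Subtype.ext this)

end Cfsg.Agent.Lib.Helper27.GT
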