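import Mathlib
import Cfsg.Agent.Lib.Helper27.GTRel

/-!
# The Glauberman–Thompson theorem relative to a strongly closed subgroup: main induction
-/

set_option autoImplicit false

namespace Cfsg.Agent.Lib.Helper27.GT

open Cfsg Cfsg.FusionSystem Cfsg.Agent.Lib.Helper26 Cfsg.Agent.Lib.Helper27

universe u

variable {Ω : Type u} [Group Ω] {S : Subgroup Ω}

theorem isStronglyClosed_imSub {L : Type u} [Group L] {F : FusionSystem S} {ι : S →* L}
    (hR : F.IsRealizedBy ι) {D : Subgroup Ω} (hD : F.StronglyClosed D) :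
    Cfsg.IsStronglyClosed (imSub ι D) ι.range := by
  refine ⟨imSub_le_range ι D, fun x hx g hg => ?_⟩
  obtain ⟨d, hdS, hdD, rfl⟩ := mem_imSub_iff.mp hx
  have hPD : Subgroup.zpowers d ≤ D := (Subgroup.zpowers_le).mpr hdD
  have hPS : Subgroup.zpowers d ≤ S := hPD.trans hD.1
  have hK : Subgroup.zpowers (⟨d, hdS⟩ : S) ≤
      ι.range.comap ((MulAut.conj g).toMonoidHom.comp ι) := by
    rw [Subgroup.zpowers_le]
    exact hg
  have h : ∀ y : Subgroup.zpowers d, g * ι ⟨y, hPS y.2⟩ * g⁻¹ ∈ ι.range := by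
    intro y
    obtain ⟨k, hk⟩ := Subgroup.mem_zpowers_iff.mp y.2
    have hy : (⟨y, hPS y.2⟩ : S) ∈ Subgroup.zpowers (⟨d, hdS⟩ : S) := by
      refine Subgroup.mem_zpowers_iff.mpr ⟨k, ?_⟩
      apply Subtype.ext
      rw [Subgroup.coe_zpow]
      exact hk
    exact hK hy
  have hmem := pullHom_mem_hom F hR (Subgroup.zpowers d) hPS g h
  have h1 := hD.2 _ hPD _ hmem ⟨d, Subgroup.mem_zpowers d⟩
  have h2 := apply_pullHom hR.1 (Subgroup.zpowers d) hPS g h ⟨d, Subgroup.mem_zpowers d⟩
  exact mem_imSub_iff.mpr ⟨_, pullHom_mem hR.1 _ hPS g h _, h1, h2⟩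

/-- the relative Glauberman–Thompson theorem, functor form -/
theorem gt_rel {p : ℕ} [Fact p.Prime] (𝒲 : GTFunctor.{u} p)
    (hrel : ∀ {L : Type u} [Group L] [Finite L] (T : Sylow p L) (D : Subgroup L),
      Cfsg.IsStronglyClosed D (T : Subgroup L) →
      HasNormalPComplement p ↥(Subgroup.normalizer (𝒲.W D : Set L)) →
      HasNormalPComplement p L) :
    ∀ (n : ℕ) {Ω : Type u} [Group Ω] (S : Subgroup Ω) [Finite S], Nat.card S = n →
      IsPGroup p S → ∀ F : FusionSystem S, F.IsSaturated p → ∀ D : Subgroup Ω,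
        F.StronglyClosed D → ¬ Inner F → NormWit p F (𝒲.W D) := by
  intro n
  induction n using Nat.strong_induction_on with
  | _ n IH =>
    intro Ω _ S _ hn hS F hF D hD hni
    by_cases hDne : D = ⊥
    · -- trivial case
      have hW : 𝒲.W D = ⊥ := by
        rw [eq_bot_iff, ← hDne]
        exact 𝒲.le D
      rw [hW]
      obtain ⟨U, β, hUS, hβ⟩ := exists_paut_of_not_inner hS F hF hni
      refine ⟨U, β, bot_le, le_inf hUS ?_, hβ, fun x hx => ?_⟩
      · intro u _
        refine mem_normalizer_of_forall (fun y hy => ?_) (fun y hy => ?_)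
        · rw [Subgroup.mem_bot] at hy ⊢
          rw [hy, mul_one, mul_inv_cancel]
        · rw [Subgroup.mem_bot] at hy ⊢
          rw [hy, mul_one, inv_mul_cancel]
      · rw [Subgroup.mem_bot] at hx ⊢
        have : x = 1 := Subtype.ext hx
        rw [this, map_one]
        rfl
    have hSD : S ≤ Subgroup.normalizer (D : Set Ω) := stronglyClosed_normalizer hD
    refine core hS F hF hni ?_ ?_ ?_
    · -- climbing
      intro V hVn hVne hwV hR
      have hVS : V ≤ S := hVn.1
      have hRS : normalizerIn S V ≤ S := normalizerIn_le S V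
      haveI : Finite ↥(normalizerIn S V) := finite_of_le hRS
      have hcard : Nat.card (normalizerIn S V) < Nat.card S :=
        Cfsg.Agent.S5082.card_lt_of_ne hRS hR
      have hNN := normalizerSystem_isNormalizerSystem F V hVS
      obtain ⟨hNsat, hNni⟩ := normalizerSystem_facts hS F hF hVn hwV
      have hD' := stronglyClosed_inf_normalizerSystem hNN hD
      have hw := IH (Nat.card (normalizerIn S V)) (hn ▸ hcard) (normalizerIn S V) rfl
        (hS.to_le hRS) _ hNsat _ hD' hNni
      have hD'ne := inf_normalizerIn_ne_bot hS hD hDne hVS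
      haveI : Finite ↥(D ⊓ normalizerIn S V) := finite_of_le (inf_le_right.trans hRS)
      refine ⟨𝒲.W (D ⊓ normalizerIn S V),
        𝒲.ne_bot _ (hS.to_le (inf_le_right.trans hRS)) hD'ne,
        (𝒲.le _).trans inf_le_right, normWit_of_normalizerSystem hNN hw, ?_⟩
      intro s hs
      obtain ⟨hsS, hsR⟩ := Subgroup.mem_inf.mp hs
      refine Subgroup.mem_inf.mpr ⟨hsS, ?_⟩
      apply 𝒲.normalizer_le
      have h1 := hSD hsS
      refine mem_normalizer_of_forall (fun y hy => ?_) (fun y hy => ?_)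
      · obtain ⟨hyD, hyR⟩ := Subgroup.mem_inf.mp hy
        exact Subgroup.mem_inf.mpr ⟨(Subgroup.mem_normalizer_iff.mp h1 y).mp hyD,
          (Subgroup.mem_normalizer_iff.mp hsR y).mp hyR⟩
      · obtain ⟨hyD, hyR⟩ := Subgroup.mem_inf.mp hy
        exact Subgroup.mem_inf.mpr ⟨(Subgroup.mem_normalizer_iff''.mp h1 y).mp hyD,
          (Subgroup.mem_normalizer_iff''.mp hsR y).mp hyR⟩
    · -- quotient
      intro V hVS hSV hVne hVtop hwV hmax
      by_cases hDV : D ≤ V
      · exact Or.inl (normWit_W_of_le 𝒲 hD hDV hwV)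
      · right
        haveI hnorm : (V.subgroupOf S).Normal :=
          (Subgroup.normal_subgroupOf_iff_le_normalizer hVS).mpr hSV
        refine quot_step_gen hS F hF hVS hSV hVne hmax ?_
        intro E' hE' hE'sat hE'ni hcard
        have hDE : (normSys F V hVS hSV).StronglyClosed D :=
          ⟨hD.1, fun R hR φ hφ x => hD.2 R hR φ (normSys_le F V hVS hSV R hφ) x⟩
        have hD' := stronglyClosed_factor hE' hDE
        haveI : Finite (↥S ⧸ V.subgroupOf S) := inferInstance
        haveI : Finite ↥(⊤ : Subgroup (↥S ⧸ V.subgroupOf S)) := inferInstance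
        have hS' : IsPGroup p ↥(⊤ : Subgroup (↥S ⧸ V.subgroupOf S)) :=
          (hS.of_surjective (QuotientGroup.mk' (V.subgroupOf S))
            (QuotientGroup.mk'_surjective _)).of_equiv Subgroup.topEquiv.symm
        have hw := IH _ (hn ▸ hcard) ⊤ rfl hS' E' hE'sat _ hD' hE'ni
        have hD'ne : (D.subgroupOf S).map (QuotientGroup.mk' (V.subgroupOf S)) ≠ ⊥ := by
          intro h
          apply hDV
          intro d hd
          have h1 : (QuotientGroup.mk' (V.subgroupOf S)) ⟨d, hD.1 hd⟩ ∈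
              (D.subgroupOf S).map (QuotientGroup.mk' (V.subgroupOf S)) :=
            ⟨⟨d, hD.1 hd⟩, Subgroup.mem_subgroupOf.mpr hd, rfl⟩
          rw [h, Subgroup.mem_bot] at h1
          exact (mk'_ker_iff V ⟨d, hD.1 hd⟩).mp h1
        haveI : Finite ↥((D.subgroupOf S).map (QuotientGroup.mk' (V.subgroupOf S))) :=
          inferInstance
        have hD'p : IsPGroup p ↥((D.subgroupOf S).map (QuotientGroup.mk' (V.subgroupOf S))) :=
          hS'.to_le hD'.1
        refine ⟨_, 𝒲.ne_bot _ hD'p hD'ne, ?_, hw⟩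
        intro s r hr
        refine 𝒲.conj_mem _ ?_ hr
        exact stronglyClosed_normalizer hD' (Subgroup.mem_top s)
    · -- constrained
      intro V hVS hSV hcent hwV
      by_contra hW
      have hEsat := normSys_saturated hS F hF V hVS hSV
      have hVn := normSys_isNormal F V hVS hSV
      have hVc : (normSys F V hVS hSV).IsCentric V := by
        refine ⟨hVS, fun Q' hconj => ?_⟩
        rw [isConj_eq_of_isNormal _ hVn hconj]
        exact hcent
      obtain ⟨L, _, ι, hfin, hR, ⟨T, hT⟩, hcore⟩ :=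
        Model.exists_model p hS (normSys F V hVS hSV) ⟨hEsat, V, hVn, hVc⟩
      haveI := hfin
      have hW' : ¬ NormWit p (normSys F V hVS hSV) (𝒲.W D) :=
        fun h => hW (normWit_mono (normSys_le F V hVS hSV) h)
      have h1 := npc_normalizer_of_not_normWit hR T hT ((𝒲.le D).trans hD.1)
        (hSD.trans (𝒲.normalizer_le D)) hW'
      have hDE : (normSys F V hVS hSV).StronglyClosed D :=
        ⟨hD.1, fun R hR φ hφ x => hD.2 R hR φ (normSys_le F V hVS hSV R hφ) x⟩
      have hsc := isStronglyClosed_imSub hR hDE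
      rw [← hT] at hsc
      rw [← 𝒲.W_imSub hR.1 hD.1] at h1
      exact normSys_not_inner hS F hVS hSV hwV (inner_of_npc hR T hT (hrel T _ hsc h1))

end Cfsg.Agent.Lib.Helper27.GT
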