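import Mathlib
import Cfsg.Prelude.Def_PLocal
import Cfsg.Agent.Lib.Helper1.GNPC.ZJFun

/-!
# Functoriality of the (abelian-version) `Z(J(S))` without finiteness of the ambient group
-/

set_option autoImplicit false

namespace Cfsg.Agent.Lib.Helper27.ZJ

open Cfsg

/-- `Z(J(P))` of a group `P`, intrinsically -/
def zjA (P : Type*) [Group P] : Subgroup P :=
  thompsonSubgroupA P ⊓ Subgroup.centralizer (thompsonSubgroupA P : Set P)

section Equiv

variable {P P' : Type*} [Group P] [Group P']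

theorem isMulCommutative_map (e : P ≃* P') {A : Subgroup P} (hA : IsMulCommutative A) :
    IsMulCommutative (A.map e.toMonoidHom) := by
  rw [isMulCommutative_iff] at hA ⊢
  rintro ⟨_, a, ha, rfl⟩ ⟨_, b, hb, rfl⟩
  apply Subtype.ext
  have := congrArg (fun r : A => e (r : P)) (hA ⟨a, ha⟩ ⟨b, hb⟩)
  simp only [Subgroup.coe_mul, map_mul] at this
  exact this

theorem card_map_equiv (e : P ≃* P') (A : Subgroup P) :
    Nat.card (A.map e.toMonoidHom) = Nat.card A :=
  Subgroup.card_map_of_injective e.injective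

theorem map_symm_map (e : P ≃* P') (B : Subgroup P') :
    (B.map e.symm.toMonoidHom).map e.toMonoidHom = B := by
  ext y
  constructor
  · rintro ⟨_, ⟨b, hb, rfl⟩, rfl⟩
    simpa using hb
  · intro hy
    exact ⟨e.symm y, ⟨y, hy, rfl⟩, by simp⟩

theorem maxAbelian_map (e : P ≃* P') {A : Subgroup P} (hA : A ∈ maxAbelianSubgroups P) :
    A.map e.toMonoidHom ∈ maxAbelianSubgroups P' := by
  refine ⟨isMulCommutative_map e hA.1, fun B hB => ?_⟩
  have h1 := hA.2 (B.map e.symm.toMonoidHom) (isMulCommutative_map e.symm hB)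
  rw [card_map_equiv] at h1
  rw [card_map_equiv]
  exact h1

theorem thompsonSubgroupA_map (e : P ≃* P') :
    (thompsonSubgroupA P).map e.toMonoidHom = thompsonSubgroupA P' := by
  unfold thompsonSubgroupA
  apply le_antisymm
  · rw [Subgroup.map_le_iff_le_comap, sSup_le_iff]
    intro A hA
    rw [← Subgroup.map_le_iff_le_comap]
    exact le_sSup (maxAbelian_map e hA)
  · rw [sSup_le_iff]
    intro B hB
    have h1 : B.map e.symm.toMonoidHom ≤ sSup (maxAbelianSubgroups P) :=
      le_sSup (maxAbelian_map e.symm hB)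
    have h2 := Subgroup.map_mono (f := e.toMonoidHom) h1
    rwa [map_symm_map] at h2

theorem zjA_map (e : P ≃* P') : (zjA P).map e.toMonoidHom = zjA P' := by
  unfold zjA
  rw [← thompsonSubgroupA_map e]
  ext y
  constructor
  · rintro ⟨x, hx, rfl⟩
    obtain ⟨hx1, hx2⟩ := Subgroup.mem_inf.mp hx
    refine Subgroup.mem_inf.mpr ⟨⟨x, hx1, rfl⟩, ?_⟩
    rw [Subgroup.mem_centralizer_iff]
    rintro _ ⟨z, hz, rfl⟩
    rw [Subgroup.mem_centralizer_iff] at hx2
    have := congrArg e (hx2 z hz)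
    simpa using this
  · intro hy
    obtain ⟨⟨x, hx, rfl⟩, h2⟩ := Subgroup.mem_inf.mp hy
    refine ⟨x, Subgroup.mem_inf.mpr ⟨hx, ?_⟩, rfl⟩
    rw [Subgroup.mem_centralizer_iff] at h2 ⊢
    intro z hz
    have := h2 (e z) ⟨z, hz, rfl⟩
    apply e.injective
    simpa using this

end Equiv

variable {Ω Ω' : Type*} [Group Ω] [Group Ω']

theorem centerThompsonAOf_eq (S : Subgroup Ω) :
    centerThompsonAOf S = (zjA ↥S).map S.subtype := by
  unfold centerThompsonAOf thompsonSubgroupAOf zjA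
  ext y
  constructor
  · intro hy
    obtain ⟨⟨x, hx, rfl⟩, h2⟩ := Subgroup.mem_inf.mp hy
    refine ⟨x, Subgroup.mem_inf.mpr ⟨hx, ?_⟩, rfl⟩
    rw [Subgroup.mem_centralizer_iff] at h2 ⊢
    intro z hz
    apply Subtype.ext
    exact h2 z ⟨z, hz, rfl⟩
  · rintro ⟨x, hx, rfl⟩
    obtain ⟨hx1, hx2⟩ := Subgroup.mem_inf.mp hx
    refine Subgroup.mem_inf.mpr ⟨⟨x, hx1, rfl⟩, ?_⟩
    rw [Subgroup.mem_centralizer_iff] at hx2 ⊢
    rintro _ ⟨z, hz, rfl⟩
    exact congrArg Subtype.val (hx2 z hz)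

theorem centerThompsonAOf_map (f : Ω →* Ω') (hf : Function.Injective f) (S : Subgroup Ω) :
    centerThompsonAOf (S.map f) = (centerThompsonAOf S).map f := by
  rw [centerThompsonAOf_eq, centerThompsonAOf_eq, ← zjA_map (S.equivMapOfInjective f hf),
    Subgroup.map_map, Subgroup.map_map]
  congr 1

theorem centerThompsonAOf_le (S : Subgroup Ω) : centerThompsonAOf S ≤ S := by
  rw [centerThompsonAOf_eq]
  rintro _ ⟨x, -, rfl⟩
  exact x.2

theorem centerThompsonAOf_ne_bot {p : ℕ} [Fact p.Prime] (S : Subgroup Ω) [Finite S]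
    (hS : IsPGroup p S) (hne : S ≠ ⊥) : centerThompsonAOf S ≠ ⊥ := by
  have h1 : (⊤ : Subgroup ↥S).map S.subtype = S := by
    rw [← MonoidHom.range_eq_map, Subgroup.range_subtype]
  have h2 := centerThompsonAOf_map S.subtype S.subtype_injective (⊤ : Subgroup ↥S)
  rw [h1] at h2
  rw [h2]
  have h3 : centerThompsonAOf (⊤ : Subgroup ↥S) ≠ ⊥ := by
    apply Cfsg.Agent.Lib.Helper1.GNPC.ctA_ne_bot (p := p)
    · exact hS.of_equiv Subgroup.topEquiv.symm
    · intro h
      apply hne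
      rw [← h1, h, Subgroup.map_bot]
  intro h
  exact h3 ((Subgroup.map_eq_bot_iff_of_injective _ S.subtype_injective).mp h)

end Cfsg.Agent.Lib.Helper27.ZJ
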