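import Mathlib
import Cfsg.Agent.Lib.Helper27.GTMain
import Cfsg.Agent.Lib.Helper27.ZJFunctor
import Cfsg.Agent.S0659

/-!
# The functor `Z(J(-))` as a Glauberman–Thompson functor for odd primes
-/

set_option autoImplicit false

namespace Cfsg.Agent.Lib.Helper27.GT

open Cfsg Cfsg.FusionSystem Cfsg.Agent.Lib.Helper26 Cfsg.Agent.Lib.Helper27

universe u

/-- `Z(J(-))` (abelian version) for an odd prime -/
def zjFunctor (p : ℕ) [Fact p.Prime] (hp : p ≠ 2) : GTFunctor.{u} p where
  W := fun S => centerThompsonAOf S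
  le := fun S => ZJ.centerThompsonAOf_le S
  ne_bot := fun S _ hS hne => ZJ.centerThompsonAOf_ne_bot S hS hne
  map := fun f hf S => ZJ.centerThompsonAOf_map f hf S
  npc := fun T _ h => Cfsg.Agent.S0659.result hp T h

/-- the Glauberman–Thompson theorem for fusion systems, `p` odd -/
theorem gt_zj {Ω : Type u} [Group Ω] {S : Subgroup Ω} [Finite S] {p : ℕ} [Fact p.Prime]
    (hp : p ≠ 2) (hS : IsPGroup p S) (F : FusionSystem S) (hF : F.IsSaturated p)
    (hni : ¬ Inner F) : NormWit p F (centerThompsonAOf S) :=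
  gt_main (zjFunctor p hp) (Nat.card S) S rfl hS F hF hni

end Cfsg.Agent.Lib.Helper27.GT
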