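import Mathlib
import Cfsg.Agent.Lib.Helper9.ZJ4

/-!
# An axiomatic `ZJ`-type theorem for groups

For a Sylow `p`-subgroup `P` of a finite group `G` and a family `𝒜` of abelian subgroups of `P`
satisfying an invariance and a replacement axiom: if `G` is `p`-stable and of characteristic `p`,
then the intersection of the members of `𝒜` is normal in `G`.
-/

set_option autoImplicit false

namespace Cfsg.Agent.Lib.Helper27.Gax

open scoped Pointwise commutatorElement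
open Cfsg.Agent.Lib.Helper9

section Gax1

variable {G : Type*} [Group G]

/-- the intersection of the members of `𝒜` contained in `Q` -/
def fInf (𝒜 : Set (Subgroup G)) (Q : Subgroup G) : Subgroup G := sInf {A | A ∈ 𝒜 ∧ A ≤ Q}

theorem fInf_le_of_mem {𝒜 : Set (Subgroup G)} {Q A : Subgroup G} (hA : A ∈ 𝒜) (hAQ : A ≤ Q) :
    fInf 𝒜 Q ≤ A := sInf_le ⟨hA, hAQ⟩

theorem fInf_anti {𝒜 : Set (Subgroup G)} {Q₁ Q : Subgroup G} (h : Q₁ ≤ Q) :
    fInf 𝒜 Q ≤ fInf 𝒜 Q₁ :=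
  sInf_le_sInf (fun _ hA => ⟨hA.1, hA.2.trans h⟩)

theorem mem_fInf {𝒜 : Set (Subgroup G)} {Q : Subgroup G} {x : G} :
    x ∈ fInf 𝒜 Q ↔ ∀ A ∈ 𝒜, A ≤ Q → x ∈ A := by
  unfold fInf
  rw [Subgroup.mem_sInf]
  exact ⟨fun h A hA hAQ => h A ⟨hA, hAQ⟩, fun h A hA => h A hA.1 hA.2⟩

/-- the hypotheses on the family `𝒜` -/
structure GHyp (𝒜 : Set (Subgroup G)) (P : Subgroup G) : Prop where
  le : ∀ A ∈ 𝒜, A ≤ P
  comm : ∀ A ∈ 𝒜, IsMulCommutative A
  ne : 𝒜.Nonempty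
  inv : ∀ Q : Subgroup G, Q ≤ P → (∃ A ∈ 𝒜, A ≤ Q) →
    Subgroup.normalizer (Q : Set G) ≤ Subgroup.normalizer (fInf 𝒜 Q : Set G)
  rep : ∀ B : Subgroup G, B ≤ P → ⁅⁅B, B⁆, B⁆ = ⊥ → (∃ A ∈ 𝒜, ⁅B, B⁆ ≤ A ∧ ¬ B ≤ A) →
    ∃ A ∈ 𝒜, ⁅B, B⁆ ≤ A ∧ ¬ B ≤ A ∧ B ≤ Subgroup.normalizer (A : Set G)

theorem GHyp.fInf_comm {𝒜 : Set (Subgroup G)} {P : Subgroup G} (h : GHyp 𝒜 P) {Q : Subgroup G}
    (hQ : ∃ A ∈ 𝒜, A ≤ Q) {x y : G} (hx : x ∈ fInf 𝒜 Q) (hy : y ∈ fInf 𝒜 Q) : x * y = y * x := by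
  obtain ⟨A₀, hA₀, hA₀Q⟩ := hQ
  have := h.comm A₀ hA₀
  exact setLike_mul_comm (fInf_le_of_mem hA₀ hA₀Q hx) (fInf_le_of_mem hA₀ hA₀Q hy)

theorem GHyp.fInf_le {𝒜 : Set (Subgroup G)} {P : Subgroup G} (h : GHyp 𝒜 P) :
    fInf 𝒜 P ≤ P := by
  obtain ⟨A₀, hA₀⟩ := h.ne
  exact (fInf_le_of_mem hA₀ (h.le A₀ hA₀)).trans (h.le A₀ hA₀)

set_option maxHeartbeats 1600000 in
theorem fInf_inf_normal [Finite G] {p : ℕ} [Fact p.Prime] {𝒜 : Set (Subgroup G)} (P : Sylow p G)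
    (h : GHyp 𝒜 (P : Subgroup G))
    (hst : ∀ (V : Subgroup G) [V.Normal], IsPGroup p V → ∀ a ∈ (P : Subgroup G),
      ⁅⁅V, Subgroup.zpowers a⁆, Subgroup.zpowers a⁆ = ⊥ →
      (QuotientGroup.mk a : G ⧸ Subgroup.centralizer (V : Set G)) ∈
        Cfsg.pCore p (G ⧸ Subgroup.centralizer (V : Set G))) :
    ∀ (m : ℕ) (B : Subgroup G), B.Normal → IsPGroup p B → Nat.card B = m →
      (fInf 𝒜 (P : Subgroup G) ⊓ B).Normal := by
  intro m
  induction m using Nat.strong_induction_on with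
  | _ m ihB =>
  intro B hBn hBp hBcard
  obtain ⟨A₀, hA₀⟩ := h.ne
  have hPmem : ∃ A ∈ 𝒜, A ≤ (P : Subgroup G) := ⟨A₀, hA₀, h.le A₀ hA₀⟩
  have hBP : B ≤ (P : Subgroup G) := hBp.le_sylow_of_normal P
  have hPZ : (P : Subgroup G) ≤ Subgroup.normalizer (fInf 𝒜 (P : Subgroup G) : Set G) :=
    Subgroup.le_normalizer.trans (h.inv _ le_rfl hPmem)
  -- Step 2
  have hB₁B : Subgroup.normalClosure ((fInf 𝒜 (P : Subgroup G) ⊓ B : Subgroup G) : Set G) ≤ B :=
    Subgroup.normalClosure_le_normal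
      (by exact_mod_cast (inf_le_right : fInf 𝒜 (P : Subgroup G) ⊓ B ≤ B))
  have hZ₁B₁ : fInf 𝒜 (P : Subgroup G) ⊓ B ≤
      Subgroup.normalClosure ((fInf 𝒜 (P : Subgroup G) ⊓ B : Subgroup G) : Set G) :=
    Subgroup.le_normalClosure
  by_cases hlt : Nat.card (Subgroup.normalClosure
      ((fInf 𝒜 (P : Subgroup G) ⊓ B : Subgroup G) : Set G)) < Nat.card B
  · have h1 := ihB _ (hBcard ▸ hlt) _ Subgroup.normalClosure_normal (hBp.to_le hB₁B) rfl
    have heq : fInf 𝒜 (P : Subgroup G) ⊓ Subgroup.normalClosure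
        ((fInf 𝒜 (P : Subgroup G) ⊓ B : Subgroup G) : Set G) =
        fInf 𝒜 (P : Subgroup G) ⊓ B :=
      le_antisymm (inf_le_inf_left _ hB₁B) (le_inf inf_le_left hZ₁B₁)
    rw [heq] at h1; exact h1
  have hB₁eq : Subgroup.normalClosure
      ((fInf 𝒜 (P : Subgroup G) ⊓ B : Subgroup G) : Set G) = B :=
    Subgroup.eq_of_le_of_card_ge hB₁B (not_lt.mp hlt)
  -- Step 3
  by_cases hbot : B = ⊥
  · have h1 : fInf 𝒜 (P : Subgroup G) ⊓ B = ⊥ := by rw [hbot]; exact inf_bot_eq _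
    rw [h1]; exact Subgroup.normal_bot
  have hB'lt : ⁅B, B⁆ < B := commutator_lt_of_isPGroup hBp hbot
  have hB'n : (⁅B, B⁆).Normal := Subgroup.commutator_normal B B
  have hB'card : Nat.card ↥⁅B, B⁆ < m := hBcard ▸ card_lt_of_lt' hB'lt
  have hN : (fInf 𝒜 (P : Subgroup G) ⊓ ⁅B, B⁆).Normal :=
    ihB _ hB'card ⁅B, B⁆ hB'n (hBp.to_le hB'lt.le) rfl
  -- Step 4
  have h4a : ⁅fInf 𝒜 (P : Subgroup G) ⊓ B, B⁆ ≤ fInf 𝒜 (P : Subgroup G) ⊓ ⁅B, B⁆ := by
    rw [Subgroup.commutator_le]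
    intro z hz b hb
    refine Subgroup.mem_inf.mpr ⟨?_, Subgroup.commutator_mem_commutator hz.2 hb⟩
    have hbN := hPZ (hBP hb)
    rw [Subgroup.mem_normalizer_iff] at hbN
    have h1 : b * z⁻¹ * b⁻¹ ∈ fInf 𝒜 (P : Subgroup G) :=
      (hbN z⁻¹).mp ((fInf 𝒜 (P : Subgroup G)).inv_mem hz.1)
    have e : ⁅z, b⁆ = z * (b * z⁻¹ * b⁻¹) := by rw [commutatorElement_def]; group
    rw [e]; exact Subgroup.mul_mem _ hz.1 h1
  have h4b : ⁅B, B⁆ ≤ fInf 𝒜 (P : Subgroup G) ⊓ ⁅B, B⁆ := by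
    have h1 := commutator_normalClosure_le h4a
    rw [hB₁eq] at h1
    exact h1
  have hB'Z : ⁅B, B⁆ ≤ fInf 𝒜 (P : Subgroup G) := h4b.trans inf_le_left
  -- Step 5
  have h5a : ⁅fInf 𝒜 (P : Subgroup G) ⊓ B, ⁅B, B⁆⁆ ≤ ⊥ := by
    rw [Subgroup.commutator_le]
    intro z hz c hc
    rw [Subgroup.mem_bot, commutatorElement_eq_one_iff_mul_comm]
    exact h.fInf_comm hPmem hz.1 (hB'Z hc)
  have h5b : ⁅B, ⁅B, B⁆⁆ ≤ ⊥ := by
    have h1 := commutator_normalClosure_le h5a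
    rw [hB₁eq] at h1
    exact h1
  have hcl : ⁅⁅B, B⁆, B⁆ = ⊥ := by
    rw [Subgroup.commutator_comm]; exact le_bot_iff.mp h5b
  -- Step 6
  by_cases hBZ : B ≤ fInf 𝒜 (P : Subgroup G)
  · rw [inf_eq_right.mpr hBZ]; exact hBn
  have hex : ∃ A ∈ 𝒜, ¬ B ≤ A := by
    by_contra hcon
    push Not at hcon
    apply hBZ
    exact le_sInf (fun A hA => hcon A hA.1)
  obtain ⟨A, hA, hBA⟩ := hex
  obtain ⟨A₁, hA₁, -, hBA₁, hBNA₁⟩ := h.rep B hBP hcl
    ⟨A, hA, hB'Z.trans (fInf_le_of_mem hA (h.le A hA)), hBA⟩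
  have hCn : (Subgroup.centralizer (B : Set G)).Normal := Subgroup.normal_centralizer
  have hKn : ((Cfsg.pCore p (G ⧸ Subgroup.centralizer (B : Set G))).comap
      (QuotientGroup.mk' (Subgroup.centralizer (B : Set G)))).Normal :=
    (Helper1.pCore_normal p).comap _
  -- quadratic action
  have hA₁K : A₁ ≤ (Cfsg.pCore p (G ⧸ Subgroup.centralizer (B : Set G))).comap
      (QuotientGroup.mk' (Subgroup.centralizer (B : Set G))) := by
    intro a ha
    have hAc := h.comm A₁ hA₁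
    have hs := hst B hBp a (h.le A₁ hA₁ ha) ?_
    · exact hs
    · have hza : Subgroup.zpowers a ≤ A₁ := Subgroup.zpowers_le.mpr ha
      have h1 : ⁅B, Subgroup.zpowers a⁆ ≤ A₁ := by
        rw [Subgroup.commutator_le]
        intro b hb x hx
        have hbN := hBNA₁ hb
        rw [Subgroup.mem_normalizer_iff] at hbN
        have h2 : b * x * b⁻¹ ∈ A₁ := (hbN x).mp (hza hx)
        rw [commutatorElement_def]
        exact A₁.mul_mem h2 (A₁.inv_mem (hza hx))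
      rw [eq_bot_iff]
      calc ⁅⁅B, Subgroup.zpowers a⁆, Subgroup.zpowers a⁆ ≤ ⁅A₁, A₁⁆ :=
            Subgroup.commutator_mono h1 hza
        _ = ⊥ := by
          rw [Subgroup.commutator_eq_bot_iff_le_centralizer]
          exact Subgroup.le_centralizer_iff_isMulCommutative.mpr hAc
  have hT₁ : A₁ ≤ (P : Subgroup G) ⊓ (Cfsg.pCore p (G ⧸ Subgroup.centralizer (B : Set G))).comap
      (QuotientGroup.mk' (Subgroup.centralizer (B : Set G))) := le_inf (h.le A₁ hA₁) hA₁K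
  have hZZ₁ : fInf 𝒜 (P : Subgroup G) ≤ fInf 𝒜 ((P : Subgroup G) ⊓
      (Cfsg.pCore p (G ⧸ Subgroup.centralizer (B : Set G))).comap
      (QuotientGroup.mk' (Subgroup.centralizer (B : Set G)))) := fInf_anti inf_le_left
  have hZ₁A₁ : fInf 𝒜 ((P : Subgroup G) ⊓
      (Cfsg.pCore p (G ⧸ Subgroup.centralizer (B : Set G))).comap
      (QuotientGroup.mk' (Subgroup.centralizer (B : Set G)))) ≤ A₁ := fInf_le_of_mem hA₁ hT₁
  have hNT₁ : Subgroup.normalizer ((((P : Subgroup G) ⊓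
      (Cfsg.pCore p (G ⧸ Subgroup.centralizer (B : Set G))).comap
      (QuotientGroup.mk' (Subgroup.centralizer (B : Set G)))) : Subgroup G) : Set G) ≤
      Subgroup.normalizer (((fInf 𝒜 ((P : Subgroup G) ⊓
      (Cfsg.pCore p (G ⧸ Subgroup.centralizer (B : Set G))).comap
      (QuotientGroup.mk' (Subgroup.centralizer (B : Set G)))) ⊓ B) : Subgroup G) : Set G) := by
    intro g hg
    apply mem_normalizer_inf (h.inv _ inf_le_left ⟨A₁, hA₁, hT₁⟩ hg)
    rw [normal_normalizer_eq_top B]; trivial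
  have hKN : (Cfsg.pCore p (G ⧸ Subgroup.centralizer (B : Set G))).comap
      (QuotientGroup.mk' (Subgroup.centralizer (B : Set G))) ≤
      Subgroup.normalizer (((fInf 𝒜 ((P : Subgroup G) ⊓
      (Cfsg.pCore p (G ⧸ Subgroup.centralizer (B : Set G))).comap
      (QuotientGroup.mk' (Subgroup.centralizer (B : Set G)))) ⊓ B) : Subgroup G) : Set G) := by
    intro k hk
    have hk' := hk
    rw [Subgroup.mem_comap] at hk
    have hsurj : Function.Surjective (QuotientGroup.mk' (Subgroup.centralizer (B : Set G))) :=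
      QuotientGroup.mk'_surjective _
    have h1 : Cfsg.pCore p (G ⧸ Subgroup.centralizer (B : Set G)) ≤
        ((Sylow.mapSurjective hsurj P : Sylow p (G ⧸ Subgroup.centralizer (B : Set G))) :
          Subgroup (G ⧸ Subgroup.centralizer (B : Set G))) :=
      Helper1.pCore_le_sylow p _
    have h2 := h1 hk
    rw [Sylow.coe_mapSurjective] at h2
    obtain ⟨x, hx, hxk⟩ := Subgroup.mem_map.mp h2
    have h3 : x⁻¹ * k ∈ Subgroup.centralizer (B : Set G) := QuotientGroup.eq.mp hxk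
    have h4 : x⁻¹ * k ∈ Subgroup.normalizer (((fInf 𝒜 ((P : Subgroup G) ⊓
        (Cfsg.pCore p (G ⧸ Subgroup.centralizer (B : Set G))).comap
        (QuotientGroup.mk' (Subgroup.centralizer (B : Set G)))) ⊓ B) : Subgroup G) : Set G) :=
      centralizer_le_normalizer_of_le inf_le_right h3
    have hxK : x ∈ (Cfsg.pCore p (G ⧸ Subgroup.centralizer (B : Set G))).comap
        (QuotientGroup.mk' (Subgroup.centralizer (B : Set G))) := by
      rw [Subgroup.mem_comap, hxk]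
      exact hk
    have h5 : k = x * (x⁻¹ * k) := by group
    rw [h5]
    exact Subgroup.mul_mem _ (hNT₁ (Subgroup.le_normalizer ⟨hx, hxK⟩)) h4
  -- the Frattini argument
  have hfr := Sylow.normalizer_sup_eq_top (helper17.sylowInfNormal P
    ((Cfsg.pCore p (G ⧸ Subgroup.centralizer (B : Set G))).comap
      (QuotientGroup.mk' (Subgroup.centralizer (B : Set G)))))
  rw [helper17.sylowInfNormal_map] at hfr
  have hn : ((fInf 𝒜 ((P : Subgroup G) ⊓
      (Cfsg.pCore p (G ⧸ Subgroup.centralizer (B : Set G))).comap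
      (QuotientGroup.mk' (Subgroup.centralizer (B : Set G)))) ⊓ B) : Subgroup G).Normal := by
    rw [← Subgroup.normalizer_eq_top_iff, eq_top_iff, ← hfr]
    exact sup_le hNT₁ hKN
  have hBle : B ≤ fInf 𝒜 ((P : Subgroup G) ⊓
      (Cfsg.pCore p (G ⧸ Subgroup.centralizer (B : Set G))).comap
      (QuotientGroup.mk' (Subgroup.centralizer (B : Set G)))) ⊓ B := by
    have h1 := Subgroup.normalClosure_le_normal (N := fInf 𝒜 ((P : Subgroup G) ⊓
      (Cfsg.pCore p (G ⧸ Subgroup.centralizer (B : Set G))).comap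
      (QuotientGroup.mk' (Subgroup.centralizer (B : Set G)))) ⊓ B)
      (s := ((fInf 𝒜 (P : Subgroup G) ⊓ B : Subgroup G) : Set G))
      (by exact_mod_cast inf_le_inf_right B hZZ₁)
    rw [hB₁eq] at h1
    exact h1
  exact absurd ((hBle.trans inf_le_left).trans hZ₁A₁) hBA₁

theorem fInf_le_pCore [Finite G] {p : ℕ} [Fact p.Prime] {𝒜 : Set (Subgroup G)} (S : Sylow p G)
    (h : GHyp 𝒜 (S : Subgroup G))
    (hc : Subgroup.centralizer (Cfsg.pCore p G : Set G) ≤ Cfsg.pCore p G)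
    (hst : ∀ (V : Subgroup G) [V.Normal], IsPGroup p V → ∀ a ∈ (S : Subgroup G),
      ⁅⁅V, Subgroup.zpowers a⁆, Subgroup.zpowers a⁆ = ⊥ →
      (QuotientGroup.mk a : G ⧸ Subgroup.centralizer (V : Set G)) ∈
        Cfsg.pCore p (G ⧸ Subgroup.centralizer (V : Set G))) :
    fInf 𝒜 (S : Subgroup G) ≤ Cfsg.pCore p G := by
  intro z hz
  obtain ⟨A₀, hA₀⟩ := h.ne
  have hPmem : ∃ A ∈ 𝒜, A ≤ (S : Subgroup G) := ⟨A₀, hA₀, h.le A₀ hA₀⟩
  have hQn : (Cfsg.pCore p G).Normal := Helper1.pCore_normal p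
  have hQp : IsPGroup p (Cfsg.pCore p G) := Helper1.pCore_isPGroup p
  have hQS : Cfsg.pCore p G ≤ (S : Subgroup G) := Helper1.pCore_le_sylow p S
  have hSZ : (S : Subgroup G) ≤ Subgroup.normalizer (fInf 𝒜 (S : Subgroup G) : Set G) :=
    Subgroup.le_normalizer.trans (h.inv _ le_rfl hPmem)
  have hzp : Subgroup.zpowers z ≤ fInf 𝒜 (S : Subgroup G) := Subgroup.zpowers_le.mpr hz
  have hquad : ⁅⁅Cfsg.pCore p G, Subgroup.zpowers z⁆, Subgroup.zpowers z⁆ = ⊥ := by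
    have h1 : ⁅Cfsg.pCore p G, Subgroup.zpowers z⁆ ≤ fInf 𝒜 (S : Subgroup G) := by
      rw [Subgroup.commutator_le]
      intro q hq x hx
      have hqN := hSZ (hQS hq)
      rw [Subgroup.mem_normalizer_iff] at hqN
      have h2 : q * x * q⁻¹ ∈ fInf 𝒜 (S : Subgroup G) := (hqN x).mp (hzp hx)
      rw [commutatorElement_def]
      exact Subgroup.mul_mem _ h2 (Subgroup.inv_mem _ (hzp hx))
    rw [eq_bot_iff]
    calc ⁅⁅Cfsg.pCore p G, Subgroup.zpowers z⁆, Subgroup.zpowers z⁆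
        ≤ ⁅fInf 𝒜 (S : Subgroup G), fInf 𝒜 (S : Subgroup G)⁆ := Subgroup.commutator_mono h1 hzp
      _ ≤ ⊥ := by
        rw [Subgroup.commutator_le]
        intro a ha b hb
        rw [Subgroup.mem_bot, commutatorElement_eq_one_iff_mul_comm]
        exact h.fInf_comm hPmem ha hb
  have hzS : z ∈ (S : Subgroup G) := h.fInf_le hz
  have hs := hst (Cfsg.pCore p G) hQp z hzS hquad
  have hCn : (Subgroup.centralizer (Cfsg.pCore p G : Set G)).Normal := Subgroup.normal_centralizer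
  have hKn : ((Cfsg.pCore p (G ⧸ Subgroup.centralizer (Cfsg.pCore p G : Set G))).comap
      (QuotientGroup.mk' (Subgroup.centralizer (Cfsg.pCore p G : Set G)))).Normal :=
    (Helper1.pCore_normal p).comap _
  have hKp : IsPGroup p ((Cfsg.pCore p (G ⧸ Subgroup.centralizer (Cfsg.pCore p G : Set G))).comap
      (QuotientGroup.mk' (Subgroup.centralizer (Cfsg.pCore p G : Set G)))) := by
    apply IsPGroup.comap_of_ker_isPGroup (Helper1.pCore_isPGroup p)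
    rw [QuotientGroup.ker_mk']
    exact hQp.to_le hc
  have hK := Helper1.le_pCore hKn hKp
  exact hK hs

theorem fInf_normal [Finite G] {p : ℕ} [Fact p.Prime] {𝒜 : Set (Subgroup G)} (S : Sylow p G)
    (h : GHyp 𝒜 (S : Subgroup G))
    (hc : Subgroup.centralizer (Cfsg.pCore p G : Set G) ≤ Cfsg.pCore p G)
    (hst : ∀ (V : Subgroup G) [V.Normal], IsPGroup p V → ∀ a ∈ (S : Subgroup G),
      ⁅⁅V, Subgroup.zpowers a⁆, Subgroup.zpowers a⁆ = ⊥ →
      (QuotientGroup.mk a : G ⧸ Subgroup.centralizer (V : Set G)) ∈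
        Cfsg.pCore p (G ⧸ Subgroup.centralizer (V : Set G))) :
    (fInf 𝒜 (S : Subgroup G)).Normal := by
  have h1 := fInf_inf_normal S h hst _ (Cfsg.pCore p G)
    (Helper1.pCore_normal p) (Helper1.pCore_isPGroup p) rfl
  rw [inf_eq_left.mpr (fInf_le_pCore S h hc hst)] at h1
  exact h1

end Gax1

end Cfsg.Agent.Lib.Helper27.Gax
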