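import Mathlib
import Cfsg.Agent.Lib.Helper1.GNPC.Stable

/-!
# The final configuration of a group which is minimal without a normal `p`-complement

`exists_finalCfg`: a finite group `G` of characteristic `p` without a normal `p`-complement, all of
whose proper subgroups containing a fixed Sylow `p`-subgroup have one, and such that `G/O_p(G)` has
one, is in the final configuration of the Glauberman–Thompson argument.
-/

set_option autoImplicit false

namespace Cfsg.Agent.Lib.Helper27.Gax

open Cfsg Cfsg.Agent.Lib.Helper1.TNPC Cfsg.Agent.Lib.Helper1.GNPC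

open scoped Pointwise

universe u

section Gax2

variable {G : Type u} [Group G] [Finite G] {p : ℕ} [hp : Fact p.Prime]

theorem exists_finalCfg (P : Sylow p G) (H : Subgroup G) [hHn : H.Normal] (hHp : IsPGroup p H)
    (hCH : Subgroup.centralizer (H : Set G) ≤ H)
    (hmax : ∀ (X : Subgroup G) [X.Normal], IsPGroup p X → X ≤ H)
    (hcex : ¬ HasNormalPComplement p G)
    (hmin : ∀ X : Subgroup G, (P : Subgroup G) ≤ X → X ≠ ⊤ → HasNormalPComplement p ↥X)
    (hq : HasNormalPComplement p (G ⧸ H)) :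
    ∃ Kb : Subgroup (G ⧸ H), FinalCfg p G P H Kb := by
  obtain ⟨Kb, hKn, hKc, j, hj⟩ := npc_iff.mp hq
  have k : KCtx p G P H Kb := ⟨hKn, hKc, ⟨j, hj⟩⟩
  have hHP : H ≤ (P : Subgroup G) := hHp.le_sylow_of_normal P
  refine ⟨Kb, ⟨k, hHP, ?_, fun X _ hX => hmax X hX, ?_, hCH, ?_, ?_⟩⟩
  · -- `H ≠ ⊥`
    intro hbot
    apply hcex
    apply npc_of_isPGroup
    intro g
    have hg : g ∈ Subgroup.centralizer (H : Set G) := by
      rw [Subgroup.mem_centralizer_iff]
      intro h hh
      rw [hbot, SetLike.mem_coe, Subgroup.mem_bot] at hh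
      rw [hh, one_mul, mul_one]
    have := hCH hg
    rw [hbot, Subgroup.mem_bot] at this
    exact ⟨0, by rw [this, one_pow]⟩
  · -- normal `p'`-subgroups are trivial
    intro T hTn hT
    have hdisj : H ⊓ T = ⊥ := by
      apply (Subgroup.disjoint_of_coprime_natCard _).eq_bot
      obtain ⟨a, ha⟩ := IsPGroup.iff_card.mp hHp
      rw [ha]
      exact (Nat.Coprime.pow_right a hT).symm
    rw [eq_bot_iff]
    intro y hy
    have hcent : y ∈ Subgroup.centralizer (H : Set G) := by
      rw [Subgroup.mem_centralizer_iff]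
      intro h hh
      have hc1 : y * h * y⁻¹ * h⁻¹ ∈ H := mul_mem (hHn.conj_mem h hh y) (inv_mem hh)
      have hc2 : y * h * y⁻¹ * h⁻¹ ∈ T := by
        have e : y * h * y⁻¹ * h⁻¹ = y * (h * y⁻¹ * h⁻¹) := by group
        rw [e]
        exact mul_mem hy (hTn.conj_mem y⁻¹ (inv_mem hy) h)
      have h3 : y * h * y⁻¹ * h⁻¹ ∈ H ⊓ T := ⟨hc1, hc2⟩
      rw [hdisj, Subgroup.mem_bot] at h3
      have h4 : y * h * y⁻¹ = h := mul_inv_eq_one.mp h3
      calc h * y = (y * h * y⁻¹) * y := by rw [h4]
        _ = y * h := by group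
    have h5 : y ∈ H ⊓ T := ⟨hCH hcent, hy⟩
    rw [hdisj] at h5
    exact h5
  · -- `f2`
    intro K₁ h1 h2 h3 h4
    set K := Kb.comap (QuotientGroup.mk' H) with hK
    set M := K₁ ⊔ (P : Subgroup G) with hM
    have hMne : M ≠ ⊤ := by
      intro htop
      apply h4
      apply le_antisymm h2
      intro x hx
      have hxM : x ∈ ((K₁ ⊔ (P : Subgroup G) : Subgroup G) : Set G) := by
        rw [← hM, htop]
        trivial
      rw [Subgroup.coe_mul_of_right_le_normalizer_left K₁ _ h3] at hxM
      obtain ⟨k₁, hk₁, u, hu, hku⟩ := hxM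
      have hku' : k₁ * u = x := hku
      have huK : u ∈ K := by
        have : u = k₁⁻¹ * x := by rw [← hku']; group
        rw [this]
        exact mul_mem (inv_mem (h2 hk₁)) hx
      have huH : u ∈ H := k.inf_le ⟨huK, hu⟩
      rw [← hku']
      exact mul_mem hk₁ (h1 huH)
    have hPM : (P : Subgroup G) ≤ M := le_sup_right
    have hnpc : HasNormalPComplement p ↥M := hmin M hPM hMne
    obtain ⟨Y, hYn, hYc, j', hj'⟩ := npc_iff.mp hnpc
    haveI := hYn
    have hYbot : Y = ⊥ := coprime_normal_eq_bot hHp hCH (h1.trans le_sup_left) Y hYc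
    rw [hYbot, Subgroup.index_bot] at hj'
    have hMp : IsPGroup p M := IsPGroup.of_card hj'
    have hMP : M = (P : Subgroup G) := P.is_maximal' hMp hPM
    have hK₁P : K₁ ≤ (P : Subgroup G) := by
      rw [← hMP]
      exact le_sup_left
    exact le_antisymm (fun x hx => k.inf_le ⟨h2 hx, hK₁P hx⟩) h1
  · -- `K ≠ H`
    intro h
    apply hcex
    apply npc_of_isPGroup
    have htop : (P : Subgroup G) = ⊤ := by
      rw [eq_top_iff]
      intro g _
      obtain ⟨x, hx, u, hu, rfl⟩ := k.decomp g
      rw [h] at hx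
      exact mul_mem (hHP hx) hu
    have hP := P.isPGroup'
    rw [htop] at hP
    exact IsPGroup.of_equiv hP Subgroup.topEquiv

end Gax2

end Cfsg.Agent.Lib.Helper27.Gax
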