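import Mathlib
import Cfsg.Agent.Lib.Helper27.GTModel
import Cfsg.Agent.Lib.Helper1.TNPC.Basic

/-!
# Normal `p`-complements of quotients of a realizing group

* `npc_quot_of_trivial_mod`: if the automorphisms of order prime to `p` of a realized system act
  trivially modulo `V`, then the quotient of the realizing group by the image of `V` has a normal
  `p`-complement;
* `npc_quot_sub`: passing to the quotient of a subgroup by a larger normal subgroup.
-/

set_option autoImplicit false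

namespace Cfsg.Agent.Lib.Helper27.Gax

open Cfsg Cfsg.FusionSystem Cfsg.Agent.Lib.Helper26 Cfsg.Agent.Lib.Helper27
  Cfsg.Agent.Lib.Helper27.GT Cfsg.Agent.Lib.Helper1.TNPC

universe u

section Gax3

variable {Ω : Type u} [Group Ω] {S : Subgroup Ω} {L : Type u} [Group L]

theorem npc_quot_of_trivial_mod [Finite S] [Finite L] {p : ℕ} [hp : Fact p.Prime]
    {F : FusionSystem S} {ι : S →* L} (hR : F.IsRealizedBy ι) (T : Sylow p L)
    (hT : (T : Subgroup L) = ι.range) {V : Subgroup Ω} (hVS : V ≤ S)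
    [hWn : (imSub ι V).Normal]
    (hmod : ∀ U : Subgroup Ω, U ≤ S → V ≤ U → ∀ β ∈ F.autGroup U, (orderOf β).Coprime p →
      ∀ x : U, (x : Ω)⁻¹ * ((β x : U) : Ω) ∈ V) :
    HasNormalPComplement p (L ⧸ imSub ι V) := by
  have hsurj := QuotientGroup.mk'_surjective (imSub ι V)
  rw [Cfsg.Agent.Lib.Helper1.hasNormalPComplement_iff (Sylow.mapSurjective hsurj T),
    Cfsg.Agent.S0071.result]
  intro Qb hQb gb hgb hcop
  obtain ⟨g, rfl⟩ := hsurj gb
  -- the `p'`-part of `g`
  have hn : 0 < orderOf g := orderOf_pos g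
  have hg'pow : (g ^ (p ^ (orderOf g).factorization p)) ^
      (orderOf g / p ^ (orderOf g).factorization p) = 1 := by
    rw [← pow_mul, Nat.ordProj_mul_ordCompl_eq_self, pow_orderOf_eq_one]
  have hg'ord : (orderOf (g ^ (p ^ (orderOf g).factorization p))).Coprime p :=
    Nat.Coprime.coprime_dvd_left (orderOf_dvd_of_pow_eq_one hg'pow)
      (Nat.coprime_ordCompl hp.out hn.ne').symm
  have hcop' : (p ^ (orderOf g).factorization p).Coprime
      (orderOf (QuotientGroup.mk' (imSub ι V) g)) := Nat.Coprime.pow_left _ hcop.symm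
  obtain ⟨j, hj⟩ := exists_pow_eq_self_of_coprime hcop'
  suffices h : QuotientGroup.mk' (imSub ι V) (g ^ (p ^ (orderOf g).factorization p)) ∈
      Subgroup.centralizer (Qb : Set (L ⧸ imSub ι V)) by
    rw [← hj, ← map_pow]
    exact Subgroup.pow_mem _ h j
  generalize hg' : g ^ (p ^ (orderOf g).factorization p) = g' at hg'ord ⊢
  have hg'N : QuotientGroup.mk' (imSub ι V) g' ∈ Subgroup.normalizer (Qb : Set (L ⧸ imSub ι V)) := by
    rw [← hg', map_pow]
    exact Subgroup.pow_mem _ hgb _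
  -- the preimage `Q` of `Qb`
  have hWle : imSub ι V ≤ Qb.comap (QuotientGroup.mk' (imSub ι V)) := by
    intro w hw
    rw [Subgroup.mem_comap]
    have : QuotientGroup.mk' (imSub ι V) w = 1 := (QuotientGroup.eq_one_iff w).mpr hw
    rw [this]
    exact one_mem _
  have hQ : Qb.comap (QuotientGroup.mk' (imSub ι V)) ≤ ι.range := by
    intro x hx
    have h1 := hQb (Subgroup.mem_comap.mp hx)
    rw [Sylow.coe_mapSurjective] at h1
    obtain ⟨t, ht, htx⟩ := h1
    have h2 : t⁻¹ * x ∈ imSub ι V := QuotientGroup.eq.mp htx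
    have e : x = t * (t⁻¹ * x) := by group
    rw [e]
    refine Subgroup.mul_mem _ ?_ (imSub_le_range ι V h2)
    rw [← hT]
    exact ht
  have hg'n : g' ∈ Subgroup.normalizer
      ((Qb.comap (QuotientGroup.mk' (imSub ι V)) : Subgroup L) : Set L) := by
    rw [← Subgroup.comap_normalizer_eq_of_surjective Qb hsurj]
    exact hg'N
  obtain ⟨β, hβ, hβg⟩ := exists_aut_of_normalizes hR hQ hg'n
  have hUS := preSub_le ι (Qb.comap (QuotientGroup.mk' (imSub ι V)))
  haveI := GT.finite_mulAut_of_le hUS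
  have hpow := pow_conj_apply hUS β g' hβg (orderOf g')
  have hβord : (orderOf β).Coprime p := by
    have h1 : β ^ orderOf g' = 1 := by
      ext x
      have := hpow x
      rw [pow_orderOf_eq_one, one_mul, inv_one, mul_one] at this
      have := hR.1 this
      exact congrArg (fun r : S => (r : Ω)) this
    exact Nat.Coprime.coprime_dvd_left (orderOf_dvd_of_pow_eq_one h1) hg'ord
  have hVU : V ≤ preSub ι (Qb.comap (QuotientGroup.mk' (imSub ι V))) := by
    intro x hx
    exact mem_preSub_iff.mpr ⟨hVS hx, hWle (apply_mem_imSub ι (hVS hx) hx)⟩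
  have hm := hmod _ hUS hVU β hβ hβord
  rw [Subgroup.mem_centralizer_iff]
  intro qb hqb
  obtain ⟨q, rfl⟩ := hsurj qb
  have hq : q ∈ Qb.comap (QuotientGroup.mk' (imSub ι V)) := Subgroup.mem_comap.mpr hqb
  obtain ⟨s, hs⟩ := hQ hq
  have hsU : (s : Ω) ∈ preSub ι (Qb.comap (QuotientGroup.mk' (imSub ι V))) :=
    mem_preSub_iff.mpr ⟨s.2, by rw [hs]; exact hq⟩
  have h3 := hβg ⟨s, hsU⟩
  have h4 := hm ⟨s, hsU⟩
  have h5 : ι ⟨((s : Ω))⁻¹ * ((β ⟨s, hsU⟩ : _) : Ω),
      S.mul_mem (S.inv_mem s.2) (hUS (β ⟨s, hsU⟩).2)⟩ ∈ imSub ι V :=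
    apply_mem_imSub ι _ h4
  have e5 : ι ⟨((s : Ω))⁻¹ * ((β ⟨s, hsU⟩ : _) : Ω),
      S.mul_mem (S.inv_mem s.2) (hUS (β ⟨s, hsU⟩).2)⟩ = q⁻¹ * (g' * q * g'⁻¹) := by
    have : (⟨((s : Ω))⁻¹ * ((β ⟨s, hsU⟩ : _) : Ω),
        S.mul_mem (S.inv_mem s.2) (hUS (β ⟨s, hsU⟩).2)⟩ : S) =
        s⁻¹ * ⟨((β ⟨s, hsU⟩ : _) : Ω), hUS (β ⟨s, hsU⟩).2⟩ := rfl
    rw [this, map_mul, map_inv, h3, hs]
  rw [e5] at h5
  have h6 : QuotientGroup.mk' (imSub ι V) (q⁻¹ * (g' * q * g'⁻¹)) = 1 :=
    (QuotientGroup.eq_one_iff _).mpr h5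
  rw [map_mul, map_mul, map_mul, map_inv, map_inv] at h6
  have h7 := inv_mul_eq_one.mp h6
  calc QuotientGroup.mk' (imSub ι V) q * QuotientGroup.mk' (imSub ι V) g'
      = (QuotientGroup.mk' (imSub ι V) g' * QuotientGroup.mk' (imSub ι V) q *
          (QuotientGroup.mk' (imSub ι V) g')⁻¹) * QuotientGroup.mk' (imSub ι V) g' := by rw [← h7]
    _ = QuotientGroup.mk' (imSub ι V) g' * QuotientGroup.mk' (imSub ι V) q := by group

end Gax3

section Sub

variable {G : Type u} [Group G] [Finite G] {p : ℕ} [hp : Fact p.Prime]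

theorem npc_quot_sub (W : Subgroup G) [W.Normal] (hq : HasNormalPComplement p (G ⧸ W))
    (M : Subgroup G) (H : Subgroup ↥M) [H.Normal] (hWH : W.subgroupOf M ≤ H) :
    HasNormalPComplement p (↥M ⧸ H) := by
  have hker : ((QuotientGroup.mk' W).comp M.subtype).ker = W.subgroupOf M := by
    ext x
    rw [MonoidHom.mem_ker, Subgroup.mem_subgroupOf]
    exact QuotientGroup.eq_one_iff (x : G)
  have h1 : HasNormalPComplement p ↥(⊤ : Subgroup (G ⧸ W)) := npc_top_iff.mpr hq
  have h2 : HasNormalPComplement p ↥((QuotientGroup.mk' W).comp M.subtype).range :=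
    npc_of_le le_top h1
  have h3 : HasNormalPComplement p (↥M ⧸ ((QuotientGroup.mk' W).comp M.subtype).ker) :=
    npc_of_equiv (QuotientGroup.quotientKerEquivRange _).symm h2
  have hle : ((QuotientGroup.mk' W).comp M.subtype).ker ≤ H.comap (MonoidHom.id ↥M) := by
    rw [hker]
    exact hWH
  refine npc_of_surjective (QuotientGroup.map _ H (MonoidHom.id ↥M) hle) ?_ h3
  intro x
  obtain ⟨m, rfl⟩ := QuotientGroup.mk_surjective x
  exact ⟨QuotientGroup.mk m, rfl⟩

end Sub

end Cfsg.Agent.Lib.Helper27.Gax
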