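import Mathlib
import Cfsg.Agent.Lib.Helper27.GTCore
import Cfsg.Agent.Lib.Helper26.ModelUniq2

/-!
# Section-free fusion systems: basic lemmas

* `mem_normalizerHom_iff_of_le`: maps of `N_F(Q)` with source containing `Q`;
* `centric_of_normalizer_centric`: a subgroup `R ⊇ Q` centric in `N_F(Q)` is centric in `F`
  (`Q` fully normalized).
-/

set_option autoImplicit false

namespace Cfsg.Agent.Lib.Helper27.HFree

open Cfsg Cfsg.FusionSystem Cfsg.Agent.Lib.Helper26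

universe u

variable {Ω : Type u} [Group Ω] {S : Subgroup Ω}

theorem mem_normalizerHom_iff_of_le (F : FusionSystem S) {Q A : Subgroup Ω} (hQA : Q ≤ A)
    (ψ : A →* Ω) :
    ψ ∈ F.normalizerHom Q A ↔ ψ ∈ F.Hom A ∧ A ≤ normalizerIn S Q ∧
      (∀ x, ψ x ∈ normalizerIn S Q) ∧ (Q.subgroupOf A).map ψ = Q := by
  constructor
  · rintro ⟨h1, h2, h3, χ, hχ, hext, hmap⟩
    refine ⟨h1, h2, h3, ?_⟩
    ext y
    constructor
    · rintro ⟨x, hx, rfl⟩
      rw [← hext x]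
      have : χ (Subgroup.inclusion le_sup_left x) ∈ (Q.subgroupOf (A ⊔ Q)).map χ :=
        ⟨_, Subgroup.mem_subgroupOf.mpr (Subgroup.mem_subgroupOf.mp hx), rfl⟩
      exact hmap.le this
    · intro hy
      obtain ⟨z, hz, rfl⟩ := hmap.ge hy
      have hzQ : (z : Ω) ∈ Q := Subgroup.mem_subgroupOf.mp hz
      refine ⟨⟨z, hQA hzQ⟩, Subgroup.mem_subgroupOf.mpr hzQ, ?_⟩
      rw [← hext]
      rfl
  · rintro ⟨h1, h2, h3, h4⟩
    refine ⟨h1, h2, h3, ?_⟩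
    obtain ⟨χ, hχ, hc1, hc2⟩ := Cfsg.Agent.Lib.Helper27.hom_cast' F (sup_eq_left.mpr hQA).symm ψ h1
    refine ⟨χ, hχ, fun x => hc1 x x.2 _, ?_⟩
    rw [hc2 Q, h4]

/-- a map of `N_F(Q)` with source containing `Q` maps `Q` onto `Q` -/
theorem map_eq_of_mem_normalizerSystem {F : FusionSystem S} {Q A : Subgroup Ω}
    {N : FusionSystem (normalizerIn S Q)} (hN : F.IsNormalizerSystem Q N) (hQA : Q ≤ A)
    {ψ : A →* Ω} (hψ : ψ ∈ N.Hom A) : (Q.subgroupOf A).map ψ = Q := by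
  rw [hN A] at hψ
  exact ((mem_normalizerHom_iff_of_le F hQA ψ).mp hψ).2.2.2

/-- for `φ : R → S` in `F` with `Q ≤ R ≤ N_S(Q)` and `Q` fully normalized: a map
`χ : N_S(φ Q) → N_S(Q)` such that `χ ∘ φ` is a map of `N_F(Q)` -/
theorem exists_to_normalizer [Finite S] {p : ℕ} [Fact p.Prime] (hS : IsPGroup p S)
    (F : FusionSystem S) (hF : F.IsSaturated p) {Q : Subgroup Ω} (hQ : F.IsFullyNormalized Q)
    (N : FusionSystem (normalizerIn S Q)) (hN : F.IsNormalizerSystem Q N) {R : Subgroup Ω}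
    (hQR : Q ≤ R) (hRT : R ≤ normalizerIn S Q) {φ : R →* Ω} (hφ : φ ∈ F.Hom R) :
    ∃ (χ : NormalizerHom F (φ.comp (Subgroup.inclusion hQR)).range Q)
      (hmaps : ∀ x : R, φ x ∈ normalizerIn S (φ.comp (Subgroup.inclusion hQR)).range),
      χ.φ.comp (φ.codRestrict _ hmaps) ∈ N.Hom R := by
  obtain ⟨-, hQa, hQr⟩ := saturated_fullyNormalized hS F hF hQ
  have hφQ := restrict_mem F hφ hQR
  have hconjQ : F.IsConj Q (φ.comp (Subgroup.inclusion hQR)).range := ⟨_, hφQ, rfl⟩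
  obtain ⟨χ⟩ := nonempty_normalizerHom hS F hQa hQr (isConj_symm F hconjQ)
  have hQ'S : (φ.comp (Subgroup.inclusion hQR)).range ≤ S := isConj_le_right F hconjQ
  have hmaps : ∀ r : R, φ r ∈ normalizerIn S (φ.comp (Subgroup.inclusion hQR)).range := by
    intro r
    refine ⟨apply_mem F hφ r, ?_⟩
    have hrn : (r : Ω) ∈ Subgroup.normalizer (Q : Set Ω) := (hRT r.2).2
    refine mem_normalizer_of_forall ?_ ?_
    · rintro _ ⟨q, rfl⟩
      refine ⟨⟨(r : Ω) * q * (r : Ω)⁻¹, (Subgroup.mem_normalizer_iff.mp hrn q).mp q.2⟩, ?_⟩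
      show φ ⟨(r : Ω) * q * (r : Ω)⁻¹, _⟩ = φ r * φ (Subgroup.inclusion hQR q) * (φ r)⁻¹
      rw [← map_inv, ← map_mul, ← map_mul]
      rfl
    · rintro _ ⟨q, rfl⟩
      refine ⟨⟨(r : Ω)⁻¹ * q * (r : Ω), (Subgroup.mem_normalizer_iff''.mp hrn q).mp q.2⟩, ?_⟩
      show φ ⟨(r : Ω)⁻¹ * q * (r : Ω), _⟩ = (φ r)⁻¹ * φ (Subgroup.inclusion hQR q) * φ r
      rw [← map_inv, ← map_mul, ← map_mul]
      rfl
  have hρ := F.comp_mem hφ χ.mem hmaps
  refine ⟨χ, hmaps, ?_⟩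
  rw [hN R, mem_normalizerHom_iff_of_le F hQR]
  refine ⟨hρ, hRT, fun x => χ.maps _, ?_⟩
  ext y
  constructor
  · rintro ⟨x, hx, rfl⟩
    have hxQ : (x : Ω) ∈ Q := Subgroup.mem_subgroupOf.mp hx
    have h1 : (φ x) ∈ (φ.comp (Subgroup.inclusion hQR)).range := ⟨⟨x, hxQ⟩, rfl⟩
    have h2 := χ.apply_mem_of_mem hQ'S ⟨φ x, h1⟩
    exact h2
  · intro hy
    obtain ⟨⟨_, ⟨q, rfl⟩⟩, hx⟩ := χ.exists_preimage hQ'S hy
    refine ⟨Subgroup.inclusion hQR q, Subgroup.mem_subgroupOf.mpr q.2, ?_⟩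
    rw [← hx]
    rfl

theorem centric_of_normalizer_centric [Finite S] {p : ℕ} [Fact p.Prime] (hS : IsPGroup p S)
    (F : FusionSystem S) (hF : F.IsSaturated p) {Q : Subgroup Ω} (hQ : F.IsFullyNormalized Q)
    (N : FusionSystem (normalizerIn S Q)) (hN : F.IsNormalizerSystem Q N) {R : Subgroup Ω}
    (hQR : Q ≤ R) (hRc : N.IsCentric R) : F.IsCentric R := by
  have hRT : R ≤ normalizerIn S Q := hRc.1
  have hRS : R ≤ S := hRT.trans (normalizerIn_le S Q)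
  refine ⟨hRS, fun R' hconj => ?_⟩
  obtain ⟨φ, hφ, hr⟩ := hconj
  obtain ⟨χ, hmaps, hρN⟩ := exists_to_normalizer hS F hF hQ N hN hQR hRT hφ
  have hconjN : N.IsConj R (χ.φ.comp (φ.codRestrict _ hmaps)).range := ⟨_, hρN, rfl⟩
  have hcent := hRc.2 _ hconjN
  intro c hc
  have hcN : c ∈ normalizerIn S (φ.comp (Subgroup.inclusion hQR)).range := by
    refine ⟨hc.1, ?_⟩
    have hcc : ∀ y ∈ (φ.comp (Subgroup.inclusion hQR)).range, c * y = y * c := by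
      rintro _ ⟨q, rfl⟩
      have : φ (Subgroup.inclusion hQR q) ∈ R' := hr ▸ ⟨_, rfl⟩
      exact (Subgroup.mem_centralizer_iff.mp hc.2 _ this).symm
    refine mem_normalizer_of_forall (fun y hy => ?_) (fun y hy => ?_)
    · rw [hcc y hy, mul_inv_cancel_right]
      exact hy
    · rw [mul_assoc, ← hcc y hy, inv_mul_cancel_left]
      exact hy
  have h1 : χ.φ ⟨c, hcN⟩ ∈ centralizerIn (normalizerIn S Q)
      (χ.φ.comp (φ.codRestrict _ hmaps)).range := by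
    refine ⟨χ.maps _, Subgroup.mem_centralizer_iff.mpr ?_⟩
    rintro _ ⟨r, rfl⟩
    show χ.φ (φ.codRestrict _ hmaps r) * χ.φ ⟨c, hcN⟩ = χ.φ ⟨c, hcN⟩ * χ.φ (φ.codRestrict _ hmaps r)
    rw [← map_mul, ← map_mul]
    congr 1
    apply Subtype.ext
    have : φ r ∈ R' := hr ▸ ⟨r, rfl⟩
    exact Subgroup.mem_centralizer_iff.mp hc.2 _ this
  obtain ⟨r, hr'⟩ := hcent h1
  have h2 : φ.codRestrict _ hmaps r = ⟨c, hcN⟩ := χ.injective hr'
  rw [← hr]
  exact ⟨r, congrArg Subtype.val h2⟩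

end Cfsg.Agent.Lib.Helper27.HFree
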