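import Mathlib
import Cfsg.Agent.Lib.Helper27.HFreeBasic

/-!
# Transport of a model along a map `N_S(R) → N_S(U)`

If `α : N_S(R) → N_S(U)` is a map of `F` with `α(R) = U` and `ι : N_S(U) → L` realizes `N_F(U)`,
then `κ = ι ∘ α` realizes the maps of `F` between overgroups of `R` in `N_S(R)` which leave `R`
invariant.
-/

set_option autoImplicit false

namespace Cfsg.Agent.Lib.Helper27.HFree

open Cfsg Cfsg.FusionSystem Cfsg.Agent.Lib.Helper26

universe u

variable {Ω : Type u} [Group Ω] {S : Subgroup Ω}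

section

variable {F : FusionSystem S} {R U : Subgroup Ω} (α : NormalizerHom F R U) {L : Type u} [Group L]
  (ι : ↥(normalizerIn S U) →* L)

/-- the composite `N_S(R) → N_S(U) → L` -/
def kap : ↥(normalizerIn S R) →* L := ι.comp (α.φ.codRestrict (normalizerIn S U) α.maps)

theorem kap_apply (x : ↥(normalizerIn S R)) : kap α ι x = ι ⟨α.φ x, α.maps x⟩ := rfl

theorem kap_injective (hι : Function.Injective ι) : Function.Injective (kap α ι) := by
  intro a b hab
  have h1 := hι hab
  exact α.injective (congrArg Subtype.val h1)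

/-- elements of `N_S(R)` mapped into `U` lie in `R` -/
theorem mem_of_apply_mem (hRS : R ≤ S) {x : ↥(normalizerIn S R)} (hx : α.φ x ∈ U) :
    (x : Ω) ∈ R := by
  obtain ⟨r, hr⟩ := α.exists_preimage hRS hx
  have := α.injective hr
  rw [← this]
  exact r.2

theorem transport_iff [Finite S] (hUS : U ≤ S) (hRS : R ≤ S)
    (hR : (normalizerSystem F U hUS).IsRealizedBy ι) (hUn : (imSub ι U).Normal)
    {A : Subgroup Ω} (hRA : R ≤ A) (hA : A ≤ normalizerIn S R) (ψ : A →* Ω)
    (hψ : ∀ x, ψ x ∈ normalizerIn S R) :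
    (ψ ∈ F.Hom A ∧ ∀ x : A, (x : Ω) ∈ R → ψ x ∈ R) ↔
      ∃ g : L, ∀ x : A, kap α ι ⟨ψ x, hψ x⟩ = g * kap α ι ⟨x, hA x.2⟩ * g⁻¹ := by
  have hαA : α.φ.comp (Subgroup.inclusion hA) ∈ F.Hom A := restrict_mem F α.mem hA
  obtain ⟨e, he, hex⟩ := exists_iso_of_hom F hαA rfl
  have hA'N : (α.φ.comp (Subgroup.inclusion hA)).range ≤ normalizerIn S U := by
    rintro _ ⟨x, rfl⟩
    exact α.maps _
  have hUA' : U ≤ (α.φ.comp (Subgroup.inclusion hA)).range := by
    intro u hu
    obtain ⟨x, hx⟩ := α.exists_preimage hRS hu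
    exact ⟨⟨x, hRA x.2⟩, hx⟩
  have hex' : ∀ x : A, (⟨(e x : Ω), hA'N (e x).2⟩ : ↥(normalizerIn S U)) =
      ⟨α.φ ⟨x, hA x.2⟩, α.maps _⟩ := fun x => Subtype.ext (hex x)
  constructor
  · rintro ⟨hψF, hψR⟩
    have hes : IsIso F e.symm := he.symm
    have h1 : ∀ y : ↥(α.φ.comp (Subgroup.inclusion hA)).range,
        (A.subtype.comp e.symm.toMonoidHom) y ∈ A := fun y => (e.symm y).2
    have c1 := F.comp_mem hes hψF h1
    have h2 : ∀ y : ↥(α.φ.comp (Subgroup.inclusion hA)).range,
        (ψ.comp ((A.subtype.comp e.symm.toMonoidHom).codRestrict A h1)) y ∈ normalizerIn S R :=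
      fun y => hψ _
    have c2 := F.comp_mem c1 α.mem h2
    have hval : ∀ x : A, (α.φ.comp ((ψ.comp ((A.subtype.comp e.symm.toMonoidHom).codRestrict A
        h1)).codRestrict (normalizerIn S R) h2)) (e x) = α.φ ⟨ψ x, hψ x⟩ := by
      intro x
      have e0 : ((A.subtype.comp e.symm.toMonoidHom).codRestrict A h1) (e x) = x := by
        apply Subtype.ext
        show ((e.symm (e x) : A) : Ω) = x
        rw [e.symm_apply_apply]
      have e1 : (⟨ψ (((A.subtype.comp e.symm.toMonoidHom).codRestrict A h1) (e x)), h2 (e x)⟩ :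
          ↥(normalizerIn S R)) = ⟨ψ x, hψ x⟩ := Subtype.ext (congrArg ψ e0)
      show α.φ ⟨ψ (((A.subtype.comp e.symm.toMonoidHom).codRestrict A h1) (e x)), h2 (e x)⟩ =
        α.φ ⟨ψ x, hψ x⟩
      rw [e1]
    have hN : (α.φ.comp ((ψ.comp ((A.subtype.comp e.symm.toMonoidHom).codRestrict A
        h1)).codRestrict (normalizerIn S R) h2)) ∈
        (normalizerSystem F U hUS).Hom (α.φ.comp (Subgroup.inclusion hA)).range := by
      rw [normalizerSystem_isNormalizerSystem F U hUS, mem_normalizerHom_iff_of_le F hUA']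
      refine ⟨c2, hA'N, fun y => α.maps _, ?_⟩
      have : Finite U := finite_of_le hUS
      apply Subgroup.eq_of_le_of_card_ge
      · rintro _ ⟨y, hy, rfl⟩
        have hyU : (y : Ω) ∈ U := Subgroup.mem_subgroupOf.mp hy
        have hy' : e (e.symm y) = y := e.apply_symm_apply y
        have hxR : ((e.symm y : A) : Ω) ∈ R := by
          have h3 := hex (e.symm y)
          rw [hy'] at h3
          have h4 : α.φ ⟨(e.symm y : A), hA (e.symm y).2⟩ ∈ U := by
            have : (α.φ.comp (Subgroup.inclusion hA)) (e.symm y) =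
                α.φ ⟨(e.symm y : A), hA (e.symm y).2⟩ := rfl
            rw [← this, ← h3]
            exact hyU
          exact mem_of_apply_mem α hRS h4
        have h5 := hval (e.symm y)
        rw [hy'] at h5
        rw [h5]
        exact α.apply_mem_of_mem hRS ⟨_, hψR _ hxR⟩
      · rw [Subgroup.card_map_of_injective (F.injective_of_mem c2)]
        exact (Nat.card_congr (Subgroup.subgroupOfEquivOfLe hUA').toEquiv).ge
    obtain ⟨g, hg⟩ := exists_of_mem_hom _ hR hN
    refine ⟨g, fun x => ?_⟩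
    have h3 := hg (e x)
    rw [kap_apply, kap_apply]
    have e1 : (⟨(α.φ.comp ((ψ.comp ((A.subtype.comp e.symm.toMonoidHom).codRestrict A
        h1)).codRestrict (normalizerIn S R) h2)) (e x),
        ((normalizerSystem F U hUS).le_of_mem hN).2 (e x)⟩ : ↥(normalizerIn S U)) =
        ⟨α.φ ⟨ψ x, hψ x⟩, α.maps _⟩ := Subtype.ext (hval x)
    rw [e1] at h3
    rw [h3]
    congr 3
    exact hex' x
  · rintro ⟨g, hg⟩
    have h' : ∀ y : ↥(α.φ.comp (Subgroup.inclusion hA)).range,
        g * ι ⟨y, hA'N y.2⟩ * g⁻¹ ∈ ι.range := by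
      intro y
      have hy' : e (e.symm y) = y := e.apply_symm_apply y
      have h3 := hex' (e.symm y)
      rw [hy'] at h3
      rw [h3]
      have h4 := hg (e.symm y)
      rw [kap_apply, kap_apply] at h4
      rw [← h4]
      exact ⟨_, rfl⟩
    have hN := pullHom_mem_hom (normalizerSystem F U hUS) hR _ hA'N g h'
    have hF'' : pullHom hR.1 _ hA'N g h' ∈ F.Hom (α.φ.comp (Subgroup.inclusion hA)).range := by
      rw [normalizerSystem_isNormalizerSystem F U hUS] at hN
      exact hN.1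
    have hval : ∀ x : A, pullHom hR.1 _ hA'N g h' (e x) = α.φ ⟨ψ x, hψ x⟩ := by
      intro x
      have h3 := apply_pullHom hR.1 _ hA'N g h' (e x)
      have h4 := hg x
      rw [kap_apply, kap_apply] at h4
      rw [hex' x, ← h4] at h3
      exact congrArg Subtype.val (hR.1 h3)
    obtain ⟨β, hβ, -, hβinv, -⟩ := exists_inv F α.mem rfl
    have h1 : ∀ y : ↥(α.φ.comp (Subgroup.inclusion hA)).range,
        pullHom hR.1 _ hA'N g h' y ∈ α.φ.range := by
      intro y
      have hy' : e (e.symm y) = y := e.apply_symm_apply y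
      have := hval (e.symm y)
      rw [hy'] at this
      rw [this]
      exact ⟨_, rfl⟩
    have c1 := F.comp_mem hF'' hβ h1
    have h2 : ∀ x : A, ((α.φ.comp (Subgroup.inclusion hA)).range.subtype.comp e.toMonoidHom) x ∈
        (α.φ.comp (Subgroup.inclusion hA)).range := fun x => (e x).2
    have c2 := F.comp_mem he c1 h2
    have hψF : ψ ∈ F.Hom A := by
      refine mem_of_forall_eq F c2 (fun x => ?_)
      show ψ x = β ⟨pullHom hR.1 _ hA'N g h' (e x), _⟩
      have e1 : (⟨pullHom hR.1 _ hA'N g h' (e x), h1 (e x)⟩ : ↥α.φ.range) =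
          ⟨α.φ ⟨ψ x, hψ x⟩, ⟨_, rfl⟩⟩ := Subtype.ext (hval x)
      rw [e1]
      exact (hβinv ⟨ψ x, hψ x⟩ _).symm
    refine ⟨hψF, fun x hx => ?_⟩
    have h3 := hg x
    have h4 : kap α ι ⟨x, hA x.2⟩ ∈ imSub ι U := by
      rw [kap_apply]
      exact apply_mem_imSub ι (α.maps _) (α.apply_mem_of_mem hRS ⟨x, hx⟩)
    have h5 : kap α ι ⟨ψ x, hψ x⟩ ∈ imSub ι U := by
      rw [h3]
      exact hUn.conj_mem _ h4 g
    obtain ⟨u, huN, hu, hu'⟩ := mem_imSub_iff.mp h5
    rw [kap_apply] at hu'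
    have h6 := congrArg Subtype.val (hR.1 hu')
    simp only at h6
    have h7 : α.φ ⟨ψ x, hψ x⟩ ∈ U := by
      rw [← h6]
      exact hu
    exact mem_of_apply_mem α hRS h7

end

end Cfsg.Agent.Lib.Helper27.HFree
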