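import Mathlib
import Cfsg.Agent.Lib.Helper27.HFreeTransport
import Cfsg.Agent.Lib.Helper26.KNorm8

/-!
# Embedding the model of `N_{N_F(Q)}(R)` into the model of `N_F(U)`: setup and realization

`Q` fully normalized in `F`, `Q ≤ R ≤ N_S(Q)` with `R` centric and fully normalized in `N_F(Q)`,
`U` a fully normalized `F`-conjugate of `R` through `α : N_S(R) → N_S(U)`, and `L` a model of
`N_F(U)`.  Then `M = N_L(κ Q)` (with `κ = ι ∘ α`) is a model of `N_{N_F(Q)}(R)`.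
-/

set_option autoImplicit false

namespace Cfsg.Agent.Lib.Helper27.HFree

open Cfsg Cfsg.FusionSystem Cfsg.Agent.Lib.Helper26

universe u

variable {Ω : Type u} [Group Ω] {S : Subgroup Ω}

/-- the data -/
structure EmbedSetup (p : ℕ) (F : FusionSystem S) where
  Q : Subgroup Ω
  hQ : F.IsFullyNormalized Q
  N : FusionSystem (normalizerIn S Q)
  hN : F.IsNormalizerSystem Q N
  R : Subgroup Ω
  hQR : Q ≤ R
  hRn : N.IsFullyNormalized R
  hRc : N.IsCentric R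
  N' : FusionSystem (normalizerIn (normalizerIn S Q) R)
  hN' : N.IsNormalizerSystem R N'
  U : Subgroup Ω
  hUn : F.IsFullyNormalized U
  α : NormalizerHom F R U
  L : Type u
  [grp : Group L]
  [fin : Finite L]
  ι : ↥(normalizerIn S U) →* L
  hmod : (normalizerSystem F U hUn.1).IsModel p L ι

namespace EmbedSetup

attribute [instance] EmbedSetup.grp EmbedSetup.fin

variable {p : ℕ} {F : FusionSystem S} (X : EmbedSetup p F)

theorem hRT : X.R ≤ normalizerIn S X.Q := X.hRc.1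

theorem hRS : X.R ≤ S := X.hRT.trans (normalizerIn_le S X.Q)

theorem hQS : X.Q ≤ S := X.hQ.1

theorem hUS : X.U ≤ S := X.hUn.1

theorem hReal : (normalizerSystem F X.U X.hUS).IsRealizedBy X.ι := X.hmod.2.1

theorem hD₀R : normalizerIn (normalizerIn S X.Q) X.R ≤ normalizerIn S X.R :=
  le_inf ((normalizerIn_le _ _).trans (normalizerIn_le _ _)) inf_le_right

theorem hD₀T : normalizerIn (normalizerIn S X.Q) X.R ≤ normalizerIn S X.Q := normalizerIn_le _ _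

theorem hRD₀ : X.R ≤ normalizerIn (normalizerIn S X.Q) X.R := le_normalizerIn_self X.hRT

/-- the composite `N_S(R) → L` -/
def κ : ↥(normalizerIn S X.R) →* X.L := kap X.α X.ι

theorem κ_injective : Function.Injective X.κ := kap_injective X.α X.ι X.hReal.1

theorem κ_apply (x : ↥(normalizerIn S X.R)) : X.κ x = X.ι ⟨X.α.φ x, X.α.maps x⟩ := rfl

theorem hUnormal [Fact p.Prime] : (imSub X.ι X.U).Normal :=
  imSub_normal_of_isNormal _ X.hReal X.hmod.2.2.1 X.hmod.2.2.2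
    (normalizerSystem_isNormal F X.hUS _ (normalizerSystem_isNormalizerSystem F X.U X.hUS))

/-- `κ` maps `R` into the image of `U` -/
theorem κ_mem_imSub_U {r : Ω} (hr : r ∈ X.R) :
    X.κ ⟨r, le_normalizerIn_self X.hRS hr⟩ ∈ imSub X.ι X.U :=
  apply_mem_imSub X.ι (X.α.maps _) (X.α.apply_mem_of_mem X.hRS ⟨r, hr⟩)

/-- elements of the image of `U` come from `R` -/
theorem exists_of_mem_imSub_U {y : X.L} (hy : y ∈ imSub X.ι X.U) :
    ∃ (r : Ω) (hr : r ∈ X.R), X.κ ⟨r, le_normalizerIn_self X.hRS hr⟩ = y := by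
  obtain ⟨u, huN, hu, rfl⟩ := mem_imSub_iff.mp hy
  obtain ⟨r, hr⟩ := X.α.exists_preimage X.hRS hu
  refine ⟨r, r.2, ?_⟩
  rw [κ_apply]
  congr 1
  exact Subtype.ext hr

/-- the group `M = N_L(κ Q)` -/
def M : Subgroup X.L := Subgroup.normalizer (imSub X.κ X.Q : Set X.L)

/-- `κ` maps elements normalizing `Q` into `M` -/
theorem κ_mem_M {d : Ω} (hd : d ∈ normalizerIn S X.R) (hdQ : d ∈ Subgroup.normalizer (X.Q : Set Ω)) :
    X.κ ⟨d, hd⟩ ∈ X.M := by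
  have hQN : X.Q ≤ normalizerIn S X.R := X.hQR.trans (le_normalizerIn_self X.hRS)
  have key : ∀ d : Ω, ∀ hd : d ∈ normalizerIn S X.R, d ∈ Subgroup.normalizer (X.Q : Set Ω) →
      ∀ y ∈ imSub X.κ X.Q, X.κ ⟨d, hd⟩ * y * (X.κ ⟨d, hd⟩)⁻¹ ∈ imSub X.κ X.Q := by
    intro d hd hdQ y hy
    obtain ⟨q, hqN, hq, rfl⟩ := mem_imSub_iff.mp hy
    rw [← map_inv, ← map_mul, ← map_mul]
    exact apply_mem_imSub X.κ _ ((Subgroup.mem_normalizer_iff.mp hdQ q).mp hq)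
  refine mem_normalizer_of_forall (key d hd hdQ) (fun y hy => ?_)
  have := key d⁻¹ (Subgroup.inv_mem _ hd) (Subgroup.inv_mem _ hdQ) y hy
  have e : X.κ ⟨d⁻¹, Subgroup.inv_mem _ hd⟩ = (X.κ ⟨d, hd⟩)⁻¹ := by
    rw [← map_inv]
    rfl
  rw [e, inv_inv] at this
  exact this

/-- the embedding of `N_{N_S(Q)}(R)` into `M` -/
def ιM : ↥(normalizerIn (normalizerIn S X.Q) X.R) →* ↥X.M :=
  (X.κ.comp (Subgroup.inclusion X.hD₀R)).codRestrict X.M
    (fun d => X.κ_mem_M (X.hD₀R d.2) (X.hD₀T d.2).2)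

theorem ιM_coe (d : ↥(normalizerIn (normalizerIn S X.Q) X.R)) :
    ((X.ιM d : X.M) : X.L) = X.κ ⟨d, X.hD₀R d.2⟩ := rfl

theorem ιM_injective : Function.Injective X.ιM := by
  intro a b hab
  have h1 : X.κ ⟨a, X.hD₀R a.2⟩ = X.κ ⟨b, X.hD₀R b.2⟩ := congrArg Subtype.val hab
  have h2 := X.κ_injective h1
  exact Subtype.ext (congrArg (fun z : ↥(normalizerIn S X.R) => (z : Ω)) h2)

variable [Finite S] [Fact p.Prime]

/-- realization, first direction -/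
theorem real_mp {P : Subgroup Ω} (hP : P ≤ normalizerIn (normalizerIn S X.Q) X.R) (φ : P →* Ω)
    (hφ : ∀ x : P, φ x ∈ normalizerIn (normalizerIn S X.Q) X.R) (h : φ ∈ X.N'.Hom P) :
    ∃ g : X.M, ∀ x : P, X.ιM ⟨φ x, hφ x⟩ = g * X.ιM ⟨x, hP x.2⟩ * g⁻¹ := by
  rw [X.hN' P] at h
  obtain ⟨h1, h2, h3, ψ, hψ, hext, hmap⟩ := h
  have hRA : X.R ≤ P ⊔ X.R := le_sup_right
  have hQA : X.Q ≤ P ⊔ X.R := X.hQR.trans hRA
  have hA : P ⊔ X.R ≤ normalizerIn S X.R :=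
    sup_le (hP.trans X.hD₀R) (le_normalizerIn_self X.hRS)
  have hψF : ψ ∈ F.Hom (P ⊔ X.R) := by
    have := hψ
    rw [X.hN (P ⊔ X.R)] at this
    exact this.1
  have hψR : ∀ x : ↥(P ⊔ X.R), (x : Ω) ∈ X.R → ψ x ∈ X.R := by
    intro x hx
    exact hmap.le ⟨x, Subgroup.mem_subgroupOf.mpr hx, rfl⟩
  have hψv : ∀ x : ↥(P ⊔ X.R), ψ x ∈ normalizerIn S X.R := by
    refine map_sup_mem ψ _ (fun x => ?_) (fun r => ?_)
    · rw [hext x]
      exact X.hD₀R (hφ x)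
    · exact le_normalizerIn_self X.hRS (hψR _ r.2)
  have hmapQ := map_eq_of_mem_normalizerSystem X.hN hQA hψ
  obtain ⟨g, hg⟩ := (transport_iff X.α X.ι X.hUS X.hRS X.hReal X.hUnormal hRA hA ψ hψv).mp
    ⟨hψF, hψR⟩
  have hgM : g ∈ X.M := by
    refine mem_normalizer_of_forall (fun y hy => ?_) (fun y hy => ?_)
    · obtain ⟨q, hqN, hq, rfl⟩ := mem_imSub_iff.mp hy
      have h4 := hg ⟨q, hQA hq⟩
      have h5 : ψ ⟨q, hQA hq⟩ ∈ X.Q :=
        hmapQ.le ⟨⟨q, hQA hq⟩, Subgroup.mem_subgroupOf.mpr hq, rfl⟩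
      have h6 : kap X.α X.ι ⟨q, hA (hQA hq)⟩ = X.κ ⟨q, hqN⟩ := rfl
      rw [h6] at h4
      rw [← h4]
      exact apply_mem_imSub X.κ _ h5
    · obtain ⟨q', hq'N, hq', rfl⟩ := mem_imSub_iff.mp hy
      obtain ⟨a, ha, haq⟩ := hmapQ.ge hq'
      have haQ : (a : Ω) ∈ X.Q := Subgroup.mem_subgroupOf.mp ha
      have h4 := hg a
      have h6 : kap X.α X.ι ⟨ψ a, hψv a⟩ = X.κ ⟨q', hq'N⟩ := by
        show X.κ ⟨ψ a, hψv a⟩ = X.κ ⟨q', hq'N⟩
        congr 1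
        exact Subtype.ext haq
      rw [h6] at h4
      rw [h4]
      have h7 : g⁻¹ * (g * kap X.α X.ι ⟨a, hA a.2⟩ * g⁻¹) * g = kap X.α X.ι ⟨a, hA a.2⟩ := by
        group
      rw [h7]
      exact apply_mem_imSub X.κ _ haQ
  refine ⟨⟨g, hgM⟩, fun x => ?_⟩
  apply Subtype.ext
  have h4 := hg (Subgroup.inclusion le_sup_left x)
  show X.κ ⟨φ x, _⟩ = g * X.κ ⟨x, _⟩ * g⁻¹
  have e1 : (⟨ψ (Subgroup.inclusion le_sup_left x), hψv _⟩ : ↥(normalizerIn S X.R)) =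
      ⟨φ x, X.hD₀R (hφ x)⟩ := Subtype.ext (hext x)
  rw [e1] at h4
  exact h4

end EmbedSetup

end Cfsg.Agent.Lib.Helper27.HFree
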