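import Mathlib
import Cfsg.Agent.Lib.Helper27.HFreeEmbed1

/-!
# Embedding the model of `N_{N_F(Q)}(R)`: realization, second direction
-/

set_option autoImplicit false

namespace Cfsg.Agent.Lib.Helper27.HFree

open Cfsg Cfsg.FusionSystem Cfsg.Agent.Lib.Helper26

universe u

variable {Ω : Type u} [Group Ω] {S : Subgroup Ω}

namespace EmbedSetup

variable {p : ℕ} {F : FusionSystem S} (X : EmbedSetup p F) [Finite S] [Fact p.Prime]

/-- realization, second direction -/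
theorem real_mpr {P : Subgroup Ω} (hP : P ≤ normalizerIn (normalizerIn S X.Q) X.R) (φ : P →* Ω)
    (hφ : ∀ x : P, φ x ∈ normalizerIn (normalizerIn S X.Q) X.R) (g : X.M)
    (hg : ∀ x : P, X.ιM ⟨φ x, hφ x⟩ = g * X.ιM ⟨x, hP x.2⟩ * g⁻¹) : φ ∈ X.N'.Hom P := by
  have hg' : ∀ x : P, X.κ ⟨φ x, X.hD₀R (hφ x)⟩ =
      (g : X.L) * X.κ ⟨x, X.hD₀R (hP x.2)⟩ * (g : X.L)⁻¹ := fun x =>
    congrArg Subtype.val (hg x)
  have hRA : X.R ≤ P ⊔ X.R := le_sup_right
  have hQA : X.Q ≤ P ⊔ X.R := X.hQR.trans hRA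
  have hA : P ⊔ X.R ≤ normalizerIn S X.R :=
    sup_le (hP.trans X.hD₀R) (le_normalizerIn_self X.hRS)
  have hAT : P ⊔ X.R ≤ normalizerIn S X.Q := sup_le (hP.trans X.hD₀T) X.hRT
  -- the subgroup of elements conjugated by `g` into the image of `D₀`
  let K : Subgroup ↥(normalizerIn S X.R) :=
    (imSub X.κ (normalizerIn (normalizerIn S X.Q) X.R)).comap
      ((MulAut.conj (g : X.L)).toMonoidHom.comp X.κ)
  have hK : ∀ k : ↥(normalizerIn S X.R), k ∈ K ↔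
      (g : X.L) * X.κ k * (g : X.L)⁻¹ ∈ imSub X.κ (normalizerIn (normalizerIn S X.Q) X.R) :=
    fun k => Iff.rfl
  have hPK : P ≤ K.map (normalizerIn S X.R).subtype := by
    intro x hx
    refine ⟨⟨x, X.hD₀R (hP hx)⟩, ?_, rfl⟩
    rw [SetLike.mem_coe, hK, ← hg' ⟨x, hx⟩]
    exact apply_mem_imSub X.κ _ (hφ ⟨x, hx⟩)
  have hRK : X.R ≤ K.map (normalizerIn S X.R).subtype := by
    intro r hr
    refine ⟨⟨r, le_normalizerIn_self X.hRS hr⟩, ?_, rfl⟩
    rw [SetLike.mem_coe, hK]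
    have h1 := X.hUnormal.conj_mem _ (X.κ_mem_imSub_U hr) (g : X.L)
    obtain ⟨r', hr', h2⟩ := X.exists_of_mem_imSub_U h1
    rw [← h2]
    exact apply_mem_imSub X.κ _ (X.hRD₀ hr')
  have hAK : ∀ x : ↥(P ⊔ X.R), (⟨x, hA x.2⟩ : ↥(normalizerIn S X.R)) ∈ K := by
    intro x
    obtain ⟨k, hk, hkx⟩ := (sup_le hPK hRK) x.2
    have : k = ⟨x, hA x.2⟩ := Subtype.ext hkx
    rw [← this]
    exact hk
  have h' : ∀ x : ↥(P ⊔ X.R), (g : X.L) * X.κ ⟨x, hA x.2⟩ * (g : X.L)⁻¹ ∈ X.κ.range := by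
    intro x
    exact imSub_le_range X.κ _ ((hK _).mp (hAK x))
  -- the map `ψ`
  have hψv := pullHom_mem X.κ_injective (P ⊔ X.R) hA (g : X.L) h'
  have hψe := apply_pullHom X.κ_injective (P ⊔ X.R) hA (g : X.L) h'
  have hψD : ∀ x : ↥(P ⊔ X.R), pullHom X.κ_injective (P ⊔ X.R) hA (g : X.L) h' x ∈
      normalizerIn (normalizerIn S X.Q) X.R := by
    intro x
    obtain ⟨d, hdN, hd, h1⟩ := mem_imSub_iff.mp ((hK _).mp (hAK x))
    rw [← hψe x] at h1
    have h2 := X.κ_injective h1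
    have h3 : d = pullHom X.κ_injective (P ⊔ X.R) hA (g : X.L) h' x :=
      congrArg (fun z : ↥(normalizerIn S X.R) => (z : Ω)) h2
    rw [← h3]
    exact hd
  obtain ⟨hψF, hψR⟩ := (transport_iff X.α X.ι X.hUS X.hRS X.hReal X.hUnormal hRA hA
    (pullHom X.κ_injective (P ⊔ X.R) hA (g : X.L) h') hψv).mpr ⟨(g : X.L), fun x => hψe x⟩
  have hψinj := F.injective_of_mem hψF
  -- `ψ` maps `Q` onto `Q`
  have hmapQ : (X.Q.subgroupOf (P ⊔ X.R)).map
      (pullHom X.κ_injective (P ⊔ X.R) hA (g : X.L) h') = X.Q := by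
    haveI : Finite X.Q := finite_of_le X.hQS
    apply Subgroup.eq_of_le_of_card_ge
    · rintro _ ⟨x, hx, rfl⟩
      have hxQ : (x : Ω) ∈ X.Q := Subgroup.mem_subgroupOf.mp hx
      have h1 : X.κ ⟨x, hA x.2⟩ ∈ imSub X.κ X.Q := apply_mem_imSub X.κ _ hxQ
      have h2 := (Subgroup.mem_normalizer_iff.mp g.2 _).mp h1
      rw [← hψe x] at h2
      obtain ⟨q, hqN, hq, h3⟩ := mem_imSub_iff.mp h2
      have h4 := X.κ_injective h3
      have h5 : q = pullHom X.κ_injective (P ⊔ X.R) hA (g : X.L) h' x :=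
        congrArg (fun z : ↥(normalizerIn S X.R) => (z : Ω)) h4
      rw [← h5]
      exact hq
    · rw [Subgroup.card_map_of_injective hψinj]
      exact (Nat.card_congr (Subgroup.subgroupOfEquivOfLe hQA).toEquiv).ge
  have hmapR : (X.R.subgroupOf (P ⊔ X.R)).map
      (pullHom X.κ_injective (P ⊔ X.R) hA (g : X.L) h') = X.R := by
    haveI : Finite X.R := finite_of_le X.hRS
    apply Subgroup.eq_of_le_of_card_ge
    · rintro _ ⟨x, hx, rfl⟩
      exact hψR x (Subgroup.mem_subgroupOf.mp hx)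
    · rw [Subgroup.card_map_of_injective hψinj]
      exact (Nat.card_congr (Subgroup.subgroupOfEquivOfLe hRA).toEquiv).ge
  have hψN : pullHom X.κ_injective (P ⊔ X.R) hA (g : X.L) h' ∈ X.N.Hom (P ⊔ X.R) := by
    rw [X.hN (P ⊔ X.R), mem_normalizerHom_iff_of_le F hQA]
    exact ⟨hψF, hAT, fun x => X.hD₀T (hψD x), hmapQ⟩
  have hext : ∀ x : P, pullHom X.κ_injective (P ⊔ X.R) hA (g : X.L) h'
      (Subgroup.inclusion le_sup_left x) = φ x := by
    intro x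
    have h1 := hψe (Subgroup.inclusion le_sup_left x)
    have h2 := hg' x
    have h3 : (⟨((Subgroup.inclusion (le_sup_left : P ≤ P ⊔ X.R) x : ↥(P ⊔ X.R)) : Ω),
        hA (Subgroup.inclusion (le_sup_left : P ≤ P ⊔ X.R) x).2⟩ : ↥(normalizerIn S X.R)) =
        ⟨x, X.hD₀R (hP x.2)⟩ := rfl
    rw [h3, ← h2] at h1
    have h4 := X.κ_injective h1
    exact congrArg (fun z : ↥(normalizerIn S X.R) => (z : Ω)) h4
  have hφN : φ ∈ X.N.Hom P :=
    mem_of_forall_eq X.N (restrict_mem X.N hψN le_sup_left) (fun x => (hext x).symm)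
  rw [X.hN' P]
  exact ⟨hφN, hP, hφ, _, hψN, hext, hmapR⟩

/-- `M` with `ιM` realizes `N'` -/
theorem isRealizedBy : X.N'.IsRealizedBy X.ιM :=
  ⟨X.ιM_injective, fun P hP φ hφ =>
    ⟨fun h => X.real_mp hP φ hφ h, fun ⟨g, hg⟩ => X.real_mpr hP φ hφ g hg⟩⟩

end EmbedSetup

end Cfsg.Agent.Lib.Helper27.HFree
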