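import Mathlib
import Cfsg.Agent.Lib.Helper27.HFreeEmbed2
import Cfsg.Agent.Lib.Helper26.FusionGroup

/-!
# Embedding the model of `N_{N_F(Q)}(R)`: the Sylow condition
-/

set_option autoImplicit false

namespace Cfsg.Agent.Lib.Helper27.HFree

open Cfsg Cfsg.FusionSystem Cfsg.Agent.Lib.Helper26

universe u

/-- for a finite subgroup, one inclusion suffices for the normalizer -/
theorem mem_normalizer_of_forall_finite {G : Type*} [Group G] {P : Subgroup G} [Finite P] {g : G}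
    (h : ∀ y ∈ P, g * y * g⁻¹ ∈ P) : g ∈ Subgroup.normalizer (P : Set G) := by
  refine mem_normalizer_of_forall h (fun y hy => ?_)
  let f : P → P := fun x => ⟨g * x * g⁻¹, h x x.2⟩
  have hinj : Function.Injective f := by
    intro a b hab
    have h1 : g * (a : G) * g⁻¹ = g * (b : G) * g⁻¹ := congrArg Subtype.val hab
    exact Subtype.ext (mul_left_cancel (mul_right_cancel h1))
  obtain ⟨x, hx⟩ := (Finite.injective_iff_surjective.mp hinj) ⟨y, hy⟩
  have h2 : g * (x : G) * g⁻¹ = y := congrArg Subtype.val hx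
  rw [← h2]
  have : g⁻¹ * (g * (x : G) * g⁻¹) * g = x := by group
  rw [this]
  exact x.2

variable {Ω : Type u} [Group Ω] {S : Subgroup Ω}

namespace EmbedSetup

variable {p : ℕ} {F : FusionSystem S} (X : EmbedSetup p F) [Finite S] [Fact p.Prime]

theorem card_le_of_isPGroup (hS : IsPGroup p S) (hF : F.IsSaturated p) {P' : Subgroup X.M}
    (hP' : IsPGroup p P') :
    Nat.card P' ≤ Nat.card (normalizerIn (normalizerIn S X.Q) X.R) := by
  obtain ⟨T, hT⟩ := X.hmod.2.2.1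
  obtain ⟨g, hg⟩ := exists_conj_le_sylow T (hP'.map X.M.subtype)
  have hUN : X.U ≤ normalizerIn S X.U := le_normalizerIn_self X.hUS
  have hy : ∀ y : P', g * ((y : X.M) : X.L) * g⁻¹ ∈ X.ι.range := by
    intro y
    rw [← hT]
    exact hg (conj_mem_cj ⟨y, y.2, rfl⟩)
  have hδ : ∀ u : X.U, g * X.ι ⟨u, hUN u.2⟩ * g⁻¹ ∈ X.ι.range := fun u =>
    imSub_le_range X.ι X.U (X.hUnormal.conj_mem _ (apply_mem_imSub X.ι _ u.2) g)
  have hδN := pullHom_mem_hom _ X.hReal X.U hUN g hδ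
  have hδF : pullHom X.hReal.1 X.U hUN g hδ ∈ F.Hom X.U := by
    rw [normalizerSystem_isNormalizerSystem F X.U X.hUS] at hδN
    exact hδN.1
  have hδe := apply_pullHom X.hReal.1 X.U hUN g hδ
  have hmem : ∀ r : X.R, (X.α.restrictQ X.hRS) r ∈ X.U := fun r =>
    X.α.apply_mem_of_mem X.hRS r
  obtain ⟨φ, hφdef⟩ : ∃ φ : X.R →* Ω, φ = (pullHom X.hReal.1 X.U hUN g hδ).comp
      ((X.α.restrictQ X.hRS).codRestrict X.U hmem) := ⟨_, rfl⟩
  have hφF : φ ∈ F.Hom X.R := by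
    rw [hφdef]
    exact F.comp_mem (X.α.restrictQ_mem X.hRS) hδF hmem
  have hφN : ∀ r : X.R, φ r ∈ normalizerIn S X.U := by
    intro r
    rw [hφdef]
    exact pullHom_mem X.hReal.1 X.U hUN g hδ _
  -- the key property of `φ`
  have hφe : ∀ r : X.R, X.ι ⟨φ r, hφN r⟩ =
      g * X.κ ⟨r, le_normalizerIn_self X.hRS r.2⟩ * g⁻¹ := by
    subst hφdef
    intro r
    exact hδe _
  obtain ⟨χ, hmaps, hρN⟩ := exists_to_normalizer hS F hF X.hQ X.N X.hN X.hQR X.hRT hφF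
  have hconj : X.N.IsConj X.R (χ.φ.comp (φ.codRestrict _ hmaps)).range := ⟨_, hρN, rfl⟩
  have hcard := X.hRn.2 _ hconj
  refine le_trans ?_ hcard
  -- conjugation transfer
  have key : ∀ (z : ↥(normalizerIn S X.U)) (y : X.L), X.ι z = g * y * g⁻¹ →
      ∀ (r r' : X.R), y * X.κ ⟨r, le_normalizerIn_self X.hRS r.2⟩ * y⁻¹ =
        X.κ ⟨r', le_normalizerIn_self X.hRS r'.2⟩ →
      (z : Ω) * φ r * (z : Ω)⁻¹ = φ r' := by
    intro z y hz r r' hrr'
    have h1 : X.ι (z * ⟨φ r, hφN r⟩ * z⁻¹) = X.ι ⟨φ r', hφN r'⟩ := by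
      rw [map_mul, map_mul, map_inv, hz, hφe r, hφe r', ← hrr']
      group
    have h2 := X.hReal.1 h1
    exact congrArg (fun w : ↥(normalizerIn S X.U) => (w : Ω)) h2
  -- the elements `z y`
  let z : P' → ↥(normalizerIn S X.U) := fun y => Classical.choose (hy y)
  have hz : ∀ y : P', X.ι (z y) = g * ((y : X.M) : X.L) * g⁻¹ := fun y =>
    Classical.choose_spec (hy y)
  have hQ₂fin : Finite ↥(φ.comp (Subgroup.inclusion X.hQR)).range :=
    finite_of_le (range_le F (restrict_mem F hφF X.hQR))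
  have claim1 : ∀ y : P', ((z y : ↥(normalizerIn S X.U)) : Ω) ∈
      normalizerIn S (φ.comp (Subgroup.inclusion X.hQR)).range := by
    intro y
    refine ⟨(z y).2.1, mem_normalizer_of_forall_finite ?_⟩
    rintro _ ⟨q, rfl⟩
    have hqN : (q : Ω) ∈ normalizerIn S X.R := le_normalizerIn_self X.hRS (X.hQR q.2)
    have h1 : X.κ ⟨q, hqN⟩ ∈ imSub X.κ X.Q := apply_mem_imSub X.κ _ q.2
    have h2 := (Subgroup.mem_normalizer_iff.mp (y : X.M).2 _).mp h1
    obtain ⟨q', hq'N, hq', h3⟩ := mem_imSub_iff.mp h2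
    have h4 := key (z y) _ (hz y) (Subgroup.inclusion X.hQR q) ⟨q', X.hQR hq'⟩ h3.symm
    refine ⟨⟨q', hq'⟩, ?_⟩
    exact h4.symm
  have hR₃fin : Finite ↥(χ.φ.comp (φ.codRestrict _ hmaps)).range :=
    finite_of_le ((range_le X.N hρN).trans (normalizerIn_le S X.Q))
  have claim2 : ∀ y : P', χ.φ ⟨z y, claim1 y⟩ ∈
      normalizerIn (normalizerIn S X.Q) (χ.φ.comp (φ.codRestrict _ hmaps)).range := by
    intro y
    refine ⟨χ.maps _, mem_normalizer_of_forall_finite ?_⟩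
    rintro _ ⟨r, rfl⟩
    have h1 := X.hUnormal.conj_mem _ (X.κ_mem_imSub_U r.2) ((y : X.M) : X.L)
    obtain ⟨r', hr', h2⟩ := X.exists_of_mem_imSub_U h1
    have h4 := key (z y) _ (hz y) r ⟨r', hr'⟩ h2.symm
    refine ⟨⟨r', hr'⟩, ?_⟩
    show χ.φ (φ.codRestrict _ hmaps ⟨r', hr'⟩) =
      χ.φ ⟨z y, claim1 y⟩ * χ.φ (φ.codRestrict _ hmaps r) * (χ.φ ⟨z y, claim1 y⟩)⁻¹
    rw [← map_inv, ← map_mul, ← map_mul]
    congr 1
    apply Subtype.ext
    exact h4.symm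
  haveI : Finite ↥(normalizerIn (normalizerIn S X.Q) (χ.φ.comp (φ.codRestrict _ hmaps)).range) :=
    finite_of_le ((normalizerIn_le _ _).trans (normalizerIn_le S X.Q))
  refine Nat.card_le_card_of_injective (fun y => (⟨χ.φ ⟨z y, claim1 y⟩, claim2 y⟩ :
    ↥(normalizerIn (normalizerIn S X.Q) (χ.φ.comp (φ.codRestrict _ hmaps)).range))) ?_
  intro y₁ y₂ h12
  have h1 : χ.φ ⟨z y₁, claim1 y₁⟩ = χ.φ ⟨z y₂, claim1 y₂⟩ := congrArg Subtype.val h12
  have h2 := χ.injective h1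
  have h3 : ((z y₁ : ↥(normalizerIn S X.U)) : Ω) = z y₂ :=
    congrArg (fun w : ↥(normalizerIn S (φ.comp (Subgroup.inclusion X.hQR)).range) => (w : Ω)) h2
  have h4 : z y₁ = z y₂ := Subtype.ext h3
  have h5 : g * ((y₁ : X.M) : X.L) * g⁻¹ = g * ((y₂ : X.M) : X.L) * g⁻¹ := by
    rw [← hz y₁, ← hz y₂, h4]
  have h6 : ((y₁ : X.M) : X.L) = y₂ := mul_left_cancel (mul_right_cancel h5)
  exact Subtype.ext (Subtype.ext h6)

end EmbedSetup

end Cfsg.Agent.Lib.Helper27.HFree
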