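import Mathlib
import Cfsg.Agent.Lib.Helper27.Gax1
import Cfsg.Agent.Lib.Helper27.GTModel
import Cfsg.Agent.Lib.Helper27.HFreeEmbed3

/-!
# Transport of an axiomatic family from a fusion system to a realizing group
-/

set_option autoImplicit false

namespace Cfsg.Agent.Lib.Helper27.Gax

open Cfsg Cfsg.FusionSystem Cfsg.Agent.Lib.Helper26 Cfsg.Agent.Lib.Helper27
  Cfsg.Agent.Lib.Helper27.GT

open scoped commutatorElement

universe u

section Gax4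

variable {Ω : Type u} [Group Ω] {S : Subgroup Ω} {L : Type u} [Group L]

/-- the axioms on a family of abelian subgroups of `S`, relative to a fusion system -/
structure FAx (F : FusionSystem S) (𝒜 : Set (Subgroup Ω)) : Prop where
  le : ∀ A ∈ 𝒜, A ≤ S
  comm : ∀ A ∈ 𝒜, IsMulCommutative ↥A
  ne : 𝒜.Nonempty
  inv : ∀ Q : Subgroup Ω, Q ≤ S → (∃ A ∈ 𝒜, A ≤ Q) → ∀ α ∈ F.autGroup Q, ∀ x : ↥Q,
    (∀ A ∈ 𝒜, A ≤ Q → (x : Ω) ∈ A) → ∀ A ∈ 𝒜, A ≤ Q → ((α x : ↥Q) : Ω) ∈ A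
  rep : ∀ B : Subgroup Ω, B ≤ S → ⁅⁅B, B⁆, B⁆ = ⊥ → (∃ A ∈ 𝒜, ⁅B, B⁆ ≤ A ∧ ¬ B ≤ A) →
    ∃ A ∈ 𝒜, ⁅B, B⁆ ≤ A ∧ ¬ B ≤ A ∧ B ≤ Subgroup.normalizer (A : Set Ω)

/-- conjugation by elements of `L` stabilizing the image of `Q` induces automorphisms in `F` -/
def ConjIn (F : FusionSystem S) (ι : S →* L) : Prop :=
  ∀ (Q : Subgroup Ω) (hQ : Q ≤ S) (g : L), (∀ x : Q, g * ι ⟨x, hQ x.2⟩ * g⁻¹ ∈ imSub ι Q) →
    ∃ β ∈ F.autGroup Q, ∀ x : Q, ι ⟨β x, hQ (β x).2⟩ = g * ι ⟨x, hQ x.2⟩ * g⁻¹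

theorem conjIn_of_realized [Finite S] {F : FusionSystem S} {ι : S →* L} (hR : F.IsRealizedBy ι) :
    ConjIn F ι := by
  intro Q hQ g hg
  have h : ∀ x : Q, g * ι ⟨x, hQ x.2⟩ * g⁻¹ ∈ ι.range := fun x => imSub_le_range ι Q (hg x)
  have hφ := pullHom_mem_hom F hR Q hQ g h
  have hle : (pullHom hR.1 Q hQ g h).range ≤ Q := by
    rintro _ ⟨x, rfl⟩
    have h1 := apply_pullHom hR.1 Q hQ g h x
    obtain ⟨q, hqS, hq, hqe⟩ := mem_imSub_iff.mp (hg x)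
    rw [← h1] at hqe
    have h2 := hR.1 hqe
    have h3 : q = pullHom hR.1 Q hQ g h x := congrArg (fun r : S => (r : Ω)) h2
    rw [← h3]
    exact hq
  have hr := range_eq_of_range_le F hφ hle
  exact ⟨autOfHom F hφ hr, autOfHom_mem F hφ hr, fun x => apply_pullHom hR.1 _ hQ g h x⟩

theorem conjIn_mono {E F : FusionSystem S} (h : E ≤ F) {ι : S →* L} (hc : ConjIn E ι) :
    ConjIn F ι := by
  intro Q hQ g hg
  obtain ⟨β, hβ, hβg⟩ := hc Q hQ g hg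
  exact ⟨β, autGroup_mono h hQ hβ, hβg⟩

/-- restriction of the target to a subgroup containing the image -/
theorem conjIn_codRestrict {F : FusionSystem S} {ι : S →* L} (hc : ConjIn F ι) (M : Subgroup L)
    (hmem : ∀ s : S, ι s ∈ M) : ConjIn F (ι.codRestrict M hmem) := by
  intro Q hQ g hg
  have hg' : ∀ x : Q, (g : L) * ι ⟨x, hQ x.2⟩ * (g : L)⁻¹ ∈ imSub ι Q := by
    intro x
    obtain ⟨q, hqS, hq, hqe⟩ := mem_imSub_iff.mp (hg x)
    have h1 := congrArg (fun r : ↥M => (r : L)) hqe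
    have h2 : ι ⟨q, hqS⟩ = (g : L) * ι ⟨x, hQ x.2⟩ * (g : L)⁻¹ := h1
    rw [← h2]
    exact apply_mem_imSub ι hqS hq
  obtain ⟨β, hβ, hβg⟩ := hc Q hQ (g : L) hg'
  exact ⟨β, hβ, fun x => Subtype.ext (hβg x)⟩

/-- the family of images -/
def pushFam {G' : Type u} [Group G'] (κ : S →* G') (𝒜 : Set (Subgroup Ω)) : Set (Subgroup G') :=
  {A' | ∃ A ∈ 𝒜, A' = imSub κ A}

theorem mem_of_apply_mem_imSub {G' : Type u} [Group G'] {κ : S →* G'}
    (hinj : Function.Injective κ) {A : Subgroup Ω} {x : Ω} (hxS : x ∈ S)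
    (h : κ ⟨x, hxS⟩ ∈ imSub κ A) : x ∈ A := by
  obtain ⟨a, haS, ha, hae⟩ := mem_imSub_iff.mp h
  have h1 := hinj hae
  have h2 : a = x := congrArg (fun r : S => (r : Ω)) h1
  rw [← h2]
  exact ha

theorem le_of_imSub_le {G' : Type u} [Group G'] {κ : S →* G'} {A : Subgroup Ω} (hAS : A ≤ S)
    {Q' : Subgroup G'} (h : imSub κ A ≤ Q') : A ≤ preSub κ Q' := by
  intro a ha
  exact mem_preSub_iff.mpr ⟨hAS ha, h (apply_mem_imSub κ (hAS ha) ha)⟩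

theorem imSub_le_of_le_preSub {G' : Type u} [Group G'] {κ : S →* G'} {A : Subgroup Ω}
    {Q' : Subgroup G'} (h : A ≤ preSub κ Q') : imSub κ A ≤ Q' := by
  intro y hy
  obtain ⟨a, haS, ha, rfl⟩ := mem_imSub_iff.mp hy
  exact (mem_preSub_iff.mp (h ha)).2

theorem mem_fInf_pushFam {G' : Type u} [Group G'] {κ : S →* G'} (hinj : Function.Injective κ)
    {𝒜 : Set (Subgroup Ω)} (hle : ∀ A ∈ 𝒜, A ≤ S) (hne : 𝒜.Nonempty) {y : G'} :
    y ∈ fInf (pushFam κ 𝒜) κ.range ↔ y ∈ imSub κ (sInf 𝒜) := by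
  rw [mem_fInf]
  constructor
  · intro h
    obtain ⟨A₀, hA₀⟩ := hne
    have h0 := h (imSub κ A₀) ⟨A₀, hA₀, rfl⟩ (imSub_le_range κ A₀)
    obtain ⟨x, hxS, hx, rfl⟩ := mem_imSub_iff.mp h0
    refine apply_mem_imSub κ hxS ?_
    rw [Subgroup.mem_sInf]
    intro A hA
    exact mem_of_apply_mem_imSub hinj hxS (h (imSub κ A) ⟨A, hA, rfl⟩ (imSub_le_range κ A))
  · intro h A' hA' _
    obtain ⟨A, hA, rfl⟩ := hA'
    exact imSub_mono κ (sInf_le hA) h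

theorem ghyp_of_fax [Finite S] {G' : Type u} [Group G'] {F : FusionSystem S}
    {𝒜 : Set (Subgroup Ω)} {κ : S →* G'} (hinj : Function.Injective κ) (hax : FAx F 𝒜)
    (hc : ConjIn F κ) : GHyp (pushFam κ 𝒜) κ.range where
  le := by
    rintro A' ⟨A, -, rfl⟩
    exact imSub_le_range κ A
  comm := by
    rintro A' ⟨A, hA, rfl⟩
    have := hax.comm A hA
    refine ⟨⟨fun x y => Subtype.ext ?_⟩⟩
    obtain ⟨a, haS, ha, hae⟩ := mem_imSub_iff.mp x.2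
    obtain ⟨b, hbS, hb, hbe⟩ := mem_imSub_iff.mp y.2
    show (x : G') * (y : G') = (y : G') * (x : G')
    rw [← hae, ← hbe, ← map_mul, ← map_mul]
    congr 1
    exact Subtype.ext (setLike_mul_comm ha hb)
  ne := by
    obtain ⟨A₀, hA₀⟩ := hax.ne
    exact ⟨imSub κ A₀, A₀, hA₀, rfl⟩
  inv := by
    intro Q' hQ' hex
    obtain ⟨A₀', ⟨A₀, hA₀, rfl⟩, hA₀Q'⟩ := hex
    haveI : Finite ↥κ.range := Finite.of_surjective (fun s : S => (⟨κ s, ⟨s, rfl⟩⟩ : κ.range))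
      (fun ⟨_, s, rfl⟩ => ⟨s, rfl⟩)
    have hfinf_le : fInf (pushFam κ 𝒜) Q' ≤ κ.range :=
      (fInf_le_of_mem (show imSub κ A₀ ∈ pushFam κ 𝒜 from ⟨A₀, hA₀, rfl⟩) hA₀Q').trans
        (imSub_le_range κ A₀)
    haveI : Finite ↥(fInf (pushFam κ 𝒜) Q') := finite_of_le hfinf_le
    intro g hg
    apply HFree.mem_normalizer_of_forall_finite
    intro y hy
    have hQS := preSub_le κ Q'
    have himQ : imSub κ (preSub κ Q') = Q' := imSub_preSub hQ'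
    have hg' : ∀ x : ↥(preSub κ Q'), g * κ ⟨x, hQS x.2⟩ * g⁻¹ ∈ imSub κ (preSub κ Q') := by
      intro x
      rw [himQ]
      exact (Subgroup.mem_normalizer_iff.mp hg _).mp (mem_preSub_iff.mp x.2).2
    obtain ⟨β, hβ, hβg⟩ := hc _ hQS g hg'
    have hy' := mem_fInf.mp hy
    have h0 := hy' (imSub κ A₀) ⟨A₀, hA₀, rfl⟩ hA₀Q'
    obtain ⟨x, hxS, hx, rfl⟩ := mem_imSub_iff.mp h0
    have hxQ : x ∈ preSub κ Q' := mem_preSub_iff.mpr ⟨hxS, hA₀Q' h0⟩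
    have hall : ∀ A ∈ 𝒜, A ≤ preSub κ Q' → x ∈ A := by
      intro A hA hAQ
      exact mem_of_apply_mem_imSub hinj hxS
        (hy' (imSub κ A) ⟨A, hA, rfl⟩ (imSub_le_of_le_preSub hAQ))
    have hβx := hax.inv _ hQS ⟨A₀, hA₀, le_of_imSub_le (hax.le A₀ hA₀) hA₀Q'⟩ β hβ ⟨x, hxQ⟩ hall
    rw [mem_fInf]
    rintro A' ⟨A, hA, rfl⟩ hAQ'
    rw [← hβg ⟨x, hxQ⟩]
    exact apply_mem_imSub κ _ (hβx A hA (le_of_imSub_le (hax.le A hA) hAQ'))
  rep := by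
    rintro B' hB' hcl' ⟨A', ⟨A, hA, rfl⟩, hB'A, hnB'A⟩
    have hB₀map : (B'.comap κ).map κ = B' := Subgroup.map_comap_eq_self hB'
    have hBS : (B'.comap κ).map S.subtype ≤ S := by
      rintro _ ⟨s, -, rfl⟩
      exact s.2
    have hcomm' : ⁅B', B'⁆ = (⁅B'.comap κ, B'.comap κ⁆).map κ := by
      rw [Subgroup.map_commutator, hB₀map]
    have hcommB : ⁅(B'.comap κ).map S.subtype, (B'.comap κ).map S.subtype⁆ =
        (⁅B'.comap κ, B'.comap κ⁆).map S.subtype := by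
      rw [Subgroup.map_commutator]
    have hcl₀ : ⁅⁅B'.comap κ, B'.comap κ⁆, B'.comap κ⁆ = ⊥ := by
      have : (⁅⁅B'.comap κ, B'.comap κ⁆, B'.comap κ⁆).map κ = ⊥ := by
        rw [Subgroup.map_commutator, ← hcomm', hB₀map, hcl']
      exact (Subgroup.map_eq_bot_iff_of_injective _ hinj).mp this
    have hcl : ⁅⁅(B'.comap κ).map S.subtype, (B'.comap κ).map S.subtype⁆,
        (B'.comap κ).map S.subtype⁆ = ⊥ := by
      rw [hcommB, ← Subgroup.map_commutator, hcl₀, Subgroup.map_bot]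
    have h1 : ⁅B'.comap κ, B'.comap κ⁆ ≤ A.subgroupOf S := by
      rw [hcomm'] at hB'A
      exact (Subgroup.map_le_map_iff_of_injective hinj).mp hB'A
    have hBBA : ⁅(B'.comap κ).map S.subtype, (B'.comap κ).map S.subtype⁆ ≤ A := by
      rw [hcommB]
      rintro _ ⟨s, hs, rfl⟩
      exact Subgroup.mem_subgroupOf.mp (h1 hs)
    have hnBA : ¬ (B'.comap κ).map S.subtype ≤ A := by
      intro hBA
      apply hnB'A
      rw [← hB₀map]
      apply Subgroup.map_mono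
      intro s hs
      exact Subgroup.mem_subgroupOf.mpr (hBA ⟨s, hs, rfl⟩)
    obtain ⟨A₁, hA₁, hBBA₁, hnBA₁, hBN⟩ := hax.rep _ hBS hcl ⟨A, hA, hBBA, hnBA⟩
    refine ⟨imSub κ A₁, ⟨A₁, hA₁, rfl⟩, ?_, ?_, ?_⟩
    · rw [hcomm']
      apply Subgroup.map_mono
      intro s hs
      refine Subgroup.mem_subgroupOf.mpr (hBBA₁ ?_)
      rw [hcommB]
      exact ⟨s, hs, rfl⟩
    · intro hle
      apply hnBA₁
      rw [← hB₀map] at hle
      have h2 : B'.comap κ ≤ A₁.subgroupOf S :=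
        (Subgroup.map_le_map_iff_of_injective hinj).mp hle
      rintro _ ⟨s, hs, rfl⟩
      exact Subgroup.mem_subgroupOf.mp (h2 hs)
    · rw [← hB₀map]
      rintro _ ⟨s, hs, rfl⟩
      apply Subgroup.le_normalizer_map κ
      refine ⟨s, ?_, rfl⟩
      have h3 : (s : Ω) ∈ Subgroup.normalizer (A₁ : Set Ω) := hBN ⟨s, hs, rfl⟩
      exact Subgroup.le_normalizer_comap S.subtype h3

end Gax4

end Cfsg.Agent.Lib.Helper27.Gax
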