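import Mathlib
import Cfsg.Agent.Lib.Helper27.Gax2
import Cfsg.Agent.Lib.Helper27.Gax3
import Cfsg.Agent.Lib.Helper27.Gax4

/-!
# The axiomatic Glauberman–Thompson criterion for a group of characteristic `p`
-/

set_option autoImplicit false

namespace Cfsg.Agent.Lib.Helper27.Gax

open Cfsg Cfsg.FusionSystem Cfsg.Agent.Lib.Helper26 Cfsg.Agent.Lib.Helper27
  Cfsg.Agent.Lib.Helper27.GT Cfsg.Agent.Lib.Helper1.TNPC Cfsg.Agent.Lib.Helper1.GNPC

open scoped commutatorElement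

universe u

section Gax5

variable {Ω : Type u} [Group Ω] {S : Subgroup Ω} {L : Type u} [Group L]

theorem npc_of_fax [Finite S] [Finite L] {p : ℕ} [hp : Fact p.Prime] (hp2 : p ≠ 2)
    (F : FusionSystem S) (𝒜 : Set (Subgroup Ω)) (hax : FAx F 𝒜)
    {ι : S →* L} (hinj : Function.Injective ι) (hc : ConjIn F ι)
    (T : Sylow p L) (hT : (T : Subgroup L) = ι.range)
    (hcore : Subgroup.centralizer ((Cfsg.pCore p L : Subgroup L) : Set L) ≤ Cfsg.pCore p L)
    (W : Subgroup L) [hWn : W.Normal] (hWT : W ≤ ι.range)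
    (hq : HasNormalPComplement p (L ⧸ W))
    (hZ : HasNormalPComplement p ↥(Subgroup.normalizer (imSub ι (sInf 𝒜) : Set L))) :
    HasNormalPComplement p L := by
  by_contra hcex
  -- a minimal subgroup containing `T` without a normal `p`-complement
  have hfin : Set.Finite {M : Subgroup L | (T : Subgroup L) ≤ M ∧ ¬ HasNormalPComplement p ↥M} :=
    Set.toFinite _
  obtain ⟨M, ⟨hTM, hMcex⟩, hMmin⟩ := Set.exists_min_image _ (fun M : Subgroup L => Nat.card M)
    hfin ⟨⊤, le_top, fun h => hcex (npc_top_iff.mp h)⟩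
  have hmem : ∀ s : S, ι s ∈ M := fun s => hTM (by rw [hT]; exact ⟨s, rfl⟩)
  have hκinj : Function.Injective (ι.codRestrict M hmem) :=
    fun a b hab => hinj (congrArg (fun r : ↥M => (r : L)) hab)
  have hPM : ((T.subtype hTM : Sylow p ↥M) : Subgroup ↥M) = (ι.codRestrict M hmem).range := by
    rw [Sylow.coe_subtype]
    ext y
    rw [Subgroup.mem_subgroupOf, hT]
    constructor
    · rintro ⟨s, hs⟩
      exact ⟨s, Subtype.ext hs⟩
    · rintro ⟨s, rfl⟩
      exact ⟨s, rfl⟩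
  have hcκ : ConjIn F (ι.codRestrict M hmem) := conjIn_codRestrict hc M hmem
  have hG : GHyp (pushFam (ι.codRestrict M hmem) 𝒜)
      ((T.subtype hTM : Sylow p ↥M) : Subgroup ↥M) := by
    rw [hPM]
    exact ghyp_of_fax hκinj hax hcκ
  -- the `p`-core of `M`
  haveI hHn : (Cfsg.pCore p ↥M).Normal := Cfsg.Agent.Lib.Helper1.pCore_normal p
  have hHp : IsPGroup p (Cfsg.pCore p ↥M) := Cfsg.Agent.Lib.Helper1.pCore_isPGroup p
  have hOLn : (Cfsg.pCore p L).Normal := Cfsg.Agent.Lib.Helper1.pCore_normal p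
  have hOLp : IsPGroup p (Cfsg.pCore p L) := Cfsg.Agent.Lib.Helper1.pCore_isPGroup p
  have hOLM : Cfsg.pCore p L ≤ M := (Cfsg.Agent.Lib.Helper1.pCore_le_sylow p T).trans hTM
  have hOL : (Cfsg.pCore p L).subgroupOf M ≤ Cfsg.pCore p ↥M :=
    Cfsg.Agent.Lib.Helper1.le_pCore (hOLn.subgroupOf M) (hOLp.comap_subtype)
  have hCH : Subgroup.centralizer ((Cfsg.pCore p ↥M : Subgroup ↥M) : Set ↥M) ≤
      Cfsg.pCore p ↥M := by
    intro c hc'
    apply hOL
    rw [Subgroup.mem_subgroupOf]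
    apply hcore
    rw [Subgroup.mem_centralizer_iff]
    intro y hy
    have h1 := (Subgroup.mem_centralizer_iff.mp hc') ⟨y, hOLM hy⟩
      (hOL (Subgroup.mem_subgroupOf.mpr hy))
    exact congrArg (fun r : ↥M => (r : L)) h1
  have hWp : IsPGroup p W := by
    have : IsPGroup p ι.range := by
      rw [← hT]
      exact T.isPGroup'
    exact this.to_le hWT
  have hWH : W.subgroupOf M ≤ Cfsg.pCore p ↥M :=
    Cfsg.Agent.Lib.Helper1.le_pCore (hWn.subgroupOf M) (hWp.comap_subtype)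
  have hqM := npc_quot_sub W hq M (Cfsg.pCore p ↥M) hWH
  have hmin : ∀ X : Subgroup ↥M, ((T.subtype hTM : Sylow p ↥M) : Subgroup ↥M) ≤ X → X ≠ ⊤ →
      HasNormalPComplement p ↥X := by
    intro X hPX hXtop
    by_contra hXcex
    have hTX : (T : Subgroup L) ≤ X.map M.subtype := by
      intro t ht
      refine ⟨⟨t, hTM ht⟩, hPX ?_, rfl⟩
      rw [Sylow.coe_subtype, Subgroup.mem_subgroupOf]
      exact ht
    have hXcex' : ¬ HasNormalPComplement p ↥(X.map M.subtype) :=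
      fun h => hXcex (npc_of_map_injective M.subtype M.subtype_injective X h)
    have h1 := hMmin (X.map M.subtype) ⟨hTX, hXcex'⟩
    have h2 : Nat.card ↥(X.map M.subtype) = Nat.card X :=
      Subgroup.card_map_of_injective M.subtype_injective
    have h3 : Nat.card X < Nat.card ↥M := card_lt_of_ne_top hXtop
    have h1' : Nat.card ↥M ≤ Nat.card ↥(X.map M.subtype) := h1
    omega
  obtain ⟨Kb, c⟩ := exists_finalCfg (T.subtype hTM) (Cfsg.pCore p ↥M) hHp hCH
    (fun X hXn hX => Cfsg.Agent.Lib.Helper1.le_pCore hXn hX) hMcex hmin hqM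
  have hn := fInf_normal (T.subtype hTM) hG hCH (fun V _ hV a ha hq => c.stable hp2 V hV a ha hq)
  rw [hPM] at hn
  -- `M` normalizes the image of the intersection
  apply hMcex
  refine npc_of_le ?_ hZ
  have hZS : sInf 𝒜 ≤ S := by
    obtain ⟨A₀, hA₀⟩ := hax.ne
    exact (sInf_le hA₀).trans (hax.le A₀ hA₀)
  have key : ∀ m ∈ M, ∀ y ∈ imSub ι (sInf 𝒜), m * y * m⁻¹ ∈ imSub ι (sInf 𝒜) := by
    intro m hm y hy
    obtain ⟨x, hxS, hx, rfl⟩ := mem_imSub_iff.mp hy
    have h1 : (ι.codRestrict M hmem) ⟨x, hxS⟩ ∈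
        fInf (pushFam (ι.codRestrict M hmem) 𝒜) (ι.codRestrict M hmem).range :=
      (mem_fInf_pushFam hκinj hax.le hax.ne).mpr (apply_mem_imSub _ hxS hx)
    have h2 := hn.conj_mem _ h1 ⟨m, hm⟩
    rw [mem_fInf_pushFam hκinj hax.le hax.ne] at h2
    obtain ⟨z, hzS, hz, hze⟩ := mem_imSub_iff.mp h2
    have h3 := congrArg (fun r : ↥M => (r : L)) hze
    have h4 : ι ⟨z, hzS⟩ = m * ι ⟨x, hxS⟩ * m⁻¹ := h3
    rw [← h4]
    exact apply_mem_imSub ι hzS hz
  intro m hm
  refine mem_normalizer_of_forall (fun y hy => key m hm y hy) (fun y hy => ?_)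
  have := key m⁻¹ (M.inv_mem hm) y hy
  rwa [inv_inv] at this

end Gax5

end Cfsg.Agent.Lib.Helper27.Gax
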