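import Mathlib
import Cfsg.Agent.Lib.Helper27.HFreeEmbed3
import Cfsg.Agent.Lib.Helper27.ModelMain
import Cfsg.Agent.S5091
import Cfsg.Agent.Lib.Helper27.FusCentric

/-!
# Embedding the model of `N_{N_F(Q)}(R)` into the model of `N_F(U)`: conclusion
-/

set_option autoImplicit false

namespace Cfsg.Agent.Lib.Helper27.HFree

open Cfsg Cfsg.FusionSystem Cfsg.Agent.Lib.Helper26

universe u

variable {Ω : Type u} [Group Ω] {S : Subgroup Ω}

namespace EmbedSetup

variable {p : ℕ} {F : FusionSystem S} (X : EmbedSetup p F) [Finite S] [Fact p.Prime]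

theorem imSub_U_le_M : imSub X.ι X.U ≤ X.M := by
  intro u hu
  obtain ⟨r, hr, rfl⟩ := X.exists_of_mem_imSub_U hu
  exact X.κ_mem_M _ (X.hRT hr).2

theorem isModel (hS : IsPGroup p S) (hF : F.IsSaturated p) : X.N'.IsModel p X.M X.ιM := by
  have hD₀S : normalizerIn (normalizerIn S X.Q) X.R ≤ S :=
    (normalizerIn_le _ _).trans (normalizerIn_le _ _)
  haveI : Finite ↥(normalizerIn (normalizerIn S X.Q) X.R) := finite_of_le hD₀S
  have hD₀p : IsPGroup p ↥(normalizerIn (normalizerIn S X.Q) X.R) := hS.to_le hD₀S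
  refine ⟨inferInstance, X.isRealizedBy, ?_, ?_⟩
  · have hrp : IsPGroup p X.ιM.range := hD₀p.of_equiv (MonoidHom.ofInjective X.ιM_injective)
    obtain ⟨P', hP'⟩ := hrp.exists_le_sylow
    have h1 := X.card_le_of_isPGroup hS hF P'.isPGroup'
    have h2 : Nat.card X.ιM.range = Nat.card ↥(normalizerIn (normalizerIn S X.Q) X.R) :=
      (Nat.card_congr (MonoidHom.ofInjective X.ιM_injective).toEquiv).symm
    have h3 : X.ιM.range = (P' : Subgroup X.M) :=
      Subgroup.eq_of_le_of_card_ge hP' (by rw [h2]; exact h1)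
    exact ⟨P', h3.symm⟩
  · have hUp : IsPGroup p ↥(imSub X.ι X.U) := by
      have h1 : IsPGroup p ↥(X.U.subgroupOf (normalizerIn S X.U)) :=
        (hS.to_le (normalizerIn_le S X.U)).to_subgroup _
      exact h1.map X.ι
    have hUMn : ((imSub X.ι X.U).subgroupOf X.M).Normal := X.hUnormal.subgroupOf X.M
    have hUMp : IsPGroup p ↥((imSub X.ι X.U).subgroupOf X.M) := hUp.comap_subtype
    have hUM_le : (imSub X.ι X.U).subgroupOf X.M ≤ pCore p X.M :=
      Cfsg.Agent.Lib.Helper1.le_pCore hUMn hUMp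
    have hRF : F.IsCentric X.R :=
      centric_of_normalizer_centric hS F hF X.hQ X.N X.hN X.hQR X.hRc
    have hUc : F.IsCentric X.U := Cfsg.Agent.Lib.Helper27.isCentric_of_isConj F hRF
      ⟨X.α.restrictQ X.hRS, X.α.restrictQ_mem X.hRS, X.α.restrictQ_range X.hRS⟩
    have hE := normalizerSystem_isNormalizerSystem F X.U X.hUS
    have hcent := centralizer_imSub_le _ X.hReal X.hmod.2.2.1 X.hmod.2.2.2
      (normalizerSystem_isNormal F X.hUS _ hE) (normalizerSystem_isCentric F hUc _ hE)
    intro c hc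
    apply hUM_le
    rw [Subgroup.mem_subgroupOf]
    apply hcent
    rw [Subgroup.mem_centralizer_iff]
    intro u hu
    have h1 : (⟨u, X.imSub_U_le_M hu⟩ : X.M) ∈ pCore p X.M :=
      hUM_le (Subgroup.mem_subgroupOf.mpr hu)
    have h2 := Subgroup.mem_centralizer_iff.mp hc _ h1
    exact congrArg Subtype.val h2

end EmbedSetup

/-- the model of `N_{N_F(Q)}(R)` embeds into the model of `N_F(U)` for a fully normalized centric
`F`-conjugate `U` of `R` -/
theorem model_embed [Finite S] {p : ℕ} [Fact p.Prime] (hS : IsPGroup p S) (F : FusionSystem S)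
    (hF : F.IsSaturated p) {Q : Subgroup Ω} (hQ : F.IsFullyNormalized Q)
    (N : FusionSystem (normalizerIn S Q)) (hN : F.IsNormalizerSystem Q N) {R : Subgroup Ω}
    (hQR : Q ≤ R) (hRn : N.IsFullyNormalized R) (hRc : N.IsCentric R)
    (N' : FusionSystem (normalizerIn (normalizerIn S Q) R)) (hN' : N.IsNormalizerSystem R N')
    (L' : Type u) [Group L'] (ι' : ↥(normalizerIn (normalizerIn S Q) R) →* L')
    (hL' : N'.IsModel p L' ι') :
    ∃ (U : Subgroup Ω) (hUn : F.IsFullyNormalized U), F.IsCentric U ∧ Nat.card U = Nat.card R ∧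
      ∃ (L : Type u) (_ : Group L) (ι : ↥(normalizerIn S U) →* L),
        (normalizerSystem F U hUn.1).IsModel p L ι ∧ ∃ f : L' →* L, Function.Injective f := by
  have hRT : R ≤ normalizerIn S Q := hRc.1
  have hRS : R ≤ S := hRT.trans (normalizerIn_le S Q)
  have hRF : F.IsCentric R := centric_of_normalizer_centric hS F hF hQ N hN hQR hRc
  obtain ⟨U, hRU, hUn⟩ := exists_fullyNormalized_conj F hRS
  obtain ⟨-, hUa, hUr⟩ := saturated_fullyNormalized hS F hF hUn
  obtain ⟨α⟩ := nonempty_normalizerHom hS F hUa hUr hRU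
  have hUc : F.IsCentric U := Cfsg.Agent.Lib.Helper27.isCentric_of_isConj F hRF hRU
  have hcons := normalizerSystem_constrained hS F hF hUn hUc _
    (normalizerSystem_isNormalizerSystem F U hUn.1)
  haveI : Finite ↥(normalizerIn S U) := finite_of_le (normalizerIn_le S U)
  obtain ⟨L, _, ι, hmod⟩ := Cfsg.Agent.Lib.Helper27.Model.exists_model p
    (hS.to_le (normalizerIn_le S U)) _ hcons
  haveI : Finite L := hmod.1
  let X : EmbedSetup p F :=
    { Q := Q, hQ := hQ, N := N, hN := hN, R := R, hQR := hQR, hRn := hRn, hRc := hRc, N' := N',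
      hN' := hN', U := U, hUn := hUn, α := α, L := L, ι := ι, hmod := hmod }
  have hM := X.isModel hS hF
  haveI : Finite ↥(normalizerIn S Q) := finite_of_le (normalizerIn_le S Q)
  have hNsat := normalizerSystem_saturated hS F hF hQ N hN
  have hN'c := normalizerSystem_constrained (hS.to_le (normalizerIn_le S Q)) N hNsat hRn hRc N' hN'
  haveI : Finite ↥(normalizerIn (normalizerIn S Q) R) :=
    finite_of_le (normalizerIn_le _ _)
  obtain ⟨φ, -⟩ := Cfsg.Agent.S5091.result p
    (hS.to_le ((normalizerIn_le _ _).trans (normalizerIn_le S Q))) N' hN'c ι' X.ιM hL' hM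
  refine ⟨U, hUn, hUc, (Cfsg.Agent.S5082.card_eq_of_isConj F hRU).symm, L, inferInstance, ι, hmod,
    X.M.subtype.comp φ.toMonoidHom, ?_⟩
  exact X.M.subtype_injective.comp φ.injective

end Cfsg.Agent.Lib.Helper27.HFree
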