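import Mathlib
import Cfsg.Agent.Lib.Helper27.HFreeEmbed4
import Cfsg.Agent.Lib.Helper26.ModelUniq3
import Cfsg.Agent.Lib.Helper27.AutSystem

/-!
# Radical subgroups and models

If `L` is a model of `N_F(Q)` (`Q` centric) with `O_p(L)` the image of `Q`, then `Q` is radical.
-/

set_option autoImplicit false

namespace Cfsg.Agent.Lib.Helper27.HFree

open Cfsg Cfsg.FusionSystem Cfsg.Agent.Lib.Helper26

universe u

variable {Ω : Type u} [Group Ω] {S : Subgroup Ω}

theorem inn_le_autGroup (F : FusionSystem S) {Q : Subgroup Ω} (hQS : Q ≤ S) :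
    Cfsg.Inn Q ≤ F.autGroup Q := by
  rintro _ ⟨q, rfl⟩
  rw [mem_autGroup_iff F hQS]
  exact mem_of_forall_eq F (F.conj_mem hQS (hQS q.2)) (fun x => rfl)

theorem radical_of_pCore_eq [Finite S] {p : ℕ} [Fact p.Prime] (hS : IsPGroup p S)
    (F : FusionSystem S) {Q : Subgroup Ω} (hQc : F.IsCentric Q)
    (N : FusionSystem (normalizerIn S Q)) (hN : F.IsNormalizerSystem Q N)
    {L : Type u} [Group L] (ι : ↥(normalizerIn S Q) →* L) (hmod : N.IsModel p L ι)
    (hcore : pCore p L = imSub ι Q) : F.IsRadical p Q := by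
  have hQS : Q ≤ S := hQc.1
  have hQT : Q ≤ normalizerIn S Q := le_normalizerIn_self hQS
  haveI : Finite L := hmod.1
  have hR := hmod.2.1
  have hQnN : N.IsNormal Q := normalizerSystem_isNormal F hQS N hN
  have hn : (imSub ι Q).Normal := imSub_normal_of_isNormal N hR hmod.2.2.1 hmod.2.2.2 hQnN
  have hQcN : N.IsCentric Q := normalizerSystem_isCentric F hQc N hN
  have hker := centralizer_imSub_le N hR hmod.2.2.1 hmod.2.2.2 hQnN hQcN
  have hQp : IsPGroup p Q := hS.to_le hQS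
  have himp : IsPGroup p ↥(imSub ι Q) := by
    have h1 : IsPGroup p ↥(Q.subgroupOf (normalizerIn S Q)) :=
      (hS.to_le (normalizerIn_le S Q)).to_subgroup _
    exact h1.map ι
  -- the action
  have hc_mem : ∀ g : L, modelActQ hR.1 hQT hn g ∈ F.autGroup Q := by
    intro g
    rw [mem_autGroup_iff F hQS]
    have hv : ∀ x : Q, (Q.subtype.comp (modelActQ hR.1 hQT hn g).toMonoidHom) x ∈
        normalizerIn S Q := fun x => hQT (modelActQ hR.1 hQT hn g x).2
    have h1 : Q.subtype.comp (modelActQ hR.1 hQT hn g).toMonoidHom ∈ N.Hom Q :=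
      (hR.2 Q hQT _ hv).mpr ⟨g, fun x => modelActQ_spec hR.1 hQT hn g x⟩
    rw [hN Q] at h1
    exact h1.1
  have hc_surj : ∀ a ∈ F.autGroup Q, ∃ g : L, modelActQ hR.1 hQT hn g = a := by
    intro a ha
    have h1 := Cfsg.Agent.Lib.Helper27.GT.mem_normalizerHom_of_aut F le_rfl hQT ha
      (fun x _ => (a x).2)
    rw [← hN Q] at h1
    obtain ⟨g, hg⟩ := exists_of_mem_hom N hR h1
    refine ⟨g, ?_⟩
    ext x
    have h2 := modelActQ_spec hR.1 hQT hn g x
    rw [← hg x] at h2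
    exact congrArg (fun z : ↥(normalizerIn S Q) => (z : Ω)) (hR.1 h2)
  refine ⟨hQS, le_antisymm ?_ ?_⟩
  · -- `O_p(Aut_F(Q)) ≤ Inn(Q)`
    rintro _ ⟨b₀, hb₀, rfl⟩
    obtain ⟨g, hg⟩ := hc_surj _ b₀.2
    -- the preimage of `O_p(Aut_F(Q))`
    let K : Subgroup L := ((pCore p (F.autGroup Q)).map (F.autGroup Q).subtype).comap
      (modelActQ hR.1 hQT hn)
    have hKn : K.Normal := by
      constructor
      intro k hk g'
      obtain ⟨b₁, hb₁, hb₁k⟩ := hk
      have hnorm := Cfsg.Agent.Lib.Helper1.pCore_normal (G := F.autGroup Q) p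
      have h1 := hnorm.conj_mem b₁ hb₁ ⟨modelActQ hR.1 hQT hn g', hc_mem g'⟩
      refine ⟨_, h1, ?_⟩
      show (modelActQ hR.1 hQT hn g') * (b₁ : MulAut Q) * (modelActQ hR.1 hQT hn g')⁻¹ =
        modelActQ hR.1 hQT hn (g' * k * g'⁻¹)
      rw [map_mul, map_mul, map_inv]
      congr 2
    have hKp : IsPGroup p K := by
      intro k
      have hBp : IsPGroup p ↥((pCore p (F.autGroup Q)).map (F.autGroup Q).subtype) :=
        (Cfsg.Agent.Lib.Helper1.pCore_isPGroup p).map _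
      obtain ⟨m, hm⟩ := hBp ⟨modelActQ hR.1 hQT hn k, k.2⟩
      have hm' : (modelActQ hR.1 hQT hn k) ^ p ^ m = 1 := congrArg Subtype.val hm
      have h1 : (k : L) ^ p ^ m ∈ (modelActQ hR.1 hQT hn).ker := by
        rw [MonoidHom.mem_ker, map_pow]
        exact hm'
      rw [mem_ker_modelActQ_iff] at h1
      obtain ⟨n, hn'⟩ := himp ⟨_, hker h1⟩
      have hn'' : ((k : L) ^ p ^ m) ^ p ^ n = 1 := congrArg Subtype.val hn'
      refine ⟨m + n, ?_⟩
      apply Subtype.ext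
      rw [Subgroup.coe_pow, pow_add, pow_mul]
      exact hn''
    have hgK : g ∈ K := ⟨b₀, hb₀, hg.symm⟩
    have hgcore := Cfsg.Agent.Lib.Helper1.le_pCore hKn hKp hgK
    rw [hcore] at hgcore
    obtain ⟨q, hqT, hq, hqg⟩ := mem_imSub_iff.mp hgcore
    subst hqg
    refine ⟨⟨q, hq⟩, ?_⟩
    show MulAut.conj ⟨q, hq⟩ = (b₀ : MulAut Q)
    rw [← hg]
    ext x
    have h2 := modelActQ_spec hR.1 hQT hn (ι ⟨q, hqT⟩) x
    have h3 : ι ⟨q, hqT⟩ * ι ⟨x, hQT x.2⟩ * (ι ⟨q, hqT⟩)⁻¹ =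
        ι ⟨q * x * q⁻¹, (normalizerIn S Q).mul_mem ((normalizerIn S Q).mul_mem hqT (hQT x.2))
          ((normalizerIn S Q).inv_mem hqT)⟩ := by
      rw [← map_inv, ← map_mul, ← map_mul]
      rfl
    rw [h3] at h2
    exact (congrArg (fun z : ↥(normalizerIn S Q) => (z : Ω)) (hR.1 h2)).symm
  · -- `Inn(Q) ≤ O_p(Aut_F(Q))`
    have hle := inn_le_autGroup F hQS
    have hInp : IsPGroup p ↥((Cfsg.Inn Q).subgroupOf (F.autGroup Q)) := by
      have h1 : IsPGroup p ↥(Cfsg.Inn Q) := by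
        have : IsPGroup p ↥((MulAut.conj : Q →* MulAut Q).range) :=
          hQp.of_surjective (MulAut.conj : Q →* MulAut Q).rangeRestrict
            (MulAut.conj : Q →* MulAut Q).rangeRestrict_surjective
        exact this
      exact h1.comap_subtype
    have hInn : ((Cfsg.Inn Q).subgroupOf (F.autGroup Q)).Normal :=
      (Cfsg.Agent.Lib.Helper27.inn_normal Q).subgroupOf _
    have h1 := Cfsg.Agent.Lib.Helper1.le_pCore hInn hInp
    intro a ha
    exact ⟨⟨a, hle ha⟩, h1 (Subgroup.mem_subgroupOf.mpr ha), rfl⟩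

end Cfsg.Agent.Lib.Helper27.HFree
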