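import Mathlib
import Cfsg.Agent.Lib.Helper27.HFreeRadical
import Cfsg.Agent.Lib.Helper27.FusNormal
import Cfsg.Prelude.Def_FusionReduction

/-!
# Section-free fusion systems: centric radical subgroups suffice, and normalizer systems inherit

* `sectionFree_of_centric_radical`: it is enough to test the models at the fully normalized centric
  radical subgroups;
* `sectionFree_normalizer`: the normalizer system of a fully normalized subgroup of an `H`-free
  saturated system is `H`-free.
-/

set_option autoImplicit false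

namespace Cfsg.Agent.Lib.Helper27.HFree

open Cfsg Cfsg.FusionSystem Cfsg.Agent.Lib.Helper26

universe u v

theorem involves_of_injective {H : Type v} [Group H] {L' L : Type u} [Group L'] [Group L]
    (h : Cfsg.Involves H L') (f : L' →* L) (hf : Function.Injective f) : Cfsg.Involves H L := by
  obtain ⟨K, R, hn, ⟨e⟩⟩ := h
  have he : (R.subgroupOf K).map (K.equivMapOfInjective f hf).toMonoidHom =
      (R.map f).subgroupOf (K.map f) := by
    ext y
    constructor
    · rintro ⟨k, hk, rfl⟩
      rw [Subgroup.mem_subgroupOf]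
      exact ⟨k, Subgroup.mem_subgroupOf.mp hk, rfl⟩
    · intro hy
      obtain ⟨r, hr, hry⟩ := Subgroup.mem_subgroupOf.mp hy
      obtain ⟨k, hk, hky⟩ := y.2
      have hkr : k = r := hf (hky.trans hry.symm)
      refine ⟨⟨k, hk⟩, Subgroup.mem_subgroupOf.mpr (hkr ▸ hr), ?_⟩
      exact Subtype.ext hky
  haveI hn' : ((R.map f).subgroupOf (K.map f)).Normal := by
    rw [← he]
    exact Subgroup.Normal.map hn _ (K.equivMapOfInjective f hf).surjective
  exact ⟨K.map f, R.map f, hn',
    ⟨(QuotientGroup.congr _ _ (K.equivMapOfInjective f hf) he).symm.trans e⟩⟩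

variable {Ω : Type u} [Group Ω] {S : Subgroup Ω}

/-- a model of `F` is a model of the normalizer system of a subgroup normal in `F` -/
theorem isModel_normalizer_of_isNormal {p : ℕ} {F : FusionSystem S} {R : Subgroup Ω}
    (hRn : F.IsNormal R) (N' : FusionSystem (normalizerIn S R))
    (hN' : F.IsNormalizerSystem R N') {L : Type u} [Group L] (ι : S →* L)
    (hmod : F.IsModel p L ι) :
    N'.IsModel p L (ι.comp (Subgroup.inclusion (normalizerIn_le S R))) := by
  obtain ⟨hfin, hR, ⟨T, hT⟩, hcore⟩ := hmod
  have hSN : S ≤ normalizerIn S R := fun s hs =>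
    ⟨hs, Cfsg.Agent.Lib.Helper27.mem_normalizer_of_isNormal F hRn hs⟩
  refine ⟨hfin, ⟨?_, ?_⟩, ⟨T, ?_⟩, hcore⟩
  · exact hR.1.comp (Subgroup.inclusion_injective _)
  · intro P hP φ hφ
    have hPS : P ≤ S := hP.trans (normalizerIn_le S R)
    have hφS : ∀ x : P, φ x ∈ S := fun x => normalizerIn_le S R (hφ x)
    rw [hN' P]
    constructor
    · intro h
      exact (hR.2 P hPS φ hφS).mp h.1
    · intro h
      have hφF : φ ∈ F.Hom P := (hR.2 P hPS φ hφS).mpr h
      exact ⟨hφF, hP, hφ, hRn.2 P φ hφF⟩
  · rw [hT]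
    ext y
    constructor
    · rintro ⟨s, rfl⟩
      exact ⟨⟨s, hSN s.2⟩, rfl⟩
    · rintro ⟨s, rfl⟩
      exact ⟨_, rfl⟩

/-- centric radical subgroups suffice -/
theorem sectionFree_of_centric_radical [Finite S] {p : ℕ} [Fact p.Prime] (hS : IsPGroup p S)
    (F : FusionSystem S) (hF : F.IsSaturated p) (H : Type v) [Group H]
    (h : ∀ Q : Subgroup Ω, F.IsFullyNormalized Q → F.IsCentric Q → F.IsRadical p Q →
      ∀ N : FusionSystem (normalizerIn S Q), F.IsNormalizerSystem Q N →
        ∀ (L : Type u) [Group L] (ι : ↥(normalizerIn S Q) →* L), N.IsModel p L ι →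
          ¬ Cfsg.Involves H L) : F.IsSectionFree p H := by
  suffices key : ∀ k : ℕ, ∀ Q : Subgroup Ω, F.IsFullyNormalized Q → F.IsCentric Q →
      Nat.card S - Nat.card Q = k →
      ∀ N : FusionSystem (normalizerIn S Q), F.IsNormalizerSystem Q N →
        ∀ (L : Type u) [Group L] (ι : ↥(normalizerIn S Q) →* L), N.IsModel p L ι →
          ¬ Cfsg.Involves H L from
    fun Q hQn hQc N hN L _ ι hmod => key _ Q hQn hQc rfl N hN L ι hmod
  intro k
  induction k using Nat.strong_induction_on with
  | _ k IH =>
    intro Q hQn hQc hk N hN L _ ι hmod hinv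
    by_cases hrad : F.IsRadical p Q
    · exact h Q hQn hQc hrad N hN L ι hmod hinv
    · have hQS : Q ≤ S := hQn.1
      have hQT : Q ≤ normalizerIn S Q := le_normalizerIn_self hQS
      have hTS : normalizerIn S Q ≤ S := normalizerIn_le S Q
      haveI : Finite ↥(normalizerIn S Q) := finite_of_le hTS
      have hTp : IsPGroup p ↥(normalizerIn S Q) := hS.to_le hTS
      haveI : Finite L := hmod.1
      have hR := hmod.2.1
      obtain ⟨T, hT⟩ := hmod.2.2.1
      haveI hcn : (pCore p L).Normal := Cfsg.Agent.Lib.Helper1.pCore_normal p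
      have hUT : pCore p L ≤ ι.range := hT ▸ Cfsg.Agent.Lib.Helper1.pCore_le_sylow p T
      have hRnorm : N.IsNormal (preSub ι (pCore p L)) := isNormal_preSub_of_normal N hR _ hUT
      have hQnN : N.IsNormal Q := normalizerSystem_isNormal F hQS N hN
      have hn : (imSub ι Q).Normal :=
        imSub_normal_of_isNormal N hR hmod.2.2.1 hmod.2.2.2 hQnN
      have himp : IsPGroup p ↥(imSub ι Q) := by
        have h1 : IsPGroup p ↥(Q.subgroupOf (normalizerIn S Q)) := hTp.to_subgroup _
        exact h1.map ι
      have hQR : Q ≤ preSub ι (pCore p L) := by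
        intro q hq
        exact mem_preSub_iff.mpr ⟨hQT hq,
          Cfsg.Agent.Lib.Helper1.le_pCore hn himp (apply_mem_imSub ι (hQT hq) hq)⟩
      have hRne : preSub ι (pCore p L) ≠ Q := by
        intro heq
        apply hrad
        exact radical_of_pCore_eq hS F hQc N hN ι hmod
          ((imSub_preSub hUT).symm.trans (congrArg (imSub ι) heq))
      have hRT : preSub ι (pCore p L) ≤ normalizerIn S Q := hRnorm.1
      have hRS : preSub ι (pCore p L) ≤ S := hRT.trans hTS
      haveI : Finite ↥(preSub ι (pCore p L)) := finite_of_le hRS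
      have hlt : Nat.card Q < Nat.card ↥(preSub ι (pCore p L)) :=
        card_lt_card_of_lt (lt_of_le_of_ne hQR (Ne.symm hRne))
      have hRfn : N.IsFullyNormalized (preSub ι (pCore p L)) :=
        Cfsg.Agent.Lib.Helper27.fullyNormalized_of_isNormal N hRnorm
      have hQcN : N.IsCentric Q := normalizerSystem_isCentric F hQc N hN
      have hRc : N.IsCentric (preSub ι (pCore p L)) :=
        Cfsg.Agent.Lib.Helper27.isCentric_of_le N hQcN hQR hRT
      have hN' := normalizerSystem_isNormalizerSystem N (preSub ι (pCore p L)) hRT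
      have hmod' := isModel_normalizer_of_isNormal hRnorm _ hN' ι hmod
      obtain ⟨U, hUn, hUc, hcard, L₁, _, ι₁, hmod₁, f, hf⟩ :=
        model_embed hS F hF hQn N hN hQR hRfn hRc _ hN' L _ hmod'
      have hUS : Nat.card U ≤ Nat.card S := card_le_card_of_le_of_finite hUn.1
      have hQle : Nat.card Q ≤ Nat.card S := card_le_card_of_le_of_finite hQS
      exact IH (Nat.card S - Nat.card U) (by omega) U hUn hUc rfl _
        (normalizerSystem_isNormalizerSystem F U hUn.1) L₁ ι₁ hmod₁
        (involves_of_injective hinv f hf)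

/-- the normalizer system of a fully normalized subgroup inherits `H`-freeness -/
theorem sectionFree_normalizer [Finite S] {p : ℕ} [Fact p.Prime] (hS : IsPGroup p S)
    (F : FusionSystem S) (hF : F.IsSaturated p) (H : Type v) [Group H]
    (hfree : F.IsSectionFree p H) {Q : Subgroup Ω} (hQ : F.IsFullyNormalized Q)
    (N : FusionSystem (normalizerIn S Q)) (hN : F.IsNormalizerSystem Q N) :
    N.IsSectionFree p H := by
  have hTS : normalizerIn S Q ≤ S := normalizerIn_le S Q
  haveI : Finite ↥(normalizerIn S Q) := finite_of_le hTS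
  have hTp : IsPGroup p ↥(normalizerIn S Q) := hS.to_le hTS
  have hNsat := normalizerSystem_saturated hS F hF hQ N hN
  apply sectionFree_of_centric_radical hTp N hNsat H
  intro R hRn hRc hRr N' hN' L' _ ι' hL' hinv
  have hQnN : N.IsNormal Q := normalizerSystem_isNormal F hQ.1 N hN
  have hQR : Q ≤ R := isNormal_le_of_centric_radical hTp hQnN hRc.1
    (hRc.2 R (isConj_refl N hRc.1)) hRr
  obtain ⟨U, hUn, hUc, -, L₁, _, ι₁, hmod₁, f, hf⟩ :=
    model_embed hS F hF hQ N hN hQR hRn hRc N' hN' L' ι' hL'
  exact hfree U hUn hUc _ (normalizerSystem_isNormalizerSystem F U hUn.1) L₁ ι₁ hmod₁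
    (involves_of_injective hinv f hf)

end Cfsg.Agent.Lib.Helper27.HFree
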