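import Mathlib
import Cfsg.Agent.Lib.Helper27.HFreeMain
import Cfsg.Agent.Lib.Helper26.ModelUniq4
import Cfsg.Agent.Lib.Helper27.FusFactorSat

/-!
# Models and factor systems

For `Q ≤ R ≤ S` with `Q` strongly closed, a model of `N_F(R)` maps onto a model of
`N_{F/Q}(R/Q)`.
-/

set_option autoImplicit false

namespace Cfsg.Agent.Lib.Helper27.HFree

open Cfsg Cfsg.FusionSystem Cfsg.Agent.Lib.Helper26 Cfsg.Agent.Lib.Helper27

universe u v

section

variable {Ω : Type u} [Group Ω] {S : Subgroup Ω}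

theorem modelActQ_mem_autGroup (F : FusionSystem S) {R : Subgroup Ω} (hRS : R ≤ S)
    (N : FusionSystem (normalizerIn S R)) (hN : F.IsNormalizerSystem R N) {L : Type v} [Group L]
    {ι : ↥(normalizerIn S R) →* L} (hR : N.IsRealizedBy ι) (hn : (imSub ι R).Normal) (g : L) :
    modelActQ hR.1 (le_normalizerIn_self hRS) hn g ∈ F.autGroup R := by
  have hRT : R ≤ normalizerIn S R := le_normalizerIn_self hRS
  rw [mem_autGroup_iff F hRS]
  have hv : ∀ x : R, (R.subtype.comp (modelActQ hR.1 hRT hn g).toMonoidHom) x ∈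
      normalizerIn S R := fun x => hRT (modelActQ hR.1 hRT hn g x).2
  have h1 : R.subtype.comp (modelActQ hR.1 hRT hn g).toMonoidHom ∈ N.Hom R :=
    (hR.2 R hRT _ hv).mpr ⟨g, fun x => modelActQ_spec hR.1 hRT hn g x⟩
  rw [hN R] at h1
  exact h1.1

theorem modelActQ_surj [Finite S] (F : FusionSystem S) {R : Subgroup Ω} (hRS : R ≤ S)
    (N : FusionSystem (normalizerIn S R)) (hN : F.IsNormalizerSystem R N) {L : Type v} [Group L]
    {ι : ↥(normalizerIn S R) →* L} (hR : N.IsRealizedBy ι) (hn : (imSub ι R).Normal)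
    {a : MulAut R} (ha : a ∈ F.autGroup R) :
    ∃ g : L, modelActQ hR.1 (le_normalizerIn_self hRS) hn g = a := by
  have hRT : R ≤ normalizerIn S R := le_normalizerIn_self hRS
  have h1 := Cfsg.Agent.Lib.Helper27.GT.mem_normalizerHom_of_aut F le_rfl hRT ha
    (fun x _ => (a x).2)
  rw [← hN R] at h1
  obtain ⟨g, hg⟩ := exists_of_mem_hom N hR h1
  refine ⟨g, ?_⟩
  ext x
  have h2 := modelActQ_spec hR.1 hRT hn g x
  rw [← hg x] at h2
  exact congrArg (fun z : ↥(normalizerIn S R) => (z : Ω)) (hR.1 h2)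

end

variable {Ω : Type u} [Group Ω] {S : Subgroup Ω} {Ω' : Type v} [Group Ω'] {S' : Subgroup Ω'}

theorem map_normalizerIn (θ : ↥S →* Ω') (hr : θ.range = S') {R : Subgroup Ω} (hRS : R ≤ S)
    (x : ↥(normalizerIn S R)) :
    θ ⟨x, normalizerIn_le S R x.2⟩ ∈ normalizerIn S' ((R.subgroupOf S).map θ) := by
  have key : ∀ x : Ω, ∀ hx : x ∈ normalizerIn S R, ∀ y ∈ (R.subgroupOf S).map θ,
      θ ⟨x, normalizerIn_le S R hx⟩ * y * (θ ⟨x, normalizerIn_le S R hx⟩)⁻¹ ∈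
        (R.subgroupOf S).map θ := by
    intro x hx y hy
    obtain ⟨r, hr'⟩ := exists_of_mem_img hRS hy
    rw [← hr', ← map_inv, ← map_mul, ← map_mul]
    refine ⟨_, Subgroup.mem_subgroupOf.mpr ?_, rfl⟩
    exact (Subgroup.mem_normalizer_iff.mp hx.2 r).mp r.2
  refine ⟨hr ▸ ⟨_, rfl⟩, mem_normalizer_of_forall (key x x.2) (fun y hy => ?_)⟩
  have := key (x : Ω)⁻¹ (Subgroup.inv_mem _ x.2) y hy
  have e : θ ⟨(x : Ω)⁻¹, normalizerIn_le S R (Subgroup.inv_mem _ x.2)⟩ =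
      (θ ⟨x, normalizerIn_le S R x.2⟩)⁻¹ := by
    rw [← map_inv]
    rfl
  rw [e, inv_inv] at this
  exact this

/-- the map `N_S(R) → N_{S'}(θ R)` -/
def thetaN (θ : ↥S →* Ω') (hr : θ.range = S') {R : Subgroup Ω} (hRS : R ≤ S) :
    ↥(normalizerIn S R) →* ↥(normalizerIn S' ((R.subgroupOf S).map θ)) :=
  (θ.comp (Subgroup.inclusion (normalizerIn_le S R))).codRestrict _ (map_normalizerIn θ hr hRS)

theorem thetaN_coe (θ : ↥S →* Ω') (hr : θ.range = S') {R : Subgroup Ω} (hRS : R ≤ S)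
    (x : ↥(normalizerIn S R)) :
    ((thetaN θ hr hRS x : ↥(normalizerIn S' ((R.subgroupOf S).map θ))) : Ω') =
      θ ⟨x, normalizerIn_le S R x.2⟩ := rfl

end Cfsg.Agent.Lib.Helper27.HFree
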