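import Mathlib
import Cfsg.Agent.Lib.Helper27.HFreeQuot1

/-!
# A model of `N_F(R)` maps onto a model of `N_{F/Q}(R/Q)`
-/

set_option autoImplicit false

namespace Cfsg.Agent.Lib.Helper27.HFree

open Cfsg Cfsg.FusionSystem Cfsg.Agent.Lib.Helper26 Cfsg.Agent.Lib.Helper27

universe u v

variable {Ω : Type u} [Group Ω] {S : Subgroup Ω} {Ω' : Type v} [Group Ω'] {S' : Subgroup Ω'}

set_option maxHeartbeats 800000 in
theorem exists_model_surj [Finite S] {p : ℕ} [Fact p.Prime] (hS : IsPGroup p S)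
    {F : FusionSystem S} {Q : Subgroup Ω} (hQ : F.StronglyClosed Q) {θ : ↥S →* Ω'}
    {E : FusionSystem S'} (hE : F.IsFactorSystem Q θ E) {R : Subgroup Ω} (hQR : Q ≤ R)
    (hRS : R ≤ S) (N : FusionSystem (normalizerIn S R)) (hN : F.IsNormalizerSystem R N)
    {L : Type u} [Group L] (ι : ↥(normalizerIn S R) →* L) (hmod : N.IsModel p L ι)
    (hRbc : E.IsCentric ((R.subgroupOf S).map θ))
    (Nb : FusionSystem (normalizerIn S' ((R.subgroupOf S).map θ)))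
    (hNb : E.IsNormalizerSystem ((R.subgroupOf S).map θ) Nb) {Lb : Type v} [Group Lb]
    (ιb : ↥(normalizerIn S' ((R.subgroupOf S).map θ)) →* Lb) (hmodb : Nb.IsModel p Lb ιb) :
    ∃ ψ : L →* Lb, Function.Surjective ψ := by
  obtain ⟨hfin, hR, hT, hc⟩ := hmod
  obtain ⟨hfinb, hRb, hTb, hcb⟩ := hmodb
  haveI := hfin
  haveI := hfinb
  have hr : θ.range = S' := hE.2.2.1
  have hRT : R ≤ normalizerIn S R := le_normalizerIn_self hRS
  have hRbS : (R.subgroupOf S).map θ ≤ S' := map_le_of_factor hE R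
  have hRbT : (R.subgroupOf S).map θ ≤ normalizerIn S' ((R.subgroupOf S).map θ) :=
    le_normalizerIn_self hRbS
  have hRnN : N.IsNormal R := normalizerSystem_isNormal F hRS N hN
  have hRbnN : Nb.IsNormal ((R.subgroupOf S).map θ) := normalizerSystem_isNormal E hRbS Nb hNb
  have hn := imSub_normal_of_isNormal N hR hT hc hRnN
  have hnb := imSub_normal_of_isNormal Nb hRb hTb hcb hRbnN
  have hRbcN : Nb.IsCentric ((R.subgroupOf S).map θ) := normalizerSystem_isCentric E hRbc Nb hNb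
  have hzb := centralizer_imSub_le Nb hRb hTb hcb hRbnN hRbcN
  have hpre : preimageAlong θ ((R.subgroupOf S).map θ) = R :=
    preimageAlong_map hRS (fun s hs => hQR ((hE.2.1 s).mp hs))
  -- the maps
  obtain ⟨π, hπ, hπsurj⟩ := exists_indHom hQ hE hRS hQR
  have ha_apply : ∀ (g : L) (r : R), ι ⟨(modelActQ hR.1 hRT hn g r : R),
      hRT (modelActQ hR.1 hRT hn g r).2⟩ = g * ι ⟨r, hRT r.2⟩ * g⁻¹ :=
    fun g r => modelActQ_spec hR.1 hRT hn g r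
  have hd_apply : ∀ (h : Lb) (y : ↥((R.subgroupOf S).map θ)),
      ιb ⟨(modelActQ hRb.1 hRbT hnb h y : ↥((R.subgroupOf S).map θ)),
        hRbT (modelActQ hRb.1 hRbT hnb h y).2⟩ = h * ιb ⟨y, hRbT y.2⟩ * h⁻¹ :=
    fun h y => modelActQ_spec hRb.1 hRbT hnb h y
  obtain ⟨c, hc_apply⟩ : ∃ c : L →* MulAut ↥((R.subgroupOf S).map θ), ∀ (g : L) (r : R),
      ((c g ⟨θ ⟨r, hRS r.2⟩, mem_img hRS r⟩ : ↥((R.subgroupOf S).map θ)) : Ω') =
        θ ⟨(modelActQ hR.1 hRT hn g r : R), hRS (modelActQ hR.1 hRT hn g r).2⟩ := by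
    refine ⟨(E.autGroup ((R.subgroupOf S).map θ)).subtype.comp (π.comp
      ((modelActQ hR.1 hRT hn).codRestrict _ (modelActQ_mem_autGroup F hRS N hN hR hn))), ?_⟩
    intro g r
    exact hπ _ r (mem_img hRS r)
  -- criterion for `d h = c g`
  have hkey : ∀ (g : L) (h : Lb), (∀ r : R,
      h * ιb ⟨θ ⟨r, hRS r.2⟩, hRbT (mem_img hRS r)⟩ * h⁻¹ =
        ιb ⟨θ ⟨(modelActQ hR.1 hRT hn g r : R), hRS (modelActQ hR.1 hRT hn g r).2⟩,
          hRbT (mem_img hRS _)⟩) → modelActQ hRb.1 hRbT hnb h = c g := by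
    intro g h hyp
    ext y
    obtain ⟨r, hr'⟩ := exists_of_mem_img hRS y.2
    have ey : y = ⟨θ ⟨r, hRS r.2⟩, mem_img hRS r⟩ := Subtype.ext hr'.symm
    rw [ey, hc_apply g r]
    have h2 := hd_apply h ⟨θ ⟨r, hRS r.2⟩, mem_img hRS r⟩
    rw [hyp r] at h2
    exact congrArg (fun z : ↥(normalizerIn S' ((R.subgroupOf S).map θ)) => (z : Ω')) (hRb.1 h2)
  -- the map `j`
  have hjex : ∃ j : ι.range →* Lb, ∀ s : ↥(normalizerIn S R),
      j ⟨ι s, ⟨s, rfl⟩⟩ = ιb (thetaN θ hr hRS s) := by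
    refine ⟨(ιb.comp (thetaN θ hr hRS)).comp (MonoidHom.ofInjective hR.1).symm.toMonoidHom, ?_⟩
    intro s
    show ιb (thetaN θ hr hRS ((MonoidHom.ofInjective hR.1).symm ⟨ι s, ⟨s, rfl⟩⟩)) = _
    have : (MonoidHom.ofInjective hR.1).symm ⟨ι s, ⟨s, rfl⟩⟩ = s := by
      rw [MulEquiv.symm_apply_eq]
      exact Subtype.ext rfl
    rw [this]
  obtain ⟨j, hjι⟩ := hjex
  have hkerd : ∀ x ∈ (modelActQ hRb.1 hRbT hnb).ker, x ∈ imSub ιb ((R.subgroupOf S).map θ) :=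
    fun x hx => hzb ((mem_ker_modelActQ_iff hRb.1 hRbT hnb x).mp hx)
  have hZc : ∀ x ∈ (modelActQ hRb.1 hRbT hnb).ker, ∀ y ∈ (modelActQ hRb.1 hRbT hnb).ker,
      x * y = y * x := by
    intro x hx y hy
    exact ((Subgroup.mem_centralizer_iff.mp
      ((mem_ker_modelActQ_iff hRb.1 hRbT hnb x).mp hx)) y (hkerd y hy)).symm
  obtain ⟨T₁, hT₁⟩ := hT
  obtain ⟨T₂, hT₂⟩ := hTb
  have hZp : IsPGroup p (modelActQ hRb.1 hRbT hnb).ker := by
    have h1 : (modelActQ hRb.1 hRbT hnb).ker ≤ (T₂ : Subgroup Lb) := by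
      intro x hx
      rw [hT₂]
      exact imSub_le_range ιb _ (hkerd x hx)
    exact T₂.2.to_le h1
  have hU : ¬ p ∣ (ι.range).index := by
    rw [← hT₁]
    exact T₁.not_dvd_index
  -- conjugation by elements of `N_S(R)`
  have hconj : ∀ (s : ↥(normalizerIn S R)) (r : R),
      ((modelActQ hR.1 hRT hn (ι s) r : R) : Ω) = (s : Ω) * r * (s : Ω)⁻¹ := by
    intro s r
    have h1 := ha_apply (ι s) r
    have h2 : ι s * ι ⟨r, hRT r.2⟩ * (ι s)⁻¹ = ι (s * ⟨r, hRT r.2⟩ * s⁻¹) := by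
      rw [map_mul, map_mul, map_inv]
    rw [h2] at h1
    exact congrArg (fun z : ↥(normalizerIn S R) => (z : Ω)) (hR.1 h1)
  have hj : ∀ u : ι.range, modelActQ hRb.1 hRbT hnb (j u) = c u := by
    rintro ⟨_, s, rfl⟩
    rw [hjι]
    refine hkey (ι s) _ (fun r => ?_)
    rw [← map_inv, ← map_mul, ← map_mul]
    congr 1
    apply Subtype.ext
    show θ ⟨s, _⟩ * θ ⟨r, _⟩ * (θ ⟨s, _⟩)⁻¹ = θ ⟨(modelActQ hR.1 hRT hn (ι s) r : R), _⟩
    rw [← map_inv, ← map_mul, ← map_mul]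
    congr 1
    apply Subtype.ext
    exact (hconj s r).symm
  have hstab : ∀ g : L, ∃ h : Lb,
      IsStableLift c (modelActQ hRb.1 hRbT hnb) ι.range j g h := by
    intro g
    obtain ⟨P, hPT, hmemP⟩ : ∃ P : Subgroup Ω, P ≤ normalizerIn S R ∧ ∀ x : Ω, x ∈ P ↔
        ∃ hx : x ∈ normalizerIn S R, g * ι ⟨x, hx⟩ * g⁻¹ ∈ ι.range :=
      ⟨preSub ι ((ι.range).comap (MulAut.conj g).toMonoidHom), preSub_le ι _,
        fun x => mem_preSub_iff⟩
    have hPS : P ≤ S := hPT.trans (normalizerIn_le S R)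
    have h' : ∀ x : P, g * ι ⟨x, hPT x.2⟩ * g⁻¹ ∈ ι.range := by
      intro x
      obtain ⟨hxS, hx'⟩ := (hmemP x).mp x.2
      exact hx'
    have hφN := pullHom_mem_hom N hR P hPT g h'
    have hφe := apply_pullHom hR.1 P hPT g h'
    have hφT := pullHom_mem hR.1 P hPT g h'
    have hRP : R ≤ P := by
      intro x hx
      refine (hmemP x).mpr ⟨hRT hx, ?_⟩
      exact imSub_le_range ι R (hn.conj_mem _ (apply_mem_imSub ι (hRT hx) hx) g)
    have hQP : Q ≤ P := hQR.trans hRP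
    have hφF : pullHom hR.1 P hPT g h' ∈ F.Hom P := by
      have := hφN
      rw [hN P] at this
      exact this.1
    have hφR : ∀ r : R, pullHom hR.1 P hPT g h' ⟨r, hRP r.2⟩ =
        (modelActQ hR.1 hRT hn g r : R) := by
      intro r
      have h1 := hφe ⟨r, hRP r.2⟩
      have h2 := ha_apply g r
      have h3 : (⟨((⟨r, hRP r.2⟩ : P) : Ω), hPT (hRP r.2)⟩ : ↥(normalizerIn S R)) =
          ⟨r, hRT r.2⟩ := rfl
      rw [h3, ← h2] at h1
      exact congrArg (fun z : ↥(normalizerIn S R) => (z : Ω)) (hR.1 h1)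
    obtain ⟨ψ', hψ', hψ'e⟩ := factor_induce_hom hQ hE hPS hQP hφF
    have hPbT : (P.subgroupOf S).map θ ≤ normalizerIn S' ((R.subgroupOf S).map θ) := by
      intro y hy
      obtain ⟨x, hx⟩ := exists_of_mem_img hPS hy
      rw [← hx]
      exact map_normalizerIn θ hr hRS ⟨x, hPT x.2⟩
    have hRbPb : (R.subgroupOf S).map θ ≤ (P.subgroupOf S).map θ := by
      intro y hy
      obtain ⟨x, hx⟩ := exists_of_mem_img hRS hy
      rw [← hx]
      exact mem_img hPS ⟨x, hRP x.2⟩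
    have hψ'N : ψ' ∈ Nb.Hom ((P.subgroupOf S).map θ) := by
      rw [hNb, mem_normalizerHom_iff_of_le E hRbPb]
      refine ⟨hψ', hPbT, fun y => ?_, ?_⟩
      · obtain ⟨x, hx⟩ := exists_of_mem_img hPS y.2
        have ey : y = ⟨θ ⟨x, hPS x.2⟩, mem_img hPS x⟩ := Subtype.ext hx.symm
        rw [ey, hψ'e]
        exact map_normalizerIn θ hr hRS ⟨_, hφT x⟩
      · have : Finite ↥((R.subgroupOf S).map θ) := by
          have h1 : (((R.subgroupOf S).map θ : Subgroup Ω') : Set Ω').Finite := by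
            rw [Subgroup.coe_map]
            exact (Set.toFinite _).image _
          exact h1.to_subtype
        apply Subgroup.eq_of_le_of_card_ge
        · rintro _ ⟨y, hy, rfl⟩
          have hyR : (y : Ω') ∈ (R.subgroupOf S).map θ := Subgroup.mem_subgroupOf.mp hy
          obtain ⟨r, hr'⟩ := exists_of_mem_img hRS hyR
          have ey : y = ⟨θ ⟨((⟨r, hRP r.2⟩ : P) : Ω), hPS (hRP r.2)⟩, mem_img hPS ⟨r, hRP r.2⟩⟩ :=
            Subtype.ext hr'.symm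
          rw [ey, hψ'e]
          have e2 : (⟨pullHom hR.1 P hPT g h' ⟨r, hRP r.2⟩, apply_mem F hφF ⟨r, hRP r.2⟩⟩ : S) =
              ⟨(modelActQ hR.1 hRT hn g r : R), hRS (modelActQ hR.1 hRT hn g r).2⟩ :=
            Subtype.ext (hφR r)
          rw [e2]
          exact mem_img hRS _
        · rw [Subgroup.card_map_of_injective (E.injective_of_mem hψ')]
          exact (Nat.card_congr (Subgroup.subgroupOfEquivOfLe hRbPb).toEquiv).ge
    obtain ⟨h, hh⟩ := exists_of_mem_hom Nb hRb hψ'N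
    refine ⟨h, ⟨?_, ?_⟩⟩
    · refine hkey g h (fun r => ?_)
      have h1 : ιb ⟨ψ' ⟨θ ⟨r, hRS r.2⟩, mem_img hPS ⟨r, hRP r.2⟩⟩, _⟩ =
          h * ιb ⟨θ ⟨r, hRS r.2⟩, hRbT (mem_img hRS r)⟩ * h⁻¹ :=
        hh ⟨θ ⟨r, hRS r.2⟩, mem_img hPS ⟨r, hRP r.2⟩⟩
      rw [← h1]
      congr 1
      apply Subtype.ext
      show ψ' ⟨θ ⟨((⟨r, hRP r.2⟩ : P) : Ω), _⟩, _⟩ = _
      rw [hψ'e]
      congr 1
      exact Subtype.ext (hφR r)
    · rintro ⟨_, s, rfl⟩ hu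
      have hsP : (s : Ω) ∈ P := (hmemP s).mpr ⟨s.2, hu⟩
      have h1 := hφe ⟨s, hsP⟩
      have h2 : ιb ⟨ψ' ⟨θ ⟨s, hPS hsP⟩, mem_img hPS ⟨s, hsP⟩⟩, _⟩ =
          h * ιb (thetaN θ hr hRS s) * h⁻¹ := hh ⟨θ ⟨s, hPS hsP⟩, mem_img hPS ⟨s, hsP⟩⟩
      have e1 : (⟨g * ι s * g⁻¹, hu⟩ : ι.range) =
          ⟨ι ⟨pullHom hR.1 P hPT g h' ⟨s, hsP⟩, hφT ⟨s, hsP⟩⟩, ⟨_, rfl⟩⟩ :=
        Subtype.ext h1.symm
      rw [e1, hjι, hjι, ← h2]
      congr 1
      apply Subtype.ext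
      show θ ⟨pullHom hR.1 P hPT g h' ⟨s, hsP⟩, _⟩ = ψ' ⟨θ ⟨((⟨s, hsP⟩ : P) : Ω), _⟩, _⟩
      rw [hψ'e]
  obtain ⟨ψ, hψd, hψj⟩ := exists_lift_hom c (modelActQ hRb.1 hRbT hnb) ι.range j hZc hZp hU hj hstab
  refine ⟨ψ, fun y => ?_⟩
  -- surjectivity
  have hdy := modelActQ_mem_autGroup E hRbS Nb hNb hRb hnb y
  obtain ⟨γ, hγ⟩ := hπsurj ⟨_, hdy⟩
  obtain ⟨g, hg⟩ := modelActQ_surj F hRS N hN hR hn γ.2
  have hcg : c g = modelActQ hRb.1 hRbT hnb y := by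
    ext z
    obtain ⟨r, hr'⟩ := exists_of_mem_img hRS z.2
    have ez : z = ⟨θ ⟨r, hRS r.2⟩, mem_img hRS r⟩ := Subtype.ext hr'.symm
    rw [ez, hc_apply g r]
    have h1 := hπ γ r (mem_img hRS r)
    rw [hγ] at h1
    rw [h1, hg]
  have hker : (ψ g)⁻¹ * y ∈ (modelActQ hRb.1 hRbT hnb).ker := by
    rw [MonoidHom.mem_ker, map_mul, map_inv, hψd, hcg, inv_mul_cancel]
  obtain ⟨t, htT, ht, hty⟩ := mem_imSub_iff.mp (hkerd _ hker)
  obtain ⟨r, hr'⟩ := exists_of_mem_img hRS ht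
  refine ⟨g * ι ⟨r, hRT r.2⟩, ?_⟩
  rw [map_mul]
  have h1 := hψj ⟨ι ⟨r, hRT r.2⟩, ⟨_, rfl⟩⟩
  rw [hjι] at h1
  have h2 : ψ (ι ⟨r, hRT r.2⟩) = (ψ g)⁻¹ * y := by
    rw [← hty]
    have : ψ (ι ⟨r, hRT r.2⟩) = ιb (thetaN θ hr hRS ⟨r, hRT r.2⟩) := h1
    rw [this]
    congr 1
    exact Subtype.ext hr'
  rw [h2, mul_inv_cancel_left]

end Cfsg.Agent.Lib.Helper27.HFree
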