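import Mathlib
import Cfsg.Agent.Lib.Helper27.HFreeQuot2

/-!
# Factor systems inherit `H`-freeness
-/

set_option autoImplicit false

namespace Cfsg.Agent.Lib.Helper27.HFree

open Cfsg Cfsg.FusionSystem Cfsg.Agent.Lib.Helper26 Cfsg.Agent.Lib.Helper27

universe u v w

theorem involves_of_surjective {H : Type w} [Group H] {L : Type u} {Lb : Type v} [Group L]
    [Group Lb] (h : Cfsg.Involves H Lb) (ψ : L →* Lb) (hψ : Function.Surjective ψ) :
    Cfsg.Involves H L := by
  obtain ⟨K, R, hn, ⟨e⟩⟩ := h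
  let f : ↥(K.comap ψ) →* ↥K ⧸ R.subgroupOf K :=
    (QuotientGroup.mk' (R.subgroupOf K)).comp (ψ.subgroupComap K)
  have hf : Function.Surjective f :=
    (QuotientGroup.mk'_surjective _).comp (ψ.subgroupComap_surjective_of_surjective K hψ)
  have hker : f.ker = (R.comap ψ).subgroupOf (K.comap ψ) := by
    ext x
    rw [MonoidHom.mem_ker, Subgroup.mem_subgroupOf, Subgroup.mem_comap]
    show (QuotientGroup.mk' (R.subgroupOf K)) (ψ.subgroupComap K x) = 1 ↔ _
    rw [QuotientGroup.mk'_apply, QuotientGroup.eq_one_iff, Subgroup.mem_subgroupOf]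
    rfl
  haveI hn' : ((R.comap ψ).subgroupOf (K.comap ψ)).Normal := by
    rw [← hker]
    infer_instance
  exact ⟨K.comap ψ, R.comap ψ, hn',
    ⟨((QuotientGroup.quotientMulEquivOfEq hker).symm.trans
      (QuotientGroup.quotientKerEquivOfSurjective f hf)).trans e⟩⟩

variable {Ω : Type u} [Group Ω] {S : Subgroup Ω} {Ω' : Type v} [Group Ω'] {S' : Subgroup Ω'}

theorem card_preimageAlong [Finite S] (θ : ↥S →* Ω') (Y : Subgroup Ω') (hY : Y ≤ θ.range) :
    Nat.card (preimageAlong θ Y) = Nat.card θ.ker * Nat.card Y := by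
  have h1 : Nat.card (preimageAlong θ Y) = Nat.card (Y.comap θ) :=
    Subgroup.card_map_of_injective S.subtype_injective
  have hsurj : Function.Surjective (θ.subgroupComap Y) := by
    intro y
    obtain ⟨s, hs⟩ := hY y.2
    exact ⟨⟨s, by rw [Subgroup.mem_comap, hs]; exact y.2⟩, Subtype.ext hs⟩
  have h2 : Nat.card (θ.subgroupComap Y).ker * Nat.card (θ.subgroupComap Y).range =
      Nat.card (Y.comap θ) := by
    rw [← Subgroup.index_ker]
    exact Subgroup.card_mul_index _
  have h3 : (θ.subgroupComap Y).range = ⊤ := MonoidHom.range_eq_top.mpr hsurj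
  have hle : θ.ker ≤ Y.comap θ := by
    intro x hx
    rw [Subgroup.mem_comap, MonoidHom.mem_ker.mp hx]
    exact Y.one_mem
  have h4 : (θ.subgroupComap Y).ker = θ.ker.subgroupOf (Y.comap θ) := by
    ext x
    rw [MonoidHom.mem_ker, Subgroup.mem_subgroupOf, MonoidHom.mem_ker]
    constructor
    · intro h
      exact congrArg Subtype.val h
    · intro h
      exact Subtype.ext h
  rw [h1, ← h2, h3, Subgroup.card_top, h4]
  congr 1
  exact Nat.card_congr (Subgroup.subgroupOfEquivOfLe hle).toEquiv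

theorem normalizerIn_eq_preimageAlong {θ : ↥S →* Ω'} (hr : θ.range = S') {X : Subgroup Ω}
    (hXS : X ≤ S) (hpre : preimageAlong θ ((X.subgroupOf S).map θ) = X) :
    normalizerIn S X = preimageAlong θ (normalizerIn S' ((X.subgroupOf S).map θ)) := by
  ext x
  constructor
  · intro hx
    exact mem_preimageAlong.mpr ⟨hx.1, map_normalizerIn θ hr hXS ⟨x, hx⟩⟩
  · intro hx
    obtain ⟨hxS, hx'⟩ := mem_preimageAlong.mp hx
    refine ⟨hxS, mem_normalizer_of_map_conj_mem hXS hpre ⟨x, hxS⟩ (fun q => ?_) (fun q => ?_)⟩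
    · exact (Subgroup.mem_normalizer_iff.mp hx'.2 _).mp (mem_img hXS q)
    · exact (Subgroup.mem_normalizer_iff''.mp hx'.2 _).mp (mem_img hXS q)

/-- the preimage of a fully normalized centric subgroup of the factor system is fully normalized
and centric -/
theorem preimage_fullyNormalized_centric [Finite S] {F : FusionSystem S} {Q : Subgroup Ω}
    (hQ : F.StronglyClosed Q) {θ : ↥S →* Ω'} {E : FusionSystem S'} (hE : F.IsFactorSystem Q θ E)
    {R : Subgroup Ω} (hQR : Q ≤ R) (hRS : R ≤ S)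
    (hn : E.IsFullyNormalized ((R.subgroupOf S).map θ))
    (hc : E.IsCentric ((R.subgroupOf S).map θ)) : F.IsFullyNormalized R ∧ F.IsCentric R := by
  have hr : θ.range = S' := hE.2.2.1
  have hpreX : ∀ X : Subgroup Ω, Q ≤ X → X ≤ S →
      preimageAlong θ ((X.subgroupOf S).map θ) = X := fun X hQX hXS =>
    preimageAlong_map hXS (fun s hs => hQX ((hE.2.1 s).mp hs))
  constructor
  · refine ⟨hRS, fun R' hconj => ?_⟩
    have hQR' : Q ≤ R' := le_of_isConj_of_stronglyClosed F hQ hQR hconj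
    have hR'S : R' ≤ S := isConj_le_right F hconj
    have hconj' := factor_isConj hQ hE hQR hconj
    have h1 := hn.2 _ hconj'
    rw [normalizerIn_eq_preimageAlong hr hR'S (hpreX R' hQR' hR'S),
      normalizerIn_eq_preimageAlong hr hRS (hpreX R hQR hRS),
      card_preimageAlong θ _ (hr ▸ normalizerIn_le S' _),
      card_preimageAlong θ _ (hr ▸ normalizerIn_le S' _)]
    exact Nat.mul_le_mul_left _ h1
  · refine ⟨hRS, fun R' hconj => ?_⟩
    have hQR' : Q ≤ R' := le_of_isConj_of_stronglyClosed F hQ hQR hconj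
    have hR'S : R' ≤ S := isConj_le_right F hconj
    have hconj' := factor_isConj hQ hE hQR hconj
    have h1 := hc.2 _ hconj'
    intro x hx
    rw [← hpreX R' hQR' hR'S]
    refine mem_preimageAlong.mpr ⟨hx.1, h1 ⟨hr ▸ ⟨_, rfl⟩, Subgroup.mem_centralizer_iff.mpr ?_⟩⟩
    intro y hy
    obtain ⟨r, hr'⟩ := exists_of_mem_img hR'S hy
    rw [← hr', ← map_mul, ← map_mul]
    congr 1
    apply Subtype.ext
    exact Subgroup.mem_centralizer_iff.mp hx.2 r r.2

end Cfsg.Agent.Lib.Helper27.HFree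

namespace Cfsg.Agent.Lib.Helper27.HFree

open Cfsg Cfsg.FusionSystem Cfsg.Agent.Lib.Helper26 Cfsg.Agent.Lib.Helper27

universe u v w

variable {Ω : Type u} [Group Ω] {S : Subgroup Ω} {Ω' : Type v} [Group Ω'] {S' : Subgroup Ω'}

/-- the factor system modulo a strongly closed subgroup inherits `H`-freeness -/
theorem sectionFree_factor [Finite S] {p : ℕ} [Fact p.Prime] (hS : IsPGroup p S)
    (F : FusionSystem S) (hF : F.IsSaturated p) {Q : Subgroup Ω} (hQ : F.StronglyClosed Q)
    (H : Type w) [Group H] (hfree : F.IsSectionFree p H) {θ : ↥S →* Ω'} {E : FusionSystem S'}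
    (hE : F.IsFactorSystem Q θ E) : E.IsSectionFree p H := by
  intro P' hP'n hP'c Nb hNb Lb _ ιb hmodb hinv
  have hr : θ.range = S' := hE.2.2.1
  have hP'S : P' ≤ S' := hP'n.1
  obtain ⟨R, hQR, hRS, hmap⟩ : ∃ R : Subgroup Ω, Q ≤ R ∧ R ≤ S ∧ (R.subgroupOf S).map θ = P' :=
    ⟨preimageAlong θ P', ker_le_preimageAlong hE P', preimageAlong_le θ P',
      map_preimageAlong hr hP'S⟩
  subst hmap
  obtain ⟨hRn, hRc⟩ := preimage_fullyNormalized_centric hQ hE hQR hRS hP'n hP'c
  have hN := normalizerSystem_isNormalizerSystem F R hRS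
  have hcons := normalizerSystem_constrained hS F hF hRn hRc _ hN
  haveI : Finite ↥(normalizerIn S R) := finite_of_le (normalizerIn_le S R)
  obtain ⟨L, _, ι, hmod⟩ := Cfsg.Agent.Lib.Helper27.Model.exists_model p
    (hS.to_le (normalizerIn_le S R)) _ hcons
  obtain ⟨ψ, hψ⟩ := exists_model_surj hS hQ hE hQR hRS _ hN ι hmod hP'c Nb hNb ιb hmodb
  exact hfree R hRn hRc _ hN L ι hmod (involves_of_surjective hinv ψ hψ)

end Cfsg.Agent.Lib.Helper27.HFree
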