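import Mathlib
import Cfsg.Agent.Lib.Helper27.GTFun
import Cfsg.Agent.Lib.Helper27.ZJFunctor

/-!
# Characteristic functors on finite `p`-groups: the centre and the Thompson subgroup
-/

set_option autoImplicit false

namespace Cfsg.Agent.Lib.Helper27.Th

open Cfsg Cfsg.FusionSystem Cfsg.Agent.Lib.Helper26 Cfsg.Agent.Lib.Helper27

universe u

/-- a positive characteristic functor on finite `p`-groups -/
structure CharFunctor (p : ℕ) where
  W : ∀ {Ω : Type u} [Group Ω], Subgroup Ω → Subgroup Ω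
  le : ∀ {Ω : Type u} [Group Ω] (S : Subgroup Ω), W S ≤ S
  ne_bot : ∀ {Ω : Type u} [Group Ω] (S : Subgroup Ω) [Finite S], IsPGroup p S → S ≠ ⊥ → W S ≠ ⊥
  map : ∀ {Ω Ω' : Type u} [Group Ω] [Group Ω'] (f : Ω →* Ω'), Function.Injective f →
    ∀ S : Subgroup Ω, W (S.map f) = (W S).map f

namespace CharFunctor

variable {p : ℕ} (𝒲 : CharFunctor.{u} p) {Ω : Type u} [Group Ω]

theorem conj_mem (S : Subgroup Ω) {g : Ω} (hg : g ∈ Subgroup.normalizer (S : Set Ω)) {y : Ω}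
    (hy : y ∈ 𝒲.W S) : g * y * g⁻¹ ∈ 𝒲.W S := by
  have h1 := 𝒲.map (MulAut.conj g).toMonoidHom (MulAut.conj g).injective S
  rw [GT.GTFunctor.map_conj_eq hg] at h1
  rw [h1]
  exact ⟨y, hy, rfl⟩

theorem normalizer_le (S : Subgroup Ω) :
    Subgroup.normalizer (S : Set Ω) ≤ Subgroup.normalizer (𝒲.W S : Set Ω) := by
  intro g hg
  refine mem_normalizer_of_forall (fun y hy => 𝒲.conj_mem S hg hy) (fun y hy => ?_)
  have := 𝒲.conj_mem S (Subgroup.inv_mem _ hg) hy
  rwa [inv_inv] at this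

theorem W_eq_map_top (S : Subgroup Ω) :
    𝒲.W S = (𝒲.W (⊤ : Subgroup ↥S)).map S.subtype := by
  have h1 : (⊤ : Subgroup ↥S).map S.subtype = S := by
    rw [← MonoidHom.range_eq_map, Subgroup.range_subtype]
  have h2 := 𝒲.map S.subtype S.subtype_injective (⊤ : Subgroup ↥S)
  rwa [h1] at h2

theorem mem_W_top_iff (S : Subgroup Ω) (x : S) :
    x ∈ 𝒲.W (⊤ : Subgroup ↥S) ↔ (x : Ω) ∈ 𝒲.W S := by
  rw [𝒲.W_eq_map_top S]
  constructor
  · intro hx
    exact ⟨x, hx, rfl⟩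
  · rintro ⟨y, hy, hyx⟩
    have : y = x := Subtype.ext hyx
    rwa [← this]

theorem imSub_eq {S : Subgroup Ω} {L : Type u} [Group L] {ι : S →* L}
    (hι : Function.Injective ι) : imSub ι (𝒲.W S) = 𝒲.W ι.range := by
  have h1 : (⊤ : Subgroup ↥S).map ι = ι.range := (MonoidHom.range_eq_map ι).symm
  have h2 := 𝒲.map ι hι (⊤ : Subgroup ↥S)
  rw [h1] at h2
  rw [h2]
  ext y
  rw [mem_imSub_iff]
  constructor
  · rintro ⟨x, hxS, hx, rfl⟩
    exact ⟨⟨x, hxS⟩, (𝒲.mem_W_top_iff S _).mpr hx, rfl⟩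
  · rintro ⟨x, hx, rfl⟩
    exact ⟨x, x.2, (𝒲.mem_W_top_iff S x).mp hx, rfl⟩

end CharFunctor

/-- the centre -/
def centerFun (p : ℕ) [Fact p.Prime] : CharFunctor.{u} p where
  W S := S ⊓ Subgroup.centralizer (S : Set _)
  le S := inf_le_left
  ne_bot := by
    intro Ω _ S _ hS hne
    haveI : Nontrivial ↥S := by
      rw [Subgroup.nontrivial_iff_ne_bot]
      exact hne
    haveI := hS.center_nontrivial
    obtain ⟨z, hz⟩ := exists_ne (1 : Subgroup.center ↥S)
    intro h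
    apply hz
    have hmem : ((z : ↥S) : Ω) ∈ S ⊓ Subgroup.centralizer (S : Set Ω) := by
      refine Subgroup.mem_inf.mpr ⟨(z : ↥S).2, ?_⟩
      rw [Subgroup.mem_centralizer_iff]
      intro s hs
      have := Subgroup.mem_center_iff.mp z.2 ⟨s, hs⟩
      exact congrArg Subtype.val this
    rw [h, Subgroup.mem_bot] at hmem
    apply Subtype.ext
    apply Subtype.ext
    exact hmem
  map := by
    intro Ω Ω' _ _ f hf S
    ext y
    constructor
    · intro hy
      obtain ⟨⟨x, hx, rfl⟩, h2⟩ := Subgroup.mem_inf.mp hy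
      refine ⟨x, Subgroup.mem_inf.mpr ⟨hx, ?_⟩, rfl⟩
      rw [Subgroup.mem_centralizer_iff] at h2 ⊢
      intro s hs
      apply hf
      rw [map_mul, map_mul]
      exact h2 (f s) ⟨s, hs, rfl⟩
    · rintro ⟨x, hx, rfl⟩
      obtain ⟨hx1, hx2⟩ := Subgroup.mem_inf.mp hx
      refine Subgroup.mem_inf.mpr ⟨⟨x, hx1, rfl⟩, ?_⟩
      rw [Subgroup.mem_centralizer_iff] at hx2 ⊢
      rintro _ ⟨s, hs, rfl⟩
      rw [← map_mul, ← map_mul, hx2 s hs]

/-- the Thompson subgroup -/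
def thompsonFun (p : ℕ) [Fact p.Prime] : CharFunctor.{u} p where
  W S := thompsonSubgroupAOf S
  le := by
    intro Ω _ S
    rintro _ ⟨x, -, rfl⟩
    exact x.2
  ne_bot := by
    intro Ω _ S _ hS hne h
    apply ZJ.centerThompsonAOf_ne_bot S hS hne
    rw [eq_bot_iff, ← h]
    exact inf_le_left
  map := by
    intro Ω Ω' _ _ f hf S
    unfold thompsonSubgroupAOf
    rw [← ZJ.thompsonSubgroupA_map (S.equivMapOfInjective f hf), Subgroup.map_map,
      Subgroup.map_map]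
    congr 1

theorem centerFun_W (p : ℕ) [Fact p.Prime] {Ω : Type u} [Group Ω] (S : Subgroup Ω) :
    (centerFun.{u} p).W S = S ⊓ Subgroup.centralizer (S : Set Ω) := rfl

theorem thompsonFun_W (p : ℕ) [Fact p.Prime] {Ω : Type u} [Group Ω] (S : Subgroup Ω) :
    (thompsonFun.{u} p).W S = thompsonSubgroupAOf S := rfl

end Cfsg.Agent.Lib.Helper27.Th
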