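import Mathlib
import Cfsg.Agent.Lib.Helper27.GTCore
import Cfsg.Agent.Lib.Helper27.ThFun

/-!
# Witnesses for a non-inner centralizer system
-/

set_option autoImplicit false

namespace Cfsg.Agent.Lib.Helper27.Th

open Cfsg Cfsg.FusionSystem Cfsg.Agent.Lib.Helper26 Cfsg.Agent.Lib.Helper27
  Cfsg.Agent.Lib.Helper27.GT

universe u

variable {Ω : Type u} [Group Ω] {S : Subgroup Ω}

/-- a witness that the centralizer system of `X` is not inner -/
def CentWit (p : ℕ) (F : FusionSystem S) (X : Subgroup Ω) : Prop :=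
  ∃ (U : Subgroup Ω) (β : MulAut U), X ≤ U ∧ U ≤ centralizerIn S X ∧ PAut p F U β ∧
    ∀ x : U, (x : Ω) ∈ X → β x = x

theorem centralizerIn_le_normalizerIn (S X : Subgroup Ω) :
    centralizerIn S X ≤ normalizerIn S X := by
  intro s hs
  obtain ⟨h1, h2⟩ := Subgroup.mem_inf.mp hs
  exact Subgroup.mem_inf.mpr ⟨h1, Subgroup.centralizer_le_normalizer _ h2⟩

theorem normWit_of_centWit {p : ℕ} {F : FusionSystem S} {X : Subgroup Ω}
    (h : CentWit p F X) : NormWit p F X := by
  obtain ⟨U, β, h1, h2, h3, h4⟩ := h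
  refine ⟨U, β, h1, h2.trans (centralizerIn_le_normalizerIn S X), h3, fun x hx => ?_⟩
  rw [h4 x hx]
  exact hx

theorem centWit_mono {p : ℕ} {E F : FusionSystem S} (h : E ≤ F) {X : Subgroup Ω}
    (hw : CentWit p E X) : CentWit p F X := by
  obtain ⟨U, β, h1, h2, ⟨h3, h4, h5⟩, h6⟩ := hw
  exact ⟨U, β, h1, h2, ⟨autGroup_mono h (h2.trans (centralizerIn_le S X)) h3, h4, h5⟩, h6⟩

theorem centWit_of_normalizerSystem {p : ℕ} {F : FusionSystem S} {V : Subgroup Ω}
    {N : FusionSystem (normalizerIn S V)} (hN : F.IsNormalizerSystem V N) {X : Subgroup Ω}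
    (h : CentWit p N X) : CentWit p F X := by
  obtain ⟨U₁, β₁, hWU₁, hU₁N, ⟨hβ₁N, hβ₁1, hβ₁o⟩, hinv₁⟩ := h
  have hRS : normalizerIn S V ≤ S := normalizerIn_le S V
  have hU₁R : U₁ ≤ normalizerIn S V := hU₁N.trans (centralizerIn_le _ _)
  have hU₁S : U₁ ≤ S := hU₁R.trans hRS
  have hβ₁F : β₁ ∈ F.autGroup U₁ := by
    rw [mem_autGroup_iff F hU₁S]
    have := (mem_autGroup_iff _ hU₁R).mp hβ₁N
    rw [hN U₁] at this
    exact this.1
  exact ⟨U₁, β₁, hWU₁, le_inf hU₁S (hU₁N.trans inf_le_right), ⟨hβ₁F, hβ₁1, hβ₁o⟩, hinv₁⟩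

theorem not_inner_of_centWit [Finite S] {p : ℕ} [Fact p.Prime] (hS : IsPGroup p S)
    {F : FusionSystem S} {X : Subgroup Ω} (h : CentWit p F X)
    {C : FusionSystem (centralizerIn S X)} (hC : F.IsCentralizerSystem X C) : ¬ Inner C := by
  intro hin
  obtain ⟨U, β, hXU, hUC, hβ, hfix⟩ := h
  have hUS : U ≤ S := hUC.trans (centralizerIn_le S X)
  have hφ : U.subtype.comp β.toMonoidHom ∈ F.Hom U := (mem_autGroup_iff F hUS).mp hβ.1
  have hβC : β ∈ C.autGroup U := by
    rw [mem_autGroup_iff C hUC, hC U]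
    refine ⟨hφ, hUC, fun x => hUC (β x).2, ?_⟩
    obtain ⟨ψ, hψ, h1, -⟩ := hom_cast' F (sup_eq_left.mpr hXU).symm _ hφ
    refine ⟨ψ, hψ, fun x => h1 x x.2 _, fun x => ?_⟩
    have h2 := h1 x (hXU x.2) ((le_sup_right : X ≤ U ⊔ X) x.2)
    have h3 : (Subgroup.inclusion (le_sup_right : X ≤ U ⊔ X) x) =
        ⟨(x : Ω), (le_sup_right : X ≤ U ⊔ X) x.2⟩ := rfl
    rw [h3, h2]
    show ((β ⟨x, hXU x.2⟩ : U) : Ω) = x
    rw [hfix ⟨x, hXU x.2⟩ x.2]
  exact not_paut_of_inner (hS.to_le (centralizerIn_le S X)) hin hUC ⟨hβC, hβ.2.1, hβ.2.2⟩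

variable {L : Type u} [Group L]

/-- if `X ≤ Z(S)` has no witness, then the centralizer of its image has a normal `p`-complement -/
theorem npc_centralizer_of_not_centWit [Finite S] [Finite L] {p : ℕ} [Fact p.Prime]
    {F : FusionSystem S} {ι : S →* L} (hR : F.IsRealizedBy ι) (T : Sylow p L)
    (hT : (T : Subgroup L) = ι.range) {X : Subgroup Ω} (hXS : X ≤ S)
    (hSX : S ≤ Subgroup.centralizer (X : Set Ω)) (hX : ¬ CentWit p F X) :
    HasNormalPComplement p ↥(Subgroup.centralizer (imSub ι X : Set L)) := by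
  have hTH : (T : Subgroup L) ≤ Subgroup.centralizer (imSub ι X : Set L) := by
    rw [hT]
    rintro _ ⟨s, rfl⟩
    rw [Subgroup.mem_centralizer_iff]
    intro y hy
    obtain ⟨x, hxS, hx, rfl⟩ := mem_imSub_iff.mp hy
    rw [← map_mul, ← map_mul]
    congr 1
    apply Subtype.ext
    exact Subgroup.mem_centralizer_iff.mp (hSX s.2) x hx
  rw [Cfsg.Agent.Lib.Helper1.hasNormalPComplement_iff (T.subtype hTH)]
  rw [Cfsg.Agent.S0071.result (T.subtype hTH)]
  intro Q hQ g hgQ hgord
  rw [Subgroup.mem_centralizer_iff]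
  intro q hq
  have hQ₀ : Q.map (Subgroup.centralizer (imSub ι X : Set L)).subtype ≤ ι.range := by
    rintro _ ⟨y, hy, rfl⟩
    have := hQ hy
    rw [Sylow.coe_subtype, Subgroup.mem_subgroupOf, hT] at this
    exact this
  have hU₁ : Q.map (Subgroup.centralizer (imSub ι X : Set L)).subtype ⊔ imSub ι X ≤ ι.range :=
    sup_le hQ₀ (imSub_le_range ι X)
  have hgn : (g : L) ∈ Subgroup.normalizer
      ((Q.map (Subgroup.centralizer (imSub ι X : Set L)).subtype ⊔ imSub ι X : Subgroup L) :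
        Set L) := by
    have h1 : (g : L) ∈ Subgroup.normalizer
        ((Q.map (Subgroup.centralizer (imSub ι X : Set L)).subtype : Subgroup L) : Set L) := by
      refine mem_normalizer_of_forall ?_ ?_
      · rintro _ ⟨y, hy, rfl⟩
        exact ⟨g * y * g⁻¹, (Subgroup.mem_normalizer_iff.mp hgQ y).mp hy, rfl⟩
      · rintro _ ⟨y, hy, rfl⟩
        exact ⟨g⁻¹ * y * g, (Subgroup.mem_normalizer_iff''.mp hgQ y).mp hy, rfl⟩
    have h2 : (g : L) ∈ Subgroup.normalizer ((imSub ι X : Subgroup L) : Set L) :=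
      Subgroup.centralizer_le_normalizer _ g.2
    refine mem_normalizer_of_forall (fun y hy => ?_) (fun y hy => ?_)
    · have hy' : y ∈ (Q.map (Subgroup.centralizer (imSub ι X : Set L)).subtype ⊔
          imSub ι X).comap (MulAut.conj (g : L)).toMonoidHom := by
        revert y
        rw [← SetLike.le_def]
        refine sup_le (fun y hy => ?_) (fun y hy => ?_)
        · exact Subgroup.mem_sup_left ((Subgroup.mem_normalizer_iff.mp h1 y).mp hy)
        · exact Subgroup.mem_sup_right ((Subgroup.mem_normalizer_iff.mp h2 y).mp hy)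
      exact hy'
    · have hy' : y ∈ (Q.map (Subgroup.centralizer (imSub ι X : Set L)).subtype ⊔
          imSub ι X).comap (MulAut.conj (g : L)⁻¹).toMonoidHom := by
        revert y
        rw [← SetLike.le_def]
        refine sup_le (fun y hy => ?_) (fun y hy => ?_)
        · refine Subgroup.mem_sup_left ?_
          have := (Subgroup.mem_normalizer_iff''.mp h1 y).mp hy
          simpa using this
        · refine Subgroup.mem_sup_right ?_
          have := (Subgroup.mem_normalizer_iff''.mp h2 y).mp hy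
          simpa using this
      simpa using hy'
  obtain ⟨β, hβ, hβg⟩ := exists_aut_of_normalizes hR hU₁ hgn
  have hUS := preSub_le ι
    (Q.map (Subgroup.centralizer (imSub ι X : Set L)).subtype ⊔ imSub ι X)
  haveI := GT.finite_mulAut_of_le hUS
  have hpow := pow_conj_apply hUS β (g : L) hβg (orderOf g)
  have hβord : (orderOf β).Coprime p := by
    have h1 : β ^ orderOf g = 1 := by
      ext x
      have := hpow x
      rw [← Subgroup.coe_pow, pow_orderOf_eq_one, Subgroup.coe_one, one_mul, inv_one,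
        mul_one] at this
      have := hR.1 this
      exact congrArg (fun r : S => (r : Ω)) this
    exact Nat.Coprime.coprime_dvd_left (orderOf_dvd_of_pow_eq_one h1) hgord
  have hβ1 : β = 1 := by
    by_contra hne
    apply hX
    refine ⟨_, β, ?_, hUS.trans (le_inf le_rfl hSX), ⟨hβ, hne, hβord⟩, ?_⟩
    · intro x hx
      exact mem_preSub_iff.mpr ⟨hXS hx, Subgroup.mem_sup_right (apply_mem_imSub ι (hXS hx) hx)⟩
    · intro x hx
      have h1 : ι ⟨β x, hUS (β x).2⟩ = ι ⟨x, hUS x.2⟩ := by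
        rw [hβg]
        have h2 := Subgroup.mem_centralizer_iff.mp g.2 _ (apply_mem_imSub ι (hUS x.2) hx)
        rw [← h2]
        group
      have h3 := hR.1 h1
      apply Subtype.ext
      exact congrArg (fun r : S => (r : Ω)) h3
  have hq₀ : (q : L) ∈ Q.map (Subgroup.centralizer (imSub ι X : Set L)).subtype := ⟨q, hq, rfl⟩
  obtain ⟨s, hs⟩ := hQ₀ hq₀
  have hsU : (s : Ω) ∈ preSub ι
      (Q.map (Subgroup.centralizer (imSub ι X : Set L)).subtype ⊔ imSub ι X) :=
    mem_preSub_iff.mpr ⟨s.2, by rw [hs]; exact Subgroup.mem_sup_left hq₀⟩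
  have h3 := hβg ⟨s, hsU⟩
  rw [hβ1, MulAut.one_apply] at h3
  apply Subtype.ext
  rw [Subgroup.coe_mul, Subgroup.coe_mul, ← hs]
  have h4 : ι s = (g : L) * ι s * (g : L)⁻¹ := h3
  calc ι s * (g : L) = ((g : L) * ι s * (g : L)⁻¹) * (g : L) := by rw [← h4]
    _ = (g : L) * ι s := by group

end Cfsg.Agent.Lib.Helper27.Th
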