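import Mathlib
import Cfsg.Agent.Lib.Helper27.ThWit
import Cfsg.Agent.Lib.Helper27.HFreeQuot3
import Cfsg.Agent.S2800

/-!
# Thompson's normal `p`-complement theorem for fusion systems: main induction
-/

set_option autoImplicit false

namespace Cfsg.Agent.Lib.Helper27.Th

open Cfsg Cfsg.FusionSystem Cfsg.Agent.Lib.Helper26 Cfsg.Agent.Lib.Helper27
  Cfsg.Agent.Lib.Helper27.GT

universe u

variable {Ω : Type u} [Group Ω] {S : Subgroup Ω}

/-- `p` is odd or the system is `S₄`-free -/
def PClass (p : ℕ) (F : FusionSystem S) : Prop :=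
  p ≠ 2 ∨ F.IsSectionFree p (Equiv.Perm (Fin 4))

theorem pClass_cast {T S : Subgroup Ω} (h : T = S) (E : FusionSystem T) {p : ℕ}
    (hE : PClass p E) : PClass p (castSystem h E) := by
  subst h
  exact hE

theorem pClass_normalizer [Finite S] {p : ℕ} [Fact p.Prime] (hS : IsPGroup p S)
    (F : FusionSystem S) (hF : F.IsSaturated p) (hP : PClass p F) {V : Subgroup Ω}
    (hVn : F.IsFullyNormalized V) (N : FusionSystem (normalizerIn S V))
    (hN : F.IsNormalizerSystem V N) : PClass p N := by
  rcases hP with hp | hfree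
  · exact Or.inl hp
  · exact Or.inr (HFree.sectionFree_normalizer hS F hF _ hfree hVn N hN)

theorem pClass_normSys [Finite S] {p : ℕ} [Fact p.Prime] (hS : IsPGroup p S)
    (F : FusionSystem S) (hF : F.IsSaturated p) (hP : PClass p F) (V : Subgroup Ω) (hVS : V ≤ S)
    (hSV : S ≤ Subgroup.normalizer (V : Set Ω)) : PClass p (normSys F V hVS hSV) := by
  apply pClass_cast
  exact pClass_normalizer hS F hF hP (fullyNormalized_of_normal F hVS hSV) _
    (normalizerSystem_isNormalizerSystem F V hVS)

theorem pClass_factor [Finite S] {p : ℕ} [Fact p.Prime] (hS : IsPGroup p S)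
    (F : FusionSystem S) (hF : F.IsSaturated p) (hP : PClass p F) {Q : Subgroup Ω}
    (hQ : F.StronglyClosed Q) {Ω' : Type u} [Group Ω'] {S' : Subgroup Ω'} {θ : ↥S →* Ω'}
    {E : FusionSystem S'} (hE : F.IsFactorSystem Q θ E) : PClass p E := by
  rcases hP with hp | hfree
  · exact Or.inl hp
  · exact Or.inr (HFree.sectionFree_factor hS F hF hQ _ hfree hE)

theorem le_centralizer_center (S : Subgroup Ω) :
    S ≤ Subgroup.centralizer ((S ⊓ Subgroup.centralizer (S : Set Ω) : Subgroup Ω) : Set Ω) := by
  intro s hs
  rw [Subgroup.mem_centralizer_iff]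
  intro z hz
  exact (Subgroup.mem_centralizer_iff.mp (Subgroup.mem_inf.mp hz).2 s hs).symm

/-- Thompson's theorem, witness form -/
theorem th_main {p : ℕ} [Fact p.Prime] :
    ∀ (n : ℕ) {Ω : Type u} [Group Ω] (S : Subgroup Ω) [Finite S], Nat.card S = n →
      IsPGroup p S → ∀ F : FusionSystem S, F.IsSaturated p → PClass p F → ¬ Inner F →
        CentWit p F (S ⊓ Subgroup.centralizer (S : Set Ω)) ∨
          NormWit p F (thompsonSubgroupAOf S) := by
  intro n
  induction n using Nat.strong_induction_on with
  | _ n IH =>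
    intro Ω _ S _ hn hS F hF hP hni
    refine core hS F hF hni ?_ ?_ ?_
    · -- climbing
      intro V hVn hVne hwV hR
      have hVS : V ≤ S := hVn.1
      have hRS : normalizerIn S V ≤ S := normalizerIn_le S V
      haveI : Finite ↥(normalizerIn S V) := finite_of_le hRS
      have hcard : Nat.card (normalizerIn S V) < Nat.card S :=
        Cfsg.Agent.S5082.card_lt_of_ne hRS hR
      have hNN := normalizerSystem_isNormalizerSystem F V hVS
      obtain ⟨hNsat, hNni⟩ := normalizerSystem_facts hS F hF hVn hwV
      have hNP := pClass_normalizer hS F hF hP hVn _ hNN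
      have hRne : normalizerIn S V ≠ ⊥ := by
        intro h
        apply hVne
        rw [eq_bot_iff, ← h]
        exact le_normalizerIn_self hVS
      have hw := IH (Nat.card (normalizerIn S V)) (hn ▸ hcard) (normalizerIn S V) rfl
        (hS.to_le hRS) _ hNsat hNP hNni
      rcases hw with hw | hw
      · refine ⟨(centerFun p).W (normalizerIn S V),
          (centerFun p).ne_bot _ (hS.to_le hRS) hRne, (centerFun p).le _,
          normWit_of_normalizerSystem hNN (normWit_of_centWit hw), ?_⟩
        intro s hs
        obtain ⟨hsS, hsR⟩ := Subgroup.mem_inf.mp hs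
        exact Subgroup.mem_inf.mpr ⟨hsS, (centerFun p).normalizer_le _ hsR⟩
      · refine ⟨(thompsonFun p).W (normalizerIn S V),
          (thompsonFun p).ne_bot _ (hS.to_le hRS) hRne, (thompsonFun p).le _,
          normWit_of_normalizerSystem hNN hw, ?_⟩
        intro s hs
        obtain ⟨hsS, hsR⟩ := Subgroup.mem_inf.mp hs
        exact Subgroup.mem_inf.mpr ⟨hsS, (thompsonFun p).normalizer_le _ hsR⟩
    · -- quotient
      intro V hVS hSV hVne hVtop hwV hmax
      right
      haveI hnorm : (V.subgroupOf S).Normal :=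
        (Subgroup.normal_subgroupOf_iff_le_normalizer hVS).mpr hSV
      refine quot_step_gen hS F hF hVS hSV hVne hmax ?_
      intro E' hE' hE'sat hE'ni hcard
      have hEsat := normSys_saturated hS F hF V hVS hSV
      have hVsc : (normSys F V hVS hSV).StronglyClosed V :=
        stronglyClosed_of_isNormal _ (normSys_isNormal F V hVS hSV)
      have hPE' : PClass p E' :=
        pClass_factor hS _ hEsat (pClass_normSys hS F hF hP V hVS hSV) hVsc hE'
      haveI : Finite (↥S ⧸ V.subgroupOf S) := inferInstance
      haveI : Finite ↥(⊤ : Subgroup (↥S ⧸ V.subgroupOf S)) := inferInstance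
      have hS' : IsPGroup p ↥(⊤ : Subgroup (↥S ⧸ V.subgroupOf S)) :=
        (hS.of_surjective (QuotientGroup.mk' (V.subgroupOf S))
          (QuotientGroup.mk'_surjective _)).of_equiv Subgroup.topEquiv.symm
      have htopne : (⊤ : Subgroup (↥S ⧸ V.subgroupOf S)) ≠ ⊥ := by
        intro h
        apply hVtop
        apply le_antisymm hVS
        intro s hs
        have h1 : (QuotientGroup.mk' (V.subgroupOf S)) ⟨s, hs⟩ ∈
            (⊤ : Subgroup (↥S ⧸ V.subgroupOf S)) := Subgroup.mem_top _
        rw [h, Subgroup.mem_bot] at h1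
        exact (mk'_ker_iff V ⟨s, hs⟩).mp h1
      have hw := IH _ (hn ▸ hcard) ⊤ rfl hS' E' hE'sat hPE' hE'ni
      rcases hw with hw | hw
      · refine ⟨(centerFun p).W ⊤, (centerFun p).ne_bot _ hS' htopne, ?_,
          normWit_of_centWit hw⟩
        intro s r hr
        refine (centerFun p).conj_mem _ ?_ hr
        exact mem_normalizer_of_forall (fun _ _ => Subgroup.mem_top _) (fun _ _ => Subgroup.mem_top _)
      · refine ⟨(thompsonFun p).W ⊤, (thompsonFun p).ne_bot _ hS' htopne, ?_, hw⟩
        intro s r hr
        refine (thompsonFun p).conj_mem _ ?_ hr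
        exact mem_normalizer_of_forall (fun _ _ => Subgroup.mem_top _) (fun _ _ => Subgroup.mem_top _)
    · -- constrained
      intro V hVS hSV hcent hwV
      by_contra hstop
      push Not at hstop
      obtain ⟨hZ, hJ⟩ := hstop
      have hEsat := normSys_saturated hS F hF V hVS hSV
      have hVn := normSys_isNormal F V hVS hSV
      have hVc : (normSys F V hVS hSV).IsCentric V := by
        refine ⟨hVS, fun Q' hconj => ?_⟩
        rw [isConj_eq_of_isNormal _ hVn hconj]
        exact hcent
      obtain ⟨L, _, ι, hmod⟩ :=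
        Model.exists_model p hS (normSys F V hVS hSV) ⟨hEsat, V, hVn, hVc⟩
      obtain ⟨hfin, hR, ⟨T, hT⟩, hcore⟩ := hmod
      haveI := hfin
      have hZ' : ¬ CentWit p (normSys F V hVS hSV) ((centerFun p).W S) :=
        fun h => hZ (centWit_mono (normSys_le F V hVS hSV) h)
      have hJ' : ¬ NormWit p (normSys F V hVS hSV) ((thompsonFun p).W S) :=
        fun h => hJ (normWit_mono (normSys_le F V hVS hSV) h)
      have h1 := npc_centralizer_of_not_centWit hR T hT ((centerFun p).le S)
        (le_centralizer_center S) hZ'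
      have h2 := npc_normalizer_of_not_normWit hR T hT ((thompsonFun p).le S)
        ((Subgroup.le_normalizer).trans ((thompsonFun p).normalizer_le S)) hJ'
      rw [(centerFun p).imSub_eq hR.1, ← hT] at h1
      rw [(thompsonFun p).imSub_eq hR.1, ← hT] at h2
      have h4 : p ≠ 2 ∨ ¬ Cfsg.Involves (Equiv.Perm (Fin 4)) L := by
        rcases pClass_normSys hS F hF hP V hVS hSV with hp | hfree
        · exact Or.inl hp
        · right
          exact hfree V (fullyNormalized_of_isNormal _ hVn) hVc _
            (normalizerSystem_isNormalizerSystem _ V hVS) L _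
            (HFree.isModel_normalizer_of_isNormal hVn _
              (normalizerSystem_isNormalizerSystem _ V hVS) ι ⟨hfin, hR, ⟨T, hT⟩, hcore⟩)
      exact normSys_not_inner hS F hVS hSV hwV
        (inner_of_npc hR T hT (Cfsg.Agent.S2800.result T h4 h1 h2))

end Cfsg.Agent.Lib.Helper27.Th
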