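import Mathlib
import Cfsg.Agent.Lib.Helper27.Gax5
import Cfsg.Agent.Lib.Helper27.GTCore
import Cfsg.Agent.Lib.Helper27.ThMain
import Cfsg.Agent.Lib.Helper26.ModelUniq1

/-!
# The axiomatic Glauberman–Thompson criterion for fusion systems
-/

set_option autoImplicit false

namespace Cfsg.Agent.Lib.Helper27.Gax

open Cfsg Cfsg.FusionSystem Cfsg.Agent.Lib.Helper26 Cfsg.Agent.Lib.Helper27
  Cfsg.Agent.Lib.Helper27.GT Cfsg.Agent.Lib.Helper27.Th

universe u

section Gax6

variable {Ω : Type u} [Group Ω] {S : Subgroup Ω}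

/-- the common core, where the constrained step also knows that the automorphisms of order prime
to `p` of the normalizer system act trivially modulo `V` -/
theorem core' [Finite S] {p : ℕ} [Fact p.Prime] (hS : IsPGroup p S)
    (F : FusionSystem S) (hF : F.IsSaturated p) (hni : ¬ Inner F) {Stop : Prop}
    (h1 : ∀ V : Subgroup Ω, F.IsFullyNormalized V → V ≠ ⊥ → NormWit p F V →
      normalizerIn S V ≠ S →
      ∃ X : Subgroup Ω, X ≠ ⊥ ∧ X ≤ normalizerIn S V ∧ NormWit p F X ∧
        normalizerIn S (normalizerIn S V) ≤ normalizerIn S X)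
    (h2 : ∀ (V : Subgroup Ω) (hVS : V ≤ S) (hSV : S ≤ Subgroup.normalizer (V : Set Ω)),
      V ≠ ⊥ → V ≠ S → NormWit p F V →
      (∀ R' : Subgroup Ω, R' ≤ S → S ≤ Subgroup.normalizer (R' : Set Ω) → NormWit p F R' →
        Nat.card R' ≤ Nat.card V) →
      Stop ∨ ∃ (Ω' : Type u) (_ : Group Ω') (S' : Subgroup Ω') (θ : ↥S →* Ω')
        (E' : FusionSystem S'), (normSys F V hVS hSV).IsFactorSystem V θ E' ∧ Inner E')
    (h3 : ∀ (V : Subgroup Ω) (hVS : V ≤ S) (hSV : S ≤ Subgroup.normalizer (V : Set Ω)),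
      centralizerIn S V ≤ V → NormWit p F V →
      (∀ U : Subgroup Ω, U ≤ S → V ≤ U → ∀ β ∈ (normSys F V hVS hSV).autGroup U,
        (orderOf β).Coprime p → ∀ x : U, (x : Ω)⁻¹ * ((β x : U) : Ω) ∈ V) → Stop) : Stop := by
  by_contra hstop
  obtain ⟨V₀, hV₀⟩ := exists_candidate hS F hF hni
  obtain ⟨V, ⟨hVne, hVn, hwV⟩, hVmax⟩ := exists_max_nat
    {V : Subgroup Ω | V ≠ ⊥ ∧ F.IsFullyNormalized V ∧ NormWit p F V} ⟨V₀, hV₀⟩
    (fun V => Nat.card (normalizerIn S V) * (Nat.card S + 1) + Nat.card V)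
    (Nat.card S * (Nat.card S + 1) + Nat.card S) (by
      rintro V ⟨-, hVn, -⟩
      have h1 : Nat.card (normalizerIn S V) ≤ Nat.card S :=
        card_le_card_of_le_of_finite (normalizerIn_le S V)
      have h2 : Nat.card V ≤ Nat.card S := card_le_card_of_le_of_finite hVn.1
      have h3 : Nat.card (normalizerIn S V) * (Nat.card S + 1) ≤
          Nat.card S * (Nat.card S + 1) := Nat.mul_le_mul_right _ h1
      show Nat.card (normalizerIn S V) * (Nat.card S + 1) + Nat.card V ≤ _
      omega)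
  have hVS : V ≤ S := hVn.1
  have hVcard : Nat.card V ≤ Nat.card S := card_le_card_of_le_of_finite hVS
  have hNS : normalizerIn S V = S := by
    by_contra hR
    obtain ⟨X, hXne, hXR, hwX, hle⟩ := h1 V hVn hVne hwV hR
    obtain ⟨V', hV'ne, hV'n, hwV', hlt⟩ := climb_of_wit hS F hF hR hXne hXR hwX hle
    have h1 := hVmax V' ⟨hV'ne, hV'n, hwV'⟩
    have h2 : (Nat.card (normalizerIn S V) + 1) * (Nat.card S + 1) ≤
        Nat.card (normalizerIn S V') * (Nat.card S + 1) := Nat.mul_le_mul_right _ hlt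
    have h1' : Nat.card (normalizerIn S V') * (Nat.card S + 1) + Nat.card V' ≤
        Nat.card (normalizerIn S V) * (Nat.card S + 1) + Nat.card V := h1
    have h3 : (Nat.card (normalizerIn S V) + 1) * (Nat.card S + 1) =
        Nat.card (normalizerIn S V) * (Nat.card S + 1) + (Nat.card S + 1) := by ring
    omega
  have hSV : S ≤ Subgroup.normalizer (V : Set Ω) := inf_eq_left.mp hNS
  have hmax : ∀ R' : Subgroup Ω, R' ≤ S → S ≤ Subgroup.normalizer (R' : Set Ω) →
      NormWit p F R' → Nat.card R' ≤ Nat.card V := by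
    intro R' hR'S hSR' hwR'
    have : Finite V := finite_of_le hVS
    by_cases hR'ne : R' = ⊥
    · rw [hR'ne, Subgroup.card_bot]
      exact Nat.card_pos
    · have h1 := hVmax R' ⟨hR'ne, fullyNormalized_of_normal F hR'S hSR', hwR'⟩
      have h1' : Nat.card (normalizerIn S R') * (Nat.card S + 1) + Nat.card R' ≤
          Nat.card (normalizerIn S V) * (Nat.card S + 1) + Nat.card V := h1
      rw [normalizerIn_eq_self hSR', hNS] at h1'
      omega
  by_cases hVtop : V = S
  · apply hstop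
    refine h3 V hVS hSV ?_ hwV ?_
    · rw [hVtop]
      exact centralizerIn_le S S
    · intro U hUS _ β _ _ x
      rw [hVtop]
      exact S.mul_mem (S.inv_mem (hUS x.2)) (hUS (β x).2)
  · rcases h2 V hVS hSV hVne hVtop hwV hmax with hst | ⟨Ω', _, S', θ, E', hE', hin⟩
    · exact hstop hst
    · have hw₁ := normWit_sup_centralizer hS F hF hVS hSV hE' hin hwV
      have hV₁S : V ⊔ centralizerIn S V ≤ S := sup_le hVS (centralizerIn_le S V)
      have h1 := hmax _ hV₁S (normal_sup_centralizerIn hSV) hw₁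
      have : Finite ↥(V ⊔ centralizerIn S V) := finite_of_le hV₁S
      have h2 : V = V ⊔ centralizerIn S V := Subgroup.eq_of_le_of_card_ge le_sup_left h1
      have hVsc : (normSys F V hVS hSV).StronglyClosed V :=
        stronglyClosed_of_isNormal _ (normSys_isNormal F V hVS hSV)
      exact hstop (h3 V hVS hSV (sup_eq_left.mp h2.symm) hwV
        (fun U hUS hVU β hβ hord x =>
          trivial_mod_of_factor_inner hS hVsc hE' hin hUS hVU hβ hord x))

/-- the intersection of the family is normalized by `S` -/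
theorem le_normalizer_sInf {F : FusionSystem S} {𝒜 : Set (Subgroup Ω)} (hax : FAx F 𝒜) :
    S ≤ Subgroup.normalizer ((sInf 𝒜 : Subgroup Ω) : Set Ω) := by
  obtain ⟨A₀, hA₀⟩ := hax.ne
  have key : ∀ s ∈ S, ∀ y ∈ sInf 𝒜, s * y * s⁻¹ ∈ sInf 𝒜 := by
    intro s hs y hy
    have hyS : y ∈ S := hax.le A₀ hA₀ (sInf_le hA₀ hy)
    rw [Subgroup.mem_sInf] at hy ⊢
    intro A hA
    have := hax.inv S le_rfl ⟨A₀, hA₀, hax.le A₀ hA₀⟩ (Model.cS S Subgroup.le_normalizer ⟨s, hs⟩)
      (Model.cS_mem_autGroup F le_rfl Subgroup.le_normalizer ⟨s, hs⟩) ⟨y, hyS⟩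
      (fun A hA _ => hy A hA) A hA (hax.le A hA)
    exact this
  intro s hs
  refine mem_normalizer_of_forall (fun y hy => key s hs y hy) (fun y hy => ?_)
  have := key s⁻¹ (S.inv_mem hs) y hy
  rwa [inv_inv] at this

/-- the axiomatic Glauberman–Thompson theorem, witness form -/
theorem gax_main [Finite S] {p : ℕ} [Fact p.Prime] (hp2 : p ≠ 2) (hS : IsPGroup p S)
    (F : FusionSystem S) (hF : F.IsSaturated p) (𝒜 : Set (Subgroup Ω)) (hax : FAx F 𝒜)
    (hni : ¬ Inner F) : NormWit p F (sInf 𝒜) := by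
  refine core' hS F hF hni ?_ ?_ ?_
  · -- climbing
    intro V hVn hVne hwV hR
    have hVS : V ≤ S := hVn.1
    have hRS : normalizerIn S V ≤ S := normalizerIn_le S V
    haveI : Finite ↥(normalizerIn S V) := finite_of_le hRS
    have hNN := normalizerSystem_isNormalizerSystem F V hVS
    obtain ⟨hNsat, hNni⟩ := normalizerSystem_facts hS F hF hVn hwV
    have hRne : normalizerIn S V ≠ ⊥ := by
      intro h
      apply hVne
      rw [eq_bot_iff, ← h]
      exact le_normalizerIn_self hVS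
    have hw := th_main (Nat.card (normalizerIn S V)) (normalizerIn S V) rfl
      (hS.to_le hRS) _ hNsat (Or.inl hp2) hNni
    rcases hw with hw | hw
    · refine ⟨(centerFun p).W (normalizerIn S V),
        (centerFun p).ne_bot _ (hS.to_le hRS) hRne, (centerFun p).le _,
        normWit_of_normalizerSystem hNN (normWit_of_centWit hw), ?_⟩
      intro s hs
      obtain ⟨hsS, hsR⟩ := Subgroup.mem_inf.mp hs
      exact Subgroup.mem_inf.mpr ⟨hsS, (centerFun p).normalizer_le _ hsR⟩
    · refine ⟨(thompsonFun p).W (normalizerIn S V),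
        (thompsonFun p).ne_bot _ (hS.to_le hRS) hRne, (thompsonFun p).le _,
        normWit_of_normalizerSystem hNN hw, ?_⟩
      intro s hs
      obtain ⟨hsS, hsR⟩ := Subgroup.mem_inf.mp hs
      exact Subgroup.mem_inf.mpr ⟨hsS, (thompsonFun p).normalizer_le _ hsR⟩
  · -- quotient
    intro V hVS hSV hVne hVtop hwV hmax
    right
    haveI hnorm : (V.subgroupOf S).Normal :=
      (Subgroup.normal_subgroupOf_iff_le_normalizer hVS).mpr hSV
    refine quot_step_gen hS F hF hVS hSV hVne hmax ?_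
    intro E' hE' hE'sat hE'ni hcard
    haveI : Finite (↥S ⧸ V.subgroupOf S) := inferInstance
    haveI : Finite ↥(⊤ : Subgroup (↥S ⧸ V.subgroupOf S)) := inferInstance
    have hS' : IsPGroup p ↥(⊤ : Subgroup (↥S ⧸ V.subgroupOf S)) :=
      (hS.of_surjective (QuotientGroup.mk' (V.subgroupOf S))
        (QuotientGroup.mk'_surjective _)).of_equiv Subgroup.topEquiv.symm
    have htopne : (⊤ : Subgroup (↥S ⧸ V.subgroupOf S)) ≠ ⊥ := by
      intro h
      apply hVtop
      apply le_antisymm hVS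
      intro s hs
      have h1 : (QuotientGroup.mk' (V.subgroupOf S)) ⟨s, hs⟩ ∈
          (⊤ : Subgroup (↥S ⧸ V.subgroupOf S)) := Subgroup.mem_top _
      rw [h, Subgroup.mem_bot] at h1
      exact (mk'_ker_iff V ⟨s, hs⟩).mp h1
    have hw := th_main _ ⊤ rfl hS' E' hE'sat (Or.inl hp2) hE'ni
    rcases hw with hw | hw
    · refine ⟨(centerFun p).W ⊤, (centerFun p).ne_bot _ hS' htopne, ?_,
        normWit_of_centWit hw⟩
      intro s r hr
      refine (centerFun p).conj_mem _ ?_ hr
      exact mem_normalizer_of_forall (fun _ _ => Subgroup.mem_top _) (fun _ _ => Subgroup.mem_top _)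
    · refine ⟨(thompsonFun p).W ⊤, (thompsonFun p).ne_bot _ hS' htopne, ?_, hw⟩
      intro s r hr
      refine (thompsonFun p).conj_mem _ ?_ hr
      exact mem_normalizer_of_forall (fun _ _ => Subgroup.mem_top _) (fun _ _ => Subgroup.mem_top _)
  · -- constrained
    intro V hVS hSV hcent hwV hQT
    by_contra hstop
    have hEsat := normSys_saturated hS F hF V hVS hSV
    have hVn := normSys_isNormal F V hVS hSV
    have hVc : (normSys F V hVS hSV).IsCentric V := by
      refine ⟨hVS, fun Q' hconj => ?_⟩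
      rw [isConj_eq_of_isNormal _ hVn hconj]
      exact hcent
    obtain ⟨L, _, ι, hmod⟩ :=
      Model.exists_model p hS (normSys F V hVS hSV) ⟨hEsat, V, hVn, hVc⟩
    obtain ⟨hfin, hR, ⟨T, hT⟩, hcore⟩ := hmod
    haveI := hfin
    haveI hWn : (imSub ι V).Normal := imSub_normal_of_isNormal _ hR ⟨T, hT⟩ hcore hVn
    have hq := npc_quot_of_trivial_mod hR T hT hVS hQT
    have hZS : sInf 𝒜 ≤ S := by
      obtain ⟨A₀, hA₀⟩ := hax.ne
      exact (sInf_le hA₀).trans (hax.le A₀ hA₀)
    have hW' : ¬ NormWit p (normSys F V hVS hSV) (sInf 𝒜) :=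
      fun h => hstop (normWit_mono (normSys_le F V hVS hSV) h)
    have hZ := npc_normalizer_of_not_normWit hR T hT hZS (le_normalizer_sInf hax) hW'
    have hc : ConjIn F ι := conjIn_mono (normSys_le F V hVS hSV) (conjIn_of_realized hR)
    have hnpc := npc_of_fax hp2 F 𝒜 hax hR.1 hc T hT hcore (imSub ι V) (imSub_le_range ι V) hq hZ
    exact normSys_not_inner hS F hVS hSV hwV (inner_of_npc hR T hT hnpc)

end Gax6

end Cfsg.Agent.Lib.Helper27.Gax
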