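import Cfsg.Agent.Lib.Helper27.FusFactorSat
import Cfsg.Agent.Lib.Helper26.FusionSeries3

set_option autoImplicit false

namespace Cfsg.Agent.Lib.Helper27.FIso

open Cfsg Cfsg.FusionSystem Cfsg.Agent.Lib.Helper26 Cfsg.Agent.Lib.Helper27

variable {Ω : Type*} [Group Ω] {S : Subgroup Ω} {Ω' : Type*} [Group Ω']

theorem sys_ext {E F : FusionSystem S} (h : ∀ P : Subgroup Ω, E.Hom P = F.Hom P) : E = F := by
  cases E
  cases F
  simp only [FusionSystem.mk.injEq]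
  funext P
  exact h P

/-- Congruence principle: a property of a system over a subgroup only depends on the subgroup
and on the hom-sets. -/
theorem sys_congr {motive : ∀ (A : Subgroup Ω), FusionSystem A → Prop} {A B : Subgroup Ω}
    (h : A = B) (E : FusionSystem A) (F : FusionSystem B)
    (hh : ∀ P : Subgroup Ω, E.Hom P = F.Hom P) (hm : motive A E) : motive B F := by
  subst h
  obtain rfl := sys_ext hh
  exact hm

/-! ### images of subgroups -/

theorem mem_imageAlong {θ : ↥S →* Ω'} {P : Subgroup Ω} {y : Ω'} :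
    y ∈ imageAlong θ P ↔ ∃ (x : Ω) (hx : x ∈ S), x ∈ P ∧ θ ⟨x, hx⟩ = y := by
  unfold imageAlong
  constructor
  · rintro ⟨s, hs, rfl⟩
    exact ⟨s, s.2, Subgroup.mem_subgroupOf.mp hs, rfl⟩
  · rintro ⟨x, hx, hxP, rfl⟩
    exact ⟨⟨x, hx⟩, Subgroup.mem_subgroupOf.mpr hxP, rfl⟩

theorem apply_mem_imageAlong (θ : ↥S →* Ω') {P : Subgroup Ω} {x : Ω} (hx : x ∈ S) (hxP : x ∈ P) :
    θ ⟨x, hx⟩ ∈ imageAlong θ P :=
  mem_imageAlong.mpr ⟨x, hx, hxP, rfl⟩

theorem mem_of_apply_mem_imageAlong {θ : ↥S →* Ω'} (hθ : Function.Injective θ) {P : Subgroup Ω}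
    {x : Ω} (hx : x ∈ S) (h : θ ⟨x, hx⟩ ∈ imageAlong θ P) : x ∈ P := by
  obtain ⟨y, hy, hyP, hxy⟩ := mem_imageAlong.mp h
  have : (⟨y, hy⟩ : S) = ⟨x, hx⟩ := hθ hxy
  have e : y = x := congrArg Subtype.val this
  rw [← e]
  exact hyP

theorem imageAlong_mono (θ : ↥S →* Ω') {P Q : Subgroup Ω} (h : P ≤ Q) :
    imageAlong θ P ≤ imageAlong θ Q := by
  intro y hy
  obtain ⟨x, hx, hxP, rfl⟩ := mem_imageAlong.mp hy
  exact apply_mem_imageAlong θ hx (h hxP)

theorem le_of_imageAlong_le {θ : ↥S →* Ω'} (hθ : Function.Injective θ) {P Q : Subgroup Ω}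
    (hP : P ≤ S) (h : imageAlong θ P ≤ imageAlong θ Q) : P ≤ Q := by
  intro x hx
  exact mem_of_apply_mem_imageAlong hθ (hP hx) (h (apply_mem_imageAlong θ (hP hx) hx))

theorem imageAlong_inj {θ : ↥S →* Ω'} (hθ : Function.Injective θ) {P Q : Subgroup Ω}
    (hP : P ≤ S) (hQ : Q ≤ S) (h : imageAlong θ P = imageAlong θ Q) : P = Q :=
  le_antisymm (le_of_imageAlong_le hθ hP h.le) (le_of_imageAlong_le hθ hQ h.ge)

theorem imageAlong_le_range (θ : ↥S →* Ω') (P : Subgroup Ω) : imageAlong θ P ≤ θ.range := by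
  intro y hy
  obtain ⟨x, hx, -, rfl⟩ := mem_imageAlong.mp hy
  exact ⟨_, rfl⟩

theorem imageAlong_self (θ : ↥S →* Ω') : imageAlong θ S = θ.range := by
  apply le_antisymm (imageAlong_le_range θ S)
  rintro _ ⟨s, rfl⟩
  exact apply_mem_imageAlong θ s.2 s.2

theorem preimageAlong_imageAlong {θ : ↥S →* Ω'} (hθ : Function.Injective θ) {P : Subgroup Ω}
    (hP : P ≤ S) : preimageAlong θ (imageAlong θ P) = P := by
  ext y
  rw [mem_preimageAlong]
  constructor
  · rintro ⟨hy, h⟩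
    exact mem_of_apply_mem_imageAlong hθ hy h
  · intro hy
    exact ⟨hP hy, apply_mem_imageAlong θ (hP hy) hy⟩

theorem imageAlong_preimageAlong (θ : ↥S →* Ω') {P' : Subgroup Ω'} (hP' : P' ≤ θ.range) :
    imageAlong θ (preimageAlong θ P') = P' :=
  map_preimageAlong rfl hP'

theorem exists_eq_imageAlong (θ : ↥S →* Ω') {T : Subgroup Ω} (hTS : T ≤ S) {P' : Subgroup Ω'}
    (hP' : P' ≤ imageAlong θ T) (hθ : Function.Injective θ) :
    ∃ P : Subgroup Ω, P ≤ T ∧ P' = imageAlong θ P := by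
  have h1 : P' ≤ θ.range := hP'.trans (imageAlong_le_range θ T)
  refine ⟨preimageAlong θ P', ?_, (imageAlong_preimageAlong θ h1).symm⟩
  apply le_of_imageAlong_le hθ (preimageAlong_le θ P')
  rw [imageAlong_preimageAlong θ h1]
  exact hP'

theorem imageAlong_sup (θ : ↥S →* Ω') {P Q : Subgroup Ω} (hP : P ≤ S) (hQ : Q ≤ S) :
    imageAlong θ (P ⊔ Q) = imageAlong θ P ⊔ imageAlong θ Q := by
  unfold imageAlong
  rw [Subgroup.subgroupOf_sup hP hQ, Subgroup.map_sup]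

theorem imageAlong_bot (θ : ↥S →* Ω') : imageAlong θ ⊥ = ⊥ := by
  rw [eq_bot_iff]
  intro y hy
  obtain ⟨x, hx, hxP, rfl⟩ := mem_imageAlong.mp hy
  rw [Subgroup.mem_bot] at hxP
  subst hxP
  rw [Subgroup.mem_bot]
  exact map_one θ

/-! ### the restricted map and the element map -/

/-- The restriction of `θ` to a subgroup `T ≤ S`. -/
def res (θ : ↥S →* Ω') {T : Subgroup Ω} (hTS : T ≤ S) : ↥T →* Ω' :=
  θ.comp (Subgroup.inclusion hTS)

theorem res_apply (θ : ↥S →* Ω') {T : Subgroup Ω} (hTS : T ≤ S) (x : T) :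
    res θ hTS x = θ ⟨x, hTS x.2⟩ := rfl

theorem res_injective {θ : ↥S →* Ω'} (hθ : Function.Injective θ) {T : Subgroup Ω} (hTS : T ≤ S) :
    Function.Injective (res θ hTS) :=
  hθ.comp (Subgroup.inclusion_injective hTS)

theorem range_res (θ : ↥S →* Ω') {T : Subgroup Ω} (hTS : T ≤ S) :
    (res θ hTS).range = imageAlong θ T := by
  ext y
  constructor
  · rintro ⟨x, rfl⟩
    exact apply_mem_imageAlong θ (hTS x.2) x.2
  · intro hy
    obtain ⟨x, hx, hxT, rfl⟩ := mem_imageAlong.mp hy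
    exact ⟨⟨x, hxT⟩, rfl⟩

theorem imageAlong_res (θ : ↥S →* Ω') {T : Subgroup Ω} (hTS : T ≤ S) {P : Subgroup Ω}
    (hPT : P ≤ T) : imageAlong (res θ hTS) P = imageAlong θ P := by
  ext y
  constructor
  · intro hy
    obtain ⟨x, hx, hxP, rfl⟩ := mem_imageAlong.mp hy
    exact apply_mem_imageAlong θ (hTS hx) hxP
  · intro hy
    obtain ⟨x, hx, hxP, rfl⟩ := mem_imageAlong.mp hy
    exact mem_imageAlong.mpr ⟨x, hPT hxP, hxP, rfl⟩

theorem res_ker_iff {θ : ↥S →* Ω'} (hθ : Function.Injective θ) {T : Subgroup Ω} (hTS : T ≤ S)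
    (s : T) : res θ hTS s = 1 ↔ (s : Ω) ∈ (⊥ : Subgroup Ω) := by
  rw [Subgroup.mem_bot]
  constructor
  · intro h
    have h1 : res θ hTS s = res θ hTS 1 := by rw [h, map_one]
    have h2 := res_injective hθ hTS h1
    rw [h2]
    rfl
  · intro h
    have : s = 1 := Subtype.ext h
    rw [this, map_one]

/-- The element map `P → θ(P)`. -/
def toIm (θ : ↥S →* Ω') {P : Subgroup Ω} (hP : P ≤ S) : ↥P →* ↥(imageAlong θ P) :=
  (θ.comp (Subgroup.inclusion hP)).codRestrict _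
    (fun x => apply_mem_imageAlong θ (hP x.2) x.2)

theorem toIm_coe (θ : ↥S →* Ω') {P : Subgroup Ω} (hP : P ≤ S) (x : P) :
    ((toIm θ hP x : ↥(imageAlong θ P)) : Ω') = θ ⟨x, hP x.2⟩ := rfl

theorem toIm_injective {θ : ↥S →* Ω'} (hθ : Function.Injective θ) {P : Subgroup Ω} (hP : P ≤ S) :
    Function.Injective (toIm θ hP) := by
  intro x y h
  have h1 : θ ⟨x, hP x.2⟩ = θ ⟨y, hP y.2⟩ := congrArg Subtype.val h
  have h2 := hθ h1
  have h3 : (x : Ω) = (y : Ω) := congrArg (fun s : S => (s : Ω)) h2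
  exact Subtype.ext h3

theorem toIm_surjective (θ : ↥S →* Ω') {P : Subgroup Ω} (hP : P ≤ S) :
    Function.Surjective (toIm θ hP) := by
  rintro ⟨y, hy⟩
  obtain ⟨x, hx, hxP, rfl⟩ := mem_imageAlong.mp hy
  exact ⟨⟨x, hxP⟩, rfl⟩

/-- The isomorphism `P ≃ θ(P)`. -/
noncomputable def toImEquiv (θ : ↥S →* Ω') (hθ : Function.Injective θ) {P : Subgroup Ω}
    (hP : P ≤ S) : ↥P ≃* ↥(imageAlong θ P) :=
  MulEquiv.ofBijective (toIm θ hP) ⟨toIm_injective hθ hP, toIm_surjective θ hP⟩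

theorem toImEquiv_apply (θ : ↥S →* Ω') (hθ : Function.Injective θ) {P : Subgroup Ω}
    (hP : P ≤ S) (x : P) : toImEquiv θ hθ hP x = toIm θ hP x := rfl

theorem toImEquiv_coe (θ : ↥S →* Ω') (hθ : Function.Injective θ) {P : Subgroup Ω}
    (hP : P ≤ S) (x : P) : ((toImEquiv θ hθ hP x : ↥(imageAlong θ P)) : Ω') = θ ⟨x, hP x.2⟩ := rfl

theorem toIm_symm_coe (θ : ↥S →* Ω') (hθ : Function.Injective θ) {P : Subgroup Ω}
    (hP : P ≤ S) (y : ↥(imageAlong θ P)) :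
    θ ⟨((toImEquiv θ hθ hP).symm y : P), hP ((toImEquiv θ hθ hP).symm y).2⟩ = (y : Ω') := by
  have := toImEquiv_coe θ hθ hP ((toImEquiv θ hθ hP).symm y)
  rw [MulEquiv.apply_symm_apply] at this
  exact this.symm

theorem preimageAlong_res_imageAlong {θ : ↥S →* Ω'} (hθ : Function.Injective θ) {T : Subgroup Ω}
    (hTS : T ≤ S) {P : Subgroup Ω} (hPT : P ≤ T) :
    preimageAlong (res θ hTS) (imageAlong θ P) = P := by
  rw [← imageAlong_res θ hTS hPT]
  exact preimageAlong_imageAlong (res_injective hθ hTS) hPT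

end Cfsg.Agent.Lib.Helper27.FIso
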