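import Cfsg.Agent.Lib.Helper27.Iso1

set_option autoImplicit false

namespace Cfsg.Agent.Lib.Helper27.FIso

open Cfsg Cfsg.FusionSystem Cfsg.Agent.Lib.Helper26 Cfsg.Agent.Lib.Helper27

variable {Ω : Type*} [Group Ω] {S : Subgroup Ω} {Ω' : Type*} [Group Ω']

/-- The image of a system `E` over `T ≤ S` under an injective homomorphism `θ` defined on `S`. -/
noncomputable def mapSub [Finite S] (θ : ↥S →* Ω') (hθ : Function.Injective θ) {T : Subgroup Ω}
    (hTS : T ≤ S) (E : FusionSystem T) : FusionSystem (imageAlong θ T) :=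
  haveI : Finite T := finite_of_le hTS
  factorSystem E (stronglyClosed_bot E) (res θ hTS) (res_ker_iff hθ hTS) (range_res θ hTS)

theorem mapSub_isFactorSystem [Finite S] (θ : ↥S →* Ω') (hθ : Function.Injective θ)
    {T : Subgroup Ω} (hTS : T ≤ S) (E : FusionSystem T) :
    E.IsFactorSystem ⊥ (res θ hTS) (mapSub θ hθ hTS E) := by
  haveI : Finite T := finite_of_le hTS
  exact factorSystem_isFactorSystem E (stronglyClosed_bot E) (res θ hTS) (res_ker_iff hθ hTS)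
    (range_res θ hTS)

theorem mapSub_source_le [Finite S] (θ : ↥S →* Ω') (hθ : Function.Injective θ)
    {T : Subgroup Ω} (hTS : T ≤ S) (E : FusionSystem T) {P' : Subgroup Ω'} {φ' : P' →* Ω'}
    (h : φ' ∈ (mapSub θ hθ hTS E).Hom P') : ∃ P : Subgroup Ω, P ≤ T ∧ P' = imageAlong θ P :=
  exists_eq_imageAlong θ hTS (source_le _ h) hθ

/-- Membership in the image system, for sources written as images. -/
theorem mem_mapSub_iff [Finite S] (θ : ↥S →* Ω') (hθ : Function.Injective θ)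
    {T : Subgroup Ω} (hTS : T ≤ S) (E : FusionSystem T) {P : Subgroup Ω} (hPT : P ≤ T)
    (φ' : ↥(imageAlong θ P) →* Ω') :
    φ' ∈ (mapSub θ hθ hTS E).Hom (imageAlong θ P) ↔
      ∃ φ : P →* Ω, ∃ hφ : φ ∈ E.Hom P, ∀ x : P,
        φ' (toIm θ (hPT.trans hTS) x) = θ ⟨φ x, hTS (apply_mem E hφ x)⟩ := by
  have hfac := mapSub_isFactorSystem θ hθ hTS E
  have hpre : preimageAlong (res θ hTS) (imageAlong θ P) = P :=
    preimageAlong_res_imageAlong hθ hTS hPT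
  constructor
  · intro h
    obtain ⟨-, φ₀, hφ₀, hP0, hφ0T, hmem0, hind0⟩ := (hfac.2.2.2 _ _).mp h
    obtain ⟨φ, hφ, hφe⟩ := hom_cast E hpre φ₀ hφ₀
    refine ⟨φ, hφ, fun x => ?_⟩
    have hx : (x : Ω) ∈ preimageAlong (res θ hTS) (imageAlong θ P) := hpre.ge x.2
    have h1 := hind0 ⟨x, hx⟩
    have e1 : toIm θ (hPT.trans hTS) x =
        ⟨res θ hTS ⟨(⟨x, hx⟩ : ↥(preimageAlong (res θ hTS) (imageAlong θ P))), hP0 hx⟩,
          hmem0 ⟨x, hx⟩⟩ := Subtype.ext rfl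
    rw [e1, h1]
    show θ ⟨φ₀ ⟨x, hx⟩, _⟩ = θ ⟨φ x, _⟩
    congr 2
    exact (hφe x hx x.2).symm
  · rintro ⟨φ, hφ, h⟩
    obtain ⟨φ₀, hφ₀, hφe⟩ := hom_cast E hpre.symm φ hφ
    refine (hfac.2.2.2 _ _).mpr ⟨imageAlong_mono θ hPT, φ₀, hφ₀, preimageAlong_le _ _,
      fun x => apply_mem E hφ₀ x, fun x => (mem_preimageAlong.mp x.2).2, fun x => ?_⟩
    have hx : (x : Ω) ∈ P := hpre.le x.2
    have e1 : (⟨res θ hTS ⟨x, preimageAlong_le _ _ x.2⟩, (mem_preimageAlong.mp x.2).2⟩ :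
        ↥(imageAlong θ P)) = toIm θ (hPT.trans hTS) ⟨x, hx⟩ := Subtype.ext rfl
    rw [e1, h ⟨x, hx⟩]
    show θ ⟨φ ⟨x, hx⟩, _⟩ = θ ⟨φ₀ x, _⟩
    congr 2
    exact (hφe x hx x.2).symm

/-- The pushed-forward homomorphism. -/
noncomputable def pushHom (θ : ↥S →* Ω') (hθ : Function.Injective θ) {P : Subgroup Ω}
    (hPS : P ≤ S) (φ : P →* Ω) (hφS : ∀ x : P, φ x ∈ S) : ↥(imageAlong θ P) →* Ω' :=
  (θ.comp (φ.codRestrict S hφS)).comp (toImEquiv θ hθ hPS).symm.toMonoidHom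

theorem pushHom_toIm (θ : ↥S →* Ω') (hθ : Function.Injective θ) {P : Subgroup Ω}
    (hPS : P ≤ S) (φ : P →* Ω) (hφS : ∀ x : P, φ x ∈ S) (x : P) :
    pushHom θ hθ hPS φ hφS (toIm θ hPS x) = θ ⟨φ x, hφS x⟩ := by
  unfold pushHom
  have e : (toImEquiv θ hθ hPS).symm (toIm θ hPS x) = x := by
    rw [← toImEquiv_apply θ hθ hPS x, MulEquiv.symm_apply_apply]
  show θ ⟨φ ((toImEquiv θ hθ hPS).symm (toIm θ hPS x)), _⟩ = _
  congr 2
  rw [e]

theorem pushHom_mem [Finite S] (θ : ↥S →* Ω') (hθ : Function.Injective θ)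
    {T : Subgroup Ω} (hTS : T ≤ S) (E : FusionSystem T) {P : Subgroup Ω} {φ : P →* Ω}
    (hφ : φ ∈ E.Hom P) :
    pushHom θ hθ ((source_le E hφ).trans hTS) φ (fun x => hTS (apply_mem E hφ x)) ∈
      (mapSub θ hθ hTS E).Hom (imageAlong θ P) :=
  (mem_mapSub_iff θ hθ hTS E (source_le E hφ) _).mpr ⟨φ, hφ, fun x => pushHom_toIm θ hθ _ φ _ x⟩

/-- Two homs on an image agreeing on the elements `θ x` are equal. -/
theorem hom_ext_toIm (θ : ↥S →* Ω') {P : Subgroup Ω} (hPS : P ≤ S)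
    {f g : ↥(imageAlong θ P) →* Ω'} (h : ∀ x : P, f (toIm θ hPS x) = g (toIm θ hPS x)) : f = g := by
  ext y
  obtain ⟨x, rfl⟩ := toIm_surjective θ hPS y
  exact h x

/-! ### automorphism groups -/

/-- The isomorphism `Aut(P) ≃ Aut(θ(P))`. -/
noncomputable def autIso (θ : ↥S →* Ω') (hθ : Function.Injective θ) {P : Subgroup Ω}
    (hPS : P ≤ S) : MulAut ↥P ≃* MulAut ↥(imageAlong θ P) :=
  MulAut.congr (toImEquiv θ hθ hPS)

theorem autIso_toIm (θ : ↥S →* Ω') (hθ : Function.Injective θ) {P : Subgroup Ω}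
    (hPS : P ≤ S) (α : MulAut ↥P) (x : P) :
    (autIso θ hθ hPS α) (toIm θ hPS x) = toIm θ hPS (α x) := by
  unfold autIso
  show toImEquiv θ hθ hPS (α ((toImEquiv θ hθ hPS).symm (toIm θ hPS x))) = _
  have e : (toImEquiv θ hθ hPS).symm (toIm θ hPS x) = x := by
    rw [← toImEquiv_apply θ hθ hPS x, MulEquiv.symm_apply_apply]
  rw [e]
  rfl

theorem autIso_symm_apply (θ : ↥S →* Ω') (hθ : Function.Injective θ) {P : Subgroup Ω}
    (hPS : P ≤ S) (α' : MulAut ↥(imageAlong θ P)) (x : P) :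
    toIm θ hPS (((autIso θ hθ hPS).symm α') x) = α' (toIm θ hPS x) := by
  have h := autIso_toIm θ hθ hPS ((autIso θ hθ hPS).symm α') x
  rw [MulEquiv.apply_symm_apply] at h
  exact h.symm

theorem autIso_mem_iff [Finite S] (θ : ↥S →* Ω') (hθ : Function.Injective θ)
    {T : Subgroup Ω} (hTS : T ≤ S) (E : FusionSystem T) {P : Subgroup Ω} (hPT : P ≤ T)
    (α : MulAut ↥P) :
    autIso θ hθ (hPT.trans hTS) α ∈ (mapSub θ hθ hTS E).autGroup (imageAlong θ P) ↔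
      α ∈ E.autGroup P := by
  rw [mem_autGroup_iff _ (imageAlong_mono θ hPT), mem_autGroup_iff E hPT,
    mem_mapSub_iff θ hθ hTS E hPT]
  constructor
  · rintro ⟨φ, hφ, h⟩
    refine mem_of_forall_eq E hφ (fun x => ?_)
    have h1 := h x
    have h2 : ((imageAlong θ P).subtype.comp (autIso θ hθ (hPT.trans hTS) α).toMonoidHom)
        (toIm θ (hPT.trans hTS) x) = θ ⟨α x, (hPT.trans hTS) (α x).2⟩ := by
      show (((autIso θ hθ (hPT.trans hTS) α) (toIm θ (hPT.trans hTS) x) :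
        ↥(imageAlong θ P)) : Ω') = _
      rw [autIso_toIm]
      rfl
    rw [h2] at h1
    have h3 := hθ h1
    exact congrArg (fun s : S => (s : Ω)) h3
  · intro h
    refine ⟨_, h, fun x => ?_⟩
    show (((autIso θ hθ (hPT.trans hTS) α) (toIm θ (hPT.trans hTS) x) :
        ↥(imageAlong θ P)) : Ω') = _
    rw [autIso_toIm]
    rfl

theorem map_autGroup [Finite S] (θ : ↥S →* Ω') (hθ : Function.Injective θ)
    {T : Subgroup Ω} (hTS : T ≤ S) (E : FusionSystem T) {P : Subgroup Ω} (hPT : P ≤ T) :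
    (E.autGroup P).map (autIso θ hθ (hPT.trans hTS)).toMonoidHom =
      (mapSub θ hθ hTS E).autGroup (imageAlong θ P) := by
  ext α'
  constructor
  · rintro ⟨α, hα, rfl⟩
    exact (autIso_mem_iff θ hθ hTS E hPT α).mpr hα
  · intro h
    refine ⟨(autIso θ hθ (hPT.trans hTS)).symm α', ?_, ?_⟩
    · apply (autIso_mem_iff θ hθ hTS E hPT _).mp
      rw [MulEquiv.apply_symm_apply]
      exact h
    · exact MulEquiv.apply_symm_apply _ _

/-- Pulling back an automorphism. -/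
theorem exists_aut_of_mem [Finite S] (θ : ↥S →* Ω') (hθ : Function.Injective θ)
    {T : Subgroup Ω} (hTS : T ≤ S) (E : FusionSystem T) {P : Subgroup Ω} (hPT : P ≤ T)
    {α' : MulAut ↥(imageAlong θ P)} (h : α' ∈ (mapSub θ hθ hTS E).autGroup (imageAlong θ P)) :
    ∃ α ∈ E.autGroup P, ∀ x : P, α' (toIm θ (hPT.trans hTS) x) = toIm θ (hPT.trans hTS) (α x) := by
  refine ⟨(autIso θ hθ (hPT.trans hTS)).symm α', ?_, fun x => ?_⟩
  · apply (autIso_mem_iff θ hθ hTS E hPT _).mp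
    rw [MulEquiv.apply_symm_apply]
    exact h
  · exact (autIso_symm_apply θ hθ (hPT.trans hTS) α' x).symm

end Cfsg.Agent.Lib.Helper27.FIso
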