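import Cfsg.Agent.Lib.Helper27.Iso2

set_option autoImplicit false

namespace Cfsg.Agent.Lib.Helper27.FIso

open Cfsg Cfsg.FusionSystem Cfsg.Agent.Lib.Helper26 Cfsg.Agent.Lib.Helper27

variable {Ω : Type*} [Group Ω] {S : Subgroup Ω} {Ω' : Type*} [Group Ω']

theorem le_of_isSubsystemOf {T U : Subgroup Ω} {E : FusionSystem T} {D : FusionSystem U}
    (h : E.IsSubsystemOf D) : T ≤ U :=
  source_le D (h T (subtype_mem E le_rfl))

/-- Evaluating a hom of the image system on an element written as `θ x`. -/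
theorem hom_apply_coe (θ : ↥S →* Ω') {P : Subgroup Ω} (hPS : P ≤ S) {φ' : ↥(imageAlong θ P) →* Ω'}
    {φ : P →* Ω} {hφS : ∀ x : P, φ x ∈ S}
    (hind : ∀ x : P, φ' (toIm θ hPS x) = θ ⟨φ x, hφS x⟩) (y : ↥(imageAlong θ P)) (x : Ω)
    (hx : x ∈ P) (hy : (y : Ω') = θ ⟨x, hPS hx⟩) : φ' y = θ ⟨φ ⟨x, hx⟩, hφS ⟨x, hx⟩⟩ := by
  have e : y = toIm θ hPS ⟨x, hx⟩ := Subtype.ext hy
  rw [e, hind]

/-- Evaluating an automorphism of an image on an element written as `θ x`. -/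
theorem aut_apply_coe (θ : ↥S →* Ω') {P : Subgroup Ω} (hPS : P ≤ S)
    {α' : MulAut ↥(imageAlong θ P)} {α : MulAut ↥P}
    (hαe : ∀ x : P, α' (toIm θ hPS x) = toIm θ hPS (α x)) (y : ↥(imageAlong θ P)) (x : Ω)
    (hx : x ∈ P) (hy : (y : Ω') = θ ⟨x, hPS hx⟩) :
    ((α' y : ↥(imageAlong θ P)) : Ω') = θ ⟨α ⟨x, hx⟩, hPS (α ⟨x, hx⟩).2⟩ := by
  have e : y = toIm θ hPS ⟨x, hx⟩ := Subtype.ext hy
  rw [e, hαe]
  rfl

theorem mapSub_saturated [Finite S] {p : ℕ} [Fact p.Prime] (hS : IsPGroup p S) (θ : ↥S →* Ω')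
    (hθ : Function.Injective θ) {T : Subgroup Ω} (hTS : T ≤ S) (E : FusionSystem T)
    (hE : E.IsSaturated p) : (mapSub θ hθ hTS E).IsSaturated p := by
  haveI : Finite T := finite_of_le hTS
  exact factor_saturated (hS.to_le hTS) hE (stronglyClosed_bot E) (mapSub_isFactorSystem θ hθ hTS E)

theorem mapSub_isSubsystemOf [Finite S] (θ : ↥S →* Ω') (hθ : Function.Injective θ)
    {T U : Subgroup Ω} (hTS : T ≤ S) (hUS : U ≤ S) (E : FusionSystem T) (D : FusionSystem U)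
    (h : E.IsSubsystemOf D) : (mapSub θ hθ hTS E).IsSubsystemOf (mapSub θ hθ hUS D) := by
  have hTU := le_of_isSubsystemOf h
  intro P' φ' hφ'
  obtain ⟨P, hPT, rfl⟩ := mapSub_source_le θ hθ hTS E hφ'
  obtain ⟨φ, hφ, hind⟩ := (mem_mapSub_iff θ hθ hTS E hPT φ').mp hφ'
  exact (mem_mapSub_iff θ hθ hUS D (hPT.trans hTU) φ').mpr ⟨φ, h P hφ, hind⟩

theorem mapSub_stronglyClosed [Finite S] (θ : ↥S →* Ω') (hθ : Function.Injective θ)
    {T U : Subgroup Ω} (hUS : U ≤ S) (D : FusionSystem U)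
    (h : D.StronglyClosed T) : (mapSub θ hθ hUS D).StronglyClosed (imageAlong θ T) := by
  refine ⟨imageAlong_mono θ h.1, fun R' hR' φ' hφ' x' => ?_⟩
  obtain ⟨R, hRU, rfl⟩ := mapSub_source_le θ hθ hUS D hφ'
  obtain ⟨φ, hφ, hind⟩ := (mem_mapSub_iff θ hθ hUS D hRU φ').mp hφ'
  have hRT : R ≤ T := le_of_imageAlong_le hθ (hRU.trans hUS) hR'
  obtain ⟨x, rfl⟩ := toIm_surjective θ (hRU.trans hUS) x'
  rw [hind]
  exact apply_mem_imageAlong θ _ (h.2 R hRT φ hφ x)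

/-- The image of `α(P)`. -/
theorem imageAlong_aut_map (θ : ↥S →* Ω') (hθ : Function.Injective θ) {T : Subgroup Ω} (hTS : T ≤ S)
    {P : Subgroup Ω} (hPT : P ≤ T) {α' : MulAut ↥(imageAlong θ T)} {α : MulAut ↥T}
    (hαe : ∀ x : T, α' (toIm θ hTS x) = toIm θ hTS (α x)) :
    imageAlong θ ((P.subgroupOf T).map (T.subtype.comp α.toMonoidHom)) =
      ((imageAlong θ P).subgroupOf (imageAlong θ T)).map
        ((imageAlong θ T).subtype.comp α'.toMonoidHom) := by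
  ext y
  constructor
  · intro hy
    obtain ⟨z, hzS, hz, rfl⟩ := mem_imageAlong.mp hy
    obtain ⟨t, ht, rfl⟩ := hz
    have htP : (t : Ω) ∈ P := Subgroup.mem_subgroupOf.mp ht
    refine ⟨toIm θ hTS t, Subgroup.mem_subgroupOf.mpr ?_, ?_⟩
    · exact apply_mem_imageAlong θ (hTS t.2) htP
    · show ((α' (toIm θ hTS t) : ↥(imageAlong θ T)) : Ω') = _
      rw [hαe]
      rfl
  · rintro ⟨t', ht', rfl⟩
    obtain ⟨t, rfl⟩ := toIm_surjective θ hTS t'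
    have h1 : θ ⟨t, hTS t.2⟩ ∈ imageAlong θ P := Subgroup.mem_subgroupOf.mp ht'
    have htP : (t : Ω) ∈ P := mem_of_apply_mem_imageAlong hθ (hTS t.2) h1
    show ((α' (toIm θ hTS t) : ↥(imageAlong θ T)) : Ω') ∈ _
    rw [hαe]
    exact apply_mem_imageAlong θ (hTS (α t).2) ⟨t, Subgroup.mem_subgroupOf.mpr htP, rfl⟩

theorem aut_map_le {T : Subgroup Ω} (P : Subgroup Ω) (α : MulAut ↥T) :
    (P.subgroupOf T).map (T.subtype.comp α.toMonoidHom) ≤ T := by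
  rintro _ ⟨t, -, rfl⟩
  exact (α t).2

theorem mapSub_isInvariantIn [Finite S] (θ : ↥S →* Ω') (hθ : Function.Injective θ)
    {T U : Subgroup Ω} (hTS : T ≤ S) (hUS : U ≤ S) (E : FusionSystem T) (D : FusionSystem U)
    (h : E.IsInvariantIn D) : (mapSub θ hθ hTS E).IsInvariantIn (mapSub θ hθ hUS D) := by
  obtain ⟨hsub, hsc, hinv, hfrat⟩ := h
  have hTU : T ≤ U := hsc.1
  refine ⟨mapSub_isSubsystemOf θ hθ hTS hUS E D hsub, mapSub_stronglyClosed θ hθ hUS D hsc, ?_, ?_⟩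
  · intro P' hP'T' φ' hφ' α' hα'
    obtain ⟨P, hPT, rfl⟩ := mapSub_source_le θ hθ hTS E hφ'
    obtain ⟨φ, hφ, hind⟩ := (mem_mapSub_iff θ hθ hTS E hPT φ').mp hφ'
    obtain ⟨α, hα, hαe⟩ := exists_aut_of_mem θ hθ hUS D hTU hα'
    obtain ⟨χ, hχ, hχe⟩ := hinv P hPT φ hφ α hα
    have hαPT := aut_map_le P α
    have himg := imageAlong_aut_map θ hθ hTS hPT hαe
    have hχ' := pushHom_mem θ hθ hTS E hχ
    obtain ⟨χ', hχ'mem, hχ'e⟩ := hom_cast _ himg _ hχ'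
    refine ⟨χ', hχ'mem, fun x' hφx' hαx' => ?_⟩
    obtain ⟨x, rfl⟩ := toIm_surjective θ (hPT.trans hTS) x'
    have hφxT : φ x ∈ T := apply_mem E hφ x
    -- the element α' ⟨toIm x, _⟩
    have e1 : ((α' ⟨toIm θ (hPT.trans hTS) x, hP'T' (toIm θ (hPT.trans hTS) x).2⟩ :
        ↥(imageAlong θ T)) : Ω') = θ ⟨α ⟨x, hPT x.2⟩, hTS (α ⟨x, hPT x.2⟩).2⟩ :=
      aut_apply_coe θ hTS hαe _ x (hPT x.2) rfl
    have hmemαP : ((α ⟨x, hPT x.2⟩ : T) : Ω) ∈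
        (P.subgroupOf T).map (T.subtype.comp α.toMonoidHom) :=
      ⟨⟨x, hPT x.2⟩, Subgroup.mem_subgroupOf.mpr x.2, rfl⟩
    have hmem0 : ((α' ⟨toIm θ (hPT.trans hTS) x, hP'T' (toIm θ (hPT.trans hTS) x).2⟩ :
        ↥(imageAlong θ T)) : Ω') ∈
        imageAlong θ ((P.subgroupOf T).map (T.subtype.comp α.toMonoidHom)) := by
      rw [himg]; exact hαx'
    rw [hχ'e _ hmem0 hαx']
    have e2 := hom_apply_coe θ (hαPT.trans hTS)
      (fun z => pushHom_toIm θ hθ (hαPT.trans hTS) χ (fun z => hTS (apply_mem E hχ z)) z)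
      ⟨_, hmem0⟩ _ hmemαP e1
    rw [e2]
    have e3 : φ' (toIm θ (hPT.trans hTS) x) = θ ⟨φ x, hTS hφxT⟩ := hind x
    have e4 := aut_apply_coe θ hTS hαe ⟨φ' (toIm θ (hPT.trans hTS) x), hφx'⟩ (φ x) hφxT e3
    rw [e4]
    congr 2
    exact hχe x hφxT hmemαP
  · intro P' hP'T' φ' hφ'
    obtain ⟨P, hPU, rfl⟩ := mapSub_source_le θ hθ hUS D hφ'
    have hPT : P ≤ T := le_of_imageAlong_le hθ (hPU.trans hUS) hP'T'
    obtain ⟨φ, hφ, hind⟩ := (mem_mapSub_iff θ hθ hUS D hPU φ').mp hφ'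
    obtain ⟨α, hα, φ₀, hφ₀, hdec⟩ := hfrat P hPT φ hφ
    refine ⟨autIso θ hθ hTS α, (autIso_mem_iff θ hθ hUS D hTU α).mpr hα,
      pushHom θ hθ (hPT.trans hTS) φ₀ (fun x => hTS (apply_mem E hφ₀ x)),
      pushHom_mem θ hθ hTS E hφ₀, fun x' hx' => ?_⟩
    obtain ⟨x, rfl⟩ := toIm_surjective θ (hPT.trans hTS) x'
    have hφ₀T : φ₀ x ∈ T := apply_mem E hφ₀ x
    have e1 : pushHom θ hθ (hPT.trans hTS) φ₀ (fun x => hTS (apply_mem E hφ₀ x))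
        (toIm θ (hPT.trans hTS) x) = θ ⟨φ₀ x, hTS hφ₀T⟩ := pushHom_toIm θ hθ _ φ₀ _ x
    have e2 := aut_apply_coe θ hTS (autIso_toIm θ hθ hTS α) ⟨_, hx'⟩ (φ₀ x) hφ₀T e1
    rw [e2, hind x]
    congr 2
    exact hdec x hφ₀T

end Cfsg.Agent.Lib.Helper27.FIso
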