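import Cfsg.Agent.Lib.Helper27.Iso3

set_option autoImplicit false

namespace Cfsg.Agent.Lib.Helper27.FIso

open Cfsg Cfsg.FusionSystem Cfsg.Agent.Lib.Helper26 Cfsg.Agent.Lib.Helper27

variable {Ω : Type*} [Group Ω] {S : Subgroup Ω} {Ω' : Type*} [Group Ω']

theorem imageAlong_centralizerIn (θ : ↥S →* Ω') (hθ : Function.Injective θ) {T U : Subgroup Ω}
    (hTS : T ≤ S) (hUS : U ≤ S) :
    imageAlong θ (centralizerIn U T) = centralizerIn (imageAlong θ U) (imageAlong θ T) := by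
  ext y
  constructor
  · intro hy
    obtain ⟨z, hzS, hz, rfl⟩ := mem_imageAlong.mp hy
    refine ⟨apply_mem_imageAlong θ hzS hz.1, ?_⟩
    intro t' ht'
    obtain ⟨t, htS, ht, rfl⟩ := mem_imageAlong.mp ht'
    have h1 : t * z = z * t := hz.2 t ht
    rw [← map_mul, ← map_mul]
    congr 1
    exact Subtype.ext h1
  · rintro ⟨hyU, hyC⟩
    obtain ⟨z, hzS, hzU, rfl⟩ := mem_imageAlong.mp hyU
    refine apply_mem_imageAlong θ hzS ⟨hzU, ?_⟩
    intro t ht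
    have h1 := hyC (θ ⟨t, hTS ht⟩) (apply_mem_imageAlong θ (hTS ht) ht)
    rw [← map_mul, ← map_mul] at h1
    have h2 := hθ h1
    exact congrArg (fun s : S => (s : Ω)) h2

theorem apply_mem_center_image (θ : ↥S →* Ω') {T : Subgroup Ω} (hTS : T ≤ S) {w : Ω}
    (hw : w ∈ T ⊓ Subgroup.centralizer (T : Set Ω)) :
    θ ⟨w, hTS hw.1⟩ ∈ imageAlong θ T ⊓ Subgroup.centralizer ((imageAlong θ T : Subgroup Ω') : Set Ω') := by
  refine ⟨apply_mem_imageAlong θ (hTS hw.1) hw.1, ?_⟩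
  intro t' ht'
  obtain ⟨t, htS, ht, rfl⟩ := mem_imageAlong.mp ht'
  have h1 : t * w = w * t := hw.2 t ht
  rw [← map_mul, ← map_mul]
  congr 1
  exact Subtype.ext h1

theorem mapSub_extension [Finite S] (θ : ↥S →* Ω') (hθ : Function.Injective θ)
    {T U : Subgroup Ω} (hTS : T ≤ S) (hUS : U ≤ S) (hTU : T ≤ U) (E : FusionSystem T)
    (D : FusionSystem U)
    (h : ∀ α ∈ E.autGroup T, ∃ β ∈ D.autGroup (T ⊔ centralizerIn U T),
      (∀ x : T, ((β (Subgroup.inclusion le_sup_left x) : ↥(T ⊔ centralizerIn U T)) : Ω) =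
        ((α x : T) : Ω)) ∧
      ∀ c : ↥(T ⊔ centralizerIn U T), (c : Ω) ∈ centralizerIn U T →
        (c : Ω)⁻¹ * ((β c : ↥(T ⊔ centralizerIn U T)) : Ω) ∈
          T ⊓ Subgroup.centralizer (T : Set Ω)) :
    ∀ α' ∈ (mapSub θ hθ hTS E).autGroup (imageAlong θ T),
      ∃ β' ∈ (mapSub θ hθ hUS D).autGroup
          (imageAlong θ T ⊔ centralizerIn (imageAlong θ U) (imageAlong θ T)),
        (∀ x : ↥(imageAlong θ T), ((β' (Subgroup.inclusion le_sup_left x) :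
            ↥(imageAlong θ T ⊔ centralizerIn (imageAlong θ U) (imageAlong θ T))) : Ω') =
          ((α' x : ↥(imageAlong θ T)) : Ω')) ∧
        ∀ c : ↥(imageAlong θ T ⊔ centralizerIn (imageAlong θ U) (imageAlong θ T)),
          (c : Ω') ∈ centralizerIn (imageAlong θ U) (imageAlong θ T) →
          (c : Ω')⁻¹ * ((β' c : ↥(imageAlong θ T ⊔
              centralizerIn (imageAlong θ U) (imageAlong θ T))) : Ω') ∈
            imageAlong θ T ⊓ Subgroup.centralizer ((imageAlong θ T : Subgroup Ω') : Set Ω') := by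
  intro α' hα'
  obtain ⟨α, hα, hαe⟩ := exists_aut_of_mem θ hθ hTS E le_rfl hα'
  obtain ⟨β, hβ, hβ1, hβ2⟩ := h α hα
  have hCU : centralizerIn U T ≤ U := inf_le_left
  have hQU : T ⊔ centralizerIn U T ≤ U := sup_le hTU hCU
  have hQS : T ⊔ centralizerIn U T ≤ S := hQU.trans hUS
  have himg : imageAlong θ (T ⊔ centralizerIn U T) =
      imageAlong θ T ⊔ centralizerIn (imageAlong θ U) (imageAlong θ T) := by
    rw [imageAlong_sup θ hTS (hCU.trans hUS), imageAlong_centralizerIn θ hθ hTS hUS]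
  have hβ'₀ := (autIso_mem_iff θ hθ hUS D hQU β).mpr hβ
  obtain ⟨β', hβ', hβ'e⟩ := aut_cast _ himg _ hβ'₀
  have hβ0 := autIso_toIm θ hθ hQS β
  refine ⟨β', hβ', fun x' => ?_, fun c hc => ?_⟩
  · obtain ⟨x, rfl⟩ := toIm_surjective θ hTS x'
    have hx0 : θ ⟨x, hTS x.2⟩ ∈ imageAlong θ (T ⊔ centralizerIn U T) :=
      apply_mem_imageAlong θ (hTS x.2) (le_sup_left (a := T) x.2)
    have e0 : Subgroup.inclusion (le_sup_left : imageAlong θ T ≤
        imageAlong θ T ⊔ centralizerIn (imageAlong θ U) (imageAlong θ T)) (toIm θ hTS x) =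
        ⟨θ ⟨x, hTS x.2⟩, himg.le hx0⟩ := Subtype.ext rfl
    rw [e0, hβ'e _ hx0]
    have e1 := aut_apply_coe θ hQS hβ0 ⟨θ ⟨x, hTS x.2⟩, hx0⟩ x (le_sup_left (a := T) x.2) rfl
    rw [e1, hαe]
    show θ ⟨_, _⟩ = θ ⟨_, _⟩
    congr 2
    exact hβ1 x
  · have hc0 : (c : Ω') ∈ imageAlong θ (centralizerIn U T) := by
      rw [imageAlong_centralizerIn θ hθ hTS hUS]; exact hc
    obtain ⟨z, hzS, hz, hzc⟩ := mem_imageAlong.mp hc0
    have hzQ : z ∈ T ⊔ centralizerIn U T := le_sup_right (a := T) hz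
    have hcQ : (c : Ω') ∈ imageAlong θ (T ⊔ centralizerIn U T) := by
      rw [himg]; exact c.2
    have e0 : c = ⟨(c : Ω'), himg.le hcQ⟩ := Subtype.ext rfl
    rw [e0, hβ'e _ hcQ]
    have e1 := aut_apply_coe θ hQS hβ0 ⟨(c : Ω'), hcQ⟩ z hzQ hzc.symm
    rw [e1]
    have h2 := hβ2 ⟨z, hzQ⟩ hz
    have h3 := apply_mem_center_image θ hTS h2
    have e2 : (c : Ω')⁻¹ * θ ⟨β ⟨z, hzQ⟩, hQS (β ⟨z, hzQ⟩).2⟩ =
        θ ⟨z⁻¹ * ((β ⟨z, hzQ⟩ : ↥(T ⊔ centralizerIn U T)) : Ω), hTS h2.1⟩ := by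
      rw [← hzc, ← map_inv, ← map_mul]
      rfl
    rw [e2]
    exact h3

theorem mapSub_isNormalIn [Finite S] {p : ℕ} [Fact p.Prime] (hS : IsPGroup p S) (θ : ↥S →* Ω')
    (hθ : Function.Injective θ) {T U : Subgroup Ω} (hTS : T ≤ S) (hUS : U ≤ S)
    (E : FusionSystem T) (D : FusionSystem U) (h : E.IsNormalIn D p) :
    (mapSub θ hθ hTS E).IsNormalIn (mapSub θ hθ hUS D) p := by
  obtain ⟨⟨hEs, hDs, hinv⟩, hext⟩ := h
  have hTU : T ≤ U := hinv.2.1.1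
  exact ⟨⟨mapSub_saturated hS θ hθ hTS E hEs, mapSub_saturated hS θ hθ hUS D hDs,
    mapSub_isInvariantIn θ hθ hTS hUS E D hinv⟩,
    mapSub_extension θ hθ hTS hUS hTU E D hext⟩

end Cfsg.Agent.Lib.Helper27.FIso
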