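import Cfsg.Agent.Lib.Helper27.Iso4

set_option autoImplicit false

namespace Cfsg.Agent.Lib.Helper27.FIso

open Cfsg Cfsg.FusionSystem Cfsg.Agent.Lib.Helper26 Cfsg.Agent.Lib.Helper27

variable {Ω : Type*} [Group Ω] {S : Subgroup Ω} {Ω' : Type*} [Group Ω']

/-- Flexible membership criterion. -/
theorem mem_mapSub_of [Finite S] (θ : ↥S →* Ω') (hθ : Function.Injective θ)
    {T : Subgroup Ω} (hTS : T ≤ S) (E : FusionSystem T) {P : Subgroup Ω} {φ : P →* Ω}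
    (hφ : φ ∈ E.Hom P) {P' : Subgroup Ω'} (φ' : P' →* Ω') (hP' : P' = imageAlong θ P)
    (hind : ∀ (x : P) (hx' : θ ⟨x, hTS (source_le E hφ x.2)⟩ ∈ P'),
      φ' ⟨θ ⟨x, hTS (source_le E hφ x.2)⟩, hx'⟩ = θ ⟨φ x, hTS (apply_mem E hφ x)⟩) :
    φ' ∈ (mapSub θ hθ hTS E).Hom P' := by
  subst hP'
  exact (mem_mapSub_iff θ hθ hTS E (source_le E hφ) φ').mpr ⟨φ, hφ, fun x => hind x _⟩

/-- Flexible elimination. -/
theorem exists_of_mem_mapSub [Finite S] (θ : ↥S →* Ω') (hθ : Function.Injective θ)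
    {T : Subgroup Ω} (hTS : T ≤ S) (E : FusionSystem T) {P' : Subgroup Ω'} {φ' : P' →* Ω'}
    (h : φ' ∈ (mapSub θ hθ hTS E).Hom P') :
    ∃ (P : Subgroup Ω) (hPT : P ≤ T), P' = imageAlong θ P ∧ ∃ (φ : P →* Ω) (hφ : φ ∈ E.Hom P),
      ∀ (x : P) (hx' : θ ⟨x, hTS (hPT x.2)⟩ ∈ P'),
        φ' ⟨θ ⟨x, hTS (hPT x.2)⟩, hx'⟩ = θ ⟨φ x, hTS (apply_mem E hφ x)⟩ := by
  obtain ⟨P, hPT, rfl⟩ := mapSub_source_le θ hθ hTS E h
  obtain ⟨φ, hφ, hind⟩ := (mem_mapSub_iff θ hθ hTS E hPT φ').mp h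
  exact ⟨P, hPT, rfl, φ, hφ, fun x hx' => hind x⟩

theorem imageAlong_subtype {P : Subgroup Ω} (hPS : P ≤ S) : imageAlong S.subtype P = P := by
  ext y
  constructor
  · intro hy
    obtain ⟨x, hx, hxP, rfl⟩ := mem_imageAlong.mp hy
    exact hxP
  · intro hy
    exact mem_imageAlong.mpr ⟨y, hPS hy, hy, rfl⟩

/-- The identity lemma: the image under the inclusion is the system itself. -/
theorem mapSub_subtype_hom [Finite S] {T : Subgroup Ω} (hTS : T ≤ S) (E : FusionSystem T)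
    (P' : Subgroup Ω) :
    (mapSub S.subtype S.subtype_injective hTS E).Hom P' = E.Hom P' := by
  ext φ'
  constructor
  · intro h
    obtain ⟨P, hPT, hP', φ, hφ, hind⟩ := exists_of_mem_mapSub _ _ hTS E h
    have hPP : P' = P := hP'.trans (imageAlong_subtype (hPT.trans hTS))
    subst hPP
    refine mem_of_forall_eq E hφ (fun x => ?_)
    exact hind x x.2
  · intro h
    have hPT := source_le E h
    exact mem_mapSub_of _ _ hTS E h φ' (imageAlong_subtype (hPT.trans hTS)).symm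
      (fun x hx' => rfl)

/-- Composition of images of subgroups. -/
theorem imageAlong_comp (θ : ↥S →* Ω') {S' : Subgroup Ω'} (hS' : ∀ s : S, θ s ∈ S')
    {Ω'' : Type*} [Group Ω''] (θ' : ↥S' →* Ω'') (P : Subgroup Ω) :
    imageAlong θ' (imageAlong θ P) = imageAlong (θ'.comp (θ.codRestrict S' hS')) P := by
  ext y
  constructor
  · intro hy
    obtain ⟨z, hzS', hz, rfl⟩ := mem_imageAlong.mp hy
    obtain ⟨x, hx, hxP, rfl⟩ := mem_imageAlong.mp hz
    exact mem_imageAlong.mpr ⟨x, hx, hxP, rfl⟩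
  · intro hy
    obtain ⟨x, hx, hxP, rfl⟩ := mem_imageAlong.mp hy
    exact mem_imageAlong.mpr ⟨θ ⟨x, hx⟩, hS' _, apply_mem_imageAlong θ hx hxP, rfl⟩

theorem imageAlong_le_of_maps (θ : ↥S →* Ω') {S' : Subgroup Ω'} (hS' : ∀ s : S, θ s ∈ S')
    (P : Subgroup Ω) : imageAlong θ P ≤ S' := by
  intro y hy
  obtain ⟨x, hx, -, rfl⟩ := mem_imageAlong.mp hy
  exact hS' _

/-- Composition lemma for images of systems. -/
theorem mapSub_comp_hom [Finite S] (θ : ↥S →* Ω') (hθ : Function.Injective θ)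
    {S' : Subgroup Ω'} [Finite S'] (hS' : ∀ s : S, θ s ∈ S')
    {Ω'' : Type*} [Group Ω''] (θ' : ↥S' →* Ω'') (hθ' : Function.Injective θ')
    (hκ : Function.Injective (θ'.comp (θ.codRestrict S' hS')))
    {T : Subgroup Ω} (hTS : T ≤ S) (E : FusionSystem T) (P'' : Subgroup Ω'') :
    (mapSub θ' hθ' (imageAlong_le_of_maps θ hS' T) (mapSub θ hθ hTS E)).Hom P'' =
      (mapSub (θ'.comp (θ.codRestrict S' hS')) hκ hTS E).Hom P'' := by
  ext φ''
  constructor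
  · intro h
    obtain ⟨P', hP'T', hP'', φ', hφ', hind'⟩ := exists_of_mem_mapSub θ' hθ' _ _ h
    obtain ⟨P, hPT, hP', φ, hφ, hind⟩ := exists_of_mem_mapSub θ hθ hTS E hφ'
    subst hP'
    refine mem_mapSub_of _ hκ hTS E hφ φ'' (hP''.trans (imageAlong_comp θ hS' θ' P)) ?_
    intro x hx'
    have hxP' : θ ⟨x, hTS (hPT x.2)⟩ ∈ imageAlong θ P :=
      apply_mem_imageAlong θ (hTS (hPT x.2)) x.2
    have h1 := hind' ⟨θ ⟨x, hTS (hPT x.2)⟩, hxP'⟩ hx'
    have h2 := hind x hxP'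
    show φ'' ⟨θ' ⟨θ ⟨x, _⟩, _⟩, _⟩ = θ' ⟨θ ⟨φ x, _⟩, _⟩
    rw [h1]
    congr 2
  · intro h
    obtain ⟨P, hPT, hP'', φ, hφ, hind⟩ := exists_of_mem_mapSub _ hκ hTS E h
    have hφ' := pushHom_mem θ hθ hTS E hφ
    refine mem_mapSub_of θ' hθ' _ _ hφ' φ'' (hP''.trans (imageAlong_comp θ hS' θ' P).symm) ?_
    intro x' hx''
    obtain ⟨x, rfl⟩ := toIm_surjective θ (hPT.trans hTS) x'
    have h1 := hind x hx''
    refine h1.trans ?_
    show θ' ⟨θ ⟨φ x, _⟩, _⟩ = θ' ⟨_, _⟩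
    congr 2
    have e := pushHom_toIm θ hθ ((source_le E hφ).trans hTS) φ
      (fun x => hTS (apply_mem E hφ x)) x
    exact e.symm

/-! ### the inverse map -/

/-- The inverse of `θ`, defined on the image of `S`. -/
noncomputable def invHom (θ : ↥S →* Ω') (hθ : Function.Injective θ) : ↥(imageAlong θ S) →* Ω :=
  S.subtype.comp (toImEquiv θ hθ le_rfl).symm.toMonoidHom

theorem invHom_mem (θ : ↥S →* Ω') (hθ : Function.Injective θ) (y : ↥(imageAlong θ S)) :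
    invHom θ hθ y ∈ S := ((toImEquiv θ hθ le_rfl).symm y).2

theorem invHom_injective (θ : ↥S →* Ω') (hθ : Function.Injective θ) :
    Function.Injective (invHom θ hθ) := by
  intro a b h
  have h1 : (toImEquiv θ hθ le_rfl).symm a = (toImEquiv θ hθ le_rfl).symm b := Subtype.ext h
  exact (toImEquiv θ hθ le_rfl).symm.injective h1

theorem invHom_apply (θ : ↥S →* Ω') (hθ : Function.Injective θ) (s : S)
    (h : θ s ∈ imageAlong θ S) : invHom θ hθ ⟨θ s, h⟩ = s := by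
  unfold invHom
  have e : (⟨θ s, h⟩ : ↥(imageAlong θ S)) = toImEquiv θ hθ le_rfl s := Subtype.ext rfl
  show (((toImEquiv θ hθ le_rfl).symm ⟨θ s, h⟩ : S) : Ω) = s
  rw [e, MulEquiv.symm_apply_apply]

theorem apply_invHom (θ : ↥S →* Ω') (hθ : Function.Injective θ) (y : ↥(imageAlong θ S)) :
    θ ⟨invHom θ hθ y, invHom_mem θ hθ y⟩ = (y : Ω') :=
  toIm_symm_coe θ hθ le_rfl y

theorem invHom_comp (θ : ↥S →* Ω') (hθ : Function.Injective θ) :
    (invHom θ hθ).comp (θ.codRestrict (imageAlong θ S)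
      (fun s => apply_mem_imageAlong θ s.2 s.2)) = S.subtype := by
  ext s
  exact invHom_apply θ hθ s _

theorem comp_invHom (θ : ↥S →* Ω') (hθ : Function.Injective θ) :
    θ.comp ((invHom θ hθ).codRestrict S (invHom_mem θ hθ)) = (imageAlong θ S).subtype := by
  ext y
  exact apply_invHom θ hθ y

end Cfsg.Agent.Lib.Helper27.FIso
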