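import Cfsg.Agent.Lib.Helper27.Iso5

set_option autoImplicit false

namespace Cfsg.Agent.Lib.Helper27.FIso

open Cfsg Cfsg.FusionSystem Cfsg.Agent.Lib.Helper26 Cfsg.Agent.Lib.Helper27

variable {Ω : Type*} [Group Ω] {S : Subgroup Ω} {Ω' : Type*} [Group Ω']

theorem le_of_isNormalIn {T U : Subgroup Ω} {E : FusionSystem T} {D : FusionSystem U} {p : ℕ}
    (h : E.IsNormalIn D p) : T ≤ U := h.1.2.2.2.1.1

theorem mapSub_isSubnormalIn_aux [Finite S] (θ : ↥S →* Ω')
    (hθ : Function.Injective θ) {p : ℕ} {T U : Subgroup Ω} {E : FusionSystem T} {D : FusionSystem U}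
    (h : IsSubnormalIn E D p) : ∀ (_ : Fact p.Prime) (_ : IsPGroup p S) (hTS : T ≤ S) (hUS : U ≤ S),
      IsSubnormalIn (mapSub θ hθ hTS E) (mapSub θ hθ hUS D) p := by
  induction h with
  | refl F p => intro _ _ hTS hUS; exact IsSubnormalIn.refl _ _
  | step h1 h2 ih =>
    intro hp hS hTS hUS
    have hU₁ := (le_of_isNormalIn h2).trans hUS
    haveI := hp
    exact IsSubnormalIn.step (ih hp hS hTS hU₁) (mapSub_isNormalIn hS θ hθ hU₁ hUS _ _ h2)

theorem mapSub_isSubnormalIn [Finite S] {p : ℕ} [hp : Fact p.Prime] (hS : IsPGroup p S) (θ : ↥S →* Ω')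
    (hθ : Function.Injective θ) {T U : Subgroup Ω} {E : FusionSystem T} {D : FusionSystem U}
    (h : IsSubnormalIn E D p) (hTS : T ≤ S) (hUS : U ≤ S) :
    IsSubnormalIn (mapSub θ hθ hTS E) (mapSub θ hθ hUS D) p :=
  mapSub_isSubnormalIn_aux θ hθ h hp hS hTS hUS

theorem mapSub_hom_congr [Finite S] (θ : ↥S →* Ω') (hθ : Function.Injective θ)
    {T U : Subgroup Ω} (hTS : T ≤ S) (hUS : U ≤ S) (E : FusionSystem T) (D : FusionSystem U)
    (h : ∀ P : Subgroup Ω, E.Hom P = D.Hom P) (P' : Subgroup Ω') :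
    (mapSub θ hθ hTS E).Hom P' = (mapSub θ hθ hUS D).Hom P' := by
  apply Set.Subset.antisymm
  · exact mapSub_isSubsystemOf θ hθ hTS hUS E D (fun P => (h P).le) P'
  · exact mapSub_isSubsystemOf θ hθ hUS hTS D E (fun P => (h P).ge) P'

theorem mapSub_map_congr [Finite S] {θ₁ θ₂ : ↥S →* Ω'} (h : θ₁ = θ₂)
    (hθ₁ : Function.Injective θ₁) (hθ₂ : Function.Injective θ₂)
    {T : Subgroup Ω} (hTS : T ≤ S) (E : FusionSystem T) (P' : Subgroup Ω') :
    (mapSub θ₁ hθ₁ hTS E).Hom P' = (mapSub θ₂ hθ₂ hTS E).Hom P' := by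
  subst h
  rfl

theorem finite_imageAlong [Finite S] (θ : ↥S →* Ω') : Finite ↥(imageAlong θ S) :=
  Finite.of_surjective (toIm θ le_rfl) (toIm_surjective θ le_rfl)

theorem isPGroup_imageAlong {p : ℕ} (hS : IsPGroup p S) (θ : ↥S →* Ω') :
    IsPGroup p ↥(imageAlong θ S) :=
  hS.of_surjective (toIm θ le_rfl) (toIm_surjective θ le_rfl)

/-- `θ⁻¹` applied to the image of `F` gives back `F`. -/
theorem mapSub_inv_hom [Finite S] (θ : ↥S →* Ω') [Finite ↥(imageAlong θ S)]
    (hθ : Function.Injective θ)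
    {T : Subgroup Ω} (hTS : T ≤ S) (E : FusionSystem T) (P : Subgroup Ω) :
    (mapSub (invHom θ hθ) (invHom_injective θ hθ) (imageAlong_mono θ hTS)
      (mapSub θ hθ hTS E)).Hom P = E.Hom P := by
  have hκ : Function.Injective ((invHom θ hθ).comp (θ.codRestrict (imageAlong θ S)
      (fun s => apply_mem_imageAlong θ s.2 s.2))) := by
    rw [invHom_comp]; exact S.subtype_injective
  rw [mapSub_comp_hom θ hθ (fun s => apply_mem_imageAlong θ s.2 s.2) (invHom θ hθ)
    (invHom_injective θ hθ) hκ hTS E P,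
    mapSub_map_congr (invHom_comp θ hθ) hκ S.subtype_injective hTS E P,
    mapSub_subtype_hom hTS E P]

theorem imageAlong_inv_imageAlong (θ : ↥S →* Ω') (hθ : Function.Injective θ)
    {P : Subgroup Ω} (hPS : P ≤ S) :
    imageAlong (invHom θ hθ) (imageAlong θ P) = P := by
  rw [imageAlong_comp θ (fun s => apply_mem_imageAlong θ s.2 s.2), invHom_comp,
    imageAlong_subtype hPS]

/-- `θ` applied to the image under `θ⁻¹` gives back the system. -/
theorem mapSub_inv_hom' [Finite S] (θ : ↥S →* Ω') [Finite ↥(imageAlong θ S)]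
    (hθ : Function.Injective θ)
    {T' : Subgroup Ω'} (hT' : T' ≤ imageAlong θ S) (E' : FusionSystem T') (P' : Subgroup Ω') :
    (mapSub θ hθ (imageAlong_le_of_maps (invHom θ hθ) (invHom_mem θ hθ) T')
      (mapSub (invHom θ hθ) (invHom_injective θ hθ) hT' E')).Hom P' = E'.Hom P' := by
  have hκ : Function.Injective (θ.comp ((invHom θ hθ).codRestrict S (invHom_mem θ hθ))) := by
    rw [comp_invHom]; exact Subgroup.subtype_injective _
  rw [mapSub_comp_hom (invHom θ hθ) (invHom_injective θ hθ) (invHom_mem θ hθ) θ hθ hκ hT' E' P',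
    mapSub_map_congr (comp_invHom θ hθ) hκ (Subgroup.subtype_injective _) hT' E' P',
    mapSub_subtype_hom hT' E' P']

theorem mapSub_isSimple [Finite S] {p : ℕ} [Fact p.Prime] (hS : IsPGroup p S) (θ : ↥S →* Ω')
    (hθ : Function.Injective θ) (F : FusionSystem S) (h : F.IsSimple p) :
    (mapSub θ hθ le_rfl F).IsSimple p := by
  haveI := finite_imageAlong θ
  have hS' := isPGroup_imageAlong hS θ
  obtain ⟨hsat, hne, hsimp⟩ := h
  refine ⟨mapSub_saturated hS θ hθ le_rfl F hsat, ?_, ?_⟩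
  · intro hbot
    apply hne
    apply imageAlong_inj hθ le_rfl bot_le
    rw [hbot, imageAlong_bot]
  · intro T' E' hE'
    have hT'S' : T' ≤ imageAlong θ S := le_of_isNormalIn hE'
    have hN1 := mapSub_isNormalIn hS' (invHom θ hθ) (invHom_injective θ hθ) hT'S' le_rfl E' _ hE'
    have hbase : imageAlong (invHom θ hθ) (imageAlong θ S) = S :=
      imageAlong_inv_imageAlong θ hθ le_rfl
    have hF₁ := mapSub_inv_hom θ hθ le_rfl F
    have hN2 : (mapSub (invHom θ hθ) (invHom_injective θ hθ) hT'S' E').IsNormalIn F p :=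
      sys_congr (motive := fun A X =>
        (mapSub (invHom θ hθ) (invHom_injective θ hθ) hT'S' E').IsNormalIn X p) hbase _ F hF₁ hN1
    rcases hsimp _ _ hN2 with hA | ⟨hTeq, hhom⟩
    · left
      apply imageAlong_inj (invHom_injective θ hθ) hT'S' bot_le
      rw [hA, imageAlong_bot]
    · right
      refine ⟨?_, fun P' => ?_⟩
      · apply imageAlong_inj (invHom_injective θ hθ) hT'S' le_rfl
        rw [hTeq, hbase]
      · rw [← mapSub_inv_hom' θ hθ hT'S' E' P']
        exact mapSub_hom_congr θ hθ _ le_rfl _ F hhom P'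

end Cfsg.Agent.Lib.Helper27.FIso
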