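import Cfsg.Agent.Lib.Helper27.Iso6
import Cfsg.Agent.Lib.Helper27.FusJoin
import Cfsg.Agent.Lib.Helper26.FusionHyp

set_option autoImplicit false

namespace Cfsg.Agent.Lib.Helper27.FIso

open Cfsg Cfsg.FusionSystem Cfsg.Agent.Lib.Helper26 Cfsg.Agent.Lib.Helper27

variable {Ω : Type*} [Group Ω] {S : Subgroup Ω} {Ω' : Type*} [Group Ω']

theorem pResidual_map {p : ℕ} {G H : Type*} [Group G] [Group H] (f : G →* H) {g : G}
    (hg : g ∈ pResidual p G) : f g ∈ pResidual p H := by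
  unfold pResidual at hg ⊢
  induction hg using Subgroup.closure_induction with
  | mem x hx =>
    apply Subgroup.subset_closure
    exact Nat.Coprime.coprime_dvd_left (orderOf_map_dvd f x) hx
  | one => rw [map_one]; exact Subgroup.one_mem _
  | mul x y _ _ hx hy => rw [map_mul]; exact Subgroup.mul_mem _ hx hy
  | inv x _ hx => rw [map_inv]; exact Subgroup.inv_mem _ hx

/-- The homomorphism `Aut_C(P) → Aut_{C'}(θ P)`. -/
noncomputable def autMap [Finite S] (θ : ↥S →* Ω') (hθ : Function.Injective θ)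
    {U : Subgroup Ω} (hUS : U ≤ S) (C : FusionSystem U) {P : Subgroup Ω} (hPU : P ≤ U) :
    ↥(C.autGroup P) →* ↥((mapSub θ hθ hUS C).autGroup (imageAlong θ P)) :=
  MonoidHom.codRestrict ((autIso θ hθ (hPU.trans hUS)).toMonoidHom.comp (C.autGroup P).subtype) _
    (fun a => (autIso_mem_iff θ hθ hUS C hPU a.1).mpr a.2)

theorem autMap_coe [Finite S] (θ : ↥S →* Ω') (hθ : Function.Injective θ)
    {U : Subgroup Ω} (hUS : U ≤ S) (C : FusionSystem U) {P : Subgroup Ω} (hPU : P ≤ U)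
    (a : ↥(C.autGroup P)) :
    ((autMap θ hθ hUS C hPU a : ↥((mapSub θ hθ hUS C).autGroup (imageAlong θ P))) :
      MulAut ↥(imageAlong θ P)) = autIso θ hθ (hPU.trans hUS) a.1 := rfl

theorem mapSub_hyperfocal [Finite S] (θ : ↥S →* Ω') (hθ : Function.Injective θ) (p : ℕ)
    {U : Subgroup Ω} (hUS : U ≤ S) (C : FusionSystem U) :
    imageAlong θ (C.hyperfocalSubgroup p) ≤ (mapSub θ hθ hUS C).hyperfocalSubgroup p := by
  have key : ∀ u : Ω, u ∈ C.hyperfocalSubgroup p →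
      ∃ hu : u ∈ U, θ ⟨u, hUS hu⟩ ∈ (mapSub θ hθ hUS C).hyperfocalSubgroup p := by
    intro u hu
    unfold hyperfocalSubgroup at hu
    induction hu using Subgroup.closure_induction with
    | mem y hy =>
      obtain ⟨P, α, x, hPU, hα, rfl⟩ := hy
      have hxU : (x : Ω) ∈ U := hPU x.2
      have hαxU : (((α : MulAut P) x : P) : Ω) ∈ U := hPU ((α : MulAut P) x).2
      refine ⟨U.mul_mem (U.inv_mem hxU) hαxU, ?_⟩
      apply Subgroup.subset_closure
      refine ⟨imageAlong θ P, autMap θ hθ hUS C hPU α, toIm θ (hPU.trans hUS) x,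
        imageAlong_mono θ hPU, pResidual_map _ hα, ?_⟩
      rw [autMap_coe, autIso_toIm]
      show θ ⟨(x : Ω)⁻¹ * _, _⟩ = (θ ⟨x, _⟩)⁻¹ * θ ⟨_, _⟩
      rw [← map_inv, ← map_mul]
      rfl
    | one =>
      refine ⟨U.one_mem, ?_⟩
      have : (⟨1, hUS U.one_mem⟩ : S) = 1 := rfl
      rw [this, map_one]
      exact Subgroup.one_mem _
    | mul x y _ _ hx hy =>
      obtain ⟨hxU, hx'⟩ := hx
      obtain ⟨hyU, hy'⟩ := hy
      refine ⟨U.mul_mem hxU hyU, ?_⟩
      have : (⟨x * y, hUS (U.mul_mem hxU hyU)⟩ : S) = ⟨x, hUS hxU⟩ * ⟨y, hUS hyU⟩ := rfl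
      rw [this, map_mul]
      exact Subgroup.mul_mem _ hx' hy'
    | inv x _ hx =>
      obtain ⟨hxU, hx'⟩ := hx
      refine ⟨U.inv_mem hxU, ?_⟩
      have : (⟨x⁻¹, hUS (U.inv_mem hxU)⟩ : S) = ⟨x, hUS hxU⟩⁻¹ := rfl
      rw [this, map_inv]
      exact Subgroup.inv_mem _ hx'
  intro y hy
  obtain ⟨u, huS, hu, rfl⟩ := mem_imageAlong.mp hy
  obtain ⟨_, h⟩ := key u hu
  exact h

theorem mapSub_isCentral [Finite S] (θ : ↥S →* Ω') (hθ : Function.Injective θ)
    {U : Subgroup Ω} (hUS : U ≤ S) (C : FusionSystem U) {Q : Subgroup Ω} (hQ : C.IsCentral Q) :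
    (mapSub θ hθ hUS C).IsCentral (imageAlong θ Q) := by
  refine ⟨imageAlong_mono θ hQ.1, fun P' φ' hφ' => ?_⟩
  obtain ⟨P, hPU, rfl⟩ := mapSub_source_le θ hθ hUS C hφ'
  obtain ⟨φ, hφ, hind⟩ := (mem_mapSub_iff θ hθ hUS C hPU φ').mp hφ'
  obtain ⟨ψ, hψ, hψ1, hψ2⟩ := hQ.2 P φ hφ
  have hPS := hPU.trans hUS
  have hQS := hQ.1.trans hUS
  have hPQS : P ⊔ Q ≤ S := sup_le hPS hQS
  have himg : imageAlong θ (P ⊔ Q) = imageAlong θ P ⊔ imageAlong θ Q := imageAlong_sup θ hPS hQS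
  have hψ' := pushHom_mem θ hθ hUS C hψ
  obtain ⟨ψ', hψ'mem, hψ'e⟩ := hom_cast _ himg _ hψ'
  have hpush := fun z => pushHom_toIm θ hθ hPQS ψ (fun z => hUS (apply_mem C hψ z)) z
  refine ⟨ψ', hψ'mem, fun x' => ?_, fun x' => ?_⟩
  · obtain ⟨x, rfl⟩ := toIm_surjective θ hPS x'
    have hx0 : θ ⟨x, hPS x.2⟩ ∈ imageAlong θ (P ⊔ Q) :=
      apply_mem_imageAlong θ (hPS x.2) (le_sup_left (a := P) x.2)
    have e0 : Subgroup.inclusion (le_sup_left : imageAlong θ P ≤ imageAlong θ P ⊔ imageAlong θ Q)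
        (toIm θ hPS x) = ⟨θ ⟨x, hPS x.2⟩, himg.le hx0⟩ := Subtype.ext rfl
    rw [e0, hψ'e _ hx0, hom_apply_coe θ hPQS hpush ⟨_, hx0⟩ x (le_sup_left (a := P) x.2) rfl,
      hind x]
    congr 2
    exact hψ1 x
  · obtain ⟨x, rfl⟩ := toIm_surjective θ hQS x'
    have hx0 : θ ⟨x, hQS x.2⟩ ∈ imageAlong θ (P ⊔ Q) :=
      apply_mem_imageAlong θ (hQS x.2) (le_sup_right (a := P) x.2)
    have e0 : Subgroup.inclusion (le_sup_right : imageAlong θ Q ≤ imageAlong θ P ⊔ imageAlong θ Q)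
        (toIm θ hQS x) = ⟨θ ⟨x, hQS x.2⟩, himg.le hx0⟩ := Subtype.ext rfl
    rw [e0, hψ'e _ hx0, hom_apply_coe θ hPQS hpush ⟨_, hx0⟩ x (le_sup_right (a := P) x.2) rfl]
    show θ ⟨_, _⟩ = θ ⟨x, _⟩
    congr 2
    exact hψ2 x

theorem imageAlong_center_le [Finite S] (θ : ↥S →* Ω') (hθ : Function.Injective θ)
    {U : Subgroup Ω} (hUS : U ≤ S) (C : FusionSystem U) :
    imageAlong θ C.center ≤ (mapSub θ hθ hUS C).center := by
  haveI : Finite U := finite_of_le hUS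
  exact le_sSup (mapSub_isCentral θ hθ hUS C (isCentral_center C))

theorem imageAlong_apply_inv (θ : ↥S →* Ω') (hθ : Function.Injective θ) {P' : Subgroup Ω'}
    (hP' : P' ≤ imageAlong θ S) : imageAlong θ (imageAlong (invHom θ hθ) P') = P' := by
  rw [imageAlong_comp (invHom θ hθ) (invHom_mem θ hθ) θ, comp_invHom, imageAlong_subtype hP']

theorem imageAlong_center [Finite S] (θ : ↥S →* Ω') (hθ : Function.Injective θ)
    {U : Subgroup Ω} (hUS : U ≤ S) (C : FusionSystem U) :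
    imageAlong θ C.center = (mapSub θ hθ hUS C).center := by
  apply le_antisymm (imageAlong_center_le θ hθ hUS C)
  haveI := finite_imageAlong θ
  haveI : Finite ↥(imageAlong θ U) := finite_of_le (imageAlong_mono θ hUS)
  have hU' : imageAlong θ U ≤ imageAlong θ S := imageAlong_mono θ hUS
  have hZ' : (mapSub θ hθ hUS C).center ≤ imageAlong θ U := (isCentral_center _).1
  have h1 := imageAlong_center_le (invHom θ hθ) (invHom_injective θ hθ) hU' (mapSub θ hθ hUS C)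
  have hbase : imageAlong (invHom θ hθ) (imageAlong θ U) = U := imageAlong_inv_imageAlong θ hθ hUS
  have h2 : imageAlong (invHom θ hθ) (mapSub θ hθ hUS C).center ≤ C.center :=
    sys_congr (motive := fun A X =>
      imageAlong (invHom θ hθ) (mapSub θ hθ hUS C).center ≤ X.center) hbase _ C
      (mapSub_inv_hom θ hθ hUS C) h1
  have h3 := imageAlong_mono θ h2
  rwa [imageAlong_apply_inv θ hθ (hZ'.trans hU')] at h3

end Cfsg.Agent.Lib.Helper27.FIso
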