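import Cfsg.Agent.Lib.Helper27.Iso7

set_option autoImplicit false

namespace Cfsg.Agent.Lib.Helper27.FIso

open Cfsg Cfsg.FusionSystem Cfsg.Agent.Lib.Helper26 Cfsg.Agent.Lib.Helper27

variable {Ω : Type*} [Group Ω] {S : Subgroup Ω} {Ω₁ : Type*} [Group Ω₁] {S₁ : Subgroup Ω₁}
  {Ω₂ : Type*} [Group Ω₂] {S₂ : Subgroup Ω₂}

theorem preimageAlong_comp (θ₁ : ↥S →* Ω₁) (h₁ : ∀ s : S, θ₁ s ∈ S₁) (θ₂ : ↥S₁ →* Ω₂)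
    (P₂ : Subgroup Ω₂) :
    preimageAlong (θ₂.comp (θ₁.codRestrict S₁ h₁)) P₂ =
      preimageAlong θ₁ (preimageAlong θ₂ P₂) := by
  ext y
  rw [mem_preimageAlong, mem_preimageAlong]
  constructor
  · rintro ⟨hy, h⟩
    exact ⟨hy, mem_preimageAlong.mpr ⟨h₁ _, h⟩⟩
  · rintro ⟨hy, h⟩
    obtain ⟨_, h'⟩ := mem_preimageAlong.mp h
    exact ⟨hy, h'⟩

/-- Composition of factor systems. -/
theorem factor_comp [Finite S] {F : FusionSystem S} {K₁ : Subgroup Ω} (hK₁ : F.StronglyClosed K₁)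
    {θ₁ : ↥S →* Ω₁} {F₁ : FusionSystem S₁} (h₁ : F.IsFactorSystem K₁ θ₁ F₁)
    {K₂ : Subgroup Ω₁} {θ₂ : ↥S₁ →* Ω₂} {F₂ : FusionSystem S₂} (h₂ : F₁.IsFactorSystem K₂ θ₂ F₂)
    (hm : ∀ s : S, θ₁ s ∈ S₁) :
    F.IsFactorSystem (preimageAlong θ₁ K₂) (θ₂.comp (θ₁.codRestrict S₁ hm)) F₂ := by
  refine ⟨preimageAlong_le θ₁ K₂, fun s => ?_, ?_, fun P₂ φ₂ => ?_⟩
  · show θ₂ ⟨θ₁ s, hm s⟩ = 1 ↔ _
    rw [h₂.2.1 ⟨θ₁ s, hm s⟩, mem_preimageAlong]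
    constructor
    · intro h; exact ⟨s.2, h⟩
    · rintro ⟨_, h⟩; exact h
  · rw [← h₂.2.2.1]
    ext y
    constructor
    · rintro ⟨s, rfl⟩; exact ⟨⟨θ₁ s, hm s⟩, rfl⟩
    · rintro ⟨s₁, rfl⟩
      have hs₁ : (s₁ : Ω₁) ∈ θ₁.range := by rw [h₁.2.2.1]; exact s₁.2
      obtain ⟨s, hs⟩ := hs₁
      refine ⟨s, ?_⟩
      show θ₂ ⟨θ₁ s, hm s⟩ = θ₂ s₁
      congr 1
      exact Subtype.ext hs
  · have hpc := preimageAlong_comp θ₁ hm θ₂ P₂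
    constructor
    · intro hφ₂
      obtain ⟨hP₂, φ₁, hφ₁, hQ₁, hφ₁S, hmem₁, hind₁⟩ := (h₂.2.2.2 P₂ φ₂).mp hφ₂
      obtain ⟨-, φ, hφ, hQ, hφS, hmem, hind⟩ := (h₁.2.2.2 _ φ₁).mp hφ₁
      obtain ⟨φt, hφt, hφte⟩ := hom_cast F hpc.symm φ hφ
      refine ⟨hP₂, φt, hφt, preimageAlong_le _ _, fun x => apply_mem F hφt x,
        fun x => (mem_preimageAlong.mp x.2).2, fun x => ?_⟩
      have hx : (x : Ω) ∈ preimageAlong θ₁ (preimageAlong θ₂ P₂) := hpc.le x.2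
      have e1 := hind ⟨x, hx⟩
      have e2 := hind₁ ⟨θ₁ ⟨x, hQ hx⟩, hmem ⟨x, hx⟩⟩
      have e3 : φt x = φ ⟨x, hx⟩ := hφte x hx x.2
      show φ₂ ⟨θ₂ ⟨θ₁ ⟨x, _⟩, _⟩, _⟩ = θ₂ ⟨θ₁ ⟨φt x, _⟩, _⟩
      refine e2.trans ?_
      congr 2
      rw [e1]
      congr 2
      exact e3.symm
    · rintro ⟨hP₂, φt, hφt, hQt, hφtS, hmemt, hindt⟩
      obtain ⟨φ, hφ, hφe⟩ := hom_cast F hpc φt hφt
      have hP₁ : preimageAlong θ₂ P₂ ≤ S₁ := preimageAlong_le θ₂ P₂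
      obtain ⟨φ₁, hφ₁ind⟩ := exists_induced F hK₁ h₁.2.1 h₁.2.2.1 hP₁ hφ
      have hφ₁ : φ₁ ∈ F₁.Hom (preimageAlong θ₂ P₂) :=
        (h₁.2.2.2 _ φ₁).mpr ⟨hP₁, φ, hφ, hφ₁ind⟩
      obtain ⟨hQ, hφS, hmem, hind⟩ := hφ₁ind
      refine (h₂.2.2.2 P₂ φ₂).mpr ⟨hP₂, φ₁, hφ₁, hP₁, fun y => apply_mem F₁ hφ₁ y,
        fun y => (mem_preimageAlong.mp y.2).2, fun y => ?_⟩
      obtain ⟨x, hx⟩ := exists_preimage_of_mem_range h₁.2.2.1 hP₁ y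
      have hxt : (x : Ω) ∈ preimageAlong (θ₂.comp (θ₁.codRestrict S₁ hm)) P₂ := hpc.ge x.2
      have e1 := hind x
      have e2 := hindt ⟨x, hxt⟩
      have e3 : φ x = φt ⟨x, hxt⟩ := hφe x hxt x.2
      have ey : y = ⟨θ₁ ⟨x, hQ x.2⟩, hmem x⟩ := Subtype.ext hx.symm
      rw [ey]
      refine Eq.trans ?_ (e2.trans ?_)
      · rfl
      · show θ₂ ⟨θ₁ ⟨φt ⟨x, hxt⟩, _⟩, _⟩ = θ₂ ⟨φ₁ ⟨θ₁ ⟨x, _⟩, _⟩, _⟩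
        congr 2
        rw [e1]
        congr 2
        exact e3.symm

/-- Factor systems of one system read through equal maps have the same maps. -/
theorem factor_unique {F : FusionSystem S} {K₁ K₂ : Subgroup Ω} {κ₁ κ₂ : ↥S →* Ω₁}
    (hκ : κ₁ = κ₂) {A₁ A₂ : Subgroup Ω₁} {E₁ : FusionSystem A₁} {E₂ : FusionSystem A₂}
    (h₁ : F.IsFactorSystem K₁ κ₁ E₁) (h₂ : F.IsFactorSystem K₂ κ₂ E₂) :
    A₁ = A₂ ∧ ∀ P : Subgroup Ω₁, E₁.Hom P = E₂.Hom P := by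
  subst hκ
  have hA : A₁ = A₂ := h₁.2.2.1.symm.trans h₂.2.2.1
  refine ⟨hA, fun P => ?_⟩
  ext φ
  rw [h₁.2.2.2, h₂.2.2.2, hA]

end Cfsg.Agent.Lib.Helper27.FIso
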