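import Cfsg.Agent.Lib.Helper27.Iso8

set_option autoImplicit false

namespace Cfsg.Agent.Lib.Helper27.FIso

open Cfsg Cfsg.FusionSystem Cfsg.Agent.Lib.Helper26 Cfsg.Agent.Lib.Helper27

variable {Ω : Type*} [Group Ω] {S : Subgroup Ω} {Ω' : Type*} [Group Ω']

theorem map_center_subgroupOf [Finite S] (θ : ↥S →* Ω') (hθ : Function.Injective θ)
    {U : Subgroup Ω} (hUS : U ≤ S) (C : FusionSystem U) :
    ((C.center).subgroupOf U).map (toImEquiv θ hθ hUS).toMonoidHom =
      ((mapSub θ hθ hUS C).center).subgroupOf (imageAlong θ U) := by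
  have hc := imageAlong_center θ hθ hUS C
  ext y
  rw [Subgroup.mem_subgroupOf, ← hc]
  constructor
  · rintro ⟨u, hu, rfl⟩
    exact apply_mem_imageAlong θ (hUS u.2) (Subgroup.mem_subgroupOf.mp hu)
  · intro hy
    obtain ⟨z, hzS, hz, hzy⟩ := mem_imageAlong.mp hy
    have hzU : z ∈ U := mem_of_apply_mem_imageAlong hθ hzS (by rw [hzy]; exact y.2)
    refine ⟨⟨z, hzU⟩, Subgroup.mem_subgroupOf.mpr hz, Subtype.ext ?_⟩
    exact hzy

theorem mapSub_quasisimple [Finite S] {p : ℕ} [Fact p.Prime] (hS : IsPGroup p S) (θ : ↥S →* Ω')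
    (hθ : Function.Injective θ) {U : Subgroup Ω} (hUS : U ≤ S) (C : FusionSystem U)
    (hC : C.Quasisimple p) : (mapSub θ hθ hUS C).Quasisimple p := by
  haveI : Finite U := finite_of_le hUS
  have hUp : IsPGroup p U := hS.to_le hUS
  obtain ⟨hsat, hhyp, hquot⟩ := hC
  refine ⟨mapSub_saturated hS θ hθ hUS C hsat, ?_, ?_⟩
  · apply le_antisymm (hyperfocal_le _ p)
    have h := mapSub_hyperfocal θ hθ p hUS C
    rwa [hhyp] at h
  · intro E₀' hE₀'
    -- the canonical quotient of `C`
    have hZc : C.IsCentral C.center := isCentral_center C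
    have hZsc : C.StronglyClosed C.center := stronglyClosed_of_isCentral' C hZc
    have hker : ∀ s : U, QuotientGroup.mk' ((C.center).subgroupOf U) s = 1 ↔
        (s : Ω) ∈ C.center := by
      intro s
      rw [QuotientGroup.mk'_apply, QuotientGroup.eq_one_iff, Subgroup.mem_subgroupOf]
    have hr : (QuotientGroup.mk' ((C.center).subgroupOf U)).range =
        (⊤ : Subgroup (↥U ⧸ (C.center).subgroupOf U)) :=
      MonoidHom.range_eq_top.mpr (QuotientGroup.mk'_surjective _)
    have hE₀ := factorSystem_isFactorSystem C hZsc _ hker hr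
    have hsimple := hquot _ hE₀
    -- the induced isomorphism of quotients
    let ē := QuotientGroup.congr ((C.center).subgroupOf U)
      (((mapSub θ hθ hUS C).center).subgroupOf (imageAlong θ U)) (toImEquiv θ hθ hUS)
      (map_center_subgroupOf θ hθ hUS C)
    let ι : ↥(⊤ : Subgroup (↥U ⧸ (C.center).subgroupOf U)) →*
        (↥(imageAlong θ U) ⧸ ((mapSub θ hθ hUS C).center).subgroupOf (imageAlong θ U)) :=
      ē.toMonoidHom.comp (⊤ : Subgroup (↥U ⧸ (C.center).subgroupOf U)).subtype
    have hι : Function.Injective ι :=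
      ē.injective.comp (Subgroup.subtype_injective _)
    have hTp : IsPGroup p ↥(⊤ : Subgroup (↥U ⧸ (C.center).subgroupOf U)) :=
      (hUp.to_quotient _).to_subgroup _
    have hsimple₁ := mapSub_isSimple hTp ι hι _ hsimple
    have hfac₁ := factor_comp hZsc hE₀ (mapSub_isFactorSystem ι hι le_rfl _)
      (fun _ => Subgroup.mem_top _)
    have hfac₂ := factor_comp (stronglyClosed_bot C) (mapSub_isFactorSystem θ hθ hUS C) hE₀'
      (fun s => apply_mem_imageAlong θ (hUS s.2) s.2)
    have hκ : (res ι le_rfl).comp ((QuotientGroup.mk' ((C.center).subgroupOf U)).codRestrict ⊤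
          (fun _ => Subgroup.mem_top _)) =
        (QuotientGroup.mk' (((mapSub θ hθ hUS C).center).subgroupOf (imageAlong θ U))).comp
          ((res θ hUS).codRestrict (imageAlong θ U)
            (fun s => apply_mem_imageAlong θ (hUS s.2) s.2)) := by
      ext u
      exact QuotientGroup.congr_mk ((C.center).subgroupOf U) _ (toImEquiv θ hθ hUS)
        (map_center_subgroupOf θ hθ hUS C) u
    obtain ⟨hA, hhom⟩ := factor_unique hκ hfac₁ hfac₂
    exact sys_congr (motive := fun A X => X.IsSimple p) hA _ E₀' hhom hsimple₁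

theorem mapSub_isComponentIn [Finite S] {p : ℕ} [Fact p.Prime] (hS : IsPGroup p S) (θ : ↥S →* Ω')
    (hθ : Function.Injective θ) {U V : Subgroup Ω} (hUS : U ≤ S) (hVS : V ≤ S)
    (C : FusionSystem U) (D : FusionSystem V) (hC : C.IsComponentIn D p) :
    (mapSub θ hθ hUS C).IsComponentIn (mapSub θ hθ hVS D) p :=
  ⟨mapSub_isSubnormalIn hS θ hθ hC.1 hUS hVS, mapSub_quasisimple hS θ hθ hUS C hC.2⟩

end Cfsg.Agent.Lib.Helper27.FIso
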