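import Mathlib
import Cfsg.Agent.Lib.Helper27.ThFun

/-!
# The characteristic functor on subgroups built from a functor on finite `p`-groups
-/

set_option autoImplicit false

namespace Cfsg.Agent.Lib.Helper27.Tr

open Cfsg Cfsg.Agent.Lib.Helper27.Th

universe u

/-- the value of the functor on a subgroup -/
noncomputable def funW (p : ℕ) (W : ∀ (Q : Type u) [Group Q], Subgroup Q) {Ω : Type u} [Group Ω]
    (S : Subgroup Ω) : Subgroup Ω :=
  @ite _ (Finite S ∧ IsPGroup p S) (Classical.propDecidable _) ((W ↥S).map S.subtype) ⊥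

theorem funW_pos (p : ℕ) (W : ∀ (Q : Type u) [Group Q], Subgroup Q) {Ω : Type u} [Group Ω]
    (S : Subgroup Ω) (h : Finite S ∧ IsPGroup p S) : funW p W S = (W ↥S).map S.subtype := by
  unfold funW
  rw [if_pos h]

theorem funW_neg (p : ℕ) (W : ∀ (Q : Type u) [Group Q], Subgroup Q) {Ω : Type u} [Group Ω]
    (S : Subgroup Ω) (h : ¬ (Finite S ∧ IsPGroup p S)) : funW p W S = ⊥ := by
  unfold funW
  rw [if_neg h]

/-- the characteristic functor built from `W` -/
noncomputable def funOf (p : ℕ) (W : ∀ (Q : Type u) [Group Q], Subgroup Q)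
    (hW1 : ∀ (Q : Type u) [Group Q] [Finite Q], IsPGroup p Q → Nontrivial Q → W Q ≠ ⊥)
    (hW2 : ∀ (Q R : Type u) [Group Q] [Group R] [Finite Q], IsPGroup p Q →
      ∀ φ : Q ≃* R, (W Q).map φ.toMonoidHom = W R) : CharFunctor.{u} p where
  W S := funW p W S
  le := by
    intro Ω _ S
    by_cases h : Finite S ∧ IsPGroup p S
    · rw [funW_pos p W S h]
      exact Subgroup.map_subtype_le _
    · rw [funW_neg p W S h]
      exact bot_le
  ne_bot := by
    intro Ω _ S _ hS hne
    rw [funW_pos p W S ⟨inferInstance, hS⟩]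
    haveI : Nontrivial ↥S := (Subgroup.nontrivial_iff_ne_bot S).mpr hne
    have h1 := hW1 ↥S hS inferInstance
    intro h2
    exact h1 ((Subgroup.map_eq_bot_iff_of_injective _ S.subtype_injective).mp h2)
  map := by
    intro Ω Ω' _ _ f hf S
    by_cases h : Finite S ∧ IsPGroup p S
    · obtain ⟨hfin, hSp⟩ := h
      haveI := hfin
      have h' : Finite ↥(S.map f) ∧ IsPGroup p ↥(S.map f) :=
        ⟨Finite.of_equiv _ (S.equivMapOfInjective f hf).toEquiv, hSp.map f⟩
      rw [funW_pos p W S ⟨hfin, hSp⟩, funW_pos p W (S.map f) h',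
        ← hW2 ↥S ↥(S.map f) hSp (S.equivMapOfInjective f hf), Subgroup.map_map, Subgroup.map_map]
      congr 1
    · have h' : ¬ (Finite ↥(S.map f) ∧ IsPGroup p ↥(S.map f)) := by
        rintro ⟨hfin, hp⟩
        apply h
        haveI := hfin
        exact ⟨Finite.of_equiv _ (S.equivMapOfInjective f hf).symm.toEquiv,
          hp.of_equiv (S.equivMapOfInjective f hf).symm⟩
      rw [funW_neg p W S h, funW_neg p W (S.map f) h', Subgroup.map_bot]

theorem funOf_W (p : ℕ) (W : ∀ (Q : Type u) [Group Q], Subgroup Q)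
    (hW1 : ∀ (Q : Type u) [Group Q] [Finite Q], IsPGroup p Q → Nontrivial Q → W Q ≠ ⊥)
    (hW2 : ∀ (Q R : Type u) [Group Q] [Group R] [Finite Q], IsPGroup p Q →
      ∀ φ : Q ≃* R, (W Q).map φ.toMonoidHom = W R) {Ω : Type u} [Group Ω] (S : Subgroup Ω)
    [Finite S] (hS : IsPGroup p S) : (funOf p W hW1 hW2).W S = (W ↥S).map S.subtype :=
  funW_pos p W S ⟨inferInstance, hS⟩

end Cfsg.Agent.Lib.Helper27.Tr
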