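import Mathlib
import Cfsg.Agent.Lib.Helper27.GTCore

/-!
# A refinement of the Alperin–Goldschmidt theorem

If `F ≰ E`, some automorphism group `Aut_F(U)` is not contained in `Aut_E(U)` while all maps of `F`
with a source of larger order lie in `E`.
-/

set_option autoImplicit false

namespace Cfsg.Agent.Lib.Helper27.Qd

open Cfsg Cfsg.FusionSystem Cfsg.Agent.Lib.Helper26 Cfsg.Agent.Lib.Helper27
  Cfsg.Agent.Lib.Helper27.GT

universe u

variable {Ω : Type u} [Group Ω] {S : Subgroup Ω}

/-- the maps of `F` which have a source of order at most `n` or lie in `E` -/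
def truncSys [Finite S] (F E : FusionSystem S) (n : ℕ) : FusionSystem S where
  Hom P := {φ | φ ∈ F.Hom P ∧ (Nat.card P ≤ n ∨ φ ∈ E.Hom P)}
  le_of_mem h := F.le_of_mem h.1
  injective_of_mem h := F.injective_of_mem h.1
  conj_mem hP hg := ⟨F.conj_mem hP hg, Or.inr (E.conj_mem hP hg)⟩
  comp_mem := by
    rintro P Q φ ψ ⟨hφ, hφ'⟩ ⟨hψ, hψ'⟩ h
    refine ⟨F.comp_mem hφ hψ h, ?_⟩
    rcases hφ' with hn | hφE
    · exact Or.inl hn
    · rcases hψ' with hn | hψE
      · left
        haveI : Finite Q := finite_of_le (F.le_of_mem hψ).1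
        have h1 : Nat.card P ≤ Nat.card Q :=
          Nat.card_le_card_of_injective (φ.codRestrict Q h)
            (fun a b hab => F.injective_of_mem hφ (congrArg Subtype.val hab))
        omega
      · exact Or.inr (E.comp_mem hφE hψE h)
  inv_mem := by
    rintro P φ ⟨hφ, hφ'⟩
    obtain ⟨ψ, hψ, hinv⟩ := F.inv_mem hφ
    refine ⟨ψ, ⟨hψ, ?_⟩, hinv⟩
    rcases hφ' with hn | hφE
    · left
      have h1 : Nat.card φ.range = Nat.card P :=
        (Nat.card_congr (MonoidHom.ofInjective (F.injective_of_mem hφ)).toEquiv).symm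
      omega
    · right
      obtain ⟨ψ', hψ', hinv'⟩ := E.inv_mem hφE
      have : ψ = ψ' := by
        ext y
        obtain ⟨_, x, rfl⟩ := y
        rw [hinv x, hinv' x]
      rw [this]
      exact hψ'

theorem mem_truncSys [Finite S] {F E : FusionSystem S} {n : ℕ} {P : Subgroup Ω} {φ : P →* Ω} :
    φ ∈ (truncSys F E n).Hom P ↔ φ ∈ F.Hom P ∧ (Nat.card P ≤ n ∨ φ ∈ E.Hom P) := Iff.rfl

/-- all maps of `F` with a source of order larger than `n` lie in `E` -/
def Big (n : ℕ) (F E : FusionSystem S) : Prop :=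
  ∀ (P : Subgroup Ω) (φ : P →* Ω), φ ∈ F.Hom P → n < Nat.card P → φ ∈ E.Hom P

theorem exists_max_bad [Finite S] {p : ℕ} [Fact p.Prime] (hS : IsPGroup p S)
    (F : FusionSystem S) (hF : F.IsSaturated p) (E : FusionSystem S) (h : ¬ F ≤ E) :
    ∃ (U : Subgroup Ω) (β : MulAut U), U ≤ S ∧ β ∈ F.autGroup U ∧ β ∉ E.autGroup U ∧
      Big (Nat.card U) F E := by
  have hne : {U : Subgroup Ω | U ≤ S ∧ ¬ F.autGroup U ≤ E.autGroup U}.Nonempty := by
    by_contra hcon
    rw [Set.not_nonempty_iff_eq_empty] at hcon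
    apply h
    apply Cfsg.Agent.S5082.result p hS F hF E
    intro P hP
    have hPS : P ≤ S := by
      rcases hP with rfl | hP
      · exact le_rfl
      · exact hP.1.1
    by_contra hle
    have : P ∈ {U : Subgroup Ω | U ≤ S ∧ ¬ F.autGroup U ≤ E.autGroup U} := ⟨hPS, hle⟩
    rw [hcon] at this
    exact this
  obtain ⟨U, ⟨hUS, hU⟩, hmax⟩ := exists_max_nat _ hne (fun U => Nat.card U) (Nat.card S)
    (fun U hU => card_le_card_of_le_of_finite hU.1)
  obtain ⟨β, hβF, hβE⟩ := SetLike.not_le_iff_exists.mp hU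
  refine ⟨U, β, hUS, hβF, hβE, ?_⟩
  have hle : F ≤ truncSys F E (Nat.card U) := by
    apply Cfsg.Agent.S5082.result p hS F hF
    intro P hP
    have hPS : P ≤ S := by
      rcases hP with rfl | hP
      · exact le_rfl
      · exact hP.1.1
    intro α hα
    rw [mem_autGroup_iff _ hPS, mem_truncSys]
    refine ⟨(mem_autGroup_iff F hPS).mp hα, ?_⟩
    by_cases hc : Nat.card P ≤ Nat.card U
    · exact Or.inl hc
    · right
      have hPle : F.autGroup P ≤ E.autGroup P := by
        by_contra hnle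
        exact hc (hmax P ⟨hPS, hnle⟩)
      exact (mem_autGroup_iff E hPS).mp (hPle hα)
  intro P φ hφ hn
  rcases (hle P hφ).2 with h1 | h1
  · omega
  · exact h1

end Cfsg.Agent.Lib.Helper27.Qd
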