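import Mathlib
import Cfsg.Agent.Lib.Helper27.QdTrunc

/-!
# Bad witnesses: automorphisms of `F` outside `E` normalizing a subgroup, and climbing
-/

set_option autoImplicit false

namespace Cfsg.Agent.Lib.Helper27.Qd

open Cfsg Cfsg.FusionSystem Cfsg.Agent.Lib.Helper26 Cfsg.Agent.Lib.Helper27
  Cfsg.Agent.Lib.Helper27.GT

universe u

variable {Ω : Type u} [Group Ω] {S : Subgroup Ω}

/-- an automorphism in `F` but not in `E` of a subgroup `U` of order `n` with `V ≤ U ≤ N_S(V)`,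
leaving `V` invariant -/
def BadWit (n : ℕ) (F E : FusionSystem S) (V : Subgroup Ω) : Prop :=
  ∃ (U : Subgroup Ω) (β : MulAut U), V ≤ U ∧ U ≤ normalizerIn S V ∧ Nat.card U = n ∧
    β ∈ F.autGroup U ∧ β ∉ E.autGroup U ∧ ∀ x : U, (x : Ω) ∈ V → ((β x : U) : Ω) ∈ V

theorem congr_symm_congr {A B : Type*} [Group A] [Group B] (e : A ≃* B) (β : MulAut A) :
    MulAut.congr e.symm (MulAut.congr e β) = β := by
  ext x
  simp [MulAut.congr]

/-- transport of bad witnesses along a map defined on a large normalizer -/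
theorem badWit_transport [Finite S] {n : ℕ} {F E : FusionSystem S} (hbig : Big n F E)
    {X V : Subgroup Ω} (hXS : X ≤ S) (M : NormalizerHom F X V)
    (hcard : n < Nat.card (normalizerIn S X)) (h : BadWit n F E X) : BadWit n F E V := by
  obtain ⟨U, β, hXU, hUN, hUn, hβ, hβE, hinv⟩ := h
  have hres : M.φ.comp (Subgroup.inclusion hUN) ∈ F.Hom U := restrict_mem F M.mem hUN
  have hME : M.φ ∈ E.Hom (normalizerIn S X) := hbig _ _ M.mem hcard
  have hresE : M.φ.comp (Subgroup.inclusion hUN) ∈ E.Hom U := restrict_mem E hME hUN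
  obtain ⟨e, he, hex⟩ := exists_iso_of_hom F hres rfl
  have heE : IsIso E e := mem_of_forall_eq E hresE (fun x => hex x)
  refine ⟨(M.φ.comp (Subgroup.inclusion hUN)).range, MulAut.congr e β, ?_, ?_, ?_,
    congr_mem_autGroup he hβ, ?_, ?_⟩
  · intro y hy
    obtain ⟨x, rfl⟩ := M.exists_preimage hXS hy
    exact ⟨⟨x, hXU x.2⟩, rfl⟩
  · rintro _ ⟨x, rfl⟩
    exact M.maps _
  · rw [← hUn]
    exact (Nat.card_congr e.toEquiv).symm
  · intro hcon
    apply hβE
    have := congr_mem_autGroup heE.symm hcon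
    rwa [congr_symm_congr] at this
  · intro y hy
    obtain ⟨x', hx'⟩ := M.exists_preimage hXS hy
    have hy' : ((e (e.symm y) : _) : Ω) = (y : Ω) := by rw [MulEquiv.apply_symm_apply]
    rw [hex] at hy'
    have hxx : (⟨(e.symm y : U), hUN (e.symm y).2⟩ : ↥(normalizerIn S X)) =
        ⟨x', le_normalizerIn_self hXS x'.2⟩ := by
      apply M.injective
      rw [hx']
      exact hy'
    have hxX : ((e.symm y : U) : Ω) ∈ X := by
      have := congrArg (fun r : ↥(normalizerIn S X) => (r : Ω)) hxx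
      simp only at this
      rw [this]
      exact x'.2
    have h2 := hinv (e.symm y) hxX
    show (((MulAut.congr e β) y : _) : Ω) ∈ V
    have h3 : (MulAut.congr e β) y = e (β (e.symm y)) := rfl
    rw [h3, hex]
    exact M.apply_mem_of_mem hXS ⟨_, h2⟩

/-- a bad witness for `V` normalizes any normal subgroup `X` of `N_F(V)` -/
theorem badWit_of_isNormal [Finite S] {n : ℕ} {F E : FusionSystem S} (hbig : Big n F E)
    {V : Subgroup Ω} (hVS : V ≤ S) (hbad : BadWit n F E V) {X : Subgroup Ω}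
    (hXnorm : (normalizerSystem F V hVS).IsNormal X)
    (hRX : normalizerIn S V ≤ normalizerIn S X) : BadWit n F E X := by
  obtain ⟨U, β, hVU, hUN, hUn, hβ, hβE, hinv⟩ := hbad
  have hUS : U ≤ S := hUN.trans (normalizerIn_le S V)
  haveI : Finite U := finite_of_le hUS
  have hβN : U.subtype.comp β.toMonoidHom ∈ (normalizerSystem F V hVS).Hom U :=
    mem_normalizerHom_of_aut F hVU hUN hβ hinv
  obtain ⟨ψ, hψ, hext, hmapX⟩ := hXnorm.2 U _ hβN
  have hψF : ψ ∈ F.Hom (U ⊔ X) := hψ.1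
  have hXU : X ≤ U := by
    by_contra hXU
    apply hβE
    have hUXS : U ⊔ X ≤ S := source_le F hψF
    haveI : Finite ↥(U ⊔ X) := finite_of_le hUXS
    have hlt : U < U ⊔ X := lt_of_le_of_ne le_sup_left (fun h => hXU (h ▸ le_sup_right))
    have hcard : n < Nat.card ↥(U ⊔ X) := hUn ▸ card_lt_card_of_lt hlt
    have hψE : ψ ∈ E.Hom (U ⊔ X) := hbig _ _ hψF hcard
    rw [mem_autGroup_iff E hUS]
    exact mem_of_forall_eq E (restrict_mem E hψE le_sup_left) (fun x => (hext x).symm)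
  refine ⟨U, β, hXU, hUN.trans hRX, hUn, hβ, hβE, fun x hx => ?_⟩
  have h1 : ψ (Subgroup.inclusion le_sup_left x) ∈ (X.subgroupOf (U ⊔ X)).map ψ :=
    ⟨_, Subgroup.mem_subgroupOf.mpr hx, rfl⟩
  rw [hmapX, hext x] at h1
  exact h1

/-- climbing -/
theorem bad_climb [Finite S] {p : ℕ} [Fact p.Prime] (hS : IsPGroup p S) (F : FusionSystem S)
    (hF : F.IsSaturated p) {E : FusionSystem S} {n : ℕ} (hbig : Big n F E) {V : Subgroup Ω}
    (hVn : F.IsFullyNormalized V) (hbad : BadWit n F E V) (hR : normalizerIn S V ≠ S)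
    {X : Subgroup Ω} (hXne : X ≠ ⊥) (hXR : X ≤ normalizerIn S V)
    (hXnorm : (normalizerSystem F V hVn.1).IsNormal X)
    (hle : normalizerIn S (normalizerIn S V) ≤ normalizerIn S X) :
    ∃ V' : Subgroup Ω, V' ≠ ⊥ ∧ F.IsFullyNormalized V' ∧ BadWit n F E V' ∧
      Nat.card (normalizerIn S V) < Nat.card (normalizerIn S V') := by
  have hRS : normalizerIn S V ≤ S := normalizerIn_le S V
  haveI : Finite ↥(normalizerIn S V) := finite_of_le hRS
  have hXS : X ≤ S := hXR.trans hRS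
  have hRX : normalizerIn S V ≤ normalizerIn S X := (le_normalizerIn_self hRS).trans hle
  have hbadX := badWit_of_isNormal hbig hVn.1 hbad hXnorm hRX
  have hlt : normalizerIn S V < normalizerIn S (normalizerIn S V) := lt_normalizerIn hS hRS hR
  haveI : Finite ↥(normalizerIn S (normalizerIn S V)) := finite_of_le (normalizerIn_le _ _)
  haveI : Finite ↥(normalizerIn S X) := finite_of_le (normalizerIn_le _ _)
  have h1 := card_lt_card_of_lt hlt
  have h2 : Nat.card ↥(normalizerIn S (normalizerIn S V)) ≤ Nat.card ↥(normalizerIn S X) :=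
    Nat.card_le_card_of_injective (Subgroup.inclusion hle) (Subgroup.inclusion_injective _)
  have hn : n ≤ Nat.card ↥(normalizerIn S V) := by
    obtain ⟨U, -, -, hUN, hUn, -⟩ := hbad
    rw [← hUn]
    exact Nat.card_le_card_of_injective (Subgroup.inclusion hUN) (Subgroup.inclusion_injective _)
  obtain ⟨V', hXV', hV'n⟩ := exists_fullyNormalized_conj F hXS
  obtain ⟨-, hV'a, hV'r⟩ := saturated_fullyNormalized hS F hF hV'n
  obtain ⟨M⟩ := nonempty_normalizerHom hS F hV'a hV'r hXV'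
  refine ⟨V', ?_, hV'n, badWit_transport hbig hXS M (by omega) hbadX, ?_⟩
  · intro h
    have h1 := Cfsg.Agent.S5082.card_eq_of_isConj F hXV'
    rw [h, Subgroup.card_bot] at h1
    exact hXne (Subgroup.eq_bot_of_card_eq _ h1)
  · haveI : Finite ↥(normalizerIn S V') := finite_of_le (normalizerIn_le _ _)
    have h3 : Nat.card ↥(normalizerIn S X) ≤ Nat.card ↥(normalizerIn S V') :=
      Nat.card_le_card_of_injective (fun x => (⟨M.φ x, M.maps x⟩ : ↥(normalizerIn S V')))
        (fun a b hab => M.injective (congrArg Subtype.val hab))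
    omega

/-- if `F ≰ E` then some nontrivial normal subgroup of `S` has a bad witness -/
theorem exists_bad_normal [Finite S] {p : ℕ} [Fact p.Prime] (hS : IsPGroup p S)
    (F : FusionSystem S) (hF : F.IsSaturated p) (E : FusionSystem S) (hnot : ¬ F ≤ E)
    (hAutS : F.autGroup S ≤ E.autGroup S)
    (hclimb : ∀ (V : Subgroup Ω) (hVn : F.IsFullyNormalized V), V ≠ ⊥ → normalizerIn S V ≠ S →
      ∃ X : Subgroup Ω, X ≠ ⊥ ∧ X ≤ normalizerIn S V ∧
        (normalizerSystem F V hVn.1).IsNormal X ∧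
        normalizerIn S (normalizerIn S V) ≤ normalizerIn S X) :
    ∃ (n : ℕ) (V : Subgroup Ω), Big n F E ∧ V ≤ S ∧ S ≤ Subgroup.normalizer (V : Set Ω) ∧
      V ≠ ⊥ ∧ BadWit n F E V := by
  obtain ⟨U₀, β₀, hU₀S, hβ₀F, hβ₀E, hbig⟩ := exists_max_bad hS F hF E hnot
  have hU₀top : U₀ ≠ S := by
    rintro rfl
    exact hβ₀E (hAutS hβ₀F)
  have hU₀ne : U₀ ≠ ⊥ := by
    rintro rfl
    apply hβ₀E
    have : β₀ = 1 := by
      ext x
      have hx : (x : Ω) = 1 := Subgroup.mem_bot.mp x.2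
      have hx1 : x = 1 := Subtype.ext hx
      rw [hx1, map_one, map_one]
    rw [this]
    exact Subgroup.one_mem _
  have hbad₀ : BadWit (Nat.card U₀) F E U₀ :=
    ⟨U₀, β₀, le_rfl, le_normalizerIn_self hU₀S, rfl, hβ₀F, hβ₀E, fun x _ => (β₀ x).2⟩
  haveI : Finite ↥(normalizerIn S U₀) := finite_of_le (normalizerIn_le S U₀)
  have hlt₀ := card_lt_card_of_lt (lt_normalizerIn hS hU₀S hU₀top)
  obtain ⟨V₁, hUV₁, hV₁n⟩ := exists_fullyNormalized_conj F hU₀S
  obtain ⟨-, hV₁a, hV₁r⟩ := saturated_fullyNormalized hS F hF hV₁n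
  obtain ⟨M⟩ := nonempty_normalizerHom hS F hV₁a hV₁r hUV₁
  have hbad₁ := badWit_transport hbig hU₀S M hlt₀ hbad₀
  have hV₁ne : V₁ ≠ ⊥ := by
    intro h
    have h1 := Cfsg.Agent.S5082.card_eq_of_isConj F hUV₁
    rw [h, Subgroup.card_bot] at h1
    exact hU₀ne (Subgroup.eq_bot_of_card_eq _ h1)
  obtain ⟨V, ⟨hVne, hVn, hbadV⟩, hVmax⟩ := exists_max_nat
    {V : Subgroup Ω | V ≠ ⊥ ∧ F.IsFullyNormalized V ∧ BadWit (Nat.card U₀) F E V}
    ⟨V₁, hV₁ne, hV₁n, hbad₁⟩ (fun V => Nat.card (normalizerIn S V)) (Nat.card S)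
    (fun V _ => card_le_card_of_le_of_finite (normalizerIn_le S V))
  have hNS : normalizerIn S V = S := by
    by_contra hR
    obtain ⟨X, hXne, hXR, hXnorm, hle⟩ := hclimb V hVn hVne hR
    obtain ⟨V', hV'ne, hV'n, hbad', hlt⟩ :=
      bad_climb hS F hF hbig hVn hbadV hR hXne hXR hXnorm hle
    have := hVmax V' ⟨hV'ne, hV'n, hbad'⟩
    omega
  exact ⟨Nat.card U₀, V, hbig, hVn.1, inf_eq_left.mp hNS, hVne, hbadV⟩

end Cfsg.Agent.Lib.Helper27.Qd
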