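import Mathlib
import Cfsg.Agent.Lib.Helper27.QdBad
import Cfsg.Agent.Lib.Helper27.GTQuot

/-!
# Automorphisms acting trivially modulo a normal subgroup on which the system acts through `S`
-/

set_option autoImplicit false

namespace Cfsg.Agent.Lib.Helper27.Qd

open Cfsg Cfsg.FusionSystem Cfsg.Agent.Lib.Helper26 Cfsg.Agent.Lib.Helper27
  Cfsg.Agent.Lib.Helper27.GT

universe u

variable {Ω : Type u} [Group Ω] {S : Subgroup Ω}

/-- a refinement of `exists_max_bad`: the source may be taken fully normalized -/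
theorem exists_max_bad_fn [Finite S] {p : ℕ} [Fact p.Prime] (hS : IsPGroup p S)
    (F : FusionSystem S) (hF : F.IsSaturated p) (E : FusionSystem S) (h : ¬ F ≤ E) :
    ∃ (U : Subgroup Ω) (β : MulAut U), F.IsFullyNormalized U ∧ β ∈ F.autGroup U ∧
      β ∉ E.autGroup U ∧ Big (Nat.card U) F E := by
  have hfn : ∀ P : Subgroup Ω, (P = S ∨ F.IsEssential p P) → F.IsFullyNormalized P := by
    intro P hP
    rcases hP with rfl | hP
    · exact fullyNormalized_of_normal F le_rfl Subgroup.le_normalizer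
    · exact hP.2.1
  have hne : {U : Subgroup Ω | F.IsFullyNormalized U ∧
      ¬ F.autGroup U ≤ E.autGroup U}.Nonempty := by
    by_contra hcon
    rw [Set.not_nonempty_iff_eq_empty] at hcon
    apply h
    apply Cfsg.Agent.S5082.result p hS F hF E
    intro P hP
    by_contra hle
    have : P ∈ {U : Subgroup Ω | F.IsFullyNormalized U ∧ ¬ F.autGroup U ≤ E.autGroup U} :=
      ⟨hfn P hP, hle⟩
    rw [hcon] at this
    exact this
  obtain ⟨U, ⟨hUn, hU⟩, hmax⟩ := exists_max_nat _ hne (fun U => Nat.card U) (Nat.card S)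
    (fun U hU => card_le_card_of_le_of_finite hU.1.1)
  obtain ⟨β, hβF, hβE⟩ := SetLike.not_le_iff_exists.mp hU
  refine ⟨U, β, hUn, hβF, hβE, ?_⟩
  have hle : F ≤ truncSys F E (Nat.card U) := by
    apply Cfsg.Agent.S5082.result p hS F hF
    intro P hP
    have hPn := hfn P hP
    have hPS : P ≤ S := hPn.1
    intro α hα
    rw [mem_autGroup_iff _ hPS, mem_truncSys]
    refine ⟨(mem_autGroup_iff F hPS).mp hα, ?_⟩
    by_cases hc : Nat.card P ≤ Nat.card U
    · exact Or.inl hc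
    · right
      have hPle : F.autGroup P ≤ E.autGroup P := by
        by_contra hnle
        exact hc (hmax P ⟨hPn, hnle⟩)
      exact (mem_autGroup_iff E hPS).mp (hPle hα)
  intro P φ hφ hn
  rcases (hle P hφ).2 with h1 | h1
  · omega
  · exact h1

/-- an automorphism acting trivially on a `p`-subgroup `T` and modulo `T` has `p`-power order -/
theorem pow_eq_one_of_stable {U : Type*} [Group U] {p : ℕ} [Fact p.Prime] (T : Subgroup U) [Finite T]
    (hT : IsPGroup p T) (β : MulAut U)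
    (h1 : ∀ t ∈ T, β t = t) (h2 : ∀ x : U, x⁻¹ * β x ∈ T) : ∃ a : ℕ, β ^ (p ^ a) = 1 := by
  have hpow : ∀ (n : ℕ) (x : U), (β ^ n) x = x * (x⁻¹ * β x) ^ n := by
    intro n
    induction n with
    | zero => intro x; simp
    | succ n ih =>
      intro x
      rw [pow_succ', MulAut.mul_apply, ih, map_mul, map_pow, h1 _ (h2 x),
        pow_succ' (x⁻¹ * β x), ← mul_assoc, mul_inv_cancel_left]
  obtain ⟨a, ha⟩ := hT.exists_card_eq
  refine ⟨a, ?_⟩
  ext x
  rw [hpow, MulAut.one_apply]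
  have : (⟨x⁻¹ * β x, h2 x⟩ : T) ^ Nat.card T = 1 := pow_card_eq_one'
  rw [ha] at this
  have := congrArg Subtype.val this
  rw [Subgroup.coe_pow, Subgroup.coe_one] at this
  rw [this, mul_one]

section D

variable [Finite S] {p : ℕ} [Fact p.Prime]

/-- automorphisms of `U ≥ V` in the system acting trivially modulo `V` -/
def trivMod (F : FusionSystem S) (V U : Subgroup Ω) : Subgroup (MulAut U) where
  carrier := {δ | δ ∈ F.autGroup U ∧ ∀ u : U, (u : Ω)⁻¹ * ((δ u : U) : Ω) ∈ V}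
  one_mem' := ⟨Subgroup.one_mem _, fun u => by simp⟩
  mul_mem' := by
    rintro a b ⟨ha, ha'⟩ ⟨hb, hb'⟩
    refine ⟨Subgroup.mul_mem _ ha hb, fun u => ?_⟩
    have h1 := hb' u
    have h2 := ha' (b u)
    have e : (u : Ω)⁻¹ * (((a * b) u : U) : Ω) =
        ((u : Ω)⁻¹ * ((b u : U) : Ω)) * (((b u : U) : Ω)⁻¹ * ((a (b u) : U) : Ω)) := by
      rw [MulAut.mul_apply]
      group
    rw [e]
    exact V.mul_mem h1 h2
  inv_mem' := by
    rintro a ⟨ha, ha'⟩
    refine ⟨Subgroup.inv_mem _ ha, fun u => ?_⟩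
    have h1 := ha' (a⁻¹ u)
    rw [MulAut.apply_inv_self] at h1
    have e : (u : Ω)⁻¹ * ((a⁻¹ u : U) : Ω) = (((a⁻¹ u : U) : Ω)⁻¹ * (u : Ω))⁻¹ := by group
    rw [e]
    exact V.inv_mem h1

theorem mem_trivMod {F : FusionSystem S} {V U : Subgroup Ω} {δ : MulAut U} :
    δ ∈ trivMod F V U ↔ δ ∈ F.autGroup U ∧ ∀ u : U, (u : Ω)⁻¹ * ((δ u : U) : Ω) ∈ V := Iff.rfl

theorem aut_apply_mem_of_stronglyClosed {F : FusionSystem S} {V U : Subgroup Ω}
    (hV : F.StronglyClosed V) (hUS : U ≤ S) {γ : MulAut U} (hγ : γ ∈ F.autGroup U) (u : U)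
    (hu : (u : Ω) ∈ V) : ((γ u : U) : Ω) ∈ V :=
  apply_mem_of_stronglyClosed F hV ((mem_autGroup_iff F hUS).mp hγ) u hu

theorem trivMod_conj {F : FusionSystem S} {V U : Subgroup Ω} (hV : F.StronglyClosed V)
    (hUS : U ≤ S) {γ δ : MulAut U} (hγ : γ ∈ F.autGroup U) (hδ : δ ∈ trivMod F V U) :
    γ⁻¹ * δ * γ ∈ trivMod F V U := by
  obtain ⟨hδ1, hδ2⟩ := hδ
  refine ⟨Subgroup.mul_mem _ (Subgroup.mul_mem _ (Subgroup.inv_mem _ hγ) hδ1) hγ, fun u => ?_⟩
  have h1 := hδ2 (γ u)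
  have h2 := aut_apply_mem_of_stronglyClosed hV hUS (Subgroup.inv_mem _ hγ)
    ((γ u)⁻¹ * δ (γ u)) h1
  have e : (u : Ω)⁻¹ * (((γ⁻¹ * δ * γ) u : U) : Ω) =
      ((γ⁻¹ ((γ u)⁻¹ * δ (γ u)) : U) : Ω) := by
    rw [map_mul, map_inv, MulAut.inv_apply_self]
    rfl
  rw [e]
  exact h2

theorem trivMod_isPGroup (hS : IsPGroup p S) {F : FusionSystem S} {V U : Subgroup Ω}
    (hV : F.StronglyClosed V) (hVU : V ≤ U) (hUS : U ≤ S)
    (hP : ∀ γ ∈ F.autGroup U, ∃ s ∈ S, ∀ u : U, (u : Ω) ∈ V →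
      ((γ u : U) : Ω) = s * (u : Ω) * s⁻¹) : IsPGroup p ↥(trivMod F V U) := by
  have hVS : V ≤ S := hV.1
  haveI : Finite ↥(V.subgroupOf U) := by
    haveI : Finite U := finite_of_le hUS
    infer_instance
  have hTp : IsPGroup p ↥(V.subgroupOf U) := (hS.to_le hUS).to_subgroup _
  rintro ⟨δ, hδ⟩
  obtain ⟨s, hs, hsV⟩ := hP δ hδ.1
  obtain ⟨a, ha⟩ := hS ⟨s, hs⟩
  have ha' : s ^ (p ^ a) = 1 := by
    have := congrArg Subtype.val ha
    simpa using this
  have hpowmem : ∀ n : ℕ, δ ^ n ∈ trivMod F V U := fun n => Subgroup.pow_mem _ hδ n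
  have hpow : ∀ (n : ℕ) (u : U), (u : Ω) ∈ V →
      (((δ ^ n) u : U) : Ω) = s ^ n * (u : Ω) * (s ^ n)⁻¹ := by
    intro n
    induction n with
    | zero => intro u _; simp
    | succ n ih =>
      intro u hu
      have hmem : (((δ ^ n) u : U) : Ω) ∈ V :=
        aut_apply_mem_of_stronglyClosed hV hUS (hpowmem n).1 u hu
      rw [pow_succ', MulAut.mul_apply, hsV _ hmem, ih u hu, pow_succ']
      group
  have h1 : ∀ t ∈ V.subgroupOf U, (δ ^ (p ^ a)) t = t := by
    intro t ht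
    apply Subtype.ext
    rw [hpow _ t (Subgroup.mem_subgroupOf.mp ht), ha']
    simp
  have h2 : ∀ x : U, x⁻¹ * (δ ^ (p ^ a)) x ∈ V.subgroupOf U := by
    intro x
    rw [Subgroup.mem_subgroupOf]
    exact (hpowmem (p ^ a)).2 x
  obtain ⟨b, hb⟩ := pow_eq_one_of_stable (V.subgroupOf U) hTp (δ ^ (p ^ a)) h1 h2
  refine ⟨a + b, ?_⟩
  apply Subtype.ext
  show δ ^ (p ^ (a + b)) = 1
  rw [pow_add, pow_mul, hb]

/-- in a saturated system acting on `V` through `S`, the automorphisms of a fully normalized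
`U ≥ V` acting trivially modulo `V` are induced by `S` -/
theorem trivMod_le_autInducedBy (hS : IsPGroup p S) (F : FusionSystem S) (hF : F.IsSaturated p)
    {V U : Subgroup Ω} (hV : F.StronglyClosed V) (hVU : V ≤ U) (hUn : F.IsFullyNormalized U)
    (hP : ∀ γ ∈ F.autGroup U, ∃ s ∈ S, ∀ u : U, (u : Ω) ∈ V →
      ((γ u : U) : Ω) = s * (u : Ω) * s⁻¹) : trivMod F V U ≤ autInducedBy S U := by
  have hUS : U ≤ S := hUn.1
  haveI : Finite (MulAut U) := GT.finite_mulAut_of_le hUS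
  obtain ⟨-, hUa, -⟩ := saturated_fullyNormalized hS F hF hUn
  have hsyl : IsSylowIn p (F.autGroup U) (autInducedBy S U) := hUa.2
  have hle : trivMod F V U ≤ F.autGroup U := fun δ hδ => hδ.1
  obtain ⟨g, hg, hconj⟩ := hsyl.exists_conj_le hle (trivMod_isPGroup hS hV hVU hUS hP)
  intro δ hδ
  have h1 := hconj _ (trivMod_conj hV hUS hg hδ)
  have e : g * (g⁻¹ * δ * g) * g⁻¹ = δ := by group
  rwa [e] at h1

end D

end Cfsg.Agent.Lib.Helper27.Qd
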