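import Mathlib
import Cfsg.Agent.Lib.Helper27.QdKey1
import Cfsg.Agent.Lib.Helper27.HFreeEmbed3
import Cfsg.Agent.Lib.Helper27.FusFactorSat

/-!
# Normal subgroups of a factor system lift, when the system acts on the kernel through `S`
-/

set_option autoImplicit false

namespace Cfsg.Agent.Lib.Helper27.Qd

open Cfsg Cfsg.FusionSystem Cfsg.Agent.Lib.Helper26 Cfsg.Agent.Lib.Helper27
  Cfsg.Agent.Lib.Helper27.GT

universe u

variable {Ω : Type u} [Group Ω] {S : Subgroup Ω}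

theorem isNormal_preimage_of_factor [Finite S] {p : ℕ} [Fact p.Prime] (hS : IsPGroup p S)
    (F : FusionSystem S) (hF : F.IsSaturated p) {V : Subgroup Ω} (hVn : F.IsNormal V)
    (hP : ∀ U : Subgroup Ω, V ≤ U → U ≤ S → ∀ γ ∈ F.autGroup U, ∃ s ∈ S, ∀ u : U,
      (u : Ω) ∈ V → ((γ u : U) : Ω) = s * (u : Ω) * s⁻¹)
    {Ω' : Type u} [Group Ω'] {S' : Subgroup Ω'} {θ : ↥S →* Ω'} {E' : FusionSystem S'}
    (hE' : F.IsFactorSystem V θ E') {X' : Subgroup Ω'} (hX' : E'.IsNormal X') :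
    F.IsNormal (preimageAlong θ X') := by
  have hVS : V ≤ S := hVn.1
  have hVsc : F.StronglyClosed V := stronglyClosed_of_isNormal F hVn
  have hXS : preimageAlong θ X' ≤ S := preimageAlong_le θ X'
  haveI : Finite ↥(preimageAlong θ X') := finite_of_le hXS
  have hSX : S ≤ Subgroup.normalizer ((preimageAlong θ X' : Subgroup Ω) : Set Ω) := by
    intro s hs
    refine HFree.mem_normalizer_of_forall_finite (fun y hy => ?_)
    obtain ⟨hyS, hy'⟩ := mem_preimageAlong.mp hy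
    refine mem_preimageAlong.mpr ⟨S.mul_mem (S.mul_mem hs hyS) (S.inv_mem hs), ?_⟩
    have e : θ ⟨s * y * s⁻¹, S.mul_mem (S.mul_mem hs hyS) (S.inv_mem hs)⟩ =
        θ ⟨s, hs⟩ * θ ⟨y, hyS⟩ * (θ ⟨s, hs⟩)⁻¹ := by
      rw [← map_inv, ← map_mul, ← map_mul]
      rfl
    rw [e]
    have hθs : θ ⟨s, hs⟩ ∈ S' := hE'.2.2.1 ▸ ⟨_, rfl⟩
    exact conj_mem_of_mem_normalizer (mem_normalizer_of_isNormal E' hX' hθs) ⟨_, hy'⟩
  by_contra hnot
  have hnle : ¬ F ≤ normSys F (preimageAlong θ X') hXS hSX := by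
    intro hle
    apply hnot
    refine ⟨hXS, fun P φ hφ => ?_⟩
    have := hle P hφ
    rw [normSys_hom] at this
    exact this.2.2.2
  obtain ⟨U, β, hUn, hβ, hβE, hbig⟩ := exists_max_bad_fn hS F hF _ hnle
  have hUS : U ≤ S := hUn.1
  haveI : Finite U := finite_of_le hUS
  have hβ' : U.subtype.comp β.toMonoidHom ∈ F.Hom U := (mem_autGroup_iff F hUS).mp hβ
  have hVU : V ≤ U := by
    by_contra hVU
    obtain ⟨ψ, hψ, hext, -⟩ := hVn.2 U _ hβ'
    have hlt : U < U ⊔ V := lt_of_le_of_ne le_sup_left (fun h => hVU (h ▸ le_sup_right))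
    have hUVS := source_le F hψ
    haveI : Finite ↥(U ⊔ V) := finite_of_le hUVS
    have hψE := hbig _ _ hψ (card_lt_card_of_lt hlt)
    apply hβE
    rw [mem_autGroup_iff _ hUS]
    exact mem_of_forall_eq _ (restrict_mem _ hψE le_sup_left) (fun x => (hext x).symm)
  -- the induced map and its extension
  obtain ⟨β₁, hβ₁, hβ₁e⟩ := factor_induce_hom hVsc hE' hUS hVU hβ'
  obtain ⟨ψ₁, hψ₁, hext₁, hmap₁⟩ := hX'.2 _ β₁ hβ₁
  obtain ⟨-, ψ, hψ, hA, hψS, hmemA, hind⟩ := (hE'.2.2.2 _ _).mp hψ₁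
  have hUA : U ≤ preimageAlong θ ((U.subgroupOf S).map θ ⊔ X') := by
    intro u hu
    exact mem_preimageAlong.mpr ⟨hUS hu,
      (le_sup_left : (U.subgroupOf S).map θ ≤ _) ⟨⟨u, hUS hu⟩, Subgroup.mem_subgroupOf.mpr hu, rfl⟩⟩
  have hXA : preimageAlong θ X' ≤ preimageAlong θ ((U.subgroupOf S).map θ ⊔ X') :=
    preimageAlong_mono θ le_sup_right
  have key1 : ∀ u : U, θ ⟨ψ ⟨u, hUA u.2⟩, hψS _⟩ = θ ⟨β u, hUS (β u).2⟩ := by
    intro u
    have h1 := hind ⟨u, hUA u.2⟩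
    have hmemU : θ ⟨u, hUS u.2⟩ ∈ (U.subgroupOf S).map θ :=
      ⟨⟨u, hUS u.2⟩, Subgroup.mem_subgroupOf.mpr u.2, rfl⟩
    have h2 := hext₁ ⟨θ ⟨u, hUS u.2⟩, hmemU⟩
    have h3 := hβ₁e u hmemU
    rw [← h1]
    have e : (⟨θ ⟨((⟨u, hUA u.2⟩ : ↥(preimageAlong θ ((U.subgroupOf S).map θ ⊔ X'))) : Ω),
        hA (hUA u.2)⟩, hmemA ⟨u, hUA u.2⟩⟩ : ↥((U.subgroupOf S).map θ ⊔ X')) =
        Subgroup.inclusion le_sup_left ⟨θ ⟨u, hUS u.2⟩, hmemU⟩ := Subtype.ext rfl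
    rw [e, h2, h3]
    rfl
  have key2 : ∀ x : ↥(preimageAlong θ ((U.subgroupOf S).map θ ⊔ X')),
      (x : Ω) ∈ preimageAlong θ X' → ψ x ∈ preimageAlong θ X' := by
    intro x hx
    obtain ⟨hxS, hx'⟩ := mem_preimageAlong.mp hx
    refine mem_preimageAlong.mpr ⟨hψS x, ?_⟩
    rw [← hind x]
    exact hmap₁.le ⟨_, Subgroup.mem_subgroupOf.mpr hx', rfl⟩
  -- the restriction of `ψ` to `U` is an automorphism
  have hψU : ψ.comp (Subgroup.inclusion hUA) ∈ F.Hom U := restrict_mem F hψ hUA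
  have hψUle : (ψ.comp (Subgroup.inclusion hUA)).range ≤ U := by
    rintro _ ⟨u, rfl⟩
    show ψ ⟨u, hUA u.2⟩ ∈ U
    have h1 : ψ ⟨u, hUA u.2⟩ * ((β u : U) : Ω)⁻¹ ∈ V := by
      have h2 : θ (⟨ψ ⟨u, hUA u.2⟩, hψS _⟩ * ⟨β u, hUS (β u).2⟩⁻¹) = 1 := by
        rw [map_mul, map_inv, key1 u, mul_inv_cancel]
      exact (hE'.2.1 _).mp h2
    have e : ψ ⟨u, hUA u.2⟩ = (ψ ⟨u, hUA u.2⟩ * ((β u : U) : Ω)⁻¹) * ((β u : U) : Ω) := by
      group
    rw [e]
    exact U.mul_mem (hVU h1) (β u).2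
  have hr := range_eq_of_range_le F hψU hψUle
  have hγF : autOfHom F hψU hr ∈ F.autGroup U := autOfHom_mem F hψU hr
  have hγe : ∀ u : U, (((autOfHom F hψU hr) u : U) : Ω) = ψ ⟨u, hUA u.2⟩ := fun u => rfl
  have hNX : normalizerIn S (preimageAlong θ X') = S := normalizerIn_eq_self hSX
  have hγE : autOfHom F hψU hr ∈ (normSys F (preimageAlong θ X') hXS hSX).autGroup U := by
    rw [mem_autGroup_iff _ hUS, normSys_hom]
    refine ⟨(mem_autGroup_iff F hUS).mp hγF, ?_, fun x => ?_,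
      ψ.comp (Subgroup.inclusion (sup_le hUA hXA)), restrict_mem F hψ _, fun x => rfl, ?_⟩
    · rw [hNX]
      exact hUS
    · rw [hNX]
      exact hUS (autOfHom F hψU hr x).2
    · apply Subgroup.eq_of_le_of_card_ge
      · rintro _ ⟨x, hx, rfl⟩
        exact key2 _ (Subgroup.mem_subgroupOf.mp hx)
      · rw [Subgroup.card_map_of_injective
          (F.injective_of_mem (restrict_mem F hψ (sup_le hUA hXA)))]
        exact (Nat.card_congr (Subgroup.subgroupOfEquivOfLe le_sup_right).toEquiv).ge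
  -- the quotient of the two automorphisms
  have hδF : (autOfHom F hψU hr)⁻¹ * β ∈ F.autGroup U :=
    Subgroup.mul_mem _ (Subgroup.inv_mem _ hγF) hβ
  have hδE : (autOfHom F hψU hr)⁻¹ * β ∉
      (normSys F (preimageAlong θ X') hXS hSX).autGroup U := by
    intro h
    apply hβE
    have e : β = autOfHom F hψU hr * ((autOfHom F hψU hr)⁻¹ * β) := by group
    rw [e]
    exact Subgroup.mul_mem _ hγE h
  have hδV : ∀ u : U, (u : Ω)⁻¹ * ((((autOfHom F hψU hr)⁻¹ * β) u : U) : Ω) ∈ V := by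
    intro u
    have h1 : (autOfHom F hψU hr) (((autOfHom F hψU hr)⁻¹ * β) u) = β u := by
      rw [MulAut.mul_apply, MulAut.apply_inv_self]
    have h2 := key1 (((autOfHom F hψU hr)⁻¹ * β) u)
    have h3 : θ ⟨β u, hUS (β u).2⟩ =
        θ ⟨β (((autOfHom F hψU hr)⁻¹ * β) u), hUS (β _).2⟩ := by
      rw [← h2]
      congr 2
      rw [← hγe, h1]
    have h4 : ((β (u⁻¹ * ((autOfHom F hψU hr)⁻¹ * β) u) : U) : Ω) ∈ V := by
      apply (hE'.2.1 ⟨_, hUS (β _).2⟩).mp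
      have e : (⟨β (u⁻¹ * ((autOfHom F hψU hr)⁻¹ * β) u), hUS (β _).2⟩ : S) =
          ⟨β u, hUS (β u).2⟩⁻¹ * ⟨β (((autOfHom F hψU hr)⁻¹ * β) u), hUS (β _).2⟩ := by
        apply Subtype.ext
        rw [map_mul, map_inv]
        rfl
      rw [e, map_mul, map_inv, h3, inv_mul_cancel]
    have h5 := aut_apply_mem_of_stronglyClosed hVsc hUS (Subgroup.inv_mem _ hβ) _ h4
    rw [MulAut.inv_apply_self] at h5
    exact h5
  have := trivMod_le_autInducedBy hS F hF hVsc hVU hUn (hP U hVU hUS) ⟨hδF, hδV⟩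
  exact hδE (autInducedBy_le_autGroup _ hUS this)

end Cfsg.Agent.Lib.Helper27.Qd
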