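import Mathlib
import Cfsg.Agent.Lib.Helper27.HFreeMain
import Cfsg.Agent.Lib.Helper26.FusionCentric

/-!
# Models of local subsystems of a saturated subsystem: setup and realization (first direction)

`F' ≤ F` saturated over the same `S`, `R` fully normalized in `F'` and centric in `F`, `U` a fully
normalized `F`-conjugate of `R` through `α : N_S(R) → N_S(U)`, and `L` a model of `N_F(U)`.
Then the subgroup `M` of `L` of the elements inducing on `R` an automorphism in `Aut_{F'}(R)` is a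
model of `N_{F'}(R)`.
-/

set_option autoImplicit false

namespace Cfsg.Agent.Lib.Helper27.Qd

open Cfsg Cfsg.FusionSystem Cfsg.Agent.Lib.Helper26 Cfsg.Agent.Lib.Helper27
  Cfsg.Agent.Lib.Helper27.HFree

universe u

variable {Ω : Type u} [Group Ω] {S : Subgroup Ω}

/-- the data -/
structure SubSetup (p : ℕ) (F : FusionSystem S) where
  F' : FusionSystem S
  hle : F' ≤ F
  hF' : F'.IsSaturated p
  R : Subgroup Ω
  hRn : F'.IsFullyNormalized R
  hRc : F.IsCentric R
  N' : FusionSystem (normalizerIn S R)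
  hN' : F'.IsNormalizerSystem R N'
  U : Subgroup Ω
  hUn : F.IsFullyNormalized U
  α : NormalizerHom F R U
  L : Type u
  [grp : Group L]
  [fin : Finite L]
  ι : ↥(normalizerIn S U) →* L
  hmod : (normalizerSystem F U hUn.1).IsModel p L ι

namespace SubSetup

attribute [instance] SubSetup.grp SubSetup.fin

variable {p : ℕ} {F : FusionSystem S} (X : SubSetup p F)

theorem hRS : X.R ≤ S := X.hRn.1

theorem hUS : X.U ≤ S := X.hUn.1

theorem hRN : X.R ≤ normalizerIn S X.R := le_normalizerIn_self X.hRS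

theorem hReal : (normalizerSystem F X.U X.hUS).IsRealizedBy X.ι := X.hmod.2.1

/-- the composite `N_S(R) → L` -/
def κ : ↥(normalizerIn S X.R) →* X.L := kap X.α X.ι

theorem κ_injective : Function.Injective X.κ := kap_injective X.α X.ι X.hReal.1

theorem κ_apply (x : ↥(normalizerIn S X.R)) : X.κ x = X.ι ⟨X.α.φ x, X.α.maps x⟩ := rfl

theorem hUnormal [Fact p.Prime] : (imSub X.ι X.U).Normal :=
  imSub_normal_of_isNormal _ X.hReal X.hmod.2.2.1 X.hmod.2.2.2
    (normalizerSystem_isNormal F X.hUS _ (normalizerSystem_isNormalizerSystem F X.U X.hUS))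

theorem imSub_κ_R : imSub X.κ X.R = imSub X.ι X.U := by
  ext y
  constructor
  · intro hy
    obtain ⟨r, hrN, hr, rfl⟩ := mem_imSub_iff.mp hy
    rw [κ_apply]
    exact apply_mem_imSub X.ι (X.α.maps _) (X.α.apply_mem_of_mem X.hRS ⟨r, hr⟩)
  · intro hy
    obtain ⟨u, huN, hu, rfl⟩ := mem_imSub_iff.mp hy
    obtain ⟨r, hr⟩ := X.α.exists_preimage X.hRS hu
    have : X.ι ⟨u, huN⟩ = X.κ ⟨r, X.hRN r.2⟩ := by
      rw [κ_apply]
      congr 1
      exact Subtype.ext hr.symm
    rw [this]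
    exact apply_mem_imSub X.κ _ r.2

theorem hκnormal [Fact p.Prime] : (imSub X.κ X.R).Normal := by
  rw [X.imSub_κ_R]
  exact X.hUnormal

variable [Fact p.Prime]

/-- the action of `L` on `R` -/
noncomputable def act : X.L →* MulAut X.R := modelActQ X.κ_injective X.hRN X.hκnormal

theorem act_spec (g : X.L) (x : X.R) :
    X.κ ⟨((X.act g x : X.R) : Ω), X.hRN (X.act g x).2⟩ = g * X.κ ⟨x, X.hRN x.2⟩ * g⁻¹ :=
  modelActQ_spec X.κ_injective X.hRN X.hκnormal g x

/-- an automorphism with the defining property is the action -/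
theorem act_eq_of_forall {g : X.L} {γ : MulAut X.R}
    (h : ∀ x : X.R, X.κ ⟨((γ x : X.R) : Ω), X.hRN (γ x).2⟩ = g * X.κ ⟨x, X.hRN x.2⟩ * g⁻¹) :
    X.act g = γ := by
  ext x
  have h1 := X.act_spec g x
  rw [← h x] at h1
  exact congrArg (fun z : ↥(normalizerIn S X.R) => (z : Ω)) (X.κ_injective h1)

/-- the action of the image of an element of `N_S(R)` is conjugation -/
theorem act_κ (d : ↥(normalizerIn S X.R)) : X.act (X.κ d) = conjAut X.R d d.2.2 := by
  apply X.act_eq_of_forall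
  intro x
  rw [← map_inv, ← map_mul, ← map_mul]
  congr 1

/-- the group `M`: the elements of `L` inducing an `F'`-automorphism on `R` -/
noncomputable def M : Subgroup X.L := (X.F'.autGroup X.R).comap X.act

theorem mem_M_iff {g : X.L} : g ∈ X.M ↔ X.act g ∈ X.F'.autGroup X.R := Iff.rfl

theorem κ_mem_M (d : ↥(normalizerIn S X.R)) : X.κ d ∈ X.M := by
  rw [mem_M_iff, act_κ]
  exact autInducedBy_le_autGroup X.F' X.hRS (conjAut_mem_autInducedBy d.2.1 d.2.2)

/-- the embedding of `N_S(R)` into `M` -/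
noncomputable def ιM : ↥(normalizerIn S X.R) →* ↥X.M := X.κ.codRestrict X.M X.κ_mem_M

theorem ιM_coe (d : ↥(normalizerIn S X.R)) : ((X.ιM d : X.M) : X.L) = X.κ d := rfl

theorem ιM_injective : Function.Injective X.ιM := by
  intro a b hab
  exact X.κ_injective (congrArg Subtype.val hab)

variable [Finite S]

/-- realization, first direction -/
theorem real_mp {P : Subgroup Ω} (hP : P ≤ normalizerIn S X.R) (φ : P →* Ω)
    (hφ : ∀ x : P, φ x ∈ normalizerIn S X.R) (h : φ ∈ X.N'.Hom P) :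
    ∃ g : X.M, ∀ x : P, X.ιM ⟨φ x, hφ x⟩ = g * X.ιM ⟨x, hP x.2⟩ * g⁻¹ := by
  rw [X.hN' P] at h
  obtain ⟨h1, h2, h3, ψ, hψ, hext, hmap⟩ := h
  have hRA : X.R ≤ P ⊔ X.R := le_sup_right
  have hA : P ⊔ X.R ≤ normalizerIn S X.R := sup_le hP X.hRN
  have hψF : ψ ∈ F.Hom (P ⊔ X.R) := X.hle _ hψ
  have hψR : ∀ x : ↥(P ⊔ X.R), (x : Ω) ∈ X.R → ψ x ∈ X.R := by
    intro x hx
    exact hmap.le ⟨x, Subgroup.mem_subgroupOf.mpr hx, rfl⟩
  have hψv : ∀ x : ↥(P ⊔ X.R), ψ x ∈ normalizerIn S X.R := by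
    refine map_sup_mem ψ _ (fun x => ?_) (fun r => ?_)
    · rw [hext x]
      exact hφ x
    · exact X.hRN (hψR _ r.2)
  obtain ⟨g, hg⟩ := (transport_iff X.α X.ι X.hUS X.hRS X.hReal X.hUnormal hRA hA ψ hψv).mp
    ⟨hψF, hψR⟩
  -- the restriction of `ψ` to `R`
  have hρ : ψ.comp (Subgroup.inclusion hRA) ∈ X.F'.Hom X.R := restrict_mem X.F' hψ hRA
  have hρr : (ψ.comp (Subgroup.inclusion hRA)).range = X.R := by
    apply range_eq_of_range_le X.F' hρ
    rintro _ ⟨r, rfl⟩
    exact hψR _ r.2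
  have hgM : g ∈ X.M := by
    rw [mem_M_iff]
    have : X.act g = autOfHom X.F' hρ hρr := by
      apply X.act_eq_of_forall
      intro r
      have h4 := hg (Subgroup.inclusion hRA r)
      exact h4
    rw [this]
    exact autOfHom_mem X.F' hρ hρr
  refine ⟨⟨g, hgM⟩, fun x => ?_⟩
  apply Subtype.ext
  have h4 := hg (Subgroup.inclusion le_sup_left x)
  show X.κ ⟨φ x, _⟩ = g * X.κ ⟨x, _⟩ * g⁻¹
  have e1 : (⟨ψ (Subgroup.inclusion le_sup_left x), hψv _⟩ : ↥(normalizerIn S X.R)) =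
      ⟨φ x, hφ x⟩ := Subtype.ext (hext x)
  rw [e1] at h4
  exact h4

end SubSetup

end Cfsg.Agent.Lib.Helper27.Qd
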