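import Mathlib
import Cfsg.Agent.Lib.Helper27.QdSub1

/-!
# Models of local subsystems of a saturated subsystem: realization, second direction
-/

set_option autoImplicit false

namespace Cfsg.Agent.Lib.Helper27.Qd

open Cfsg Cfsg.FusionSystem Cfsg.Agent.Lib.Helper26 Cfsg.Agent.Lib.Helper27
  Cfsg.Agent.Lib.Helper27.HFree

universe u

variable {Ω : Type u} [Group Ω] {S : Subgroup Ω}

namespace SubSetup

variable {p : ℕ} {F : FusionSystem S} (X : SubSetup p F) [Fact p.Prime] [Finite S]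

/-- realization, second direction -/
theorem real_mpr (hS : IsPGroup p S) (hF : F.IsSaturated p) {P : Subgroup Ω}
    (hP : P ≤ normalizerIn S X.R) (φ : P →* Ω)
    (hφ : ∀ x : P, φ x ∈ normalizerIn S X.R) (g : X.M)
    (hg : ∀ x : P, X.ιM ⟨φ x, hφ x⟩ = g * X.ιM ⟨x, hP x.2⟩ * g⁻¹) : φ ∈ X.N'.Hom P := by
  have hg' : ∀ x : P, X.κ ⟨φ x, hφ x⟩ =
      (g : X.L) * X.κ ⟨x, hP x.2⟩ * (g : X.L)⁻¹ := fun x =>
    congrArg Subtype.val (hg x)
  have hRA : X.R ≤ P ⊔ X.R := le_sup_right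
  have hA : P ⊔ X.R ≤ normalizerIn S X.R := sup_le hP X.hRN
  have hAS : P ⊔ X.R ≤ S := hA.trans (normalizerIn_le S X.R)
  let K : Subgroup ↥(normalizerIn S X.R) :=
    X.κ.range.comap ((MulAut.conj (g : X.L)).toMonoidHom.comp X.κ)
  have hK : ∀ k : ↥(normalizerIn S X.R), k ∈ K ↔
      (g : X.L) * X.κ k * (g : X.L)⁻¹ ∈ X.κ.range := fun k => Iff.rfl
  have hPK : P ≤ K.map (normalizerIn S X.R).subtype := by
    intro x hx
    refine ⟨⟨x, hP hx⟩, ?_, rfl⟩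
    rw [SetLike.mem_coe, hK, ← hg' ⟨x, hx⟩]
    exact ⟨_, rfl⟩
  have hRK : X.R ≤ K.map (normalizerIn S X.R).subtype := by
    intro r hr
    refine ⟨⟨r, X.hRN hr⟩, ?_, rfl⟩
    rw [SetLike.mem_coe, hK]
    have h1 := X.hκnormal.conj_mem _ (apply_mem_imSub X.κ (X.hRN hr) hr) (g : X.L)
    exact imSub_le_range X.κ _ h1
  have hAK : ∀ x : ↥(P ⊔ X.R), (⟨x, hA x.2⟩ : ↥(normalizerIn S X.R)) ∈ K := by
    intro x
    obtain ⟨k, hk, hkx⟩ := (sup_le hPK hRK) x.2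
    have : k = ⟨x, hA x.2⟩ := Subtype.ext hkx
    rw [← this]
    exact hk
  have h' : ∀ x : ↥(P ⊔ X.R), (g : X.L) * X.κ ⟨x, hA x.2⟩ * (g : X.L)⁻¹ ∈ X.κ.range :=
    fun x => (hK _).mp (hAK x)
  have hψv := pullHom_mem X.κ_injective (P ⊔ X.R) hA (g : X.L) h'
  have hψe := apply_pullHom X.κ_injective (P ⊔ X.R) hA (g : X.L) h'
  obtain ⟨hψF, hψR⟩ := (transport_iff X.α X.ι X.hUS X.hRS X.hReal X.hUnormal hRA hA
    (pullHom X.κ_injective (P ⊔ X.R) hA (g : X.L) h') hψv).mpr ⟨(g : X.L), fun x => hψe x⟩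
  have hψinj := F.injective_of_mem hψF
  have hmapR : (X.R.subgroupOf (P ⊔ X.R)).map
      (pullHom X.κ_injective (P ⊔ X.R) hA (g : X.L) h') = X.R := by
    haveI : Finite X.R := finite_of_le X.hRS
    apply Subgroup.eq_of_le_of_card_ge
    · rintro _ ⟨x, hx, rfl⟩
      exact hψR x (Subgroup.mem_subgroupOf.mp hx)
    · rw [Subgroup.card_map_of_injective hψinj]
      exact (Nat.card_congr (Subgroup.subgroupOfEquivOfLe hRA).toEquiv).ge
  have hext : ∀ x : P, pullHom X.κ_injective (P ⊔ X.R) hA (g : X.L) h'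
      (Subgroup.inclusion le_sup_left x) = φ x := by
    intro x
    have h1 := hψe (Subgroup.inclusion le_sup_left x)
    have h2 := hg' x
    have h3 : (⟨((Subgroup.inclusion (le_sup_left : P ≤ P ⊔ X.R) x : ↥(P ⊔ X.R)) : Ω),
        hA (Subgroup.inclusion (le_sup_left : P ≤ P ⊔ X.R) x).2⟩ : ↥(normalizerIn S X.R)) =
        ⟨x, hP x.2⟩ := rfl
    rw [h3, ← h2] at h1
    have h4 := X.κ_injective h1
    exact congrArg (fun z : ↥(normalizerIn S X.R) => (z : Ω)) h4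
  -- the action of `g` on `R` is the restriction of `ψ`
  have hγ : X.act (g : X.L) ∈ X.F'.autGroup X.R := g.2
  have hγψ : ∀ r : X.R, ((X.act (g : X.L) r : X.R) : Ω) =
      pullHom X.κ_injective (P ⊔ X.R) hA (g : X.L) h' (Subgroup.inclusion hRA r) := by
    intro r
    have h1 := X.act_spec (g : X.L) r
    have h2 := hψe (Subgroup.inclusion hRA r)
    have h3 : (⟨((Subgroup.inclusion hRA r : ↥(P ⊔ X.R)) : Ω),
        hA (Subgroup.inclusion hRA r).2⟩ : ↥(normalizerIn S X.R)) = ⟨r, X.hRN r.2⟩ := rfl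
    rw [h3, ← h1] at h2
    have h4 := X.κ_injective h2
    exact (congrArg (fun z : ↥(normalizerIn S X.R) => (z : Ω)) h4).symm
  have hγ' : X.R.subtype.comp (X.act (g : X.L)).toMonoidHom ∈ X.F'.Hom X.R :=
    (mem_autGroup_iff X.F' X.hRS).mp hγ
  have hγr : (X.R.subtype.comp (X.act (g : X.L)).toMonoidHom).range = X.R := by
    ext y
    constructor
    · rintro ⟨r, rfl⟩
      exact (X.act (g : X.L) r).2
    · intro hy
      exact ⟨(X.act (g : X.L)).symm ⟨y, hy⟩, by simp⟩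
  obtain ⟨-, -, hrec⟩ := saturated_fullyNormalized hS X.F' X.hF' X.hRn
  obtain ⟨ψ', hψ', hψ'ext⟩ := hrec.2 X.R _ hγ' hγr
  have hAext : P ⊔ X.R ≤ extender S X.R (X.R.subtype.comp (X.act (g : X.L)).toMonoidHom) := by
    intro a ha
    have haN : a ∈ Subgroup.normalizer (X.R : Set Ω) := (hA ha).2
    refine mem_extender_iff.mpr ⟨hAS ha, haN,
      pullHom X.κ_injective (P ⊔ X.R) hA (g : X.L) h' ⟨a, ha⟩,
      (apply_mem F hψF ⟨a, ha⟩), fun x => ?_⟩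
    show ((X.act (g : X.L) ⟨a * x * a⁻¹, _⟩ : X.R) : Ω) = _ * ((X.act (g : X.L) x : X.R) : Ω) * _⁻¹
    rw [hγψ, hγψ, ← map_inv, ← map_mul, ← map_mul]
    congr 1
  have hψ''F' : ψ'.comp (Subgroup.inclusion hAext) ∈ X.F'.Hom (P ⊔ X.R) :=
    restrict_mem X.F' hψ' hAext
  have hψ''F : ψ'.comp (Subgroup.inclusion hAext) ∈ F.Hom (P ⊔ X.R) := X.hle _ hψ''F'
  have hagree : ∀ x : ↥(P ⊔ X.R), (x : Ω) ∈ X.R →
      (ψ'.comp (Subgroup.inclusion hAext)) x =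
        pullHom X.κ_injective (P ⊔ X.R) hA (g : X.L) h' x := by
    intro x hx
    have h1 := hψ'ext (x : Ω) hx (hAext x.2)
    show ψ' ⟨x, _⟩ = _
    rw [h1]
    exact hγψ ⟨x, hx⟩
  obtain ⟨z, hzR, -, hz⟩ := exists_conj_of_agree_normal hS F hF hRA
    (hA.trans inf_le_right) X.hRc hψ''F hψF hagree
  -- `ψ` lies in `F'`
  have hψF' : pullHom X.κ_injective (P ⊔ X.R) hA (g : X.L) h' ∈ X.F'.Hom (P ⊔ X.R) := by
    have hc : conjHom (P ⊔ X.R) (z : Ω) ∈ X.F'.Hom (P ⊔ X.R) :=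
      X.F'.conj_mem hAS (hAS z.2)
    have hcv : ∀ x : ↥(P ⊔ X.R), conjHom (P ⊔ X.R) (z : Ω) x ∈ P ⊔ X.R := by
      intro x
      exact (z * x * z⁻¹).2
    refine mem_of_forall_eq X.F' (X.F'.comp_mem hc hψ''F' hcv) (fun y => ?_)
    rw [hz y]
    rfl
  have hφF' : φ ∈ X.F'.Hom P :=
    mem_of_forall_eq X.F' (restrict_mem X.F' hψF' le_sup_left) (fun x => (hext x).symm)
  rw [X.hN' P]
  exact ⟨hφF', hP, hφ, _, hψF', hext, hmapR⟩

/-- `M` with `ιM` realizes `N'` -/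
theorem isRealizedBy (hS : IsPGroup p S) (hF : F.IsSaturated p) : X.N'.IsRealizedBy X.ιM :=
  ⟨X.ιM_injective, fun P hP φ hφ =>
    ⟨fun h => X.real_mp hP φ hφ h, fun ⟨g, hg⟩ => X.real_mpr hS hF hP φ hφ g hg⟩⟩

end SubSetup

end Cfsg.Agent.Lib.Helper27.Qd
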