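import Mathlib
import Cfsg.Agent.Lib.Helper27.QdSub2

/-!
# Models of local subsystems of a saturated subsystem: the Sylow and core conditions, conclusion
-/

set_option autoImplicit false

namespace Cfsg.Agent.Lib.Helper27.Qd

open Cfsg Cfsg.FusionSystem Cfsg.Agent.Lib.Helper26 Cfsg.Agent.Lib.Helper27
  Cfsg.Agent.Lib.Helper27.HFree

universe u v

variable {Ω : Type u} [Group Ω] {S : Subgroup Ω}

namespace SubSetup

variable {p : ℕ} {F : FusionSystem S} (X : SubSetup p F) [Fact p.Prime] [Finite S]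

theorem hUc : F.IsCentric X.U := Cfsg.Agent.Lib.Helper27.isCentric_of_isConj F X.hRc
  ⟨X.α.restrictQ X.hRS, X.α.restrictQ_mem X.hRS, X.α.restrictQ_range X.hRS⟩

theorem centralizer_U_le :
    Subgroup.centralizer ((imSub X.ι X.U : Subgroup X.L) : Set X.L) ≤ imSub X.ι X.U := by
  have hE := normalizerSystem_isNormalizerSystem F X.U X.hUS
  exact centralizer_imSub_le _ X.hReal X.hmod.2.2.1 X.hmod.2.2.2
    (normalizerSystem_isNormal F X.hUS _ hE) (normalizerSystem_isCentric F X.hUc _ hE)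

theorem ker_act_le : X.act.ker ≤ imSub X.κ X.R := by
  intro y hy
  have h1 := (mem_ker_modelActQ_iff X.κ_injective X.hRN X.hκnormal y).mp hy
  rw [X.imSub_κ_R] at h1 ⊢
  exact X.centralizer_U_le h1

theorem imSub_U_le_M : imSub X.ι X.U ≤ X.M := by
  intro u hu
  rw [← X.imSub_κ_R] at hu
  obtain ⟨r, hrN, -, rfl⟩ := mem_imSub_iff.mp hu
  exact X.κ_mem_M _

/-- a `p`-subgroup of `M` containing the image of `N_S(R)` is that image -/
theorem le_range_of_isPGroup (hS : IsPGroup p S) {P' : Subgroup X.M} (hP' : IsPGroup p P')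
    (hle : X.ιM.range ≤ P') : P' ≤ X.ιM.range := by
  haveI : Finite X.R := finite_of_le X.hRS
  obtain ⟨-, hRa, -⟩ := saturated_fullyNormalized hS X.F' X.hF' X.hRn
  have hsyl : IsSylowIn p (X.F'.autGroup X.R) (autInducedBy S X.R) := hRa.2
  have hKH : autInducedBy S X.R ≤ X.F'.autGroup X.R := autInducedBy_le_autGroup X.F' X.hRS
  have hBle : (P'.map X.M.subtype).map X.act ≤ X.F'.autGroup X.R := by
    rintro _ ⟨_, ⟨y, -, rfl⟩, rfl⟩
    exact y.2
  have hBp : IsPGroup p ↥((P'.map X.M.subtype).map X.act) := (hP'.map _).map _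
  have hcard := hsyl.card_le hKH hBle hBp
  have hAB : autInducedBy S X.R ≤ (P'.map X.M.subtype).map X.act := by
    intro α hα
    obtain ⟨s, hsS, hsN, rfl⟩ := mem_autInducedBy_iff'.mp hα
    refine ⟨X.κ ⟨s, hsS, hsN⟩, ⟨X.ιM ⟨s, hsS, hsN⟩, hle ⟨_, rfl⟩, rfl⟩, ?_⟩
    exact X.act_κ ⟨s, hsS, hsN⟩
  have hEq : autInducedBy S X.R = (P'.map X.M.subtype).map X.act :=
    Subgroup.eq_of_le_of_card_ge hAB hcard
  intro y hy
  have h1 : X.act (y : X.L) ∈ autInducedBy S X.R := by
    rw [hEq]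
    exact ⟨_, ⟨y, hy, rfl⟩, rfl⟩
  obtain ⟨s, hsS, hsN, h2⟩ := mem_autInducedBy_iff'.mp h1
  have h3 : (y : X.L) * (X.κ ⟨s, hsS, hsN⟩)⁻¹ ∈ X.act.ker := by
    rw [MonoidHom.mem_ker, map_mul, map_inv, X.act_κ ⟨s, hsS, hsN⟩, h2]
    exact mul_inv_cancel _
  have h4 := imSub_le_range X.κ _ (X.ker_act_le h3)
  obtain ⟨d, hd⟩ := h4
  refine ⟨d * ⟨s, hsS, hsN⟩, ?_⟩
  apply Subtype.ext
  show X.κ (d * ⟨s, hsS, hsN⟩) = (y : X.L)
  rw [map_mul, hd]
  group

theorem isModel (hS : IsPGroup p S) (hF : F.IsSaturated p) : X.N'.IsModel p X.M X.ιM := by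
  have hD₀S : normalizerIn S X.R ≤ S := normalizerIn_le _ _
  haveI : Finite ↥(normalizerIn S X.R) := finite_of_le hD₀S
  have hD₀p : IsPGroup p ↥(normalizerIn S X.R) := hS.to_le hD₀S
  refine ⟨inferInstance, X.isRealizedBy hS hF, ?_, ?_⟩
  · have hrp : IsPGroup p X.ιM.range := hD₀p.of_equiv (MonoidHom.ofInjective X.ιM_injective)
    obtain ⟨P', hP'⟩ := hrp.exists_le_sylow
    have h1 := X.le_range_of_isPGroup hS P'.isPGroup' hP'
    exact ⟨P', le_antisymm h1 hP'⟩
  · have hUp : IsPGroup p ↥(imSub X.ι X.U) := by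
      have h1 : IsPGroup p ↥(X.U.subgroupOf (normalizerIn S X.U)) :=
        (hS.to_le (normalizerIn_le S X.U)).to_subgroup _
      exact h1.map X.ι
    have hUMn : ((imSub X.ι X.U).subgroupOf X.M).Normal := X.hUnormal.subgroupOf X.M
    have hUMp : IsPGroup p ↥((imSub X.ι X.U).subgroupOf X.M) := hUp.comap_subtype
    have hUM_le : (imSub X.ι X.U).subgroupOf X.M ≤ pCore p X.M :=
      Cfsg.Agent.Lib.Helper1.le_pCore hUMn hUMp
    intro c hc
    apply hUM_le
    rw [Subgroup.mem_subgroupOf]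
    apply X.centralizer_U_le
    rw [Subgroup.mem_centralizer_iff]
    intro u hu
    have h1 : (⟨u, X.imSub_U_le_M hu⟩ : X.M) ∈ pCore p X.M :=
      hUM_le (Subgroup.mem_subgroupOf.mpr hu)
    have h2 := Subgroup.mem_centralizer_iff.mp hc _ h1
    exact congrArg Subtype.val h2

end SubSetup

/-- centric subgroups of `F` are centric in a subsystem -/
theorem isCentric_of_le {F F' : FusionSystem S} (hle : F' ≤ F) {R : Subgroup Ω}
    (h : F.IsCentric R) : F'.IsCentric R :=
  ⟨h.1, fun Q hQ => h.2 Q (by obtain ⟨φ, hφ, hr⟩ := hQ; exact ⟨φ, hle _ hφ, hr⟩)⟩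

/-- the model of `N_{F'}(R)` embeds into the model of `N_F(U)` for a fully normalized
`F`-conjugate `U` of `R` -/
theorem sub_model_embed [Finite S] {p : ℕ} [Fact p.Prime] (hS : IsPGroup p S) (F : FusionSystem S)
    (hF : F.IsSaturated p) (F' : FusionSystem S) (hle : F' ≤ F) (hF' : F'.IsSaturated p)
    {R : Subgroup Ω} (hRn : F'.IsFullyNormalized R) (hRc : F.IsCentric R)
    (N' : FusionSystem (normalizerIn S R)) (hN' : F'.IsNormalizerSystem R N')
    (L' : Type u) [Group L'] (ι' : ↥(normalizerIn S R) →* L') (hL' : N'.IsModel p L' ι') :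
    ∃ (U : Subgroup Ω) (hUn : F.IsFullyNormalized U), F.IsCentric U ∧
      ∃ (L : Type u) (_ : Group L) (ι : ↥(normalizerIn S U) →* L),
        (normalizerSystem F U hUn.1).IsModel p L ι ∧ ∃ f : L' →* L, Function.Injective f := by
  have hRS : R ≤ S := hRn.1
  obtain ⟨U, hRU, hUn⟩ := exists_fullyNormalized_conj F hRS
  obtain ⟨-, hUa, hUr⟩ := saturated_fullyNormalized hS F hF hUn
  obtain ⟨α⟩ := nonempty_normalizerHom hS F hUa hUr hRU
  have hUc : F.IsCentric U := Cfsg.Agent.Lib.Helper27.isCentric_of_isConj F hRc hRU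
  have hcons := normalizerSystem_constrained hS F hF hUn hUc _
    (normalizerSystem_isNormalizerSystem F U hUn.1)
  haveI : Finite ↥(normalizerIn S U) := finite_of_le (normalizerIn_le S U)
  obtain ⟨L, _, ι, hmod⟩ := Cfsg.Agent.Lib.Helper27.Model.exists_model p
    (hS.to_le (normalizerIn_le S U)) _ hcons
  haveI : Finite L := hmod.1
  let X : SubSetup p F :=
    { F' := F', hle := hle, hF' := hF', R := R, hRn := hRn, hRc := hRc, N' := N',
      hN' := hN', U := U, hUn := hUn, α := α, L := L, ι := ι, hmod := hmod }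
  have hM := X.isModel hS hF
  have hN'c := normalizerSystem_constrained hS F' hF' hRn (isCentric_of_le hle hRc) N' hN'
  haveI : Finite ↥(normalizerIn S R) := finite_of_le (normalizerIn_le _ _)
  obtain ⟨φ, -⟩ := Cfsg.Agent.S5091.result p (hS.to_le (normalizerIn_le S R)) N' hN'c ι' X.ιM
    hL' hM
  refine ⟨U, hUn, hUc, L, inferInstance, ι, hmod, X.M.subtype.comp φ.toMonoidHom, ?_⟩
  exact X.M.subtype_injective.comp φ.injective

/-- a saturated subsystem over the same group, whose fully normalized centric radical subgroups are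
centric in the large system, inherits section-freeness -/
theorem sectionFree_sub [Finite S] {p : ℕ} [Fact p.Prime] (hS : IsPGroup p S) (F : FusionSystem S)
    (hF : F.IsSaturated p) (H : Type v) [Group H] (hfree : F.IsSectionFree p H)
    (F' : FusionSystem S) (hle : F' ≤ F) (hF' : F'.IsSaturated p)
    (hcen : ∀ R : Subgroup Ω, F'.IsFullyNormalized R → F'.IsCentric R → F'.IsRadical p R →
      F.IsCentric R) : F'.IsSectionFree p H := by
  apply sectionFree_of_centric_radical hS F' hF' H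
  intro R hRn hRc hRr N' hN' L' _ ι' hL' hinv
  obtain ⟨U, hUn, hUc, L, _, ι, hmod, f, hf⟩ := sub_model_embed hS F hF F' hle hF' hRn
    (hcen R hRn hRc hRr) N' hN' L' ι' hL'
  exact hfree U hUn hUc _ (normalizerSystem_isNormalizerSystem F U hUn.1) L ι hmod
    (involves_of_injective hinv f hf)

end Cfsg.Agent.Lib.Helper27.Qd
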