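import Mathlib
import Cfsg.Agent.Lib.Helper27.QdSub3

/-!
# The subsystem `S C_F(V)` of a fusion system over `S`, for `V` normalized by `S`
-/

set_option autoImplicit false

namespace Cfsg.Agent.Lib.Helper27.Qd

open Cfsg Cfsg.FusionSystem Cfsg.Agent.Lib.Helper26 Cfsg.Agent.Lib.Helper27
  Cfsg.Agent.Lib.Helper27.GT

universe u

variable {Ω : Type u} [Group Ω] {S : Subgroup Ω}

/-- the maps of `S C_F(V)`: those extending to a map on `P ⊔ V` acting on `V` as an element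
of `S` -/
def scHom (F : FusionSystem S) (V P : Subgroup Ω) (φ : P →* Ω) : Prop :=
  φ ∈ F.Hom P ∧ ∃ ψ ∈ F.Hom (P ⊔ V), (∀ x : P, ψ (Subgroup.inclusion le_sup_left x) = φ x) ∧
    ∃ s ∈ S, ∀ v : V, ψ (Subgroup.inclusion le_sup_right v) = s * (v : Ω) * s⁻¹

theorem conj_mem_of_le_normalizer {V : Subgroup Ω} (hSV : S ≤ Subgroup.normalizer (V : Set Ω))
    {s : Ω} (hs : s ∈ S) {v : Ω} (hv : v ∈ V) : s * v * s⁻¹ ∈ V :=
  (Subgroup.mem_normalizer_iff.mp (hSV hs) v).mp hv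

theorem map_eq_of_conj {V P : Subgroup Ω} (hSV : S ≤ Subgroup.normalizer (V : Set Ω))
    {ψ : ↥(P ⊔ V) →* Ω} {s : Ω} (hs : s ∈ S)
    (h : ∀ v : V, ψ (Subgroup.inclusion le_sup_right v) = s * (v : Ω) * s⁻¹) :
    (V.subgroupOf (P ⊔ V)).map ψ = V := by
  ext z
  rw [map_subgroupOf_sup_eq]
  constructor
  · rintro ⟨q, rfl⟩
    rw [h]
    exact conj_mem_of_le_normalizer hSV hs q.2
  · intro hz
    refine ⟨⟨s⁻¹ * z * s, ?_⟩, ?_⟩
    · have := conj_mem_of_le_normalizer hSV (S.inv_mem hs) hz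
      rwa [inv_inv] at this
    · rw [h]
      show s * (s⁻¹ * z * s) * s⁻¹ = z
      group

/-- the system `S C_F(V)` -/
def scSys (F : FusionSystem S) (V : Subgroup Ω) (hVS : V ≤ S)
    (hSV : S ≤ Subgroup.normalizer (V : Set Ω)) : FusionSystem S where
  Hom P := {φ | scHom F V P φ}
  le_of_mem h := F.le_of_mem h.1
  injective_of_mem h := F.injective_of_mem h.1
  conj_mem := by
    intro P g hP hg
    exact ⟨F.conj_mem hP hg, conjHom (P ⊔ V) g, F.conj_mem (sup_le hP hVS) hg, fun x => rfl,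
      g, hg, fun v => rfl⟩
  comp_mem := by
    rintro P R φ ψ ⟨hφ, φ', hφ', hφ'φ, s₁, hs₁, hφ'V⟩ ⟨hψ, ψ', hψ', hψ'ψ, s₂, hs₂, hψ'V⟩ h
    refine ⟨F.comp_mem hφ hψ h, ?_⟩
    have hmem : ∀ z : ↥(P ⊔ V), φ' z ∈ R ⊔ V := by
      intro z
      refine map_sup_mem φ' (R ⊔ V) (fun x => ?_) (fun x => ?_) z
      · rw [hφ'φ]
        exact (le_sup_left : R ≤ R ⊔ V) (h x)
      · rw [hφ'V]
        exact (le_sup_right : V ≤ R ⊔ V) (conj_mem_of_le_normalizer hSV hs₁ x.2)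
    refine ⟨ψ'.comp (φ'.codRestrict (R ⊔ V) hmem), F.comp_mem hφ' hψ' hmem, fun x => ?_,
      s₂ * s₁, S.mul_mem hs₂ hs₁, fun v => ?_⟩
    · show ψ' ⟨φ' (Subgroup.inclusion le_sup_left x), _⟩ = ψ ⟨φ x, _⟩
      have e : (⟨φ' (Subgroup.inclusion le_sup_left x), hmem _⟩ : ↥(R ⊔ V)) =
          Subgroup.inclusion le_sup_left ⟨φ x, h x⟩ := Subtype.ext (hφ'φ x)
      rw [e, hψ'ψ]
    · show ψ' ⟨φ' (Subgroup.inclusion le_sup_right v), _⟩ = _
      have hv' : s₁ * (v : Ω) * s₁⁻¹ ∈ V := conj_mem_of_le_normalizer hSV hs₁ v.2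
      have e : (⟨φ' (Subgroup.inclusion le_sup_right v), hmem _⟩ : ↥(R ⊔ V)) =
          Subgroup.inclusion le_sup_right ⟨s₁ * (v : Ω) * s₁⁻¹, hv'⟩ := Subtype.ext (hφ'V v)
      rw [e, hψ'V]
      show s₂ * (s₁ * (v : Ω) * s₁⁻¹) * s₂⁻¹ = _
      group
  inv_mem := by
    rintro P φ ⟨hφ, φ', hφ', hφ'φ, s, hs, hφ'V⟩
    obtain ⟨ψ, hψ, hψinv⟩ := F.inv_mem hφ
    have hmapV := map_eq_of_conj (P := P) hSV hs hφ'V
    have hr : φ'.range = φ.range ⊔ V := range_ext_eq hφ'φ hmapV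
    obtain ⟨χ, hχ, hχr, hχ1, hχ2⟩ := exists_inv F hφ' hr
    refine ⟨ψ, ⟨hψ, χ, hχ, ?_, s⁻¹, S.inv_mem hs, ?_⟩, hψinv⟩
    · rintro ⟨_, x, rfl⟩
      rw [hψinv x]
      have h1 : φ' (Subgroup.inclusion le_sup_left x) ∈ φ.range ⊔ V := hr ▸ ⟨_, rfl⟩
      have := hχ1 (Subgroup.inclusion le_sup_left x) h1
      have e : (Subgroup.inclusion (le_sup_left : φ.range ≤ φ.range ⊔ V) ⟨φ x, ⟨x, rfl⟩⟩) =
          ⟨φ' (Subgroup.inclusion le_sup_left x), h1⟩ := Subtype.ext (hφ'φ x).symm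
      rw [e, this]
      rfl
    · intro v
      have hv' : s⁻¹ * (v : Ω) * s⁻¹⁻¹ ∈ V := conj_mem_of_le_normalizer hSV (S.inv_mem hs) v.2
      have h1 : φ' (Subgroup.inclusion le_sup_right ⟨s⁻¹ * (v : Ω) * s⁻¹⁻¹, hv'⟩) ∈
          φ.range ⊔ V := hr ▸ ⟨_, rfl⟩
      have h2 : φ' (Subgroup.inclusion le_sup_right ⟨s⁻¹ * (v : Ω) * s⁻¹⁻¹, hv'⟩) = (v : Ω) := by
        rw [hφ'V]
        show s * (s⁻¹ * (v : Ω) * s⁻¹⁻¹) * s⁻¹ = v
        group
      have e : (Subgroup.inclusion (le_sup_right : V ≤ φ.range ⊔ V) v) =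
          ⟨φ' (Subgroup.inclusion le_sup_right ⟨s⁻¹ * (v : Ω) * s⁻¹⁻¹, hv'⟩), h1⟩ :=
        Subtype.ext h2.symm
      rw [e, hχ1]
      rfl

theorem mem_scSys {F : FusionSystem S} {V : Subgroup Ω} {hVS : V ≤ S}
    {hSV : S ≤ Subgroup.normalizer (V : Set Ω)} {P : Subgroup Ω} {φ : P →* Ω} :
    φ ∈ (scSys F V hVS hSV).Hom P ↔ scHom F V P φ := Iff.rfl

theorem scSys_le (F : FusionSystem S) (V : Subgroup Ω) (hVS : V ≤ S)
    (hSV : S ≤ Subgroup.normalizer (V : Set Ω)) : scSys F V hVS hSV ≤ F :=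
  fun _ _ h => h.1

theorem NK_autInducedBy {V : Subgroup Ω} (hSV : S ≤ Subgroup.normalizer (V : Set Ω)) :
    NK S V (autInducedBy S V) = S := by
  apply le_antisymm (NK_le _ _)
  intro s hs
  exact ⟨hs, conjAut V s (hSV hs), conjAut_mem_autInducedBy hs (hSV hs), fun _ => rfl⟩

theorem scHom_iff_khom (F : FusionSystem S) {V : Subgroup Ω}
    (hSV : S ≤ Subgroup.normalizer (V : Set Ω)) (P : Subgroup Ω) (φ : P →* Ω) :
    scHom F V P φ ↔ KHom F V (autInducedBy S V) P φ := by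
  constructor
  · rintro ⟨hφ, ψ, hψ, hext, s, hs, hV⟩
    refine ⟨hφ, ?_, fun x => ?_, ψ, hψ, hext, conjAut V s (hSV hs),
      conjAut_mem_autInducedBy hs (hSV hs), fun v => ?_⟩
    · rw [NK_autInducedBy hSV]
      exact source_le F hφ
    · rw [NK_autInducedBy hSV]
      exact apply_mem F hφ x
    · rw [hV]
      rfl
  · rintro ⟨hφ, -, -, ψ, hψ, hext, κ, hκ, hV⟩
    obtain ⟨g, hg, hgκ⟩ := mem_autInducedBy_iff.mp hκ
    exact ⟨hφ, ψ, hψ, hext, g, hg, fun v => by rw [hV, hgκ]⟩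

theorem scSys_saturated [Finite S] {p : ℕ} [Fact p.Prime] (hS : IsPGroup p S)
    (F : FusionSystem S) (hF : F.IsSaturated p) (V : Subgroup Ω) (hVS : V ≤ S)
    (hSV : S ≤ Subgroup.normalizer (V : Set Ω)) : (scSys F V hVS hSV).IsSaturated p := by
  have hQK : FullyKNormalized F V (autInducedBy S V) := by
    refine ⟨hVS, fun Q' e _ => ?_⟩
    rw [NK_autInducedBy hSV]
    exact card_le_card_of_le_of_finite (NK_le _ _)
  exact knormalizer_saturated' hS F hF hQK (NK_autInducedBy hSV).symm (scSys F V hVS hSV)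
    (fun P φ => scHom_iff_khom F hSV P φ)

end Cfsg.Agent.Lib.Helper27.Qd
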