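import Mathlib
import Cfsg.Agent.Lib.Helper27.QdSC
import Cfsg.Agent.Lib.Helper27.GTSteps

/-!
# The subsystem `S C_F(V)`: normality of `V`, generation, centric subgroups, section-freeness
-/

set_option autoImplicit false

namespace Cfsg.Agent.Lib.Helper27.Qd

open Cfsg Cfsg.FusionSystem Cfsg.Agent.Lib.Helper26 Cfsg.Agent.Lib.Helper27
  Cfsg.Agent.Lib.Helper27.GT

universe u v

variable {Ω : Type u} [Group Ω] {S : Subgroup Ω}

/-- a map of `F` on an overgroup of `V` acting on `V` as an element of `S` lies in `S C_F(V)` -/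
theorem mem_scSys_of_conj (F : FusionSystem S) {V : Subgroup Ω} (hVS : V ≤ S)
    (hSV : S ≤ Subgroup.normalizer (V : Set Ω)) {P : Subgroup Ω} (hVP : V ≤ P) {η : P →* Ω}
    (hη : η ∈ F.Hom P) {s : Ω} (hs : s ∈ S)
    (h : ∀ x : P, (x : Ω) ∈ V → η x = s * (x : Ω) * s⁻¹) :
    η ∈ (scSys F V hVS hSV).Hom P := by
  obtain ⟨φ', hφ', h1, -⟩ := hom_cast' F (sup_eq_left.mpr hVP).symm η hη
  refine ⟨hη, φ', hφ', fun x => h1 x x.2 _, s, hs, fun v => ?_⟩
  have := h1 (v : Ω) (hVP v.2) ((le_sup_right : V ≤ P ⊔ V) v.2)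
  rw [← h ⟨v, hVP v.2⟩ v.2, ← this]
  rfl

theorem scSys_isNormal (F : FusionSystem S) (V : Subgroup Ω) (hVS : V ≤ S)
    (hSV : S ≤ Subgroup.normalizer (V : Set Ω)) : (scSys F V hVS hSV).IsNormal V := by
  refine ⟨hVS, fun P φ hφ => ?_⟩
  obtain ⟨hφF, ψ, hψ, hext, s, hs, hV⟩ := hφ
  refine ⟨ψ, ?_, hext, map_eq_of_conj hSV hs hV⟩
  refine mem_scSys_of_conj F hVS hSV le_sup_right hψ hs (fun x hx => ?_)
  have := hV ⟨x, hx⟩
  rw [← this]
  congr 1

/-- automorphisms in `S C_F(V)` of an overgroup of `V` act on `V` as elements of `S` -/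
theorem scSys_aut_conj (F : FusionSystem S) {V : Subgroup Ω} (hVS : V ≤ S)
    (hSV : S ≤ Subgroup.normalizer (V : Set Ω)) {U : Subgroup Ω} (hVU : V ≤ U) (hUS : U ≤ S)
    {β : MulAut U} (hβ : β ∈ (scSys F V hVS hSV).autGroup U) :
    ∃ s ∈ S, ∀ u : U, (u : Ω) ∈ V → ((β u : U) : Ω) = s * (u : Ω) * s⁻¹ := by
  rw [mem_autGroup_iff _ hUS] at hβ
  obtain ⟨-, ψ, -, hext, s, hs, hV⟩ := hβ
  refine ⟨s, hs, fun u hu => ?_⟩
  have h1 := hext u
  have h2 := hV ⟨u, hu⟩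
  have e : (Subgroup.inclusion (le_sup_left : U ≤ U ⊔ V) u) =
      Subgroup.inclusion (le_sup_right : V ≤ U ⊔ V) ⟨u, hu⟩ := Subtype.ext rfl
  rw [e, h2] at h1
  exact h1.symm

section Ext

variable [Finite S] {p : ℕ} [Fact p.Prime]

/-- extension of an automorphism of a normal subgroup `V` of `F` -/
theorem exists_ext_aut (hS : IsPGroup p S) (F : FusionSystem S) (hF : F.IsSaturated p)
    {V : Subgroup Ω} (hVn : F.IsNormal V) {b : MulAut V} (hb : b ∈ F.autGroup V)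
    {A : Subgroup Ω} (hA : A ≤ extender S V (V.subtype.comp b.toMonoidHom)) :
    ∃ δ ∈ F.Hom (A ⊔ (V ⊔ centralizerIn S V)),
      ∀ (x : ↥(A ⊔ (V ⊔ centralizerIn S V))) (hx : (x : Ω) ∈ V), δ x = ((b ⟨x, hx⟩ : V) : Ω) := by
  have hVS : V ≤ S := hVn.1
  obtain ⟨-, -, hrec⟩ := saturated_fullyNormalized hS F hF (fullyNormalized_of_isNormal F hVn)
  have hb' : V.subtype.comp b.toMonoidHom ∈ F.Hom V := (mem_autGroup_iff F hVS).mp hb
  have hbr : (V.subtype.comp b.toMonoidHom).range = V := range_eq_of_isNormal F hVn hb'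
  obtain ⟨ψ', hψ', hψ'ext⟩ := hrec.2 V _ hb' hbr
  have hle : A ⊔ (V ⊔ centralizerIn S V) ≤ extender S V (V.subtype.comp b.toMonoidHom) :=
    sup_le hA (sup_le (le_extender F hb') (centralizerIn_le_extender S V _))
  refine ⟨ψ'.comp (Subgroup.inclusion hle), restrict_mem F hψ' hle, fun x hx => ?_⟩
  exact hψ'ext (x : Ω) hx (hle x.2)

/-- the extension preserves `V C_S(V)` -/
theorem map_sup_centralizer_eq (F : FusionSystem S) {V : Subgroup Ω} (hVS : V ≤ S)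
    {b : MulAut V} {A : Subgroup Ω} {δ : ↥(A ⊔ (V ⊔ centralizerIn S V)) →* Ω}
    (hδ : δ ∈ F.Hom (A ⊔ (V ⊔ centralizerIn S V)))
    (hδV : ∀ (x : ↥(A ⊔ (V ⊔ centralizerIn S V))) (hx : (x : Ω) ∈ V),
      δ x = ((b ⟨x, hx⟩ : V) : Ω)) :
    ((V ⊔ centralizerIn S V).subgroupOf (A ⊔ (V ⊔ centralizerIn S V))).map δ =
      V ⊔ centralizerIn S V := by
  have hTS : V ⊔ centralizerIn S V ≤ S := sup_le hVS (centralizerIn_le S V)
  haveI : Finite ↥(V ⊔ centralizerIn S V) := finite_of_le hTS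
  have hVle : V ≤ A ⊔ (V ⊔ centralizerIn S V) := le_sup_left.trans le_sup_right
  apply Subgroup.eq_of_le_of_card_ge
  · rintro _ ⟨x, hx, rfl⟩
    have hxT : (x : Ω) ∈ V ⊔ centralizerIn S V := Subgroup.mem_subgroupOf.mp hx
    have key := map_sup_mem (δ.comp (Subgroup.inclusion (le_sup_right :
      V ⊔ centralizerIn S V ≤ A ⊔ (V ⊔ centralizerIn S V)))) (V ⊔ centralizerIn S V)
      (fun v => ?_) (fun c => ?_) ⟨x, hxT⟩
    · exact key
    · show δ _ ∈ _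
      rw [hδV _ v.2]
      exact (le_sup_left : V ≤ V ⊔ centralizerIn S V) (b _).2
    · apply (le_sup_right : centralizerIn S V ≤ V ⊔ centralizerIn S V)
      refine ⟨apply_mem F hδ _, ?_⟩
      show δ _ ∈ Subgroup.centralizer (V : Set Ω)
      rw [Subgroup.mem_centralizer_iff]
      intro y hy
      have hw : (((b⁻¹ ⟨y, hy⟩ : V) : Ω)) ∈ A ⊔ (V ⊔ centralizerIn S V) := hVle (b⁻¹ ⟨y, hy⟩).2
      have h1 := hδV ⟨_, hw⟩ (b⁻¹ ⟨y, hy⟩).2
      have h2 : ((b (b⁻¹ ⟨y, hy⟩) : V) : Ω) = y := by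
        rw [MulAut.apply_inv_self]
      have h3 : δ ⟨_, hw⟩ = y := by
        rw [h1]
        exact h2
      rw [← h3, ← map_mul, ← map_mul]
      congr 1
      apply Subtype.ext
      exact (Subgroup.mem_centralizer_iff.mp c.2.2) _ (b⁻¹ ⟨y, hy⟩).2
  · rw [Subgroup.card_map_of_injective (F.injective_of_mem hδ)]
    exact (Nat.card_congr (Subgroup.subgroupOfEquivOfLe le_sup_right).toEquiv).ge

theorem le_normalizer_sup_centralizerIn {V : Subgroup Ω}
    (hSV : S ≤ Subgroup.normalizer (V : Set Ω)) :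
    S ≤ Subgroup.normalizer ((V ⊔ centralizerIn S V : Subgroup Ω) : Set Ω) := fun _ hs =>
  mem_normalizer_sup (hSV hs) (le_normalizer_centralizerIn hSV hs)

/-- `F` is generated by `S C_F(V)` and `N_F(V C_S(V))` -/
theorem le_of_scSys_le (hS : IsPGroup p S) (F : FusionSystem S) (hF : F.IsSaturated p)
    {V : Subgroup Ω} (hVn : F.IsNormal V) (hSV : S ≤ Subgroup.normalizer (V : Set Ω))
    (E : FusionSystem S) (h1 : scSys F V hVn.1 hSV ≤ E)
    (h2 : ∀ (P : Subgroup Ω) (φ : P →* Ω),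
      φ ∈ F.normalizerHom (V ⊔ centralizerIn S V) P → φ ∈ E.Hom P) : F ≤ E := by
  have hVS : V ≤ S := hVn.1
  intro P φ hφ
  obtain ⟨ψ, hψ, hext, hmapV⟩ := hVn.2 P φ hφ
  suffices hψE : ψ ∈ E.Hom (P ⊔ V) from
    mem_of_forall_eq E (restrict_mem E hψE le_sup_left) (fun x => (hext x).symm)
  have hVA : V ≤ P ⊔ V := le_sup_right
  have hAS : P ⊔ V ≤ S := source_le F hψ
  have hρ : ψ.comp (Subgroup.inclusion hVA) ∈ F.Hom V := restrict_mem F hψ hVA
  have hρr : (ψ.comp (Subgroup.inclusion hVA)).range = V := range_eq_of_isNormal F hVn hρ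
  have ha : autOfHom F hρ hρr ∈ F.autGroup V := autOfHom_mem F hρ hρr
  have hAext : P ⊔ V ≤ extender S V (V.subtype.comp (autOfHom F hρ hρr).toMonoidHom) := by
    intro g hg
    have hgN := hSV (hAS hg)
    refine mem_extender_iff.mpr ⟨hAS hg, hgN, ψ ⟨g, hg⟩, apply_mem F hψ _, fun x => ?_⟩
    show ψ (Subgroup.inclusion hVA ⟨g * x * g⁻¹, _⟩) =
      ψ ⟨g, hg⟩ * ψ (Subgroup.inclusion hVA x) * (ψ ⟨g, hg⟩)⁻¹
    rw [← map_inv, ← map_mul, ← map_mul]
    congr 1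
  obtain ⟨δ, hδ, hδV⟩ := exists_ext_aut hS F hF hVn ha hAext
  have hTn := le_normalizer_sup_centralizerIn hSV
  have hNT : normalizerIn S (V ⊔ centralizerIn S V) = S := normalizerIn_eq_self hTn
  -- the restriction of `δ` to `P ⊔ V` lies in `N_F(V C_S(V))`
  obtain ⟨ε, hεe⟩ : ∃ ε : ↥(P ⊔ V) →* Ω, ∀ x, ε x = δ (Subgroup.inclusion le_sup_left x) :=
    ⟨δ.comp (Subgroup.inclusion le_sup_left), fun _ => rfl⟩
  have hεF : ε ∈ F.Hom (P ⊔ V) :=
    mem_of_forall_eq F (restrict_mem F hδ le_sup_left) (fun x => hεe x)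
  have hεN : ε ∈ F.normalizerHom (V ⊔ centralizerIn S V) (P ⊔ V) := by
    refine ⟨hεF, ?_, fun x => ?_, δ, hδ, fun x => (hεe x).symm,
      map_sup_centralizer_eq F hVS hδ hδV⟩
    · rw [hNT]
      exact hAS
    · rw [hNT]
      exact apply_mem F hεF x
  have hεE := h2 _ _ hεN
  -- the inverse of this restriction
  obtain ⟨χ, hχ, hχr, hχ1, hχ2⟩ := exists_inv F hεF rfl
  have hχmem : ∀ y : ↥ε.range, χ y ∈ P ⊔ V := fun y => hχr.le ⟨y, rfl⟩
  have hηF := F.comp_mem hχ hψ hχmem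
  -- `V` lies in the image and `η` fixes `V`
  have hδv : ∀ v : V, ε (Subgroup.inclusion hVA v) = ψ (Subgroup.inclusion hVA v) := by
    intro v
    rw [hεe]
    exact hδV (Subgroup.inclusion le_sup_left (Subgroup.inclusion hVA v)) v.2
  have hVrange : V ≤ ε.range := by
    intro y hy
    obtain ⟨w, hw⟩ := hρr.ge hy
    exact ⟨Subgroup.inclusion hVA w, (hδv w).trans hw⟩
  have hηE : ψ.comp (χ.codRestrict (P ⊔ V) hχmem) ∈ E.Hom _ := by
    apply h1
    refine mem_scSys_of_conj F hVS hSV hVrange hηF S.one_mem (fun y hy => ?_)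
    obtain ⟨w, hw⟩ := hρr.ge hy
    have hw' : ψ (Subgroup.inclusion hVA w) = (y : Ω) := hw
    have e1 : y = ⟨ε (Subgroup.inclusion hVA w), ⟨_, rfl⟩⟩ :=
      Subtype.ext ((hδv w).trans hw').symm
    show ψ ⟨χ y, _⟩ = _
    have e2 : (⟨χ y, hχmem y⟩ : ↥(P ⊔ V)) = Subgroup.inclusion hVA w := by
      apply Subtype.ext
      show χ y = _
      rw [e1]
      exact hχ1 (Subgroup.inclusion hVA w) _
    rw [e2, hw']
    simp
  have hmemr : ∀ x : ↥(P ⊔ V), ε x ∈ ε.range := fun x => ⟨x, rfl⟩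
  refine mem_of_forall_eq E (E.comp_mem hεE hηE hmemr) (fun x => ?_)
  show ψ x = ψ ⟨χ ⟨_, _⟩, _⟩
  congr 1
  apply Subtype.ext
  exact (hχ1 x (hmemr x)).symm

end Ext

end Cfsg.Agent.Lib.Helper27.Qd
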