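import Mathlib
import Cfsg.Agent.Lib.Helper27.QdSC2

/-!
# The subsystem `S C_F(V)`: centric subgroups and section-freeness
-/

set_option autoImplicit false

namespace Cfsg.Agent.Lib.Helper27.Qd

open Cfsg Cfsg.FusionSystem Cfsg.Agent.Lib.Helper26 Cfsg.Agent.Lib.Helper27
  Cfsg.Agent.Lib.Helper27.GT

universe u v

variable {Ω : Type u} [Group Ω] {S : Subgroup Ω} [Finite S] {p : ℕ} [Fact p.Prime]

/-- overgroups of `V` centric in `S C_F(V)` are centric in `F` -/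
theorem isCentric_of_scSys_centric (hS : IsPGroup p S) (F : FusionSystem S)
    (hF : F.IsSaturated p) {V : Subgroup Ω} (hVn : F.IsNormal V)
    (hSV : S ≤ Subgroup.normalizer (V : Set Ω)) {R : Subgroup Ω} (hVR : V ≤ R)
    (hRc : (scSys F V hVn.1 hSV).IsCentric R) : F.IsCentric R := by
  have hVS : V ≤ S := hVn.1
  have hRS : R ≤ S := hRc.1
  refine ⟨hRS, fun R' hconj => ?_⟩
  obtain ⟨φ, hφ, hr⟩ := hconj
  subst hr
  have hρ : φ.comp (Subgroup.inclusion hVR) ∈ F.Hom V := restrict_mem F hφ hVR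
  have hρr : (φ.comp (Subgroup.inclusion hVR)).range = V := range_eq_of_isNormal F hVn hρ
  have ha : autOfHom F hρ hρr ∈ F.autGroup V := autOfHom_mem F hρ hρr
  have hb : (autOfHom F hρ hρr)⁻¹ ∈ F.autGroup V := Subgroup.inv_mem _ ha
  have hae : ∀ v : V, (((autOfHom F hρ hρr) v : V) : Ω) = φ (Subgroup.inclusion hVR v) :=
    fun v => rfl
  have hVr : V ≤ φ.range := by
    intro y hy
    obtain ⟨w, hw⟩ := hρr.ge hy
    exact ⟨Subgroup.inclusion hVR w, hw⟩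
  have hAext : φ.range ≤
      extender S V (V.subtype.comp ((autOfHom F hρ hρr)⁻¹).toMonoidHom) := by
    rintro _ ⟨g, rfl⟩
    have hgN := hSV (apply_mem F hφ g)
    have hgN' := hSV (hRS g.2)
    refine mem_extender_iff.mpr ⟨apply_mem F hφ g, hgN, (g : Ω), hRS g.2, fun x => ?_⟩
    show ((((autOfHom F hρ hρr)⁻¹) ⟨φ g * x * (φ g)⁻¹, _⟩ : V) : Ω) =
      (g : Ω) * ((((autOfHom F hρ hρr)⁻¹) x : V) : Ω) * (g : Ω)⁻¹
    have hw : (g : Ω) * ((((autOfHom F hρ hρr)⁻¹) x : V) : Ω) * (g : Ω)⁻¹ ∈ V :=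
      conj_mem_of_mem_normalizer hgN' _
    have h1 : (autOfHom F hρ hρr) ⟨_, hw⟩ =
        ⟨φ g * x * (φ g)⁻¹, conj_mem_of_mem_normalizer hgN x⟩ := by
      apply Subtype.ext
      rw [hae]
      have e : (Subgroup.inclusion hVR ⟨_, hw⟩ : R) =
          g * Subgroup.inclusion hVR (((autOfHom F hρ hρr)⁻¹) x) * g⁻¹ := Subtype.ext rfl
      rw [e, map_mul, map_mul, map_inv, ← hae, MulAut.apply_inv_self]
    rw [← h1, MulAut.inv_apply_self]
  obtain ⟨δ, hδ, hδV⟩ := exists_ext_aut hS F hF hVn hb hAext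
  have hmem : ∀ x : R, φ x ∈ φ.range ⊔ (V ⊔ centralizerIn S V) := fun x =>
    (le_sup_left : φ.range ≤ _) ⟨x, rfl⟩
  have hζF := F.comp_mem hφ hδ hmem
  have hζ : δ.comp (φ.codRestrict _ hmem) ∈ (scSys F V hVS hSV).Hom R := by
    refine mem_scSys_of_conj F hVS hSV hVR hζF S.one_mem (fun x hx => ?_)
    have hφx : φ x ∈ V := by
      have := hae ⟨x, hx⟩
      have e : Subgroup.inclusion hVR ⟨x, hx⟩ = x := Subtype.ext rfl
      rw [e] at this
      rw [← this]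
      exact (autOfHom F hρ hρr _).2
    show δ ⟨φ x, _⟩ = _
    rw [hδV ⟨φ x, hmem x⟩ hφx]
    have e : (⟨φ x, hφx⟩ : V) = (autOfHom F hρ hρr) ⟨x, hx⟩ := Subtype.ext rfl
    rw [e, MulAut.inv_apply_self]
    simp
  have hcen := hRc.2 _ ⟨_, hζ, rfl⟩
  intro c hc
  have hcV : c ∈ centralizerIn S V := by
    refine ⟨hc.1, ?_⟩
    show c ∈ Subgroup.centralizer (V : Set Ω)
    rw [Subgroup.mem_centralizer_iff]
    intro v hv
    exact (Subgroup.mem_centralizer_iff.mp hc.2) v (hVr hv)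
  have hcD : c ∈ φ.range ⊔ (V ⊔ centralizerIn S V) :=
    (le_sup_right : V ⊔ centralizerIn S V ≤ _) ((le_sup_right : centralizerIn S V ≤ _) hcV)
  have h1 : δ ⟨c, hcD⟩ ∈ centralizerIn S (δ.comp (φ.codRestrict _ hmem)).range := by
    refine ⟨apply_mem F hδ _, ?_⟩
    show δ ⟨c, hcD⟩ ∈ Subgroup.centralizer _
    rw [Subgroup.mem_centralizer_iff]
    rintro _ ⟨r, rfl⟩
    show δ ⟨φ r, hmem r⟩ * δ ⟨c, hcD⟩ = δ ⟨c, hcD⟩ * δ ⟨φ r, hmem r⟩
    rw [← map_mul, ← map_mul]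
    congr 1
    apply Subtype.ext
    exact (Subgroup.mem_centralizer_iff.mp hc.2) _ ⟨r, rfl⟩
  obtain ⟨r, hr⟩ := hcen h1
  have h2 : (⟨φ r, hmem r⟩ : ↥(φ.range ⊔ (V ⊔ centralizerIn S V))) = ⟨c, hcD⟩ :=
    F.injective_of_mem hδ hr
  have h3 : φ r = c := congrArg Subtype.val h2
  rw [← h3]
  exact ⟨r, rfl⟩

/-- `S C_F(V)` inherits section-freeness -/
theorem scSys_sectionFree (hS : IsPGroup p S) (F : FusionSystem S) (hF : F.IsSaturated p)
    (H : Type v) [Group H] (hfree : F.IsSectionFree p H) {V : Subgroup Ω} (hVn : F.IsNormal V)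
    (hSV : S ≤ Subgroup.normalizer (V : Set Ω)) :
    (scSys F V hVn.1 hSV).IsSectionFree p H := by
  apply sectionFree_sub hS F hF H hfree _ (scSys_le F V hVn.1 hSV)
    (scSys_saturated hS F hF V hVn.1 hSV)
  intro R hRn hRc hRr
  have hVR : V ≤ R := isNormal_le_of_centric_radical hS (scSys_isNormal F V hVn.1 hSV) hRc.1
    (hRc.2 R (isConj_refl _ hRc.1)) hRr
  exact isCentric_of_scSys_centric hS F hF hVn hSV hVR hRc

end Cfsg.Agent.Lib.Helper27.Qd
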