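import Mathlib
import Cfsg.Agent.Lib.Helper27.ThMain

/-!
# A saturated non-inner system (odd `p` or `S₄`-free) has a nontrivial `p'`-automorphism of a
nontrivial characteristic subgroup
-/

set_option autoImplicit false

namespace Cfsg.Agent.Lib.Helper27.Th

open Cfsg Cfsg.FusionSystem Cfsg.Agent.Lib.Helper26 Cfsg.Agent.Lib.Helper27
  Cfsg.Agent.Lib.Helper27.GT

universe u

variable {Ω : Type u} [Group Ω] {S : Subgroup Ω}

namespace CharFunctor

variable {p : ℕ} (𝒲 : CharFunctor.{u} p)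

/-- `W S` is invariant under all automorphisms of `S` -/
theorem aut_mem (S : Subgroup Ω) (β : MulAut S) {x : S} (hx : (x : Ω) ∈ 𝒲.W S) :
    ((β x : S) : Ω) ∈ 𝒲.W S := by
  have h1 : (⊤ : Subgroup ↥S).map (S.subtype.comp β.toMonoidHom) = S := by
    ext y
    constructor
    · rintro ⟨z, -, rfl⟩
      exact (β z).2
    · intro hy
      exact ⟨β⁻¹ ⟨y, hy⟩, Subgroup.mem_top _, by simp⟩
  have h2 := 𝒲.map (S.subtype.comp β.toMonoidHom) (S.subtype_injective.comp β.injective)
    (⊤ : Subgroup ↥S)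
  rw [h1] at h2
  rw [h2]
  exact ⟨x, (𝒲.mem_W_top_iff S x).mpr hx, rfl⟩

theorem characteristic (S : Subgroup Ω) : ((𝒲.W S).subgroupOf S).Characteristic := by
  rw [Subgroup.characteristic_iff_le_comap]
  intro φ x hx
  show φ x ∈ (𝒲.W S).subgroupOf S
  rw [Subgroup.mem_subgroupOf]
  exact 𝒲.aut_mem S φ (Subgroup.mem_subgroupOf.mp hx)

end CharFunctor

/-- a nontrivial automorphism of order prime to `p` of a nontrivial characteristic subgroup -/
def CharWit (p : ℕ) (F : FusionSystem S) : Prop :=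
  ∃ Q : Subgroup Ω, Q ≤ S ∧ Q ≠ ⊥ ∧ (Q.subgroupOf S).Characteristic ∧
    ∃ α : MulAut Q, PAut p F Q α

/-- if the factor system of `N_F(V)` modulo `V` is inner, a witness for `V` restricts to a
nontrivial automorphism of `V` of order prime to `p` -/
theorem paut_of_factor_inner [Finite S] {p : ℕ} [Fact p.Prime] (hS : IsPGroup p S)
    (F : FusionSystem S) {V : Subgroup Ω} (hVS : V ≤ S)
    (hSV : S ≤ Subgroup.normalizer (V : Set Ω)) {Ω' : Type u} [Group Ω'] {S' : Subgroup Ω'}
    {θ : ↥S →* Ω'} {E' : FusionSystem S'}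
    (hE' : (normSys F V hVS hSV).IsFactorSystem V θ E') (hin : Inner E')
    (hw : NormWit p F V) : ∃ α : MulAut V, PAut p F V α := by
  obtain ⟨U, β, hVU, hUN, ⟨hβ, hβ1, hβord⟩, hinv⟩ := hw
  have hUS : U ≤ S := hUN.trans (normalizerIn_le S V)
  have hβE := mem_autGroup_normSys F hVS hSV hVU hUS hβ hinv
  have hVsc : (normSys F V hVS hSV).StronglyClosed V :=
    stronglyClosed_of_isNormal _ (normSys_isNormal F V hVS hSV)
  have hmod := trivial_mod_of_factor_inner hS hVsc hE' hin hUS hVU hβE hβord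
  have hnt : ∃ v : U, (v : Ω) ∈ V ∧ β v ≠ v := by
    by_contra hcon
    push Not at hcon
    apply hβ1
    haveI : Finite U := finite_of_le hUS
    refine eq_one_of_stable (V.subgroupOf U) ((hS.to_le hUS).to_subgroup _) β hβord
      (fun t ht => hcon t (Subgroup.mem_subgroupOf.mp ht))
      (fun x => Subgroup.mem_subgroupOf.mpr ?_)
    exact hmod x
  have hφU : U.subtype.comp β.toMonoidHom ∈ F.Hom U := (mem_autGroup_iff F hUS).mp hβ
  have hφ₁ : (U.subtype.comp β.toMonoidHom).comp (Subgroup.inclusion hVU) ∈ F.Hom V :=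
    restrict_mem F hφU hVU
  have hr₁ : ((U.subtype.comp β.toMonoidHom).comp (Subgroup.inclusion hVU)).range = V := by
    apply range_eq_of_range_le F hφ₁
    rintro _ ⟨x, rfl⟩
    exact hinv _ x.2
  haveI : Finite (MulAut V) := GT.finite_mulAut_of_le hVS
  have hpow := pow_agree (le_refl V) hVU (autOfHom F hφ₁ hr₁) β hinv
    (fun v => by rw [autOfHom_apply]; rfl) (orderOf β)
  refine ⟨autOfHom F hφ₁ hr₁, autOfHom_mem F hφ₁ hr₁, ?_, ?_⟩
  · intro h1
    obtain ⟨v, hvV, hv⟩ := hnt
    apply hv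
    have h2 := autOfHom_apply F hφ₁ hr₁ ⟨v, hvV⟩
    rw [h1, MulAut.one_apply] at h2
    apply Subtype.ext
    exact h2.symm
  · have h1 : (autOfHom F hφ₁ hr₁) ^ orderOf β = 1 := by
      ext v
      have := hpow v
      rw [pow_orderOf_eq_one] at this
      exact this
    exact Nat.Coprime.coprime_dvd_left (orderOf_dvd_of_pow_eq_one h1) hβord

theorem paut_lift [Finite S] {p : ℕ} [Fact p.Prime] {F : FusionSystem S} {T : Subgroup Ω}
    {Ω' : Type u} [Group Ω'] {S' : Subgroup Ω'} {θ : ↥S →* Ω'} {E : FusionSystem S'}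
    (hE : F.IsFactorSystem T θ E) {Q' : Subgroup Ω'} (hQ'S' : Q' ≤ S') {α' : MulAut Q'}
    (h : PAut p E Q' α') :
    ∃ γ : MulAut ↥(preimageAlong θ Q'), PAut p F (preimageAlong θ Q') γ := by
  obtain ⟨hα', hα'1, hα'ord⟩ := h
  obtain ⟨γ, hγ, hγβ⟩ := factor_lift_aut hE hQ'S' hα'
  have hPS : preimageAlong θ Q' ≤ S := preimageAlong_le θ Q'
  haveI : Finite (MulAut ↥(preimageAlong θ Q')) := GT.finite_mulAut_of_le hPS
  obtain ⟨k, hk, hkord⟩ := exists_pprime_pow p γ hα'ord
  have hpow := pow_lift_apply hPS γ α' hγβ k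
  have hα'k : α' ^ k = α' := by
    rw [← pow_mod_orderOf, hk, pow_mod_orderOf, pow_one]
  rw [hα'k] at hpow
  refine ⟨γ ^ k, Subgroup.pow_mem _ hγ k, ?_, hkord⟩
  intro h1
  apply hα'1
  ext y'
  obtain ⟨y, hy⟩ := y'
  have hyS' : y ∈ S' := hQ'S' hy
  rw [← hE.2.2.1] at hyS'
  obtain ⟨s, rfl⟩ := hyS'
  have hsU : (s : Ω) ∈ preimageAlong θ Q' := mem_preimageAlong.mpr ⟨s.2, hy⟩
  have := hpow ⟨s, hsU⟩
  rw [h1] at this
  exact this.symm

theorem characteristic_preimage {V : Subgroup Ω} [hn : (V.subgroupOf S).Normal]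
    (hVc : (V.subgroupOf S).Characteristic) {Q' : Subgroup (↥S ⧸ V.subgroupOf S)}
    (hQ' : (Q'.subgroupOf (⊤ : Subgroup (↥S ⧸ V.subgroupOf S))).Characteristic) :
    ((preimageAlong (QuotientGroup.mk' (V.subgroupOf S)) Q').subgroupOf S).Characteristic := by
  rw [Subgroup.characteristic_iff_le_comap]
  intro φ s hs
  rw [Subgroup.mem_subgroupOf] at hs
  obtain ⟨hsS, hs'⟩ := mem_preimageAlong.mp hs
  show φ s ∈ (preimageAlong (QuotientGroup.mk' (V.subgroupOf S)) Q').subgroupOf S
  rw [Subgroup.mem_subgroupOf]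
  refine mem_preimageAlong.mpr ⟨(φ s).2, ?_⟩
  have hmap : (V.subgroupOf S).map φ.toMonoidHom = V.subgroupOf S :=
    Subgroup.characteristic_iff_map_eq.mp hVc φ
  have h2 := (Subgroup.characteristic_iff_le_comap.mp hQ')
    (Subgroup.topEquiv.trans
      ((QuotientGroup.congr (V.subgroupOf S) (V.subgroupOf S) φ hmap).trans
        Subgroup.topEquiv.symm))
  have h3 : (⟨(QuotientGroup.mk' (V.subgroupOf S)) s, Subgroup.mem_top _⟩ :
      ↥(⊤ : Subgroup (↥S ⧸ V.subgroupOf S))) ∈
      Q'.subgroupOf (⊤ : Subgroup (↥S ⧸ V.subgroupOf S)) :=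
    Subgroup.mem_subgroupOf.mpr hs'
  have h4 := h2 h3
  exact Subgroup.mem_subgroupOf.mp h4

theorem inner_of_bot [Finite S] {p : ℕ} [Fact p.Prime] (hS : IsPGroup p S)
    (F : FusionSystem S) (hF : F.IsSaturated p) (h : S = ⊥) : Inner F := by
  by_contra hni
  obtain ⟨U, β, hUS, hβ, hβ1, -⟩ := exists_paut_of_not_inner hS F hF hni
  apply hβ1
  ext x
  have hx : (x : Ω) = 1 := by
    have := hUS x.2
    rw [h, Subgroup.mem_bot] at this
    exact this
  have hx1 : x = 1 := Subtype.ext hx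
  rw [hx1, map_one, map_one]

/-- the strengthened Frobenius criterion, witness form -/
theorem charWit_main {p : ℕ} [Fact p.Prime] :
    ∀ (n : ℕ) {Ω : Type u} [Group Ω] (S : Subgroup Ω) [Finite S], Nat.card S = n →
      IsPGroup p S → ∀ F : FusionSystem S, F.IsSaturated p → PClass p F → ¬ Inner F →
        CharWit p F := by
  intro n
  induction n using Nat.strong_induction_on with
  | _ n IH =>
    intro Ω _ S _ hn hS F hF hP hni
    have hSne : S ≠ ⊥ := fun h => hni (inner_of_bot hS F hF h)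
    obtain ⟨V, hw, hVS, hSV, hVne, hVch⟩ : ∃ V : Subgroup Ω, NormWit p F V ∧ V ≤ S ∧
        S ≤ Subgroup.normalizer (V : Set Ω) ∧ V ≠ ⊥ ∧ (V.subgroupOf S).Characteristic := by
      rcases th_main (Nat.card S) S rfl hS F hF hP hni with hw | hw
      · exact ⟨_, normWit_of_centWit hw, (centerFun p).le S,
          Subgroup.le_normalizer.trans ((centerFun p).normalizer_le S),
          (centerFun p).ne_bot S hS hSne, (centerFun p).characteristic S⟩
      · exact ⟨_, hw, (thompsonFun p).le S,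
          Subgroup.le_normalizer.trans ((thompsonFun p).normalizer_le S),
          (thompsonFun p).ne_bot S hS hSne, (thompsonFun p).characteristic S⟩
    haveI hnorm : (V.subgroupOf S).Normal :=
      (Subgroup.normal_subgroupOf_iff_le_normalizer hVS).mpr hSV
    have hEsat := normSys_saturated hS F hF V hVS hSV
    have hVsc : (normSys F V hVS hSV).StronglyClosed V :=
      stronglyClosed_of_isNormal _ (normSys_isNormal F V hVS hSV)
    obtain ⟨E', hE'⟩ : ∃ E' : FusionSystem (⊤ : Subgroup (↥S ⧸ V.subgroupOf S)),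
        (normSys F V hVS hSV).IsFactorSystem V (QuotientGroup.mk' (V.subgroupOf S)) E' :=
      ⟨_, factorSystem_isFactorSystem (normSys F V hVS hSV) hVsc
        (QuotientGroup.mk' (V.subgroupOf S)) (mk'_ker_iff V) (mk'_range_top V)⟩
    by_cases hin : Inner E'
    · obtain ⟨α, hα⟩ := paut_of_factor_inner hS F hVS hSV hE' hin hw
      exact ⟨V, hVS, hVne, hVch, α, hα⟩
    · have hE'sat := factor_saturated hS hEsat hVsc hE'
      have hPE' : PClass p E' :=
        pClass_factor hS _ hEsat (pClass_normSys hS F hF hP V hVS hSV) hVsc hE'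
      haveI : Finite (↥S ⧸ V.subgroupOf S) := inferInstance
      haveI : Finite ↥(⊤ : Subgroup (↥S ⧸ V.subgroupOf S)) := inferInstance
      haveI : Finite V := finite_of_le hVS
      have hcardV : Nat.card (V.subgroupOf S) = Nat.card V :=
        Nat.card_congr (Subgroup.subgroupOfEquivOfLe hVS).toEquiv
      have hV2 : 1 < Nat.card V := by
        have h1 : Nat.card V ≠ 1 := fun h => hVne (Subgroup.eq_bot_of_card_eq _ h)
        have h2 : 0 < Nat.card V := Nat.card_pos
        omega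
      have hcard : Nat.card ↥(⊤ : Subgroup (↥S ⧸ V.subgroupOf S)) < Nat.card S := by
        rw [Subgroup.card_top]
        have h1 := Subgroup.card_eq_card_quotient_mul_card_subgroup (V.subgroupOf S)
        rw [hcardV] at h1
        have h2 : 0 < Nat.card (↥S ⧸ V.subgroupOf S) := Nat.card_pos
        rw [h1]
        nlinarith
      have hS' : IsPGroup p ↥(⊤ : Subgroup (↥S ⧸ V.subgroupOf S)) :=
        (hS.of_surjective (QuotientGroup.mk' (V.subgroupOf S))
          (QuotientGroup.mk'_surjective _)).of_equiv Subgroup.topEquiv.symm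
      obtain ⟨Q', hQ'S', hQ'ne, hQ'ch, α', hα'⟩ :=
        IH _ (hn ▸ hcard) ⊤ rfl hS' E' hE'sat hPE' hin
      obtain ⟨γ, hγ⟩ := paut_lift hE' hQ'S' hα'
      refine ⟨preimageAlong (QuotientGroup.mk' (V.subgroupOf S)) Q', preimageAlong_le _ _, ?_,
        characteristic_preimage hVch hQ'ch, γ, ?_⟩
      · intro h
        apply hVne
        rw [eq_bot_iff, ← h]
        exact ker_le_preimageAlong hE' _
      · exact ⟨autGroup_mono (normSys_le F V hVS hSV) (preimageAlong_le _ _) hγ.1, hγ.2.1,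
          hγ.2.2⟩

end Cfsg.Agent.Lib.Helper27.Th
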