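import Mathlib
import Cfsg.Agent.Lib.Helper27.QdKey2
import Cfsg.Agent.Lib.Helper27.QdSC3
import Cfsg.Agent.Lib.Helper27.ThChar
import Cfsg.Agent.Lib.Helper27.HFreeQuot3

/-!
# Glauberman functors control fusion in section-free fusion systems: the main induction
-/

set_option autoImplicit false

namespace Cfsg.Agent.Lib.Helper27.Qd

open Cfsg Cfsg.FusionSystem Cfsg.Agent.Lib.Helper26 Cfsg.Agent.Lib.Helper27
  Cfsg.Agent.Lib.Helper27.GT Cfsg.Agent.Lib.Helper27.Th

universe u v

/-- the group-theoretic hypothesis on the functor: `W(T)` is normal in every finite group `L` with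
Sylow subgroup `T`, `C_L(O_p(L)) ≤ O_p(L)`, not involving `H` -/
def GlaubFun (p : ℕ) (H : Type v) [Group H] (𝒲 : CharFunctor.{u} p) : Prop :=
  ∀ (L : Type u) [Group L] [Finite L] (T : Sylow p L),
    Subgroup.centralizer ((pCore p L : Subgroup L) : Set L) ≤ pCore p L → ¬ Cfsg.Involves H L →
      (𝒲.W (T : Subgroup L)).Normal

variable {Ω : Type u} [Group Ω] {S : Subgroup Ω}

theorem isNormal_of_le_normSys (F : FusionSystem S) (W : Subgroup Ω) (hWS : W ≤ S)
    (hSW : S ≤ Subgroup.normalizer (W : Set Ω)) (h : F ≤ normSys F W hWS hSW) :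
    F.IsNormal W := by
  refine ⟨hWS, fun P φ hφ => ?_⟩
  have := h P hφ
  rw [normSys_hom] at this
  exact this.2.2.2

theorem le_normSys_of_isNormal {F₂ F : FusionSystem S} (hle : F₂ ≤ F) {W : Subgroup Ω}
    (hWS : W ≤ S) (hSW : S ≤ Subgroup.normalizer (W : Set Ω)) (hn : F₂.IsNormal W) :
    F₂ ≤ normSys F W hWS hSW := by
  intro P φ hφ
  rw [normSys_hom]
  obtain ⟨ψ, hψ, hext, hmap⟩ := hn.2 P φ hφ
  refine ⟨hle P hφ, ?_, fun x => ?_, ψ, hle _ hψ, hext, hmap⟩
  · rw [normalizerIn_eq_self hSW]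
    exact source_le F₂ hφ
  · rw [normalizerIn_eq_self hSW]
    exact apply_mem F₂ hφ x

theorem sectionFree_cast {T S : Subgroup Ω} (h : T = S) (E : FusionSystem T) {p : ℕ}
    {H : Type v} [Group H] (hE : E.IsSectionFree p H) : (castSystem h E).IsSectionFree p H := by
  subst h
  exact hE

theorem sectionFree_normSys [Finite S] {p : ℕ} [Fact p.Prime] (hS : IsPGroup p S)
    (F : FusionSystem S) (hF : F.IsSaturated p) (H : Type v) [Group H]
    (hfree : F.IsSectionFree p H) (V : Subgroup Ω) (hVS : V ≤ S)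
    (hSV : S ≤ Subgroup.normalizer (V : Set Ω)) : (normSys F V hVS hSV).IsSectionFree p H := by
  apply sectionFree_cast
  exact HFree.sectionFree_normalizer hS F hF H hfree (fullyNormalized_of_normal F hVS hSV) _
    (normalizerSystem_isNormalizerSystem F V hVS)

/-- the constrained case -/
theorem isNormal_of_constrained [Finite S] {p : ℕ} [Fact p.Prime] (hS : IsPGroup p S)
    (H : Type v) [Group H] (𝒲 : CharFunctor.{u} p) (hW : GlaubFun p H 𝒲) (F : FusionSystem S)
    (hF : F.IsSaturated p) (hfree : F.IsSectionFree p H) {V : Subgroup Ω} (hVn : F.IsNormal V)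
    (hcent : centralizerIn S V ≤ V) : F.IsNormal (𝒲.W S) := by
  have hVc : F.IsCentric V := by
    refine ⟨hVn.1, fun Q' hconj => ?_⟩
    rw [isConj_eq_of_isNormal _ hVn hconj]
    exact hcent
  obtain ⟨L, _, ι, hmod⟩ := Model.exists_model p hS F ⟨hF, V, hVn, hVc⟩
  obtain ⟨hfin, hR, ⟨T, hT⟩, hcore⟩ := hmod
  haveI := hfin
  have hinv : ¬ Cfsg.Involves H L :=
    hfree V (fullyNormalized_of_isNormal _ hVn) hVc _
      (normalizerSystem_isNormalizerSystem _ V hVn.1) L _
      (HFree.isModel_normalizer_of_isNormal hVn _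
        (normalizerSystem_isNormalizerSystem _ V hVn.1) ι ⟨hfin, hR, ⟨T, hT⟩, hcore⟩)
  have hnorm := hW L T hcore hinv
  rw [hT, ← 𝒲.imSub_eq hR.1] at hnorm
  haveI := hnorm
  have h := isNormal_preSub_of_normal F hR (imSub ι (𝒲.W S)) (imSub_le_range ι _)
  rwa [preSub_imSub hR.1 (𝒲.le S)] at h

/-- the main theorem: in a saturated `H`-free fusion system, `W(S)` is normal -/
theorem qd_main {p : ℕ} [Fact p.Prime] (H : Type v) [Group H] (𝒲 : CharFunctor.{u} p)
    (hW : GlaubFun p H 𝒲) :
    ∀ (n : ℕ) {Ω : Type u} [Group Ω] (S : Subgroup Ω) [Finite S], Nat.card S = n →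
      IsPGroup p S → ∀ F : FusionSystem S, F.IsSaturated p → F.IsSectionFree p H →
        F.IsNormal (𝒲.W S) := by
  intro n
  induction n using Nat.strong_induction_on with
  | _ n IH =>
    intro Ω _ S _ hn hS F hF hfree
    by_contra hbad
    have hWS : 𝒲.W S ≤ S := 𝒲.le S
    have hSW : S ≤ Subgroup.normalizer (𝒲.W S : Set Ω) :=
      Subgroup.le_normalizer.trans (𝒲.normalizer_le S)
    -- a nontrivial normal subgroup of `S` with a bad witness
    have hnle : ¬ F ≤ normSys F (𝒲.W S) hWS hSW := fun h =>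
      hbad (isNormal_of_le_normSys F _ hWS hSW h)
    have hAutS : F.autGroup S ≤ (normSys F (𝒲.W S) hWS hSW).autGroup S := by
      intro α hα
      exact mem_autGroup_normSys F hWS hSW hWS le_rfl hα (fun x hx => 𝒲.aut_mem S α hx)
    have hclimb : ∀ (V : Subgroup Ω) (hVn : F.IsFullyNormalized V), V ≠ ⊥ →
        normalizerIn S V ≠ S → ∃ X : Subgroup Ω, X ≠ ⊥ ∧ X ≤ normalizerIn S V ∧
          (normalizerSystem F V hVn.1).IsNormal X ∧
          normalizerIn S (normalizerIn S V) ≤ normalizerIn S X := by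
      intro V hVn hVne hR
      have hRS : normalizerIn S V ≤ S := normalizerIn_le S V
      haveI : Finite ↥(normalizerIn S V) := finite_of_le hRS
      have hcard : Nat.card (normalizerIn S V) < Nat.card S :=
        Cfsg.Agent.S5082.card_lt_of_ne hRS hR
      have hNN := normalizerSystem_isNormalizerSystem F V hVn.1
      have hNsat := normalizerSystem_saturated hS F hF hVn _ hNN
      have hNfree := HFree.sectionFree_normalizer hS F hF H hfree hVn _ hNN
      have hRne : normalizerIn S V ≠ ⊥ := by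
        intro h
        apply hVne
        rw [eq_bot_iff, ← h]
        exact le_normalizerIn_self hVn.1
      refine ⟨𝒲.W (normalizerIn S V), 𝒲.ne_bot _ (hS.to_le hRS) hRne, 𝒲.le _,
        IH _ (hn ▸ hcard) (normalizerIn S V) rfl (hS.to_le hRS) _ hNsat hNfree, ?_⟩
      intro s hs
      obtain ⟨hsS, hsR⟩ := Subgroup.mem_inf.mp hs
      exact Subgroup.mem_inf.mpr ⟨hsS, 𝒲.normalizer_le _ hsR⟩
    obtain ⟨n₀, V₀, hbig, hV₀S, hSV₀, hV₀ne, hbadV₀⟩ :=
      exists_bad_normal hS F hF _ hnle hAutS hclimb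
    have hF₁bad : ¬ (normSys F V₀ hV₀S hSV₀).IsNormal (𝒲.W S) := by
      intro hgood
      obtain ⟨U, β, hVU, hUN, hUn, hβ, hβE, hinv⟩ := hbadV₀
      have hUS : U ≤ S := hUN.trans (normalizerIn_le S V₀)
      apply hβE
      have h1 : β ∈ (normSys F V₀ hV₀S hSV₀).autGroup U :=
        mem_autGroup_normSys F hV₀S hSV₀ hVU hUS hβ hinv
      exact autGroup_mono
        (le_normSys_of_isNormal (normSys_le F V₀ hV₀S hSV₀) hWS hSW hgood) hUS h1
    -- a maximal normal subgroup of a bad system
    obtain ⟨V, ⟨F', hF', hfree', hbad', hVn, hVne⟩, hVmax⟩ := exists_max_nat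
      {V : Subgroup Ω | ∃ F' : FusionSystem S, F'.IsSaturated p ∧ F'.IsSectionFree p H ∧
        ¬ F'.IsNormal (𝒲.W S) ∧ F'.IsNormal V ∧ V ≠ ⊥}
      ⟨V₀, normSys F V₀ hV₀S hSV₀, normSys_saturated hS F hF V₀ hV₀S hSV₀,
        sectionFree_normSys hS F hF H hfree V₀ hV₀S hSV₀, hF₁bad,
        normSys_isNormal F V₀ hV₀S hSV₀, hV₀ne⟩
      (fun V => Nat.card V) (Nat.card S)
      (fun V hV => by
        obtain ⟨F', -, -, -, hVn, -⟩ := hV
        exact card_le_card_of_le_of_finite hVn.1)
    have hVS : V ≤ S := hVn.1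
    have hSV : S ≤ Subgroup.normalizer (V : Set Ω) := fun s hs =>
      mem_normalizer_of_isNormal F' hVn hs
    by_cases hcent : centralizerIn S V ≤ V
    · exact hbad' (isNormal_of_constrained hS H 𝒲 hW F' hF' hfree' hVn hcent)
    · have hTS : V ⊔ centralizerIn S V ≤ S := sup_le hVS (centralizerIn_le S V)
      have hST := le_normalizer_sup_centralizerIn hSV
      haveI : Finite ↥(V ⊔ centralizerIn S V) := finite_of_le hTS
      have hTgood : (normSys F' (V ⊔ centralizerIn S V) hTS hST).IsNormal (𝒲.W S) := by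
        by_contra hTbad
        have h1 := hVmax _ ⟨normSys F' _ hTS hST, normSys_saturated hS F' hF' _ hTS hST,
          sectionFree_normSys hS F' hF' H hfree' _ hTS hST, hTbad,
          normSys_isNormal F' _ hTS hST, fun h => hVne (eq_bot_iff.mpr (h ▸ le_sup_left))⟩
        have h2 : V = V ⊔ centralizerIn S V := Subgroup.eq_of_le_of_card_ge le_sup_left h1
        exact hcent (sup_eq_left.mp h2.symm)
      have hF₂bad : ¬ (scSys F' V hVS hSV).IsNormal (𝒲.W S) := by
        intro hgood
        apply hbad'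
        apply isNormal_of_le_normSys F' _ hWS hSW
        apply le_of_scSys_le hS F' hF' hVn hSV
        · exact le_normSys_of_isNormal (scSys_le F' V hVS hSV) hWS hSW hgood
        · intro P φ hφ
          have : φ ∈ (normSys F' _ hTS hST).Hom P := by
            rw [normSys_hom]
            exact hφ
          exact le_normSys_of_isNormal (normSys_le F' _ hTS hST) hWS hSW hTgood P this
      have hF₂sat := scSys_saturated hS F' hF' V hVS hSV
      have hF₂free := scSys_sectionFree hS F' hF' H hfree' hVn hSV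
      have hVn₂ := scSys_isNormal F' V hVS hSV
      have hVsc := stronglyClosed_of_isNormal _ hVn₂
      haveI hnorm : (V.subgroupOf S).Normal :=
        (Subgroup.normal_subgroupOf_iff_le_normalizer hVS).mpr hSV
      have hE' := factorSystem_isFactorSystem (scSys F' V hVS hSV) hVsc
        (QuotientGroup.mk' (V.subgroupOf S)) (mk'_ker_iff V) (mk'_range_top V)
      have hE'sat := factor_saturated hS hF₂sat hVsc hE'
      have hE'free := HFree.sectionFree_factor hS _ hF₂sat hVsc H hF₂free hE'
      haveI : Finite (↥S ⧸ V.subgroupOf S) := inferInstance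
      haveI : Finite ↥(⊤ : Subgroup (↥S ⧸ V.subgroupOf S)) := inferInstance
      haveI : Finite V := finite_of_le hVS
      have hcardV : Nat.card (V.subgroupOf S) = Nat.card V :=
        Nat.card_congr (Subgroup.subgroupOfEquivOfLe hVS).toEquiv
      have hV2 : 1 < Nat.card V := by
        have h1 : Nat.card V ≠ 1 := fun h => hVne (Subgroup.eq_bot_of_card_eq _ h)
        have h2 : 0 < Nat.card V := Nat.card_pos
        omega
      have hcard : Nat.card ↥(⊤ : Subgroup (↥S ⧸ V.subgroupOf S)) < Nat.card S := by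
        rw [Subgroup.card_top]
        have h1 := Subgroup.card_eq_card_quotient_mul_card_subgroup (V.subgroupOf S)
        rw [hcardV] at h1
        have h2 : 0 < Nat.card (↥S ⧸ V.subgroupOf S) := Nat.card_pos
        rw [h1]
        nlinarith
      have hS' : IsPGroup p ↥(⊤ : Subgroup (↥S ⧸ V.subgroupOf S)) :=
        (hS.of_surjective (QuotientGroup.mk' (V.subgroupOf S))
          (QuotientGroup.mk'_surjective _)).of_equiv Subgroup.topEquiv.symm
      have hX' := IH _ (hn ▸ hcard) ⊤ rfl hS' _ hE'sat hE'free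
      have hXn := isNormal_preimage_of_factor hS _ hF₂sat hVn₂
        (fun U hVU hUS γ hγ => scSys_aut_conj F' hVS hSV hVU hUS hγ) hE' hX'
      have hVX : V ≤ preimageAlong (QuotientGroup.mk' (V.subgroupOf S))
          (𝒲.W (⊤ : Subgroup (↥S ⧸ V.subgroupOf S))) := ker_le_preimageAlong hE' _
      have hXne : preimageAlong (QuotientGroup.mk' (V.subgroupOf S))
          (𝒲.W (⊤ : Subgroup (↥S ⧸ V.subgroupOf S))) ≠ ⊥ := fun h =>
        hVne (eq_bot_iff.mpr (h ▸ hVX))
      have h1 := hVmax _ ⟨scSys F' V hVS hSV, hF₂sat, hF₂free, hF₂bad, hXn, hXne⟩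
      -- but `V` is properly contained in the preimage
      have htopne : (⊤ : Subgroup (↥S ⧸ V.subgroupOf S)) ≠ ⊥ := by
        intro h
        apply hcent
        have hVeq : V = S := by
          apply le_antisymm hVS
          intro s hs
          have h1 : (QuotientGroup.mk' (V.subgroupOf S)) ⟨s, hs⟩ ∈
              (⊤ : Subgroup (↥S ⧸ V.subgroupOf S)) := Subgroup.mem_top _
          rw [h, Subgroup.mem_bot] at h1
          exact (mk'_ker_iff V ⟨s, hs⟩).mp h1
        rw [hVeq]
        exact centralizerIn_le S S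
      have hW'ne := 𝒲.ne_bot (⊤ : Subgroup (↥S ⧸ V.subgroupOf S)) hS' htopne
      obtain ⟨y, hy1⟩ := (Subgroup.ne_bot_iff_exists_ne_one.mp hW'ne)
      obtain ⟨s, hs⟩ := QuotientGroup.mk'_surjective (V.subgroupOf S) (y : ↥S ⧸ V.subgroupOf S)
      have hsX : (s : Ω) ∈ preimageAlong (QuotientGroup.mk' (V.subgroupOf S))
          (𝒲.W (⊤ : Subgroup (↥S ⧸ V.subgroupOf S))) := by
        refine mem_preimageAlong.mpr ⟨s.2, ?_⟩
        rw [hs]
        exact y.2
      have hsV : (s : Ω) ∉ V := by
        intro h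
        have := (mk'_ker_iff V s).mpr h
        rw [hs] at this
        apply hy1
        exact Subtype.ext this
      have hlt : V < preimageAlong (QuotientGroup.mk' (V.subgroupOf S))
          (𝒲.W (⊤ : Subgroup (↥S ⧸ V.subgroupOf S))) :=
        lt_of_le_of_ne hVX (fun h => hsV (h ▸ hsX))
      haveI : Finite ↥(preimageAlong (QuotientGroup.mk' (V.subgroupOf S))
          (𝒲.W (⊤ : Subgroup (↥S ⧸ V.subgroupOf S)))) := finite_of_le (preimageAlong_le _ _)
      have := card_lt_card_of_lt hlt
      omega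

end Cfsg.Agent.Lib.Helper27.Qd
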