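import Mathlib
import Cfsg.Agent.Lib.Helper27.QdMain

/-!
# The subsystem of maps with `x⁻¹ φ(x)` in a given subgroup; the focal subgroup of `N_F(W(S))`
-/

set_option autoImplicit false

namespace Cfsg.Agent.Lib.Helper27.Tr

open Cfsg Cfsg.FusionSystem Cfsg.Agent.Lib.Helper26 Cfsg.Agent.Lib.Helper27
  Cfsg.Agent.Lib.Helper27.GT Cfsg.Agent.Lib.Helper27.Th Cfsg.Agent.Lib.Helper27.Qd

universe u

variable {Ω : Type u} [Group Ω] {S : Subgroup Ω}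

/-- the maps `φ` of `F` with `x⁻¹ φ(x) ∈ T₀` for all `x` -/
def focSys (F : FusionSystem S) (T₀ : Subgroup Ω)
    (h : ∀ s ∈ S, ∀ x ∈ S, x⁻¹ * (s * x * s⁻¹) ∈ T₀) : FusionSystem S where
  Hom P := {φ | φ ∈ F.Hom P ∧ ∀ x : P, (x : Ω)⁻¹ * φ x ∈ T₀}
  le_of_mem h := F.le_of_mem h.1
  injective_of_mem h := F.injective_of_mem h.1
  conj_mem hP hg := ⟨F.conj_mem hP hg, fun x => h _ hg _ (hP x.2)⟩
  comp_mem := by
    rintro P Q φ ψ ⟨hφ, hφ'⟩ ⟨hψ, hψ'⟩ hm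
    refine ⟨F.comp_mem hφ hψ hm, fun x => ?_⟩
    have h1 := hφ' x
    have h2 := hψ' ⟨φ x, hm x⟩
    have e : (x : Ω)⁻¹ * (ψ.comp (φ.codRestrict Q hm)) x =
        ((x : Ω)⁻¹ * φ x) * ((φ x)⁻¹ * ψ ⟨φ x, hm x⟩) := by
      show _ * ψ ⟨φ x, _⟩ = _
      group
    rw [e]
    exact T₀.mul_mem h1 h2
  inv_mem := by
    rintro P φ ⟨hφ, hφ'⟩
    obtain ⟨ψ, hψ, hinv⟩ := F.inv_mem hφ
    refine ⟨ψ, ⟨hψ, ?_⟩, hinv⟩
    rintro ⟨_, x, rfl⟩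
    rw [hinv x]
    have := T₀.inv_mem (hφ' x)
    rw [mul_inv_rev, inv_inv] at this
    exact this

theorem mem_focSys {F : FusionSystem S} {T₀ : Subgroup Ω}
    {h : ∀ s ∈ S, ∀ x ∈ S, x⁻¹ * (s * x * s⁻¹) ∈ T₀} {P : Subgroup Ω} {φ : P →* Ω} :
    φ ∈ (focSys F T₀ h).Hom P ↔ φ ∈ F.Hom P ∧ ∀ x : P, (x : Ω)⁻¹ * φ x ∈ T₀ := Iff.rfl

theorem focSys_le (F : FusionSystem S) (T₀ : Subgroup Ω)
    (h : ∀ s ∈ S, ∀ x ∈ S, x⁻¹ * (s * x * s⁻¹) ∈ T₀) : focSys F T₀ h ≤ F := fun _ _ hφ => hφ.1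

theorem focal_le_iff (F : FusionSystem S) (T₀ : Subgroup Ω)
    (h : ∀ s ∈ S, ∀ x ∈ S, x⁻¹ * (s * x * s⁻¹) ∈ T₀) :
    F.focalSubgroup ≤ T₀ ↔ F ≤ focSys F T₀ h := by
  constructor
  · intro hle P φ hφ
    exact ⟨hφ, fun x => hle (Subgroup.subset_closure ⟨P, φ, x, hφ, rfl⟩)⟩
  · intro hle
    unfold FusionSystem.focalSubgroup
    rw [Subgroup.closure_le]
    rintro y ⟨P, φ, x, hφ, rfl⟩
    exact (hle P hφ).2 x

theorem gen_mem_focal (F : FusionSystem S) {P : Subgroup Ω} {φ : P →* Ω} (hφ : φ ∈ F.Hom P)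
    (x : P) : (x : Ω)⁻¹ * φ x ∈ F.focalSubgroup :=
  Subgroup.subset_closure ⟨P, φ, x, hφ, rfl⟩

theorem focal_le_S (F : FusionSystem S) : F.focalSubgroup ≤ S := by
  unfold FusionSystem.focalSubgroup
  rw [Subgroup.closure_le]
  rintro y ⟨P, φ, x, hφ, rfl⟩
  exact S.mul_mem (S.inv_mem (source_le F hφ x.2)) (apply_mem F hφ x)

theorem focal_mono {F₁ F : FusionSystem S} (hle : F₁ ≤ F) :
    F₁.focalSubgroup ≤ F.focalSubgroup := by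
  unfold FusionSystem.focalSubgroup
  apply Subgroup.closure_mono
  rintro y ⟨P, φ, x, hφ, rfl⟩
  exact ⟨P, φ, x, hle P hφ, rfl⟩

theorem comm_mem_focal (F : FusionSystem S) {s x : Ω} (hs : s ∈ S) (hx : x ∈ S) :
    x⁻¹ * (s * x * s⁻¹) ∈ F.focalSubgroup :=
  gen_mem_focal F (F.conj_mem le_rfl hs) ⟨x, hx⟩

section TW

variable {p : ℕ} (𝒲 : CharFunctor.{u} p)

theorem le_normalizer_W (S : Subgroup Ω) : S ≤ Subgroup.normalizer (𝒲.W S : Set Ω) :=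
  Subgroup.le_normalizer.trans (𝒲.normalizer_le S)

/-- the normalizer system of `W(S)`, over `S` -/
def nW (F : FusionSystem S) : FusionSystem S :=
  normSys F (𝒲.W S) (𝒲.le S) (le_normalizer_W 𝒲 S)

theorem nW_le (F : FusionSystem S) : nW 𝒲 F ≤ F := normSys_le F _ _ _

theorem nW_mono {F₁ F : FusionSystem S} (hle : F₁ ≤ F) : nW 𝒲 F₁ ≤ nW 𝒲 F := by
  intro P φ hφ
  unfold nW at hφ ⊢
  rw [normSys_hom] at hφ ⊢
  obtain ⟨h1, h2, h3, ψ, hψ, h4, h5⟩ := hφ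
  exact ⟨hle P h1, h2, h3, ψ, hle _ hψ, h4, h5⟩

/-- the focal subgroup of `N_F(W(S))` -/
def TW (F : FusionSystem S) : Subgroup Ω := (nW 𝒲 F).focalSubgroup

theorem TW_le_focal (F : FusionSystem S) : TW 𝒲 F ≤ F.focalSubgroup := focal_mono (nW_le 𝒲 F)

theorem TW_mono {F₁ F : FusionSystem S} (hle : F₁ ≤ F) : TW 𝒲 F₁ ≤ TW 𝒲 F :=
  focal_mono (nW_mono 𝒲 hle)

theorem comm_mem_TW (F : FusionSystem S) : ∀ s ∈ S, ∀ x ∈ S, x⁻¹ * (s * x * s⁻¹) ∈ TW 𝒲 F :=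
  fun _ hs _ hx => comm_mem_focal _ hs hx

/-- `W` controls transfer in `F` -/
def Good (F : FusionSystem S) : Prop := F.focalSubgroup ≤ TW 𝒲 F

theorem good_of_le {F₁ F : FusionSystem S} (hle : F₁ ≤ F) (h : F₁.focalSubgroup ≤ TW 𝒲 F₁) :
    F₁.focalSubgroup ≤ TW 𝒲 F := h.trans (TW_mono 𝒲 hle)

end TW

end Cfsg.Agent.Lib.Helper27.Tr
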