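import Mathlib
import Cfsg.Agent.Lib.Helper27.TrFocSys
import Cfsg.Agent.Lib.Helper27.FusFactorSat

/-!
# The focal subgroup and factor systems
-/

set_option autoImplicit false

namespace Cfsg.Agent.Lib.Helper27.Tr

open Cfsg Cfsg.FusionSystem Cfsg.Agent.Lib.Helper26 Cfsg.Agent.Lib.Helper27
  Cfsg.Agent.Lib.Helper27.GT Cfsg.Agent.Lib.Helper27.Qd

universe u

variable {Ω : Type u} [Group Ω] {S : Subgroup Ω}

/-- if the focal subgroup of `F/V` is that of `N_{F/V}(X')`, the focal subgroup of `F` lies in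
`foc(N_F(X)) V` for the preimage `X` of `X'` -/
theorem focal_le_sup_of_factor [Finite S] {F : FusionSystem S} {V : Subgroup Ω}
    (hVn : F.IsNormal V) {Ω' : Type u} [Group Ω'] {S' : Subgroup Ω'} {θ : ↥S →* Ω'}
    {E' : FusionSystem S'} (hE' : F.IsFactorSystem V θ E') {X' : Subgroup Ω'} (hX'S : X' ≤ S')
    (hSX' : S' ≤ Subgroup.normalizer (X' : Set Ω')) (hXS : preimageAlong θ X' ≤ S)
    (hSX : S ≤ Subgroup.normalizer ((preimageAlong θ X' : Subgroup Ω) : Set Ω))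
    (hfoc : E'.focalSubgroup ≤ (normSys E' X' hX'S hSX').focalSubgroup) :
    F.focalSubgroup ≤ (normSys F (preimageAlong θ X') hXS hSX).focalSubgroup ⊔ V := by
  have hVS : V ≤ S := hVn.1
  have hVsc : F.StronglyClosed V := stronglyClosed_of_isNormal F hVn
  have hDS : (normSys F (preimageAlong θ X') hXS hSX).focalSubgroup ⊔ V ≤ S :=
    sup_le (focal_le_S _) hVS
  haveI : Finite ↥(preimageAlong θ X') := finite_of_le hXS
  have hNX : normalizerIn S (preimageAlong θ X') = S := normalizerIn_eq_self hSX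
  -- step 1
  have step1 : (normSys E' X' hX'S hSX').focalSubgroup ≤
      (((normSys F (preimageAlong θ X') hXS hSX).focalSubgroup ⊔ V).subgroupOf S).map θ := by
    unfold FusionSystem.focalSubgroup
    rw [Subgroup.closure_le]
    rintro _ ⟨P', χ, y, hχ, rfl⟩
    rw [normSys_hom] at hχ
    obtain ⟨hχE, hP'N, hval, χ', hχ', hext', hmap'⟩ := hχ
    obtain ⟨hle', ψ, hψ, hA, hψS, hmemA, hind⟩ := (hE'.2.2.2 _ _).mp hχ'
    obtain ⟨a, ha⟩ := exists_preimage_of_mem_range hE'.2.2.1 hle'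
      ⟨(y : Ω'), (le_sup_left : P' ≤ P' ⊔ X') y.2⟩
    have hXA : preimageAlong θ X' ≤ preimageAlong θ (P' ⊔ X') := preimageAlong_mono θ le_sup_right
    -- `ψ` preserves the preimage of `X'`
    have hψX : ∀ x : ↥(preimageAlong θ (P' ⊔ X')), (x : Ω) ∈ preimageAlong θ X' →
        ψ x ∈ preimageAlong θ X' := by
      intro x hx
      obtain ⟨hxS, hx'⟩ := mem_preimageAlong.mp hx
      refine mem_preimageAlong.mpr ⟨hψS x, ?_⟩
      rw [← hind x]
      exact hmap'.le ⟨_, Subgroup.mem_subgroupOf.mpr hx', rfl⟩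
    have hψN : ψ ∈ (normSys F (preimageAlong θ X') hXS hSX).Hom (preimageAlong θ (P' ⊔ X')) := by
      rw [normSys_hom]
      obtain ⟨ψ'', hψ'', h1, h2⟩ := hom_cast' F (sup_eq_left.mpr hXA).symm ψ hψ
      refine ⟨hψ, ?_, fun x => ?_, ψ'', hψ'', fun x => h1 x x.2 _, ?_⟩
      · rw [hNX]
        exact hA
      · rw [hNX]
        exact hψS x
      · rw [h2]
        apply Subgroup.eq_of_le_of_card_ge
        · rintro _ ⟨x, hx, rfl⟩
          exact hψX x (Subgroup.mem_subgroupOf.mp hx)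
        · rw [Subgroup.card_map_of_injective (F.injective_of_mem hψ)]
          exact (Nat.card_congr (Subgroup.subgroupOfEquivOfLe hXA).toEquiv).ge
    have hgen := gen_mem_focal _ hψN a
    refine ⟨⟨(a : Ω)⁻¹ * ψ a, S.mul_mem (S.inv_mem (hA a.2)) (hψS a)⟩, ?_, ?_⟩
    · rw [SetLike.mem_coe, Subgroup.mem_subgroupOf]
      exact (le_sup_left : _ ≤ (normSys F (preimageAlong θ X') hXS hSX).focalSubgroup ⊔ V) hgen
    · have e : (⟨(a : Ω)⁻¹ * ψ a, S.mul_mem (S.inv_mem (hA a.2)) (hψS a)⟩ : S) =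
          ⟨a, hA a.2⟩⁻¹ * ⟨ψ a, hψS a⟩ := rfl
      rw [e, map_mul, map_inv, ← hind a]
      have e2 : (⟨θ ⟨a, hA a.2⟩, hmemA a⟩ : ↥(P' ⊔ X')) = Subgroup.inclusion le_sup_left y :=
        Subtype.ext ha
      rw [e2, hext', ha]
  -- step 2
  have step2 : ∀ s : S, θ s ∈ (normSys E' X' hX'S hSX').focalSubgroup →
      (s : Ω) ∈ (normSys F (preimageAlong θ X') hXS hSX).focalSubgroup ⊔ V := by
    intro s hs
    obtain ⟨d, hd, hds⟩ := step1 hs
    have hdD : (d : Ω) ∈ (normSys F (preimageAlong θ X') hXS hSX).focalSubgroup ⊔ V :=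
      Subgroup.mem_subgroupOf.mp hd
    have h1 : θ (d⁻¹ * s) = 1 := by
      rw [map_mul, map_inv, hds, inv_mul_cancel]
    have h2 : ((d⁻¹ * s : S) : Ω) ∈ V := (hE'.2.1 _).mp h1
    have e : (s : Ω) = (d : Ω) * ((d⁻¹ * s : S) : Ω) := by
      simp
    rw [e]
    exact Subgroup.mul_mem _ hdD ((le_sup_right : V ≤ _) h2)
  unfold FusionSystem.focalSubgroup
  rw [Subgroup.closure_le]
  rintro _ ⟨P, φ, x, hφ, rfl⟩
  obtain ⟨ψ, hψ, hext, -⟩ := hVn.2 P φ hφ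
  have hPVS : P ⊔ V ≤ S := source_le F hψ
  obtain ⟨ψ₁, hψ₁, hψ₁e⟩ := factor_induce_hom hVsc hE' hPVS le_sup_right hψ
  have hq : θ ⟨(Subgroup.inclusion (le_sup_left : P ≤ P ⊔ V) x : ↥(P ⊔ V)), hPVS
      (Subgroup.inclusion (le_sup_left : P ≤ P ⊔ V) x).2⟩ ∈ ((P ⊔ V).subgroupOf S).map θ :=
    ⟨⟨_, hPVS (Subgroup.inclusion (le_sup_left : P ≤ P ⊔ V) x).2⟩,
      Subgroup.mem_subgroupOf.mpr (Subgroup.inclusion (le_sup_left : P ≤ P ⊔ V) x).2, rfl⟩
  have h1 := gen_mem_focal E' hψ₁ ⟨_, hq⟩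
  rw [hψ₁e _ hq] at h1
  have hxS : (x : Ω) ∈ S := source_le F hφ x.2
  have hφS : φ x ∈ S := apply_mem F hφ x
  have h2 : θ (⟨(x : Ω)⁻¹ * φ x, S.mul_mem (S.inv_mem hxS) hφS⟩ : S) ∈
      (normSys E' X' hX'S hSX').focalSubgroup := by
    apply hfoc
    have e : (⟨(x : Ω)⁻¹ * φ x, S.mul_mem (S.inv_mem hxS) hφS⟩ : S) =
        ⟨x, hxS⟩⁻¹ * ⟨φ x, hφS⟩ := rfl
    rw [e, map_mul, map_inv]
    have e3 : (⟨φ x, hφS⟩ : S) = ⟨ψ (Subgroup.inclusion le_sup_left x), apply_mem F hψ _⟩ :=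
      Subtype.ext (hext x).symm
    rw [e3]
    exact h1
  exact step2 _ h2

end Cfsg.Agent.Lib.Helper27.Tr
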