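import Mathlib
import Cfsg.Agent.Lib.Helper27.TrQuot
import Cfsg.Agent.S5329

/-!
# A normal subgroup on which the system acts through `S`: its part of the focal subgroup
-/

set_option autoImplicit false

namespace Cfsg.Agent.Lib.Helper27.Tr

open Cfsg Cfsg.FusionSystem Cfsg.Agent.Lib.Helper26 Cfsg.Agent.Lib.Helper27
  Cfsg.Agent.Lib.Helper27.GT Cfsg.Agent.Lib.Helper27.Qd

open scoped commutatorElement

universe u

variable {Ω : Type u} [Group Ω] {S : Subgroup Ω}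

/-- the focal subgroup maps into the focal subgroup of a factor system -/
theorem focal_le_preimage_of_factor {F : FusionSystem S} {V K : Subgroup Ω}
    (hVn : F.IsNormal V) (hK : F.StronglyClosed K) (hKV : K ≤ V)
    {Ω' : Type u} [Group Ω'] {S' : Subgroup Ω'} {θ : ↥S →* Ω'}
    {E' : FusionSystem S'} (hE' : F.IsFactorSystem K θ E') :
    F.focalSubgroup ≤ preimageAlong θ E'.focalSubgroup := by
  unfold FusionSystem.focalSubgroup
  rw [Subgroup.closure_le]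
  rintro _ ⟨P, φ, x, hφ, rfl⟩
  obtain ⟨ψ, hψ, hext, -⟩ := hVn.2 P φ hφ
  have hPVS : P ⊔ V ≤ S := source_le F hψ
  obtain ⟨ψ₁, hψ₁, hψ₁e⟩ := factor_induce_hom hK hE' hPVS (hKV.trans le_sup_right) hψ
  have hq : θ ⟨(Subgroup.inclusion (le_sup_left : P ≤ P ⊔ V) x : ↥(P ⊔ V)), hPVS
      (Subgroup.inclusion (le_sup_left : P ≤ P ⊔ V) x).2⟩ ∈ ((P ⊔ V).subgroupOf S).map θ :=
    ⟨⟨_, hPVS (Subgroup.inclusion (le_sup_left : P ≤ P ⊔ V) x).2⟩,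
      Subgroup.mem_subgroupOf.mpr (Subgroup.inclusion (le_sup_left : P ≤ P ⊔ V) x).2, rfl⟩
  have h1 := gen_mem_focal E' hψ₁ ⟨_, hq⟩
  rw [hψ₁e _ hq] at h1
  have hxS : (x : Ω) ∈ S := source_le F hφ x.2
  have hφS : φ x ∈ S := apply_mem F hφ x
  rw [SetLike.mem_coe, mem_preimageAlong]
  refine ⟨S.mul_mem (S.inv_mem hxS) hφS, ?_⟩
  have e : (⟨(x : Ω)⁻¹ * φ x, S.mul_mem (S.inv_mem hxS) hφS⟩ : S) =
      ⟨x, hxS⟩⁻¹ * ⟨φ x, hφS⟩ := rfl
  rw [e, map_mul, map_inv]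
  have e3 : (⟨φ x, hφS⟩ : S) = ⟨ψ (Subgroup.inclusion le_sup_left x), apply_mem F hψ _⟩ :=
    Subtype.ext (hext x).symm
  rw [e3]
  exact h1

/-- the image of `V` in `F/K` is central when `F` acts on `V` through `S` and `[V,S] ≤ K` -/
theorem isCentral_image_of_factor [Finite S] {F : FusionSystem S} {V K : Subgroup Ω}
    (hVS : V ≤ S)
    (hact : ∀ (P : Subgroup Ω) (φ : P →* Ω), φ ∈ F.Hom P → ∃ ψ ∈ F.Hom (P ⊔ V),
      (∀ x : P, ψ (Subgroup.inclusion le_sup_left x) = φ x) ∧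
        ∃ s ∈ S, ∀ v : V, ψ (Subgroup.inclusion le_sup_right v) = s * (v : Ω) * s⁻¹)
    (hK : F.StronglyClosed K) (hKV : K ≤ V)
    (hcomm : ∀ v ∈ V, ∀ s ∈ S, v⁻¹ * (s * v * s⁻¹) ∈ K)
    {Ω' : Type u} [Group Ω'] {S' : Subgroup Ω'} {θ : ↥S →* Ω'}
    {E' : FusionSystem S'} (hE' : F.IsFactorSystem K θ E') :
    E'.IsCentral ((V.subgroupOf S).map θ) := by
  refine ⟨map_le_of_factor hE' V, fun P' φ' hφ' => ?_⟩
  obtain ⟨hP'S', φ, hφ, hA, hφS, hmemA, hind⟩ := (hE'.2.2.2 _ _).mp hφ'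
  obtain ⟨ψ, hψ, hext, s, hs, hconj⟩ := hact _ φ hφ
  have hAVS : preimageAlong θ P' ⊔ V ≤ S := source_le F hψ
  obtain ⟨ψ₁, hψ₁, hψ₁e⟩ := factor_induce_hom hK hE' hAVS (hKV.trans le_sup_right) hψ
  have hsrc : ((preimageAlong θ P' ⊔ V).subgroupOf S).map θ = P' ⊔ (V.subgroupOf S).map θ := by
    rw [Subgroup.subgroupOf_sup hA hVS, Subgroup.map_sup, map_preimageAlong hE'.2.2.1 hP'S']
  obtain ⟨ψ₂, hψ₂, hψ₂e⟩ := hom_cast E' hsrc ψ₁ hψ₁
  refine ⟨ψ₂, hψ₂, fun y => ?_, fun z => ?_⟩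
  · obtain ⟨a, ha⟩ := exists_preimage_of_mem_range hE'.2.2.1 hP'S' y
    have hy1 : (y : Ω') ∈ ((preimageAlong θ P' ⊔ V).subgroupOf S).map θ := by
      rw [hsrc]
      exact (le_sup_left : P' ≤ _) y.2
    have e1 : (Subgroup.inclusion (le_sup_left : P' ≤ P' ⊔ (V.subgroupOf S).map θ) y) =
        ⟨(y : Ω'), (le_sup_left : P' ≤ P' ⊔ (V.subgroupOf S).map θ) y.2⟩ := rfl
    rw [e1, hψ₂e (y : Ω') hy1]
    have e2 : (⟨(y : Ω'), hy1⟩ : ↥(((preimageAlong θ P' ⊔ V).subgroupOf S).map θ)) =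
        ⟨θ ⟨(Subgroup.inclusion (le_sup_left : preimageAlong θ P' ≤ preimageAlong θ P' ⊔ V) a :
          ↥(preimageAlong θ P' ⊔ V)), hAVS (Subgroup.inclusion le_sup_left a).2⟩,
          mem_img hAVS _⟩ := Subtype.ext ha.symm
    rw [e2, hψ₁e _ (mem_img hAVS _)]
    have e3 : y = ⟨θ ⟨a, hA a.2⟩, hmemA a⟩ := Subtype.ext ha.symm
    rw [e3, hind a]
    congr 1
    exact Subtype.ext (hext a)
  · obtain ⟨v, hv⟩ := exists_of_mem_img hVS z.2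
    have hz1 : (z : Ω') ∈ ((preimageAlong θ P' ⊔ V).subgroupOf S).map θ := by
      rw [hsrc]
      exact (le_sup_right : (V.subgroupOf S).map θ ≤ _) z.2
    have e1 : (Subgroup.inclusion
        (le_sup_right : (V.subgroupOf S).map θ ≤ P' ⊔ (V.subgroupOf S).map θ) z) =
        ⟨(z : Ω'), (le_sup_right : (V.subgroupOf S).map θ ≤ P' ⊔ (V.subgroupOf S).map θ) z.2⟩ :=
      rfl
    rw [e1, hψ₂e (z : Ω') hz1]
    have e2 : (⟨(z : Ω'), hz1⟩ : ↥(((preimageAlong θ P' ⊔ V).subgroupOf S).map θ)) =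
        ⟨θ ⟨(Subgroup.inclusion (le_sup_right : V ≤ preimageAlong θ P' ⊔ V) v :
          ↥(preimageAlong θ P' ⊔ V)), hAVS (Subgroup.inclusion le_sup_right v).2⟩,
          mem_img hAVS _⟩ := Subtype.ext hv.symm
    rw [e2, hψ₁e _ (mem_img hAVS _), ← hv]
    have hvS : (v : Ω) ∈ S := hVS v.2
    have hk := hcomm v v.2 s hs
    have hkS : (v : Ω)⁻¹ * (s * (v : Ω) * s⁻¹) ∈ S := hK.1 hk
    have h1 : θ ⟨(v : Ω)⁻¹ * (s * (v : Ω) * s⁻¹), hkS⟩ = 1 := (hE'.2.1 _).mpr hk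
    have e4 : (⟨ψ (Subgroup.inclusion le_sup_right v), apply_mem F hψ _⟩ : S) =
        ⟨v, hvS⟩ * ⟨(v : Ω)⁻¹ * (s * (v : Ω) * s⁻¹), hkS⟩ := by
      apply Subtype.ext
      show ψ (Subgroup.inclusion le_sup_right v) = (v : Ω) * ((v : Ω)⁻¹ * (s * (v : Ω) * s⁻¹))
      rw [hconj v]
      group
    rw [e4, map_mul, h1, mul_one]

/-- if `F` acts on the normal subgroup `V` through `S`, then `foc(F) ∩ V ≤ [S,S]` -/
theorem focal_inf_le_of_act [Finite S] {p : ℕ} [Fact p.Prime] (hS : IsPGroup p S)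
    (F : FusionSystem S) (hF : F.IsSaturated p) {V : Subgroup Ω} (hVn : F.IsNormal V)
    (hSV : S ≤ Subgroup.normalizer (V : Set Ω))
    (hact : ∀ (P : Subgroup Ω) (φ : P →* Ω), φ ∈ F.Hom P → ∃ ψ ∈ F.Hom (P ⊔ V),
      (∀ x : P, ψ (Subgroup.inclusion le_sup_left x) = φ x) ∧
        ∃ s ∈ S, ∀ v : V, ψ (Subgroup.inclusion le_sup_right v) = s * (v : Ω) * s⁻¹)
    (T₀ : Subgroup Ω) (hT₀ : ∀ s ∈ S, ∀ x ∈ S, x⁻¹ * (s * x * s⁻¹) ∈ T₀) :
    F.focalSubgroup ⊓ V ≤ T₀ := by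
  have hVS : V ≤ S := hVn.1
  haveI hVnorm : (V.subgroupOf S).Normal :=
    (Subgroup.normal_subgroupOf_iff_le_normalizer hVS).mpr hSV
  -- the commutator subgroup of `S` lies in `T₀`
  have hD : commutator ↥S ≤ T₀.subgroupOf S := by
    rw [commutator_def, Subgroup.commutator_le]
    intro g₁ _ g₂ _
    rw [Subgroup.mem_subgroupOf]
    have := hT₀ g₂ g₂.2 (g₁⁻¹ : S) (g₁⁻¹ : S).2
    have e : ((⁅g₁, g₂⁆ : S) : Ω) = ((g₁⁻¹ : S) : Ω)⁻¹ * ((g₂ : Ω) * ((g₁⁻¹ : S) : Ω) * (g₂ : Ω)⁻¹) := by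
      rw [commutatorElement_def]
      push_cast
      group
    rw [e]
    exact this
  -- `K = [V, S]`
  obtain ⟨KS, hKSdef⟩ : ∃ KS : Subgroup ↥S, KS = ⁅V.subgroupOf S, (⊤ : Subgroup ↥S)⁆ := ⟨_, rfl⟩
  haveI hKSn : KS.Normal := by
    rw [hKSdef]
    exact Subgroup.commutator_normal _ _
  have hKSV : KS ≤ V.subgroupOf S := by
    rw [hKSdef]
    exact Subgroup.commutator_le_left _ _
  have hKSD : KS ≤ commutator ↥S := by
    rw [hKSdef, commutator_def]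
    exact Subgroup.commutator_mono le_top le_rfl
  obtain ⟨K, hKdef⟩ : ∃ K : Subgroup Ω, K = KS.map S.subtype := ⟨_, rfl⟩
  have hKsub : K.subgroupOf S = KS := by
    rw [hKdef]
    exact Subgroup.comap_map_eq_self_of_injective S.subtype_injective KS
  have hKS : K ≤ S := by
    rw [hKdef]
    exact Subgroup.map_subtype_le KS
  have hKV : K ≤ V := by
    rw [hKdef]
    rintro _ ⟨k, hk, rfl⟩
    exact Subgroup.mem_subgroupOf.mp (hKSV hk)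
  haveI hKn : (K.subgroupOf S).Normal := by
    rw [hKsub]
    exact hKSn
  have hcomm : ∀ v ∈ V, ∀ s ∈ S, v⁻¹ * (s * v * s⁻¹) ∈ K := by
    intro v hv s hs
    rw [hKdef]
    refine ⟨⁅(⟨v, hVS hv⟩ : S)⁻¹, ⟨s, hs⟩⁆, ?_, ?_⟩
    · rw [SetLike.mem_coe, hKSdef]
      exact Subgroup.commutator_mem_commutator
        ((V.subgroupOf S).inv_mem
          (Subgroup.mem_subgroupOf.mpr (show ((⟨v, hVS hv⟩ : S) : Ω) ∈ V from hv))) (Subgroup.mem_top _)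
    · rw [commutatorElement_def]
      show v⁻¹ * s * v⁻¹⁻¹ * s⁻¹ = _
      group
  have hconjK : ∀ s ∈ S, ∀ k ∈ K, s * k * s⁻¹ ∈ K := by
    intro s hs k hk
    rw [hKdef] at hk ⊢
    obtain ⟨k', hk', rfl⟩ := hk
    exact ⟨⟨s, hs⟩ * k' * ⟨s, hs⟩⁻¹, hKSn.conj_mem k' hk' ⟨s, hs⟩, rfl⟩
  have hKsc : F.StronglyClosed K := by
    refine ⟨hKS, fun R hR φ hφ x => ?_⟩
    obtain ⟨ψ, hψ, hext, s, hs, hconj⟩ := hact R φ hφ
    have hxV : (x : Ω) ∈ V := hKV (hR x.2)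
    have e : Subgroup.inclusion (le_sup_left : R ≤ R ⊔ V) x =
        Subgroup.inclusion (le_sup_right : V ≤ R ⊔ V) ⟨x, hxV⟩ := Subtype.ext rfl
    rw [← hext x, e, hconj ⟨x, hxV⟩]
    exact hconjK s hs _ (hR x.2)
  have hE' := factorSystem_isFactorSystem F hKsc
    (QuotientGroup.mk' (K.subgroupOf S)) (mk'_ker_iff K) (mk'_range_top K)
  have hE'sat := factor_saturated hS hF hKsc hE'
  haveI : Finite (↥S ⧸ K.subgroupOf S) := inferInstance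
  haveI : Finite ↥(⊤ : Subgroup (↥S ⧸ K.subgroupOf S)) := inferInstance
  have hS' : IsPGroup p ↥(⊤ : Subgroup (↥S ⧸ K.subgroupOf S)) :=
    (hS.of_surjective (QuotientGroup.mk' (K.subgroupOf S))
      (QuotientGroup.mk'_surjective _)).of_equiv Subgroup.topEquiv.symm
  have hcen := isCentral_image_of_factor hVS hact hKsc hKV hcomm hE'
  have hfoc := focal_le_preimage_of_factor hVn hKsc hKV hE'
  have h5329 := Cfsg.Agent.S5329.result p hS' _ hE'sat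
  rintro x ⟨hxf, hxV⟩
  obtain ⟨hxS, hx'⟩ := mem_preimageAlong.mp (hfoc hxf)
  have hxc : (QuotientGroup.mk' (K.subgroupOf S)) ⟨x, hxS⟩ ∈
      (factorSystem F hKsc (QuotientGroup.mk' (K.subgroupOf S)) (mk'_ker_iff K)
        (mk'_range_top K)).center :=
    (le_sSup hcen : _ ≤ FusionSystem.center _) ⟨⟨x, hxS⟩, Subgroup.mem_subgroupOf.mpr hxV, rfl⟩
  have h1 : (QuotientGroup.mk' (K.subgroupOf S)) ⟨x, hxS⟩ ∈
      ⁅(⊤ : Subgroup (↥S ⧸ K.subgroupOf S)), (⊤ : Subgroup (↥S ⧸ K.subgroupOf S))⁆ := by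
    have h0 := Subgroup.mem_inf.mpr ⟨hx', hxc⟩
    rw [h5329] at h0
    exact (Subgroup.mem_inf.mp h0).1
  have h2 : ⁅(⊤ : Subgroup (↥S ⧸ K.subgroupOf S)), (⊤ : Subgroup (↥S ⧸ K.subgroupOf S))⁆ =
      (commutator ↥S).map (QuotientGroup.mk' (K.subgroupOf S)) := by
    rw [commutator_def, Subgroup.map_commutator,
      Subgroup.map_top_of_surjective _ (QuotientGroup.mk'_surjective _)]
  rw [h2] at h1
  obtain ⟨c, hc, hcx⟩ := h1
  have h3 : c⁻¹ * ⟨x, hxS⟩ ∈ K.subgroupOf S := by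
    rw [← QuotientGroup.eq_one_iff, ← QuotientGroup.mk'_apply, map_mul, map_inv, hcx,
      inv_mul_cancel]
  rw [hKsub] at h3
  have h4 : (⟨x, hxS⟩ : S) ∈ commutator ↥S := by
    have := (commutator ↥S).mul_mem hc (hKSD h3)
    rwa [mul_inv_cancel_left] at this
  exact Subgroup.mem_subgroupOf.mp (hD h4)

end Cfsg.Agent.Lib.Helper27.Tr
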