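import Mathlib
import Cfsg.Agent.Lib.Helper27.TrFocSys

/-!
# Climbing to a normal subgroup of `S` with a bad witness, with witnesses of arbitrary order
-/

set_option autoImplicit false

namespace Cfsg.Agent.Lib.Helper27.Tr

open Cfsg Cfsg.FusionSystem Cfsg.Agent.Lib.Helper26 Cfsg.Agent.Lib.Helper27
  Cfsg.Agent.Lib.Helper27.GT Cfsg.Agent.Lib.Helper27.Qd

universe u

variable {Ω : Type u} [Group Ω] {S : Subgroup Ω}

/-- transport of bad witnesses along a map lying in `E` -/
theorem badWit_transport' [Finite S] {n : ℕ} {F E : FusionSystem S}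
    {X V : Subgroup Ω} (hXS : X ≤ S) (M : NormalizerHom F X V)
    (hME : M.φ ∈ E.Hom (normalizerIn S X)) (h : BadWit n F E X) : BadWit n F E V := by
  obtain ⟨U, β, hXU, hUN, hUn, hβ, hβE, hinv⟩ := h
  have hres : M.φ.comp (Subgroup.inclusion hUN) ∈ F.Hom U := restrict_mem F M.mem hUN
  have hresE : M.φ.comp (Subgroup.inclusion hUN) ∈ E.Hom U := restrict_mem E hME hUN
  obtain ⟨e, he, hex⟩ := exists_iso_of_hom F hres rfl
  have heE : IsIso E e := mem_of_forall_eq E hresE (fun x => hex x)
  refine ⟨(M.φ.comp (Subgroup.inclusion hUN)).range, MulAut.congr e β, ?_, ?_, ?_,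
    congr_mem_autGroup he hβ, ?_, ?_⟩
  · intro y hy
    obtain ⟨x, rfl⟩ := M.exists_preimage hXS hy
    exact ⟨⟨x, hXU x.2⟩, rfl⟩
  · rintro _ ⟨x, rfl⟩
    exact M.maps _
  · rw [← hUn]
    exact (Nat.card_congr e.toEquiv).symm
  · intro hcon
    apply hβE
    have := congr_mem_autGroup heE.symm hcon
    rwa [congr_symm_congr] at this
  · intro y hy
    obtain ⟨x', hx'⟩ := M.exists_preimage hXS hy
    have hy' : ((e (e.symm y) : _) : Ω) = (y : Ω) := by rw [MulEquiv.apply_symm_apply]
    rw [hex] at hy'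
    have hxx : (⟨(e.symm y : U), hUN (e.symm y).2⟩ : ↥(normalizerIn S X)) =
        ⟨x', le_normalizerIn_self hXS x'.2⟩ := by
      apply M.injective
      rw [hx']
      exact hy'
    have hxX : ((e.symm y : U) : Ω) ∈ X := by
      have := congrArg (fun r : ↥(normalizerIn S X) => (r : Ω)) hxx
      simp only at this
      rw [this]
      exact x'.2
    have h2 := hinv (e.symm y) hxX
    show (((MulAut.congr e β) y : _) : Ω) ∈ V
    have h3 : (MulAut.congr e β) y = e (β (e.symm y)) := rfl
    rw [h3, hex]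
    exact M.apply_mem_of_mem hXS ⟨_, h2⟩

/-- if `F ≰ E` then some nontrivial normal subgroup of `S` has a bad witness, provided bad
witnesses climb -/
theorem exists_bad_normal' [Finite S] {p : ℕ} [Fact p.Prime] (hS : IsPGroup p S)
    (F : FusionSystem S) (hF : F.IsSaturated p) (E : FusionSystem S) (hnot : ¬ F ≤ E)
    (hclimb : ∀ V : Subgroup Ω, F.IsFullyNormalized V → V ≠ ⊥ → (∃ n, BadWit n F E V) →
      normalizerIn S V ≠ S →
      ∃ X : Subgroup Ω, X ≠ ⊥ ∧ X ≤ normalizerIn S V ∧
        normalizerIn S (normalizerIn S V) ≤ normalizerIn S X ∧ ∃ n, BadWit n F E X) :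
    ∃ V : Subgroup Ω, V ≤ S ∧ S ≤ Subgroup.normalizer (V : Set Ω) ∧ V ≠ ⊥ ∧
      ∃ n, BadWit n F E V := by
  have hfn : ∀ P : Subgroup Ω, (P = S ∨ F.IsEssential p P) → F.IsFullyNormalized P := by
    intro P hP
    rcases hP with rfl | hP
    · exact fullyNormalized_of_normal F le_rfl Subgroup.le_normalizer
    · exact hP.2.1
  -- a subgroup with a non-`E` automorphism is a bad candidate
  have hcand : ∀ P : Subgroup Ω, F.IsFullyNormalized P → ¬ F.autGroup P ≤ E.autGroup P →
      P ≠ ⊥ ∧ ∃ n, BadWit n F E P := by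
    intro P hPn hP
    obtain ⟨β, hβF, hβE⟩ := SetLike.not_le_iff_exists.mp hP
    refine ⟨?_, Nat.card P, P, β, le_rfl, le_normalizerIn_self hPn.1, rfl, hβF, hβE,
      fun x _ => (β x).2⟩
    rintro rfl
    apply hβE
    have : β = 1 := by
      ext x
      have hx : (x : Ω) = 1 := Subgroup.mem_bot.mp x.2
      have hx1 : x = 1 := Subtype.ext hx
      rw [hx1, map_one, map_one]
    rw [this]
    exact Subgroup.one_mem _
  have hne : {V : Subgroup Ω | V ≠ ⊥ ∧ F.IsFullyNormalized V ∧ ∃ n, BadWit n F E V}.Nonempty := by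
    by_contra hcon
    rw [Set.not_nonempty_iff_eq_empty] at hcon
    apply hnot
    apply Cfsg.Agent.S5082.result p hS F hF E
    intro P hP
    by_contra hle
    obtain ⟨h1, h2⟩ := hcand P (hfn P hP) hle
    have : P ∈ {V : Subgroup Ω | V ≠ ⊥ ∧ F.IsFullyNormalized V ∧ ∃ n, BadWit n F E V} :=
      ⟨h1, hfn P hP, h2⟩
    rw [hcon] at this
    exact this
  obtain ⟨V, ⟨hVne, hVn, hbadV⟩, hVmax⟩ := exists_max_nat _ hne
    (fun V => Nat.card (normalizerIn S V)) (Nat.card S)
    (fun V _ => card_le_card_of_le_of_finite (normalizerIn_le S V))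
  have hbig : Big (Nat.card (normalizerIn S V)) F E := by
    have hle : F ≤ truncSys F E (Nat.card (normalizerIn S V)) := by
      apply Cfsg.Agent.S5082.result p hS F hF
      intro P hP
      have hPn := hfn P hP
      have hPS : P ≤ S := hPn.1
      intro α hα
      rw [mem_autGroup_iff _ hPS, mem_truncSys]
      refine ⟨(mem_autGroup_iff F hPS).mp hα, ?_⟩
      by_cases hc : Nat.card P ≤ Nat.card (normalizerIn S V)
      · exact Or.inl hc
      · right
        have hPle : F.autGroup P ≤ E.autGroup P := by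
          by_contra hnle
          obtain ⟨h1, h2⟩ := hcand P hPn hnle
          have h3 := hVmax P ⟨h1, hPn, h2⟩
          haveI : Finite ↥(normalizerIn S P) := finite_of_le (normalizerIn_le S P)
          have h4 : Nat.card P ≤ Nat.card (normalizerIn S P) :=
            card_le_card_of_le_of_finite (le_normalizerIn_self hPS)
          exact hc (h4.trans h3)
        exact (mem_autGroup_iff E hPS).mp (hPle hα)
    intro P φ hφ hn
    rcases (hle P hφ).2 with h1 | h1
    · omega
    · exact h1
  have hNS : normalizerIn S V = S := by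
    by_contra hR
    obtain ⟨X, hXne, hXR, hle, n', hbadX⟩ := hclimb V hVn hVne hbadV hR
    have hRS : normalizerIn S V ≤ S := normalizerIn_le S V
    haveI : Finite ↥(normalizerIn S V) := finite_of_le hRS
    have hXS : X ≤ S := hXR.trans hRS
    have hlt : normalizerIn S V < normalizerIn S (normalizerIn S V) := lt_normalizerIn hS hRS hR
    haveI : Finite ↥(normalizerIn S (normalizerIn S V)) := finite_of_le (normalizerIn_le _ _)
    haveI : Finite ↥(normalizerIn S X) := finite_of_le (normalizerIn_le _ _)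
    have h1 := card_lt_card_of_lt hlt
    have h2 : Nat.card ↥(normalizerIn S (normalizerIn S V)) ≤ Nat.card ↥(normalizerIn S X) :=
      Nat.card_le_card_of_injective (Subgroup.inclusion hle) (Subgroup.inclusion_injective _)
    obtain ⟨V', hXV', hV'n⟩ := exists_fullyNormalized_conj F hXS
    obtain ⟨-, hV'a, hV'r⟩ := saturated_fullyNormalized hS F hF hV'n
    obtain ⟨M⟩ := nonempty_normalizerHom hS F hV'a hV'r hXV'
    have hME : M.φ ∈ E.Hom (normalizerIn S X) := hbig _ _ M.mem (by omega)
    have hbad' := badWit_transport' hXS M hME hbadX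
    have hV'ne : V' ≠ ⊥ := by
      intro h
      have h1 := Cfsg.Agent.S5082.card_eq_of_isConj F hXV'
      rw [h, Subgroup.card_bot] at h1
      exact hXne (Subgroup.eq_bot_of_card_eq _ h1)
    haveI : Finite ↥(normalizerIn S V') := finite_of_le (normalizerIn_le _ _)
    have h3 : Nat.card ↥(normalizerIn S X) ≤ Nat.card ↥(normalizerIn S V') :=
      Nat.card_le_card_of_injective (fun x => (⟨M.φ x, M.maps x⟩ : ↥(normalizerIn S V')))
        (fun a b hab => M.injective (congrArg Subtype.val hab))
    have h4 := hVmax V' ⟨hV'ne, hV'n, n', hbad'⟩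
    have h4' : Nat.card ↥(normalizerIn S V') ≤ Nat.card ↥(normalizerIn S V) := h4
    omega
  exact ⟨V, hVn.1, inf_eq_left.mp hNS, hVne, hbadV⟩

end Cfsg.Agent.Lib.Helper27.Tr
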