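import Mathlib
import Cfsg.Agent.Lib.Helper27.TrBad

/-!
# Control of transfer: climbing from `V` to `W(N_S(V))`
-/

set_option autoImplicit false

namespace Cfsg.Agent.Lib.Helper27.Tr

open Cfsg Cfsg.FusionSystem Cfsg.Agent.Lib.Helper26 Cfsg.Agent.Lib.Helper27
  Cfsg.Agent.Lib.Helper27.GT Cfsg.Agent.Lib.Helper27.Th Cfsg.Agent.Lib.Helper27.Qd

universe u

variable {Ω : Type u} [Group Ω] {S : Subgroup Ω}

/-- an automorphism of `F` outside `focSys F T₀` moves some element outside `T₀` -/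
theorem exists_not_mem_of_not_mem_autGroup {F : FusionSystem S} {T₀ : Subgroup Ω}
    {hT₀ : ∀ s ∈ S, ∀ x ∈ S, x⁻¹ * (s * x * s⁻¹) ∈ T₀} {U : Subgroup Ω} (hUS : U ≤ S)
    {β : MulAut U} (hβ : β ∈ F.autGroup U) (hβE : β ∉ (focSys F T₀ hT₀).autGroup U) :
    ∃ u : U, (u : Ω)⁻¹ * ((β u : U) : Ω) ∉ T₀ := by
  by_contra hcon
  push Not at hcon
  apply hβE
  rw [mem_autGroup_iff _ hUS]
  exact ⟨(mem_autGroup_iff F hUS).mp hβ, fun x => hcon x⟩

theorem climb_transfer [Finite S] {p : ℕ} [Fact p.Prime] (hS : IsPGroup p S)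
    (𝒲 : CharFunctor.{u} p) (F : FusionSystem S) (hF : F.IsSaturated p) {T₀ : Subgroup Ω}
    (hT₀ : ∀ s ∈ S, ∀ x ∈ S, x⁻¹ * (s * x * s⁻¹) ∈ T₀) {V : Subgroup Ω}
    (hVn : F.IsFullyNormalized V)
    (hIH : (normalizerSystem F V hVn.1).focalSubgroup ≤ TW 𝒲 (normalizerSystem F V hVn.1))
    (hbad : ∃ n, BadWit n F (focSys F T₀ hT₀) V) :
    ∃ n, BadWit n F (focSys F T₀ hT₀) (𝒲.W (normalizerIn S V)) := by
  obtain ⟨n, U, β, hVU, hUN, hUn, hβ, hβE, hinv⟩ := hbad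
  have hRS : normalizerIn S V ≤ S := normalizerIn_le S V
  haveI : Finite ↥(normalizerIn S V) := finite_of_le hRS
  have hSR : IsPGroup p ↥(normalizerIn S V) := hS.to_le hRS
  have hUS : U ≤ S := hUN.trans hRS
  have hNN := normalizerSystem_isNormalizerSystem F V hVn.1
  have hβ' : U.subtype.comp β.toMonoidHom ∈ (normalizerSystem F V hVn.1).Hom U :=
    mem_normalizerHom_of_aut F hVU hUN hβ hinv
  obtain ⟨u, hu⟩ := exists_not_mem_of_not_mem_autGroup hUS hβ hβE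
  have hg : (u : Ω)⁻¹ * ((β u : U) : Ω) ∈ TW 𝒲 (normalizerSystem F V hVn.1) :=
    hIH (gen_mem_focal _ hβ' u)
  have hT₀R : ∀ s ∈ normalizerIn S V, ∀ x ∈ normalizerIn S V, x⁻¹ * (s * x * s⁻¹) ∈ T₀ :=
    fun s hs x hx => hT₀ s (hRS hs) x (hRS hx)
  have hnot₂ : ¬ nW 𝒲 (normalizerSystem F V hVn.1) ≤
      focSys (nW 𝒲 (normalizerSystem F V hVn.1)) T₀ hT₀R := by
    intro hle
    exact hu ((focal_le_iff _ T₀ hT₀R).mpr hle hg)
  have hN₁sat := normalizerSystem_saturated hS F hF hVn _ hNN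
  have hN₂sat : (nW 𝒲 (normalizerSystem F V hVn.1)).IsSaturated p :=
    normSys_saturated hSR _ hN₁sat _ _ _
  have hex : ∃ P : Subgroup Ω, (P = normalizerIn S V ∨
      (nW 𝒲 (normalizerSystem F V hVn.1)).IsEssential p P) ∧
      ¬ (nW 𝒲 (normalizerSystem F V hVn.1)).autGroup P ≤
        (focSys (nW 𝒲 (normalizerSystem F V hVn.1)) T₀ hT₀R).autGroup P := by
    by_contra hcon
    push Not at hcon
    exact hnot₂ (Cfsg.Agent.S5082.result p hSR _ hN₂sat _ hcon)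
  obtain ⟨P, hP, hPnle⟩ := hex
  have hPR : P ≤ normalizerIn S V := by
    rcases hP with rfl | hP
    · exact le_rfl
    · exact hP.1.1
  obtain ⟨α, hα, hαE⟩ := SetLike.not_le_iff_exists.mp hPnle
  obtain ⟨w, hw⟩ := exists_not_mem_of_not_mem_autGroup hPR hα hαE
  have hXn : (nW 𝒲 (normalizerSystem F V hVn.1)).IsNormal (𝒲.W (normalizerIn S V)) :=
    normSys_isNormal _ _ _ _
  have hα' := (mem_autGroup_iff _ hPR).mp hα
  obtain ⟨ψ, hψ, hext, hmapX⟩ := hXn.2 P _ hα'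
  have hαr : (P.subtype.comp α.toMonoidHom).range = P := by
    ext y
    constructor
    · rintro ⟨x, rfl⟩
      exact (α x).2
    · intro hy
      exact ⟨α.symm ⟨y, hy⟩, by simp⟩
  have hr : ψ.range = P ⊔ 𝒲.W (normalizerIn S V) := by
    rw [range_ext_eq hext hmapX, hαr]
  have hψN₁ : ψ ∈ (normalizerSystem F V hVn.1).Hom (P ⊔ 𝒲.W (normalizerIn S V)) := by
    have h1 := hψ
    unfold nW at h1
    rw [normSys_hom] at h1
    exact h1.1
  have hψF : ψ ∈ F.Hom (P ⊔ 𝒲.W (normalizerIn S V)) := hψN₁.1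
  have hU₃R : P ⊔ 𝒲.W (normalizerIn S V) ≤ normalizerIn S V := sup_le hPR (𝒲.le _)
  have hU₃S : P ⊔ 𝒲.W (normalizerIn S V) ≤ S := hU₃R.trans hRS
  refine ⟨Nat.card ↥(P ⊔ 𝒲.W (normalizerIn S V)), P ⊔ 𝒲.W (normalizerIn S V),
    autOfHom F hψF hr, le_sup_right, ?_, rfl, autOfHom_mem F hψF hr, ?_, ?_⟩
  · intro x hx
    exact ⟨hU₃S hx, le_normalizer_W 𝒲 _ (hU₃R hx)⟩
  · intro h
    rw [mem_autGroup_iff _ hU₃S] at h
    have h1 := h.2 (Subgroup.inclusion le_sup_left w)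
    apply hw
    have h2 : ((autOfHom F hψF hr (Subgroup.inclusion le_sup_left w) : _) : Ω) =
        ((α w : P) : Ω) := hext w
    have h3 : (U.subtype.comp β.toMonoidHom) u = ((β u : U) : Ω) := rfl
    have h4 : ((P ⊔ 𝒲.W (normalizerIn S V)).subtype.comp
        (autOfHom F hψF hr).toMonoidHom) (Subgroup.inclusion le_sup_left w) =
        ((α w : P) : Ω) := h2
    rw [h4] at h1
    exact h1
  · intro x hx
    exact hmapX.le ⟨x, Subgroup.mem_subgroupOf.mpr hx, rfl⟩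

end Cfsg.Agent.Lib.Helper27.Tr
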