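import Mathlib
import Cfsg.Agent.Lib.Helper27.TrFocSys
import Cfsg.Agent.Lib.Helper26.ModelUniq2
import Cfsg.Agent.Lib.Helper1.Cores

/-!
# The constrained case of control of transfer: the model and the focal subgroup theorem
-/

set_option autoImplicit false

namespace Cfsg.Agent.Lib.Helper27.Tr

open Cfsg Cfsg.FusionSystem Cfsg.Agent.Lib.Helper26 Cfsg.Agent.Lib.Helper27
  Cfsg.Agent.Lib.Helper27.GT Cfsg.Agent.Lib.Helper27.Th Cfsg.Agent.Lib.Helper27.Qd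

open scoped commutatorElement

universe u

variable {Ω : Type u} [Group Ω] {S : Subgroup Ω}

/-- the local hypothesis on the functor: in every finite group `L` with Sylow subgroup `T` and
`C_L(O_p(L)) ≤ O_p(L)`, the part of `[L, L]` in `O_p(L)` comes from `N_L(W(T))` -/
def TransFun (p : ℕ) (𝒲 : CharFunctor.{u} p) : Prop :=
  ∀ (L : Type u) [Group L] [Finite L] (T : Sylow p L),
    Subgroup.centralizer ((pCore p L : Subgroup L) : Set L) ≤ pCore p L →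
      pCore p L ⊓ commutator L ≤
        (commutator ↥(Subgroup.normalizer ((𝒲.W (T : Subgroup L) : Subgroup L) : Set L))).map
          (Subgroup.normalizer ((𝒲.W (T : Subgroup L) : Subgroup L) : Set L)).subtype

/-- conjugation by an element normalizing the image of `Q` gives a map of `N_F(Q)` -/
theorem exists_normSys_hom_of_conj [Finite S] {L : Type u} [Group L] {F : FusionSystem S}
    {ι : S →* L} (hR : F.IsRealizedBy ι) {Q : Subgroup Ω} (hQS : Q ≤ S)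
    (hSQ : S ≤ Subgroup.normalizer (Q : Set Ω)) {P : Subgroup Ω} (hP : P ≤ S) (u : L)
    (hu : u ∈ Subgroup.normalizer ((imSub ι Q : Subgroup L) : Set L))
    (h : ∀ x : P, u * ι ⟨x, hP x.2⟩ * u⁻¹ ∈ ι.range) :
    ∃ φ ∈ (normSys F Q hQS hSQ).Hom P, ∀ x : P, ∃ hx : φ x ∈ S,
      ι ⟨φ x, hx⟩ = u * ι ⟨x, hP x.2⟩ * u⁻¹ := by
  haveI : Finite Q := finite_of_le hQS
  have hQA : Q ≤ P ⊔ Q := le_sup_right
  have hA : P ⊔ Q ≤ S := sup_le hP hQS
  let K : Subgroup ↥S := ι.range.comap ((MulAut.conj u).toMonoidHom.comp ι)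
  have hK : ∀ k : ↥S, k ∈ K ↔ u * ι k * u⁻¹ ∈ ι.range := fun k => Iff.rfl
  have hPK : P ≤ K.map S.subtype := by
    intro x hx
    refine ⟨⟨x, hP hx⟩, ?_, rfl⟩
    rw [SetLike.mem_coe, hK]
    exact h ⟨x, hx⟩
  have hconjQ : ∀ r (hr : r ∈ Q), u * ι ⟨r, hQS hr⟩ * u⁻¹ ∈ imSub ι Q := fun r hr =>
    (Subgroup.mem_normalizer_iff.mp hu _).mp (apply_mem_imSub ι (hQS hr) hr)
  have hQK : Q ≤ K.map S.subtype := by
    intro r hr
    refine ⟨⟨r, hQS hr⟩, ?_, rfl⟩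
    rw [SetLike.mem_coe, hK]
    exact imSub_le_range ι _ (hconjQ r hr)
  have hAK : ∀ x : ↥(P ⊔ Q), (⟨x, hA x.2⟩ : ↥S) ∈ K := by
    intro x
    obtain ⟨k, hk, hkx⟩ := (sup_le hPK hQK) x.2
    have : k = ⟨x, hA x.2⟩ := Subtype.ext hkx
    rw [← this]
    exact hk
  have h' : ∀ x : ↥(P ⊔ Q), u * ι ⟨x, hA x.2⟩ * u⁻¹ ∈ ι.range := fun x => (hK _).mp (hAK x)
  have hψF := pullHom_mem_hom F hR (P ⊔ Q) hA u h'
  have hψv := pullHom_mem hR.1 (P ⊔ Q) hA u h'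
  have hψe := apply_pullHom hR.1 (P ⊔ Q) hA u h'
  have hφF := pullHom_mem_hom F hR P hP u h
  have hφv := pullHom_mem hR.1 P hP u h
  have hφe := apply_pullHom hR.1 P hP u h
  refine ⟨pullHom hR.1 P hP u h, ?_, fun x => ⟨hφv x, hφe x⟩⟩
  rw [normSys_hom]
  have hNS : normalizerIn S Q = S := normalizerIn_eq_self hSQ
  refine ⟨hφF, ?_, fun x => ?_, pullHom hR.1 (P ⊔ Q) hA u h', hψF, fun x => ?_, ?_⟩
  · rw [hNS]
    exact hP
  · rw [hNS]
    exact hφv x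
  · have h1 := hψe (Subgroup.inclusion le_sup_left x)
    have h2 := hφe x
    have h3 : (⟨((Subgroup.inclusion (le_sup_left : P ≤ P ⊔ Q) x : ↥(P ⊔ Q)) : Ω),
        hA (Subgroup.inclusion (le_sup_left : P ≤ P ⊔ Q) x).2⟩ : ↥S) = ⟨x, hP x.2⟩ := rfl
    rw [h3, ← h2] at h1
    exact congrArg (fun z : ↥S => (z : Ω)) (hR.1 h1)
  · apply Subgroup.eq_of_le_of_card_ge
    · rintro _ ⟨x, hx, rfl⟩
      have hxQ : (x : Ω) ∈ Q := Subgroup.mem_subgroupOf.mp hx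
      have h1 := hψe x
      have h2 := hconjQ x hxQ
      have h3 : (⟨(x : Ω), hA x.2⟩ : ↥S) = ⟨x, hQS hxQ⟩ := rfl
      rw [h3] at h1
      rw [← h1] at h2
      obtain ⟨y, hyS, hyQ, hy⟩ := mem_imSub_iff.mp h2
      have h4 := congrArg (fun z : ↥S => (z : Ω)) (hR.1 hy)
      simp only at h4
      show _ ∈ Q
      rw [← h4]
      exact hyQ
    · rw [Subgroup.card_map_of_injective (F.injective_of_mem hψF)]
      exact (Nat.card_congr (Subgroup.subgroupOfEquivOfLe hQA).toEquiv).ge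

/-- the focal subgroup of a realized system maps into the commutator subgroup -/
theorem focal_le_preSub_commutator {L : Type u} [Group L] {F : FusionSystem S} {ι : S →* L}
    (hR : F.IsRealizedBy ι) : F.focalSubgroup ≤ preSub ι (commutator L) := by
  unfold FusionSystem.focalSubgroup
  rw [Subgroup.closure_le]
  rintro _ ⟨P, φ, x, hφ, rfl⟩
  obtain ⟨g, hg⟩ := exists_of_mem_hom F hR hφ
  have hxS : (x : Ω) ∈ S := (F.le_of_mem hφ).1 x.2
  have hφS : φ x ∈ S := (F.le_of_mem hφ).2 x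
  rw [SetLike.mem_coe, mem_preSub_iff]
  refine ⟨S.mul_mem (S.inv_mem hxS) hφS, ?_⟩
  have e : (⟨(x : Ω)⁻¹ * φ x, S.mul_mem (S.inv_mem hxS) hφS⟩ : S) =
      ⟨x, hxS⟩⁻¹ * ⟨φ x, hφS⟩ := rfl
  rw [e, map_mul, map_inv, hg x, commutator_def]
  have e2 : (ι ⟨x, hxS⟩)⁻¹ * (g * ι ⟨x, hxS⟩ * g⁻¹) = ⁅(ι ⟨x, hxS⟩)⁻¹, g⁆ := by
    rw [commutatorElement_def]
    group
  rw [e2]
  exact Subgroup.commutator_mem_commutator (Subgroup.mem_top _) (Subgroup.mem_top _)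

/-- the constrained case: the part of the focal subgroup in a normal centric subgroup comes
from `N_F(W(S))` -/
theorem focal_inf_le_TW_of_constrained [Finite S] {p : ℕ} [Fact p.Prime] (hS : IsPGroup p S)
    (𝒲 : CharFunctor.{u} p) (hT : TransFun p 𝒲) (F : FusionSystem S) (hF : F.IsSaturated p)
    {V : Subgroup Ω} (hVn : F.IsNormal V) (hcent : centralizerIn S V ≤ V) :
    F.focalSubgroup ⊓ V ≤ TW 𝒲 F := by
  have hVS : V ≤ S := hVn.1
  have hVc : F.IsCentric V := by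
    refine ⟨hVn.1, fun Q' hconj => ?_⟩
    rw [isConj_eq_of_isNormal _ hVn hconj]
    exact hcent
  obtain ⟨L, _, ι, hmod⟩ := Model.exists_model p hS F ⟨hF, V, hVn, hVc⟩
  obtain ⟨hfin, hR, ⟨T, hTr⟩, hcore⟩ := hmod
  haveI := hfin
  -- the image of `V` lies in `O_p(L)`
  have hVnorm : (imSub ι V).Normal := imSub_normal_of_isNormal F hR ⟨T, hTr⟩ hcore hVn
  have hVp : IsPGroup p (imSub ι V) := by
    have h1 : imSub ι V ≤ (T : Subgroup L) := hTr ▸ imSub_le_range ι V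
    exact T.2.to_le h1
  have hVcore : imSub ι V ≤ pCore p L := Cfsg.Agent.Lib.Helper1.le_pCore hVnorm hVp
  have hWT : imSub ι (𝒲.W S) = 𝒲.W (T : Subgroup L) := by
    rw [𝒲.imSub_eq hR.1, hTr]
  have hTN : (T : Subgroup L) ≤ Subgroup.normalizer ((𝒲.W (T : Subgroup L) : Subgroup L) : Set L) :=
    Subgroup.le_normalizer.trans (𝒲.normalizer_le _)
  have hfocL := focal_le_preSub_commutator (F := F) hR
  have hloc := hT L T hcore
  -- the focal subgroup of `T` in `N_L(W(T))`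
  have key : ((T.subtype hTN : Sylow p _) : Subgroup
      ↥(Subgroup.normalizer ((𝒲.W (T : Subgroup L) : Subgroup L) : Set L))).focalSubgroup ≤
      ((imSub ι (TW 𝒲 F)).subgroupOf
        (Subgroup.normalizer ((𝒲.W (T : Subgroup L) : Subgroup L) : Set L))) := by
    rw [Subgroup.focalSubgroup_def, Subgroup.closure_le]
    rintro g ⟨hgT, t, htT, u, hgu⟩
    rw [Sylow.coe_subtype, Subgroup.mem_subgroupOf] at hgT htT
    rw [SetLike.mem_coe, Subgroup.mem_subgroupOf]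
    have hgT' : (g : L) ∈ ι.range := by
      rw [← hTr]
      exact hgT
    have htT' : (t : L) ∈ ι.range := by
      rw [← hTr]
      exact htT
    obtain ⟨a, ha⟩ := htT'
    have hgL : (g : L) = (t : L) * (u : L) * (t : L)⁻¹ * (u : L)⁻¹ := by
      rw [hgu, commutatorElement_def]
      rfl
    have hconj : (u : L) * ι (a⁻¹) * (u : L)⁻¹ ∈ ι.range := by
      have e : (u : L) * ι (a⁻¹) * (u : L)⁻¹ = (ι a)⁻¹ * (g : L) := by
        rw [hgL, map_inv, ha]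
        group
      rw [e]
      exact ι.range.mul_mem (ι.range.inv_mem ⟨a, rfl⟩) hgT'
    let K : Subgroup ↥S := ι.range.comap ((MulAut.conj (u : L)).toMonoidHom.comp ι)
    have hK : ∀ k : ↥S, k ∈ K ↔ (u : L) * ι k * (u : L)⁻¹ ∈ ι.range := fun k => Iff.rfl
    have hPS : Subgroup.zpowers ((a⁻¹ : S) : Ω) ≤ S := Subgroup.zpowers_le.mpr (a⁻¹ : S).2
    have hPK : Subgroup.zpowers ((a⁻¹ : S) : Ω) ≤ K.map S.subtype := by
      rw [Subgroup.zpowers_le]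
      exact ⟨a⁻¹, (hK _).mpr hconj, rfl⟩
    have h' : ∀ x : ↥(Subgroup.zpowers ((a⁻¹ : S) : Ω)),
        (u : L) * ι ⟨x, hPS x.2⟩ * (u : L)⁻¹ ∈ ι.range := by
      intro x
      obtain ⟨k, hk, hkx⟩ := hPK x.2
      have : k = ⟨x, hPS x.2⟩ := Subtype.ext hkx
      rw [← this]
      exact (hK _).mp hk
    have huN : (u : L) ∈ Subgroup.normalizer ((imSub ι (𝒲.W S) : Subgroup L) : Set L) := by
      rw [hWT]
      exact u.2
    obtain ⟨φ, hφ, hφe⟩ := exists_normSys_hom_of_conj hR (𝒲.le S) (le_normalizer_W 𝒲 S) hPS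
      (u : L) huN h'
    have hgen := gen_mem_focal _ hφ ⟨((a⁻¹ : S) : Ω), Subgroup.mem_zpowers _⟩
    obtain ⟨hφS, hφa⟩ := hφe ⟨((a⁻¹ : S) : Ω), Subgroup.mem_zpowers _⟩
    have hgenS : (((a⁻¹ : S) : Ω))⁻¹ * φ ⟨((a⁻¹ : S) : Ω), Subgroup.mem_zpowers _⟩ ∈ S :=
      S.mul_mem (S.inv_mem (a⁻¹ : S).2) hφS
    refine mem_imSub_iff.mpr ⟨_, hgenS, hgen, ?_⟩
    have e : (⟨(((a⁻¹ : S) : Ω))⁻¹ * φ ⟨((a⁻¹ : S) : Ω), Subgroup.mem_zpowers _⟩, hgenS⟩ : S) =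
        (a⁻¹)⁻¹ * ⟨φ ⟨((a⁻¹ : S) : Ω), Subgroup.mem_zpowers _⟩, hφS⟩ := rfl
    rw [e, map_mul, hφa, hgL]
    have e2 : (⟨((a⁻¹ : S) : Ω), hPS (Subgroup.mem_zpowers _)⟩ : S) = a⁻¹ := rfl
    rw [e2, map_inv, map_inv, inv_inv, ha]
    group
  rintro x ⟨hxf, hxV⟩
  obtain ⟨hxS, hxc⟩ := mem_preSub_iff.mp (hfocL hxf)
  have h1 : ι ⟨x, hxS⟩ ∈ pCore p L ⊓ commutator L :=
    ⟨hVcore (apply_mem_imSub ι hxS hxV), hxc⟩
  obtain ⟨y, hy, hyx⟩ := hloc h1
  have hyT : y ∈ ((T.subtype hTN : Sylow p _) : Subgroup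
      ↥(Subgroup.normalizer ((𝒲.W (T : Subgroup L) : Subgroup L) : Set L))) := by
    rw [Sylow.coe_subtype, Subgroup.mem_subgroupOf]
    have : (y : L) ∈ ι.range := ⟨⟨x, hxS⟩, hyx.symm⟩
    rw [← hTr] at this
    exact this
  have h2 : y ∈ commutator ↥(Subgroup.normalizer ((𝒲.W (T : Subgroup L) : Subgroup L) : Set L)) ⊓
      ((T.subtype hTN : Sylow p _) : Subgroup _) := ⟨hy, hyT⟩
  rw [Subgroup.commutator_inf_eq_focalSubgroup] at h2
  have h3 := key h2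
  rw [Subgroup.mem_subgroupOf] at h3
  obtain ⟨x', hx'S, hx'T, hx'⟩ := mem_imSub_iff.mp h3
  have h4 : (⟨x', hx'S⟩ : S) = ⟨x, hxS⟩ := hR.1 (hx'.trans hyx)
  have h5 : x' = x := congrArg (fun z : ↥S => (z : Ω)) h4
  rw [← h5]
  exact hx'T

end Cfsg.Agent.Lib.Helper27.Tr
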