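import Mathlib
import Cfsg.Agent.Lib.Helper27.TrClimb
import Cfsg.Agent.Lib.Helper27.TrCentral
import Cfsg.Agent.Lib.Helper27.TrGroup

/-!
# Control of transfer by a positive characteristic functor: the main induction
-/

set_option autoImplicit false

namespace Cfsg.Agent.Lib.Helper27.Tr

open Cfsg Cfsg.FusionSystem Cfsg.Agent.Lib.Helper26 Cfsg.Agent.Lib.Helper27
  Cfsg.Agent.Lib.Helper27.GT Cfsg.Agent.Lib.Helper27.Th Cfsg.Agent.Lib.Helper27.Qd

universe u

variable {Ω : Type u} [Group Ω] {S : Subgroup Ω}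

theorem le_normalizer_preimageAlong {Ω' : Type u} [Group Ω'] (θ : ↥S →* Ω') {X' : Subgroup Ω'}
    (h : ∀ s : S, θ s ∈ Subgroup.normalizer (X' : Set Ω')) :
    S ≤ Subgroup.normalizer ((preimageAlong θ X' : Subgroup Ω) : Set Ω) := by
  have key : ∀ s ∈ S, ∀ y ∈ preimageAlong θ X', s * y * s⁻¹ ∈ preimageAlong θ X' := by
    intro s hs y hy
    obtain ⟨hyS, hy'⟩ := mem_preimageAlong.mp hy
    refine mem_preimageAlong.mpr ⟨S.mul_mem (S.mul_mem hs hyS) (S.inv_mem hs), ?_⟩
    have e : (⟨s * y * s⁻¹, S.mul_mem (S.mul_mem hs hyS) (S.inv_mem hs)⟩ : S) =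
        ⟨s, hs⟩ * ⟨y, hyS⟩ * ⟨s, hs⟩⁻¹ := rfl
    rw [e, map_mul, map_mul, map_inv]
    exact (Subgroup.mem_normalizer_iff.mp (h ⟨s, hs⟩) _).mp hy'
  intro s hs
  refine mem_normalizer_of_forall (key s hs) (fun y hy => ?_)
  have := key s⁻¹ (S.inv_mem hs) y hy
  rwa [inv_inv] at this

/-- the modular law, in the form used here -/
theorem le_of_le_sup_of_inf_le {A B V : Subgroup Ω} (hBA : B ≤ A)
    (hBV : B ≤ Subgroup.normalizer (V : Set Ω)) (h1 : A ≤ B ⊔ V) (h2 : A ⊓ V ≤ B) : A ≤ B := by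
  intro a ha
  obtain ⟨b, hb, v, hv, rfl⟩ := exists_mul_of_mem_sup hBV (h1 ha)
  have hvA : v ∈ A := by
    have := A.mul_mem (A.inv_mem (hBA hb)) ha
    rwa [inv_mul_cancel_left] at this
  exact B.mul_mem hb (h2 ⟨hvA, hv⟩)

/-- the main theorem: a positive characteristic functor with the local transfer property
controls transfer in every saturated fusion system -/
theorem transfer_main {p : ℕ} [Fact p.Prime] (𝒲 : CharFunctor.{u} p) (hT : TransFun p 𝒲) :
    ∀ (n : ℕ) {Ω : Type u} [Group Ω] (S : Subgroup Ω) [Finite S], Nat.card S = n →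
      IsPGroup p S → ∀ F : FusionSystem S, F.IsSaturated p → F.focalSubgroup ≤ TW 𝒲 F := by
  intro n
  induction n using Nat.strong_induction_on with
  | _ n IH =>
    intro Ω _ S _ hn hS F hF
    by_contra hbad
    have hT₀ := comm_mem_TW 𝒲 F
    have hnle : ¬ F ≤ focSys F (TW 𝒲 F) hT₀ := fun h =>
      hbad ((focal_le_iff F (TW 𝒲 F) hT₀).mpr h)
    have hclimb : ∀ V : Subgroup Ω, F.IsFullyNormalized V → V ≠ ⊥ →
        (∃ n, BadWit n F (focSys F (TW 𝒲 F) hT₀) V) → normalizerIn S V ≠ S →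
        ∃ X : Subgroup Ω, X ≠ ⊥ ∧ X ≤ normalizerIn S V ∧
          normalizerIn S (normalizerIn S V) ≤ normalizerIn S X ∧
          ∃ n, BadWit n F (focSys F (TW 𝒲 F) hT₀) X := by
      intro V hVn hVne hbadV hR
      have hRS : normalizerIn S V ≤ S := normalizerIn_le S V
      haveI : Finite ↥(normalizerIn S V) := finite_of_le hRS
      have hcard : Nat.card (normalizerIn S V) < Nat.card S :=
        Cfsg.Agent.S5082.card_lt_of_ne hRS hR
      have hNN := normalizerSystem_isNormalizerSystem F V hVn.1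
      have hNsat := normalizerSystem_saturated hS F hF hVn _ hNN
      have hRne : normalizerIn S V ≠ ⊥ := by
        intro h
        apply hVne
        rw [eq_bot_iff, ← h]
        exact le_normalizerIn_self hVn.1
      have hIH := IH _ (hn ▸ hcard) (normalizerIn S V) rfl (hS.to_le hRS) _ hNsat
      refine ⟨𝒲.W (normalizerIn S V), 𝒲.ne_bot _ (hS.to_le hRS) hRne, 𝒲.le _, ?_,
        climb_transfer hS 𝒲 F hF hT₀ hVn hIH hbadV⟩
      intro s hs
      obtain ⟨hsS, hsR⟩ := Subgroup.mem_inf.mp hs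
      exact Subgroup.mem_inf.mpr ⟨hsS, 𝒲.normalizer_le _ hsR⟩
    obtain ⟨V₀, hV₀S, hSV₀, hV₀ne, n₀, hbadV₀⟩ :=
      exists_bad_normal' hS F hF _ hnle hclimb
    have hF₁bad : ¬ (normSys F V₀ hV₀S hSV₀).focalSubgroup ≤ TW 𝒲 (normSys F V₀ hV₀S hSV₀) := by
      intro hgood
      obtain ⟨U, β, hVU, hUN, hUn, hβ, hβE, hinv⟩ := hbadV₀
      have hUS : U ≤ S := hUN.trans (normalizerIn_le S V₀)
      apply hβE
      have h1 : β ∈ (normSys F V₀ hV₀S hSV₀).autGroup U :=
        mem_autGroup_normSys F hV₀S hSV₀ hVU hUS hβ hinv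
      rw [mem_autGroup_iff _ hUS]
      refine ⟨(mem_autGroup_iff F hUS).mp hβ, fun x => ?_⟩
      exact TW_mono 𝒲 (normSys_le F V₀ hV₀S hSV₀)
        (hgood (gen_mem_focal _ ((mem_autGroup_iff _ hUS).mp h1) x))
    -- a maximal normal subgroup of a bad system
    obtain ⟨V, ⟨F', hF', hbad', hVn, hVne⟩, hVmax⟩ := exists_max_nat
      {V : Subgroup Ω | ∃ F' : FusionSystem S, F'.IsSaturated p ∧
        ¬ F'.focalSubgroup ≤ TW 𝒲 F' ∧ F'.IsNormal V ∧ V ≠ ⊥}
      ⟨V₀, normSys F V₀ hV₀S hSV₀, normSys_saturated hS F hF V₀ hV₀S hSV₀, hF₁bad,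
        normSys_isNormal F V₀ hV₀S hSV₀, hV₀ne⟩
      (fun V => Nat.card V) (Nat.card S)
      (fun V hV => by
        obtain ⟨F', -, -, hVn, -⟩ := hV
        exact card_le_card_of_le_of_finite hVn.1)
    have hVS : V ≤ S := hVn.1
    have hSV : S ≤ Subgroup.normalizer (V : Set Ω) := fun s hs =>
      mem_normalizer_of_isNormal F' hVn hs
    haveI : Finite V := finite_of_le hVS
    -- modulo `V`, every saturated system with `V` normal is good
    have hQ : ∀ F'' : FusionSystem S, F''.IsSaturated p → F''.IsNormal V →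
        F''.focalSubgroup ≤ TW 𝒲 F'' ⊔ V := by
      intro F'' hF'' hVn''
      by_cases hVeq : V = S
      · exact (focal_le_S F'').trans (le_trans (le_of_eq hVeq.symm) le_sup_right)
      have hVsc := stronglyClosed_of_isNormal _ hVn''
      haveI hnorm : (V.subgroupOf S).Normal :=
        (Subgroup.normal_subgroupOf_iff_le_normalizer hVS).mpr hSV
      have hE' := factorSystem_isFactorSystem F'' hVsc
        (QuotientGroup.mk' (V.subgroupOf S)) (mk'_ker_iff V) (mk'_range_top V)
      have hE'sat := factor_saturated hS hF'' hVsc hE'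
      haveI : Finite (↥S ⧸ V.subgroupOf S) := inferInstance
      haveI : Finite ↥(⊤ : Subgroup (↥S ⧸ V.subgroupOf S)) := inferInstance
      have hcardV : Nat.card (V.subgroupOf S) = Nat.card V :=
        Nat.card_congr (Subgroup.subgroupOfEquivOfLe hVS).toEquiv
      have hV2 : 1 < Nat.card V := by
        have h1 : Nat.card V ≠ 1 := fun h => hVne (Subgroup.eq_bot_of_card_eq _ h)
        have h2 : 0 < Nat.card V := Nat.card_pos
        omega
      have hcard : Nat.card ↥(⊤ : Subgroup (↥S ⧸ V.subgroupOf S)) < Nat.card S := by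
        rw [Subgroup.card_top]
        have h1 := Subgroup.card_eq_card_quotient_mul_card_subgroup (V.subgroupOf S)
        rw [hcardV] at h1
        have h2 : 0 < Nat.card (↥S ⧸ V.subgroupOf S) := Nat.card_pos
        rw [h1]
        nlinarith
      have hS' : IsPGroup p ↥(⊤ : Subgroup (↥S ⧸ V.subgroupOf S)) :=
        (hS.of_surjective (QuotientGroup.mk' (V.subgroupOf S))
          (QuotientGroup.mk'_surjective _)).of_equiv Subgroup.topEquiv.symm
      have hfoc' := IH _ (hn ▸ hcard) ⊤ rfl hS' _ hE'sat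
      have hXS := preimageAlong_le (QuotientGroup.mk' (V.subgroupOf S))
        (𝒲.W (⊤ : Subgroup (↥S ⧸ V.subgroupOf S)))
      have hSX := le_normalizer_preimageAlong (QuotientGroup.mk' (V.subgroupOf S))
        (X' := 𝒲.W (⊤ : Subgroup (↥S ⧸ V.subgroupOf S)))
        (fun s => le_normalizer_W 𝒲 ⊤ (Subgroup.mem_top _))
      have h1 := focal_le_sup_of_factor hVn'' hE' (𝒲.le ⊤) (le_normalizer_W 𝒲 ⊤) hXS hSX hfoc'
      refine h1.trans (sup_le_sup_right ?_ V)
      -- the normalizer system of the preimage is good, by maximality of `V`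
      have hVX : V ≤ preimageAlong (QuotientGroup.mk' (V.subgroupOf S))
          (𝒲.W (⊤ : Subgroup (↥S ⧸ V.subgroupOf S))) := ker_le_preimageAlong hE' _
      have hXne : preimageAlong (QuotientGroup.mk' (V.subgroupOf S))
          (𝒲.W (⊤ : Subgroup (↥S ⧸ V.subgroupOf S))) ≠ ⊥ := fun h =>
        hVne (eq_bot_iff.mpr (h ▸ hVX))
      have hXgood : (normSys F'' _ hXS hSX).focalSubgroup ≤ TW 𝒲 (normSys F'' _ hXS hSX) := by
        by_contra hXbad
        have h1 := hVmax _ ⟨normSys F'' _ hXS hSX, normSys_saturated hS F'' hF'' _ hXS hSX,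
          hXbad, normSys_isNormal F'' _ hXS hSX, hXne⟩
        have htopne : (⊤ : Subgroup (↥S ⧸ V.subgroupOf S)) ≠ ⊥ := by
          intro h
          apply hVeq
          apply le_antisymm hVS
          intro s hs
          have h1 : (QuotientGroup.mk' (V.subgroupOf S)) ⟨s, hs⟩ ∈
              (⊤ : Subgroup (↥S ⧸ V.subgroupOf S)) := Subgroup.mem_top _
          rw [h, Subgroup.mem_bot] at h1
          exact (mk'_ker_iff V ⟨s, hs⟩).mp h1
        have hW'ne := 𝒲.ne_bot (⊤ : Subgroup (↥S ⧸ V.subgroupOf S)) hS' htopne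
        obtain ⟨y, hy1⟩ := (Subgroup.ne_bot_iff_exists_ne_one.mp hW'ne)
        obtain ⟨s, hs⟩ := QuotientGroup.mk'_surjective (V.subgroupOf S)
          (y : ↥S ⧸ V.subgroupOf S)
        have hsX : (s : Ω) ∈ preimageAlong (QuotientGroup.mk' (V.subgroupOf S))
            (𝒲.W (⊤ : Subgroup (↥S ⧸ V.subgroupOf S))) := by
          refine mem_preimageAlong.mpr ⟨s.2, ?_⟩
          rw [hs]
          exact y.2
        have hsV : (s : Ω) ∉ V := by
          intro h
          have := (mk'_ker_iff V s).mpr h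
          rw [hs] at this
          apply hy1
          exact Subtype.ext this
        have hlt : V < preimageAlong (QuotientGroup.mk' (V.subgroupOf S))
            (𝒲.W (⊤ : Subgroup (↥S ⧸ V.subgroupOf S))) :=
          lt_of_le_of_ne hVX (fun h => hsV (h ▸ hsX))
        haveI : Finite ↥(preimageAlong (QuotientGroup.mk' (V.subgroupOf S))
            (𝒲.W (⊤ : Subgroup (↥S ⧸ V.subgroupOf S)))) := finite_of_le (preimageAlong_le _ _)
        have := card_lt_card_of_lt hlt
        omega
      exact hXgood.trans (TW_mono 𝒲 (normSys_le F'' _ hXS hSX))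
    -- hence a system with `V` normal is good as soon as its focal subgroup meets `V` in `TW`
    have hgood_of : ∀ F'' : FusionSystem S, F''.IsSaturated p → F''.IsNormal V →
        F''.focalSubgroup ⊓ V ≤ TW 𝒲 F'' → F''.focalSubgroup ≤ TW 𝒲 F'' := by
      intro F'' hF'' hVn'' h2
      exact le_of_le_sup_of_inf_le (TW_le_focal 𝒲 F'')
        (((TW_le_focal 𝒲 F'').trans (focal_le_S F'')).trans hSV) (hQ F'' hF'' hVn'') h2
    by_cases hcent : centralizerIn S V ≤ V
    · exact hbad' (hgood_of F' hF' hVn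
        (focal_inf_le_TW_of_constrained hS 𝒲 hT F' hF' hVn hcent))
    · have hTS : V ⊔ centralizerIn S V ≤ S := sup_le hVS (centralizerIn_le S V)
      have hST := le_normalizer_sup_centralizerIn hSV
      haveI : Finite ↥(V ⊔ centralizerIn S V) := finite_of_le hTS
      have hTgood : (normSys F' (V ⊔ centralizerIn S V) hTS hST).focalSubgroup ≤
          TW 𝒲 (normSys F' (V ⊔ centralizerIn S V) hTS hST) := by
        by_contra hTbad
        have h1 := hVmax _ ⟨normSys F' _ hTS hST, normSys_saturated hS F' hF' _ hTS hST,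
          hTbad, normSys_isNormal F' _ hTS hST, fun h => hVne (eq_bot_iff.mpr (h ▸ le_sup_left))⟩
        have h2 : V = V ⊔ centralizerIn S V := Subgroup.eq_of_le_of_card_ge le_sup_left h1
        exact hcent (sup_eq_left.mp h2.symm)
      have hF₂sat := scSys_saturated hS F' hF' V hVS hSV
      have hVn₂ := scSys_isNormal F' V hVS hSV
      have hF₂bad : ¬ (scSys F' V hVS hSV).focalSubgroup ≤ TW 𝒲 (scSys F' V hVS hSV) := by
        intro hgood
        apply hbad'
        rw [focal_le_iff F' (TW 𝒲 F') (comm_mem_TW 𝒲 F')]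
        apply le_of_scSys_le hS F' hF' hVn hSV
        · intro P φ hφ
          exact ⟨scSys_le F' V hVS hSV P hφ, fun x =>
            TW_mono 𝒲 (scSys_le F' V hVS hSV) (hgood (gen_mem_focal _ hφ x))⟩
        · intro P φ hφ
          have hφ' : φ ∈ (normSys F' _ hTS hST).Hom P := by
            rw [normSys_hom]
            exact hφ
          exact ⟨normSys_le F' _ hTS hST P hφ', fun x =>
            TW_mono 𝒲 (normSys_le F' _ hTS hST) (hTgood (gen_mem_focal _ hφ' x))⟩
      apply hF₂bad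
      apply hgood_of _ hF₂sat hVn₂
      apply focal_inf_le_of_act hS _ hF₂sat hVn₂ hSV _ _ (comm_mem_TW 𝒲 _)
      intro P φ hφ
      obtain ⟨hφF, ψ, hψ, hext, s, hs, hV⟩ := hφ
      refine ⟨ψ, ?_, hext, s, hs, hV⟩
      refine mem_scSys_of_conj F' hVS hSV le_sup_right hψ hs (fun x hx => ?_)
      have := hV ⟨x, hx⟩
      rw [← this]
      congr 1

end Cfsg.Agent.Lib.Helper27.Tr
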