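import Mathlib
import Cfsg.Agent.Lib.Helper27.TrMain
import Cfsg.Agent.Lib.Helper27.TrFunOf
import Cfsg.Agent.Lib.Helper13.KInfI

/-!
# Fusion systems with `Aut_F(S)` a `p`-group have a proper focal subgroup, `p ≥ 5`

For a positive characteristic functor controlling transfer in groups of characteristic `p`: if
`Aut_F(S)` is a `p`-group and `S ≠ 1` then `foc(F) < S`.  Applied to the lower `K`-infinity
functor for `p ≥ 5`.
-/

set_option autoImplicit false

namespace Cfsg.Agent.Lib.Helper27.KTr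

open Cfsg Cfsg.FusionSystem Cfsg.Agent.Lib.Helper26 Cfsg.Agent.Lib.Helper27
  Cfsg.Agent.Lib.Helper27.GT Cfsg.Agent.Lib.Helper27.Th Cfsg.Agent.Lib.Helper27.Tr

open scoped commutatorElement

universe u

variable {Ω : Type u} [Group Ω] {S : Subgroup Ω}

/-- if `Aut_F(S)` is a `p`-group, its elements are conjugations by elements of `S` -/
theorem aut_top_inner [Finite S] {p : ℕ} [Fact p.Prime] (hS : IsPGroup p S) (F : FusionSystem S)
    (hF : F.IsSaturated p) (haut : IsPGroup p (F.autGroup S)) {α : MulAut S}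
    (hα : α ∈ F.autGroup S) : ∃ s ∈ S, ∀ x : S, ((α x : S) : Ω) = s * (x : Ω) * s⁻¹ := by
  obtain ⟨-, ⟨-, R, hR⟩, -⟩ := saturated_fullyNormalized hS F hF (top_fullyNormalized F)
  have htop : (⊤ : Subgroup (F.autGroup S)) = (R : Subgroup (F.autGroup S)) :=
    R.3 (haut.to_subgroup ⊤) le_top
  rw [hR] at htop
  have : (⟨α, hα⟩ : F.autGroup S) ∈ (autInducedBy S S).subgroupOf (F.autGroup S) := by
    rw [← htop]
    exact Subgroup.mem_top _
  exact mem_autInducedBy_iff.mp (Subgroup.mem_subgroupOf.mp this)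

/-- if `Aut_F(S)` is a `p`-group, the focal subgroup of `N_F(S)` is `[S, S]` -/
theorem focal_normSys_top_le [Finite S] {p : ℕ} [Fact p.Prime] (hS : IsPGroup p S)
    (F : FusionSystem S) (hF : F.IsSaturated p) (haut : IsPGroup p (F.autGroup S))
    {X : Subgroup Ω} (hXS : X ≤ S) (hSX : S ≤ Subgroup.normalizer (X : Set Ω)) (hX : X = S) :
    (normSys F X hXS hSX).focalSubgroup ≤ ⁅S, S⁆ := by
  unfold FusionSystem.focalSubgroup
  rw [Subgroup.closure_le]
  rintro _ ⟨P, φ, x, hφ, rfl⟩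
  rw [normSys_hom] at hφ
  obtain ⟨hφF, -, -, ψ, hψ, hext, hmap⟩ := hφ
  have hPS : P ≤ S := source_le F hφF
  have hsup : P ⊔ X = S := by
    rw [hX]
    exact sup_eq_right.mpr hPS
  obtain ⟨ψ', hψ', h1, h2⟩ := hom_cast' F hsup ψ hψ
  have hr : ψ'.range = S := by
    apply range_eq_of_range_le F hψ'
    rintro _ ⟨z, rfl⟩
    exact apply_mem F hψ' z
  obtain ⟨s, hs, hsα⟩ := aut_top_inner hS F hF haut (autOfHom_mem F hψ' hr)
  have h3 : φ x = s * (x : Ω) * s⁻¹ := by
    rw [← hext x, ← hsα ⟨x, hPS x.2⟩, autOfHom_apply]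
    exact (h1 (x : Ω) ((le_sup_left : P ≤ P ⊔ X) x.2) (hPS x.2)).symm
  rw [SetLike.mem_coe, h3]
  have e : (x : Ω)⁻¹ * (s * (x : Ω) * s⁻¹) = ⁅(x : Ω)⁻¹, s⁆ := by
    rw [commutatorElement_def]
    group
  rw [e]
  exact Subgroup.commutator_mem_commutator (S.inv_mem (hPS x.2)) hs

/-- a proper normal subgroup of a finite `p`-group together with the derived subgroup generates a
proper subgroup -/
theorem commutator_sup_lt [Finite S] {p : ℕ} [Fact p.Prime] (hS : IsPGroup p S) {V : Subgroup Ω}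
    (hVS : V ≤ S) (hSV : S ≤ Subgroup.normalizer (V : Set Ω)) (hne : V ≠ S) :
    ⁅S, S⁆ ⊔ V < S := by
  have hcS : ⁅S, S⁆ ≤ S := by
    rw [Subgroup.commutator_le]
    intro a ha b hb
    rw [commutatorElement_def]
    exact S.mul_mem (S.mul_mem (S.mul_mem ha hb) (S.inv_mem ha)) (S.inv_mem hb)
  refine lt_of_le_of_ne (sup_le hcS hVS) ?_
  intro heq
  haveI hnorm : (V.subgroupOf S).Normal :=
    (Subgroup.normal_subgroupOf_iff_le_normalizer hVS).mpr hSV
  -- the quotient is a nontrivial `p`-group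
  have hnt : Nontrivial (↥S ⧸ V.subgroupOf S) := by
    by_contra hcon
    rw [not_nontrivial_iff_subsingleton] at hcon
    apply hne
    apply le_antisymm hVS
    intro s hs
    have h1 : (QuotientGroup.mk' (V.subgroupOf S)) ⟨s, hs⟩ = 1 := Subsingleton.elim _ _
    exact Subgroup.mem_subgroupOf.mp ((QuotientGroup.eq_one_iff _).mp h1)
  have hQp : IsPGroup p (↥S ⧸ V.subgroupOf S) :=
    hS.of_surjective (QuotientGroup.mk' (V.subgroupOf S)) (QuotientGroup.mk'_surjective _)
  haveI : Group.IsNilpotent (↥S ⧸ V.subgroupOf S) := hQp.isNilpotent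
  have hlt := Group.IsSolvable.commutator_lt_top_of_nontrivial (↥S ⧸ V.subgroupOf S)
  apply ne_of_lt hlt
  rw [eq_top_iff]
  intro y _
  obtain ⟨s, rfl⟩ := QuotientGroup.mk'_surjective (V.subgroupOf S) y
  have hs : (s : Ω) ∈ ⁅S, S⁆ ⊔ V := by
    rw [heq]
    exact s.2
  -- the set of elements of `S` mapping into the derived subgroup of the quotient
  have hle : ⁅S, S⁆ ⊔ V ≤ ((commutator (↥S ⧸ V.subgroupOf S)).comap
      (QuotientGroup.mk' (V.subgroupOf S))).map S.subtype := by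
    refine sup_le ?_ ?_
    · rw [← Subgroup.map_subtype_commutator]
      apply Subgroup.map_mono
      intro z hz
      rw [Subgroup.mem_comap]
      have h1 : (QuotientGroup.mk' (V.subgroupOf S)) z ∈
          (commutator ↥S).map (QuotientGroup.mk' (V.subgroupOf S)) := ⟨z, hz, rfl⟩
      rw [commutator_def, Subgroup.map_commutator] at h1
      exact Subgroup.commutator_mono le_top le_top h1
    · intro v hv
      refine ⟨⟨v, hVS hv⟩, ?_, rfl⟩
      rw [SetLike.mem_coe, Subgroup.mem_comap]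
      have h1 : (QuotientGroup.mk' (V.subgroupOf S)) ⟨v, hVS hv⟩ = 1 :=
        (QuotientGroup.eq_one_iff _).mpr (Subgroup.mem_subgroupOf.mpr hv)
      rw [h1]
      exact Subgroup.one_mem _
  obtain ⟨z, hz, hzs⟩ := hle hs
  have : z = s := Subtype.ext hzs
  rw [← this]
  exact Subgroup.mem_comap.mp hz

/-- the main induction: `foc(F) V < S` for a normal subgroup `V ≠ S` of `F` -/
theorem focal_sup_lt [Finite S] {p : ℕ} [Fact p.Prime] (𝒲 : CharFunctor.{u} p)
    (hTF : TransFun p 𝒲) (hS : IsPGroup p S) :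
    ∀ (m : ℕ) (F : FusionSystem S) (V : Subgroup Ω), F.IsSaturated p → F.IsNormal V → V ≠ S →
      Nat.card S - Nat.card V = m → IsPGroup p (F.autGroup S) → F.focalSubgroup ⊔ V < S := by
  intro m
  induction m using Nat.strong_induction_on with
  | _ m IH =>
    intro F V hF hVn hVne hm haut
    have hVS : V ≤ S := hVn.1
    have hVsc : F.StronglyClosed V := stronglyClosed_of_isNormal F hVn
    have hSV : S ≤ Subgroup.normalizer (V : Set Ω) := le_normalizer_of_stronglyClosed F hVsc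
    haveI hnorm : (V.subgroupOf S).Normal :=
      (Subgroup.normal_subgroupOf_iff_le_normalizer hVS).mpr hSV
    have hE' := factorSystem_isFactorSystem F hVsc
      (QuotientGroup.mk' (V.subgroupOf S)) (mk'_ker_iff V) (mk'_range_top V)
    have hE'sat := factor_saturated hS hF hVsc hE'
    haveI : Finite (↥S ⧸ V.subgroupOf S) := inferInstance
    haveI : Finite ↥(⊤ : Subgroup (↥S ⧸ V.subgroupOf S)) := inferInstance
    haveI : Finite V := finite_of_le hVS
    have hS' : IsPGroup p ↥(⊤ : Subgroup (↥S ⧸ V.subgroupOf S)) :=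
      (hS.of_surjective (QuotientGroup.mk' (V.subgroupOf S))
        (QuotientGroup.mk'_surjective _)).of_equiv Subgroup.topEquiv.symm
    have htopne : (⊤ : Subgroup (↥S ⧸ V.subgroupOf S)) ≠ ⊥ := by
      intro h
      apply hVne
      apply le_antisymm hVS
      intro s hs
      have h1 : (QuotientGroup.mk' (V.subgroupOf S)) ⟨s, hs⟩ ∈
          (⊤ : Subgroup (↥S ⧸ V.subgroupOf S)) := Subgroup.mem_top _
      rw [h, Subgroup.mem_bot] at h1
      exact (mk'_ker_iff V ⟨s, hs⟩).mp h1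
    have main' := transfer_main 𝒲 hTF _ (⊤ : Subgroup (↥S ⧸ V.subgroupOf S)) rfl hS' _ hE'sat
    have hR'S := preimageAlong_le (QuotientGroup.mk' (V.subgroupOf S))
      (𝒲.W (⊤ : Subgroup (↥S ⧸ V.subgroupOf S)))
    have hconj : ∀ s ∈ S, ∀ r ∈ preimageAlong (QuotientGroup.mk' (V.subgroupOf S))
        (𝒲.W (⊤ : Subgroup (↥S ⧸ V.subgroupOf S))), s * r * s⁻¹ ∈
          preimageAlong (QuotientGroup.mk' (V.subgroupOf S))
            (𝒲.W (⊤ : Subgroup (↥S ⧸ V.subgroupOf S))) := by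
      intro s hs r hr
      obtain ⟨hrS, hr'⟩ := mem_preimageAlong.mp hr
      refine mem_preimageAlong.mpr ⟨S.mul_mem (S.mul_mem hs hrS) (S.inv_mem hs), ?_⟩
      have e : (⟨s * r * s⁻¹, S.mul_mem (S.mul_mem hs hrS) (S.inv_mem hs)⟩ : S) =
          ⟨s, hs⟩ * ⟨r, hrS⟩ * ⟨s, hs⟩⁻¹ := rfl
      rw [e, map_mul, map_mul, map_inv]
      refine 𝒲.conj_mem ⊤ ?_ hr'
      rw [Subgroup.normalizer_eq_top]
      exact Subgroup.mem_top _
    have hSR' : S ≤ Subgroup.normalizer ((preimageAlong (QuotientGroup.mk' (V.subgroupOf S))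
        (𝒲.W (⊤ : Subgroup (↥S ⧸ V.subgroupOf S))) : Subgroup Ω) : Set Ω) := by
      intro s hs
      refine mem_normalizer_of_forall (fun r hr => hconj s hs r hr) (fun r hr => ?_)
      have := hconj s⁻¹ (S.inv_mem hs) r hr
      rwa [inv_inv] at this
    have hfoc := focal_le_sup_of_factor hVn hE' (𝒲.le ⊤) (le_normalizer_W 𝒲 ⊤) hR'S hSR' main'
    -- `V < X`
    have hVR' : V ≤ preimageAlong (QuotientGroup.mk' (V.subgroupOf S))
        (𝒲.W (⊤ : Subgroup (↥S ⧸ V.subgroupOf S))) := ker_le_preimageAlong hE' _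
    have hWne := 𝒲.ne_bot (⊤ : Subgroup (↥S ⧸ V.subgroupOf S)) hS' htopne
    obtain ⟨y, hy1⟩ := (Subgroup.ne_bot_iff_exists_ne_one.mp hWne)
    obtain ⟨s, hs⟩ := QuotientGroup.mk'_surjective (V.subgroupOf S) (y : ↥S ⧸ V.subgroupOf S)
    have hsR' : (s : Ω) ∈ preimageAlong (QuotientGroup.mk' (V.subgroupOf S))
        (𝒲.W (⊤ : Subgroup (↥S ⧸ V.subgroupOf S))) := by
      refine mem_preimageAlong.mpr ⟨s.2, ?_⟩
      rw [hs]
      exact y.2
    have hsV : (s : Ω) ∉ V := by
      intro h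
      have := (mk'_ker_iff V s).mpr h
      rw [hs] at this
      apply hy1
      exact Subtype.ext this
    have hlt : V < preimageAlong (QuotientGroup.mk' (V.subgroupOf S))
        (𝒲.W (⊤ : Subgroup (↥S ⧸ V.subgroupOf S))) :=
      lt_of_le_of_ne hVR' (fun h => hsV (h ▸ hsR'))
    haveI : Finite ↥(preimageAlong (QuotientGroup.mk' (V.subgroupOf S))
        (𝒲.W (⊤ : Subgroup (↥S ⧸ V.subgroupOf S)))) := finite_of_le hR'S
    have hcardlt := card_lt_card_of_lt hlt
    have hXcard : Nat.card ↥(preimageAlong (QuotientGroup.mk' (V.subgroupOf S))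
        (𝒲.W (⊤ : Subgroup (↥S ⧸ V.subgroupOf S)))) ≤ Nat.card S :=
      card_le_card_of_le_of_finite hR'S
    by_cases hXtop : preimageAlong (QuotientGroup.mk' (V.subgroupOf S))
        (𝒲.W (⊤ : Subgroup (↥S ⧸ V.subgroupOf S))) = S
    · have h1 := focal_normSys_top_le hS F hF haut hR'S hSR' hXtop
      exact lt_of_le_of_lt (sup_le (hfoc.trans (sup_le_sup_right h1 V)) le_sup_right)
        (commutator_sup_lt hS hVS hSV hVne)
    · have hsat₃ := normSys_saturated hS F hF _ hR'S hSR'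
      have hn₃ := normSys_isNormal F _ hR'S hSR'
      have haut₃ : IsPGroup p ((normSys F _ hR'S hSR').autGroup S) := by
        have hle := autGroup_mono (normSys_le F _ hR'S hSR') (le_refl S)
        exact IsPGroup.of_injective haut (Subgroup.inclusion hle) (Subgroup.inclusion_injective hle)
      have h3 := IH (Nat.card S - Nat.card ↥(preimageAlong (QuotientGroup.mk' (V.subgroupOf S))
        (𝒲.W (⊤ : Subgroup (↥S ⧸ V.subgroupOf S))))) (by omega) _ _ hsat₃ hn₃ hXtop rfl haut₃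
      refine lt_of_le_of_lt (sup_le (hfoc.trans ?_) (hVR'.trans le_sup_right)) h3
      exact sup_le le_sup_left (hVR'.trans le_sup_right)

/-- the lower `K`-infinity functor, as a characteristic functor -/
noncomputable def kFun (p : ℕ) [Fact p.Prime] : CharFunctor.{u} p :=
  funOf p Cfsg.kInfLower (Cfsg.Agent.Lib.Helper13.isCharPFunctor_kInfLower p).1
    (Cfsg.Agent.Lib.Helper13.isCharPFunctor_kInfLower p).2

theorem transFun_kFun {p : ℕ} [Fact p.Prime] (hp : 5 ≤ p) : TransFun p (kFun.{u} p) := by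
  intro L _ _ T _
  have hW : (kFun.{u} p).W (T : Subgroup L) =
      Cfsg.inducedFunctor (G := L) Cfsg.kInfLower (T : Subgroup L) :=
    funOf_W p Cfsg.kInfLower _ _ _ T.isPGroup'
  rw [hW]
  have hft : Cfsg.Agent.Lib.Helper13.FT p {Cfsg.kInfLower} L :=
    Cfsg.Agent.Lib.Helper13.engel_ft (Cfsg.Agent.Lib.Helper13.isCharPFunctor_kInfLower p) _ _ rfl
      (fun Q _ _ _ => Cfsg.Agent.Lib.Helper13.engelHyp_kInfLower hp Q)
  have h1 := hft (T : Subgroup L) T.isPGroup' T.not_dvd_index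
  rw [Cfsg.Agent.Lib.Helper13.focD_singleton] at h1
  rw [Subgroup.map_subtype_commutator]
  refine le_trans (inf_le_inf_right _ ?_) (h1.trans inf_le_right)
  exact Cfsg.Agent.Lib.Helper1.pCore_le_sylow p T

/-- for `p ≥ 5`: if `Aut_F(S)` is a `p`-group and `S ≠ 1`, the focal subgroup is proper -/
theorem focal_lt [Finite S] {p : ℕ} [Fact p.Prime] (hp : 5 ≤ p) (hS : IsPGroup p S)
    (F : FusionSystem S) (hF : F.IsSaturated p) (hS1 : S ≠ ⊥)
    (haut : IsPGroup p (F.autGroup S)) : F.focalSubgroup < S := by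
  have h := focal_sup_lt (kFun.{u} p) (transFun_kFun hp) hS _ F ⊥ hF (isNormal_bot F)
    (fun h => hS1 h.symm) rfl haut
  rwa [sup_bot_eq] at h

end Cfsg.Agent.Lib.Helper27.KTr
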