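import Mathlib
import Cfsg.Agent.Lib.Helper27.MCXEXP
import Cfsg.Agent.Lib.Helper20.MCXQUOTcore
import Cfsg.Agent.Lib.Helper20.MCXTOPcore
import Cfsg.Agent.Lib.Helper16.MCXSUB
import Cfsg.Agent.S0113

/-!
# Project MCX: assembly.  In a `p`-group of maximal class every subgroup `H` satisfies
`|H : ℧₁(H)| ≤ p ^ p`.
-/

set_option autoImplicit false

namespace Cfsg.Agent.Lib.Helper27.MCX

open Cfsg.Agent.Lib.Helper18.PRL

universe u

/-- MCX-P2 (backup under another name) -/
theorem mcx27_two_case {G : Type u} [Group G] [Finite G] (C : Subgroup G) (hC : IsCyclic C)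
    (hidx : C.index = 2) (H : Subgroup G) :
    (Subgroup.closure {y : G | ∃ g ∈ H, y = g ^ 2}).relIndex H ≤ 2 ^ 2 := by
  set A : Subgroup G := Subgroup.closure {y : G | ∃ g ∈ H, y = g ^ 2} with hA
  have hAH : A ≤ H := by
    rw [hA, Subgroup.closure_le]
    rintro _ ⟨g, hg, rfl⟩
    exact H.pow_mem hg 2
  apply mcxsub_relIndex_le H A hAH
  have hCn : C.Normal := Subgroup.normal_of_index_eq_two hidx
  -- `E = H ⊓ C`
  set E : Subgroup G := H ⊓ C with hE
  have h1 : E.relIndex H ≤ 2 := by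
    rw [hE, Subgroup.inf_relIndex_left]
    have := Subgroup.relIndex_dvd_index_of_normal C H
    rw [hidx] at this
    exact Nat.le_of_dvd (by norm_num) this
  have h2 : E.relIndex H * Nat.card E = Nat.card H := mcxsub_relIndex_mul_card inf_le_left
  have hEc : IsCyclic E := Subgroup.isCyclic_of_le (inf_le_right : E ≤ C)
  obtain ⟨e, he⟩ := hEc.exists_generator
  have h3 : orderOf (e : G) = Nat.card E := by
    rw [Subgroup.orderOf_coe]
    exact orderOf_eq_card_of_forall_mem_zpowers he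
  have h4 : Subgroup.zpowers ((e : G) ^ 2) ≤ A := by
    rw [Subgroup.zpowers_le]
    apply Subgroup.subset_closure
    exact ⟨e, e.2.1, rfl⟩
  have h5 : orderOf ((e : G) ^ 2) ≤ Nat.card A := by
    rw [← Nat.card_zpowers]
    exact Subgroup.card_le_of_le h4
  have h6 : orderOf (e : G) ≤ 2 * orderOf ((e : G) ^ 2) := by
    rw [orderOf_pow' _ (by norm_num : (2 : ℕ) ≠ 0)]
    set o := orderOf (e : G)
    have hd : Nat.gcd o 2 ∣ o := Nat.gcd_dvd_left o 2
    have hd2 : Nat.gcd o 2 ≤ 2 := Nat.le_of_dvd (by norm_num) (Nat.gcd_dvd_right o 2)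
    have h7 : o / Nat.gcd o 2 * Nat.gcd o 2 = o := Nat.div_mul_cancel hd
    calc o = o / Nat.gcd o 2 * Nat.gcd o 2 := h7.symm
      _ ≤ o / Nat.gcd o 2 * 2 := Nat.mul_le_mul_left _ hd2
      _ = 2 * (o / Nat.gcd o 2) := mul_comm _ _
  have h8 : Nat.card E ≤ 2 * Nat.card A := by
    rw [← h3]; omega
  calc Nat.card H = E.relIndex H * Nat.card E := h2.symm
    _ ≤ 2 * (2 * Nat.card A) := Nat.mul_le_mul h1 h8
    _ = 2 ^ 2 * Nat.card A := by ring

section mc
variable {p : ℕ} [Fact p.Prime] {G : Type u} [Group G] [Finite G] {n : ℕ}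

/-- MCX-QUOT (wrapper of helper20's core) -/
theorem mcx27_exists_pow_notMem (hp : p ≠ 2) (h : MC p G n) (hn : p + 1 ≤ n) :
    ∃ g : G, g ^ p ∉ Z G (n - p - 1) :=
  mcxquot_core (fun _ _ _ hK => exists_pow_ne_one hp hK) n G h hn

/-- MCX-TOP (wrapper of helper20's core) -/
theorem mcx27_top_case (hp : p ≠ 2) (h : MC p G n) (hn : p + 1 ≤ n) :
    (Subgroup.closure {y : G | ∃ g ∈ (⊤ : Subgroup G), y = g ^ p}).relIndex ⊤ ≤ p ^ p :=
  mcxtop_core h hn (mcx27_exists_pow_notMem hp h hn)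

end mc

/-- MCX-MAIN (= S4144) -/
theorem main_bound {p : ℕ} [Fact p.Prime] {G : Type u} [Group G] [Finite G] (n : ℕ) (hn : 2 ≤ n)
    (hX : Nat.card G = p ^ n) (hmax : Group.nilpotencyClass G = n - 1) (H : Subgroup G) :
    (Subgroup.closure {y : G | ∃ g ∈ H, y = g ^ p}).relIndex H ≤ p ^ p := by
  have hpp : p.Prime := Fact.out
  by_cases hnp : n ≤ p
  · -- trivial bound
    have h1 : (Subgroup.closure {y : G | ∃ g ∈ H, y = g ^ p}).relIndex H ≤ Nat.card H := by
      rw [Subgroup.relIndex]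
      exact Nat.le_of_dvd Nat.card_pos (Subgroup.index_dvd_card _)
    have h2 : Nat.card H ≤ Nat.card G :=
      Nat.le_of_dvd Nat.card_pos (Subgroup.card_subgroup_dvd_card H)
    have h3 : p ^ n ≤ p ^ p := Nat.pow_le_pow_right hpp.pos hnp
    omega
  · push Not at hnp
    by_cases hp2 : p = 2
    · subst hp2
      obtain ⟨C, hC, hCi⟩ := Cfsg.Agent.S0113.result n (by omega) hX hmax
      exact mcx27_two_case C hC hCi H
    · have hp3 : 3 ≤ p := by
        have := hpp.two_le
        omega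
      have hMC : MC p G n := ⟨hX, hmax⟩
      by_cases hH : H = ⊤
      · subst hH
        exact mcx27_top_case hp2 hMC (by omega)
      · exact sub_case hp2 hMC (by omega) H hH

end Cfsg.Agent.Lib.Helper27.MCX
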