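import Mathlib
import Cfsg.Agent.Lib.helper2.MIDefs

/-!
# Project MI (S2140), piece MI-W : structure of `W`.
-/

set_option autoImplicit false
set_option linter.unusedVariables false

namespace Cfsg.Agent.Lib.Helper27.MI

open Matrix
open Cfsg.Agent.Lib.helper2.MI

variable {n : ℕ} {F : Type*} [Field F]

/-- a functional vanishing on a subspace and taking value `1` at a vector outside. -/
theorem exists_sep_dot (S : Submodule F (Fin n → F)) (z : Fin n → F) (hz : z ∉ S) :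
    ∃ ψ : Fin n → F, (∀ s ∈ S, ψ ⬝ᵥ s = 0) ∧ ψ ⬝ᵥ z = 1 := by
  have h := (Subspace.forall_mem_dualAnnihilator_apply_eq_zero_iff S z).not.mpr hz
  push Not at h
  obtain ⟨φ, hφ, hφz⟩ := h
  have key : ∀ x : Fin n → F, φ x = (fun i => φ (Pi.single i 1)) ⬝ᵥ x := by
    intro x
    have hx : x = ∑ i, x i • (Pi.single i (1 : F) : Fin n → F) := by
      ext j
      simp [Finset.sum_apply, Pi.single_apply]
    conv_lhs => rw [hx]
    rw [map_sum]
    simp [dotProduct, mul_comm]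
  refine ⟨(φ z)⁻¹ • (fun i => φ (Pi.single i 1)), ?_, ?_⟩
  · intro s hs
    rw [smul_dotProduct, ← key, (Submodule.mem_dualAnnihilator φ).mp hφ s hs, smul_zero]
  · rw [smul_dotProduct, ← key, smul_eq_mul, inv_mul_cancel₀ hφz]

theorem W_dichotomy (hn : 3 ≤ n) (v : Fin n → F) (hv : v ≠ 0)
    (W : AddSubgroup (Fin n → F)) (hvW : ∀ c : F, c • v ∈ W)
    (hstab : ∀ y ∈ W, (¬ ∃ c : F, y = c • v) → ∀ g : SpecialLinearGroup (Fin n) F,
      g.1 *ᵥ v = v → g.1 *ᵥ y = y → W.map (colAct g) = W)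
    (y₀ : Fin n → F) (hy₀ : y₀ ∈ W) (hy₀v : ¬ ∃ c : F, y₀ = c • v) :
    (∀ z ∈ W, ∃ a b : F, z = a • v + b • y₀) ∨ (∀ z : Fin n → F, z ∈ W) := by
  by_cases hall : ∀ z ∈ W, ∃ a b : F, z = a • v + b • y₀
  · exact Or.inl hall
  right
  push Not at hall
  obtain ⟨z, hzW, hz⟩ := hall
  have hmove : ∀ y ∈ W, (¬ ∃ c : F, y = c • v) → ∀ g : SpecialLinearGroup (Fin n) F,
      g.1 *ᵥ v = v → g.1 *ᵥ y = y → ∀ w ∈ W, g.1 *ᵥ w ∈ W := by
    intro y hy hyv g hgv hgy w hw
    have h1 := hstab y hy hyv g hgv hgy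
    rw [← h1]
    exact ⟨w, hw, rfl⟩
  have claimA : ∀ y ∈ W, (¬ ∃ c : F, y = c • v) → ∀ z' ∈ W,
      z' ∉ Submodule.span F ({v, y} : Set (Fin n → F)) → ∀ c : F, c • y ∈ W := by
    intro y hy hyv z' hz' hz'S c
    obtain ⟨ψ, hψS, hψz⟩ := exists_sep_dot (Submodule.span F ({v, y} : Set (Fin n → F))) z' hz'S
    have hψv : ψ ⬝ᵥ v = 0 := hψS v (Submodule.subset_span (by simp))
    have hψy : ψ ⬝ᵥ y = 0 := hψS y (Submodule.subset_span (by simp))
    have hψcy : ψ ⬝ᵥ (c • y) = 0 := by rw [dotProduct_smul, hψy, smul_zero]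
    have h1 := hmove y hy hyv (tv (c • y) ψ hψcy)
      (by rw [tv_val, tvM_mulVec, hψv, zero_smul, add_zero])
      (by rw [tv_val, tvM_mulVec, hψy, zero_smul, add_zero]) z' hz'
    rw [tv_val, tvM_mulVec, hψz, one_smul] at h1
    have h2 := W.sub_mem h1 hz'
    simpa using h2
  -- `z` is outside the span of `v, y₀`
  have hzS : z ∉ Submodule.span F ({v, y₀} : Set (Fin n → F)) := by
    rw [Submodule.mem_span_pair]
    rintro ⟨a, b, hab⟩
    exact hz a b hab.symm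
  have hzv : ¬ ∃ c : F, z = c • v := by
    rintro ⟨c, hc⟩
    exact hz c 0 (by rw [hc, zero_smul, add_zero])
  have hy₀S : y₀ ∉ Submodule.span F ({v, z} : Set (Fin n → F)) := by
    rw [Submodule.mem_span_pair]
    rintro ⟨a, b, hab⟩
    by_cases hb : b = 0
    · apply hy₀v
      refine ⟨a, ?_⟩
      rw [← hab, hb, zero_smul, add_zero]
    · apply hz (-(b⁻¹ * a)) b⁻¹
      rw [← hab, smul_add, smul_smul, smul_smul, inv_mul_cancel₀ hb, one_smul, neg_smul]
      abel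
  have hy₀all : ∀ c : F, c • y₀ ∈ W := claimA y₀ hy₀ hy₀v z hzW hzS
  have hzall : ∀ c : F, c • z ∈ W := claimA z hzW hzv y₀ hy₀ hy₀S
  intro x
  by_cases hx : x ∈ Submodule.span F ({v, y₀, z} : Set (Fin n → F))
  · rw [Submodule.mem_span_triple] at hx
    obtain ⟨a, b, c, habc⟩ := hx
    rw [← habc]
    exact W.add_mem (W.add_mem (hvW a) (hy₀all b)) (hzall c)
  · have hzS' : z ∉ Submodule.span F ({v, y₀, x} : Set (Fin n → F)) := by
      rw [Submodule.mem_span_triple]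
      rintro ⟨a, b, c, habc⟩
      by_cases hc : c = 0
      · apply hz a b
        rw [← habc, hc, zero_smul, add_zero]
      · apply hx
        rw [Submodule.mem_span_triple]
        refine ⟨-(c⁻¹ * a), -(c⁻¹ * b), c⁻¹, ?_⟩
        rw [← habc, smul_add, smul_add, smul_smul, smul_smul, smul_smul, inv_mul_cancel₀ hc,
          one_smul, neg_smul, neg_smul]
        abel
    obtain ⟨ψ, hψS, hψz⟩ :=
      exists_sep_dot (Submodule.span F ({v, y₀, x} : Set (Fin n → F))) z hzS'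
    have hψv : ψ ⬝ᵥ v = 0 := hψS v (Submodule.subset_span (by simp))
    have hψy : ψ ⬝ᵥ y₀ = 0 := hψS y₀ (Submodule.subset_span (by simp))
    have hψx : ψ ⬝ᵥ x = 0 := hψS x (Submodule.subset_span (by simp))
    have h1 := hmove y₀ hy₀ hy₀v (tv x ψ hψx)
      (by rw [tv_val, tvM_mulVec, hψv, zero_smul, add_zero])
      (by rw [tv_val, tvM_mulVec, hψy, zero_smul, add_zero]) z hzW
    rw [tv_val, tvM_mulVec, hψz, one_smul] at h1
    have h2 := W.sub_mem h1 hzW
    simpa using h2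

end Cfsg.Agent.Lib.Helper27.MI
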