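import Mathlib

set_option autoImplicit false

namespace Cfsg.Agent.Lib.Helper27.MSS

open QuadraticAlgebra

section ToMat

variable (K : Type*) [CommRing K]

/-- `x + y i ↦ [[x, -y], [y, x]]` -/
def msstor_toMat : QuadraticAlgebra K (-1) 0 →+* Matrix (Fin 2) (Fin 2) K where
  toFun z := !![z.re, -z.im; z.im, z.re]
  map_one' := by
    ext i j
    fin_cases i <;> fin_cases j <;> simp
  map_mul' z w := by
    ext i j
    fin_cases i <;> fin_cases j <;> simp [Matrix.mul_apply, Fin.sum_univ_two] <;> ring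
  map_zero' := by
    ext i j
    fin_cases i <;> fin_cases j <;> simp
  map_add' z w := by
    ext i j
    fin_cases i <;> fin_cases j <;> simp <;> ring

theorem msstor_toMat_apply (z : QuadraticAlgebra K (-1) 0) :
    msstor_toMat K z = !![z.re, -z.im; z.im, z.re] := rfl

theorem msstor_toMat_injective : Function.Injective (msstor_toMat K) := by
  intro z w h
  rw [msstor_toMat_apply, msstor_toMat_apply] at h
  have h1 := congrFun (congrFun h 0) 0
  have h2 := congrFun (congrFun h 1) 0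
  simp at h1 h2
  exact QuadraticAlgebra.ext h1 h2

theorem msstor_det_toMat (z : QuadraticAlgebra K (-1) 0) :
    (msstor_toMat K z).det = QuadraticAlgebra.norm z := by
  rw [msstor_toMat_apply, Matrix.det_fin_two_of, QuadraticAlgebra.norm_def]
  ring

/-- the matrix `diag(1, -1)` -/
def msstor_S0 : Matrix (Fin 2) (Fin 2) K := !![1, 0; 0, -1]

theorem msstor_S0_mul_S0 : msstor_S0 K * msstor_S0 K = 1 := by
  ext i j
  fin_cases i <;> fin_cases j <;> simp [msstor_S0, Matrix.mul_apply, Fin.sum_univ_two]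

theorem msstor_toMat_star (z : QuadraticAlgebra K (-1) 0) :
    msstor_S0 K * msstor_toMat K z * msstor_S0 K = msstor_toMat K (star z) := by
  rw [msstor_toMat_apply, msstor_toMat_apply]
  ext i j
  fin_cases i <;> fin_cases j <;> simp [msstor_S0, Matrix.mul_apply, Fin.sum_univ_two]

end ToMat

section Field

variable (q : ℕ) [hqp : Fact q.Prime]

theorem msstor_nonsq (h4 : q % 4 = 3) : ∀ x : ZMod q, x ^ 2 ≠ -1 := by
  intro x hx
  have h1 : IsSquare (-1 : ZMod q) := ⟨x, by rw [← hx, pow_two]⟩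
  rw [ZMod.exists_sq_eq_neg_one_iff] at h1
  exact h1 h4

theorem msstor_fact (h4 : q % 4 = 3) : Fact (∀ r : ZMod q, r ^ 2 ≠ -1 + 0 * r) :=
  ⟨fun r hr => msstor_nonsq q h4 r (by rw [hr]; ring)⟩

theorem msstor_card : Nat.card (QuadraticAlgebra (ZMod q) (-1) 0) = q ^ 2 := by
  rw [Nat.card_congr (QuadraticAlgebra.equivProd (-1 : ZMod q) 0), Nat.card_prod, Nat.card_zmod,
    pow_two]

instance msstor_finite : Finite (QuadraticAlgebra (ZMod q) (-1) 0) :=
  Finite.of_equiv _ (QuadraticAlgebra.equivProd (-1 : ZMod q) 0).symm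

instance msstor_charP : CharP (QuadraticAlgebra (ZMod q) (-1) 0) q :=
  charP_of_injective_algebraMap (QuadraticAlgebra.algebraMap_injective) q

theorem msstor_omega_sq : (ω : QuadraticAlgebra (ZMod q) (-1) 0) * ω = -1 := by
  ext <;> simp

theorem msstor_omega_pow (h4 : q % 4 = 3) : (ω : QuadraticAlgebra (ZMod q) (-1) 0) ^ q = -ω := by
  obtain ⟨t, ht⟩ : ∃ t, q = 2 * (2 * t + 1) + 1 := ⟨q / 4, by omega⟩
  have h1 : ∀ n : ℕ, (ω : QuadraticAlgebra (ZMod q) (-1) 0) ^ (2 * (2 * n + 1) + 1) = -ω := by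
    intro n
    rw [pow_succ, pow_mul, pow_two, msstor_omega_sq, Odd.neg_one_pow ⟨n, rfl⟩]
    simp
  have h2 := h1 t
  rw [← ht] at h2
  exact h2

theorem msstor_frob (h4 : q % 4 = 3) (z : QuadraticAlgebra (ZMod q) (-1) 0) :
    z ^ q = star z := by
  have hz : z = algebraMap (ZMod q) _ z.re + algebraMap (ZMod q) _ z.im * ω := by
    ext <;> simp
  conv_lhs => rw [hz]
  rw [add_pow_char, mul_pow, ← map_pow, ← map_pow, ZMod.pow_card, ZMod.pow_card,
    msstor_omega_pow q h4]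
  ext <;> simp

end Field


section Main

variable (q k : ℕ) [hqp : Fact q.Prime]

theorem msstor_arith (hk : 3 ≤ k) (hq : q % 2 ^ k = 2 ^ (k - 1) - 1) :
    q % 4 = 3 ∧ ∃ t : ℕ, q + 1 = 2 ^ (k - 1) * (2 * t + 1) := by
  obtain ⟨j, rfl⟩ : ∃ j, k = j + 3 := ⟨k - 3, by omega⟩
  have e1 : j + 3 - 1 = j + 2 := by omega
  rw [e1] at hq ⊢
  obtain ⟨m, hm⟩ : ∃ m, q = 2 ^ (j + 3) * m + (2 ^ (j + 2) - 1) :=
    ⟨q / 2 ^ (j + 3), by rw [← hq]; exact (Nat.div_add_mod q (2 ^ (j + 3))).symm⟩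
  have hpos : 1 ≤ 2 ^ j := Nat.one_le_two_pow
  have e2 : 2 ^ (j + 3) * m = 8 * (2 ^ j * m) := by rw [pow_add]; ring
  have e3 : 2 ^ (j + 2) = 4 * 2 ^ j := by rw [pow_add]; ring
  rw [e2, e3] at hm
  have e4 : 2 ^ (j + 2) * (2 * m + 1) = 8 * (2 ^ j * m) + 4 * 2 ^ j := by rw [pow_add]; ring
  refine ⟨?_, m, ?_⟩
  · generalize 2 ^ j * m = X at hm
    omega
  · rw [e4]
    generalize 2 ^ j * m = X at hm
    omega

/-- TOR -/
theorem exists_torus (hk : 3 ≤ k) (hq : q % 2 ^ k = 2 ^ (k - 1) - 1) :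
    ∃ r s : GL (Fin 2) (ZMod q), orderOf r = 2 ^ k ∧ s ^ 2 = 1 ∧ s * r * s⁻¹ = r ^ q ∧
      r ^ 2 ^ (k - 1) = -1 ∧ Matrix.GeneralLinearGroup.det s = -1 ∧
      Matrix.GeneralLinearGroup.det r = -1 := by
  obtain ⟨h4, t, ht⟩ := msstor_arith q k hk hq
  have := msstor_fact q h4
  have hq3 : 3 ≤ q := by omega
  have hk1 : k = (k - 1) + 1 := by omega
  -- the unit group of the field
  have hcardU : Nat.card (QuadraticAlgebra (ZMod q) (-1) 0)ˣ = q ^ 2 - 1 := by
    rw [Nat.card_units, msstor_card]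
  have hdvd : 2 ^ k ∣ q ^ 2 - 1 := by
    have h1 : q ^ 2 - 1 = (q + 1) * (q - 1) := by
      have : q ^ 2 = (q + 1) * (q - 1) + 1 := by
        obtain ⟨n, rfl⟩ : ∃ n, q = n + 1 := ⟨q - 1, by omega⟩
        simp only [Nat.add_sub_cancel]
        ring
      omega
    obtain ⟨m, hm⟩ : ∃ m, q - 1 = 2 * m := ⟨(q - 1) / 2, by omega⟩
    rw [h1, ht, hm, hk1, pow_succ]
    exact ⟨(2 * t + 1) * m, by simp only [Nat.add_sub_cancel]; ring⟩
  obtain ⟨g, hg⟩ := IsCyclic.exists_ofOrder_eq_natCard (α := (QuadraticAlgebra (ZMod q) (-1) 0)ˣ)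
  rw [hcardU] at hg
  have hpos : 0 < q ^ 2 - 1 := by
    have : 9 ≤ q ^ 2 := by nlinarith
    omega
  set n := (q ^ 2 - 1) / 2 ^ k with hn
  have hn0 : n ≠ 0 := by
    rw [hn]
    intro h0
    rw [Nat.div_eq_zero_iff] at h0
    rcases h0 with h0 | h0
    · exact absurd h0 (by positivity)
    · exact absurd (Nat.le_of_dvd hpos hdvd) (by omega)
  have hndvd : n ∣ q ^ 2 - 1 := Nat.div_dvd_of_dvd hdvd
  set ρ := g ^ n with hρ
  have hordρ : orderOf ρ = 2 ^ k := by
    rw [hρ, orderOf_pow_of_dvd hn0 (by rw [hg]; exact hndvd), hg, hn, Nat.div_div_self hdvd hpos.ne']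
  -- ρ ^ 2 ^ (k - 1) = -1
  have hρz : ρ ^ 2 ^ (k - 1) = -1 := by
    have h1 : (ρ ^ 2 ^ (k - 1)) * (ρ ^ 2 ^ (k - 1)) = 1 := by
      rw [← pow_add, ← two_mul, ← pow_succ', ← hk1, ← hordρ, pow_orderOf_eq_one]
    have h2 : ρ ^ 2 ^ (k - 1) ≠ 1 := by
      intro h
      have h3 := orderOf_dvd_of_pow_eq_one h
      rw [hordρ] at h3
      have h4' := Nat.le_of_dvd (by positivity) h3
      have : 2 ^ (k - 1) < 2 ^ k := Nat.pow_lt_pow_right (by norm_num) (by omega)
      omega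
    have h5 : ((ρ ^ 2 ^ (k - 1) : (QuadraticAlgebra (ZMod q) (-1) 0)ˣ) :
        QuadraticAlgebra (ZMod q) (-1) 0) *
        ((ρ ^ 2 ^ (k - 1) : (QuadraticAlgebra (ZMod q) (-1) 0)ˣ) :
        QuadraticAlgebra (ZMod q) (-1) 0) = 1 := by
      rw [← Units.val_mul, h1, Units.val_one]
    rcases mul_self_eq_one_iff.mp h5 with h6 | h6
    · exact absurd (Units.ext h6) h2
    · exact Units.ext (by rw [h6]; simp)
  -- the matrices
  let f : (QuadraticAlgebra (ZMod q) (-1) 0)ˣ →* GL (Fin 2) (ZMod q) :=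
    Units.map (msstor_toMat (ZMod q)).toMonoidHom
  have hfinj : Function.Injective f :=
    Units.map_injective (msstor_toMat_injective (ZMod q))
  have hfval : ∀ z : (QuadraticAlgebra (ZMod q) (-1) 0)ˣ,
      ((f z : GL (Fin 2) (ZMod q)) : Matrix (Fin 2) (Fin 2) (ZMod q)) =
        msstor_toMat (ZMod q) (z : QuadraticAlgebra (ZMod q) (-1) 0) := fun z => rfl
  let s : GL (Fin 2) (ZMod q) :=
    ⟨msstor_S0 (ZMod q), msstor_S0 (ZMod q), msstor_S0_mul_S0 _, msstor_S0_mul_S0 _⟩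
  have hs2 : s ^ 2 = 1 := by
    apply Units.ext
    rw [pow_two]
    exact msstor_S0_mul_S0 _
  have hsinv : s⁻¹ = s := by
    rw [inv_eq_iff_mul_eq_one, ← pow_two, hs2]
  refine ⟨f ρ, s, ?_, hs2, ?_, ?_, ?_, ?_⟩
  · rw [orderOf_injective f hfinj, hordρ]
  · rw [hsinv]
    apply Units.ext
    rw [Units.val_mul, Units.val_mul, Units.val_pow_eq_pow_val, hfval]
    show msstor_S0 (ZMod q) * _ * msstor_S0 (ZMod q) = _
    rw [msstor_toMat_star, ← msstor_frob q h4, map_pow]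
  · rw [← map_pow, hρz]
    apply Units.ext
    rw [hfval]
    simp
  · apply Units.ext
    rw [Matrix.GeneralLinearGroup.val_det_apply]
    show (msstor_S0 (ZMod q)).det = _
    rw [msstor_S0, Matrix.det_fin_two_of]
    simp
  · apply Units.ext
    rw [Matrix.GeneralLinearGroup.val_det_apply, hfval, msstor_det_toMat]
    apply QuadraticAlgebra.algebraMap_injective (a := (-1 : ZMod q)) (b := 0)
    rw [QuadraticAlgebra.algebraMap_norm_eq_mul_star, ← msstor_frob q h4, ← pow_succ', ht,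
      ← Units.val_pow_eq_pow_val, pow_mul, hρz]
    simp [Odd.neg_one_pow ⟨t, rfl⟩]

end Main

end Cfsg.Agent.Lib.Helper27.MSS
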