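import Mathlib
import Cfsg.Agent.Lib.Helper27.MSS.Base
import Cfsg.Agent.Lib.Helper27.MSSTOR
import Cfsg.Agent.Lib.Helper22.MSSTOR1
import Cfsg.Agent.Lib.Helper29.MSSFUS

set_option autoImplicit false

namespace Cfsg.Agent.Lib.Helper27.MSS

/-- DATA -/
theorem exists_glData (q k : ℕ) [Fact q.Prime] (hk : 3 ≤ k)
    (hq : q % 2 ^ k = 2 ^ (k - 1) - 1) : Nonempty (GLData q k) := by
  obtain ⟨h4, t, ht⟩ := msstor_arith q k hk hq
  obtain ⟨r, s, hr, hs, hrs, hz, hds, hdr⟩ := exists_torus q k hk hq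
  have hns := neg_one_nonsquare q h4
  have hk1 : k = (k - 1) + 1 := by omega
  have hk2 : k - 1 = (k - 2) + 1 := by omega
  have hpos : 1 ≤ 2 ^ (k - 1) := Nat.one_le_two_pow
  -- `r ^ q = r ^ (2 ^ (k - 1) - 1)`
  have hrq : r ^ q = r ^ (2 ^ (k - 1) - 1) := by
    rw [pow_eq_pow_iff_modEq, hr]
    show q % 2 ^ k = (2 ^ (k - 1) - 1) % 2 ^ k
    rw [hq, Nat.mod_eq_of_lt]
    have : 2 ^ (k - 1) < 2 ^ k := Nat.pow_lt_pow_right (by norm_num) (by omega)
    omega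
  have hrs' : s * r * s⁻¹ = r ^ (2 ^ (k - 1) - 1) := by rw [hrs, hrq]
  have hsinv : s⁻¹ = s := by rw [inv_eq_iff_mul_eq_one, ← pow_two, hs]
  -- `2 ≠ 0`
  have h2 : (2 : ZMod q) ≠ 0 := by
    intro h
    have h' : ((2 : ℕ) : ZMod q) = 0 := by exact_mod_cast h
    rw [ZMod.natCast_eq_zero_iff] at h'
    have := Nat.le_of_dvd (by norm_num) h'
    have hq2 : 2 ≤ q := (Fact.out : q.Prime).two_le
    have : q = 2 := by omega
    omega
  obtain ⟨u, hu⟩ : ∃ u, u = r ^ 2 ^ (k - 2) := ⟨_, rfl⟩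
  obtain ⟨w, hw⟩ : ∃ w, w = r * s := ⟨_, rfl⟩
  have hu2 : u ^ 2 = -1 := by
    rw [hu, ← pow_mul, ← pow_succ, ← hk2, hz]
  have hw2 : w ^ 2 = -1 := by
    have h1 : w ^ 2 = r * (s * r * s⁻¹) * s ^ 2 := by
      rw [hw, pow_two, pow_two]
      group
    rw [h1, hrs', hs, mul_one, ← pow_succ', Nat.sub_add_cancel hpos, hz]
  -- conjugation of powers
  have hconj : ∀ m : ℕ, s * r ^ m * s⁻¹ = (r ^ m) ^ q := by
    intro m
    have : s * r ^ m * s⁻¹ = (s * r * s⁻¹) ^ m := by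
      rw [conj_pow]
    rw [this, hrs, ← pow_mul, ← pow_mul, mul_comm]
  have hu4 : u ^ 4 = 1 := by
    have : u ^ 4 = (u ^ 2) ^ 2 := by rw [← pow_mul]
    rw [this, hu2]
    simp
  have huq : u ^ q = -u := by
    obtain ⟨n, hn⟩ : ∃ n, q = 4 * n + 3 := ⟨q / 4, by omega⟩
    have h1 : ∀ m : ℕ, u ^ (4 * m + 3) = -u := by
      intro m
      rw [pow_add, pow_mul, hu4, one_pow, one_mul]
      have : u ^ 3 = u ^ 2 * u := by rw [pow_succ]
      rw [this, hu2]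
      simp
    have h3 := h1 n
    rw [← hn] at h3
    exact h3
  have huw : w * u = -(u * w) := by
    have h1 : w * u * w⁻¹ = -u := by
      have : w * u * w⁻¹ = r * (s * u * s⁻¹) * r⁻¹ := by
        rw [hw]
        group
      rw [this, hu, hconj, ← hu, huq]
      have hcomm : r * u = u * r := by
        rw [hu, ← pow_succ', ← pow_succ]
      rw [mul_neg, neg_mul, hcomm, mul_assoc, mul_inv_cancel, mul_one]
    have h2' : w * u = (w * u * w⁻¹) * w := by group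
    rw [h2', h1, neg_mul]
  obtain ⟨g, hg1, hg2⟩ := exists_fusing h2 hns u w hu2 hw2 huw
  rw [hu, hw] at hg2
  exact ⟨⟨r, s, g, hr, hs, hrs', hz, hds, hdr, hg1, hg2⟩⟩

end Cfsg.Agent.Lib.Helper27.MSS
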