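import Cfsg.Agent.Lib.Helper27.MSSMSDcore
import Cfsg.Agent.Lib.Helper11.MSSQDU

/-!
Project MSS, piece MSD: `badModel_qd` (verbatim).
-/

set_option autoImplicit false

namespace Cfsg.Agent.Lib.Helper27.MSS

/-- MSD -/
theorem badModel_qd {X : Type*} [Group X] (h : Cfsg.IsQuasiDihedral X) : HasBadModel 2 X :=
  mssmsd_core h (fun _ _ hY hc => qd_unique h hY hc)

end Cfsg.Agent.Lib.Helper27.MSS
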