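import Mathlib
import Cfsg.Agent.Lib.Helper27.MSS.Base
import Cfsg.Agent.Lib.Helper22.MSSNT
import Cfsg.Agent.Lib.Helper27.MSSDATA
import Cfsg.Agent.Lib.Helper12.MSSCARD1
import Cfsg.Agent.Lib.Helper29.MSSQDTA
import Cfsg.Agent.Lib.Helper29.MSSQDTB
import Cfsg.Agent.Lib.Helper19.MSSQDTC
import Cfsg.Agent.Lib.Helper19.MSSSYLcore

/-!
Project MSS, piece MSD (core): `badModel_qd` with the uniqueness of quasi-dihedral groups (QDU)
as a hypothesis.
-/

set_option autoImplicit false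

namespace Cfsg.Agent.Lib.Helper27.MSS

open Cfsg

theorem mssmsd_core {X : Type*} [Group X] (h : Cfsg.IsQuasiDihedral X)
    (huniq : ∀ (Y : Type) [Group Y], Cfsg.IsQuasiDihedral Y → Nat.card X = Nat.card Y →
      Nonempty (X ≃* Y)) : HasBadModel 2 X := by
  have h' := h
  obtain ⟨k, hk, hcard, -⟩ := h'
  obtain ⟨q, hqp, hq⟩ := exists_prime_mod k hk
  have : Fact q.Prime := ⟨hqp⟩
  obtain ⟨D⟩ := exists_glData q k hk hq
  have hc := qdt_card hk D.hr D.hs D.hrs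
  obtain ⟨T, hT⟩ := msssyl_core q k D (card_gl_two q k hk hq) hc
  have hk2 : k - 2 = (k - 3) + 1 := by omega
  have hQD := qdt_isQD hk D.hr D.hs D.hrs
  obtain ⟨e⟩ := huniq _ hQD (by rw [hcard, hc])
  have hr : D.r ∈ Subgroup.closure {D.r, D.s} := Subgroup.subset_closure (by simp)
  have hs : D.s ∈ Subgroup.closure {D.r, D.s} := Subgroup.subset_closure (by simp)
  refine ⟨GL (Fin 2) (ZMod q), inferInstance, inferInstance, T, D.r ^ 2 ^ (k - 2),
    D.r ^ 2 ^ (k - 2) * (D.r * D.s), D.g, ⟨e.trans (MulEquiv.subgroupCongr hT.symm)⟩, ?_, ?_, D.hg,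
    ⟨D.r ^ 2 ^ (k - 3), ?_, ?_⟩, ?_⟩
  · rw [hT]
    exact Subgroup.pow_mem _ hr _
  · rw [hT]
    exact Subgroup.mul_mem _ (Subgroup.pow_mem _ hr _) (Subgroup.mul_mem _ hr hs)
  · rw [hT]
    exact Subgroup.pow_mem _ hr _
  · rw [← pow_mul, hk2, pow_succ]
  · intro y hy hyb
    rw [hT] at hy
    have h1 := qdt_sq hk D.hr D.hs D.hrs y hy
    rw [hyb] at h1
    apply qdt_not_mem hk D.hr D.hrs
    have h2 : D.s = D.r⁻¹ * ((D.r ^ 2 ^ (k - 2))⁻¹ * (D.r ^ 2 ^ (k - 2) * (D.r * D.s))) := by group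
    rw [h2]
    exact Subgroup.mul_mem _ (Subgroup.inv_mem _ (Subgroup.mem_zpowers _))
      (Subgroup.mul_mem _ (Subgroup.inv_mem _ (Subgroup.pow_mem _ (Subgroup.mem_zpowers _) _)) h1)

end Cfsg.Agent.Lib.Helper27.MSS
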