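import Mathlib
import Cfsg.Agent.Lib.Helper20.Marg.Defs

/-!
# Piece (C) of the Marggraf project (S3620): from the primitive case to the quasiprimitive case
-/

set_option autoImplicit false

open MulAction

universe u v w

namespace Cfsg.Agent.Lib.Helper27.MargC

open Cfsg.Agent.Lib.Helper20.Marg

/-- an even permutation moving at most two points is trivial -/
theorem eq_one_of_sign_of_card_le {X : Type*} [Fintype X] [DecidableEq X] (σ : Equiv.Perm X)
    (hs : Equiv.Perm.sign σ = 1) (hc : σ.support.card ≤ 2) : σ = 1 := by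
  have h0 : σ.support.card = 0 ∨ σ.support.card = 1 ∨ σ.support.card = 2 := by omega
  rcases h0 with h0 | h0 | h0
  · exact Equiv.Perm.card_support_eq_zero.1 h0
  · exact absurd h0 (Equiv.Perm.card_support_ne_one σ)
  · have := (Equiv.Perm.card_support_eq_two.1 h0).sign_eq
    rw [hs] at this
    exact absurd this (by decide)

section core

variable {G : Type v} [Group G] {Ω : Type u} [MulAction G Ω] [Fintype Ω]
  {X : Type w} [MulAction G X] [Fintype X]
  (hqp : ∀ N : Subgroup G, N.Normal → N ≠ ⊥ → MulAction.IsPretransitive ↥N Ω)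
  (φ : Ω → X) (hφ : ∀ (g : G) (ω : Ω), φ (g • ω) = g • φ ω) (hφs : Function.Surjective φ)
  (Γ : Set Ω)
  (hJ : ∀ x ∈ Γ, ∀ y ∈ Γ, ∃ g : G, (∀ z, z ∉ Γ → g • z = z) ∧ g • x = y)
  (hΓ1 : 1 < Γ.ncard)
  (hXn : Nontrivial X)

include hqp hφ hφs hJ hΓ1 hXn

/-- the pointwise stabilizer of the complement of `Γ` does not act trivially on `X` -/
theorem not_trivial_on_X
    (h : ∀ g : G, (∀ z, z ∉ Γ → g • z = z) → ∀ c : X, g • c = c) : False := by
  obtain ⟨x, y, hx, hy, hxy⟩ := (Set.one_lt_ncard_iff (Set.toFinite Γ)).1 hΓ1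
  obtain ⟨g, hg, hgx⟩ := hJ x hx y hy
  have hg1 : g ≠ 1 := by
    rintro rfl
    rw [one_smul] at hgx
    exact hxy hgx
  let N₀ : Subgroup G := (MulAction.toPermHom G X).ker
  have hgN : g ∈ N₀ := by
    rw [MonoidHom.mem_ker]
    ext c
    simp only [MulAction.toPermHom_apply, MulAction.toPerm_apply, Equiv.Perm.coe_one, id_eq]
    exact h g hg c
  have hN0 : N₀ ≠ ⊥ := by
    intro hb
    rw [hb, Subgroup.mem_bot] at hgN
    exact hg1 hgN
  have htr := hqp N₀ (MonoidHom.normal_ker _) hN0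
  obtain ⟨c₁, c₂, hc⟩ := hXn
  obtain ⟨ω₁, rfl⟩ := hφs c₁
  obtain ⟨ω₂, rfl⟩ := hφs c₂
  obtain ⟨n, hn⟩ := htr.exists_smul_eq ω₁ ω₂
  apply hc
  have h1 : (n : G) • φ ω₁ = φ ω₁ := by
    have := n.2
    rw [MonoidHom.mem_ker] at this
    have h2 := congrArg (fun σ : Equiv.Perm X => σ (φ ω₁)) this
    simpa using h2
  have h3 : (n : G) • ω₁ = ω₂ := hn
  rw [← h3, hφ, h1]

/-- `Γ` is a union of fibres of `φ` -/
theorem union_of_fibres {ω ω' : Ω} (h : φ ω = φ ω') (hω : ω ∈ Γ) : ω' ∈ Γ := by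
  by_contra hω'
  apply not_trivial_on_X hqp φ hφ hφs Γ hJ hΓ1 hXn
  intro g hg c
  have hc0 : g • φ ω = φ ω := by
    rw [h, ← hφ, hg ω' hω']
  have hΓc : ∀ y ∈ Γ, φ y = φ ω := by
    intro y hy
    obtain ⟨k, hk, hky⟩ := hJ ω hω y hy
    have : k • φ ω = φ ω := by rw [h, ← hφ, hk ω' hω']
    rw [← hky, hφ, this]
  by_cases hc : c = φ ω
  · rw [hc]; exact hc0
  · obtain ⟨ω'', rfl⟩ := hφs c
    have : ω'' ∉ Γ := fun h' => hc (hΓc ω'' h')
    rw [← hφ, hg ω'' this]

theorem mem_image_iff (ω : Ω) : φ ω ∈ φ '' Γ ↔ ω ∈ Γ := by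
  constructor
  · rintro ⟨ω', hω', h⟩
    exact union_of_fibres hqp φ hφ hφs Γ hJ hΓ1 hXn h hω'
  · intro h
    exact ⟨ω, h, rfl⟩

/-- the image of `Γ` is a Jordan set -/
theorem image_jordan : IsJordanSet G (φ '' Γ) := by
  rintro _ ⟨x, hx, rfl⟩ _ ⟨y, hy, rfl⟩
  obtain ⟨g, hg, hgx⟩ := hJ x hx y hy
  refine ⟨g, ?_, by rw [← hφ, hgx]⟩
  intro z hz
  obtain ⟨ω, rfl⟩ := hφs z
  have : ω ∉ Γ := fun h => hz ((mem_image_iff hqp φ hφ hφs Γ hJ hΓ1 hXn ω).2 h)
  rw [← hφ, hg ω this]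

theorem two_le_image : 2 ≤ (φ '' Γ).ncard := by
  by_contra hlt
  have h1 : (φ '' Γ).ncard ≤ 1 := by omega
  have hne : Γ.Nonempty := by
    rw [← Set.ncard_pos (Set.toFinite Γ)]
    omega
  obtain ⟨ω₀, hω₀⟩ := hne
  have hsub : ∀ y ∈ Γ, φ y = φ ω₀ := by
    intro y hy
    have := (Set.ncard_le_one (Set.toFinite _)).1 h1 (φ y) ⟨y, hy, rfl⟩ (φ ω₀) ⟨ω₀, hω₀, rfl⟩
    exact this
  apply not_trivial_on_X hqp φ hφ hφs Γ hJ hΓ1 hXn
  intro g hg c
  have hother : ∀ c' : X, c' ≠ φ ω₀ → g • c' = c' := by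
    intro c' hc'
    obtain ⟨ω', rfl⟩ := hφs c'
    have : ω' ∉ Γ := fun h' => hc' (hsub ω' h')
    rw [← hφ, hg ω' this]
  by_cases hc : c = φ ω₀
  · subst hc
    by_contra hne
    have h2 := hother (g • φ ω₀) hne
    exact hne (smul_left_cancel g h2)
  · exact hother c hc

end core


section counting

variable {G : Type v} [Group G] {Ω : Type u} [MulAction G Ω] [Fintype Ω]
  {X : Type w} [MulAction G X] [Fintype X] [MulAction.IsPretransitive G X]
  (φ : Ω → X) (hφ : ∀ (g : G) (ω : Ω), φ (g • ω) = g • φ ω)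

include hφ

theorem fibre_card_eq (c c' : X) : Nat.card {ω // φ ω = c} = Nat.card {ω // φ ω = c'} := by
  obtain ⟨g, rfl⟩ := MulAction.exists_smul_eq G c c'
  apply Nat.card_congr
  refine ⟨fun ω => ⟨g • ω.1, by rw [hφ, ω.2]⟩,
    fun ω => ⟨g⁻¹ • ω.1, by rw [hφ, ω.2, inv_smul_smul]⟩, ?_, ?_⟩
  · intro ω
    apply Subtype.ext
    simp
  · intro ω
    apply Subtype.ext
    simp

theorem card_eq_mul (c₀ : X) :
    Fintype.card Ω = Fintype.card X * Nat.card {ω // φ ω = c₀} := by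
  classical
  rw [← Nat.card_eq_fintype_card, ← Nat.card_congr (Equiv.sigmaFiberEquiv φ), Nat.card_sigma]
  simp only [fibre_card_eq φ hφ _ c₀, Finset.sum_const, Finset.card_univ, smul_eq_mul]

theorem ncard_eq_mul (c₀ : X) (D : Set X) (Γ : Set Ω) (h : ∀ ω, φ ω ∈ D ↔ ω ∈ Γ) :
    Γ.ncard = D.ncard * Nat.card {ω // φ ω = c₀} := by
  classical
  let φ' : ↥Γ → ↥D := fun ω => ⟨φ ω.1, (h ω.1).2 ω.2⟩
  have hfib : ∀ c : ↥D, Nat.card {ω : ↥Γ // φ' ω = c} = Nat.card {ω // φ ω = c₀} := by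
    intro c
    rw [← fibre_card_eq φ hφ c.1 c₀]
    apply Nat.card_congr
    refine ⟨fun ω => ⟨ω.1.1, congrArg Subtype.val ω.2⟩,
      fun ω => ⟨⟨ω.1, (h ω.1).1 (by rw [ω.2]; exact c.2)⟩, Subtype.ext ω.2⟩, ?_, ?_⟩
    · intro ω
      rfl
    · intro ω
      rfl
  haveI : Fintype ↥D := Fintype.ofFinite _
  rw [← Nat.card_coe_set_eq Γ, ← Nat.card_congr (Equiv.sigmaFiberEquiv φ'), Nat.card_sigma]
  simp only [hfib, Finset.sum_const, Finset.card_univ, smul_eq_mul]
  rw [← Nat.card_eq_fintype_card, Nat.card_coe_set_eq]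

end counting


section final

variable {G : Type v} [Group G] {Ω : Type u} [MulAction G Ω] [Fintype Ω]
  {X : Type w} [MulAction G X] [Fintype X] [DecidableEq X]

theorem toPermHom_apply' (g : G) (c : X) : (MulAction.toPermHom G X g) c = g • c := rfl

/-- the kernel of the action on `X` is trivial -/
theorem ker_eq_bot
    (hqp : ∀ N : Subgroup G, N.Normal → N ≠ ⊥ → MulAction.IsPretransitive ↥N Ω)
    (φ : Ω → X) (hφ : ∀ (g : G) (ω : Ω), φ (g • ω) = g • φ ω) (hφs : Function.Surjective φ)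
    (hXn : Nontrivial X) : (MulAction.toPermHom G X).ker = ⊥ := by
  by_contra hne
  have htr := hqp _ (MonoidHom.normal_ker _) hne
  obtain ⟨c₁, c₂, hc⟩ := hXn
  obtain ⟨ω₁, rfl⟩ := hφs c₁
  obtain ⟨ω₂, rfl⟩ := hφs c₂
  obtain ⟨n, hn⟩ := htr.exists_smul_eq ω₁ ω₂
  apply hc
  have h1 : (n : G) • φ ω₁ = φ ω₁ := by
    have := n.2
    rw [MonoidHom.mem_ker] at this
    have h2 := congrArg (fun σ : Equiv.Perm X => σ (φ ω₁)) this
    simpa using h2
  have h3 : (n : G) • ω₁ = ω₂ := hn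
  rw [← h3, hφ, h1]

/-- the core of piece (C): an imprimitive quasiprimitive group with a small Jordan set cannot have a
primitive quotient action with nontrivial fibres -/
theorem core (hmain : MainProp.{w, v})
    (hqp : ∀ N : Subgroup G, N.Normal → N ≠ ⊥ → MulAction.IsPretransitive ↥N Ω)
    (φ : Ω → X) (hφ : ∀ (g : G) (ω : Ω), φ (g • ω) = g • φ ω) (hφs : Function.Surjective φ)
    (Γ : Set Ω)
    (hJ : ∀ x ∈ Γ, ∀ y ∈ Γ, ∃ g : G, (∀ z, z ∉ Γ → g • z = z) ∧ g • x = y)
    (hΓ1 : 1 < Γ.ncard) (hΓ2 : 2 * Γ.ncard < Fintype.card Ω)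
    (hXn : Nontrivial X) (hXp : MulAction.IsPreprimitive G X)
    (hfib : ∃ ω ω' : Ω, ω ≠ ω' ∧ φ ω = φ ω') : False := by
  classical
  haveI : MulAction.IsPretransitive G X := hXp.toIsPretransitive
  have hmem := mem_image_iff hqp φ hφ hφs Γ hJ hΓ1 hXn
  have hDj := image_jordan hqp φ hφ hφs Γ hJ hΓ1 hXn
  have hD2 := two_le_image hqp φ hφ hφs Γ hJ hΓ1 hXn
  obtain ⟨c₀⟩ : Nonempty X := inferInstance
  have hn := card_eq_mul (G := G) φ hφ c₀
  have hg := ncard_eq_mul (G := G) φ hφ c₀ (φ '' Γ) Γ hmem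
  have hb2 : 2 ≤ Nat.card {ω // φ ω = c₀} := by
    obtain ⟨ω₁, ω₂, hne, heq⟩ := hfib
    rw [fibre_card_eq (G := G) φ hφ c₀ (φ ω₁)]
    haveI : Nontrivial {ω // φ ω = φ ω₁} :=
      ⟨⟨⟨ω₁, rfl⟩, ⟨ω₂, heq.symm⟩, fun h => hne (congrArg Subtype.val h)⟩⟩
    exact Finite.one_lt_card
  set b := Nat.card {ω // φ ω = c₀} with hb
  set D := φ '' Γ with hD
  have hD3 : 2 * D.ncard < Fintype.card X := by
    rw [hn, hg] at hΓ2
    have h1 : (2 * D.ncard) * b < Fintype.card X * b := by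
      calc (2 * D.ncard) * b = 2 * (D.ncard * b) := by ring
        _ < Fintype.card X * b := hΓ2
    exact Nat.lt_of_mul_lt_mul_right h1
  have halt := hmain hXp hDj hD2 hD3
  set ρ := MulAction.toPermHom G X with hρ
  have hρinj : Function.Injective ρ := by
    rw [← MonoidHom.ker_eq_bot_iff]
    exact ker_eq_bot hqp φ hφ hφs hXn
  -- a nontrivial even element of the pointwise stabilizer
  have hΓ3 : 2 < Γ.ncard := by
    rw [hg]
    nlinarith
  obtain ⟨x₁, x₂, x₃, h1, h2, h3, h12, h13, h23⟩ :=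
    (Set.two_lt_ncard_iff (Set.toFinite Γ)).1 hΓ3
  obtain ⟨k₁, hk₁, hk₁x⟩ := hJ x₁ h1 x₂ h2
  obtain ⟨k₂, hk₂, hk₂x⟩ := hJ x₁ h1 x₃ h3
  obtain ⟨x, hx1, hxfix, hxsign⟩ : ∃ x : G, x ≠ 1 ∧ (∀ z, z ∉ Γ → x • z = z) ∧
      Equiv.Perm.sign (ρ x) = 1 := by
    rcases Int.units_eq_one_or (Equiv.Perm.sign (ρ k₁)) with s1 | s1
    · refine ⟨k₁, ?_, hk₁, s1⟩
      rintro rfl
      rw [one_smul] at hk₁x
      exact h12 hk₁x
    rcases Int.units_eq_one_or (Equiv.Perm.sign (ρ k₂)) with s2 | s2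
    · refine ⟨k₂, ?_, hk₂, s2⟩
      rintro rfl
      rw [one_smul] at hk₂x
      exact h13 hk₂x
    · refine ⟨k₁⁻¹ * k₂, ?_, ?_, ?_⟩
      · intro h
        have h4 : k₂ = k₁ := by
          have := congrArg (k₁ * ·) h
          simpa using this
        rw [h4, hk₁x] at hk₂x
        exact h23 hk₂x
      · intro z hz
        rw [mul_smul, hk₂ z hz, inv_smul_eq_iff, hk₁ z hz]
      · rw [map_mul, map_inv, map_mul, map_inv, s1, s2]
        decide
  -- a point outside `Γ`
  obtain ⟨w, hw⟩ : ∃ w : Ω, w ∉ Γ := by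
    by_contra hall
    push Not at hall
    have : Γ = Set.univ := Set.eq_univ_iff_forall.2 hall
    rw [this, Set.ncard_univ, Nat.card_eq_fintype_card] at hΓ2
    omega
  have hcD : φ w ∉ D := fun h => hw ((hmem w).1 h)
  have hxD : ∀ d : X, d ∉ D → x • d = d := by
    intro d hd
    obtain ⟨ω, rfl⟩ := hφs d
    have : ω ∉ Γ := fun h => hd ((hmem ω).2 h)
    rw [← hφ, hxfix ω this]
  by_cases hj : D.ncard = 2
  · -- `j = 2`: an even permutation supported on two points
    apply hx1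
    apply hρinj
    rw [map_one]
    apply eq_one_of_sign_of_card_le _ hxsign
    have hsub : (ρ x).support ⊆ D.toFinset := by
      intro d hd
      rw [Set.mem_toFinset]
      by_contra hdD
      rw [Equiv.Perm.mem_support] at hd
      exact hd (hxD d hdD)
    calc (ρ x).support.card ≤ D.toFinset.card := Finset.card_le_card hsub
      _ = D.ncard := (Set.ncard_eq_toFinset_card' D).symm
      _ = 2 := hj
  · -- `j ≥ 3`: simplicity of the alternating group on the remaining points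
    have hk7 : 7 ≤ Fintype.card X := by omega
    set c := φ w with hc
    set s : Finset X := Finset.univ.erase c with hs
    have hcs : c ∉ s := by
      rw [hs]
      exact Finset.notMem_erase c _
    have hscard : 5 ≤ Nat.card ↥s := by
      rw [Nat.card_eq_fintype_card, Fintype.card_coe, hs,
        Finset.card_erase_of_mem (Finset.mem_univ c), Finset.card_univ]
      omega
    have hfixc : ∀ y : alternatingGroup ↥s,
        ((alternatingGroup.ofSubtype s y : alternatingGroup X) : Equiv.Perm X) c = c := by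
      intro y
      rw [alternatingGroup.coe_ofSubtype]
      exact Equiv.Perm.ofSubtype_apply_of_not_mem _ hcs
    let M : Subgroup (alternatingGroup ↥s) :=
      { carrier := {y | ∃ g : G,
          ρ g = ((alternatingGroup.ofSubtype s y : alternatingGroup X) : Equiv.Perm X) ∧
          ∀ ω, φ ω = c → g • ω = ω}
        one_mem' := ⟨1, by rw [map_one, map_one]; rfl, fun ω _ => one_smul _ _⟩
        mul_mem' := by
          rintro y₁ y₂ ⟨g₁, hg₁, hf₁⟩ ⟨g₂, hg₂, hf₂⟩
          refine ⟨g₁ * g₂, ?_, ?_⟩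
          · rw [map_mul, map_mul, hg₁, hg₂]
            rfl
          · intro ω hω
            rw [mul_smul, hf₂ ω hω, hf₁ ω hω]
        inv_mem' := by
          rintro y ⟨g, hg, hf⟩
          refine ⟨g⁻¹, ?_, ?_⟩
          · rw [map_inv, map_inv, hg]
            rfl
          · intro ω hω
            rw [inv_smul_eq_iff, hf ω hω] }
    have hMn : M.Normal := by
      constructor
      rintro y ⟨g, hg, hf⟩ y'
      have h4 : ((alternatingGroup.ofSubtype s y' : alternatingGroup X) : Equiv.Perm X) ∈ ρ.range :=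
        halt (alternatingGroup.ofSubtype s y').2
      obtain ⟨g', hg'⟩ := h4
      refine ⟨g' * g * g'⁻¹, ?_, ?_⟩
      · rw [map_mul, map_mul, map_inv, hg, hg', map_mul, map_mul, map_inv]
        rfl
      · intro ω hω
        have h5 : φ (g'⁻¹ • ω) = c := by
          rw [hφ, hω, inv_smul_eq_iff, ← toPermHom_apply' (G := G), ← hρ, hg', hfixc]
        rw [mul_smul, mul_smul, hf _ h5, smul_inv_smul]
    have hxmem : ∃ y : alternatingGroup ↥s, y ∈ M ∧ y ≠ 1 := by
      have hxalt : ρ x ∈ alternatingGroup X := Equiv.Perm.mem_alternatingGroup.2 hxsign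
      have hsupp : ((⟨ρ x, hxalt⟩ : alternatingGroup X) : Equiv.Perm X).support ⊆ s := by
        intro d hd
        rw [hs, Finset.mem_erase]
        refine ⟨?_, Finset.mem_univ d⟩
        rintro rfl
        rw [Equiv.Perm.mem_support] at hd
        exact hd (hxD _ hcD)
      obtain ⟨y, hy⟩ := (alternatingGroup.mem_range_ofSubtype_iff s ⟨ρ x, hxalt⟩).2 hsupp
      refine ⟨y, ⟨x, ?_, ?_⟩, ?_⟩
      · rw [hy]
      · intro ω hω
        apply hxfix
        intro hωΓ
        apply hcD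
        rw [← hω]
        exact (hmem ω).2 hωΓ
      · rintro rfl
        rw [map_one] at hy
        apply hx1
        apply hρinj
        rw [map_one]
        exact (congrArg Subtype.val hy).symm
    obtain ⟨y₀, hy₀M, hy₀1⟩ := hxmem
    have hMtop : M = ⊤ := by
      rcases alternatingGroup.normal_subgroup_eq_bot_or_eq_top hscard (N := M) with hM | hM
      · exfalso
        rw [hM, Subgroup.mem_bot] at hy₀M
        exact hy₀1 hy₀M
      · exact hM
    -- the even part is transitive on `Ω`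
    set A : Subgroup G := (alternatingGroup X).comap ρ with hA
    have hAn : A.Normal := Subgroup.Normal.comap inferInstance ρ
    have hAne : A ≠ ⊥ := by
      intro hAb
      have : x ∈ A := by
        rw [hA, Subgroup.mem_comap]
        exact Equiv.Perm.mem_alternatingGroup.2 hxsign
      rw [hAb, Subgroup.mem_bot] at this
      exact hx1 this
    have hAtr := hqp A hAn hAne
    -- two distinct points in the fibre over `c`
    obtain ⟨ω₁, ω₂, hne, heq⟩ := hfib
    obtain ⟨h, hh⟩ := MulAction.exists_smul_eq G (φ ω₁) c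
    have hw₁ : φ (h • ω₁) = c := by rw [hφ, hh]
    have hw₂ : φ (h • ω₂) = c := by rw [hφ, ← heq, hh]
    have hw12 : h • ω₁ ≠ h • ω₂ := fun h' => hne (smul_left_cancel h h')
    obtain ⟨a, ha⟩ := hAtr.exists_smul_eq (h • ω₁) (h • ω₂)
    have ha' : (a : G) • (h • ω₁) = h • ω₂ := ha
    have haalt : ρ (a : G) ∈ alternatingGroup X := a.2
    have hac : (a : G) • c = c := by
      rw [← hw₁, ← hφ, ha', hw₂, hw₁]
    have hsupp : ((⟨ρ (a : G), haalt⟩ : alternatingGroup X) : Equiv.Perm X).support ⊆ s := by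
      intro d hd
      rw [hs, Finset.mem_erase]
      refine ⟨?_, Finset.mem_univ d⟩
      rintro rfl
      rw [Equiv.Perm.mem_support] at hd
      exact hd hac
    obtain ⟨y, hy⟩ := (alternatingGroup.mem_range_ofSubtype_iff s ⟨ρ (a : G), haalt⟩).2 hsupp
    have hyM : y ∈ M := by rw [hMtop]; exact Subgroup.mem_top y
    obtain ⟨g, hg, hf⟩ := hyM
    have hga : g = (a : G) := by
      apply hρinj
      rw [hg, hy]
    rw [hga] at hf
    exact hw12 ((hf _ hw₁).symm.trans ha')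


/-- Piece (C): the statement of S3620 from Theorem P (`MainProp`), used in the two universe
instances `(Ω, G)` and `(G ⧸ H, G)`. -/
theorem final {G : Type v} {Ω : Type u} [Group G] [Finite G] [MulAction G Ω] [FaithfulSMul G Ω]
    [Fintype Ω] [DecidableEq Ω]
    (hmain₁ : MainProp.{u, v}) (hmain₂ : MainProp.{v, v})
    (hqp : ∀ N : Subgroup G, N.Normal → N ≠ ⊥ → MulAction.IsPretransitive ↥N Ω)
    (Γ : Set Ω) (hΓ1 : 1 < Γ.ncard) (hΓ2 : 2 * Γ.ncard < Fintype.card Ω)
    (hJ : MulAction.IsPretransitive ↥(fixingSubgroup G Γᶜ)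
      ↥(SubMulAction.ofFixingSubgroup G Γᶜ)) :
    ∀ σ : Equiv.Perm Ω, Equiv.Perm.sign σ = 1 →
      ∃ x : G, (MulAction.toPerm x : Equiv.Perm Ω) = σ := by
  classical
  -- the Jordan property, elementwise
  have hJ' : ∀ x ∈ Γ, ∀ y ∈ Γ, ∃ g : G, (∀ z, z ∉ Γ → g • z = z) ∧ g • x = y := by
    intro x hx y hy
    have hx' : x ∈ SubMulAction.ofFixingSubgroup G Γᶜ := by
      rw [SubMulAction.mem_ofFixingSubgroup_iff]
      exact fun h => h hx
    have hy' : y ∈ SubMulAction.ofFixingSubgroup G Γᶜ := by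
      rw [SubMulAction.mem_ofFixingSubgroup_iff]
      exact fun h => h hy
    obtain ⟨g, hg⟩ := hJ.exists_smul_eq ⟨x, hx'⟩ ⟨y, hy'⟩
    refine ⟨(g : G), ?_, congrArg Subtype.val hg⟩
    intro z hz
    exact (mem_fixingSubgroup_iff G).1 g.2 z hz
  have hJ'' : IsJordanSet G Γ := hJ'
  -- `G` is transitive
  obtain ⟨x₁, x₂, hx₁, hx₂, hx12⟩ := (Set.one_lt_ncard_iff (Set.toFinite Γ)).1 hΓ1
  have htop : (⊤ : Subgroup G) ≠ ⊥ := by
    obtain ⟨g, _, hg⟩ := hJ' x₁ hx₁ x₂ hx₂
    intro h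
    have : g ∈ (⊥ : Subgroup G) := h ▸ Subgroup.mem_top g
    rw [Subgroup.mem_bot] at this
    rw [this, one_smul] at hg
    exact hx12 hg
  have htr' := hqp ⊤ inferInstance htop
  haveI htr : MulAction.IsPretransitive G Ω := by
    constructor
    intro a b
    obtain ⟨g, hg⟩ := htr'.exists_smul_eq a b
    exact ⟨(g : G), hg⟩
  by_cases hprim : MulAction.IsPreprimitive G Ω
  · intro σ hσ
    have h1 := hmain₁ hprim hJ'' (by omega) hΓ2
    have h2 : σ ∈ alternatingGroup Ω := Equiv.Perm.mem_alternatingGroup.2 hσ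
    obtain ⟨x, hx⟩ := h1 h2
    exact ⟨x, hx⟩
  · exfalso
    haveI : Nontrivial Ω := ⟨⟨x₁, x₂, hx12⟩⟩
    have hnc : ¬ IsCoatom (MulAction.stabilizer G x₁) := fun h =>
      hprim ((MulAction.isCoatom_stabilizer_iff_preprimitive G x₁).1 h)
    have hst : MulAction.stabilizer G x₁ ≠ ⊤ := by
      intro h
      obtain ⟨g, hg⟩ := MulAction.exists_smul_eq G x₁ x₂
      have : g ∈ MulAction.stabilizer G x₁ := h ▸ Subgroup.mem_top g
      rw [MulAction.mem_stabilizer_iff] at this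
      exact hx12 (this.symm.trans hg)
    obtain ⟨H, hHc, hHle⟩ := (eq_top_or_exists_le_coatom (MulAction.stabilizer G x₁)).resolve_left hst
    have hHne : H ≠ MulAction.stabilizer G x₁ := fun h => hnc (h ▸ hHc)
    obtain ⟨h₀, hh₀H, hh₀⟩ : ∃ h₀ ∈ H, h₀ ∉ MulAction.stabilizer G x₁ := by
      by_contra hall
      push Not at hall
      exact hHne (le_antisymm hall hHle)
    let φ : Ω → G ⧸ H := fun ω =>
      ((Classical.choose (MulAction.exists_smul_eq G x₁ ω) : G) : G ⧸ H)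
    have hφa : ∀ g : G, φ (g • x₁) = (g : G ⧸ H) := by
      intro g
      have h1 := Classical.choose_spec (MulAction.exists_smul_eq G x₁ (g • x₁))
      show ((Classical.choose (MulAction.exists_smul_eq G x₁ (g • x₁)) : G) : G ⧸ H) = _
      rw [QuotientGroup.eq]
      apply hHle
      rw [MulAction.mem_stabilizer_iff, mul_smul, inv_smul_eq_iff, h1]
    have hφ : ∀ (g : G) (ω : Ω), φ (g • ω) = g • φ ω := by
      intro g ω
      obtain ⟨g₁, rfl⟩ := MulAction.exists_smul_eq G x₁ ω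
      rw [← mul_smul, hφa, hφa]
      rfl
    have hφs : Function.Surjective φ := by
      intro q
      obtain ⟨g, rfl⟩ := QuotientGroup.mk_surjective q
      exact ⟨g • x₁, hφa g⟩
    haveI : Fintype (G ⧸ H) := Fintype.ofFinite _
    have hXn : Nontrivial (G ⧸ H) := by
      rw [← Finite.one_lt_card_iff_nontrivial]
      have h1 : H.index ≠ 1 := fun h => hHc.1 (Subgroup.index_eq_one.1 h)
      have h2 : H.index ≠ 0 := Subgroup.index_ne_zero_of_finite
      have h3 : Nat.card (G ⧸ H) = H.index := rfl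
      omega
    have hXp : MulAction.IsPreprimitive G (G ⧸ H) := by
      haveI := hXn
      apply (MulAction.isCoatom_stabilizer_iff_preprimitive G ((1 : G) : G ⧸ H)).1
      rw [MulAction.stabilizer_quotient]
      exact hHc
    have hfib : ∃ ω ω' : Ω, ω ≠ ω' ∧ φ ω = φ ω' := by
      refine ⟨x₁, h₀ • x₁, ?_, ?_⟩
      · intro h
        apply hh₀
        rw [MulAction.mem_stabilizer_iff]
        exact h.symm
      · have h1 : φ x₁ = ((1 : G) : G ⧸ H) := by
          have := hφa 1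
          rwa [one_smul] at this
        rw [h1, hφa, QuotientGroup.eq, inv_one, one_mul]
        exact hh₀H
    exact core hmain₂ hqp φ hφ hφs Γ hJ' hΓ1 hΓ2 hXn hXp hfib

end final

end Cfsg.Agent.Lib.Helper27.MargC
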