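import Mathlib

set_option autoImplicit false

namespace Cfsg.Agent.Lib.Helper27.MaxClassUcs

universe u


/-- a finite `p`-group whose centre quotient has order at most `p` is commutative -/
theorem center_eq_top_of_card_quot_le {p : ℕ} [hp : Fact p.Prime] {G : Type u} [Group G] [Finite G]
    {j : ℕ} (hj : Nat.card (G ⧸ Subgroup.center G) = p ^ j) (hj1 : j ≤ 1) : Subgroup.center G = ⊤ := by
  have hcyc : IsCyclic (G ⧸ Subgroup.center G) := by
    interval_cases j
    · rw [pow_zero] at hj
      have : Subsingleton (G ⧸ Subgroup.center G) := (Nat.card_eq_one_iff_unique.mp hj).1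
      infer_instance
    · rw [pow_one] at hj
      exact isCyclic_of_prime_card hj
  have hc := commutative_of_cyclic_center_quotient (QuotientGroup.mk' (Subgroup.center G)) (by
    rw [QuotientGroup.ker_mk'])
  rw [eq_top_iff]
  intro x _
  rw [Subgroup.mem_center_iff]
  intro y
  exact hc y x

theorem card_center_quot {p : ℕ} [hp : Fact p.Prime] {G : Type u} [Group G] [Finite G] {k : ℕ}
    (hG : Nat.card G = p ^ k) (hk : 1 ≤ k) :
    ∃ a j : ℕ, 1 ≤ a ∧ a + j = k ∧ Nat.card (Subgroup.center G) = p ^ a ∧
      Nat.card (G ⧸ Subgroup.center G) = p ^ j := by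
  have hpG : IsPGroup p G := IsPGroup.of_card hG
  have hnt : Nontrivial G := by
    rw [← Finite.one_lt_card_iff_nontrivial, hG]
    exact Nat.one_lt_pow (by omega) hp.out.one_lt
  obtain ⟨a, ha⟩ := (hpG.to_subgroup (Subgroup.center G)).exists_card_eq
  have hnz : Nontrivial (Subgroup.center G) := hpG.center_nontrivial
  have ha1 : 1 ≤ a := by
    rcases Nat.eq_zero_or_pos a with h0 | h0
    · rw [h0, pow_zero] at ha
      have := Finite.one_lt_card_iff_nontrivial.mpr hnz
      omega
    · exact h0
  have hmul := Subgroup.card_eq_card_quotient_mul_card_subgroup (Subgroup.center G)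
  rw [hG, ha] at hmul
  have hak : a ≤ k := by
    by_contra hcon
    push Not at hcon
    have h1 : p ^ k < p ^ a := Nat.pow_lt_pow_right hp.out.one_lt hcon
    have h2 : 0 < Nat.card (G ⧸ Subgroup.center G) := Nat.card_pos
    nlinarith
  refine ⟨a, k - a, ha1, by omega, ha, ?_⟩
  have h3 : p ^ k = p ^ (k - a) * p ^ a := by rw [← pow_add]; congr 1; omega
  rw [h3] at hmul
  exact (Nat.eq_of_mul_eq_mul_right (pow_pos hp.out.pos a) hmul).symm

/-- a group of order `p ^ k`, `k ≥ 2`, has class at most `k - 1` -/
theorem ucs_top_of_card {p : ℕ} [hp : Fact p.Prime] :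
    ∀ (k : ℕ) (G : Type u) [Group G] [Finite G], Nat.card G = p ^ k → 2 ≤ k →
      Subgroup.upperCentralSeries G (k - 1) = ⊤ := by
  intro k
  induction k using Nat.strong_induction_on with
  | _ k ih =>
    intro G _ _ hG hk
    obtain ⟨a, j, ha1, haj, ha, hj⟩ := card_center_quot hG (by omega)
    by_cases hj1 : j ≤ 1
    · have hc := center_eq_top_of_card_quot_le hj hj1
      rw [eq_top_iff, ← hc, ← Subgroup.upperCentralSeries_one]
      exact Subgroup.upperCentralSeries_mono G (by omega)
    · push Not at hj1
      have h1 := ih j (by omega) (G ⧸ Subgroup.center G) hj (by omega)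
      have h2 := Subgroup.comap_upperCentralSeries_quotient_center (G := G) (j - 1)
      rw [h1, Subgroup.comap_top] at h2
      have h3 : (j - 1).succ ≤ k - 1 := by omega
      rw [eq_top_iff, h2]
      exact Subgroup.upperCentralSeries_mono G h3

/-- maximal class: the centre has order `p` -/
theorem card_center_of_ucs_ne_top {p : ℕ} [hp : Fact p.Prime] {G : Type u} [Group G] [Finite G]
    {k : ℕ} (hG : Nat.card G = p ^ k) (hk : 3 ≤ k) (hne : Subgroup.upperCentralSeries G (k - 2) ≠ ⊤) :
    Nat.card (Subgroup.center G) = p ∧ Nat.card (G ⧸ Subgroup.center G) = p ^ (k - 1) := by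
  obtain ⟨a, j, ha1, haj, ha, hj⟩ := card_center_quot hG (by omega)
  have ha2 : a = 1 := by
    by_contra hcon
    have ha2 : 2 ≤ a := by omega
    apply hne
    by_cases hj1 : j ≤ 1
    · have hc := center_eq_top_of_card_quot_le hj hj1
      rw [eq_top_iff, ← hc, ← Subgroup.upperCentralSeries_one]
      exact Subgroup.upperCentralSeries_mono G (by omega)
    · push Not at hj1
      have h1 := ucs_top_of_card (p := p) j (G ⧸ Subgroup.center G) hj (by omega)
      have h2 := Subgroup.comap_upperCentralSeries_quotient_center (G := G) (j - 1)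
      rw [h1, Subgroup.comap_top] at h2
      have h3 : (j - 1).succ ≤ k - 2 := by omega
      rw [eq_top_iff, h2]
      exact Subgroup.upperCentralSeries_mono G h3
  subst ha2
  refine ⟨by rw [ha, pow_one], ?_⟩
  rw [hj]
  congr 1
  omega

/-- maximal class: the second centre has order `p ^ 2` -/
theorem card_ucs_two {p : ℕ} [hp : Fact p.Prime] {G : Type u} [Group G] [Finite G]
    {k : ℕ} (hG : Nat.card G = p ^ k) (hk : 4 ≤ k) (hne : Subgroup.upperCentralSeries G (k - 2) ≠ ⊤) :
    Nat.card (Subgroup.upperCentralSeries G 2) = p ^ 2 := by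
  obtain ⟨hZ, hQ⟩ := card_center_of_ucs_ne_top hG (by omega) hne
  have hne' : Subgroup.upperCentralSeries (G ⧸ Subgroup.center G) (k - 1 - 2) ≠ ⊤ := by
    intro h
    apply hne
    have h2 := Subgroup.comap_upperCentralSeries_quotient_center (G := G) (k - 1 - 2)
    rw [h, Subgroup.comap_top] at h2
    have : (k - 1 - 2).succ = k - 2 := by omega
    rw [this] at h2
    exact h2.symm
  obtain ⟨hZ', hQ'⟩ := card_center_of_ucs_ne_top hQ (by omega) hne'
  have h2 := Subgroup.comap_upperCentralSeries_quotient_center (G := G) 1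
  rw [Subgroup.upperCentralSeries_one] at h2
  rw [← h2]
  have hidx : (Subgroup.comap (QuotientGroup.mk' (Subgroup.center G)) (Subgroup.center (G ⧸ Subgroup.center G))).index =
      (Subgroup.center (G ⧸ Subgroup.center G)).index :=
    Subgroup.index_comap_of_surjective _ (QuotientGroup.mk'_surjective _)
  have h3 := Subgroup.card_mul_index (Subgroup.center (G ⧸ Subgroup.center G))
  rw [hZ', hQ] at h3
  have h4 := Subgroup.card_mul_index
    (Subgroup.comap (QuotientGroup.mk' (Subgroup.center G)) (Subgroup.center (G ⧸ Subgroup.center G)))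
  rw [hidx, hG] at h4
  -- p * idx = p^(k-1), card * idx = p^k
  have hidx_pos : 0 < (Subgroup.center (G ⧸ Subgroup.center G)).index := by
    rcases Nat.eq_zero_or_pos (Subgroup.center (G ⧸ Subgroup.center G)).index with h0 | h0
    · rw [h0, mul_zero] at h3
      exact absurd h3.symm (pow_pos hp.out.pos _).ne'
    · exact h0
  have h5 : Nat.card (Subgroup.comap (QuotientGroup.mk' (Subgroup.center G)) (Subgroup.center (G ⧸ Subgroup.center G))) *
      (Subgroup.center (G ⧸ Subgroup.center G)).index = p ^ 2 * (Subgroup.center (G ⧸ Subgroup.center G)).index := by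
    rw [h4]
    have : p ^ k = p * p ^ (k - 1) := by rw [← pow_succ']; congr 1; omega
    rw [this, ← h3]
    ring
  exact Nat.eq_of_mul_eq_mul_right hidx_pos h5


/-- the commutator with a fixed element of the second centre, as a homomorphism to the centre -/
noncomputable def commHom {G : Type u} [Group G] (a : G)
    (ha : a ∈ Subgroup.upperCentralSeries G 2) : G →* Subgroup.center G :=
  MonoidHom.mk' (fun s => ⟨s * a * s⁻¹ * a⁻¹, by
    have h := (Subgroup.mem_upperCentralSeries_succ_iff (G := G) (n := 1) (x := a)).mp ha s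
    rw [Subgroup.upperCentralSeries_one] at h
    have e : s * a * s⁻¹ * a⁻¹ = (a * s * a⁻¹ * s⁻¹)⁻¹ := by group
    rw [e]
    exact Subgroup.inv_mem _ h⟩) (by
    intro s t
    apply Subtype.ext
    have h := (Subgroup.mem_upperCentralSeries_succ_iff (G := G) (n := 1) (x := a)).mp ha t
    rw [Subgroup.upperCentralSeries_one] at h
    have e : t * a * t⁻¹ * a⁻¹ = (a * t * a⁻¹ * t⁻¹)⁻¹ := by group
    have hc : t * a * t⁻¹ * a⁻¹ ∈ Subgroup.center G := by
      rw [e]
      exact Subgroup.inv_mem _ h
    have hcomm := Subgroup.mem_center_iff.mp hc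
    show s * t * a * (s * t)⁻¹ * a⁻¹ = (s * a * s⁻¹ * a⁻¹) * (t * a * t⁻¹ * a⁻¹)
    have h1 : s * t * a * (s * t)⁻¹ * a⁻¹ = s * ((t * a * t⁻¹ * a⁻¹) * a) * s⁻¹ * a⁻¹ := by group
    rw [h1]
    obtain ⟨c, hcdef⟩ : ∃ c, c = t * a * t⁻¹ * a⁻¹ := ⟨_, rfl⟩
    rw [← hcdef] at hcomm ⊢
    calc s * (c * a) * s⁻¹ * a⁻¹ = (s * c) * a * s⁻¹ * a⁻¹ := by group
      _ = (c * s) * a * s⁻¹ * a⁻¹ := by rw [hcomm s]
      _ = c * (s * a * s⁻¹ * a⁻¹) := by group
      _ = s * a * s⁻¹ * a⁻¹ * c := (hcomm _).symm)

theorem commHom_apply {G : Type u} [Group G] (a : G)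
    (ha : a ∈ Subgroup.upperCentralSeries G 2) (s : G) :
    ((commHom a ha s : Subgroup.center G) : G) = s * a * s⁻¹ * a⁻¹ := rfl

theorem mem_ker_commHom {G : Type u} [Group G] (a : G)
    (ha : a ∈ Subgroup.upperCentralSeries G 2) (s : G) :
    s ∈ (commHom a ha).ker ↔ s * a = a * s := by
  rw [MonoidHom.mem_ker]
  constructor
  · intro h
    have h1 := congrArg Subtype.val h
    rw [commHom_apply] at h1
    have h2 : s * a * s⁻¹ * a⁻¹ = 1 := h1
    have : s * a = (s * a * s⁻¹ * a⁻¹) * a * s := by group
    rw [this, h2, one_mul]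
  · intro h
    apply Subtype.ext
    rw [commHom_apply, h]
    show a * s * s⁻¹ * a⁻¹ = 1
    group

/-- maximal class data: the centraliser of the second centre has index `p` -/
theorem index_centralizer_ucs_two {p : ℕ} [hp : Fact p.Prime] {G : Type u} [Group G] [Finite G]
    (hZ : Nat.card (Subgroup.center G) = p)
    (hZ2 : Nat.card (Subgroup.upperCentralSeries G 2) = p ^ 2) :
    (Subgroup.centralizer (Subgroup.upperCentralSeries G 2 : Set G)).index = p := by
  have hle : Subgroup.center G ≤ Subgroup.upperCentralSeries G 2 := by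
    rw [← Subgroup.upperCentralSeries_one]
    exact Subgroup.upperCentralSeries_mono G (by omega)
  obtain ⟨a, ha, haZ⟩ : ∃ a ∈ Subgroup.upperCentralSeries G 2, a ∉ Subgroup.center G := by
    by_contra hcon
    push Not at hcon
    have heq : Subgroup.center G = Subgroup.upperCentralSeries G 2 := le_antisymm hle hcon
    rw [heq, hZ2] at hZ
    have := hp.out.one_lt
    nlinarith
  have hker : Subgroup.centralizer (Subgroup.upperCentralSeries G 2 : Set G) =
      (commHom a ha).ker := by
    ext s
    rw [mem_ker_commHom, Subgroup.mem_centralizer_iff]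
    constructor
    · intro h
      exact (h a ha).symm
    · intro h b hb
      -- K = ucs 2 ⊓ centralizer {s}
      have hK : Subgroup.upperCentralSeries G 2 ⊓ Subgroup.centralizer {s} =
          Subgroup.upperCentralSeries G 2 := by
        have hKle : Subgroup.upperCentralSeries G 2 ⊓ Subgroup.centralizer {s} ≤
            Subgroup.upperCentralSeries G 2 := inf_le_left
        have hcK : Subgroup.center G ≤
            Subgroup.upperCentralSeries G 2 ⊓ Subgroup.centralizer {s} := by
          refine le_inf hle ?_
          intro z hz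
          rw [Subgroup.mem_centralizer_iff]
          intro y hy
          rw [Set.mem_singleton_iff] at hy
          subst hy
          exact (Subgroup.mem_center_iff.mp hz y)
        have haK : a ∈ Subgroup.upperCentralSeries G 2 ⊓ Subgroup.centralizer {s} := by
          refine ⟨ha, Subgroup.mem_centralizer_iff.mpr ?_⟩
          intro y hy
          rw [Set.mem_singleton_iff] at hy
          subst hy
          exact h
        have hdvd := Subgroup.card_dvd_of_le hKle
        rw [hZ2] at hdvd
        obtain ⟨i, hi, hKi⟩ := (Nat.dvd_prime_pow hp.out).mp hdvd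
        have hgt : p < Nat.card ↥(Subgroup.upperCentralSeries G 2 ⊓ Subgroup.centralizer {s}) := by
          by_contra hcon
          push Not at hcon
          have := Subgroup.eq_of_le_of_card_ge hcK (by rw [hZ]; exact hcon)
          rw [this] at haZ
          exact haZ haK
        have hi2 : i = 2 := by
          rw [hKi] at hgt
          interval_cases i
          · rw [pow_zero] at hgt
            have := hp.out.one_lt
            omega
          · rw [pow_one] at hgt
            omega
          · rfl
        subst hi2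
        exact Subgroup.eq_of_le_of_card_ge hKle (by rw [hKi, hZ2])
      have hb' : b ∈ Subgroup.upperCentralSeries G 2 ⊓ Subgroup.centralizer {s} := by
        rw [hK]; exact hb
      have := Subgroup.mem_centralizer_iff.mp hb'.2 s rfl
      exact this.symm
  rw [hker, Subgroup.index_ker]
  have hdvd : Nat.card (commHom a ha).range ∣ p := by
    rw [← hZ]
    exact Subgroup.card_subgroup_dvd_card _
  rcases (Nat.dvd_prime hp.out).mp hdvd with h1 | h1
  · exfalso
    apply haZ
    have hbot : (commHom a ha).range = ⊥ := Subgroup.card_eq_one.mp h1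
    rw [Subgroup.mem_center_iff]
    intro s
    have hs : s ∈ (commHom a ha).ker := by
      rw [MonoidHom.mem_ker]
      have : commHom a ha s ∈ (commHom a ha).range := ⟨s, rfl⟩
      rw [hbot] at this
      exact Subgroup.mem_bot.mp this
    exact (mem_ker_commHom a ha s).mp hs
  · exact h1

end Cfsg.Agent.Lib.Helper27.MaxClassUcs
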