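import Mathlib
import Cfsg.Agent.Lib.Helper27.MaxClassUcs

set_option autoImplicit false

namespace Cfsg.Agent.Lib.Helper27.MaxClassSetup

open Cfsg.Agent.Lib.Helper27.MaxClassUcs

theorem ucs_ne_top {Ω : Type*} [Group Ω] {S : Subgroup Ω} {m : ℕ}
    (hmax : Subgroup.lowerCentralSeries S m ≠ ⊥) :
    Subgroup.upperCentralSeries ↥S m ≠ ⊤ := by
  intro h
  apply hmax
  rw [← Subgroup.top_subtype_lowerCentralSeries S m,
    Subgroup.lowerCentralSeries_eq_bot_iff_upperCentralSeries_eq_top.mpr h, Subgroup.map_bot]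

theorem centralizer_map_eq {Ω : Type*} [Group Ω] {S : Subgroup Ω} (K : Subgroup ↥S) :
    S ⊓ Subgroup.centralizer ((K.map S.subtype : Subgroup Ω) : Set Ω) =
      (Subgroup.centralizer (K : Set ↥S)).map S.subtype := by
  ext x
  constructor
  · rintro ⟨hxS, hxC⟩
    refine ⟨⟨x, hxS⟩, Subgroup.mem_centralizer_iff.mpr ?_, rfl⟩
    intro y hy
    apply Subtype.ext
    have := Subgroup.mem_centralizer_iff.mp hxC (y : Ω) ⟨y, hy, rfl⟩
    exact this
  · rintro ⟨x', hx', rfl⟩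
    refine ⟨x'.2, Subgroup.mem_centralizer_iff.mpr ?_⟩
    rintro _ ⟨y, hy, rfl⟩
    have := Subgroup.mem_centralizer_iff.mp hx' y hy
    exact congrArg Subtype.val this

theorem map_conj_mem {Ω : Type*} [Group Ω] {S : Subgroup Ω} (K : Subgroup ↥S) (hK : K.Normal) :
    ∀ s ∈ S, ∀ x ∈ K.map S.subtype, s * x * s⁻¹ ∈ K.map S.subtype := by
  rintro s hs _ ⟨x, hx, rfl⟩
  exact ⟨⟨s, hs⟩ * x * ⟨s, hs⟩⁻¹, hK.conj_mem x hx ⟨s, hs⟩, rfl⟩

/-- the data of a `p`-group of maximal class (order `p ^ n`, `n ≥ 4`) used for fusion arguments -/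
theorem setup {Ω : Type*} [Group Ω] {S : Subgroup Ω} [Finite S] {p : ℕ} [hp : Fact p.Prime] {n : ℕ}
    (hn : Nat.card S = p ^ n) (h4 : 4 ≤ n) (hmax : Subgroup.lowerCentralSeries S (n - 2) ≠ ⊥) :
    (Subgroup.upperCentralSeries ↥S 2).map S.subtype ≤ S ∧
    (Subgroup.center ↥S).map S.subtype ≤ (Subgroup.upperCentralSeries ↥S 2).map S.subtype ∧
    Nat.card ((Subgroup.center ↥S).map S.subtype) = p ∧
    Nat.card ((Subgroup.upperCentralSeries ↥S 2).map S.subtype) = p ^ 2 ∧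
    (∀ x ∈ S, x ∈ (Subgroup.center ↥S).map S.subtype ↔ ∀ s ∈ S, s * x = x * s) ∧
    (∀ s ∈ S, ∀ x ∈ (Subgroup.upperCentralSeries ↥S 2).map S.subtype,
      s * x * s⁻¹ ∈ (Subgroup.upperCentralSeries ↥S 2).map S.subtype) ∧
    Nat.card ↥(S ⊓ Subgroup.centralizer
      (((Subgroup.upperCentralSeries ↥S 2).map S.subtype : Subgroup Ω) : Set Ω)) * p =
      Nat.card S := by
  have hne := ucs_ne_top hmax
  obtain ⟨hZ, -⟩ := card_center_of_ucs_ne_top hn (by omega) hne
  have hZ2 := card_ucs_two hn h4 hne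
  have hidx := index_centralizer_ucs_two hZ hZ2
  refine ⟨?_, ?_, ?_, ?_, ?_, ?_, ?_⟩
  · rintro _ ⟨x, -, rfl⟩
    exact x.2
  · apply Subgroup.map_mono
    rw [← Subgroup.upperCentralSeries_one]
    exact Subgroup.upperCentralSeries_mono _ (by omega)
  · rw [Subgroup.card_map_of_injective S.subtype_injective, hZ]
  · rw [Subgroup.card_map_of_injective S.subtype_injective, hZ2]
  · intro x hx
    constructor
    · rintro ⟨x', hx', rfl⟩ s hs
      have := Subgroup.mem_center_iff.mp hx' ⟨s, hs⟩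
      exact congrArg Subtype.val this
    · intro h
      refine ⟨⟨x, hx⟩, Subgroup.mem_center_iff.mpr ?_, rfl⟩
      intro s
      apply Subtype.ext
      exact h s s.2
  · have hnorm : (Subgroup.upperCentralSeries ↥S 2).Normal := inferInstance
    exact map_conj_mem _ hnorm
  · rw [centralizer_map_eq, Subgroup.card_map_of_injective S.subtype_injective, ← hidx]
    exact Subgroup.card_mul_index _

end Cfsg.Agent.Lib.Helper27.MaxClassSetup
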