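import Mathlib
import Cfsg.Agent.Lib.helper7.NCV.Defs
import Cfsg.Agent.Lib.Helper13.NCVC15A
import Cfsg.Agent.Lib.Helper1.NCVC15B
import Cfsg.Agent.Lib.Helper28.NCVC15E
import Cfsg.Agent.Lib.Helper28.NCVC15F

/-! Project NCV (helper7), row C15: `diag(s, s⁻¹)` (`s² ≠ 1`) and an irreducible matrix of
non-zero trace never lie in one nilpotent subgroup. -/

set_option autoImplicit false

namespace Cfsg.Agent.Lib.helper7.NCV

open Matrix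

universe u

variable {F : Type u} [Field F] {n : ℕ}

theorem ncvc15_val (s : Fˣ) :
    ((Matrix.SpecialLinearGroup.toGL (dgSL s) : GL (Fin 2) F) : Matrix (Fin 2) (Fin 2) F) =
      !![(s : F), 0; 0, ((s⁻¹ : Fˣ) : F)] := rfl

theorem ncvc15_inv_val (s : Fˣ) :
    (((Matrix.SpecialLinearGroup.toGL (dgSL s))⁻¹ : GL (Fin 2) F) :
      Matrix (Fin 2) (Fin 2) F) = !![((s⁻¹ : Fˣ) : F), 0; 0, (s : F)] := by
  have h : (Matrix.SpecialLinearGroup.toGL (dgSL s))⁻¹ =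
      Matrix.SpecialLinearGroup.toGL (dgSL s⁻¹) := by
    rw [inv_eq_iff_mul_eq_one]
    apply Units.ext
    show (!![(s : F), 0; 0, ((s⁻¹ : Fˣ) : F)] : Matrix (Fin 2) (Fin 2) F) *
      !![((s⁻¹ : Fˣ) : F), 0; 0, (((s⁻¹)⁻¹ : Fˣ) : F)] = 1
    rw [inv_inv]
    ext i j
    fin_cases i <;> fin_cases j <;> simp [Matrix.mul_apply, Fin.sum_univ_two]
  rw [h]
  show (!![((s⁻¹ : Fˣ) : F), 0; 0, (((s⁻¹)⁻¹ : Fˣ) : F)] : Matrix (Fin 2) (Fin 2) F) = _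
  rw [inv_inv]

/-- **C15 (DSEPG).** -/
theorem dsepg (X : Subgroup (GL (Fin 2) F)) [Group.IsNilpotent ↥X] (s : Fˣ)
    (hs : (s : F) ^ 2 ≠ 1) (g : GL (Fin 2) F) (hi : Irr (g : Matrix (Fin 2) (Fin 2) F))
    (ht : (g : Matrix (Fin 2) (Fin 2) F).trace ≠ 0)
    (hd : Matrix.SpecialLinearGroup.toGL (dgSL s) ∈ X) (hg : g ∈ X) : False := by
  obtain ⟨hs2, hconj⟩ := dinv X s hs g hi ht hd hg
  obtain ⟨k, z, hk⟩ := pow2_of_inverted X (Matrix.SpecialLinearGroup.toGL (dgSL s)) g hd hg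
    (by rw [ncvc15_val, ncvc15_inv_val]; exact hconj)
  obtain ⟨z', hz'⟩ := pow2_descent (g : Matrix (Fin 2) (Fin 2) F) hi (s : F) hs2 k z hk
  exact ht (tr_zero_of_sq_scalar _ hi z' hz')

end Cfsg.Agent.Lib.helper7.NCV
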