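import Mathlib
import Cfsg.Agent.Lib.helper7.NCV.Defs
import Cfsg.Agent.Lib.Helper20.NCVA7
import Cfsg.Agent.Lib.Helper9.NCVA8

/-! Project NCV (helper7), row C8: the centraliser of a matrix with non-zero lower left entry is
proper. -/

set_option autoImplicit false

namespace Cfsg.Agent.Lib.helper7.NCV

open Matrix

universe u

variable {F : Type u} [Field F] {n : ℕ}

/-- the elementary transvection `1 + E₀₁` does not commute with `g` when `g 1 0 ≠ 0` -/
theorem ncvc8_not_mem (g : Matrix (Fin 2) (Fin 2) F) (h10 : g 1 0 ≠ 0) :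
    Matrix.SpecialLinearGroup.toGL (tvSL (F := F) (0 : Fin 2) 1 (by decide)) ∉ cen g := by
  intro hmem
  rw [mem_cen] at hmem
  have h := congrFun (congrFun hmem 0) 0
  have hT : ((Matrix.SpecialLinearGroup.toGL (tvSL (F := F) (0 : Fin 2) 1 (by decide)) :
      GL (Fin 2) F) : Matrix (Fin 2) (Fin 2) F) = transvection 0 1 1 := rfl
  rw [hT] at h
  simp only [Matrix.mul_apply, Fin.sum_univ_two, transvection, Matrix.add_apply,
    Matrix.one_apply, Matrix.single_apply] at h
  simp at h
  exact h10 h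

/-- **C8 (CENPROP).** -/
theorem cen_proper (G : Subgroup (GL (Fin 2) F ⧸ Subgroup.center (GL (Fin 2) F)))
    (hG : ((Matrix.SpecialLinearGroup.toGL :
      Matrix.SpecialLinearGroup (Fin 2) F →* GL (Fin 2) F).range).map
      (QuotientGroup.mk' (Subgroup.center (GL (Fin 2) F))) ≤ G)
    (g : Matrix (Fin 2) (Fin 2) F) (h10 : g 1 0 ≠ 0) : down G (cen g) ≠ ⊤ :=
  down_ne_top G (cen g) (center_le_cen g)
    (Matrix.SpecialLinearGroup.toGL (tvSL (F := F) (0 : Fin 2) 1 (by decide)))
    (sl_mem G hG _) (ncvc8_not_mem g h10)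

end Cfsg.Agent.Lib.helper7.NCV
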