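import Cfsg.Agent.Lib.Helper26.KNorm
import Cfsg.Agent.Lib.Helper26.FusionSeries3
import Cfsg.Agent.Lib.Helper27.FusCentric
import Cfsg.Agent.Lib.Helper27.FusNormal
import Cfsg.Agent.Lib.Helper27.PCoreOf
import Cfsg.Agent.S5106
import Cfsg.Agent.S5080

set_option autoImplicit false

namespace Cfsg.Agent.Lib.Helper27

open Cfsg Cfsg.FusionSystem Cfsg.Agent.Lib.Helper26

variable {Ω : Type*} [Group Ω] {S : Subgroup Ω}

/-- An `F`-map defined on a subgroup `R` containing the normal subgroup `Q` restricts to an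
`F`-automorphism of `Q`. -/
theorem exists_aut_of_hom_of_isNormal [Finite S] {p : ℕ} [Fact p.Prime] (hS : IsPGroup p S)
    (F : FusionSystem S) (hF : F.IsSaturated p) {Q : Subgroup Ω} (hQ : F.IsNormal Q)
    {R : Subgroup Ω} (hQR : Q ≤ R) {ψ : R →* Ω} (hψ : ψ ∈ F.Hom R) :
    ∃ α ∈ F.autGroup Q, ∀ x : Q, ((α x : Q) : Ω) = ψ (Subgroup.inclusion hQR x) := by
  obtain ⟨α, hα, h⟩ := (Cfsg.Agent.S5106.result p hS F hF Q hQ.1).mp hQ Q le_rfl
    (ψ.comp (Subgroup.inclusion hQR)) (restrict_mem F hψ hQR)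
  refine ⟨α, hα, fun x => ?_⟩
  have h1 := h x
  have e : Subgroup.inclusion (le_refl Q) x = x := Subtype.ext rfl
  rw [e] at h1
  exact h1

/-- The preimage in `S` of a subgroup of `Aut(Q)` normalized by `Aut_F(Q)`, for `Q` normal in `F`,
is strongly closed in `F`. -/
theorem stronglyClosed_NK [Finite S] {p : ℕ} [Fact p.Prime] (hS : IsPGroup p S)
    (F : FusionSystem S) (hF : F.IsSaturated p) {Q : Subgroup Ω} (hQ : F.IsNormal Q)
    (K : Subgroup (MulAut Q))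
    (hK : ∀ α ∈ F.autGroup Q, ∀ κ ∈ K, α * κ * α⁻¹ ∈ K) :
    F.StronglyClosed (NK S Q K) := by
  refine ⟨NK_le Q K, fun R₀ hR₀ φ hφ x => ?_⟩
  obtain ⟨ψ, hψ, hψφ, -⟩ := hQ.2 R₀ φ hφ
  obtain ⟨α, hα, hαψ⟩ := exists_aut_of_hom_of_isNormal hS F hF hQ le_sup_right hψ
  obtain ⟨hxS, κ, hκ, hκx⟩ := mem_NK_iff.mp (hR₀ x.2)
  refine mem_NK_iff.mpr ⟨apply_mem F hφ x, α * κ * α⁻¹, hK α hα κ hκ, fun q => ?_⟩
  rw [MulAut.mul_apply, MulAut.mul_apply, hαψ, ← hψφ]
  have e : Subgroup.inclusion (le_sup_right : Q ≤ R₀ ⊔ Q) (κ (α⁻¹ q)) =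
      Subgroup.inclusion (le_sup_left : R₀ ≤ R₀ ⊔ Q) x *
        Subgroup.inclusion (le_sup_right : Q ≤ R₀ ⊔ Q) (α⁻¹ q) *
        (Subgroup.inclusion (le_sup_left : R₀ ≤ R₀ ⊔ Q) x)⁻¹ := by
    apply Subtype.ext
    exact hκx (α⁻¹ q)
  rw [e, map_mul, map_mul, map_inv, ← hαψ, MulAut.apply_inv_self]

/-- The automorphisms of `P` inducing on the subgroup `Q ≤ P` an element of `K`. -/
def restrictStab {Q P : Subgroup Ω} (hQP : Q ≤ P) (K : Subgroup (MulAut Q)) :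
    Subgroup (MulAut P) where
  carrier := {γ | ∃ κ ∈ K, ∀ q : Q, γ (Subgroup.inclusion hQP q) = Subgroup.inclusion hQP (κ q)}
  one_mem' := ⟨1, K.one_mem, fun q => rfl⟩
  mul_mem' := by
    rintro γ₁ γ₂ ⟨κ₁, hκ₁, h₁⟩ ⟨κ₂, hκ₂, h₂⟩
    refine ⟨κ₁ * κ₂, K.mul_mem hκ₁ hκ₂, fun q => ?_⟩
    rw [MulAut.mul_apply, MulAut.mul_apply, h₂, h₁]
  inv_mem' := by
    rintro γ ⟨κ, hκ, h⟩
    refine ⟨κ⁻¹, K.inv_mem hκ, fun q => ?_⟩
    have h1 := h (κ⁻¹ q)
    rw [MulAut.apply_inv_self] at h1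
    rw [← h1, MulAut.inv_apply_self]

theorem mem_restrictStab_iff {Q P : Subgroup Ω} {hQP : Q ≤ P} {K : Subgroup (MulAut Q)}
    {γ : MulAut P} : γ ∈ restrictStab hQP K ↔
      ∃ κ ∈ K, ∀ q : Q, γ (Subgroup.inclusion hQP q) = Subgroup.inclusion hQP (κ q) := Iff.rfl

theorem restrictStab_pow {Q P : Subgroup Ω} {hQP : Q ≤ P} {γ : MulAut P} {κ : MulAut Q}
    (h : ∀ q : Q, γ (Subgroup.inclusion hQP q) = Subgroup.inclusion hQP (κ q)) (n : ℕ) (q : Q) :
    (γ ^ n) (Subgroup.inclusion hQP q) = Subgroup.inclusion hQP ((κ ^ n) q) := by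
  induction n generalizing q with
  | zero => simp
  | succ n ih => rw [pow_succ, pow_succ, MulAut.mul_apply, MulAut.mul_apply, h, ih]

/-- For `Q` normal and centric in the saturated system `F` and `K` a `p`-subgroup of `Aut(Q)`
normalized by `Aut_F(Q)`, the preimage of `K` in `S` is normal in `F`. -/
theorem isNormal_NK [Finite S] {p : ℕ} [Fact p.Prime] (hS : IsPGroup p S)
    (F : FusionSystem S) (hF : F.IsSaturated p) {Q : Subgroup Ω} (hQ : F.IsNormal Q)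
    (hQc : F.IsCentric Q) (K : Subgroup (MulAut Q))
    (hK : ∀ α ∈ F.autGroup Q, ∀ κ ∈ K, α * κ * α⁻¹ ∈ K) (hKp : IsPGroup p K) :
    F.IsNormal (NK S Q K) := by
  have hsc := stronglyClosed_NK hS F hF hQ K hK
  have hQn : S ≤ Subgroup.normalizer (Q : Set Ω) := isNormal_le_normalizer hQ
  refine isNormal_of_stronglyClosed_of_le_pCore hS F hF hsc (fun P hess => ?_)
  have hPS : P ≤ S := hess.2.1.1
  have hfinP : Finite P := finite_of_le hPS
  have hrad := Cfsg.Agent.S5080.result p hS F hF P hess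
  have hC : centralizerIn S P ≤ P := hess.1.2 P (isConj_refl F hPS)
  have hQP : Q ≤ P := isNormal_le_of_centric_radical hS hQ hPS hC hrad
  -- the group `B`
  have hBn : ((restrictStab hQP K).subgroupOf (F.autGroup P)).Normal := by
    constructor
    intro b hb a
    rw [Subgroup.mem_subgroupOf] at hb ⊢
    obtain ⟨κ, hκ, hbκ⟩ := hb
    have hφ : P.subtype.comp (a : MulAut P).toMonoidHom ∈ F.Hom P :=
      (mem_autGroup_iff F hPS).mp a.2
    obtain ⟨α, hα, hαa⟩ := exists_aut_of_hom_of_isNormal hS F hF hQ hQP hφ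
    have hαa' : ∀ q : Q, (a : MulAut P) (Subgroup.inclusion hQP q) =
        Subgroup.inclusion hQP (α q) := by
      intro q
      apply Subtype.ext
      exact (hαa q).symm
    have hinv : ∀ q : Q, (a : MulAut P)⁻¹ (Subgroup.inclusion hQP q) =
        Subgroup.inclusion hQP (α⁻¹ q) := by
      intro q
      have h1 := hαa' (α⁻¹ q)
      rw [MulAut.apply_inv_self] at h1
      rw [← h1, MulAut.inv_apply_self]
    refine ⟨α * κ * α⁻¹, hK α hα κ hκ, fun q => ?_⟩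
    show ((a : MulAut P) * (b : MulAut P) * (a : MulAut P)⁻¹) (Subgroup.inclusion hQP q) = _
    rw [MulAut.mul_apply, MulAut.mul_apply, hinv, hbκ, hαa']
    rfl
  have hBp : IsPGroup p ↥((restrictStab hQP K).subgroupOf (F.autGroup P)) := by
    rintro ⟨⟨γ, hγA⟩, hγ⟩
    obtain ⟨κ, hκ, hγκ⟩ := (Subgroup.mem_subgroupOf.mp hγ)
    obtain ⟨k, hk⟩ := hKp ⟨κ, hκ⟩
    have hk' : κ ^ (p ^ k) = 1 := by
      have := congrArg Subtype.val hk
      simpa using this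
    have hfix : ∀ x : P, (x : Ω) ∈ Q → (γ ^ (p ^ k)) x = x := by
      intro x hx
      have h1 := restrictStab_pow hγκ (p ^ k) ⟨x, hx⟩
      rw [hk'] at h1
      exact h1
    have hγk : γ ^ (p ^ k) ∈ F.autGroup P := Subgroup.pow_mem _ hγA _
    obtain ⟨z, hzQ, hzC, hz⟩ := aut_eq_conj_of_fix_centric hS F hF hQP hPS
      (fun x hx y hy => (Subgroup.mem_normalizer_iff.mp (hQn (hPS hx)) y).mp hy) hQc hγk hfix
    obtain ⟨m, hm⟩ := hS ⟨z, hQ.1 hzQ⟩
    have hm' : z ^ (p ^ m) = 1 := by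
      have := congrArg Subtype.val hm
      simpa using this
    have hpow : ∀ (n : ℕ) (x : P), (((γ ^ (p ^ k)) ^ n) x : Ω) = z ^ n * (x : Ω) * (z ^ n)⁻¹ := by
      intro n
      induction n with
      | zero => intro x; simp
      | succ n ih =>
        intro x
        rw [pow_succ', MulAut.mul_apply, hz, ih, pow_succ']
        group
    refine ⟨k + m, ?_⟩
    apply Subtype.ext
    apply Subtype.ext
    show γ ^ (p ^ (k + m)) = 1
    ext x
    rw [pow_add, pow_mul, hpow, hm']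
    simp
  refine le_trans ?_ (Helper1.le_pCore hBn hBp)
  intro b hb
  obtain ⟨g, hgN, hg, hbg⟩ := mem_autInducedBy_iff'.mp (Subgroup.mem_subgroupOf.mp hb)
  obtain ⟨-, κ, hκ, hκg⟩ := mem_NK_iff.mp hgN.1
  rw [Subgroup.mem_subgroupOf, hbg]
  refine ⟨κ, hκ, fun q => ?_⟩
  apply Subtype.ext
  rw [conjAut_apply]
  exact (hκg q).symm

end Cfsg.Agent.Lib.Helper27
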