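import Mathlib

/-!
# Operators of prime order with a nilpotent difference

* `pow_mul_eq_zero_comm`: in a commutative ring, `(1 + x) ^ p = 1` and `x ^ (n (p - 1) + 1) = 0`
  force `p ^ n * x = 0`.
* `pow_mul_eq_zero`: the same in an arbitrary ring.
* `map_pow_eq`: an endomorphism `σ` of a commutative group `V` with `σ ^ p = 1` whose difference
  operator `v ↦ σ v / v` is killed by `n (p - 1) + 1` iterations fixes every `p ^ n`-th power.
-/

set_option autoImplicit false

namespace Cfsg.Agent.Lib.Helper27.NilPow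

open Finset

theorem sum_Ioo_eq {B : Type*} [CommRing B] (p : ℕ) (hp : p.Prime) (x : B) :
    ∑ k ∈ Ioo 0 p, x ^ (k - 1) * ((p.choose k / p : ℕ) : B) =
      1 + x * ∑ k ∈ Ioo 1 p, x ^ (k - 2) * ((p.choose k / p : ℕ) : B) := by
  have h2 : 2 ≤ p := hp.two_le
  have e : Ioo 0 p = insert 1 (Ioo 1 p) := by
    ext k
    simp only [mem_Ioo, mem_insert]
    omega
  rw [e, sum_insert (by simp), mul_sum]
  congr 1
  · simp [Nat.div_self hp.pos]
  · apply sum_congr rfl
    intro k hk
    have hk2 : 2 ≤ k := by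
      have := (mem_Ioo.mp hk).1
      omega
    have e2 : k - 1 = (k - 2) + 1 := by omega
    rw [e2, pow_succ']
    ring

theorem pow_mul_eq_zero_comm {B : Type*} [CommRing B] (p : ℕ) (hp : p.Prime) (x : B) (n : ℕ)
    (h1 : (1 + x) ^ p = 1) (h2 : x ^ (n * (p - 1) + 1) = 0) : (p : B) ^ n * x = 0 := by
  have hnil : IsNilpotent x := ⟨_, h2⟩
  set w : B := ∑ k ∈ Ioo 1 p, x ^ (k - 2) * ((p.choose k / p : ℕ) : B) with hw
  have hrel : x ^ p + (p : B) * x * (1 + x * w) = 0 := by
    have h3 := add_pow_prime_eq hp x (1 : B)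
    rw [add_comm x 1, h1] at h3
    simp only [one_pow, mul_one] at h3
    rw [sum_Ioo_eq p hp x] at h3
    have h4 : (1 : B) = x ^ p + 1 + (p : B) * x * (1 + x * w) := h3
    linear_combination -h4
  have hunit : IsUnit (1 + x * w) := IsNilpotent.isUnit_one_add ((Commute.all x w).isNilpotent_mul_right hnil)
  obtain ⟨u, hu⟩ := hunit
  have hpx : (p : B) * x = -(x ^ p) * (u⁻¹ : Bˣ) := by
    have h5 : (p : B) * x * (u : B) = -(x ^ p) := by
      rw [hu]
      linear_combination hrel
    calc (p : B) * x = (p : B) * x * ((u : B) * ((u⁻¹ : Bˣ) : B)) := by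
          rw [Units.mul_inv, mul_one]
      _ = ((p : B) * x * (u : B)) * ((u⁻¹ : Bˣ) : B) := by ring
      _ = _ := by rw [h5]
  have hp1 : 1 ≤ p := hp.pos
  have key : ∀ j : ℕ, (p : B) ^ j * x = (-1) ^ j * x ^ (j * (p - 1) + 1) * ((u⁻¹ : Bˣ) : B) ^ j := by
    intro j
    induction j with
    | zero => simp
    | succ j ih =>
      have e1 : (p : B) ^ (j + 1) * x = (p : B) * ((p : B) ^ j * x) := by ring
      rw [e1, ih]
      have e2 : (j + 1) * (p - 1) + 1 = j * (p - 1) + p := by
        have : p - 1 + 1 = p := by omega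
        calc (j + 1) * (p - 1) + 1 = j * (p - 1) + (p - 1 + 1) := by ring
          _ = _ := by rw [this]
      have e3 : (p : B) * ((-1) ^ j * x ^ (j * (p - 1) + 1) * ((u⁻¹ : Bˣ) : B) ^ j) =
          (-1) ^ j * x ^ (j * (p - 1)) * ((u⁻¹ : Bˣ) : B) ^ j * ((p : B) * x) := by
        rw [pow_succ]
        ring
      rw [e3, hpx, e2, pow_add]
      ring
  rw [key n, h2]
  ring

theorem pow_mul_eq_zero {E : Type*} [Ring E] (p : ℕ) (hp : p.Prime) (d : E) (n : ℕ)
    (h1 : (1 + d) ^ p = 1) (h2 : d ^ (n * (p - 1) + 1) = 0) : (p : E) ^ n * d = 0 := by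
  classical
  let f : Polynomial ℤ →+* E := (Polynomial.aeval d : Polynomial ℤ →ₐ[ℤ] E).toRingHom
  have hfX : f Polynomial.X = d := Polynomial.aeval_X d
  let J : Ideal (Polynomial ℤ) := RingHom.ker f
  let x : Polynomial ℤ ⧸ J := Ideal.Quotient.mk J Polynomial.X
  have hx1 : (1 + x) ^ p = 1 := by
    have : (1 + Polynomial.X : Polynomial ℤ) ^ p - 1 ∈ J := by
      rw [RingHom.mem_ker, map_sub, map_pow, map_add, map_one, hfX, h1, sub_self]
    have h3 := (Ideal.Quotient.eq_zero_iff_mem).mpr this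
    rw [map_sub, map_pow, map_add, map_one] at h3
    exact sub_eq_zero.mp h3
  have hx2 : x ^ (n * (p - 1) + 1) = 0 := by
    have : (Polynomial.X : Polynomial ℤ) ^ (n * (p - 1) + 1) ∈ J := by
      rw [RingHom.mem_ker, map_pow, hfX, h2]
    have h3 := (Ideal.Quotient.eq_zero_iff_mem).mpr this
    rwa [map_pow] at h3
  have h4 := pow_mul_eq_zero_comm p hp x n hx1 hx2
  have h5 : ((p : Polynomial ℤ) ^ n * Polynomial.X) ∈ J := by
    apply (Ideal.Quotient.eq_zero_iff_mem).mp
    rw [map_mul, map_pow, map_natCast]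
    exact h4
  rw [RingHom.mem_ker, map_mul, map_pow, map_natCast, hfX] at h5
  exact h5

theorem end_pow_apply {M : Type*} [AddCommGroup M] (f : AddMonoid.End M) (k : ℕ) (a : M) :
    (f ^ k) a = f^[k] a := by
  induction k generalizing a with
  | zero => rfl
  | succ k ih =>
    rw [pow_succ, Function.iterate_succ_apply]
    exact ih (f a)

theorem map_pow_eq {V : Type*} [CommGroup V] (p : ℕ) (hp : p.Prime) (σ : V →* V) (n : ℕ)
    (hσ : ∀ v, σ^[p] v = v)
    (hnil : ∀ v, (fun w => σ w / w)^[n * (p - 1) + 1] v = 1) (v : V) :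
    σ (v ^ (p ^ n)) = v ^ (p ^ n) := by
  let s : AddMonoid.End (Additive V) := MonoidHom.toAdditive σ
  have hs : ∀ a : Additive V, s a = Additive.ofMul (σ a.toMul) := fun a => rfl
  set d : AddMonoid.End (Additive V) := s - 1 with hd
  have hd1 : 1 + d = s := by rw [hd]; abel
  have h1 : (1 + d) ^ p = 1 := by
    rw [hd1]
    ext a
    rw [end_pow_apply]
    have h2 : ∀ (k : ℕ) (b : Additive V), s^[k] b = Additive.ofMul (σ^[k] b.toMul) := by
      intro k
      induction k with
      | zero => intro b; rfl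
      | succ k ih =>
        intro b
        rw [Function.iterate_succ_apply, ih, Function.iterate_succ_apply]
        rfl
    rw [h2, hσ]
    rfl
  have h2 : d ^ (n * (p - 1) + 1) = 0 := by
    ext a
    rw [end_pow_apply]
    have h3 : ∀ (k : ℕ) (b : Additive V),
        d^[k] b = Additive.ofMul ((fun w => σ w / w)^[k] b.toMul) := by
      intro k
      induction k with
      | zero => intro b; rfl
      | succ k ih =>
        intro b
        rw [Function.iterate_succ_apply, ih, Function.iterate_succ_apply]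
        rfl
    rw [h3, hnil]
    rfl
  have h3 := pow_mul_eq_zero p hp d n h1 h2
  have h4 : ((p : AddMonoid.End (Additive V)) ^ n * d) (Additive.ofMul v) = 0 := by
    rw [h3]
    rfl
  rw [← Nat.cast_pow] at h4
  have h5 : d ((p ^ n) • Additive.ofMul v) = 0 := by
    rw [map_nsmul]
    exact h4
  have h6 : s ((p ^ n) • Additive.ofMul v) = (p ^ n) • Additive.ofMul v := by
    have h7 : d ((p ^ n) • Additive.ofMul v) =
        s ((p ^ n) • Additive.ofMul v) - (p ^ n) • Additive.ofMul v := rfl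
    rw [h7] at h5
    exact sub_eq_zero.mp h5
  exact h6

end Cfsg.Agent.Lib.Helper27.NilPow
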