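import Mathlib
import Cfsg.Agent.Lib.Helper18.OCT.Defs
import Cfsg.Agent.Lib.helper7.OCGZ7
import Cfsg.Agent.Lib.helper8.OCGX6v
import Cfsg.Agent.Lib.Helper27.OCGX7
import Cfsg.Agent.Lib.Helper27.OCGX8core

/-!
# OCG row X8: `card_G2` (verbatim from `Helper18/OCT/Skel.lean.txt`) = `ocgx8_core` on the landed X7, Z7, X6.
-/

set_option autoImplicit false

namespace Cfsg.Agent.Lib.Helper18.OCT

open Cfsg.Lie Matrix
open scoped MatrixGroups

section X

variable {F : Type*} [Field F]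

/-- X8 [S-M]. X7, Z7, X6, `Cfsg.Agent.Lib.helper14.SubB.card_SL_formula q hq 3` :
`|SL₃| (q - 1) = q³ (q - 1)(q² - 1)(q³ - 1)`; `q ≥ 2`. -/
theorem card_G2 [Fintype F] {q : ℕ} (hq : Fintype.card F = q) :
    Nat.card ↥(G2 F) = q ^ 6 * (q ^ 6 - 1) * (q ^ 2 - 1) :=
  ocgx8_core hq card_G2_eq_mul (card_Idem hq) card_stab

end X

end Cfsg.Agent.Lib.Helper18.OCT
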