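import Mathlib
import Cfsg.Agent.Lib.helper8.OME.Defs

set_option autoImplicit false
set_option linter.unusedVariables false
set_option linter.unusedSectionVars false

/-!
# Project OME (S5990; designer helper8), row AMAXADM (core with the extra hypothesis `1 ≤ d`:
the Skel statement is false for `d = 0`, where `AmaxM = 0`, `c * 0 = 2 * 0` and `sg i 0 = 1`).
-/

namespace Cfsg.Agent.Lib.helper8.OME

open Polynomial Module Cfsg.Agent.Lib.Helper13.S5955 Cfsg.Agent.Lib.helper15.S5972
  Cfsg.Agent.Lib.Helper18.OPE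

/-- AMAXADM with `1 ≤ d`. -/
theorem omeamaxadm_core (i c d : ℕ) (hd : 1 ≤ d) (hi1 : 1 ≤ i) (hc : c = if Even i then i else 2 * i) :
    c * AmaxM i c d ≤ 2 * d ∧ (c * AmaxM i c d = 2 * d → sg i (AmaxM i c d) = -1) := by
  have hc1 : 1 ≤ c := by
    rw [hc]
    split_ifs <;> omega
  unfold AmaxM
  split_ifs with h
  · obtain ⟨hmod, _⟩ := h
    have heq : c * (2 * d / c) = 2 * d := Nat.mul_div_cancel' (Nat.dvd_of_mod_eq_zero hmod)
    have hN : 1 ≤ 2 * d / c := by
      rcases Nat.eq_zero_or_pos (2 * d / c) with h0 | h0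
      · rw [h0, mul_zero] at heq
        omega
      · exact h0
    have h3 : c * (2 * d / c - 1) + c = c * (2 * d / c) := by
      rw [← Nat.mul_succ]
      congr 1
      omega
    constructor
    · omega
    · intro h2
      exfalso
      omega
  · constructor
    · exact Nat.mul_div_le _ _
    · intro h2
      have hmod : (2 * d) % c = 0 := by
        have : c ∣ 2 * d := ⟨_, h2.symm⟩
        exact Nat.mod_eq_zero_of_dvd this
      have h' : ¬ (Odd i ∨ Even (2 * d / i)) := fun h3 => h ⟨hmod, h3⟩
      rw [not_or] at h'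
      obtain ⟨hi_even, hodd⟩ := h'
      rw [Nat.not_odd_iff_even] at hi_even
      rw [Nat.not_even_iff_odd] at hodd
      have hci : c = i := by rw [hc, if_pos hi_even]
      unfold sg
      rw [if_pos hi_even, hci]
      exact hodd.neg_one_pow

/-- AMAXADM [S-M] (twin of OPE `amax_adm`, Helper29/OPEAMAXADM.lean): `AmaxM` is admissible for `τ = -1`.  (AMENDED 21:55Z: hypothesis `hd : 1 ≤ d` added after `d` - the statement is false for `d = 0`; helper27.) -/
theorem ome_amax_adm (i c d : ℕ) (hd : 1 ≤ d) (hi1 : 1 ≤ i) (hc : c = if Even i then i else 2 * i) :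
    c * AmaxM i c d ≤ 2 * d ∧ (c * AmaxM i c d = 2 * d → sg i (AmaxM i c d) = -1) :=
  omeamaxadm_core i c d hd hi1 hc

end Cfsg.Agent.Lib.helper8.OME
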