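import Mathlib
import Cfsg.Agent.Lib.Helper27.OrderPCube2
import Cfsg.Agent.Lib.Helper1.Frat
import Cfsg.Agent.Lib.Helper1.Nilp
import Cfsg.Agent.Lib.Helper1.BurnsideBasis

/-!
# Basic tools for the analysis of groups of order `p⁴`

* `le_center_of_normal_of_card_prime`: a normal subgroup of order `p` of a `p`-group is central.
* `commHom`: the commutator map with a fixed element, when its values are central.
* `prodIso_of_disjoint`: internal direct products.
* `split_central`: a central element of order `p` outside the Frattini subgroup splits off.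
* `mul_pow_of_class_two`: the `p`-th power map of a class two group with commutator subgroup of
  exponent `p` (`p` odd) is multiplicative.
-/

set_option autoImplicit false

namespace Cfsg.Agent.Lib.Helper27.P4Basic

open Cfsg.Agent.Lib.Helper27
open scoped commutatorElement

universe u

variable {K : Type u} [Group K]

theorem le_center_of_normal_of_card_prime [Finite K] {p : ℕ} [hp : Fact p.Prime]
    (hK : IsPGroup p K) (N : Subgroup K) [N.Normal] (hN : Nat.card N = p) :
    N ≤ Subgroup.center K := by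
  haveI := hK.isNilpotent
  have hNb : N ≠ ⊥ := by
    intro h
    rw [h, Subgroup.card_bot] at hN
    exact hp.out.one_lt.ne hN
  have h1 := Cfsg.Agent.Lib.Helper1.normal_inf_center_ne_bot N hNb
  have hd : Nat.card ↥(N ⊓ Subgroup.center K) ∣ p := by
    rw [← hN]
    exact Subgroup.card_dvd_of_le inf_le_left
  rcases (Nat.dvd_prime hp.out).mp hd with h | h
  · exact absurd (Subgroup.card_eq_one.mp h) h1
  · have : N ⊓ Subgroup.center K = N :=
      Subgroup.eq_of_le_of_card_ge inf_le_left (by rw [h, hN])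
    rw [← this]
    exact inf_le_right

/-- the commutator map with a fixed element, when all its values are central -/
def commHom (a : K) (h : ∀ x : K, x * a * x⁻¹ * a⁻¹ ∈ Subgroup.center K) : K →* K where
  toFun x := x * a * x⁻¹ * a⁻¹
  map_one' := by group
  map_mul' x y := by
    have hy := Subgroup.mem_center_iff.mp (h y)
    calc x * y * a * (x * y)⁻¹ * a⁻¹
        = x * ((y * a * y⁻¹ * a⁻¹) * (a * x⁻¹ * a⁻¹)) := by group
      _ = x * ((a * x⁻¹ * a⁻¹) * (y * a * y⁻¹ * a⁻¹)) := by rw [hy (a * x⁻¹ * a⁻¹)]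
      _ = x * a * x⁻¹ * a⁻¹ * (y * a * y⁻¹ * a⁻¹) := by group

theorem commHom_apply (a : K) (h : ∀ x : K, x * a * x⁻¹ * a⁻¹ ∈ Subgroup.center K) (x : K) :
    commHom a h x = x * a * x⁻¹ * a⁻¹ := rfl

theorem mem_ker_commHom (a : K) (h : ∀ x : K, x * a * x⁻¹ * a⁻¹ ∈ Subgroup.center K) (x : K) :
    x ∈ (commHom a h).ker ↔ x * a = a * x := by
  rw [MonoidHom.mem_ker, commHom_apply, mul_inv_eq_one, mul_inv_eq_iff_eq_mul]

theorem self_mem_ker_commHom (a : K) (h : ∀ x : K, x * a * x⁻¹ * a⁻¹ ∈ Subgroup.center K) :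
    a ∈ (commHom a h).ker := (mem_ker_commHom a h a).mpr rfl

theorem center_le_ker_commHom (a : K) (h : ∀ x : K, x * a * x⁻¹ * a⁻¹ ∈ Subgroup.center K) :
    Subgroup.center K ≤ (commHom a h).ker := by
  intro x hx
  rw [mem_ker_commHom]
  exact (Subgroup.mem_center_iff.mp hx a).symm

/-- if the commutators with `a` lie in a central subgroup of order `p` and `a` is not central, the
centralizer of `a` has index `p` -/
theorem card_ker_commHom [Finite K] {p : ℕ} [hp : Fact p.Prime] (a : K)
    (h : ∀ x : K, x * a * x⁻¹ * a⁻¹ ∈ Subgroup.center K) (Z₀ : Subgroup K)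
    (hZ₀ : Nat.card Z₀ = p) (hr : ∀ x : K, x * a * x⁻¹ * a⁻¹ ∈ Z₀)
    (ha : a ∉ Subgroup.center K) :
    Nat.card (commHom a h).ker * p = Nat.card K := by
  have h1 := card_ker_mul_card_range (commHom a h)
  have hle : (commHom a h).range ≤ Z₀ := by
    rintro _ ⟨x, rfl⟩
    exact hr x
  have hd : Nat.card (commHom a h).range ∣ p := by
    rw [← hZ₀]
    exact Subgroup.card_dvd_of_le hle
  rcases (Nat.dvd_prime hp.out).mp hd with h2 | h2
  · exfalso
    apply ha
    rw [Subgroup.mem_center_iff]
    intro g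
    have h3 := Subgroup.card_eq_one.mp h2
    have h4 : commHom a h g ∈ (commHom a h).range := ⟨g, rfl⟩
    rw [h3, Subgroup.mem_bot, ← MonoidHom.mem_ker, mem_ker_commHom] at h4
    exact h4
  · rw [h2] at h1
    exact h1

/-- internal direct products -/
theorem prodIso_of_disjoint [Finite K] (A B : Subgroup K)
    (hcomm : ∀ a ∈ A, ∀ b ∈ B, a * b = b * a) (hdisj : A ⊓ B = ⊥)
    (hcard : Nat.card A * Nat.card B = Nat.card K) : Nonempty (K ≃* A × B) := by
  let f : A × B →* K := MonoidHom.noncommCoprod A.subtype B.subtype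
    (fun a b => hcomm a a.2 b b.2)
  have hf : ∀ a : A, ∀ b : B, f (a, b) = (a : K) * (b : K) := fun a b => rfl
  have hinj : Function.Injective f := by
    rw [injective_iff_map_eq_one]
    rintro ⟨a, b⟩ hab
    rw [hf] at hab
    have h1 : (a : K) = (b : K)⁻¹ := eq_inv_of_mul_eq_one_left hab
    have h2 : (a : K) ∈ A ⊓ B := ⟨a.2, by rw [h1]; exact B.inv_mem b.2⟩
    rw [hdisj, Subgroup.mem_bot] at h2
    have h3 : (b : K) = 1 := by
      rw [h2, one_mul] at hab
      exact hab
    ext
    · exact h2
    · exact h3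
  have hbij : Function.Bijective f := by
    apply Function.Injective.bijective_of_nat_card_le hinj
    rw [Nat.card_prod, hcard]
  exact ⟨(MulEquiv.ofBijective f hbij).symm⟩

theorem card_multiplicative_zmod (n : ℕ) [NeZero n] : Nat.card (Multiplicative (ZMod n)) = n := by
  show Nat.card (ZMod n) = n
  rw [Nat.card_eq_fintype_card, ZMod.card]

/-- a central element of order `p` outside the Frattini subgroup generates a direct factor -/
theorem split_central [Finite K] {p : ℕ} [hp : Fact p.Prime] (hK : IsPGroup p K) (c : K)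
    (hc : c ∈ Subgroup.center K) (hcΦ : c ∉ frattini K) (hcp : c ^ p = 1) :
    ∃ M : Subgroup K, Nat.card M * p = Nat.card K ∧
      Nonempty (K ≃* M × Multiplicative (ZMod p)) := by
  have h1 : ∃ M : Subgroup K, IsCoatom M ∧ c ∉ M := by
    by_contra hcon
    push Not at hcon
    exact hcΦ ((Cfsg.Agent.Lib.Helper1.mem_frattini_iff c).mpr hcon)
  obtain ⟨M, hM, hcM⟩ := h1
  have hidx := Cfsg.Agent.Lib.Helper1.pgroup_coatom_index hK hM
  have hMc : Nat.card M * p = Nat.card K := by
    rw [← hidx]
    exact Subgroup.card_mul_index M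
  have hc1 : c ≠ 1 := fun h => hcM (h ▸ M.one_mem)
  have hord : orderOf c = p := orderOf_eq_prime hcp hc1
  have hzc : Nat.card (Subgroup.zpowers c) = p := by rw [Nat.card_zpowers, hord]
  have hdisj : M ⊓ Subgroup.zpowers c = ⊥ := by
    have hd : Nat.card ↥(M ⊓ Subgroup.zpowers c) ∣ p := by
      rw [← hzc]
      exact Subgroup.card_dvd_of_le inf_le_right
    rcases (Nat.dvd_prime hp.out).mp hd with h | h
    · exact Subgroup.card_eq_one.mp h
    · exfalso
      have : M ⊓ Subgroup.zpowers c = Subgroup.zpowers c :=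
        Subgroup.eq_of_le_of_card_ge inf_le_right (by rw [h, hzc])
      apply hcM
      have h3 : c ∈ M ⊓ Subgroup.zpowers c := by rw [this]; exact Subgroup.mem_zpowers c
      exact h3.1
  have hcomm : ∀ a ∈ M, ∀ b ∈ Subgroup.zpowers c, a * b = b * a := by
    intro a _ b hb
    have hbc : b ∈ Subgroup.center K := (Subgroup.zpowers_le.mpr hc) hb
    exact Subgroup.mem_center_iff.mp hbc a
  obtain ⟨e⟩ := prodIso_of_disjoint M (Subgroup.zpowers c) hcomm hdisj (by rw [hzc, hMc])
  haveI : NeZero p := ⟨hp.out.ne_zero⟩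
  have e2 : Subgroup.zpowers c ≃* Multiplicative (ZMod p) :=
    mulEquivOfPrimeCardEq (p := p) hzc (card_multiplicative_zmod p)
  exact ⟨M, hMc, ⟨e.trans (MulEquiv.prodCongr (MulEquiv.refl _) e2)⟩⟩

/-- in a group of class two whose commutators have `p`-th power one (`p` odd), the `p`-th power map
is multiplicative -/
theorem mul_pow_of_class_two {p : ℕ} (hodd : Odd p)
    (hcl : commutator K ≤ Subgroup.center K) (hexp : ∀ c ∈ commutator K, c ^ p = 1) (a b : K) :
    (a * b) ^ p = a ^ p * b ^ p := by
  have hcc : b⁻¹ * a⁻¹ * b * a ∈ commutator K := by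
    have : b⁻¹ * a⁻¹ * b * a = ⁅b⁻¹, a⁻¹⁆ := by
      rw [commutatorElement_def]; group
    rw [this]
    exact Subgroup.commutator_mem_commutator (Subgroup.mem_top _) (Subgroup.mem_top _)
  have hc : b⁻¹ * a⁻¹ * b * a ∈ Subgroup.center K := hcl hcc
  have h : b * a = a * b * (b⁻¹ * a⁻¹ * b * a) := by group
  rw [mul_pow_of_central hc h p]
  have hcp : (b⁻¹ * a⁻¹ * b * a) ^ p = 1 := hexp _ hcc
  obtain ⟨k, hk⟩ := hodd
  have hch : p.choose 2 = p * k := by
    rw [Nat.choose_two_right, hk]
    have : (2 * k + 1) * (2 * k + 1 - 1) = 2 * ((2 * k + 1) * k) := by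
      rw [Nat.add_sub_cancel]; ring
    rw [this, Nat.mul_div_cancel_left _ (by norm_num : 0 < 2)]
  rw [hch, pow_mul, hcp, one_pow, mul_one]

/-- the power map as a homomorphism, in the setting of `mul_pow_of_class_two` -/
def powHom {p : ℕ} (hodd : Odd p)
    (hcl : commutator K ≤ Subgroup.center K) (hexp : ∀ c ∈ commutator K, c ^ p = 1) : K →* K where
  toFun x := x ^ p
  map_one' := one_pow p
  map_mul' := mul_pow_of_class_two hodd hcl hexp

theorem comm_mem_commutator (x a : K) : x * a * x⁻¹ * a⁻¹ ∈ commutator K := by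
  have : x * a * x⁻¹ * a⁻¹ = ⁅x, a⁆ := by rw [commutatorElement_def]
  rw [this]
  exact Subgroup.commutator_mem_commutator (Subgroup.mem_top _) (Subgroup.mem_top _)

/-- a group generated by a central subgroup... more precisely: if `Y` is commutative-with-everything
and `Y ⊔ zpowers b = ⊤` then the group is commutative -/
theorem comm_of_center_sup_zpowers (Y : Subgroup K) (hY : Y ≤ Subgroup.center K) (b : K)
    (htop : Y ⊔ Subgroup.zpowers b = ⊤) : ∀ x y : K, x * y = y * x := by
  have hb : b ∈ Subgroup.center K := by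
    rw [Subgroup.mem_center_iff]
    intro g
    have hg : g ∈ Subgroup.centralizer ({b} : Set K) := by
      have hle : Y ⊔ Subgroup.zpowers b ≤ Subgroup.centralizer ({b} : Set K) := by
        rw [sup_le_iff]
        constructor
        · intro y hy
          rw [Subgroup.mem_centralizer_singleton_iff]
          exact (Subgroup.mem_center_iff.mp (hY hy) b).symm
        · rw [Subgroup.zpowers_le, Subgroup.mem_centralizer_singleton_iff]
      exact hle (htop ▸ Subgroup.mem_top g)
    rw [Subgroup.mem_centralizer_singleton_iff] at hg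
    exact hg
  have hall : (⊤ : Subgroup K) ≤ Subgroup.center K := by
    rw [← htop, sup_le_iff]
    exact ⟨hY, Subgroup.zpowers_le.mpr hb⟩
  intro x y
  exact (Subgroup.mem_center_iff.mp (hall (Subgroup.mem_top y)) x)

/-- a subgroup not containing a generator of a subgroup of prime order meets it trivially -/
theorem inf_zpowers_eq_bot [Finite K] {p : ℕ} [hp : Fact p.Prime] (M : Subgroup K) (c : K)
    (hzc : Nat.card (Subgroup.zpowers c) = p) (hcM : c ∉ M) : M ⊓ Subgroup.zpowers c = ⊥ := by
  have hd : Nat.card ↥(M ⊓ Subgroup.zpowers c) ∣ p := by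
    rw [← hzc]
    exact Subgroup.card_dvd_of_le inf_le_right
  rcases (Nat.dvd_prime hp.out).mp hd with h | h
  · exact Subgroup.card_eq_one.mp h
  · exfalso
    have : M ⊓ Subgroup.zpowers c = Subgroup.zpowers c :=
      Subgroup.eq_of_le_of_card_ge inf_le_right (by rw [h, hzc])
    apply hcM
    have h3 : c ∈ M ⊓ Subgroup.zpowers c := by rw [this]; exact Subgroup.mem_zpowers c
    exact h3.1

end Cfsg.Agent.Lib.Helper27.P4Basic
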