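import Mathlib
import Cfsg.Agent.Lib.Helper27.P4Basic
import Cfsg.Agent.Lib.Helper27.AbAut

/-!
# The abelian groups of order `p⁴` with Frattini subgroup of order `p`
-/

set_option autoImplicit false

namespace Cfsg.Agent.Lib.Helper27.P4Abelian

open Cfsg.Agent.Lib.Helper27 Cfsg.Agent.Lib.Helper27.P4Basic

universe u

variable {K : Type u} [CommGroup K]

/-- an elementary abelian group of order `p²` -/
theorem elemAb_sq_iso [Finite K] {p : ℕ} [hp : Fact p.Prime] (hcard : Nat.card K = p ^ 2)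
    (hexp : ∀ x : K, x ^ p = 1) :
    Nonempty (K ≃* Multiplicative (ZMod p) × Multiplicative (ZMod p)) := by
  have hp1 : 1 < p := hp.out.one_lt
  haveI : NeZero p := ⟨hp.out.ne_zero⟩
  have hnt : Nontrivial K := by
    rw [← Finite.one_lt_card_iff_nontrivial, hcard]
    exact Nat.one_lt_pow (by norm_num) hp1
  obtain ⟨b, hb⟩ := exists_ne (1 : K)
  have hob : orderOf b = p := orderOf_eq_prime (hexp b) hb
  have hzb : Nat.card (Subgroup.zpowers b) = p := by rw [Nat.card_zpowers, hob]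
  have h2 : ∃ c : K, c ∉ Subgroup.zpowers b := by
    by_contra hcon
    push Not at hcon
    have : Subgroup.zpowers b = ⊤ := by rw [eq_top_iff]; intro x _; exact hcon x
    rw [this, Subgroup.card_top, hcard] at hzb
    have : p < p ^ 2 := by nlinarith
    omega
  obtain ⟨c, hc⟩ := h2
  have hc1 : c ≠ 1 := fun h => hc (h ▸ Subgroup.one_mem _)
  have hoc : orderOf c = p := orderOf_eq_prime (hexp c) hc1
  have hzc : Nat.card (Subgroup.zpowers c) = p := by rw [Nat.card_zpowers, hoc]
  have hdisj : Subgroup.zpowers b ⊓ Subgroup.zpowers c = ⊥ := inf_zpowers_eq_bot _ c hzc hc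
  obtain ⟨e⟩ := prodIso_of_disjoint (Subgroup.zpowers b) (Subgroup.zpowers c)
    (fun x _ y _ => mul_comm x y) hdisj (by rw [hzb, hzc, hcard]; ring)
  exact ⟨e.trans (MulEquiv.prodCongr
    (mulEquivOfPrimeCardEq (p := p) hzb (card_multiplicative_zmod p))
    (mulEquivOfPrimeCardEq (p := p) hzc (card_multiplicative_zmod p)))⟩

theorem abelian_iso [Finite K] {p : ℕ} [hp : Fact p.Prime] (hcard : Nat.card K = p ^ 4)
    (hΦ : Nat.card (frattini K) = p) :
    Nonempty (K ≃* Multiplicative (ZMod (p ^ 2) × ZMod p × ZMod p)) := by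
  have hp1 : 1 < p := hp.out.one_lt
  have hppos : 0 < p := hp.out.pos
  haveI : NeZero p := ⟨hp.out.ne_zero⟩
  haveI : NeZero (p ^ 2) := ⟨pow_ne_zero _ hp.out.ne_zero⟩
  have hK : IsPGroup p K := IsPGroup.of_card hcard
  have hfr : frattini K = AbAut.pw p := AbAut.frattini_eq_pw hK
  have hkr := card_ker_mul_card_range (powMonoidHom p : K →* K)
  have hrange : Nat.card (powMonoidHom p : K →* K).range = p := by
    have h0 : Nat.card (frattini K) = Nat.card (powMonoidHom p : K →* K).range := by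
      rw [hfr]
      rfl
    rw [← h0, hΦ]
  rw [hrange, hcard] at hkr
  have hker : Nat.card (powMonoidHom p : K →* K).ker = p ^ 3 := by
    have : Nat.card (powMonoidHom p : K →* K).ker * p = p ^ 3 * p := by rw [hkr]; ring
    exact Nat.eq_of_mul_eq_mul_right hppos this
  -- an element of order `p²`
  have h1 : ∃ a : K, a ^ p ≠ 1 := by
    by_contra hcon
    push Not at hcon
    have : (powMonoidHom p : K →* K).range = ⊥ := by
      rw [eq_bot_iff]
      rintro _ ⟨x, rfl⟩
      rw [Subgroup.mem_bot]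
      exact hcon x
    rw [this, Subgroup.card_bot] at hrange
    omega
  obtain ⟨a, ha⟩ := h1
  have haΦ : a ^ p ∈ frattini K := Cfsg.Agent.Lib.Helper1.pgroup_pow_mem_frattini hK a
  have hap2 : a ^ p ^ 2 = 1 := by
    rw [pow_two, pow_mul]
    have := pow_card_subgroup_eq_one haΦ
    rw [hΦ] at this
    exact this
  have hoa : orderOf a = p ^ 2 := by
    have := orderOf_eq_prime_pow (p := p) (n := 1) (x := a) (by rw [pow_one]; exact ha)
      (by exact hap2)
    exact this
  have hzA : Nat.card (Subgroup.zpowers a) = p ^ 2 := by rw [Nat.card_zpowers, hoa]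
  have hoap : orderOf (a ^ p) = p := by
    apply orderOf_eq_prime _ ha
    rw [← pow_mul, ← pow_two]
    exact hap2
  have hzap : Nat.card (Subgroup.zpowers (a ^ p)) = p := by rw [Nat.card_zpowers, hoap]
  -- the complement
  set Om : Subgroup K := (powMonoidHom p : K →* K).ker with hOm
  have hOmexp : ∀ y : Om, y ^ p = 1 := by
    intro y
    apply Subtype.ext
    rw [Subgroup.coe_pow, Subgroup.coe_one]
    exact y.2
  have hapOm : a ^ p ∈ Om := by
    rw [hOm, MonoidHom.mem_ker]
    show (a ^ p) ^ p = 1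
    rw [← pow_mul, ← pow_two]
    exact hap2
  have hq : (⟨a ^ p, hapOm⟩ : Om) ≠ 1 := by
    intro h
    exact ha (congrArg Subtype.val h)
  obtain ⟨B₀, hB₀, hqB₀⟩ :=
    Cfsg.Agent.Lib.Helper1.exists_coatom_not_mem_of_elementary hOmexp _ hq
  have hOmp : IsPGroup p Om := hK.to_subgroup Om
  have hidx := Cfsg.Agent.Lib.Helper1.pgroup_coatom_index hOmp hB₀
  have hB₀c : Nat.card B₀ = p ^ 2 := by
    have h3 := Subgroup.card_mul_index B₀
    rw [hidx, hker] at h3
    have : Nat.card B₀ * p = p ^ 2 * p := by rw [h3]; ring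
    exact Nat.eq_of_mul_eq_mul_right hppos this
  set B : Subgroup K := B₀.map Om.subtype with hB
  have hBc : Nat.card B = p ^ 2 := by
    rw [hB, Subgroup.card_map_of_injective Om.subtype_injective, hB₀c]
  have hBOm : B ≤ Om := by
    rw [hB]
    exact Subgroup.map_subtype_le B₀
  have hapB : a ^ p ∉ B := by
    intro h
    rw [hB] at h
    obtain ⟨y, hy, hya⟩ := h
    apply hqB₀
    have : y = ⟨a ^ p, hapOm⟩ := Subtype.ext hya
    rw [← this]
    exact hy
  have hAOm : Subgroup.zpowers a ⊓ Om ≤ Subgroup.zpowers (a ^ p) := by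
    rintro x ⟨hxa, hxO⟩
    obtain ⟨i, rfl⟩ := Subgroup.mem_zpowers_iff.mp hxa
    have hxO' : (a ^ i) ^ p = 1 := hxO
    rw [← zpow_natCast, ← zpow_mul, ← orderOf_dvd_iff_zpow_eq_one, hoa] at hxO'
    have hdvd : (p : ℤ) ∣ i := by
      have h3 : ((p : ℤ)) * (p : ℤ) ∣ i * (p : ℤ) := by
        have : ((p ^ 2 : ℕ) : ℤ) = (p : ℤ) * (p : ℤ) := by push_cast; ring
        rw [← this]
        exact hxO'
      exact Int.dvd_of_mul_dvd_mul_right (by exact_mod_cast hp.out.ne_zero) h3
    obtain ⟨j, rfl⟩ := hdvd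
    rw [zpow_mul, zpow_natCast]
    exact Subgroup.zpow_mem _ (Subgroup.mem_zpowers _) j
  have hdisj : Subgroup.zpowers a ⊓ B = ⊥ := by
    have h3 : Subgroup.zpowers a ⊓ B ≤ B ⊓ Subgroup.zpowers (a ^ p) := by
      intro x hx
      exact ⟨hx.2, hAOm ⟨hx.1, hBOm hx.2⟩⟩
    rw [inf_zpowers_eq_bot B (a ^ p) hzap hapB] at h3
    exact le_bot_iff.mp h3
  obtain ⟨e⟩ := prodIso_of_disjoint (Subgroup.zpowers a) B
    (fun x _ y _ => mul_comm x y) hdisj (by rw [hzA, hBc, hcard]; ring)
  have hBexp : ∀ y : B, y ^ p = 1 := by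
    intro y
    apply Subtype.ext
    rw [Subgroup.coe_pow, Subgroup.coe_one]
    exact hBOm y.2
  obtain ⟨eB⟩ := elemAb_sq_iso hBc hBexp
  have eA : Subgroup.zpowers a ≃* Multiplicative (ZMod (p ^ 2)) :=
    mulEquivOfCyclicCardEq (by rw [hzA, card_multiplicative_zmod])
  have e3 : ↥(Subgroup.zpowers a) × ↥B ≃*
      Multiplicative (ZMod (p ^ 2)) × (Multiplicative (ZMod p) × Multiplicative (ZMod p)) :=
    MulEquiv.prodCongr eA eB
  have e4 : Multiplicative (ZMod (p ^ 2) × ZMod p × ZMod p) ≃*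
      Multiplicative (ZMod (p ^ 2)) × (Multiplicative (ZMod p) × Multiplicative (ZMod p)) :=
    (MulEquiv.prodMultiplicative (ZMod (p ^ 2)) (ZMod p × ZMod p)).trans
      (MulEquiv.prodCongr (MulEquiv.refl _) (MulEquiv.prodMultiplicative (ZMod p) (ZMod p)))
  exact ⟨(e.trans e3).trans e4.symm⟩

end Cfsg.Agent.Lib.Helper27.P4Abelian
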