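import Mathlib
import Cfsg.Agent.Lib.helper23.P4S.DefsC

set_option autoImplicit false
set_option linter.unusedVariables false

/-!
# Project P4C (designer helper23), row EVL (`ev_lower`): CORE on the statements of SL5, SL6, SL7, SL8.
-/

namespace Cfsg.Agent.Lib.helper23.P4S

open Matrix
open scoped Kronecker

/-- from `∀ k, g ^ k = 1 ↔ r ∣ 1 * k` the order of `g` is `r` -/
theorem p4cevl_order {G : Type*} [Group G] (g : G) (r c : ℕ) (hc : c = 1)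
    (h : ∀ k : ℕ, g ^ k = 1 ↔ r ∣ c * k) : orderOf g = r := by
  subst hc
  apply Nat.dvd_antisymm
  · apply orderOf_dvd_of_pow_eq_one
    rw [h r, one_mul]
  · have := (h (orderOf g)).mp (pow_orderOf_eq_one g)
    rwa [one_mul] at this

/-- `gcd 2 (2^n - 1) = 1` -/
theorem p4cevl_gcd (n : ℕ) (hn : 1 ≤ n) : Nat.gcd 2 (2 ^ n - 1) = 1 := by
  obtain ⟨m, rfl⟩ : ∃ m, n = m + 1 := ⟨n - 1, by omega⟩
  have h1 : 2 ^ (m + 1) - 1 = 2 * (2 ^ m - 1) + 1 := by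
    have : 1 ≤ 2 ^ m := Nat.one_le_two_pow
    rw [pow_succ]
    omega
  rw [h1]
  have : Nat.Coprime 2 (2 * (2 ^ m - 1) + 1) := by
    rw [Nat.coprime_two_left]
    exact ⟨_, rfl⟩
  exact this

theorem ev_lower_core {E : Type} [Field E] [Fintype E] [CharP E 2] (n : ℕ) (hn : 2 ≤ n)
    (hE : Fintype.card E = 2 ^ (2 * n))
    (hSL5 : ∀ A : Matrix.SpecialLinearGroup (Fin 2) E, A.1.trace ^ 2 ≠ 4 →
      ∃ r : ℕ, 0 < r ∧ ¬ r ∣ 2 ∧ orderOf A = r ∧ (r ∣ (2 ^ n) ^ 2 - 1 ∨ r ∣ (2 ^ n) ^ 2 + 1) ∧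
      (∀ k : ℕ, (rho2 (frq E 2 n) A) ^ k = 1 ↔ r ∣ Nat.gcd 2 (2 ^ n - 1) * k) ∧
      (gsum ((rho2 (frq E 2 n) A : GL (Fin 2 × Fin 2) E) : Matrix (Fin 2 × Fin 2) (Fin 2 × Fin 2) E)
          (orderOf (rho2 (frq E 2 n) A)) ≠ 0 ↔ (r ∣ 2 ^ n + 1 ∨ r ∣ 2 ^ n - 1)) ∧
      (frq E 2 n A.1.trace = A.1.trace → (r ∣ 2 ^ n - 1 ∨ r ∣ 2 ^ n + 1)))
    (hSL6 : ∀ A : Matrix.SpecialLinearGroup (Fin 2) E, A.1.trace ^ 2 = 4 → orderOf A ∣ 2 * 2)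
    (hSL7 : ∀ r : ℕ, r ∣ (2 ^ n) ^ 2 - 1 → ¬ r ∣ 2 →
      ∃ a : Eˣ, orderOf a = r ∧ ∃ A : Matrix.SpecialLinearGroup (Fin 2) E,
        A.1 = Matrix.diagonal ![(a : E), ((a⁻¹ : Eˣ) : E)] ∧ orderOf A = r ∧ A.1.trace ^ 2 ≠ 4)
    (hSL8 : ∃ A : Matrix.SpecialLinearGroup (Fin 2) E, orderOf A = (2 ^ n) ^ 2 + 1) :
    (∃ g ∈ H2 (frq E 2 n), orderOf g = (2 ^ n) ^ 2 + 1) ∧ (∃ g ∈ H2 (frq E 2 n), orderOf g = (2 ^ n) ^ 2 - 1) ∧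
      (∃ g ∈ H2 (frq E 2 n), orderOf g = 2 ^ n + 1 ∧
        gsum ((g : GL (Fin 2 × Fin 2) E) : Matrix (Fin 2 × Fin 2) (Fin 2 × Fin 2) E) (orderOf g) ≠ 0) ∧
      (∃ g ∈ H2 (frq E 2 n), orderOf g = 2 ^ n - 1 ∧
        gsum ((g : GL (Fin 2 × Fin 2) E) : Matrix (Fin 2 × Fin 2) (Fin 2 × Fin 2) E) (orderOf g) ≠ 0) := by
  have hgcd : Nat.gcd 2 (2 ^ n - 1) = 1 := p4cevl_gcd n (by omega)
  -- `q = 2^n ≥ 4`
  have hq4 : 4 ≤ 2 ^ n := by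
    calc 4 = 2 ^ 2 := by norm_num
      _ ≤ 2 ^ n := Nat.pow_le_pow_right (by norm_num) hn
  obtain ⟨m, hm⟩ : ∃ m, 2 ^ n = m + 4 := ⟨2 ^ n - 4, by omega⟩
  have hsq : (2 ^ n) ^ 2 - 1 = (2 ^ n - 1) * (2 ^ n + 1) := by
    rw [hm]
    have e1 : (m + 4) ^ 2 - 1 = m * m + 8 * m + 15 := by
      have : (m + 4) ^ 2 = m * m + 8 * m + 16 := by ring
      omega
    have e2 : m + 4 - 1 = m + 3 := by omega
    rw [e1, e2]
    ring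
  -- the key: an `A` with `tr² ≠ 4` gives `g = ρ₂ A` of the same order, and the `gsum` criterion
  have key : ∀ A : Matrix.SpecialLinearGroup (Fin 2) E, A.1.trace ^ 2 ≠ 4 →
      rho2 (frq E 2 n) A ∈ H2 (frq E 2 n) ∧ orderOf (rho2 (frq E 2 n) A) = orderOf A ∧
      ((orderOf A ∣ 2 ^ n + 1 ∨ orderOf A ∣ 2 ^ n - 1) →
        gsum ((rho2 (frq E 2 n) A : GL (Fin 2 × Fin 2) E) : Matrix (Fin 2 × Fin 2) (Fin 2 × Fin 2) E)
          (orderOf (rho2 (frq E 2 n) A)) ≠ 0) := by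
    intro A htr
    obtain ⟨r, hr0, hr2, hrA, hrd, hpow, hsum, -⟩ := hSL5 A htr
    refine ⟨⟨A, rfl⟩, ?_, ?_⟩
    · rw [hrA]
      exact p4cevl_order _ r _ hgcd hpow
    · intro h
      rw [hrA] at h
      exact hsum.mpr h
  refine ⟨?_, ?_, ?_, ?_⟩
  · obtain ⟨A, hA⟩ := hSL8
    have htr : A.1.trace ^ 2 ≠ 4 := by
      intro h4
      have := hSL6 A h4
      rw [hA] at this
      have hle := Nat.le_of_dvd (by norm_num) this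
      have : 16 ≤ (2 ^ n) ^ 2 := by nlinarith
      omega
    obtain ⟨hmem, hord, -⟩ := key A htr
    exact ⟨_, hmem, by rw [hord, hA]⟩
  · have hn2 : ¬ ((2 ^ n) ^ 2 - 1) ∣ 2 := by
      intro h
      have hle := Nat.le_of_dvd (by norm_num) h
      have : 16 ≤ (2 ^ n) ^ 2 := by nlinarith
      omega
    obtain ⟨a, ha, A, hAd, hA, htr⟩ := hSL7 _ dvd_rfl hn2
    obtain ⟨hmem, hord, -⟩ := key A htr
    exact ⟨_, hmem, by rw [hord, hA]⟩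
  · have hn2 : ¬ (2 ^ n + 1) ∣ 2 := by
      intro h
      have hle := Nat.le_of_dvd (by norm_num) h
      omega
    obtain ⟨a, ha, A, hAd, hA, htr⟩ := hSL7 (2 ^ n + 1) (by rw [hsq]; exact dvd_mul_left _ _) hn2
    obtain ⟨hmem, hord, hs⟩ := key A htr
    exact ⟨_, hmem, by rw [hord, hA], hs (Or.inl (by rw [hA]))⟩
  · have hn2 : ¬ (2 ^ n - 1) ∣ 2 := by
      intro h
      have hle := Nat.le_of_dvd (by norm_num) h
      omega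
    obtain ⟨a, ha, A, hAd, hA, htr⟩ := hSL7 (2 ^ n - 1) (by rw [hsq]; exact dvd_mul_right _ _) hn2
    obtain ⟨hmem, hord, hs⟩ := key A htr
    exact ⟨_, hmem, by rw [hord, hA], hs (Or.inr (by rw [hA]))⟩

end Cfsg.Agent.Lib.helper23.P4S
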