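import Mathlib
import Cfsg.Agent.Lib.helper23.P4S.DefsC
import Cfsg.Agent.Lib.Helper27.P4CEVLcore
import Cfsg.Agent.Lib.helper23.P4CSL5
import Cfsg.Agent.Lib.Helper24.P4CSL6
import Cfsg.Agent.Lib.Helper22.P4CSL7
import Cfsg.Agent.Lib.Helper20.P4CSL8

set_option autoImplicit false
set_option linter.unusedVariables false

/-!
# Project P4C (designer helper23), row EVL (`ev_lower`), VERBATIM: `ev_lower_core` on the landed rows SL5 SL6 SL7 SL8.
-/

namespace Cfsg.Agent.Lib.helper23.P4S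

open Matrix
open scoped Kronecker

theorem ev_lower {E : Type} [Field E] [Fintype E] [CharP E 2] (n : ℕ) (hn : 2 ≤ n)
    (hE : Fintype.card E = 2 ^ (2 * n)) :
    (∃ g ∈ H2 (frq E 2 n), orderOf g = (2 ^ n) ^ 2 + 1) ∧ (∃ g ∈ H2 (frq E 2 n), orderOf g = (2 ^ n) ^ 2 - 1) ∧
      (∃ g ∈ H2 (frq E 2 n), orderOf g = 2 ^ n + 1 ∧
        gsum ((g : GL (Fin 2 × Fin 2) E) : Matrix (Fin 2 × Fin 2) (Fin 2 × Fin 2) E) (orderOf g) ≠ 0) ∧
      (∃ g ∈ H2 (frq E 2 n), orderOf g = 2 ^ n - 1 ∧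
        gsum ((g : GL (Fin 2 × Fin 2) E) : Matrix (Fin 2 × Fin 2) (Fin 2 × Fin 2) E) (orderOf g) ≠ 0) :=
  ev_lower_core n hn hE
    (fun A htr => rho2_ss 2 n (by omega) hE A htr)
    (fun A h => sl2_uni_order 2 A h)
    (fun r hr h2 => exists_split 2 n (by omega) hE r hr h2)
    (exists_nonsplit 2 n (by omega) hE)

end Cfsg.Agent.Lib.helper23.P4S
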