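import Mathlib
import Cfsg.Agent.Lib.helper23.P4S.DefsC

set_option autoImplicit false
set_option linter.unusedVariables false

/-!
# Project P4C (designer helper23), row P5IN (`p5_inner`): CORE on the statements of SL5, R3, NILP.
-/

namespace Cfsg.Agent.Lib.helper23.P4S

open Matrix
open scoped Kronecker

/-- an odd prime power `q = 2 j + 1`: the arithmetic of `InT4` -/
theorem p4cp5in_arith (p n : ℕ) (hp : p.Prime) (hp2 : p ≠ 2) :
    ∃ j : ℕ, p ^ n = 2 * j + 1 ∧ Nat.gcd 2 (p ^ n - 1) = 2 ∧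
      (p ^ n) ^ 2 - 1 = 2 * (((p ^ n) ^ 2 - 1) / 2) ∧ (p ^ n) ^ 2 + 1 = 2 * (((p ^ n) ^ 2 + 1) / 2) := by
  have hodd : Odd (p ^ n) := (hp.odd_of_ne_two hp2).pow
  obtain ⟨j, hj⟩ := hodd
  refine ⟨j, hj, ?_, ?_, ?_⟩
  · rw [hj]
    have : 2 * j + 1 - 1 = 2 * j := by omega
    rw [this]
    exact Nat.gcd_mul_right_right j 2 |> fun h => by simpa [Nat.mul_comm] using Nat.gcd_eq_left (dvd_mul_right 2 j)
  · rw [hj]
    have e : (2 * j + 1) ^ 2 - 1 = 2 * (2 * j * j + 2 * j) := by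
      have : (2 * j + 1) ^ 2 = 2 * (2 * j * j + 2 * j) + 1 := by ring
      omega
    rw [e, Nat.mul_div_cancel_left _ (by norm_num : 0 < 2)]
  · rw [hj]
    have e : (2 * j + 1) ^ 2 + 1 = 2 * (2 * j * j + 2 * j + 1) := by ring
    rw [e, Nat.mul_div_cancel_left _ (by norm_num : 0 < 2)]

theorem p5_inner_core {E : Type} [Field E] [Fintype E] (p : ℕ) [Fact p.Prime] [CharP E p] (hp : 5 ≤ p) (n : ℕ) (hn : 1 ≤ n)
    (hE : Fintype.card E = p ^ (2 * n)) (A : Matrix.SpecialLinearGroup (Fin 2) E)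
    (hSL5 : A.1.trace ^ 2 ≠ 4 →
      ∃ r : ℕ, 0 < r ∧ ¬ r ∣ 2 ∧ orderOf A = r ∧ (r ∣ (p ^ n) ^ 2 - 1 ∨ r ∣ (p ^ n) ^ 2 + 1) ∧
      (∀ k : ℕ, (rho2 (frq E p n) A) ^ k = 1 ↔ r ∣ Nat.gcd 2 (p ^ n - 1) * k) ∧
      (gsum ((rho2 (frq E p n) A : GL (Fin 2 × Fin 2) E) : Matrix (Fin 2 × Fin 2) (Fin 2 × Fin 2) E)
          (orderOf (rho2 (frq E p n) A)) ≠ 0 ↔ (r ∣ p ^ n + 1 ∨ r ∣ p ^ n - 1)) ∧
      (frq E p n A.1.trace = A.1.trace → (r ∣ p ^ n - 1 ∨ r ∣ p ^ n + 1)))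
    (hR3 : A.1.trace ^ 2 = 4 → (rho2M (frq E p n) A.1 - 1) ^ 3 = 0)
    (hNILP : ∀ M : Matrix (Fin 2 × Fin 2) (Fin 2 × Fin 2) E, (M - 1) ^ 3 = 0 → M ^ p = 1 ∧ gsum M p = 0) :
    InT4 p (p ^ n) (orderOf (rho2 (frq E p n) A)) ∧
      (gsum ((rho2 (frq E p n) A : GL (Fin 2 × Fin 2) E) : Matrix (Fin 2 × Fin 2) (Fin 2 × Fin 2) E)
          (orderOf (rho2 (frq E p n) A)) ≠ 0 → InT4 p (p ^ n) (p * orderOf (rho2 (frq E p n) A))) := by
  have hpp : p.Prime := Fact.out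
  have hp2 : p ≠ 2 := by omega
  obtain ⟨j, hj, hgcd, hm1, hp1⟩ := p4cp5in_arith p n hpp hp2
  by_cases htr : A.1.trace ^ 2 = 4
  · -- unipotent case
    obtain ⟨hMp, hMs⟩ := hNILP _ (hR3 htr)
    have hgp : (rho2 (frq E p n) A) ^ p = 1 := by
      apply Units.ext
      rw [Units.val_pow_eq_pow_val, rho2_coe, hMp]
      rfl
    have hdvd : orderOf (rho2 (frq E p n) A) ∣ p := orderOf_dvd_of_pow_eq_one hgp
    rcases (Nat.dvd_prime hpp).mp hdvd with h1 | h1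
    · rw [h1]
      refine ⟨Or.inl (one_dvd _), fun _ => ?_⟩
      right; right; left
      rw [mul_one]
      exact dvd_mul_right _ _
    · rw [h1]
      refine ⟨?_, fun h => ?_⟩
      · right; right; left
        exact dvd_mul_right _ _
      · exfalso
        apply h
        rw [rho2_coe]
        exact hMs
  · -- semisimple case
    obtain ⟨r, hr0, hr2, hrA, hrd, hpow, hsum, -⟩ := hSL5 htr
    rw [hgcd] at hpow
    have hor : orderOf (rho2 (frq E p n) A) ∣ r := by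
      apply orderOf_dvd_of_pow_eq_one
      rw [hpow r]
      exact dvd_mul_left _ _
    refine ⟨?_, fun h => ?_⟩
    · rcases hrd with hd | hd
      · right; left
        rw [hgcd]
        apply orderOf_dvd_of_pow_eq_one
        rw [hpow, ← hm1]
        exact hd
      · left
        rw [hgcd]
        apply orderOf_dvd_of_pow_eq_one
        rw [hpow, ← hp1]
        exact hd
    · rcases hsum.mp h with hd | hd
      · right; right; left
        exact Nat.mul_dvd_mul_left p (dvd_trans hor hd)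
      · right; right; right; left
        exact Nat.mul_dvd_mul_left p (dvd_trans hor hd)

end Cfsg.Agent.Lib.helper23.P4S
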