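import Mathlib
import Cfsg.Agent.Lib.helper23.P4S.DefsC
import Cfsg.Agent.Lib.Helper27.P4CP5INcore
import Cfsg.Agent.Lib.helper23.P4CSL5
import Cfsg.Agent.Lib.Helper13.P4CR3
import Cfsg.Agent.Lib.helper15.P4CNILP

set_option autoImplicit false
set_option linter.unusedVariables false

/-!
# Project P4C (designer helper23), row P5IN (`p5_inner`), VERBATIM: `p5_inner_core` on the landed rows SL5 R3 NILP.
-/

namespace Cfsg.Agent.Lib.helper23.P4S

open Matrix
open scoped Kronecker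

theorem p5_inner {E : Type} [Field E] [Fintype E] (p : ℕ) [Fact p.Prime] [CharP E p] (hp : 5 ≤ p) (n : ℕ) (hn : 1 ≤ n)
    (hE : Fintype.card E = p ^ (2 * n)) (A : Matrix.SpecialLinearGroup (Fin 2) E) :
    InT4 p (p ^ n) (orderOf (rho2 (frq E p n) A)) ∧
      (gsum ((rho2 (frq E p n) A : GL (Fin 2 × Fin 2) E) : Matrix (Fin 2 × Fin 2) (Fin 2 × Fin 2) E)
          (orderOf (rho2 (frq E p n) A)) ≠ 0 → InT4 p (p ^ n) (p * orderOf (rho2 (frq E p n) A))) :=
  p5_inner_core p hp n hn hE A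
    (fun htr => rho2_ss p n hn hE A htr)
    (fun htr => (rho2M_uni (frq E p n) A.1 A.2 htr).1)
    (fun M hM => nil_order p hp M hM)

end Cfsg.Agent.Lib.helper23.P4S
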