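import Mathlib
import Cfsg.Agent.Lib.Helper27.P4Basic
import Cfsg.Agent.Lib.Helper1.Hall

/-!
# Nonabelian groups of order `p⁴` with Frattini quotient of order `p²`

They have a characteristic subgroup of index `p`.
-/

set_option autoImplicit false

namespace Cfsg.Agent.Lib.Helper27.P4TwoGen

open Cfsg.Agent.Lib.Helper27 Cfsg.Agent.Lib.Helper27.P4Basic
open scoped commutatorElement

universe u

variable {K : Type u} [Group K]

theorem commutator_char : (commutator K).Characteristic := by
  rw [commutator_def]
  infer_instance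

theorem commutator_ne_bot (hnc : ¬ ∀ a b : K, a * b = b * a) : commutator K ≠ ⊥ := by
  intro h
  apply hnc
  rw [commutator_def, Subgroup.commutator_eq_bot_iff_le_centralizer] at h
  intro a b
  have := h (Subgroup.mem_top a)
  rw [Subgroup.mem_centralizer_iff] at this
  exact (this b (Subgroup.mem_top b)).symm

theorem normal_of_le_center' (R : Subgroup K) (hR : R ≤ Subgroup.center K) : R.Normal := by
  constructor
  intro n hn g
  have := Subgroup.mem_center_iff.mp (hR hn) g
  rw [this, mul_inv_cancel_right]
  exact hn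

/-- the centre of a nonabelian group of order `p⁴` has order `p` or `p²` -/
theorem card_center [Finite K] {p : ℕ} [hp : Fact p.Prime] (hcard : Nat.card K = p ^ 4)
    (hnc : ¬ ∀ a b : K, a * b = b * a) :
    Nat.card (Subgroup.center K) = p ∨ Nat.card (Subgroup.center K) = p ^ 2 := by
  have hG : IsPGroup p K := IsPGroup.of_card hcard
  have hppos : 0 < p := hp.out.pos
  have hnt : Nontrivial K := by
    rw [← Finite.one_lt_card_iff_nontrivial, hcard]
    exact Nat.one_lt_pow (by norm_num) hp.out.one_lt
  have hZbot : ⊥ < Subgroup.center K := hG.bot_lt_center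
  have hdvd : Nat.card (Subgroup.center K) ∣ p ^ 4 := by
    rw [← hcard]; exact Subgroup.card_subgroup_dvd_card _
  obtain ⟨i, hi, hZi⟩ := (Nat.dvd_prime_pow hp.out).mp hdvd
  have hquot := Subgroup.card_eq_card_quotient_mul_card_subgroup (Subgroup.center K)
  rw [hcard, hZi] at hquot
  interval_cases i
  · exfalso
    rw [pow_zero] at hZi
    rw [Subgroup.card_eq_one.mp hZi] at hZbot
    exact lt_irrefl _ hZbot
  · left; rw [hZi, pow_one]
  · right; exact hZi
  · exfalso
    apply hnc
    have hq : Nat.card (K ⧸ Subgroup.center K) = p := by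
      have : Nat.card (K ⧸ Subgroup.center K) * p ^ 3 = p * p ^ 3 := by rw [← hquot]; ring
      exact Nat.eq_of_mul_eq_mul_right (pow_pos hppos 3) this
    exact comm_of_cyclic_center_quotient (isCyclic_of_prime_card hq)
  · exfalso
    apply hnc
    have htop : Subgroup.center K = ⊤ :=
      (Subgroup.card_eq_iff_eq_top _).mp (by rw [hZi, hcard])
    have := Subgroup.center_eq_top_iff.mp htop
    exact fun a b => this.is_comm.comm a b

/-- if the centre of a nonabelian group has index `p²` then all `p`-th powers are central -/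
theorem pow_mem_center [Finite K] {p : ℕ} [hp : Fact p.Prime]
    (hq : Nat.card (K ⧸ Subgroup.center K) = p ^ 2)
    (hnc : ¬ ∀ a b : K, a * b = b * a) (x : K) : x ^ p ∈ Subgroup.center K := by
  rw [← QuotientGroup.eq_one_iff, QuotientGroup.mk_pow, ← orderOf_dvd_iff_pow_eq_one]
  have hd : orderOf (x : K ⧸ Subgroup.center K) ∣ p ^ 2 := by
    rw [← hq]; exact orderOf_dvd_natCard _
  obtain ⟨j, hj, hoj⟩ := (Nat.dvd_prime_pow hp.out).mp hd
  interval_cases j
  · rw [hoj, pow_zero]; exact one_dvd p
  · rw [hoj, pow_one]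
  · exfalso
    apply hnc
    exact comm_of_cyclic_center_quotient (isCyclic_of_orderOf_eq_card _ (by rw [hoj, hq]))

theorem card_eq_of_pow_le [Finite K] {p : ℕ} [hp : Fact p.Prime] {n : ℕ}
    (hcard : Nat.card K = p ^ (n + 1)) (H Y : Subgroup K) (hY : Nat.card Y = p ^ n)
    (hYH : Y ≤ H) (hH : H ≠ ⊤) : Nat.card H = p ^ n := by
  have hdvd : Nat.card H ∣ p ^ (n + 1) := by
    rw [← hcard]; exact Subgroup.card_subgroup_dvd_card _
  obtain ⟨i, hi, hHi⟩ := (Nat.dvd_prime_pow hp.out).mp hdvd
  have h1 : p ^ n ∣ p ^ i := by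
    rw [← hY, ← hHi]; exact Subgroup.card_dvd_of_le hYH
  have h2 : n ≤ i := (Nat.pow_dvd_pow_iff_le_right hp.out.one_lt).mp h1
  have h3 : i ≠ n + 1 := by
    intro h
    apply hH
    exact (Subgroup.card_eq_iff_eq_top _).mp (by rw [hHi, hcard, h])
  have : i = n := by omega
  rw [hHi, this]

/-- a class two group of order `p⁴` has commutator subgroup of order `p` -/
theorem card_commutator_of_class_two [Finite K] {p : ℕ} [hp : Fact p.Prime]
    (hcard : Nat.card K = p ^ 4) (hnc : ¬ ∀ a b : K, a * b = b * a)
    (hcl : commutator K ≤ Subgroup.center K) : Nat.card (commutator K) = p := by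
  have hK : IsPGroup p K := IsPGroup.of_card hcard
  have hppos : 0 < p := hp.out.pos
  have hne : commutator K ≠ ⊥ := commutator_ne_bot hnc
  have hprime_of_le : ∀ R : Subgroup K, Nat.card R = p → commutator K ≤ R →
      Nat.card (commutator K) = p := by
    intro R hR hle
    have hd : Nat.card (commutator K) ∣ p := by
      rw [← hR]; exact Subgroup.card_dvd_of_le hle
    rcases (Nat.dvd_prime hp.out).mp hd with h | h
    · exact absurd (Subgroup.card_eq_one.mp h) hne
    · exact h
  rcases card_center hcard hnc with hZ | hZ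
  · exact hprime_of_le _ hZ hcl
  · have hquot := Subgroup.card_eq_card_quotient_mul_card_subgroup (Subgroup.center K)
    rw [hcard, hZ] at hquot
    have hq : Nat.card (K ⧸ Subgroup.center K) = p ^ 2 := by
      have : Nat.card (K ⧸ Subgroup.center K) * p ^ 2 = p ^ 2 * p ^ 2 := by rw [← hquot]; ring
      exact Nat.eq_of_mul_eq_mul_right (pow_pos hppos 2) this
    have hΦZ : frattini K ≤ Subgroup.center K :=
      Cfsg.Agent.Lib.Helper1.frattini_le_of_elementary_quotient (p := p) (Subgroup.center K) hcl
        (pow_mem_center hq hnc)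
    have h1 : ∃ a : K, a ∉ Subgroup.center K := by
      by_contra hcon
      push Not at hcon
      apply hnc
      intro a b
      exact (Subgroup.mem_center_iff.mp (hcon b) a)
    obtain ⟨a, ha⟩ := h1
    have hYc : Nat.card (Subgroup.center K ⊔ Subgroup.zpowers a : Subgroup K) = p ^ 3 := by
      rw [Cfsg.Agent.Lib.Helper1.card_sup_zpowers_of_not_mem hK _ hΦZ a ha, hZ]
      ring
    have hcen : ∀ x : K, x * a * x⁻¹ * a⁻¹ ∈ Subgroup.center K :=
      fun x => hcl (comm_mem_commutator x a)
    have hYker : Subgroup.center K ⊔ Subgroup.zpowers a ≤ (commHom a hcen).ker := by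
      rw [sup_le_iff]
      exact ⟨center_le_ker_commHom a hcen, Subgroup.zpowers_le.mpr (self_mem_ker_commHom a hcen)⟩
    have hkertop : (commHom a hcen).ker ≠ ⊤ := by
      intro h
      apply ha
      rw [Subgroup.mem_center_iff]
      intro g
      have : g ∈ (commHom a hcen).ker := by rw [h]; exact Subgroup.mem_top g
      exact (mem_ker_commHom a hcen g).mp this
    have hkerc : Nat.card (commHom a hcen).ker = p ^ 3 :=
      card_eq_of_pow_le hcard _ _ hYc hYker hkertop
    have hrc : Nat.card (commHom a hcen).range = p := by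
      have := card_ker_mul_card_range (commHom a hcen)
      rw [hkerc, hcard] at this
      have h4 : p ^ 3 * Nat.card (commHom a hcen).range = p ^ 3 * p := by rw [this]; ring
      exact Nat.eq_of_mul_eq_mul_left (pow_pos hppos 3) h4
    have hRZ : (commHom a hcen).range ≤ Subgroup.center K := by
      rintro _ ⟨x, rfl⟩
      exact hcen x
    haveI hRn : (commHom a hcen).range.Normal := normal_of_le_center' _ hRZ
    apply hprime_of_le _ hrc
    -- the quotient by the range is commutative
    have h2 : ∃ b : K, b ∉ (commHom a hcen).ker := by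
      by_contra hcon
      push Not at hcon
      apply hkertop
      rw [eq_top_iff]
      intro x _
      exact hcon x
    obtain ⟨b, hb⟩ := h2
    have hbY : b ∉ Subgroup.center K ⊔ Subgroup.zpowers a := fun h => hb (hYker h)
    have htop : (Subgroup.center K ⊔ Subgroup.zpowers a) ⊔ Subgroup.zpowers b = ⊤ := by
      apply (Subgroup.card_eq_iff_eq_top _).mp
      rw [Cfsg.Agent.Lib.Helper1.card_sup_zpowers_of_not_mem hK _ (hΦZ.trans le_sup_left) b hbY,
        hYc, hcard]
      ring
    set R := (commHom a hcen).range with hR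
    have hYcen : (Subgroup.center K ⊔ Subgroup.zpowers a).map (QuotientGroup.mk' R) ≤
        Subgroup.center (K ⧸ R) := by
      rw [Subgroup.map_le_iff_le_comap, sup_le_iff]
      constructor
      · intro z hz
        rw [Subgroup.mem_comap, Subgroup.mem_center_iff]
        intro g
        obtain ⟨g, rfl⟩ := QuotientGroup.mk'_surjective R g
        rw [← map_mul, ← map_mul, Subgroup.mem_center_iff.mp hz g]
      · rw [Subgroup.zpowers_le, Subgroup.mem_comap, Subgroup.mem_center_iff]
        intro g
        obtain ⟨g, rfl⟩ := QuotientGroup.mk'_surjective R g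
        rw [← map_mul, ← map_mul]
        have e : g * a = (g * a * g⁻¹ * a⁻¹) * (a * g) := by group
        rw [e, map_mul]
        have h3 : (QuotientGroup.mk' R) (g * a * g⁻¹ * a⁻¹) = 1 := by
          rw [QuotientGroup.mk'_apply, QuotientGroup.eq_one_iff]
          exact ⟨g, rfl⟩
        rw [h3, one_mul]
    have htop' : (Subgroup.center K ⊔ Subgroup.zpowers a).map (QuotientGroup.mk' R) ⊔
        Subgroup.zpowers ((QuotientGroup.mk' R) b) = ⊤ := by
      rw [← MonoidHom.map_zpowers, ← Subgroup.map_sup, htop,
        Subgroup.map_top_of_surjective _ (QuotientGroup.mk'_surjective R)]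
    have hcomm := comm_of_center_sup_zpowers _ hYcen _ htop'
    have hc : IsMulCommutative (K ⧸ R) := ⟨⟨hcomm⟩⟩
    exact (Subgroup.Normal.quotient_commutative_iff_commutator_le).mp hc

/-- the class two case -/
theorem exists_char_of_class_two [Finite K] {p : ℕ} [hp : Fact p.Prime]
    (hcard : Nat.card K = p ^ 4) (hΦ : Nat.card (frattini K) = p ^ 2)
    (hnc : ¬ ∀ a b : K, a * b = b * a) (hcl : commutator K ≤ Subgroup.center K) :
    ∃ K₁ : Subgroup K, K₁.Characteristic ∧ frattini K ≤ K₁ ∧ Nat.card K₁ = p ^ 3 := by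
  have hK : IsPGroup p K := IsPGroup.of_card hcard
  have hppos : 0 < p := hp.out.pos
  have hp1 : 1 < p := hp.out.one_lt
  have hKc : Nat.card (commutator K) = p := card_commutator_of_class_two hcard hnc hcl
  have hKΦ : commutator K ≤ frattini K := Cfsg.Agent.Lib.Helper1.pgroup_commutator_le_frattini hK
  let P : K →* K ⧸ commutator K :=
    { toFun := fun x => (QuotientGroup.mk' (commutator K)) (x ^ p)
      map_one' := by rw [one_pow, map_one]
      map_mul' := by
        intro a b
        have hcc : b⁻¹ * a⁻¹ * b * a ∈ commutator K := by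
          have : b⁻¹ * a⁻¹ * b * a = ⁅b⁻¹, a⁻¹⁆ := by
            rw [commutatorElement_def]; group
          rw [this]
          exact Subgroup.commutator_mem_commutator (Subgroup.mem_top _) (Subgroup.mem_top _)
        have h : b * a = a * b * (b⁻¹ * a⁻¹ * b * a) := by group
        rw [mul_pow_of_central (hcl hcc) h p, map_mul, map_mul]
        have h3 : (QuotientGroup.mk' (commutator K)) ((b⁻¹ * a⁻¹ * b * a) ^ p.choose 2) = 1 := by
          rw [QuotientGroup.mk'_apply, QuotientGroup.eq_one_iff]
          exact Subgroup.pow_mem _ hcc _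
        rw [h3, mul_one] }
  have hP : ∀ x : K, P x = (QuotientGroup.mk' (commutator K)) (x ^ p) := fun x => rfl
  have hmem : ∀ x : K, x ∈ P.ker ↔ x ^ p ∈ commutator K := by
    intro x
    rw [MonoidHom.mem_ker, hP, QuotientGroup.mk'_apply, QuotientGroup.eq_one_iff]
  have hTc : Nat.card ((frattini K).map (QuotientGroup.mk' (commutator K))) = p := by
    have h1 := Cfsg.Agent.Lib.Helper1.card_map_mk'_of_le (frattini K) (commutator K) hKΦ
    rw [hKc, hΦ] at h1
    have : p * Nat.card ((frattini K).map (QuotientGroup.mk' (commutator K))) = p * p := by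
      rw [h1]; ring
    exact Nat.eq_of_mul_eq_mul_left hppos this
  have hrT : P.range ≤ (frattini K).map (QuotientGroup.mk' (commutator K)) := by
    rintro _ ⟨x, rfl⟩
    rw [hP]
    exact ⟨x ^ p, Cfsg.Agent.Lib.Helper1.pgroup_pow_mem_frattini hK x, rfl⟩
  have hrne : P.range ≠ ⊥ := by
    intro h
    have h1 : ∀ x : K, x ^ p ∈ commutator K := by
      intro x
      rw [← hmem, MonoidHom.mem_ker]
      have : P x ∈ P.range := ⟨x, rfl⟩
      rw [h, Subgroup.mem_bot] at this
      exact this
    have h2 := Cfsg.Agent.Lib.Helper1.frattini_le_of_elementary_quotient (p := p) (commutator K)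
      le_rfl h1
    have h3 := Nat.le_of_dvd Nat.card_pos (Subgroup.card_dvd_of_le h2)
    rw [hΦ, hKc] at h3
    have : p < p ^ 2 := by nlinarith
    omega
  have hrc : Nat.card P.range = p := by
    have hd : Nat.card P.range ∣ p := by
      rw [← hTc]; exact Subgroup.card_dvd_of_le hrT
    rcases (Nat.dvd_prime hp.out).mp hd with h | h
    · exact absurd (Subgroup.card_eq_one.mp h) hrne
    · exact h
  have hkc : Nat.card P.ker = p ^ 3 := by
    have h1 := Subgroup.card_mul_index P.ker
    rw [Subgroup.index_ker, hrc, hcard] at h1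
    have : Nat.card P.ker * p = p ^ 3 * p := by rw [h1]; ring
    exact Nat.eq_of_mul_eq_mul_right hppos this
  refine ⟨P.ker, ?_, ?_, hkc⟩
  · rw [Subgroup.characteristic_iff_le_comap]
    intro φ x hx
    rw [Subgroup.mem_comap, hmem]
    rw [hmem] at hx
    show (φ x) ^ p ∈ commutator K
    rw [← map_pow]
    have h1 := (Subgroup.characteristic_iff_le_comap.mp (commutator_char (K := K))) φ
    exact h1 hx
  · intro x hx
    rw [hmem]
    have h1 : (QuotientGroup.mk' (commutator K)) x ∈
        (frattini K).map (QuotientGroup.mk' (commutator K)) := ⟨x, hx, rfl⟩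
    have h2 := pow_card_subgroup_eq_one h1
    rw [hTc, ← map_pow, QuotientGroup.mk'_apply, QuotientGroup.eq_one_iff] at h2
    exact h2

/-- the case of larger class -/
theorem exists_char_of_not_class_two [Finite K] {p : ℕ} [hp : Fact p.Prime]
    (hcard : Nat.card K = p ^ 4) (hΦ : Nat.card (frattini K) = p ^ 2)
    (hncl : ¬ commutator K ≤ Subgroup.center K) :
    ∃ K₁ : Subgroup K, K₁.Characteristic ∧ frattini K ≤ K₁ ∧ Nat.card K₁ = p ^ 3 := by
  have hK : IsPGroup p K := IsPGroup.of_card hcard
  have hppos : 0 < p := hp.out.pos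
  have hp1 : 1 < p := hp.out.one_lt
  haveI := hK.isNilpotent
  have hKΦ : commutator K ≤ frattini K := Cfsg.Agent.Lib.Helper1.pgroup_commutator_le_frattini hK
  haveI hcn : (commutator K).Normal := inferInstance
  haveI hcc : (commutator K).Characteristic := commutator_char
  have hKc : Nat.card (commutator K) = p ^ 2 := by
    have hd : Nat.card (commutator K) ∣ p ^ 2 := by
      rw [← hΦ]; exact Subgroup.card_dvd_of_le hKΦ
    obtain ⟨i, hi, hci⟩ := (Nat.dvd_prime_pow hp.out).mp hd
    interval_cases i
    · exfalso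
      apply hncl
      rw [pow_zero] at hci
      rw [Subgroup.card_eq_one.mp hci]
      exact bot_le
    · exfalso
      apply hncl
      rw [pow_one] at hci
      exact le_center_of_normal_of_card_prime hK _ hci
    · exact hci
  have hKeq : commutator K = frattini K :=
    Subgroup.eq_of_le_of_card_ge hKΦ (by rw [hKc, hΦ])
  have hne : commutator K ≠ ⊥ := by
    intro h
    rw [h, Subgroup.card_bot] at hKc
    have : 1 < p ^ 2 := Nat.one_lt_pow (by norm_num) hp1
    omega
  set Z₀ : Subgroup K := commutator K ⊓ Subgroup.center K with hZ₀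
  have hZ₀ne : Z₀ ≠ ⊥ := Cfsg.Agent.Lib.Helper1.normal_inf_center_ne_bot _ hne
  have hZ₀c : Nat.card Z₀ = p := by
    have hd : Nat.card Z₀ ∣ p ^ 2 := by
      rw [← hKc]; exact Subgroup.card_dvd_of_le inf_le_left
    obtain ⟨i, hi, hci⟩ := (Nat.dvd_prime_pow hp.out).mp hd
    interval_cases i
    · exfalso
      rw [pow_zero] at hci
      exact hZ₀ne (Subgroup.card_eq_one.mp hci)
    · rw [hci, pow_one]
    · exfalso
      apply hncl
      have : Z₀ = commutator K := Subgroup.eq_of_le_of_card_ge inf_le_left (by rw [hci, hKc])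
      rw [← this]
      exact inf_le_right
  haveI hZ₀n : Z₀.Normal := Subgroup.normal_inf_normal _ _
  -- commutators with elements of the commutator subgroup lie in `Z₀`
  have hB3 : ∀ x : K, ∀ k ∈ commutator K, x * k * x⁻¹ * k⁻¹ ∈ Z₀ := by
    intro x k hk
    have hNn : ((commutator K).map (QuotientGroup.mk' Z₀)).Normal :=
      hcn.map _ (QuotientGroup.mk'_surjective Z₀)
    have hNc : Nat.card ((commutator K).map (QuotientGroup.mk' Z₀)) = p := by
      have h1 := Cfsg.Agent.Lib.Helper1.card_map_mk'_of_le (commutator K) Z₀ inf_le_left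
      rw [hZ₀c, hKc] at h1
      have : p * Nat.card ((commutator K).map (QuotientGroup.mk' Z₀)) = p * p := by
        rw [h1]; ring
      exact Nat.eq_of_mul_eq_mul_left hppos this
    have hQ : IsPGroup p (K ⧸ Z₀) := hK.to_quotient Z₀
    have hle := le_center_of_normal_of_card_prime hQ _ hNc
    have h2 : (QuotientGroup.mk' Z₀) k ∈ Subgroup.center (K ⧸ Z₀) :=
      hle (Subgroup.mem_map_of_mem _ hk)
    have h3 := Subgroup.mem_center_iff.mp h2 ((QuotientGroup.mk' Z₀) x)
    rw [← QuotientGroup.eq_one_iff]
    have h4 : ((x * k * x⁻¹ * k⁻¹ : K) : K ⧸ Z₀) =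
        (QuotientGroup.mk' Z₀) x * (QuotientGroup.mk' Z₀) k * ((QuotientGroup.mk' Z₀) x)⁻¹ *
          ((QuotientGroup.mk' Z₀) k)⁻¹ := by
      simp
    rw [h4, h3]
    group
  have h1 : ∃ k ∈ commutator K, k ∉ Z₀ := by
    by_contra hcon
    push Not at hcon
    apply hncl
    intro k hk
    exact (hcon k hk).2
  obtain ⟨k, hk, hkZ₀⟩ := h1
  have hkZ : k ∉ Subgroup.center K := fun h => hkZ₀ ⟨hk, h⟩
  have hcen : ∀ x : K, x * k * x⁻¹ * k⁻¹ ∈ Subgroup.center K := fun x => (hB3 x k hk).2
  have hkerc : Nat.card (commHom k hcen).ker = p ^ 3 := by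
    have h2 := card_ker_commHom k hcen Z₀ hZ₀c (fun x => hB3 x k hk) hkZ
    rw [hcard] at h2
    have : Nat.card (commHom k hcen).ker * p = p ^ 3 * p := by rw [h2]; ring
    exact Nat.eq_of_mul_eq_mul_right hppos this
  have hT : Z₀ ⊔ Subgroup.zpowers k = commutator K := by
    have hle : Z₀ ⊔ Subgroup.zpowers k ≤ commutator K :=
      sup_le inf_le_left (Subgroup.zpowers_le.mpr hk)
    have hd : Nat.card (Z₀ ⊔ Subgroup.zpowers k : Subgroup K) ∣ p ^ 2 := by
      rw [← hKc]; exact Subgroup.card_dvd_of_le hle
    obtain ⟨i, hi, hci⟩ := (Nat.dvd_prime_pow hp.out).mp hd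
    have h2 : p ∣ p ^ i := by
      rw [← hci, ← hZ₀c]
      exact Subgroup.card_dvd_of_le le_sup_left
    interval_cases i
    · exfalso
      rw [pow_zero] at h2
      have := Nat.le_of_dvd one_pos h2
      omega
    · exfalso
      apply hkZ₀
      have : Z₀ = Z₀ ⊔ Subgroup.zpowers k :=
        Subgroup.eq_of_le_of_card_ge le_sup_left (by rw [hci, hZ₀c, pow_one])
      rw [this]
      exact Subgroup.mem_sup_right (Subgroup.mem_zpowers k)
    · exact Subgroup.eq_of_le_of_card_ge hle (by rw [hci, hKc])
  have hK₁ : Subgroup.centralizer (commutator K : Set K) = (commHom k hcen).ker := by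
    ext x
    rw [mem_ker_commHom, Subgroup.mem_centralizer_iff]
    constructor
    · intro h
      exact (h k hk).symm
    · intro h y hy
      have hle : Z₀ ⊔ Subgroup.zpowers k ≤ Subgroup.centralizer ({x} : Set K) := by
        rw [sup_le_iff]
        constructor
        · intro z hz
          rw [Subgroup.mem_centralizer_singleton_iff]
          exact (Subgroup.mem_center_iff.mp hz.2 x).symm
        · rw [Subgroup.zpowers_le, Subgroup.mem_centralizer_singleton_iff]
          exact h.symm
      rw [hT] at hle
      have := hle hy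
      rw [Subgroup.mem_centralizer_singleton_iff] at this
      exact this
  refine ⟨Subgroup.centralizer (commutator K : Set K), inferInstance, ?_, by rw [hK₁, hkerc]⟩
  rw [← hKeq]
  have hcm : IsMulCommutative (commutator K) :=
    IsPGroup.isMulCommutative_of_card_eq_prime_sq hKc
  intro x hx
  rw [Subgroup.mem_centralizer_iff]
  intro y hy
  have := hcm.is_comm.comm (⟨y, hy⟩ : commutator K) ⟨x, hx⟩
  exact congrArg Subtype.val this

theorem exists_char_of_two_gen [Finite K] {p : ℕ} [hp : Fact p.Prime]
    (hcard : Nat.card K = p ^ 4) (hΦ : Nat.card (frattini K) = p ^ 2)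
    (hnc : ¬ ∀ a b : K, a * b = b * a) :
    ∃ K₁ : Subgroup K, K₁.Characteristic ∧ frattini K ≤ K₁ ∧ Nat.card K₁ = p ^ 3 := by
  by_cases hcl : commutator K ≤ Subgroup.center K
  · exact exists_char_of_class_two hcard hΦ hnc hcl
  · exact exists_char_of_not_class_two hcard hΦ hcl

end Cfsg.Agent.Lib.Helper27.P4TwoGen
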