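import Mathlib
import Cfsg.Agent.Lib.Helper27.P4Basic
import Cfsg.Agent.Lib.Helper27.P4TwoGen
import Cfsg.Agent.Lib.Helper1.Hall

/-!
# Nonabelian groups of order `p⁴` with Frattini subgroup of order `p`
-/

set_option autoImplicit false

namespace Cfsg.Agent.Lib.Helper27.P4ThreeGen

open Cfsg.Agent.Lib.Helper27 Cfsg.Agent.Lib.Helper27.P4Basic Cfsg.Agent.Lib.Helper27.P4TwoGen
open scoped commutatorElement

universe u

variable {K : Type u} [Group K]

/-- a characteristic flag above the Frattini subgroup with steps of index `1` or `p` -/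
def HasFlag (p : ℕ) (K : Type u) [Group K] : Prop :=
  ∃ K₁ K₂ : Subgroup K, K₁.Characteristic ∧ K₂.Characteristic ∧ frattini K ≤ K₁ ∧ K₁ ≤ K₂ ∧
    (K₁ ≤ frattini K ∨ Nat.card K₁ = p * Nat.card (frattini K)) ∧
    (K₂ ≤ K₁ ∨ Nat.card K₂ = p * Nat.card K₁) ∧
    ((⊤ : Subgroup K) ≤ K₂ ∨ Nat.card K = p * Nat.card K₂)

/-- the commutator homomorphism in a class two group -/
def cHom (hcl : commutator K ≤ Subgroup.center K) (a : K) : K →* K :=
  commHom a (fun x => hcl (comm_mem_commutator x a))

theorem cHom_apply (hcl : commutator K ≤ Subgroup.center K) (a x : K) :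
    cHom hcl a x = x * a * x⁻¹ * a⁻¹ := rfl

theorem mem_ker_cHom (hcl : commutator K ≤ Subgroup.center K) (a x : K) :
    x ∈ (cHom hcl a).ker ↔ x * a = a * x := mem_ker_commHom a _ x

theorem center_le_ker_cHom (hcl : commutator K ≤ Subgroup.center K) (a : K) :
    Subgroup.center K ≤ (cHom hcl a).ker := center_le_ker_commHom a _

theorem cHom_mem_commutator (hcl : commutator K ≤ Subgroup.center K) (a x : K) :
    cHom hcl a x ∈ commutator K := comm_mem_commutator x a

theorem frattini_le_center [Finite K] {p : ℕ} [hp : Fact p.Prime] (hK : IsPGroup p K)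
    (hΦ : Nat.card (frattini K) = p) : frattini K ≤ Subgroup.center K := by
  haveI : (frattini K).Characteristic := frattini_characteristic
  exact le_center_of_normal_of_card_prime hK _ hΦ

theorem card_ker_cHom [Finite K] {p : ℕ} [hp : Fact p.Prime] (hcard : Nat.card K = p ^ 4)
    (hΦ : Nat.card (frattini K) = p) (hcl : commutator K ≤ Subgroup.center K) (a : K)
    (ha : a ∉ Subgroup.center K) : Nat.card (cHom hcl a).ker = p ^ 3 := by
  have hK : IsPGroup p K := IsPGroup.of_card hcard
  have h2 := card_ker_commHom a (fun x => hcl (comm_mem_commutator x a)) (frattini K) hΦ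
    (fun x => Cfsg.Agent.Lib.Helper1.pgroup_commutator_le_frattini hK (comm_mem_commutator x a)) ha
  rw [hcard] at h2
  have : Nat.card (cHom hcl a).ker * p = p ^ 3 * p := by
    rw [show p ^ 3 * p = p ^ 4 by ring]
    exact h2
  exact Nat.eq_of_mul_eq_mul_right hp.out.pos this

theorem ker_cHom_ne_top (hcl : commutator K ≤ Subgroup.center K) (a : K)
    (ha : a ∉ Subgroup.center K) : (cHom hcl a).ker ≠ ⊤ := by
  intro h
  apply ha
  rw [Subgroup.mem_center_iff]
  intro g
  have : g ∈ (cHom hcl a).ker := by rw [h]; exact Subgroup.mem_top g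
  exact (mem_ker_cHom hcl a g).mp this

theorem exists_not_mem_center (hnc : ¬ ∀ a b : K, a * b = b * a) :
    ∃ a : K, a ∉ Subgroup.center K := by
  by_contra hcon
  push Not at hcon
  apply hnc
  intro a b
  exact (Subgroup.mem_center_iff.mp (hcon b) a)

/-- the centre has order `p²` -/
theorem card_center_three_gen [Finite K] {p : ℕ} [hp : Fact p.Prime] (hcard : Nat.card K = p ^ 4)
    (hΦ : Nat.card (frattini K) = p) (hnc : ¬ ∀ a b : K, a * b = b * a) :
    Nat.card (Subgroup.center K) = p ^ 2 := by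
  have hK : IsPGroup p K := IsPGroup.of_card hcard
  have hppos : 0 < p := hp.out.pos
  have hp1 : 1 < p := hp.out.one_lt
  have hΦZ := frattini_le_center hK hΦ
  have hcl : commutator K ≤ Subgroup.center K :=
    (Cfsg.Agent.Lib.Helper1.pgroup_commutator_le_frattini hK).trans hΦZ
  rcases card_center hcard hnc with hZ | hZ
  swap
  · exact hZ
  exfalso
  obtain ⟨a, ha⟩ := exists_not_mem_center hnc
  have hCc := card_ker_cHom hcard hΦ hcl a ha
  set C := (cHom hcl a).ker with hC
  have haC : a ∈ C := (mem_ker_cHom hcl a a).mpr rfl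
  have hΦC : frattini K ≤ C := hΦZ.trans (center_le_ker_cHom hcl a)
  -- `C` is abelian
  have hCab : ∀ x y : C, x * y = y * x := by
    by_contra hCn
    obtain ⟨hZC, -, -⟩ := center_facts_of_nonabelian (K := ↥C) hCc hCn
    have haΦ : a ∉ frattini K := fun h => ha (hΦZ h)
    have hAc : Nat.card (frattini K ⊔ Subgroup.zpowers a : Subgroup K) = p ^ 2 := by
      rw [Cfsg.Agent.Lib.Helper1.card_sup_zpowers_of_not_mem hK _ le_rfl a haΦ, hΦ]
      ring
    have hAC : frattini K ⊔ Subgroup.zpowers a ≤ C := sup_le hΦC (Subgroup.zpowers_le.mpr haC)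
    have hAcen : (frattini K ⊔ Subgroup.zpowers a).subgroupOf C ≤ Subgroup.center ↥C := by
      intro y hy
      rw [Subgroup.mem_subgroupOf] at hy
      rw [Subgroup.mem_center_iff]
      intro c
      have hle : frattini K ⊔ Subgroup.zpowers a ≤ Subgroup.centralizer ({(c : K)} : Set K) := by
        rw [sup_le_iff]
        constructor
        · intro z hz
          rw [Subgroup.mem_centralizer_singleton_iff]
          exact (Subgroup.mem_center_iff.mp (hΦZ hz) c).symm
        · rw [Subgroup.zpowers_le, Subgroup.mem_centralizer_singleton_iff]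
          exact ((mem_ker_cHom hcl a c).mp c.2).symm
      have := hle hy
      rw [Subgroup.mem_centralizer_singleton_iff] at this
      exact Subtype.ext this.symm
    have h3 : Nat.card ((frattini K ⊔ Subgroup.zpowers a).subgroupOf C) = p ^ 2 := by
      rw [Nat.card_congr (Subgroup.subgroupOfEquivOfLe hAC).toEquiv, hAc]
    have h4 := Subgroup.card_dvd_of_le hAcen
    rw [h3, hZC] at h4
    have := Nat.le_of_dvd hppos h4
    have : p < p ^ 2 := by nlinarith
    omega
  have hCtop : C ≠ ⊤ := ker_cHom_ne_top hcl a ha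
  have h2 : ∃ b : K, b ∉ C := by
    by_contra hcon
    push Not at hcon
    apply hCtop
    rw [eq_top_iff]
    intro x _
    exact hcon x
  obtain ⟨b, hb⟩ := h2
  have htop : C ⊔ Subgroup.zpowers b = ⊤ := by
    apply (Subgroup.card_eq_iff_eq_top _).mp
    rw [Cfsg.Agent.Lib.Helper1.card_sup_zpowers_of_not_mem hK _ hΦC b hb, hCc, hcard]
    ring
  let f : C →* K := (cHom hcl b).comp C.subtype
  have hfr : f.range ≤ frattini K := by
    rintro _ ⟨x, rfl⟩
    exact Cfsg.Agent.Lib.Helper1.pgroup_commutator_le_frattini hK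
      (cHom_mem_commutator hcl b (x : K))
  have hkerZ : f.ker.map C.subtype ≤ Subgroup.center K := by
    rintro _ ⟨d, hd, rfl⟩
    rw [Subgroup.mem_center_iff]
    intro g
    have hdb : (d : K) * b = b * (d : K) := by
      have : (cHom hcl b) (d : K) = 1 := hd
      rw [← MonoidHom.mem_ker, mem_ker_cHom] at this
      exact this
    have hle : C ⊔ Subgroup.zpowers b ≤ Subgroup.centralizer ({(d : K)} : Set K) := by
      rw [sup_le_iff]
      constructor
      · intro c hc
        rw [Subgroup.mem_centralizer_singleton_iff]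
        exact congrArg Subtype.val (hCab ⟨c, hc⟩ d)
      · rw [Subgroup.zpowers_le, Subgroup.mem_centralizer_singleton_iff]
        exact hdb.symm
    rw [htop] at hle
    have := hle (Subgroup.mem_top g)
    rw [Subgroup.mem_centralizer_singleton_iff] at this
    exact this
  have h5 := Subgroup.card_mul_index f.ker
  rw [Subgroup.index_ker, hCc] at h5
  have hd : Nat.card f.range ∣ p := by
    rw [← hΦ]; exact Subgroup.card_dvd_of_le hfr
  have h6 : p ^ 2 ∣ Nat.card f.ker := by
    rcases (Nat.dvd_prime hp.out).mp hd with h | h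
    · rw [h, mul_one] at h5
      rw [h5]
      exact pow_dvd_pow p (by norm_num)
    · rw [h] at h5
      have : Nat.card f.ker * p = p ^ 2 * p := by rw [h5]; ring
      rw [Nat.eq_of_mul_eq_mul_right hppos this]
  have h7 : Nat.card (f.ker.map C.subtype) = Nat.card f.ker :=
    Subgroup.card_map_of_injective C.subtype_injective
  have h8 := Subgroup.card_dvd_of_le hkerZ
  rw [h7, hZ] at h8
  have := Nat.le_of_dvd hppos (h6.trans h8)
  have : p < p ^ 2 := by nlinarith
  omega

/-- if the centre (of order `p²`) is not cyclic, it has exponent `p` -/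
theorem center_exponent [Finite K] {p : ℕ} [hp : Fact p.Prime]
    (hZ : Nat.card (Subgroup.center K) = p ^ 2) (hcyc : ¬ IsCyclic (Subgroup.center K))
    (c : K) (hc : c ∈ Subgroup.center K) : c ^ p = 1 := by
  have h1 : orderOf (⟨c, hc⟩ : Subgroup.center K) ∣ p ^ 2 := by
    rw [← hZ]; exact orderOf_dvd_natCard _
  obtain ⟨j, hj, hoj⟩ := (Nat.dvd_prime_pow hp.out).mp h1
  have h2 : (⟨c, hc⟩ : Subgroup.center K) ^ p = 1 := by
    rw [← orderOf_dvd_iff_pow_eq_one]
    interval_cases j
    · rw [hoj, pow_zero]; exact one_dvd p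
    · rw [hoj, pow_one]
    · exfalso
      apply hcyc
      exact isCyclic_of_orderOf_eq_card _ (by rw [hoj, hZ])
  have := congrArg Subtype.val h2
  rw [Subgroup.coe_pow, Subgroup.coe_one] at this
  exact this

theorem exists_center_not_frattini [Finite K] {p : ℕ} [hp : Fact p.Prime]
    (hZ : Nat.card (Subgroup.center K) = p ^ 2) (hΦ : Nat.card (frattini K) = p) :
    ∃ c ∈ Subgroup.center K, c ∉ frattini K := by
  by_contra hcon
  push Not at hcon
  have hle : Subgroup.center K ≤ frattini K := hcon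
  have := Nat.le_of_dvd Nat.card_pos (Subgroup.card_dvd_of_le hle)
  rw [hZ, hΦ] at this
  have hp1 := hp.out.one_lt
  have : p < p ^ 2 := by nlinarith
  omega

theorem not_comm_of_prod_iso {M : Type*} [Group M] (hnc : ¬ ∀ a b : K, a * b = b * a) {p : ℕ}
    (e : K ≃* M × Multiplicative (ZMod p)) : ¬ ∀ a b : M, a * b = b * a := by
  intro h
  apply hnc
  intro a b
  apply e.injective
  rw [map_mul, map_mul]
  ext
  · exact h _ _
  · exact mul_comm (e a).2 (e b).2

/-- the odd case with centre of exponent `p` -/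
theorem odd_case [Finite K] {p : ℕ} [hp : Fact p.Prime] (hcard : Nat.card K = p ^ 4)
    (hΦ : Nat.card (frattini K) = p) (hnc : ¬ ∀ a b : K, a * b = b * a) (hodd : Odd p)
    (hcyc : ¬ IsCyclic (Subgroup.center K)) :
    HasFlag p K ∨ ∃ (E : Type) (_ : Group E) (_ : Finite E), Cfsg.IsExtraspecial p E ∧
      Nat.card E = p ^ 3 ∧ (∀ x : E, x ^ p = 1) ∧
        Nonempty (K ≃* E × Multiplicative (ZMod p)) := by
  have hK : IsPGroup p K := IsPGroup.of_card hcard
  have hppos : 0 < p := hp.out.pos
  have hp1 : 1 < p := hp.out.one_lt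
  have hΦZ := frattini_le_center hK hΦ
  have hKΦ := Cfsg.Agent.Lib.Helper1.pgroup_commutator_le_frattini hK
  have hcl : commutator K ≤ Subgroup.center K := hKΦ.trans hΦZ
  have hZ := card_center_three_gen hcard hΦ hnc
  have hZexp := center_exponent hZ hcyc
  have hexp : ∀ c ∈ commutator K, c ^ p = 1 := fun c hc => hZexp c (hcl hc)
  by_cases he : ∀ x : K, x ^ p = 1
  · right
    obtain ⟨c, hc, hcΦ⟩ := exists_center_not_frattini hZ hΦ
    obtain ⟨M, hMc, ⟨e⟩⟩ := split_central hK c hc hcΦ (he c)
    have hMc3 : Nat.card M = p ^ 3 := by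
      rw [hcard] at hMc
      have : Nat.card M * p = p ^ 3 * p := by rw [hMc]; ring
      exact Nat.eq_of_mul_eq_mul_right hppos this
    have hMnc := not_comm_of_prod_iso hnc e
    let e' : Shrink.{0} ↥M ≃* ↥M := Shrink.mulEquiv
    haveI : Finite (Shrink.{0} ↥M) := Finite.of_equiv _ e'.symm.toEquiv
    have hEc : Nat.card (Shrink.{0} ↥M) = p ^ 3 := by
      rw [Nat.card_congr e'.toEquiv, hMc3]
    have hEnc : ¬ ∀ a b : Shrink.{0} ↥M, a * b = b * a := by
      intro h
      apply hMnc
      intro a b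
      have := h (e'.symm a) (e'.symm b)
      rw [← map_mul, ← map_mul] at this
      exact e'.symm.injective this
    refine ⟨Shrink.{0} ↥M, inferInstance, inferInstance, isExtraspecial_of_nonabelian hEc hEnc,
      hEc, ?_, ⟨e.trans (MulEquiv.prodCongr e'.symm (MulEquiv.refl _))⟩⟩
    intro x
    apply e'.injective
    rw [map_pow, map_one]
    apply Subtype.ext
    rw [Subgroup.coe_pow, Subgroup.coe_one]
    exact he _
  · left
    have hPf : ∀ x : K, powHom hodd hcl hexp x = x ^ p := fun _ => rfl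
    have hrΦ : (powHom hodd hcl hexp).range ≤ frattini K := by
      rintro _ ⟨x, rfl⟩
      rw [hPf]
      exact Cfsg.Agent.Lib.Helper1.pgroup_pow_mem_frattini hK x
    have hrne : (powHom hodd hcl hexp).range ≠ ⊥ := by
      intro h
      apply he
      intro x
      have : powHom hodd hcl hexp x ∈ (powHom hodd hcl hexp).range := ⟨x, rfl⟩
      rw [h, Subgroup.mem_bot, hPf] at this
      exact this
    have hrc : Nat.card (powHom hodd hcl hexp).range = p := by
      have hd : Nat.card (powHom hodd hcl hexp).range ∣ p := by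
        have h0 := Subgroup.card_dvd_of_le hrΦ
        rwa [hΦ] at h0
      rcases (Nat.dvd_prime hp.out).mp hd with h | h
      · exact absurd (Subgroup.card_eq_one.mp h) hrne
      · exact h
    have hkc : Nat.card (powHom hodd hcl hexp).ker = p ^ 3 := by
      have h1 := card_ker_mul_card_range (powHom hodd hcl hexp)
      rw [hrc, hcard] at h1
      have : Nat.card (powHom hodd hcl hexp).ker * p = p ^ 3 * p := by rw [h1]; ring
      exact Nat.eq_of_mul_eq_mul_right hppos this
    refine ⟨Subgroup.center K, (powHom hodd hcl hexp).ker, Subgroup.centerCharacteristic,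
      ker_characteristic_of_pow hPf, hΦZ, ?_, Or.inr ?_, Or.inr ?_, Or.inr ?_⟩
    · intro c hc
      rw [MonoidHom.mem_ker, hPf]
      exact hZexp c hc
    · rw [hZ, hΦ]; ring
    · rw [hkc, hZ]; ring
    · rw [hcard, hkc]; ring

/-- nonabelian groups of order `8` -/
theorem order8_iso {M : Type*} [Group M] [Finite M] (hcard : Nat.card M = 2 ^ 3)
    (hnc : ¬ ∀ a b : M, a * b = b * a) :
    Nonempty (M ≃* QuaternionGroup 2) ∨ Nonempty (M ≃* DihedralGroup 4) := by
  have hp2 : Fact (Nat.Prime 2) := ⟨Nat.prime_two⟩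
  obtain ⟨hZ, hcom, hpow⟩ := center_facts_of_nonabelian (p := 2) hcard hnc
  have hidx : (commutator M).index = 4 := by
    have h1 := Subgroup.card_mul_index (commutator M)
    have hc2 : Nat.card (commutator M) = 2 := by rw [hcom, hZ]
    rw [hc2, hcard] at h1
    norm_num at h1
    omega
  rcases Helper24.tk_main (IsPGroup.of_card hcard) hidx with h4 | ⟨k, ⟨e⟩⟩ | ⟨k, hk, -⟩ | ⟨k, ⟨e⟩⟩
  · rw [hcard] at h4
    norm_num at h4
  · right
    have hc := Nat.card_congr e.toEquiv
    rw [hcard, DihedralGroup.nat_card] at hc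
    have hk0 : k = 0 := by
      have h2 : 2 ^ 2 = 2 ^ (k + 2) := by omega
      have := Nat.pow_right_injective (le_refl 2) h2
      omega
    subst hk0
    exact ⟨e⟩
  · exfalso
    rw [hcard] at hk
    have : 2 ^ 4 ≤ 2 ^ (k + 4) := Nat.pow_le_pow_right (by norm_num) (by omega)
    omega
  · left
    have hc := Nat.card_congr e.toEquiv
    have hne : NeZero (2 ^ (k + 1)) := ⟨by positivity⟩
    rw [hcard, Nat.card_eq_fintype_card, QuaternionGroup.card] at hc
    have hk0 : k = 0 := by
      have h2 : 2 ^ 1 = 2 ^ (k + 1) := by omega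
      have := Nat.pow_right_injective (le_refl 2) h2
      omega
    subst hk0
    exact ⟨e⟩

theorem d4_sr_not_central :
    (DihedralGroup.sr 0 : DihedralGroup 4) ^ 2 = 1 ∧
      (DihedralGroup.sr 0 : DihedralGroup 4) * DihedralGroup.r 1 ≠
        DihedralGroup.r 1 * DihedralGroup.sr 0 := by decide

theorem eq_of_card_two {Φ : Subgroup K} (hΦ : Nat.card Φ = 2) {u v : K} (hu : u ∈ Φ) (hv : v ∈ Φ)
    (hu1 : u ≠ 1) (hv1 : v ≠ 1) : u = v := by
  obtain ⟨w, -, hw⟩ := (Nat.card_eq_two_iff' (1 : Φ)).mp hΦ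
  have h1 : (⟨u, hu⟩ : Φ) = w := hw _ (fun h => hu1 (congrArg Subtype.val h))
  have h2 : (⟨v, hv⟩ : Φ) = w := hw _ (fun h => hv1 (congrArg Subtype.val h))
  exact congrArg Subtype.val (h1.trans h2.symm)

/-- the case `p = 2` with centre of exponent `2` -/
theorem two_case [Finite K] (hcard : Nat.card K = 2 ^ 4)
    (hΦ : Nat.card (frattini K) = 2) (hnc : ¬ ∀ a b : K, a * b = b * a)
    (hcyc : ¬ IsCyclic (Subgroup.center K)) :
    HasFlag 2 K ∨ Nonempty (K ≃* QuaternionGroup 2 × Multiplicative (ZMod 2)) := by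
  haveI hp : Fact (Nat.Prime 2) := ⟨Nat.prime_two⟩
  have hK : IsPGroup 2 K := IsPGroup.of_card hcard
  have hΦZ := frattini_le_center hK hΦ
  have hKΦ := Cfsg.Agent.Lib.Helper1.pgroup_commutator_le_frattini hK
  have hcl : commutator K ≤ Subgroup.center K := hKΦ.trans hΦZ
  have hZ := card_center_three_gen hcard hΦ hnc
  have hZexp := center_exponent hZ hcyc
  have hsqΦ : ∀ x : K, x ^ 2 ∈ frattini K := Cfsg.Agent.Lib.Helper1.pgroup_pow_mem_frattini hK
  by_cases hQ : ∀ x : K, x ∉ Subgroup.center K → x ^ 2 ≠ 1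
  · right
    obtain ⟨c, hc, hcΦ⟩ := exists_center_not_frattini hZ hΦ
    obtain ⟨M, hMc, ⟨e⟩⟩ := split_central hK c hc hcΦ (hZexp c hc)
    have hMc3 : Nat.card M = 2 ^ 3 := by
      rw [hcard] at hMc
      omega
    have hMnc := not_comm_of_prod_iso hnc e
    rcases order8_iso hMc3 hMnc with ⟨⟨e'⟩⟩ | ⟨⟨e'⟩⟩
    · exact ⟨e.trans (MulEquiv.prodCongr e' (MulEquiv.refl _))⟩
    · exfalso
      obtain ⟨h1, h2⟩ := d4_sr_not_central
      apply h2
      have hs : ((e'.symm (DihedralGroup.sr 0) : M) : K) ^ 2 = 1 := by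
        rw [← Subgroup.coe_pow, ← map_pow, h1, map_one, Subgroup.coe_one]
      have hsZ : ((e'.symm (DihedralGroup.sr 0) : M) : K) ∈ Subgroup.center K := by
        by_contra h
        exact hQ _ h hs
      have h3 := Subgroup.mem_center_iff.mp hsZ ((e'.symm (DihedralGroup.r 1) : M) : K)
      have h4 : e'.symm (DihedralGroup.r 1) * e'.symm (DihedralGroup.sr 0) =
          e'.symm (DihedralGroup.sr 0) * e'.symm (DihedralGroup.r 1) := Subtype.ext h3
      rw [← map_mul, ← map_mul] at h4
      exact (e'.symm.injective h4).symm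
  · left
    push Not at hQ
    obtain ⟨s, hsZ, hs⟩ := hQ
    -- an element with nontrivial square
    have h1 : ∃ t : K, t ^ 2 ≠ 1 := by
      by_contra hcon
      push Not at hcon
      apply hnc
      intro a b
      have ha' : a⁻¹ = a := inv_eq_of_mul_eq_one_right (by rw [← pow_two]; exact hcon a)
      have hb' : b⁻¹ = b := inv_eq_of_mul_eq_one_right (by rw [← pow_two]; exact hcon b)
      have hab' : (a * b)⁻¹ = a * b :=
        inv_eq_of_mul_eq_one_right (by rw [← pow_two]; exact hcon (a * b))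
      calc a * b = (a * b)⁻¹ := hab'.symm
        _ = b⁻¹ * a⁻¹ := mul_inv_rev a b
        _ = b * a := by rw [ha', hb']
    obtain ⟨t, ht⟩ := h1
    have htZ : t ∉ Subgroup.center K := fun h => ht (hZexp t h)
    have hsq : ∀ x : K, x ^ 2 ≠ 1 → x ^ 2 = t ^ 2 := fun x hx =>
      eq_of_card_two hΦ (hsqΦ x) (hsqΦ t) hx ht
    have hΦsq : ∀ z ∈ frattini K, z ^ 2 = 1 := by
      intro z hz
      have := pow_card_subgroup_eq_one hz
      rw [hΦ] at this
      exact this
    -- the centralizers of `s` and `t`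
    have hCs := card_ker_cHom hcard hΦ hcl s hsZ
    have hCt := card_ker_cHom hcard hΦ hcl t htZ
    have hYs : Nat.card (Subgroup.center K ⊔ Subgroup.zpowers s : Subgroup K) = 2 ^ 3 := by
      rw [Cfsg.Agent.Lib.Helper1.card_sup_zpowers_of_not_mem hK _ hΦZ s hsZ, hZ]
      norm_num
    have hYt : Nat.card (Subgroup.center K ⊔ Subgroup.zpowers t : Subgroup K) = 2 ^ 3 := by
      rw [Cfsg.Agent.Lib.Helper1.card_sup_zpowers_of_not_mem hK _ hΦZ t htZ, hZ]
      norm_num
    have hYsC : Subgroup.center K ⊔ Subgroup.zpowers s = (cHom hcl s).ker :=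
      Subgroup.eq_of_le_of_card_ge
        (sup_le (center_le_ker_cHom hcl s)
          (Subgroup.zpowers_le.mpr ((mem_ker_cHom hcl s s).mpr rfl))) (by rw [hCs, hYs])
    have hYtC : Subgroup.center K ⊔ Subgroup.zpowers t = (cHom hcl t).ker :=
      Subgroup.eq_of_le_of_card_ge
        (sup_le (center_le_ker_cHom hcl t)
          (Subgroup.zpowers_le.mpr ((mem_ker_cHom hcl t t).mpr rfl))) (by rw [hCt, hYt])
    have hCs2 : ∀ g ∈ (cHom hcl s).ker, g ^ 2 = 1 := by
      intro g hg
      rw [← hYsC] at hg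
      have hg' : g ∈ ((Subgroup.center K ⊔ Subgroup.zpowers s : Subgroup K) : Set K) := hg
      rw [Subgroup.normal_mul, Set.mem_mul] at hg'
      obtain ⟨c, hc, w, hw, rfl⟩ := hg'
      obtain ⟨i, rfl⟩ := Subgroup.mem_zpowers_iff.mp hw
      have hcc := Subgroup.mem_center_iff.mp hc
      have e1 : (c * s ^ i) ^ 2 = c * (s ^ i * c) * s ^ i := by rw [pow_two]; group
      rw [e1, hcc (s ^ i)]
      have e2 : c * (c * s ^ i) * s ^ i = c ^ 2 * (s ^ 2) ^ i := by
        rw [← zpow_natCast s 2, ← zpow_mul, pow_two]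
        have : ((2 : ℕ) : ℤ) * i = i + i := by push_cast; ring
        rw [this, zpow_add]
        group
      rw [e2, hs, one_zpow, mul_one]
      exact hZexp c hc
    -- the set of elements with nontrivial square lies in `⟨Z, t⟩`
    have hT : ∀ x : K, x ^ 2 ≠ 1 → x ∈ Subgroup.center K ⊔ Subgroup.zpowers t := by
      intro x hx
      have hxs : x ∉ (cHom hcl s).ker := fun h => hx (hCs2 x h)
      have hts : t ∉ (cHom hcl s).ker := fun h => ht (hCs2 t h)
      have hxs1 : cHom hcl s x ≠ 1 := fun h => hxs (MonoidHom.mem_ker.mpr h)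
      have hts1 : cHom hcl s t ≠ 1 := fun h => hts (MonoidHom.mem_ker.mpr h)
      have heq : cHom hcl s x = cHom hcl s t :=
        eq_of_card_two hΦ (hKΦ (cHom_mem_commutator hcl s x)) (hKΦ (cHom_mem_commutator hcl s t))
          hxs1 hts1
      have hw : x * t⁻¹ ∈ (cHom hcl s).ker := by
        rw [MonoidHom.mem_ker, map_mul, map_inv, heq, mul_inv_cancel]
      have hw2 : (x * t⁻¹) ^ 2 = 1 := hCs2 _ hw
      have hwt : x * t⁻¹ ∈ (cHom hcl t).ker := by
        by_contra hwt
        have h3 : cHom hcl t (x * t⁻¹) ≠ 1 := fun h => hwt (MonoidHom.mem_ker.mpr h)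
        have h4 : cHom hcl t (x * t⁻¹) = t ^ 2 :=
          eq_of_card_two hΦ (hKΦ (cHom_mem_commutator hcl t _)) (hsqΦ t) h3 ht
        rw [cHom_apply] at h4
        -- `w t w⁻¹ t⁻¹ = t²` with `w = x t⁻¹`, `w² = 1`; then `x² = (w t)² = 1`
        apply hx
        have hcen : t ^ 2 ∈ Subgroup.center K := hΦZ (hsqΦ t)
        have hc2 := Subgroup.mem_center_iff.mp hcen
        have e1 : x = (x * t⁻¹) * t := by group
        have e2 : (x * t⁻¹) * t = t ^ 2 * (t * (x * t⁻¹)) := by
          rw [← h4]; group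
        have e3 : x ^ 2 = (x * t⁻¹) * t * ((x * t⁻¹) * t) := by
          rw [← e1, pow_two]
        rw [e3]
        nth_rewrite 1 [e2]
        have e4 : t ^ 2 * (t * (x * t⁻¹)) * (x * t⁻¹ * t) = t ^ 2 * (t * (x * t⁻¹) ^ 2 * t) := by
          rw [pow_two (x * t⁻¹)]; group
        rw [e4, hw2, mul_one, ← pow_two, ← pow_two]
        exact hΦsq _ (hsqΦ t)
      rw [hYtC]
      have e1 : x = (x * t⁻¹) * t := by group
      rw [e1]
      exact Subgroup.mul_mem _ hwt ((mem_ker_cHom hcl t t).mpr rfl)
    have hYeq : Subgroup.closure {x : K | x ^ 2 ≠ 1} =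
        Subgroup.center K ⊔ Subgroup.zpowers t := by
      apply le_antisymm
      · rw [Subgroup.closure_le]
        intro x hx
        exact hT x hx
      · rw [sup_le_iff]
        constructor
        · intro c hc
          have hcc := Subgroup.mem_center_iff.mp hc
          have htc : (t * c) ^ 2 ≠ 1 := by
            have e1 : (t * c) ^ 2 = t * (c * t) * c := by rw [pow_two]; group
            rw [e1, ← hcc t]
            have e2 : t * (t * c) * c = t ^ 2 * c ^ 2 := by rw [pow_two, pow_two]; group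
            rw [e2, hZexp c hc, mul_one]
            exact ht
          have e3 : c = t⁻¹ * (t * c) := by group
          rw [e3]
          exact Subgroup.mul_mem _ (Subgroup.inv_mem _ (Subgroup.subset_closure ht))
            (Subgroup.subset_closure htc)
        · rw [Subgroup.zpowers_le]
          exact Subgroup.subset_closure ht
    refine ⟨Subgroup.center K, Subgroup.closure {x : K | x ^ 2 ≠ 1}, Subgroup.centerCharacteristic,
      sqNe_characteristic, hΦZ, ?_, Or.inr ?_, Or.inr ?_, Or.inr ?_⟩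
    · rw [hYeq]; exact le_sup_left
    · rw [hZ, hΦ]; norm_num
    · rw [hYeq, hYt, hZ]; norm_num
    · rw [hYeq, hYt, hcard]; norm_num

end Cfsg.Agent.Lib.Helper27.P4ThreeGen
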