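import Mathlib
import Cfsg.Agent.Lib.Helper27.P4Basic
import Cfsg.Agent.Lib.Helper27.P4Abelian
import Cfsg.Agent.Lib.Helper27.P4TwoGen
import Cfsg.Agent.Lib.Helper27.P4ThreeGen

/-!
# The groups of order `p⁴` without a characteristic flag above the Frattini subgroup
-/

set_option autoImplicit false

namespace Cfsg.Agent.Lib.Helper27.P4Main

open Cfsg.Agent.Lib.Helper27 Cfsg.Agent.Lib.Helper27.P4Basic Cfsg.Agent.Lib.Helper27.P4TwoGen
  Cfsg.Agent.Lib.Helper27.P4ThreeGen

universe u

variable {K : Type u} [Group K]

theorem order_p4_cases [Finite K] {p : ℕ} [hp : Fact p.Prime] (hcard : Nat.card K = p ^ 4) :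
    HasFlag p K ∨ ((∀ a b : K, a * b = b * a) ∧ (frattini K).index ≤ p ^ 2) ∨
    ((∀ a b : K, a * b = b * a) ∧ ∀ x : K, x ^ p = 1) ∨
    Nonempty (K ≃* Multiplicative (ZMod (p ^ 2) × ZMod p × ZMod p)) ∨
    (Odd p ∧ ∃ (E : Type) (_ : Group E) (_ : Finite E), Cfsg.IsExtraspecial p E ∧
      Nat.card E = p ^ 3 ∧ (∀ x : E, x ^ p = 1) ∧
        Nonempty (K ≃* E × Multiplicative (ZMod p))) ∨
    (p = 2 ∧ Nonempty (K ≃* QuaternionGroup 2 × Multiplicative (ZMod 2))) ∨
    ((¬ ∀ a b : K, a * b = b * a) ∧ (∀ x : K, x ^ (p ^ 2) = 1) ∧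
      IsCyclic (Subgroup.center K) ∧ Nat.card (Subgroup.center K) = p ^ 2) := by
  have hK : IsPGroup p K := IsPGroup.of_card hcard
  have hppos : 0 < p := hp.out.pos
  have hp1 : 1 < p := hp.out.one_lt
  haveI hΦchar : (frattini K).Characteristic := frattini_characteristic
  have hdvd : Nat.card (frattini K) ∣ p ^ 4 := by
    rw [← hcard]; exact Subgroup.card_subgroup_dvd_card _
  obtain ⟨i, hi, hΦi⟩ := (Nat.dvd_prime_pow hp.out).mp hdvd
  have hidx := Subgroup.card_mul_index (frattini K)
  rw [hcard, hΦi] at hidx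
  have hpow : ∀ x : K, x ^ p ∈ frattini K := Cfsg.Agent.Lib.Helper1.pgroup_pow_mem_frattini hK
  have hKΦ := Cfsg.Agent.Lib.Helper1.pgroup_commutator_le_frattini hK
  interval_cases i
  · -- elementary abelian
    right; right; left
    rw [pow_zero] at hΦi
    have hbot := Subgroup.card_eq_one.mp hΦi
    constructor
    · intro a b
      have h1 : a * b * a⁻¹ * b⁻¹ ∈ frattini K := hKΦ (comm_mem_commutator a b)
      rw [hbot, Subgroup.mem_bot] at h1
      rw [mul_inv_eq_one, mul_inv_eq_iff_eq_mul] at h1
      exact h1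
    · intro x
      have h1 := hpow x
      rw [hbot, Subgroup.mem_bot] at h1
      exact h1
  · -- Frattini subgroup of order `p`
    rw [pow_one] at hΦi
    by_cases hc : ∀ a b : K, a * b = b * a
    · right; right; right; left
      letI : CommGroup K := { (inferInstance : Group K) with mul_comm := hc }
      exact P4Abelian.abelian_iso (K := K) hcard hΦi
    · have hΦZ := frattini_le_center hK hΦi
      have hZ := card_center_three_gen hcard hΦi hc
      by_cases hcyc : IsCyclic (Subgroup.center K)
      · right; right; right; right; right; right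
        refine ⟨hc, ?_, hcyc, hZ⟩
        intro x
        rw [pow_two, pow_mul]
        have := pow_card_subgroup_eq_one (hpow x)
        rw [hΦi] at this
        exact this
      · rcases hp.out.eq_two_or_odd' with h2 | hodd
        · subst h2
          rcases two_case hcard hΦi hc hcyc with h | h
          · left; exact h
          · right; right; right; right; right; left
            exact ⟨rfl, h⟩
        · rcases odd_case hcard hΦi hc hodd hcyc with h | h
          · left; exact h
          · right; right; right; right; left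
            exact ⟨hodd, h⟩
  · -- Frattini subgroup of order `p²`
    have hindex : (frattini K).index = p ^ 2 := by
      have : p ^ 2 * (frattini K).index = p ^ 2 * p ^ 2 := by rw [hidx]; ring
      exact Nat.eq_of_mul_eq_mul_left (pow_pos hppos 2) this
    by_cases hc : ∀ a b : K, a * b = b * a
    · right; left
      exact ⟨hc, hindex.le⟩
    · left
      obtain ⟨K₁, hK₁c, hΦK₁, hK₁⟩ := exists_char_of_two_gen hcard hΦi hc
      refine ⟨K₁, K₁, hK₁c, hK₁c, hΦK₁, le_rfl, Or.inr ?_, Or.inl le_rfl, Or.inr ?_⟩
      · rw [hK₁, hΦi]; ring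
      · rw [hK₁, hcard]; ring
  · -- Frattini subgroup of index `p`
    left
    refine ⟨frattini K, frattini K, hΦchar, hΦchar, le_rfl, le_rfl, Or.inl le_rfl, Or.inl le_rfl,
      Or.inr ?_⟩
    rw [hΦi, hcard]; ring
  · -- the Frattini subgroup is proper
    exfalso
    have h1 := Cfsg.Agent.Lib.Helper1.prime_dvd_index_frattini (G := K) p hp.out
      (by rw [hcard]; exact dvd_pow_self p (by norm_num))
    have h2 : (frattini K).index = 1 := by
      have : p ^ 4 * (frattini K).index = p ^ 4 * 1 := by rw [hidx]; ring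
      exact Nat.eq_of_mul_eq_mul_left (pow_pos hppos 4) this
    rw [h2] at h1
    have := Nat.le_of_dvd one_pos h1
    omega

end Cfsg.Agent.Lib.Helper27.P4Main
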