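import Cfsg.Agent.S5344
import Cfsg.Agent.S5345
import Cfsg.Agent.Lib.Helper1.Cores

set_option autoImplicit false

namespace Cfsg.Agent.Lib.Helper27

open Cfsg

variable {G : Type*} [Group G]

/-- `u` and `v` commute with the same members of `D`. -/
def SamePerp (D : Set G) (u v : G) : Prop := ∀ e ∈ D, Commute u e ↔ Commute v e

theorem SamePerp.symm {D : Set G} {u v : G} (h : SamePerp D u v) : SamePerp D v u :=
  fun e he => (h e he).symm

theorem SamePerp.trans {D : Set G} {u v w : G} (h : SamePerp D u v) (h' : SamePerp D v w) :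
    SamePerp D u w := fun e he => (h e he).trans (h' e he)

theorem SamePerp.refl (D : Set G) (u : G) : SamePerp D u u := fun _ _ => Iff.rfl

theorem SamePerp.conj {D : Set G} (hconj : ∀ g : G, ∀ d ∈ D, g * d * g⁻¹ ∈ D) {u v : G}
    (h : SamePerp D u v) (g : G) : SamePerp D (g * u * g⁻¹) (g * v * g⁻¹) := by
  intro e he
  have he' : g⁻¹ * e * g⁻¹⁻¹ ∈ D := hconj g⁻¹ e he
  have h1 : ∀ a : G, Commute (g * a * g⁻¹) e ↔ Commute a (g⁻¹ * e * g⁻¹⁻¹) := by
    intro a
    have := Commute.conj_iff (a := a) (b := g⁻¹ * e * g⁻¹⁻¹) g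
    rw [← this]
    have e1 : g * (g⁻¹ * e * g⁻¹⁻¹) * g⁻¹ = e := by group
    rw [e1]
  rw [h1, h1]
  exact h _ he'

theorem SamePerp.commute {D : Set G} {u v : G} (hu : u ∈ D) (h : SamePerp D u v) :
    Commute u v := ((h u hu).mp (Commute.refl u)).symm

theorem tt_sq {D : Set G} (hD : IsThreeTranspositionSet D) {d : G} (hd : d ∈ D) : d * d = 1 :=
  Cfsg.Agent.S5345.sq_one d (hD.1 d hd)

theorem tt_inv {D : Set G} (hD : IsThreeTranspositionSet D) {d : G} (hd : d ∈ D) : d⁻¹ = d :=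
  inv_eq_of_mul_eq_one_right (tt_sq hD hd)

theorem s4_id1 : (Equiv.swap (1 : Fin 4) 2 * Equiv.swap 2 3 * (Equiv.swap 1 2)⁻¹) * Equiv.swap 1 2 *
    (Equiv.swap (1 : Fin 4) 2 * Equiv.swap 2 3 * (Equiv.swap 1 2)⁻¹)⁻¹ = Equiv.swap 2 3 := by
  decide

theorem s4_id2 : (Equiv.swap (1 : Fin 4) 2 * Equiv.swap 2 3 * (Equiv.swap 1 2)⁻¹) *
    ((Equiv.swap 0 1 * Equiv.swap 2 3) * Equiv.swap 1 2 * (Equiv.swap 0 1 * Equiv.swap 2 3)⁻¹) *
    (Equiv.swap (1 : Fin 4) 2 * Equiv.swap 2 3 * (Equiv.swap 1 2)⁻¹)⁻¹ = Equiv.swap 0 1 := by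
  decide

theorem s4_id3 : (Equiv.swap (1 : Fin 4) 2 * (Equiv.swap 0 1 * Equiv.swap 2 3) * (Equiv.swap 1 2)⁻¹) *
    Equiv.swap 0 1 *
    (Equiv.swap (1 : Fin 4) 2 * (Equiv.swap 0 1 * Equiv.swap 2 3) * (Equiv.swap 1 2)⁻¹)⁻¹ =
    Equiv.swap 2 3 := by
  decide

/-- The configuration `u ~ v`, `x` not commuting with `u`. -/
theorem samePerp_config {D : Set G} (hD : IsThreeTranspositionSet D)
    (hconj : ∀ g : G, ∀ d ∈ D, g * d * g⁻¹ ∈ D) {u v x : G} (hu : u ∈ D) (hv : v ∈ D)
    (hx : x ∈ D) (huv : SamePerp D u v) (hne : u ≠ v) (hux : ¬ Commute u x) :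
    SamePerp D ((u * v) * x * (u * v)⁻¹) x ∧
      (x * (u * v) * x⁻¹) * u * (x * (u * v) * x⁻¹)⁻¹ = v := by
  have hcuv : Commute u v := huv.commute hu
  have hxv : ¬ Commute x v := fun h => hux ((huv x hx).mpr h.symm)
  obtain ⟨φ, -, hφu, hφx, hφv⟩ :=
    Cfsg.Agent.S5344.result hD hu hx hv hne hcuv hux hxv
  have e1 : (x * v * x⁻¹) * x * (x * v * x⁻¹)⁻¹ = v := by
    have := congrArg φ s4_id1
    simpa only [map_mul, map_inv, hφu, hφx, hφv] using this
  have e2 : (x * v * x⁻¹) * ((u * v) * x * (u * v)⁻¹) * (x * v * x⁻¹)⁻¹ = u := by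
    have := congrArg φ s4_id2
    simpa only [map_mul, map_inv, hφu, hφx, hφv] using this
  have e3 : (x * (u * v) * x⁻¹) * u * (x * (u * v) * x⁻¹)⁻¹ = v := by
    have := congrArg φ s4_id3
    simpa only [map_mul, map_inv, hφu, hφx, hφv] using this
  refine ⟨?_, e3⟩
  intro e he
  set b := x * v * x⁻¹ with hb
  have hbe : b * e * b⁻¹ ∈ D := hconj b e he
  rw [← Commute.conj_iff b, e2, huv _ hbe, ← Commute.conj_iff (a := x) (b := e) b, e1]

/-- The set of products `u v` with `u ~ v`. -/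
def perpProducts (D : Set G) : Set G := {t | ∃ u ∈ D, ∃ v ∈ D, SamePerp D u v ∧ t = u * v}

theorem conj_mem_perpProducts {D : Set G} (hconj : ∀ g : G, ∀ d ∈ D, g * d * g⁻¹ ∈ D) {t : G}
    (ht : t ∈ perpProducts D) (g : G) : g * t * g⁻¹ ∈ perpProducts D := by
  obtain ⟨u, hu, v, hv, huv, rfl⟩ := ht
  refine ⟨g * u * g⁻¹, hconj g u hu, g * v * g⁻¹, hconj g v hv, huv.conj hconj g, ?_⟩
  group

theorem closure_perpProducts_normal {D : Set G} (hconj : ∀ g : G, ∀ d ∈ D, g * d * g⁻¹ ∈ D) :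
    (Subgroup.closure (perpProducts D)).Normal := by
  refine ⟨fun n hn g => ?_⟩
  induction hn using Subgroup.closure_induction with
  | mem t ht => exact Subgroup.subset_closure (conj_mem_perpProducts hconj ht g)
  | one => simp
  | mul a b _ _ iha ihb =>
    have : g * (a * b) * g⁻¹ = (g * a * g⁻¹) * (g * b * g⁻¹) := by group
    rw [this]
    exact Subgroup.mul_mem _ iha ihb
  | inv a _ iha =>
    have : g * a⁻¹ * g⁻¹ = (g * a * g⁻¹)⁻¹ := by group
    rw [this]
    exact Subgroup.inv_mem _ iha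

theorem conj_samePerp_of_mem_closure {D : Set G} (hD : IsThreeTranspositionSet D)
    (hconj : ∀ g : G, ∀ d ∈ D, g * d * g⁻¹ ∈ D) {n : G}
    (hn : n ∈ Subgroup.closure (perpProducts D)) :
    ∀ a ∈ D, SamePerp D (n * a * n⁻¹) a := by
  induction hn using Subgroup.closure_induction with
  | mem t ht =>
    intro a ha
    obtain ⟨u, hu, v, hv, huv, rfl⟩ := ht
    by_cases hua : Commute u a
    · have hva : Commute v a := (huv a ha).mp hua
      have : u * v * a * (u * v)⁻¹ = a := by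
        have h1 : (u * v) * a = a * (u * v) := (hua.mul_left hva).eq
        rw [h1]; group
      rw [this]
      exact SamePerp.refl D a
    · by_cases hne : u = v
      · subst hne
        rw [tt_sq hD hu]
        simp
        exact SamePerp.refl D a
      · exact (samePerp_config hD hconj hu hv ha huv hne hua).1
  | one =>
    intro a _
    simp
    exact SamePerp.refl D a
  | mul m n _ _ ihm ihn =>
    intro a ha
    have : m * n * a * (m * n)⁻¹ = m * (n * a * n⁻¹) * m⁻¹ := by group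
    rw [this]
    exact (ihm _ (hconj n a ha)).trans (ihn a ha)
  | inv m _ ihm =>
    intro a ha
    have h1 := ihm _ (hconj m⁻¹ a ha)
    have : m * (m⁻¹ * a * m⁻¹⁻¹) * m⁻¹ = a := by group
    rw [this] at h1
    exact h1.symm

/-- The class of `x` under `~`. -/
def perpClass (D : Set G) (x : G) : Set G := {a | a ∈ D ∧ SamePerp D a x}

theorem perpClass_isPGroup {D : Set G} (hD : IsThreeTranspositionSet D) (x : G) :
    IsPGroup 2 (Subgroup.closure (perpClass D x)) := by
  apply Cfsg.Agent.S5345.pgroup_of_comm_invol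
  · intro e he
    exact tt_sq hD he.1
  · intro a ha b hb
    exact ((ha.2.trans hb.2.symm).commute ha.1).eq

theorem conj_mem_closure_perpClass {D : Set G} (hD : IsThreeTranspositionSet D)
    (hconj : ∀ g : G, ∀ d ∈ D, g * d * g⁻¹ ∈ D) {n : G}
    (hn : n ∈ Subgroup.closure (perpProducts D)) (x : G) {g : G}
    (hg : g ∈ Subgroup.closure (perpClass D x)) :
    n * g * n⁻¹ ∈ Subgroup.closure (perpClass D x) := by
  induction hg using Subgroup.closure_induction with
  | mem a ha =>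
    apply Subgroup.subset_closure
    exact ⟨hconj n a ha.1, (conj_samePerp_of_mem_closure hD hconj hn a ha.1).trans ha.2⟩
  | one => simp
  | mul a b _ _ iha ihb =>
    have : n * (a * b) * n⁻¹ = (n * a * n⁻¹) * (n * b * n⁻¹) := by group
    rw [this]
    exact Subgroup.mul_mem _ iha ihb
  | inv a _ iha =>
    have : n * a⁻¹ * n⁻¹ = (n * a * n⁻¹)⁻¹ := by group
    rw [this]
    exact Subgroup.inv_mem _ iha

theorem closure_perpProducts_isPGroup {D : Set G} (hD : IsThreeTranspositionSet D)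
    (hconj : ∀ g : G, ∀ d ∈ D, g * d * g⁻¹ ∈ D) :
    IsPGroup 2 (Subgroup.closure (perpProducts D)) := by
  set N := Subgroup.closure (perpProducts D) with hN
  let Hs : Set (Subgroup N) := {H | ∃ x : G, H = (Subgroup.closure (perpClass D x)).subgroupOf N}
  have h1 : ∀ H ∈ Hs, IsPGroup 2 H := by
    rintro H ⟨x, rfl⟩
    exact (perpClass_isPGroup hD x).comap_of_injective N.subtype N.subtype_injective
  have h2 : ∀ H ∈ Hs, H.Normal := by
    rintro H ⟨x, rfl⟩
    refine ⟨fun g hg n => ?_⟩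
    exact conj_mem_closure_perpClass hD hconj n.2 x hg
  have h3 : IsPGroup 2 (sSup Hs : Subgroup N) := Sylow.sSup_of_normal Hs h1 h2
  have h4 : (sSup Hs : Subgroup N) = ⊤ := by
    rw [eq_top_iff, ← Subgroup.closure_closure_coe_preimage, Subgroup.closure_le]
    rintro ⟨t, htN⟩ ht
    obtain ⟨u, hu, v, hv, huv, rfl⟩ := ht
    have hmem : (⟨u * v, htN⟩ : N) ∈ (Subgroup.closure (perpClass D u)).subgroupOf N := by
      rw [Subgroup.mem_subgroupOf]
      exact Subgroup.mul_mem _ (Subgroup.subset_closure ⟨hu, SamePerp.refl D u⟩)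
        (Subgroup.subset_closure ⟨hv, huv.symm⟩)
    have hin : (Subgroup.closure (perpClass D u)).subgroupOf N ∈ Hs := ⟨u, rfl⟩
    exact (le_sSup hin) hmem
  intro n
  have hn : n ∈ (sSup Hs : Subgroup N) := by rw [h4]; trivial
  obtain ⟨k, hk⟩ := h3 ⟨n, hn⟩
  refine ⟨k, ?_⟩
  have := congrArg Subtype.val hk
  simpa using this

theorem closure_perpProducts_le_pCore {D : Set G} (hD : IsThreeTranspositionSet D)
    (hconj : ∀ g : G, ∀ d ∈ D, g * d * g⁻¹ ∈ D) :
    Subgroup.closure (perpProducts D) ≤ Cfsg.pCore 2 G :=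
  Helper1.le_pCore (closure_perpProducts_normal hconj) (closure_perpProducts_isPGroup hD hconj)

end Cfsg.Agent.Lib.Helper27
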