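import Cfsg.Agent.Lib.Helper27.Width1
import Cfsg.Agent.Lib.Helper27.TTrans
import Cfsg.Agent.S5349

/-!
A Sylow 3-subgroup normalized by a 3-transposition whose commuting partners all have the same
commuting partners (helper27).  Modulo the largest normal 2-subgroup the class has width one, so the
quotient is a normal 3-subgroup extended by an involution; a 3-subgroup of the centralizer of `d`
covering the centralizer in the quotient is enlarged step by step to a `d`-invariant Sylow 3-subgroup.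
-/

set_option autoImplicit false

namespace Cfsg.Agent.Lib.Helper27.PerpSylow

open Cfsg Cfsg.Agent.Lib.Helper27

section Aux

variable {H : Type*} [Group H]

/-- an element of order dividing 2 and a power of 3 is trivial -/
theorem eq_one_of_sq_of_pow_three {g : H} (h2 : g ^ 2 = 1) {k : ℕ} (h3 : g ^ (3 ^ k) = 1) :
    g = 1 := by
  have hodd : Odd (3 ^ k) := Odd.pow (by decide)
  obtain ⟨m, hm⟩ := hodd
  rw [hm, pow_succ, pow_mul, h2, one_pow, one_mul] at h3
  exact h3

/-- square roots in a cyclic group of 3-power order -/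
theorem half_pow {g : H} {k : ℕ} (h3 : g ^ (3 ^ k) = 1) :
    g ^ ((3 ^ k + 1) / 2) * g ^ ((3 ^ k + 1) / 2) = g := by
  have hodd : Odd (3 ^ k) := Odd.pow (by decide)
  obtain ⟨m, hm⟩ := hodd
  have e : (3 ^ k + 1) / 2 + (3 ^ k + 1) / 2 = 3 ^ k + 1 := by omega
  rw [← pow_add, e, pow_succ, h3, one_mul]

/-- in a group generated by an involution and a normal subgroup, the 3-elements lie in the normal
subgroup -/
theorem mem_of_pow_three {N : Subgroup H} [N.Normal] {t : H} (ht : t * t = 1)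
    (htop : Subgroup.zpowers t ⊔ N = ⊤) {g : H} {k : ℕ} (hg : g ^ (3 ^ k) = 1) : g ∈ N := by
  have htinv : t⁻¹ = t := inv_eq_of_mul_eq_one_right ht
  have hmem : g ∈ ((Subgroup.zpowers t ⊔ N : Subgroup H) : Set H) := by
    rw [htop]; exact Subgroup.mem_top g
  rw [Subgroup.mul_normal] at hmem
  obtain ⟨a, ha, b, hb, hab⟩ := hmem
  have hab' : a * b = g := hab
  subst hab'
  obtain ⟨i, rfl⟩ := Subgroup.mem_zpowers_iff.mp ha
  have ht2 : t ^ (2 : ℤ) = 1 := by
    rw [zpow_ofNat, pow_two, ht]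
  rcases Int.even_or_odd' i with ⟨j, hj | hj⟩
  · have : t ^ i = 1 := by rw [hj, zpow_mul, ht2, one_zpow]
    rw [this, one_mul]
    exact hb
  · have hti : t ^ i = t := by rw [hj, zpow_add, zpow_mul, ht2, one_zpow, one_mul, zpow_one]
    rw [hti] at hg ⊢
    have hsq : (t * b) * (t * b) ∈ N := by
      have e : (t * b) * (t * b) = (t * b * t⁻¹) * b := by
        rw [htinv]; group
      rw [e]
      exact N.mul_mem (Subgroup.Normal.conj_mem inferInstance b hb t) hb
    have hhalf := half_pow hg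
    have hpow : (t * b) ^ ((3 ^ k + 1) / 2) * (t * b) ^ ((3 ^ k + 1) / 2) =
        ((t * b) * (t * b)) ^ ((3 ^ k + 1) / 2) := by
      rw [← pow_two, ← pow_two, ← pow_mul, ← pow_mul, mul_comm]
    rw [← hhalf, hpow]
    exact N.pow_mem hsq _

end Aux

section Main

variable {G : Type*} [Group G] [Finite G] {D : Set G}

omit [Finite G] in
/-- the image of the class modulo a normal subgroup containing the quotients of commuting pairs has
width one -/
theorem cubeClass_image (hDs : IsThreeTranspositionSet D)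
    (hconj : ∀ g : G, ∀ d ∈ D, g * d * g⁻¹ ∈ D) (Q : Subgroup G) [Q.Normal]
    (hK : ∀ x ∈ D, ∀ y ∈ D, Commute x y → x⁻¹ * y ∈ Q) :
    W1.CubeClass ((QuotientGroup.mk' Q) '' D) := by
  refine ⟨?_, ?_, ?_⟩
  · rintro _ ⟨x, hx, rfl⟩
    rw [← map_mul, tt_sq hDs hx, map_one]
  · rintro g _ ⟨x, hx, rfl⟩
    obtain ⟨g, rfl⟩ := QuotientGroup.mk'_surjective Q g
    refine ⟨g * x * g⁻¹, hconj g x hx, ?_⟩
    rw [map_mul, map_mul, map_inv]
  · rintro _ ⟨x, hx, rfl⟩ _ ⟨y, hy, rfl⟩
    rcases hDs.2 x hx y hy with h | h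
    · have hc : Commute x y := by
        show x * y = y * x
        have h1 : x * y * (x * y) = 1 := by rw [← pow_two]; exact h
        calc x * y = x * y * (x * y) * (y⁻¹ * x⁻¹) := by group
          _ = y * x := by rw [h1, one_mul, tt_inv hDs hx, tt_inv hDs hy]
      have hxy : (QuotientGroup.mk' Q) x = (QuotientGroup.mk' Q) y :=
        QuotientGroup.eq.mpr (hK x hx y hy hc)
      rw [← hxy, ← map_mul, tt_sq hDs hx, map_one, one_pow]
    · rw [← map_mul, ← map_pow, h, map_one]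

/-- **Invariant Sylow 3-subgroup.** -/
theorem exists_invariant_sylow (hD : Cfsg.IsThreeTranspositionClass D)
    (hD2 : ∃ a ∈ D, ∃ b ∈ D, a ≠ b) {d : G} (hd : d ∈ D)
    (hV : {y : G | y ∈ D ∧ Commute d y} =
      {v : G | v ∈ D ∧ ∀ e ∈ D, Commute v e ↔ Commute d e}) :
    ∃ P : Sylow 3 G, d ∈ Subgroup.normalizer (P : Set G) ∧
      Subgroup.zpowers d ⊔ (P : Subgroup G) ⊔ Cfsg.pCore 2 G = ⊤ := by
  classical
  haveI : Fact (Nat.Prime 2) := ⟨Nat.prime_two⟩
  haveI : Fact (Nat.Prime 3) := ⟨Nat.prime_three⟩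
  have hDorig := hD
  obtain ⟨hDs, ⟨d₀, hd₀, hDc⟩, hgen⟩ := hD
  have hconj : ∀ g : G, ∀ x ∈ D, g * x * g⁻¹ ∈ D := by
    intro g x hx
    rw [hDc] at hx ⊢
    have hx' : IsConj d₀ x := hx
    show IsConj d₀ (g * x * g⁻¹)
    exact hx'.trans (isConj_iff.mpr ⟨g, rfl⟩)
  have hall : ∀ a ∈ D, ∀ b ∈ D, ∃ g : G, g * a * g⁻¹ = b := by
    intro a ha b hb
    rw [hDc] at ha hb
    have h1 : IsConj d₀ a := ha
    have h2' : IsConj d₀ b := hb
    exact isConj_iff.mp (h1.symm.trans h2')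
  have sq : ∀ x ∈ D, x * x = 1 := fun x hx => tt_sq hDs hx
  have inv : ∀ x ∈ D, x⁻¹ = x := fun x hx => tt_inv hDs hx
  -- the largest normal 2-subgroup
  haveI hQn : (Cfsg.pCore 2 G).Normal := Cfsg.Agent.Lib.Helper1.pCore_normal 2
  have hQ2 : IsPGroup 2 (Cfsg.pCore 2 G) := Cfsg.Agent.Lib.Helper1.pCore_isPGroup 2
  obtain ⟨hS1, hS2⟩ := Cfsg.Agent.S5349.result hDorig hD2 hd
  -- commuting members are congruent modulo the largest normal 2-subgroup
  have hK1 : ∀ y ∈ D, Commute d y → d⁻¹ * y ∈ Cfsg.pCore 2 G := by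
    intro y hy hc
    have h1 : y ∈ {y : G | y ∈ D ∧ Commute d y} := ⟨hy, hc⟩
    rw [hV, hS1] at h1
    exact h1.2
  have hK2 : ∀ y ∈ D, d⁻¹ * y ∈ Cfsg.pCore 2 G → ∃ q ∈ Cfsg.pCore 2 G, y = q * d * q⁻¹ := by
    intro y hy h
    have h1 : y ∈ {v : G | v ∈ D ∧ d⁻¹ * v ∈ Cfsg.pCore 2 G} := ⟨hy, h⟩
    rw [← hS1, hS2] at h1
    exact h1
  have hK : ∀ x ∈ D, ∀ y ∈ D, Commute x y → x⁻¹ * y ∈ Cfsg.pCore 2 G := by
    intro x hx y hy hc
    obtain ⟨g, rfl⟩ := hall d hd x hx
    have hy' : g⁻¹ * y * g ∈ D := by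
      have := hconj g⁻¹ y hy
      rwa [inv_inv] at this
    have hc' : Commute d (g⁻¹ * y * g) := by
      have := (Commute.conj_iff g⁻¹ (a := g * d * g⁻¹) (b := y)).mpr hc
      rw [inv_inv] at this
      have e : g⁻¹ * (g * d * g⁻¹) * g = d := by group
      rwa [e] at this
    have h1 := hK1 _ hy' hc'
    have h2 := hQn.conj_mem _ h1 g
    have e : g * (d⁻¹ * (g⁻¹ * y * g)) * g⁻¹ = (g * d * g⁻¹)⁻¹ * y := by group
    rwa [e] at h2
  -- the quotient
  set π := QuotientGroup.mk' (Cfsg.pCore 2 G) with hπ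
  have hπsurj : Function.Surjective π := QuotientGroup.mk'_surjective _
  have hker : ∀ g : G, π g = 1 ↔ g ∈ Cfsg.pCore 2 G := fun g => QuotientGroup.eq_one_iff g
  have hcube := cubeClass_image hDs hconj (Cfsg.pCore 2 G) hK
  have hgen' : Subgroup.closure (π '' D) = ⊤ := by
    rw [← MonoidHom.map_closure, hgen]
    exact Subgroup.map_top_of_surjective π hπsurj
  have hw1 := W1.width_one hcube hgen' (Set.mem_image_of_mem π hd)
  haveI hMn : (Cfsg.pCore 3 (G ⧸ Cfsg.pCore 2 G)).Normal := Cfsg.Agent.Lib.Helper1.pCore_normal 3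
  have hM3 : IsPGroup 3 (Cfsg.pCore 3 (G ⧸ Cfsg.pCore 2 G)) :=
    Cfsg.Agent.Lib.Helper1.pCore_isPGroup 3
  have hdd : π d * π d = 1 := by rw [← map_mul, sq d hd, map_one]
  have hdinv : (π d)⁻¹ = π d := inv_eq_of_mul_eq_one_right hdd
  -- 3-elements of the quotient lie in its largest normal 3-subgroup
  have hL3 : ∀ (g : G ⧸ Cfsg.pCore 2 G) (k : ℕ), g ^ (3 ^ k) = 1 →
      g ∈ Cfsg.pCore 3 (G ⧸ Cfsg.pCore 2 G) := fun g k hg => mem_of_pow_three hdd hw1 hg
  -- lifting centralizing elements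
  have hF1 : ∀ c : G, Commute (π c) (π d) → ∃ c' : G, Commute d c' ∧ π c' = π c := by
    intro c hc
    have hcd : c * d * c⁻¹ ∈ D := hconj c d hd
    have h1 : π (c * d * c⁻¹) = π d := by
      rw [map_mul, map_mul, map_inv, hc.eq, mul_inv_cancel_right]
    have h2 : d⁻¹ * (c * d * c⁻¹) ∈ Cfsg.pCore 2 G := QuotientGroup.eq.mp h1.symm
    obtain ⟨q, hq, hqe⟩ := hK2 _ hcd h2
    refine ⟨q⁻¹ * c, ?_, ?_⟩
    · show d * (q⁻¹ * c) = q⁻¹ * c * d
      have e1 : q⁻¹ * (c * d * c⁻¹) * q = d := by rw [hqe]; group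
      calc d * (q⁻¹ * c) = q⁻¹ * (c * d * c⁻¹) * q * (q⁻¹ * c) := by rw [e1]
        _ = q⁻¹ * c * d := by group
    · rw [map_mul, map_inv, (hker q).mpr hq, inv_one, one_mul]
  -- a 3-subgroup of the centralizer of `d` covering the centralizer in the quotient
  have hF2 : ∃ P₀ : Subgroup G, IsPGroup 3 P₀ ∧ (∀ r ∈ P₀, Commute d r) ∧
      ∀ c ∈ Cfsg.pCore 3 (G ⧸ Cfsg.pCore 2 G), Commute c (π d) → ∃ r ∈ P₀, π r = c := by
    obtain ⟨H, hH⟩ : ∃ H : Subgroup G, H = Subgroup.centralizer {d} := ⟨_, rfl⟩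
    have hHmem : ∀ h : G, h ∈ H ↔ d * h = h * d := by
      intro h
      rw [hH, Subgroup.mem_centralizer_iff]
      constructor
      · intro hh; exact hh d rfl
      · intro hh y hy
        rw [Set.mem_singleton_iff] at hy
        rw [hy]; exact hh
    set φ : H →* G ⧸ Cfsg.pCore 2 G := π.comp H.subtype with hφ
    have hφsurj : Function.Surjective φ.rangeRestrict := φ.rangeRestrict_surjective
    have hrange : ∀ g ∈ φ.range, Commute g (π d) := by
      rintro _ ⟨h, rfl⟩
      have := (hHmem _).mp h.2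
      show π (h : G) * π d = π d * π (h : G)
      rw [← map_mul, ← map_mul, this]
    set C : Subgroup (G ⧸ Cfsg.pCore 2 G) :=
      Cfsg.pCore 3 (G ⧸ Cfsg.pCore 2 G) ⊓ Subgroup.centralizer {π d} with hC
    have hCn : (C.subgroupOf φ.range).Normal := by
      constructor
      intro x hx g
      rw [Subgroup.mem_subgroupOf] at hx ⊢
      refine ⟨?_, ?_⟩
      · have := hMn.conj_mem _ hx.1 (g : G ⧸ Cfsg.pCore 2 G)
        simpa using this
      · have h1 : (x : G ⧸ Cfsg.pCore 2 G) ∈ Subgroup.centralizer {π d} := hx.2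
        show _ ∈ Subgroup.centralizer {π d}
        rw [Subgroup.mem_centralizer_iff] at h1 ⊢
        intro y hy
        rw [Set.mem_singleton_iff] at hy
        rw [hy]
        have hg := (hrange _ g.2).eq
        have hx' := h1 (π d) rfl
        push_cast
        have hginv : π d * ((g : G ⧸ Cfsg.pCore 2 G))⁻¹ = ((g : G ⧸ Cfsg.pCore 2 G))⁻¹ * π d := by
          calc π d * ((g : G ⧸ Cfsg.pCore 2 G))⁻¹
              = (g : G ⧸ Cfsg.pCore 2 G)⁻¹ * ((g : G ⧸ Cfsg.pCore 2 G) * π d) *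
                (g : G ⧸ Cfsg.pCore 2 G)⁻¹ := by group
            _ = (g : G ⧸ Cfsg.pCore 2 G)⁻¹ * π d := by rw [hg]; group
        calc π d * ((g : G ⧸ Cfsg.pCore 2 G) * (x : G ⧸ Cfsg.pCore 2 G) *
              (g : G ⧸ Cfsg.pCore 2 G)⁻¹)
            = (π d * (g : G ⧸ Cfsg.pCore 2 G)) * (x : G ⧸ Cfsg.pCore 2 G) *
              (g : G ⧸ Cfsg.pCore 2 G)⁻¹ := by group
          _ = (g : G ⧸ Cfsg.pCore 2 G) * (π d * (x : G ⧸ Cfsg.pCore 2 G)) *
              (g : G ⧸ Cfsg.pCore 2 G)⁻¹ := by rw [← hg]; group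
          _ = (g : G ⧸ Cfsg.pCore 2 G) * (x : G ⧸ Cfsg.pCore 2 G) *
              (π d * (g : G ⧸ Cfsg.pCore 2 G)⁻¹) := by rw [hx']; group
          _ = (g : G ⧸ Cfsg.pCore 2 G) * (x : G ⧸ Cfsg.pCore 2 G) *
              (g : G ⧸ Cfsg.pCore 2 G)⁻¹ * π d := by rw [hginv]; group
    have hCp : IsPGroup 3 (C.subgroupOf φ.range) :=
      (hM3.to_le inf_le_left).comap_subtype
    obtain P₀' : Sylow 3 H := default
    have hle : C.subgroupOf φ.range ≤ (P₀'.mapSurjective hφsurj : Sylow 3 φ.range) :=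
      hCp.le_sylow_of_normal _
    refine ⟨(P₀' : Subgroup H).map H.subtype, P₀'.isPGroup'.map H.subtype, ?_, ?_⟩
    · rintro _ ⟨h, -, rfl⟩
      exact (hHmem _).mp h.2
    · intro c hcM hcd
      obtain ⟨c₀, rfl⟩ := hπsurj c
      obtain ⟨c', hc', hc'π⟩ := hF1 c₀ hcd
      have hc'H : c' ∈ H := (hHmem _).mpr hc'.eq
      have hrng : π c₀ ∈ φ.range := ⟨⟨c', hc'H⟩, hc'π⟩
      have hmemC : (⟨π c₀, hrng⟩ : φ.range) ∈ C.subgroupOf φ.range := by
        rw [Subgroup.mem_subgroupOf]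
        refine ⟨hcM, ?_⟩
        show _ ∈ Subgroup.centralizer {π d}
        rw [Subgroup.mem_centralizer_iff]
        intro y hy
        rw [Set.mem_singleton_iff] at hy
        rw [hy]
        exact hcd.eq.symm
      have := hle hmemC
      rw [← SetLike.mem_coe, Sylow.coe_mapSurjective] at this
      obtain ⟨h, hh, hhe⟩ := this
      refine ⟨(h : G), ⟨h, hh, rfl⟩, ?_⟩
      exact congrArg Subtype.val hhe
  obtain ⟨P₀, hP₀p, hP₀c, hP₀cov⟩ := hF2
  -- a maximal `d`-invariant 3-subgroup containing `P₀`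
  have hfin : {R : Subgroup G | IsPGroup 3 R ∧ P₀ ≤ R ∧ ∀ r ∈ R, d * r * d⁻¹ ∈ R}.Finite :=
    Set.toFinite _
  have hnonempty : {R : Subgroup G | IsPGroup 3 R ∧ P₀ ≤ R ∧ ∀ r ∈ R, d * r * d⁻¹ ∈ R}.Nonempty := by
    refine ⟨P₀, hP₀p, le_rfl, ?_⟩
    intro r hr
    rw [(hP₀c r hr).eq, mul_inv_cancel_right]
    exact hr
  obtain ⟨R, hRmax⟩ := hfin.exists_maximal hnonempty
  obtain ⟨⟨hRp, hP₀R, hRd⟩, hRmax'⟩ := hRmax
  have hdR : d ∈ Subgroup.normalizer (R : Set G) := by
    rw [Subgroup.mem_normalizer_iff]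
    intro h
    constructor
    · exact hRd h
    · intro hh
      have := hRd _ hh
      rw [inv d hd] at this
      have e : d * (d * h * d) * d = h := by
        calc d * (d * h * d) * d = (d * d) * h * (d * d) := by group
          _ = h := by rw [sq d hd, one_mul, mul_one]
      rwa [e] at this
  obtain ⟨P, hRP⟩ := hRp.exists_le_sylow
  -- `R` is the whole Sylow subgroup
  have hPR : (P : Subgroup G) = R := by
    by_contra hne
    have hlt : R < (P : Subgroup G) := lt_of_le_of_ne hRP (fun e => hne e.symm)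
    haveI : Group.IsNilpotent (P : Subgroup G) := P.isPGroup'.isNilpotent
    have hnc : NormalizerCondition (P : Subgroup G) := Group.normalizerCondition_of_isNilpotent
    have hlt' : R.subgroupOf (P : Subgroup G) < ⊤ := by
      rw [lt_top_iff_ne_top]
      intro e
      rw [Subgroup.subgroupOf_eq_top] at e
      exact hne (le_antisymm e hRP)
    have hlt2 := hnc _ hlt'
    obtain ⟨y', hy'N, hy'R⟩ := SetLike.exists_of_lt hlt2
    obtain ⟨y, hyP⟩ := y'
    have hyR : y ∉ R := fun h => hy'R (Subgroup.mem_subgroupOf.mpr h)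
    have hyN : y ∈ Subgroup.normalizer (R : Set G) := by
      rw [Subgroup.mem_normalizer_iff]
      intro h
      rw [Subgroup.mem_normalizer_iff] at hy'N
      constructor
      · intro hh
        have := (hy'N ⟨h, hRP hh⟩).mp (Subgroup.mem_subgroupOf.mpr hh)
        exact Subgroup.mem_subgroupOf.mp this
      · intro hh
        have hhP : h ∈ (P : Subgroup G) := by
          have h1 : y * h * y⁻¹ ∈ (P : Subgroup G) := hRP hh
          have h2 := (P : Subgroup G).mul_mem ((P : Subgroup G).mul_mem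
            ((P : Subgroup G).inv_mem hyP) h1) hyP
          have e : y⁻¹ * (y * h * y⁻¹) * y = h := by group
          rwa [e] at h2
        have := (hy'N ⟨h, hhP⟩).mpr (Subgroup.mem_subgroupOf.mpr hh)
        exact Subgroup.mem_subgroupOf.mp this
    -- the new element
    have hbD : y⁻¹ * d * y ∈ D := by
      have := hconj y⁻¹ d hd
      rwa [inv_inv] at this
    obtain ⟨b, hb⟩ : ∃ b : G, b = y⁻¹ * d * y := ⟨_, rfl⟩
    rw [← hb] at hbD
    obtain ⟨x, hx⟩ : ∃ x : G, x = b * d := ⟨_, rfl⟩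
    have hxN : x ∈ Subgroup.normalizer (R : Set G) := by
      rw [hx, hb]
      exact Subgroup.mul_mem _ (Subgroup.mul_mem _ (Subgroup.mul_mem _
        (Subgroup.inv_mem _ hyN) hdR) hyN) hdR
    have hdx : d * x * d⁻¹ = x⁻¹ := by
      rw [hx, mul_inv_rev, inv d hd, inv b hbD]
      calc d * (b * d) * d = d * b * (d * d) := by group
        _ = d * b := by rw [sq d hd, mul_one]
    -- powers of 3
    obtain ⟨ky, hky⟩ := P.isPGroup' ⟨y, hyP⟩
    have hky' : y ^ (3 ^ ky) = 1 := by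
      have := congrArg Subtype.val hky
      simpa using this
    have hyM : π y ∈ Cfsg.pCore 3 (G ⧸ Cfsg.pCore 2 G) :=
      hL3 (π y) ky (by rw [← map_pow, hky', map_one])
    have hdisj : ∀ g : G, g ∈ (P : Subgroup G) → g ∈ Cfsg.pCore 2 G → g = 1 := by
      intro g hgP hgQ
      have := IsPGroup.disjoint_of_ne 3 2 (by norm_num) _ _ P.isPGroup' hQ2
      exact Subgroup.disjoint_def.mp this hgP hgQ
    -- the image of `x` is not in the image of `R`
    have hxR : ∀ r ∈ R, π r ≠ π x := by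
      intro r hr hrx
      obtain ⟨kr, hkr⟩ := hRp ⟨r, hr⟩
      have hkr' : r ^ (3 ^ kr) = 1 := by
        have := congrArg Subtype.val hkr
        simpa using this
      have hz3 : (π x) ^ (3 ^ kr) = 1 := by rw [← hrx, ← map_pow, hkr', map_one]
      set m := (3 ^ kr + 1) / 2 with hm
      have hww : (π x) ^ m * (π x) ^ m = π x := half_pow hz3
      have hdz : π d * π x * (π d)⁻¹ = (π x)⁻¹ := by
        rw [← map_inv, ← map_mul, ← map_mul, hdx, map_inv]
      have hdw : π d * (π x) ^ m * (π d)⁻¹ = ((π x) ^ m)⁻¹ := by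
        rw [← conj_pow, hdz, inv_pow]
      have hdy : π d * π y * (π d)⁻¹ = π y * π x := by
        rw [hx, hb, hdinv]
        simp only [map_mul, map_inv]
        group
      -- the fixed point
      have hcfix : Commute (π y * (π x) ^ m) (π d) := by
        show π y * (π x) ^ m * π d = π d * (π y * (π x) ^ m)
        have e1 : π d * (π y * (π x) ^ m) * (π d)⁻¹ = π y * (π x) ^ m := by
          calc π d * (π y * (π x) ^ m) * (π d)⁻¹
              = (π d * π y * (π d)⁻¹) * (π d * (π x) ^ m * (π d)⁻¹) := by group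
            _ = π y * π x * ((π x) ^ m)⁻¹ := by rw [hdy, hdw]
            _ = π y * ((π x) ^ m * (π x) ^ m) * ((π x) ^ m)⁻¹ := by rw [hww]
            _ = π y * (π x) ^ m := by group
        calc π y * (π x) ^ m * π d = π d * (π y * (π x) ^ m) * (π d)⁻¹ * π d := by rw [e1]
          _ = π d * (π y * (π x) ^ m) := by group
      have hwM : (π x) ^ m ∈ Cfsg.pCore 3 (G ⧸ Cfsg.pCore 2 G) := by
        apply hL3 _ kr
        rw [← pow_mul, mul_comm, pow_mul, hz3, one_pow]
      obtain ⟨r₀, hr₀, hr₀e⟩ := hP₀cov _ (Subgroup.mul_mem _ hyM hwM) hcfix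
      have hr₀R : r₀ ∈ R := hP₀R hr₀
      have hmem : r₀⁻¹ * (y * r ^ m) ∈ Cfsg.pCore 2 G := by
        have e : π r₀ = π (y * r ^ m) := by rw [hr₀e, map_mul, map_pow, hrx]
        exact QuotientGroup.eq.mp e
      have hmemP : r₀⁻¹ * (y * r ^ m) ∈ (P : Subgroup G) :=
        Subgroup.mul_mem _ (Subgroup.inv_mem _ (hRP hr₀R))
          (Subgroup.mul_mem _ hyP (hRP (Subgroup.pow_mem _ hr _)))
      have hone := hdisj _ hmemP hmem
      apply hyR
      have hy_eq : y = r₀ * (r ^ m)⁻¹ := by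
        calc y = r₀ * (r₀⁻¹ * (y * r ^ m)) * (r ^ m)⁻¹ := by group
          _ = r₀ * (r ^ m)⁻¹ := by rw [hone, mul_one]
      rw [hy_eq]
      exact R.mul_mem hr₀R (R.inv_mem (R.pow_mem hr _))
    have hxnR : x ∉ R := fun h => hxR x h rfl
    -- `x` has order 3
    have hxM : π x ∈ Cfsg.pCore 3 (G ⧸ Cfsg.pCore 2 G) := by
      have e : π x = (π y)⁻¹ * (π d * π y * (π d)⁻¹) := by
        rw [hx, hb, hdinv]
        simp only [map_mul, map_inv, mul_assoc]
      rw [e]
      exact Subgroup.mul_mem _ (Subgroup.inv_mem _ hyM) (hMn.conj_mem _ hyM _)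
    have hx3 : x ^ 3 = 1 := by
      rcases hDs.2 b hbD d hd with h | h
      · exfalso
        obtain ⟨kx, hkx⟩ := hM3 ⟨π x, hxM⟩
        have hkx' : (π x) ^ (3 ^ kx) = 1 := by
          have := congrArg Subtype.val hkx
          simpa using this
        have h2 : (π x) ^ 2 = 1 := by rw [← map_pow, hx, h, map_one]
        have h1 : π x = 1 := eq_one_of_sq_of_pow_three h2 hkx'
        apply hxR 1 R.one_mem
        rw [map_one, h1]
      · rw [hx]; exact h
    have hZp : IsPGroup 3 (Subgroup.zpowers x) := by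
      rintro ⟨g, hg⟩
      obtain ⟨i, rfl⟩ := Subgroup.mem_zpowers_iff.mp hg
      refine ⟨1, ?_⟩
      apply Subtype.ext
      show (x ^ i) ^ (3 ^ 1) = 1
      rw [pow_one, ← zpow_natCast, ← zpow_mul, mul_comm, zpow_mul, zpow_natCast, hx3, one_zpow]
    have hZN : Subgroup.zpowers x ≤ Subgroup.normalizer (R : Set G) := by
      rw [Subgroup.zpowers_le]
      exact hxN
    have hR'p : IsPGroup 3 (R ⊔ Subgroup.zpowers x : Subgroup G) :=
      hRp.to_sup_of_normal_left' hZp hZN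
    have hR'd : ∀ r ∈ R ⊔ Subgroup.zpowers x, d * r * d⁻¹ ∈ R ⊔ Subgroup.zpowers x := by
      have hle : R ⊔ Subgroup.zpowers x ≤
          (R ⊔ Subgroup.zpowers x).comap (MulAut.conj d).toMonoidHom := by
        apply sup_le
        · intro r hr
          rw [Subgroup.mem_comap]
          exact Subgroup.mem_sup_left (hRd r hr)
        · rw [Subgroup.zpowers_le, Subgroup.mem_comap]
          show d * x * d⁻¹ ∈ R ⊔ Subgroup.zpowers x
          rw [hdx]
          exact Subgroup.mem_sup_right (Subgroup.inv_mem _ (Subgroup.mem_zpowers x))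
      intro r hr
      exact hle hr
    have hR'mem : R ⊔ Subgroup.zpowers x ∈
        {R : Subgroup G | IsPGroup 3 R ∧ P₀ ≤ R ∧ ∀ r ∈ R, d * r * d⁻¹ ∈ R} :=
      ⟨hR'p, hP₀R.trans le_sup_left, hR'd⟩
    have := hRmax' hR'mem le_sup_left
    exact hxnR (this (Subgroup.mem_sup_right (Subgroup.mem_zpowers x)))
  refine ⟨P, ?_, ?_⟩
  · have : ((P : Subgroup G) : Set G) = (R : Set G) := by rw [hPR]
    show d ∈ Subgroup.normalizer ((P : Subgroup G) : Set G)
    rw [this]
    exact hdR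
  · -- generation
    rw [eq_top_iff]
    intro g _
    have hMle : Cfsg.pCore 3 (G ⧸ Cfsg.pCore 2 G) ≤
        ((P.mapSurjective hπsurj : Sylow 3 (G ⧸ Cfsg.pCore 2 G)) : Subgroup _) :=
      Cfsg.Agent.Lib.Helper1.pCore_le_sylow 3 _
    have hmap : (⊤ : Subgroup (G ⧸ Cfsg.pCore 2 G)) ≤
        (Subgroup.zpowers d ⊔ (P : Subgroup G) ⊔ Cfsg.pCore 2 G).map π := by
      rw [← hw1]
      apply sup_le
      · rw [← MonoidHom.map_zpowers]
        exact Subgroup.map_mono (le_sup_left.trans le_sup_left)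
      · refine hMle.trans ?_
        rw [Sylow.coe_mapSurjective]
        exact Subgroup.map_mono (le_sup_right.trans le_sup_left)
    obtain ⟨k, hk, hkg⟩ := hmap (Subgroup.mem_top (π g))
    have h1 : k⁻¹ * g ∈ Cfsg.pCore 2 G := QuotientGroup.eq.mp hkg
    have e : g = k * (k⁻¹ * g) := by group
    rw [e]
    exact Subgroup.mul_mem _ hk (Subgroup.mem_sup_right h1)

end Main

end Cfsg.Agent.Lib.Helper27.PerpSylow
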