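import Mathlib
import Cfsg.Agent.Lib.helper17.QdStab13

set_option autoImplicit false

/-! Group-level input for: the fusion system of a `Qd(p)`-free group (`p` odd) is solvable. -/

namespace Cfsg.Agent.Lib.Helper27.QdSolv

open Cfsg Cfsg.Agent.Lib.Helper1.GNPC

universe u

variable {p : ℕ} [Fact p.Prime]

/-- explicit form of control of strong fusion by `ZJ(T₀)` inside `T₀` itself -/
theorem csf_explicit {G : Type*} [Group G] [Finite G] (T₀ : Sylow p G)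
    (h : Cfsg.ControlsStrongFusion p (Cfsg.centerThompsonAOf (T₀ : Subgroup G)))
    (A : Set G) (hA : A ⊆ ((T₀ : Subgroup G) : Set G)) (g : G)
    (hg : ∀ a ∈ A, g * a * g⁻¹ ∈ (T₀ : Subgroup G)) :
    ∃ x ∈ Subgroup.normalizer ((Cfsg.centerThompsonAOf (T₀ : Subgroup G) : Subgroup G) : Set G),
      ∀ a ∈ A, g * a * g⁻¹ = x * a * x⁻¹ := by
  obtain ⟨T, hUT, hctl⟩ := h
  obtain ⟨k, hk⟩ := MulAction.exists_smul_eq G T₀ T
  have hT : (T : Subgroup G) = (T₀ : Subgroup G).map (MulAut.conj k).toMonoidHom := by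
    rw [← hk, Sylow.coe_subgroup_smul, Subgroup.pointwise_smul_def]
    rfl
  have hmemT : ∀ a ∈ (T₀ : Subgroup G), k * a * k⁻¹ ∈ (T : Subgroup G) := by
    intro a ha
    rw [hT]
    exact ⟨a, ha, rfl⟩
  set U := Cfsg.centerThompsonAOf (T₀ : Subgroup G) with hU
  have hUle : U ≤ (T₀ : Subgroup G) := ctA_le _
  -- `k` normalises `U`
  have h1 : (fun a => k * a * k⁻¹) '' (U : Set G) ⊆ ((T : Subgroup G) : Set G) := by
    rintro _ ⟨u, hu, rfl⟩
    exact hmemT u (hUle hu)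
  obtain ⟨x, hx, hxu⟩ := (hctl (U : Set G) hUT).2 k h1
  have hkU : k ∈ Subgroup.normalizer (U : Set G) := by
    have hc : x⁻¹ * k ∈ Subgroup.centralizer (U : Set G) := by
      rw [Subgroup.mem_centralizer_iff]
      intro u hu
      have := hxu u hu
      have e : u * (x⁻¹ * k) = x⁻¹ * (x * u * x⁻¹) * k := by group
      rw [e, ← this]
      group
    have := (Subgroup.normalizer (U : Set G)).mul_mem hx (Subgroup.centralizer_le_normalizer _ hc)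
    rwa [mul_inv_cancel_left] at this
  -- transport
  have hA' : (fun a => k * a * k⁻¹) '' A ⊆ ((T : Subgroup G) : Set G) := by
    rintro _ ⟨a, ha, rfl⟩
    exact hmemT a (hA ha)
  have hg' : (fun a => (k * g * k⁻¹) * a * (k * g * k⁻¹)⁻¹) '' ((fun a => k * a * k⁻¹) '' A) ⊆
      ((T : Subgroup G) : Set G) := by
    rintro _ ⟨_, ⟨a, ha, rfl⟩, rfl⟩
    have := hmemT _ (hg a ha)
    have e : (k * g * k⁻¹) * (k * a * k⁻¹) * (k * g * k⁻¹)⁻¹ = k * (g * a * g⁻¹) * k⁻¹ := by group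
    show (k * g * k⁻¹) * (k * a * k⁻¹) * (k * g * k⁻¹)⁻¹ ∈ (T : Subgroup G)
    rw [e]
    exact this
  obtain ⟨x', hx', hxa⟩ := (hctl _ hA').2 (k * g * k⁻¹) hg'
  refine ⟨k⁻¹ * x' * k, ?_, fun a ha => ?_⟩
  · exact Subgroup.mul_mem _ (Subgroup.mul_mem _ (Subgroup.inv_mem _ hkU) hx') hkU
  · have := hxa (k * a * k⁻¹) ⟨a, ha, rfl⟩
    have e1 : g * a * g⁻¹ = k⁻¹ * ((k * g * k⁻¹) * (k * a * k⁻¹) * (k * g * k⁻¹)⁻¹) * k := by group
    rw [e1, this]
    group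

/-- the group-level statement: modulo a proper normal subgroup `R` of the Sylow subgroup `P`
there is a nontrivial subgroup `W/R` of `P/R` such that every conjugation by an element of
`N_G(R)` between subgroups of `P` is induced, modulo `R`, by an element of `N_G(R) ∩ N_G(W)`. -/
theorem group_level {G : Type u} [Group G] [Finite G] (hp : p ≠ 2)
    (hqd : ¬ Cfsg.Involves ↥(Cfsg.qd p) G) (P : Sylow p G) (R : Subgroup G)
    (hRP : R ≤ (P : Subgroup G)) (hPN : (P : Subgroup G) ≤ Subgroup.normalizer (R : Set G))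
    (hne : R ≠ (P : Subgroup G)) :
    ∃ W : Subgroup G, R ≤ W ∧ W ≤ (P : Subgroup G) ∧ W ≠ R ∧
      ∀ (Y : Subgroup G) (g : G), Y ≤ (P : Subgroup G) → g ∈ Subgroup.normalizer (R : Set G) →
        (∀ y ∈ Y, g * y * g⁻¹ ∈ (P : Subgroup G)) →
        ∃ n : G, n ∈ Subgroup.normalizer (R : Set G) ∧ n ∈ Subgroup.normalizer (W : Set G) ∧
          ∀ y ∈ Y, (n * y * n⁻¹)⁻¹ * (g * y * g⁻¹) ∈ R := by
  classical
  set N := Subgroup.normalizer (R : Set G) with hN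
  have hRN : (R.subgroupOf N).Normal := Subgroup.normal_in_normalizer
  let mkH : ↥N →* ↥N ⧸ R.subgroupOf N := QuotientGroup.mk' (R.subgroupOf N)
  have hmks : Function.Surjective mkH := QuotientGroup.mk'_surjective _
  have hmk : ∀ a b : ↥N, mkH a = mkH b ↔ (a : G)⁻¹ * (b : G) ∈ R := by
    intro a b
    show (QuotientGroup.mk a : ↥N ⧸ R.subgroupOf N) = QuotientGroup.mk b ↔ _
    rw [QuotientGroup.eq, Subgroup.mem_subgroupOf]
    rfl
  have hmk1 : ∀ a : ↥N, mkH a = 1 ↔ (a : G) ∈ R := by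
    intro a
    show (QuotientGroup.mk a : ↥N ⧸ R.subgroupOf N) = 1 ↔ _
    rw [QuotientGroup.eq_one_iff, Subgroup.mem_subgroupOf]
  let PN : Sylow p ↥N := P.subtype hPN
  let Pbar : Sylow p (↥N ⧸ R.subgroupOf N) := PN.mapSurjective hmks
  have hmemPbar : ∀ h : ↥N ⧸ R.subgroupOf N, h ∈ (Pbar : Subgroup _) ↔
      ∃ y : ↥N, (y : G) ∈ (P : Subgroup G) ∧ mkH y = h := by
    intro h
    show h ∈ ((P : Subgroup G).subgroupOf N).map mkH ↔ _
    constructor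
    · rintro ⟨y, hy, rfl⟩
      exact ⟨y, Subgroup.mem_subgroupOf.mp hy, rfl⟩
    · rintro ⟨y, hy, rfl⟩
      exact ⟨y, Subgroup.mem_subgroupOf.mpr hy, rfl⟩
  have hkey : ∀ x : ↥N, mkH x ∈ (Pbar : Subgroup _) → (x : G) ∈ (P : Subgroup G) := by
    intro x hx
    obtain ⟨y, hy, hyx⟩ := (hmemPbar _).mp hx
    have h1 := (hmk y x).mp hyx
    have : (x : G) = (y : G) * ((y : G)⁻¹ * (x : G)) := by group
    rw [this]
    exact Subgroup.mul_mem _ hy (hRP h1)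
  have hfree : ¬ Cfsg.Involves ↥(Cfsg.qd p) (↥N ⧸ R.subgroupOf N) :=
    Cfsg.Agent.Lib.helper17.QdStab8.section_free hqd N R
  have csf := Cfsg.Agent.Lib.helper17.QdStab13.csf_of_qdfree hp hfree Pbar
  set W₀ := Cfsg.centerThompsonAOf (Pbar : Subgroup (↥N ⧸ R.subgroupOf N)) with hW₀
  have hW₀le : W₀ ≤ (Pbar : Subgroup _) := ctA_le _
  have hPbar_ne : (Pbar : Subgroup (↥N ⧸ R.subgroupOf N)) ≠ ⊥ := by
    intro hbot
    apply hne
    apply le_antisymm hRP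
    intro y hy
    have h1 : mkH ⟨y, hPN hy⟩ ∈ (Pbar : Subgroup _) := (hmemPbar _).mpr ⟨⟨y, hPN hy⟩, hy, rfl⟩
    rw [hbot, Subgroup.mem_bot] at h1
    exact (hmk1 _).mp h1
  have hW₀ne : W₀ ≠ ⊥ := ctA_ne_bot Pbar.isPGroup' hPbar_ne
  let W : Subgroup G := (W₀.comap mkH).map N.subtype
  have hmemW : ∀ w : G, w ∈ W ↔ ∃ hw : w ∈ N, mkH ⟨w, hw⟩ ∈ W₀ := by
    intro w
    constructor
    · rintro ⟨x, hx, rfl⟩
      exact ⟨x.2, hx⟩
    · rintro ⟨hw, h⟩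
      exact ⟨⟨w, hw⟩, h, rfl⟩
  have hRN' : R ≤ N := Subgroup.le_normalizer
  refine ⟨W, ?_, ?_, ?_, ?_⟩
  · intro r hr
    refine (hmemW r).mpr ⟨hRN' hr, ?_⟩
    rw [(hmk1 ⟨r, hRN' hr⟩).mpr hr]
    exact W₀.one_mem
  · intro w hw
    obtain ⟨hwN, h⟩ := (hmemW w).mp hw
    exact hkey ⟨w, hwN⟩ (hW₀le h)
  · intro hWR
    apply hW₀ne
    rw [Subgroup.eq_bot_iff_forall]
    intro h hh
    obtain ⟨x, rfl⟩ := hmks h
    have : (x : G) ∈ W := (hmemW _).mpr ⟨x.2, hh⟩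
    rw [hWR] at this
    exact (hmk1 x).mpr this
  · intro Y g hY hg hgY
    let A : Set (↥N ⧸ R.subgroupOf N) := mkH '' {y : ↥N | (y : G) ∈ Y}
    have hA : A ⊆ ((Pbar : Subgroup (↥N ⧸ R.subgroupOf N)) : Set _) := by
      rintro _ ⟨y, hy, rfl⟩
      exact (hmemPbar _).mpr ⟨y, hY hy, rfl⟩
    have hcond : ∀ a ∈ A, mkH ⟨g, hg⟩ * a * (mkH ⟨g, hg⟩)⁻¹ ∈ (Pbar : Subgroup _) := by
      rintro _ ⟨y, hy, rfl⟩
      rw [← map_inv, ← map_mul, ← map_mul]
      exact (hmemPbar _).mpr ⟨_, hgY y hy, rfl⟩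
    obtain ⟨x, hx, hxa⟩ := csf_explicit Pbar csf A hA (mkH ⟨g, hg⟩) hcond
    obtain ⟨n, rfl⟩ := hmks x
    refine ⟨n, n.2, ?_, ?_⟩
    · rw [Subgroup.mem_normalizer_iff]
      intro w
      rw [hmemW, hmemW]
      constructor
      · rintro ⟨hw, h⟩
        refine ⟨N.mul_mem (N.mul_mem n.2 hw) (N.inv_mem n.2), ?_⟩
        have e : (⟨(n : G) * w * (n : G)⁻¹, N.mul_mem (N.mul_mem n.2 hw) (N.inv_mem n.2)⟩ : ↥N) =
            n * ⟨w, hw⟩ * n⁻¹ := rfl
        rw [e, map_mul, map_mul, map_inv]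
        exact (Subgroup.mem_normalizer_iff.mp hx _).mp h
      · rintro ⟨hw, h⟩
        have hw' : w ∈ N := by
          have := N.mul_mem (N.mul_mem (N.inv_mem n.2) hw) n.2
          have e : (n : G)⁻¹ * ((n : G) * w * (n : G)⁻¹) * (n : G) = w := by group
          rwa [e] at this
        refine ⟨hw', ?_⟩
        have e : (⟨(n : G) * w * (n : G)⁻¹, hw⟩ : ↥N) = n * ⟨w, hw'⟩ * n⁻¹ := rfl
        rw [e, map_mul, map_mul, map_inv] at h
        exact (Subgroup.mem_normalizer_iff.mp hx _).mpr h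
    · intro y hy
      have hyN : y ∈ N := hPN (hY hy)
      have h1 := hxa (mkH ⟨y, hyN⟩) ⟨⟨y, hyN⟩, hy, rfl⟩
      rw [← map_inv, ← map_mul, ← map_mul, ← map_inv, ← map_mul, ← map_mul] at h1
      exact (hmk _ _).mp h1.symm

end Cfsg.Agent.Lib.Helper27.QdSolv
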