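import Mathlib
import Cfsg.Agent.Lib.Helper18.REELA.Defs
import Cfsg.Agent.Lib.helper15.REELAA
import Cfsg.Agent.Lib.Helper20.REELA02

/-!
# Project REE, block LA (designer helper18), row LA03 (`la_charpoly`): the characteristic
polynomial of a 7×7 matrix of prime order `l` (`ord_l |K| = 6`) is `(X - 1) p`, `p` irreducible
monic of degree 6.
-/

set_option autoImplicit false

namespace Cfsg.Agent.Lib.helper7.REE

open Matrix Polynomial

universe v

section finite

variable {K : Type v} [Field K] [Fintype K]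

/-- `(l : K) ≠ 0` when the prime `l` does not divide `|K|`. -/
theorem reela03_cast_ne (l : ℕ) (hl : l.Prime) (hlK : ¬ l ∣ Fintype.card K) : (l : K) ≠ 0 := by
  obtain ⟨p₀, hp₀⟩ := CharP.exists K
  haveI : Fact p₀.Prime := ⟨CharP.char_is_prime K p₀⟩
  obtain ⟨f, -, hcard⟩ := FiniteField.card K p₀
  intro h0
  have hdvd : p₀ ∣ l := (CharP.cast_eq_zero_iff K p₀ l).mp h0
  have hp0 : p₀.Prime := Fact.out
  have heq : p₀ = l := (Nat.prime_dvd_prime_iff_eq hp0 hl).mp hdvd
  apply hlK
  rw [hcard, ← heq]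
  exact dvd_pow_self p₀ f.ne_zero

/-- the geometric sum `Φ = ∑_{i<l} X^i` is coprime to `X - C 1` when `(l : K) ≠ 0` -/
theorem reela03_coprime (l : ℕ) (hl0 : (l : K) ≠ 0) :
    IsCoprime (X - C (1 : K)) (∑ i ∈ Finset.range l, (X : K[X]) ^ i) := by
  rw [(Polynomial.irreducible_X_sub_C (1 : K)).coprime_iff_not_dvd, Polynomial.dvd_iff_isRoot]
  intro h
  apply hl0
  have : (∑ i ∈ Finset.range l, (X : K[X]) ^ i).eval 1 = (l : K) := by
    simp [Polynomial.eval_finset_sum]
  rw [← this]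
  exact h

/-- if every irreducible factor of the characteristic polynomial divides `X - 1`, then `M = 1`
(for `M ^ l = 1`, `(l : K) ≠ 0`) -/
theorem reela03_unip {n : Type*} [Fintype n] [DecidableEq n] (l : ℕ) (hl0 : (l : K) ≠ 0)
    (M : Matrix n n K) (hMl : M ^ l = 1)
    (hall : ∀ g : K[X], Irreducible g → g ∣ M.charpoly → g ∣ X - C (1 : K)) : M = 1 := by
  have hχ0 : M.charpoly ≠ 0 := (Matrix.charpoly_monic M).ne_zero
  obtain ⟨u, hu, hnd⟩ :=
    Polynomial.exists_eq_pow_rootMultiplicity_mul_and_not_dvd M.charpoly hχ0 (1 : K)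
  have hu0 : u ≠ 0 := by
    rintro rfl
    exact hnd (dvd_zero _)
  have huu : IsUnit u := by
    by_contra hnu
    obtain ⟨g, hg, hgu⟩ := WfDvdMonoid.exists_irreducible_factor hnu hu0
    have hgχ : g ∣ M.charpoly := by
      rw [hu]
      exact Dvd.dvd.mul_left hgu _
    have h1 : g ∣ X - C (1 : K) := hall g hg hgχ
    have h2 : X - C (1 : K) ∣ g := hg.dvd_symm (Polynomial.irreducible_X_sub_C (1 : K)) h1
    exact hnd (h2.trans hgu)
  have hcop : IsCoprime M.charpoly (∑ i ∈ Finset.range l, (X : K[X]) ^ i) := by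
    rw [hu]
    exact (isCoprime_mul_unit_right_left huu _ _).mpr ((reela03_coprime l hl0).pow_left)
  obtain ⟨a, b, hab⟩ := hcop
  have hgeom : (∑ i ∈ Finset.range l, (X : K[X]) ^ i) * (X - 1) = X ^ l - 1 := geom_sum_mul X l
  have hkey : (X : K[X]) - 1 = a * (X - 1) * M.charpoly + b * (X ^ l - 1) := by
    rw [← hgeom]
    calc (X : K[X]) - 1 = (a * M.charpoly + b * ∑ i ∈ Finset.range l, (X : K[X]) ^ i) * (X - 1) := by
          rw [hab, one_mul]
      _ = _ := by ring
  have h1 : aeval M ((X : K[X]) - 1) = M - 1 := by simp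
  have h2 : aeval M (a * (X - 1) * M.charpoly + b * (X ^ l - 1)) = 0 := by
    have hkill : aeval M ((X : K[X]) ^ l - 1) = 0 := by
      simp [hMl]
    simp only [map_add, map_mul, Matrix.aeval_self_charpoly, hkill, mul_zero, zero_add]
  rw [hkey, h2] at h1
  exact (sub_eq_zero.mp h1.symm)

theorem la_charpoly (l : ℕ) (hl : l.Prime) (h6 : l ∣ Fintype.card K ^ 6 - 1)
    (hmin : ∀ i, 0 < i → i < 6 → ¬ l ∣ Fintype.card K ^ i - 1) (hlK : ¬ l ∣ Fintype.card K)
    (M : Matrix (Fin 7) (Fin 7) K) (hMl : M ^ l = 1) (hM1 : M ≠ 1) :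
    ∃ p : K[X], Irreducible p ∧ p.Monic ∧ p.natDegree = 6 ∧ M.charpoly = (X - 1) * p := by
  have hl0 : (l : K) ≠ 0 := reela03_cast_ne l hl hlK
  have hkill : aeval M ((X : K[X]) ^ l - 1) = 0 := by simp [hMl]
  -- every irreducible factor of the charpoly divides `X - 1` or has degree 6
  have hfac : ∀ g : K[X], Irreducible g → g ∣ M.charpoly → g ∣ X - 1 ∨ g.natDegree = 6 := by
    intro g hg hgd
    by_cases h1 : g ∣ X - 1
    · exact Or.inl h1
    · right
      exact la_irr_deg l hl h6 hmin hlK g hg (la_charpoly_factor M _ g hkill hg hgd) h1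
  by_cases hex : ∃ g : K[X], Irreducible g ∧ g ∣ M.charpoly ∧ ¬ g ∣ X - 1
  · obtain ⟨g, hg, hgd, hg1⟩ := hex
    have hg6 : g.natDegree = 6 := (hfac g hg hgd).resolve_left hg1
    have hg0 : g ≠ 0 := hg.ne_zero
    have hlc : g.leadingCoeff⁻¹ ≠ 0 := inv_ne_zero (leadingCoeff_ne_zero.mpr hg0)
    have hunit : IsUnit (C g.leadingCoeff⁻¹ : K[X]) := Polynomial.isUnit_C.mpr (IsUnit.mk0 _ hlc)
    set p : K[X] := g * C g.leadingCoeff⁻¹ with hpdef
    have hpm : p.Monic := Polynomial.monic_mul_leadingCoeff_inv hg0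
    have hpirr : Irreducible p := (irreducible_mul_isUnit hunit).mpr hg
    have hp6 : p.natDegree = 6 := by
      rw [hpdef, Polynomial.natDegree_mul_C hlc, hg6]
    have hpd : p ∣ M.charpoly := (IsUnit.mul_right_dvd hunit).mpr hgd
    obtain ⟨h, hh⟩ := hpd
    have hχm : (p * h).Monic := by rw [← hh]; exact Matrix.charpoly_monic M
    have hhm : h.Monic := hpm.of_mul_monic_left hχm
    have hdeg : p.natDegree + h.natDegree = 7 := by
      rw [← hpm.natDegree_mul hhm, ← hh, Matrix.charpoly_natDegree_eq_dim]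
      simp
    have hh1 : h.natDegree = 1 := by omega
    have hhirr : Irreducible h := by
      apply Polynomial.irreducible_of_degree_eq_one
      rw [Polynomial.degree_eq_natDegree hhm.ne_zero, hh1]
      rfl
    have hhd : h ∣ M.charpoly := ⟨p, by rw [hh, mul_comm]⟩
    have hhX : h ∣ X - 1 := by
      rcases hfac h hhirr hhd with h' | h'
      · exact h'
      · omega
    have hX1m : ((X : K[X]) - 1).Monic := by
      have := Polynomial.monic_X_sub_C (1 : K)
      rwa [C_1] at this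
    have hX1d : ((X : K[X]) - 1).natDegree = 1 := by
      have := Polynomial.natDegree_X_sub_C (1 : K)
      rwa [C_1] at this
    have heq : (X : K[X]) - 1 = h :=
      Polynomial.eq_of_monic_of_dvd_of_natDegree_le hhm hX1m hhX (by rw [hX1d, hh1])
    exact ⟨p, hpirr, hpm, hp6, by rw [hh, heq, mul_comm]⟩
  · exfalso
    apply hM1
    apply reela03_unip l hl0 M hMl
    intro g hg hgd
    by_contra hng
    apply hex
    refine ⟨g, hg, hgd, ?_⟩
    rwa [C_1] at hng

end finite

end Cfsg.Agent.Lib.helper7.REE
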