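import Mathlib
import Cfsg.Agent.Lib.Helper18.REELA.Defs

/-!
# Project REE, block LA (designer helper18), row LA06, SECOND COPY (`la_cyclic_ker_h27`; the canonical
`la_cyclic_ker` is `Cfsg.Agent.Lib.Helper25.REELA06`, landed 44 s earlier):
every non-zero vector of `W = ker p(f)` (`p` irreducible, `dim W = deg p`) is cyclic.
-/

set_option autoImplicit false

namespace Cfsg.Agent.Lib.helper7.REE

open Matrix Polynomial

section general

variable {F : Type*} [Field F]

variable {V : Type*} [AddCommGroup V] [Module F V]

/-- `r(f) v ∈ ker p(f)` when `v ∈ ker p(f)`. -/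
theorem reela06h27_mem (f : Module.End F V) (p r : F[X]) (v : V)
    (hv : v ∈ LinearMap.ker (aeval f p)) : aeval f r v ∈ LinearMap.ker (aeval f p) := by
  rw [LinearMap.mem_ker] at hv ⊢
  have h : aeval f p * aeval f r = aeval f r * aeval f p := by
    rw [← map_mul, ← map_mul, mul_comm]
  have : (aeval f p * aeval f r) v = 0 := by
    rw [h, Module.End.mul_apply, hv, map_zero]
  simpa [Module.End.mul_apply] using this

/-- a polynomial of degree `< deg p` killing a non-zero vector of `ker p(f)` is zero -/
theorem reela06h27_inj (f : Module.End F V) (p : F[X]) (hp : Irreducible p)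
    (v : V) (hv : v ∈ LinearMap.ker (aeval f p)) (hv0 : v ≠ 0)
    (r : F[X]) (hr : r.degree < p.degree) (hrv : aeval f r v = 0) : r = 0 := by
  by_contra hr0
  have hndvd : ¬ p ∣ r := by
    intro hd
    have := Polynomial.degree_le_of_dvd hd hr0
    exact absurd hr (not_lt.mpr this)
  have hcop : IsCoprime p r := (hp.coprime_iff_not_dvd).mpr hndvd
  obtain ⟨a, b, hab⟩ := hcop
  apply hv0
  have h1 : aeval f (a * p + b * r) v = v := by
    rw [hab]; simp
  rw [← h1, map_add, map_mul, map_mul, LinearMap.add_apply, Module.End.mul_apply,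
    Module.End.mul_apply, LinearMap.mem_ker.mp hv, hrv, map_zero, map_zero, add_zero]

theorem la_cyclic_ker_h27 (f : Module.End F V) (p : F[X]) (hp : Irreducible p)
    (hW : Module.finrank F (LinearMap.ker (aeval f p)) = p.natDegree)
    (v : V) (hv : v ∈ LinearMap.ker (aeval f p)) (hv0 : v ≠ 0) :
    ∀ w ∈ LinearMap.ker (aeval f p), ∃ r : F[X], w = aeval f r v := by
  have hd : 0 < p.natDegree := hp.natDegree_pos
  have hfin : Module.Finite F (LinearMap.ker (aeval f p)) :=
    Module.finite_of_finrank_pos (by rw [hW]; exact hd)
  -- the evaluation map on polynomials of degree `< deg p`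
  let φ : (Polynomial.degreeLT F p.natDegree) →ₗ[F] (LinearMap.ker (aeval f p)) :=
    { toFun := fun r => ⟨aeval f (r : F[X]) v, reela06h27_mem f p r v hv⟩
      map_add' := by
        intro r s
        apply Subtype.ext
        simp
      map_smul' := by
        intro c r
        apply Subtype.ext
        simp }
  have hφinj : Function.Injective φ := by
    rw [← LinearMap.ker_eq_bot, LinearMap.ker_eq_bot']
    intro r hr
    have hr' : aeval f (r : F[X]) v = 0 := congrArg Subtype.val hr
    have hdeg : (r : F[X]).degree < p.degree := by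
      have := Polynomial.mem_degreeLT.mp r.2
      rw [Polynomial.degree_eq_natDegree hp.ne_zero]
      exact this
    apply Subtype.ext
    exact reela06h27_inj f p hp v hv hv0 r hdeg hr'
  have hrank : Module.finrank F (Polynomial.degreeLT F p.natDegree) =
      Module.finrank F (LinearMap.ker (aeval f p)) := by
    rw [hW, LinearEquiv.finrank_eq (Polynomial.degreeLTEquiv F p.natDegree)]
    simp
  have hfin2 : Module.Finite F (Polynomial.degreeLT F p.natDegree) :=
    Module.Finite.equiv (Polynomial.degreeLTEquiv F p.natDegree).symm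
  have hφsurj : Function.Surjective φ :=
    (LinearMap.injective_iff_surjective_of_finrank_eq_finrank hrank).mp hφinj
  intro w hw
  obtain ⟨r, hr⟩ := hφsurj ⟨w, hw⟩
  exact ⟨r, (congrArg Subtype.val hr).symm⟩

end general

end Cfsg.Agent.Lib.helper7.REE
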