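import Mathlib
import Cfsg.Agent.Lib.Helper21.WBRa
import Cfsg.Agent.Lib.Helper11.WBRb

set_option autoImplicit false

/-! # Project RMD (S2343), abstract part

Two trace lemmas for a finite-dimensional complex representation:

* if `g` normalises the image of a finite abelian group `U` and moves every character of `U`
  occurring in the representation, then `ρ g⁻¹` has trace zero;
* if two commuting involutions and their product have trace zero, the degree is divisible
  by four. -/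

namespace Cfsg.Agent.Lib.Helper27.RMD

open Cfsg.Agent.Lib.helper15.WB Cfsg.Agent.Lib.Helper21.WBRa Cfsg.Agent.Lib.Helper11.WBRb

section move

variable {G : Type*} [Group G] {V : Type*} [AddCommGroup V] [Module ℂ V] [FiniteDimensional ℂ V]
  {U : Type*} [AddCommGroup U] [Fintype U]

/-- the Fourier idempotents are idempotent -/
theorem rmd_idem_idem (ρ : Representation ℂ G V) (φ : U → G)
    (hφ : ∀ a b, φ (a + b) = φ a * φ b) (ψ : AddChar U ℂ) (v : V) :
    idem ρ φ ψ (idem ρ φ ψ v) = idem ρ φ ψ v := by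
  rw [idem_of_mem_eig ρ φ ψ ψ (idem_mem_eig ρ φ hφ ψ v), if_pos rfl]

/-- if `g` moves every occurring character then `ρ g⁻¹` has trace zero -/
theorem rmd_trace_eq_zero (ρ : Representation ℂ G V) (φ : U → G)
    (hφ : ∀ a b, φ (a + b) = φ a * φ b) (g : G) (α : U →+ U)
    (h : ∀ a, g * φ a * g⁻¹ = φ (α a))
    (hmove : ∀ ψ ∈ Occ ρ φ, ψ.compAddMonoidHom α ≠ ψ) :
    LinearMap.trace ℂ V (ρ g⁻¹) = 0 := by
  classical
  have hsum : ρ g⁻¹ = ∑ ψ : AddChar U ℂ, ρ g⁻¹ ∘ₗ idem ρ φ ψ := by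
    ext v
    rw [LinearMap.sum_apply]
    simp only [LinearMap.comp_apply]
    rw [← map_sum, sum_idem ρ φ (phi_zero φ hφ) v]
  rw [hsum, map_sum]
  refine Finset.sum_eq_zero (fun ψ _ => ?_)
  have hPP : idem ρ φ ψ ∘ₗ idem ρ φ ψ = idem ρ φ ψ := by
    ext v
    exact rmd_idem_idem ρ φ hφ ψ v
  have h0 : idem ρ φ ψ ∘ₗ (ρ g⁻¹ ∘ₗ idem ρ φ ψ) = 0 := by
    ext v
    simp only [LinearMap.comp_apply, LinearMap.zero_apply]
    by_cases hv : idem ρ φ ψ v = 0
    · rw [hv, map_zero, map_zero]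
    · have hocc : ψ ∈ Occ ρ φ := ⟨idem ρ φ ψ v, hv, idem_mem_eig ρ φ hφ ψ v⟩
      have hmem : ρ g⁻¹ (idem ρ φ ψ v) ∈ eig ρ φ (ψ.compAddMonoidHom α) :=
        fun a => transport ρ φ g α h (idem_mem_eig ρ φ hφ ψ v) a
      rw [idem_of_mem_eig ρ φ ψ _ hmem, if_neg (fun e => hmove ψ hocc e.symm)]
  calc LinearMap.trace ℂ V (ρ g⁻¹ ∘ₗ idem ρ φ ψ)
      = LinearMap.trace ℂ V ((ρ g⁻¹ ∘ₗ idem ρ φ ψ) ∘ₗ idem ρ φ ψ) := by
        rw [LinearMap.comp_assoc, hPP]
    _ = LinearMap.trace ℂ V (idem ρ φ ψ ∘ₗ (ρ g⁻¹ ∘ₗ idem ρ φ ψ)) :=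
        LinearMap.trace_comp_comm' _ _
    _ = 0 := by rw [h0, map_zero]

end move

section klein

variable {G : Type*} [Group G] {V : Type*} [AddCommGroup V] [Module ℂ V] [FiniteDimensional ℂ V]

/-- if two commuting involutions and their product have trace zero, the degree is divisible by
four -/
theorem rmd_four_dvd (ρ : Representation ℂ G V) (a b : G) (ha : a * a = 1) (hb : b * b = 1)
    (hab : a * b = b * a) (ta : LinearMap.trace ℂ V (ρ a) = 0)
    (tb : LinearMap.trace ℂ V (ρ b) = 0) (tab : LinearMap.trace ℂ V (ρ (a * b)) = 0) :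
    4 ∣ Module.finrank ℂ V := by
  set P : V →ₗ[ℂ] V := (4 : ℂ)⁻¹ • (1 + ρ a + ρ b + ρ (a * b)) with hP
  have haa : ρ a * ρ a = 1 := by rw [← map_mul, ha, map_one]
  have hbb : ρ b * ρ b = 1 := by rw [← map_mul, hb, map_one]
  have hba : ρ b * ρ a = ρ a * ρ b := by rw [← map_mul, ← map_mul, hab]
  have hm : ρ (a * b) = ρ a * ρ b := map_mul ρ a b
  have hidem : IsIdempotentElem P := by
    show P * P = P
    rw [hP, hm, smul_mul_smul_comm]
    have e : (1 + ρ a + ρ b + ρ a * ρ b) * (1 + ρ a + ρ b + ρ a * ρ b) =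
        (4 : ℂ) • (1 + ρ a + ρ b + ρ a * ρ b) := by
      have e1 : ρ a * (ρ a * ρ b) = ρ b := by rw [← mul_assoc, haa, one_mul]
      have e2 : ρ b * (ρ a * ρ b) = ρ a := by rw [← mul_assoc, hba, mul_assoc, hbb, mul_one]
      have e3 : ρ a * ρ b * ρ a = ρ b := by rw [mul_assoc, hba, ← mul_assoc, haa, one_mul]
      have e4 : ρ a * ρ b * ρ b = ρ a := by rw [mul_assoc, hbb, mul_one]
      have e5 : ρ a * ρ b * (ρ a * ρ b) = 1 := by
        rw [mul_assoc, e2, haa]
      simp only [mul_add, add_mul, mul_one, one_mul, haa, hbb, hba, e1, e2, e3, e4, e5]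
      module
    rw [e, smul_smul]
    congr 1
    norm_num
  have htr := (LinearMap.IsIdempotentElem.isProj_range P hidem).trace
  have htrP : LinearMap.trace ℂ V P = (4 : ℂ)⁻¹ * (Module.finrank ℂ V : ℂ) := by
    rw [hP, map_smul, map_add, map_add, map_add, ta, tb, tab, LinearMap.trace_one]
    simp
  rw [htrP] at htr
  refine ⟨Module.finrank ℂ ↥(LinearMap.range P), ?_⟩
  have h4 : (Module.finrank ℂ V : ℂ) = ((4 * Module.finrank ℂ ↥(LinearMap.range P) : ℕ) : ℂ) := by
    push_cast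
    rw [← htr]
    field_simp
  exact_mod_cast h4

end klein

end Cfsg.Agent.Lib.Helper27.RMD
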