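import Mathlib
import Cfsg.Agent.Lib.Helper27.RMD1
import Cfsg.Agent.Lib.helper8.ChevBA5

set_option autoImplicit false

/-! # Project RMD (S2343), the bound for a group with Ree coordinates

A finite-dimensional complex representation of a group containing `U₂ ⋊ (X × H)` of the shape
found in the small Ree groups, in which the centre `Z` of the Sylow 3-subgroup acts
non-trivially, has degree at least `q (q - 1)`; in the case of equality the involution of the
torus has trace zero. -/

namespace Cfsg.Agent.Lib.Helper27.RMD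

open Cfsg.Agent.Lib.helper15.WB Cfsg.Agent.Lib.Helper21.WBRa Cfsg.Agent.Lib.Helper11.WBRb
  Cfsg.Agent.Lib.helper8

section char

variable {K : Type*} [Field K]

/-- a character of `K` trivial on the multiples of a non-zero element is trivial -/
theorem rmd_char_trivial (lam : AddChar K ℂ) (d : K) (hd : d ≠ 0)
    (h : ∀ v, lam (d * v) = 1) : lam = 1 := by
  ext v
  have := h (d⁻¹ * v)
  rw [← mul_assoc, mul_inv_cancel₀ hd, one_mul] at this
  rw [this, AddChar.one_apply]

/-- two values of a character agree iff the character is trivial on the difference -/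
theorem rmd_char_sub {A : Type*} [AddCommGroup A] (lam : AddChar A ℂ) (x y : A)
    (h : lam x = lam y) : lam (x - y) = 1 := by
  rw [sub_eq_add_neg, AddChar.map_add_eq_mul, AddChar.map_neg_eq_inv, h]
  exact mul_inv_cancel₀ (AddChar.val_isUnit lam y).ne_zero

end char

section coords

variable {K : Type*} [Field K] {Γ : Type*} [Group Γ] {σ : K →+* K} {W : K → K → K → Γ}

/-- the abelian subgroup `U₂` in coordinates -/
def rmdPhi (W : K → K → K → Γ) (p : K × K) : Γ := W 0 p.1 p.2

theorem rmdPhi_add (C : H8BaCoord σ W) (p p' : K × K) :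
    rmdPhi W (p + p') = rmdPhi W p * rmdPhi W p' :=
  (C.mul0 p.1 p.2 p'.1 p'.2).symm

/-- the shear `(u, v) ↦ (u, v + s u)` -/
def rmdShear (s : K) : K × K →+ K × K where
  toFun p := (p.1, p.2 + s * p.1)
  map_zero' := by simp
  map_add' p p' := by
    ext
    · rfl
    · simp only [Prod.fst_add, Prod.snd_add]
      ring

/-- the diagonal map `(u, v) ↦ (a u, b v)` -/
def rmdDiag (a b : K) : K × K →+ K × K where
  toFun p := (a * p.1, b * p.2)
  map_zero' := by simp
  map_add' p p' := by
    ext
    · simp only [Prod.fst_add]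
      ring
    · simp only [Prod.snd_add]
      ring

theorem rmd_conj_shear (C : H8BaCoord σ W) (s : K) (p : K × K) :
    W s 0 0 * rmdPhi W p * (W s 0 0)⁻¹ = rmdPhi W (rmdShear s p) := by
  rw [mul_inv_eq_iff_eq_mul]
  show W s 0 0 * W 0 p.1 p.2 = W 0 p.1 (p.2 + s * p.1) * W s 0 0
  rw [C.mul' (a := s) (b := p.1) (c := p.2) (by ring) (by rw [map_zero]; ring)
    (by rw [map_zero]; ring)]
  exact (C.mul' (by ring) (by ring) (by ring)).symm

end coords

section bound

variable {K : Type*} [Field K] [Fintype K] {Γ : Type*} [Group Γ] {σ : K →+* K}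
  {W : K → K → K → Γ} {V : Type*} [AddCommGroup V] [Module ℂ V] [FiniteDimensional ℂ V]

/-- the degree bound, and the vanishing of the trace of the involution in the case of equality -/
theorem rmd_bound (C : H8BaCoord σ W) (h2 : (2 : K) ≠ 0)
    (wt : K → K) (wt' : K → K)
    (hH : ∀ c : K, c ≠ 0 → ∃ k : Γ, ∀ u v, k * W 0 u v * k⁻¹ = W 0 (wt' c * u) (wt c * v))
    (hwt0 : ∀ c : K, c ≠ 0 → wt c ≠ 0)
    (hwt : ∀ c c' : K, c ≠ 0 → c' ≠ 0 → wt c = wt c' → c = c')
    (a : Γ) (ha : a * a = 1) (hact : ∀ u v, a * W 0 u v * a⁻¹ = W 0 u (-v))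
    (ρ : Representation ℂ Γ V) (hne : ∃ v, ρ (W 0 0 v) ≠ 1) :
    Fintype.card K * (Fintype.card K - 1) ≤ Module.finrank ℂ V ∧
      (Module.finrank ℂ V = Fintype.card K * (Fintype.card K - 1) →
        LinearMap.trace ℂ V (ρ a) = 0) := by
  classical
  set φ : K × K → Γ := rmdPhi W with hφdef
  have hφ : ∀ p p', φ (p + p') = φ p * φ p' := rmdPhi_add C
  set φZ : K → Γ := fun v => W 0 0 v with hφZdef
  have hφZ : ∀ v v', φZ (v + v') = φZ v * φZ v' := by
    intro v v'
    exact (C.mul' (by ring) (by ring) (by ring)).symm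
  have hcomm : ∀ v p, φZ v * φ p = φ p * φZ v := by
    intro v p
    show W 0 0 v * W 0 p.1 p.2 = W 0 p.1 p.2 * W 0 0 v
    rw [C.mul0, C.mul0]
    congr 1 <;> ring
  obtain ⟨lam, hlamocc, hlamne⟩ := exists_occ_ne_one ρ φZ hφZ hne
  obtain ⟨μ, x, hx0, hxZ, hxμ⟩ := exists_joint ρ φZ φ hφ hcomm hlamocc
  have hμocc : μ ∈ Occ ρ φ := ⟨x, hx0, hxμ⟩
  have hμZ : ∀ v, μ (0, v) = lam v := by
    intro v
    have h1 := hxμ (0, v)
    have h3 : ρ (φ (0, v)) x = lam v • x := hxZ v
    rw [h3] at h1
    by_contra hcon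
    apply hx0
    have h4 : (lam v - μ (0, v)) • x = 0 := by rw [sub_smul, h1, sub_self]
    rcases smul_eq_zero.mp h4 with h5 | h5
    · exact absurd (sub_eq_zero.mp h5).symm hcon
    · exact h5
  -- the elements of the torus
  choose kk hkk using hH
  -- the orbit of `μ`
  set f : K × Kˣ → AddChar (K × K) ℂ := fun i =>
    (μ.compAddMonoidHom (rmdDiag (wt' i.2.val) (wt i.2.val))).compAddMonoidHom (rmdShear i.1)
    with hfdef
  have hf_apply : ∀ (i : K × Kˣ) (p : K × K),
      f i p = μ (wt' i.2.val * p.1, wt i.2.val * (p.2 + i.1 * p.1)) := fun i p => rfl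
  have hfocc : ∀ i, f i ∈ Occ ρ φ := by
    intro i
    have h1 : μ.compAddMonoidHom (rmdDiag (wt' i.2.val) (wt i.2.val)) ∈ Occ ρ φ :=
      occ_comp ρ φ (kk i.2.val i.2.ne_zero) (rmdDiag (wt' i.2.val) (wt i.2.val))
        (fun p => hkk i.2.val i.2.ne_zero p.1 p.2) hμocc
    exact occ_comp ρ φ (W i.1 0 0) (rmdShear i.1) (fun p => rmd_conj_shear C i.1 p) h1
  have hfZ : ∀ (i : K × Kˣ) (v : K), f i (0, v) = lam (wt i.2.val * v) := by
    intro i v
    rw [hf_apply, ← hμZ]
    congr 2 <;> ring
  have hμsplit : ∀ x y y' : K, μ (x, y) = μ (x, y') → lam (y - y') = 1 := by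
    intro x y y' h
    have := rmd_char_sub μ (x, y) (x, y') h
    rw [← hμZ]
    rw [← this]
    congr 1
    ext
    · simp
    · simp
  have hfinj : Function.Injective f := by
    rintro ⟨s, c⟩ ⟨s', c'⟩ h
    have hc : c = c' := by
      by_contra hcc
      have hw : wt c.val - wt c'.val ≠ 0 := by
        intro h0
        exact hcc (Units.ext (hwt _ _ c.ne_zero c'.ne_zero (sub_eq_zero.mp h0)))
      apply hlamne
      apply rmd_char_trivial lam _ hw
      intro v
      have h1 := congrArg (fun ψ : AddChar (K × K) ℂ => ψ (0, v)) h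
      simp only [hfZ] at h1
      have := rmd_char_sub lam _ _ h1
      rw [← this]
      congr 1
      ring
    subst hc
    have hs : s = s' := by
      by_contra hss
      have hw : wt c.val * (s - s') ≠ 0 :=
        mul_ne_zero (hwt0 _ c.ne_zero) (sub_ne_zero.mpr hss)
      apply hlamne
      apply rmd_char_trivial lam _ hw
      intro u
      have h1 := congrArg (fun ψ : AddChar (K × K) ℂ => ψ (u, 0)) h
      simp only [hf_apply] at h1
      have := hμsplit _ _ _ h1
      rw [← this]
      congr 1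
      ring
    rw [hs]
  set S : Finset (AddChar (K × K) ℂ) := Finset.univ.image f with hS
  have hScard : S.card = Fintype.card K * (Fintype.card K - 1) := by
    rw [hS, Finset.card_image_of_injective _ hfinj, Finset.card_univ, Fintype.card_prod,
      Fintype.card_units]
  have hSocc : ∀ ψ ∈ S, ψ ∈ Occ ρ φ := by
    intro ψ hψ
    obtain ⟨i, _, rfl⟩ := Finset.mem_image.mp hψ
    exact hfocc i
  have hle := card_occ_le ρ φ hφ S hSocc
  rw [hScard] at hle
  refine ⟨hle, fun heq => ?_⟩
  -- equality: every occurring character lies in the orbit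
  have hall : ∀ ψ ∈ Occ ρ φ, ψ ∈ S := by
    intro ψ hψ
    by_contra hnot
    have h1 := card_occ_le ρ φ hφ (insert ψ S) (by
      intro χ hχ
      rcases Finset.mem_insert.mp hχ with rfl | hχ
      · exact hψ
      · exact hSocc χ hχ)
    rw [Finset.card_insert_of_notMem hnot, hScard, heq] at h1
    omega
  have hainv : a⁻¹ = a := inv_eq_of_mul_eq_one_left ha
  have htr := rmd_trace_eq_zero ρ φ hφ a (rmdDiag 1 (-1))
    (by
      intro p
      show a * W 0 p.1 p.2 * a⁻¹ = W 0 (1 * p.1) (-1 * p.2)
      rw [hact, one_mul, neg_one_mul])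
    (by
      intro ψ hψ hfix
      obtain ⟨i, _, rfl⟩ := Finset.mem_image.mp (hall ψ hψ)
      have hw : wt i.2.val * 2 ≠ 0 := mul_ne_zero (hwt0 _ i.2.ne_zero) h2
      apply hlamne
      apply rmd_char_trivial lam _ hw
      intro v
      have h1 := congrArg (fun χ : AddChar (K × K) ℂ => χ (0, v)) hfix
      have h3 : ((f i).compAddMonoidHom (rmdDiag 1 (-1))) (0, v) = f i (0, -v) := by
        show f i (1 * 0, -1 * v) = f i (0, -v)
        rw [mul_zero, neg_one_mul]
      simp only [h3, hfZ] at h1
      have := rmd_char_sub lam _ _ h1.symm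
      rw [← this]
      congr 1
      ring)
  rw [hainv] at htr
  exact htr

end bound

end Cfsg.Agent.Lib.Helper27.RMD
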