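import Mathlib
import Cfsg.Agent.Lib.Helper27.RMD2
import Cfsg.Agent.Lib.helper8.ChevBA7
import Cfsg.Agent.Lib.helper8.ChevReeC6
import Cfsg.Agent.Lib.helper8.ChevReeD7
import Cfsg.Agent.Lib.helper8.ChevRee31
import Cfsg.Agent.Lib.helper7.REE.Ax

set_option autoImplicit false

/-! # Project RMD (S2343): the smallest degree of a non-trivial irreducible complex
representation of `²G₂(q)` is at least `q² - q + 1` -/

namespace Cfsg.Agent.Lib.Helper27.RMD

open Cfsg.Lie Cfsg.Lie.ChevalleyDatum Cfsg.Agent.Lib.helper8 Cfsg.Agent.Lib.helper7.REE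

universe u

section gen

variable {G : Type*} [Group G] {V : Type*} [AddCommGroup V] [Module ℂ V]

/-- the trace is a class function -/
theorem rmd_trace_conj (ρ : Representation ℂ G V) (g x : G) :
    LinearMap.trace ℂ V (ρ (g * x * g⁻¹)) = LinearMap.trace ℂ V (ρ x) := by
  have h1 : ρ (g * x * g⁻¹) = ρ g * ρ x * ρ g⁻¹ := by rw [map_mul, map_mul]
  have h2 : ρ g⁻¹ * ρ g = 1 := by rw [← map_mul, inv_mul_cancel, map_one]
  rw [h1, LinearMap.trace_mul_comm, ← mul_assoc, h2, one_mul]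

end gen

variable {K : Type u} [Field K] [Fintype K] {m : ℕ}

/-- the weight `c ↦ c² σ(c)` of the torus on the centre of the Sylow 3-subgroup has an inverse -/
theorem rmd_weight (hK : Fintype.card K = 3 ^ (2 * m + 1)) (hch : CharP K 3) (c : K)
    (hc : c ≠ 0) : c * (c ^ 2 * h8baSig hch m c) ^ (3 ^ (m + 1) - 2) = 1 := by
  rw [h8baSig_apply, ← pow_mul, ← pow_add, ← pow_mul, ← pow_succ']
  have hr2 : 2 ≤ 3 ^ (m + 1) := by
    have : 3 ^ 1 ≤ 3 ^ (m + 1) := Nat.pow_le_pow_right (by norm_num) (by omega)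
    omega
  have hq1 : 1 ≤ 3 ^ (2 * m + 1) := Nat.one_le_pow _ _ (by norm_num)
  have hexp : (2 + 3 ^ m * 3) * (3 ^ (m + 1) - 2) + 1 = 3 * (3 ^ (2 * m + 1) - 1) := by
    have h3q : (3 : ℤ) * 3 ^ (2 * m + 1) = 3 ^ (m + 1) * 3 ^ (m + 1) := by ring
    have hr : (3 : ℤ) ^ m * 3 = 3 ^ (m + 1) := by ring
    zify [hr2, hq1]
    rw [hr]
    linear_combination (-1 : ℤ) * h3q
  rw [hexp, mul_comm, pow_mul, ← hK, FiniteField.pow_card_sub_one_eq_one c hc, one_pow]

/-- an irreducible representation of degree at least two is not trivial -/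
theorem rmd_not_trivial {G : Type*} [Group G] (k : ℕ) (ρ : Representation ℂ G (Fin k → ℂ))
    (hirr : ρ.IsIrreducible) (hk : 2 ≤ k) : ¬ ∀ g, ρ g = 1 := by
  intro hall
  obtain ⟨L, hL⟩ : ∃ L : Subrepresentation ρ, L.toSubmodule =
      Submodule.span ℂ {Pi.single (⟨0, by omega⟩ : Fin k) (1 : ℂ)} :=
    ⟨⟨Submodule.span ℂ {Pi.single (⟨0, by omega⟩ : Fin k) (1 : ℂ)}, by
      intro g v hv
      rw [hall g]
      exact hv⟩, rfl⟩
  rcases eq_bot_or_eq_top L with h | h
  · have h1 : Pi.single (⟨0, by omega⟩ : Fin k) (1 : ℂ) ∈ L.toSubmodule := by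
      rw [hL]
      exact Submodule.subset_span rfl
    rw [h] at h1
    have h2 : (Pi.single (⟨0, by omega⟩ : Fin k) (1 : ℂ) : Fin k → ℂ) = 0 :=
      (Submodule.mem_bot ℂ).1 h1
    have h3 := congrFun h2 ⟨0, by omega⟩
    simp at h3
  · have h1 : Pi.single (⟨1, by omega⟩ : Fin k) (1 : ℂ) ∈ L.toSubmodule := by
      rw [h]
      trivial
    rw [hL, Submodule.mem_span_singleton] at h1
    obtain ⟨c, hc⟩ := h1
    have h3 := congrFun hc ⟨1, by omega⟩
    simp [Fin.ext_iff] at h3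

/-- the smallest degree of a non-trivial irreducible complex representation of `²G₂(q)` -/
theorem rmd_main (hm : 1 ≤ m) (hK : Fintype.card K = 3 ^ (2 * m + 1)) (k : ℕ)
    (ρ : Representation ℂ ↥(twistedG2 K (3 ^ m)) (Fin k → ℂ)) (hirr : ρ.IsIrreducible)
    (hk : 2 ≤ k) : (3 ^ (2 * m + 1)) ^ 2 - 3 ^ (2 * m + 1) + 1 ≤ k := by
  have hD : chevG2 ∈ [chevG2, chevB2, chevD4, chevF4, chevE6, chevE7, chevE8] := by simp
  have hB := h8base_all.{u} chevG2 hD
  have hch : CharP K 3 := h8ree_char3 hK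
  have C := h8ba_coord hK hch hB
  have h3 : (3 : K) = 0 := by
    have := CharP.cast_eq_zero K 3
    exact_mod_cast this
  have h2 : (2 : K) ≠ 0 := by
    intro h
    have : (1 : K) = 0 := by linear_combination h3 - h
    exact one_ne_zero this
  -- the representation is faithful
  have hsimple := (h8ree_simple hm hK).1
  have hne : ∃ v, ρ (h8baW hB m 0 0 v) ≠ 1 := by
    refine ⟨1, fun h1 => ?_⟩
    have hker : h8baW hB m 0 0 (1 : K) ∈ MonoidHom.ker ρ := MonoidHom.mem_ker.mpr h1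
    rcases hsimple.eq_bot_or_eq_top_of_normal (MonoidHom.ker ρ) (MonoidHom.normal_ker ρ) with
      hbot | htop
    · rw [hbot, Subgroup.mem_bot, ← C.one] at hker
      exact one_ne_zero (C.inj _ _ _ _ _ _ hker).2.2
    · apply rmd_not_trivial k ρ hirr hk
      intro g
      have : g ∈ MonoidHom.ker ρ := by rw [htop]; trivial
      exact MonoidHom.mem_ker.mp this
  -- the involution of the torus
  obtain ⟨a, haH, ha1, ha2⟩ := h8ree_exists_invol hK
  have hav : (a : GL chevG2.Idx K) ∈ chevG2.diagonalSubgroup K ⊓ twistedG2 K (3 ^ m) :=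
    Subgroup.mem_inf.mpr ⟨haH, a.2⟩
  have hav1 : (a : GL chevG2.Idx K) ≠ 1 := fun h => ha1 (Subtype.ext h)
  have hav2 : (a : GL chevG2.Idx K) * a = 1 := congrArg Subtype.val ha2
  have hact : ∀ u v, a * h8baW hB m 0 u v * a⁻¹ = h8baW hB m 0 u (-v) := by
    intro u v
    apply Subtype.ext
    show (a : GL chevG2.Idx K) * h8reeW hB m 0 u v * (a : GL chevG2.Idx K)⁻¹ =
      h8reeW hB m 0 u (-v)
    have := h8reeC_invol_act hK hB a.val hav hav1 hav2 0 u v
    rw [neg_zero] at this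
    exact this
  -- the bound
  have hbound := rmd_bound C h2 (fun c => c ^ 2 * h8baSig hch m c)
    (fun c => c * h8baSig hch m c)
    (by
      intro c hc
      obtain ⟨kc, hkc, hkchi⟩ := h8ba_chi_surj hK hB c hc
      refine ⟨kc, fun u v => ?_⟩
      have := h8baW_conj hK hch hB kc hkc 0 u v
      rw [hkchi, mul_zero] at this
      exact this)
    (by
      intro c hc
      exact mul_ne_zero (pow_ne_zero 2 hc) ((map_ne_zero _).mpr hc))
    (by
      intro c c' hc hc' h
      have e1 := rmd_weight hK hch c hc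
      have e2 := rmd_weight hK hch c' hc'
      have h' : c ^ 2 * h8baSig hch m c = c' ^ 2 * h8baSig hch m c' := h
      rw [h'] at e1
      exact (eq_inv_of_mul_eq_one_left e1).trans (eq_inv_of_mul_eq_one_left e2).symm)
    a ha2 hact ρ hne
  rw [Module.finrank_fin_fun, hK] at hbound
  obtain ⟨hle, heq⟩ := hbound
  -- the case of equality
  have hneq : k ≠ 3 ^ (2 * m + 1) * (3 ^ (2 * m + 1) - 1) := by
    intro hkeq
    have hta := heq hkeq
    obtain ⟨R⟩ := ree_ax hm hK
    have htt : LinearMap.trace ℂ (Fin k → ℂ) (ρ R.t) = 0 := by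
      obtain ⟨g, hg⟩ := R.invol_conj a ha1 ha2
      rw [← rmd_trace_conj ρ g R.t, hg]
      exact hta
    have hinv : ∀ s, s ≠ 1 → s * s = 1 → LinearMap.trace ℂ (Fin k → ℂ) (ρ s) = 0 := by
      intro s hs1 hs2
      obtain ⟨g, hg⟩ := R.invol_conj s hs1 hs2
      rw [← hg, rmd_trace_conj ρ g R.t]
      exact htt
    have htn : R.t * R.n0 = R.n0 * R.t := by
      have := R.psi_comm h8slW
      rw [R.psi_W] at this
      exact this
    have hHB : ∀ h ∈ R.H, h ∈ R.B := by
      intro h hh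
      exact (R.B_iff h).mpr ⟨1, R.U.one_mem, h, hh, (one_mul h).symm⟩
    have hn1 : R.n0 ≠ 1 := by
      intro h
      apply R.n0_notin
      rw [h]
      exact R.B.one_mem
    have htn1 : R.t * R.n0 ≠ 1 := by
      intro h
      apply R.n0_notin
      have : R.n0 = R.t := by
        have h' : R.t * R.n0 = R.t * R.t := by rw [h, R.t_sq]
        exact mul_left_cancel h'
      rw [this]
      exact hHB _ R.t_mem
    have htn2 : R.t * R.n0 * (R.t * R.n0) = 1 := by
      calc R.t * R.n0 * (R.t * R.n0) = R.t * (R.n0 * R.t) * R.n0 := by group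
        _ = R.t * (R.t * R.n0) * R.n0 := by rw [htn]
        _ = (R.t * R.t) * (R.n0 * R.n0) := by group
        _ = 1 := by rw [R.t_sq, R.n0_sq, one_mul]
    have h4 := rmd_four_dvd ρ R.t R.n0 R.t_sq R.n0_sq htn htt (hinv _ hn1 R.n0_sq)
      (hinv _ htn1 htn2)
    rw [Module.finrank_fin_fun, hkeq] at h4
    have hq4 := h8ree_card_mod4 m
    have hq1 : 1 ≤ 3 ^ (2 * m + 1) := Nat.one_le_pow _ _ (by norm_num)
    have hmod : (3 ^ (2 * m + 1) * (3 ^ (2 * m + 1) - 1)) % 4 = 2 := by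
      have h5 : (3 ^ (2 * m + 1) - 1) % 4 = 2 := by omega
      rw [Nat.mul_mod, hq4, h5]
    omega
  have hsq : (3 ^ (2 * m + 1)) ^ 2 - 3 ^ (2 * m + 1) =
      3 ^ (2 * m + 1) * (3 ^ (2 * m + 1) - 1) := by
    rw [Nat.mul_sub_one, sq]
  rw [hsq]
  omega

end Cfsg.Agent.Lib.Helper27.RMD
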