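import Cfsg.Agent.S5118
import Cfsg.Agent.Lib.Helper26.Realize2
import Cfsg.Agent.Lib.Helper26.FusionAut
import Cfsg.Agent.Lib.Helper18.SylowIn

set_option autoImplicit false

namespace Cfsg.Agent.Lib.Helper27

open Cfsg Cfsg.FusionSystem Cfsg.Agent.Lib.Helper26

section RealizeNormal

variable {Ω : Type*} [Group Ω] {S : Subgroup Ω} {G : Type*} [Group G]

/-- The fusion system which the subgroup `N` of `G` induces on the preimage of `N` in `S`,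
read through the injective map `ι`. -/
def pullFS (ι : S →* G) (hinj : Function.Injective ι) (N : Subgroup G) :
    FusionSystem (preSub ι N) where
  Hom P := {φ | P ≤ preSub ι N ∧ (∀ x : P, φ x ∈ preSub ι N) ∧
    ∃ g ∈ N, ∀ (x : P) (hx : (x : Ω) ∈ S) (hφ : φ x ∈ S), ι ⟨φ x, hφ⟩ = g * ι ⟨x, hx⟩ * g⁻¹}
  le_of_mem h := ⟨h.1, h.2.1⟩
  injective_of_mem := by
    rintro P φ ⟨hP, hφ, g, -, hg⟩ x y hxy
    have hPS : P ≤ S := hP.trans (preSub_le ι N)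
    have hφS : ∀ z : P, φ z ∈ S := fun z => preSub_le ι N (hφ z)
    have h1 := hg x (hPS x.2) (hφS x)
    have h2 := hg y (hPS y.2) (hφS y)
    have h3 : ι ⟨φ x, hφS x⟩ = ι ⟨φ y, hφS y⟩ := by
      congr 1
      exact Subtype.ext hxy
    rw [h1, h2] at h3
    have h4 : ι ⟨x, hPS x.2⟩ = ι ⟨y, hPS y.2⟩ := mul_left_cancel (mul_right_cancel h3)
    have h5 := hinj h4
    have h6 : (x : Ω) = (y : Ω) := congrArg (fun z : S => (z : Ω)) h5
    exact Subtype.ext h6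
  conj_mem := by
    intro P g hP hg
    refine ⟨hP, fun x => ?_, ι ⟨g, preSub_le ι N hg⟩, (mem_preSub_iff.mp hg).2, fun x hx hφ => ?_⟩
    · exact Subgroup.mul_mem _ (Subgroup.mul_mem _ hg (hP x.2)) (Subgroup.inv_mem _ hg)
    · rw [← map_inv, ← map_mul, ← map_mul]
      rfl
  comp_mem := by
    rintro P Q φ ψ ⟨hP, hφ, g₁, hg₁N, hg₁⟩ ⟨hQ, hψ, g₂, hg₂N, hg₂⟩ h
    refine ⟨hP, fun x => hψ _, g₂ * g₁, N.mul_mem hg₂N hg₁N, fun x hx hφx => ?_⟩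
    have hQS : Q ≤ S := hQ.trans (preSub_le ι N)
    have h1 := hg₂ ⟨φ x, h x⟩ (hQS (h x)) hφx
    have h2 := hg₁ x hx (hQS (h x))
    show ι ⟨ψ ⟨φ x, h x⟩, hφx⟩ = _
    rw [h1, h2]
    group
  inv_mem := by
    rintro P φ ⟨hP, hφ, g, hgN, hg⟩
    have hPS : P ≤ S := hP.trans (preSub_le ι N)
    have hφS : ∀ z : P, φ z ∈ S := fun z => preSub_le ι N (hφ z)
    have hinjφ : Function.Injective φ := by
      intro x y hxy
      have h1 := hg x (hPS x.2) (hφS x)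
      have h2 := hg y (hPS y.2) (hφS y)
      have h3 : ι ⟨φ x, hφS x⟩ = ι ⟨φ y, hφS y⟩ := by
        congr 1
        exact Subtype.ext hxy
      rw [h1, h2] at h3
      have h4 : ι ⟨x, hPS x.2⟩ = ι ⟨y, hPS y.2⟩ := mul_left_cancel (mul_right_cancel h3)
      have h5 := hinj h4
      have h6 : (x : Ω) = (y : Ω) := congrArg (fun z : S => (z : Ω)) h5
      exact Subtype.ext h6
    refine ⟨P.subtype.comp (MonoidHom.ofInjective hinjφ).symm.toMonoidHom, ⟨?_, ?_, g⁻¹, N.inv_mem hgN, ?_⟩, ?_⟩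
    · rintro _ ⟨x, rfl⟩
      exact hφ x
    · intro y
      exact hP (Subtype.property _)
    · rintro ⟨_, x, rfl⟩ hx hψ
      have h1 : (MonoidHom.ofInjective hinjφ).symm ⟨φ x, x, rfl⟩ = x := by
        rw [MulEquiv.symm_apply_eq]
        rfl
      have h2 := hg x (hPS x.2) hx
      have h3 : ι ⟨(P.subtype.comp (MonoidHom.ofInjective hinjφ).symm.toMonoidHom) ⟨φ x, x, rfl⟩, hψ⟩ =
          ι ⟨x, hPS x.2⟩ := by
        congr 1
        apply Subtype.ext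
        show (((MonoidHom.ofInjective hinjφ).symm ⟨φ x, x, rfl⟩ : P) : Ω) = x
        rw [h1]
      rw [h3]
      show ι ⟨x, hPS x.2⟩ = g⁻¹ * ι ⟨φ x, hx⟩ * g⁻¹⁻¹
      rw [h2]
      group
    · intro x
      have h1 : (MonoidHom.ofInjective hinjφ).symm ⟨φ x, x, rfl⟩ = x := by
        rw [MulEquiv.symm_apply_eq]
        rfl
      show (((MonoidHom.ofInjective hinjφ).symm ⟨φ x, x, rfl⟩ : P) : Ω) = x
      rw [h1]

theorem pullFS_mem_iff {ι : S →* G} (hinj : Function.Injective ι) (N : Subgroup G)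
    {P : Subgroup Ω} {φ : P →* Ω} :
    φ ∈ (pullFS ι hinj N).Hom P ↔ P ≤ preSub ι N ∧ (∀ x : P, φ x ∈ preSub ι N) ∧
      ∃ g ∈ N, ∀ (x : P) (hx : (x : Ω) ∈ S) (hφ : φ x ∈ S),
        ι ⟨φ x, hφ⟩ = g * ι ⟨x, hx⟩ * g⁻¹ := Iff.rfl

theorem apply_congr (ι : S →* G) {z z' : Ω} (h : z = z') (hz : z ∈ S) (hz' : z' ∈ S) :
    ι ⟨z, hz⟩ = ι ⟨z', hz'⟩ := by
  subst h
  rfl

theorem imSub_preSub_eq (ι : S →* G) (N : Subgroup G) :
    imSub ι (preSub ι N) = ι.range ⊓ N := by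
  ext y
  rw [mem_imSub_iff]
  constructor
  · rintro ⟨x, hxS, hx, rfl⟩
    exact ⟨⟨_, rfl⟩, (mem_preSub_iff.mp hx).2⟩
  · rintro ⟨⟨s, rfl⟩, hy⟩
    exact ⟨s.1, s.2, mem_preSub_iff.mpr ⟨s.2, hy⟩, rfl⟩

theorem imSub_sup (ι : S →* G) {A B : Subgroup Ω} (hA : A ≤ S) (hB : B ≤ S) :
    imSub ι (A ⊔ B) = imSub ι A ⊔ imSub ι B := by
  unfold imSub
  rw [Subgroup.subgroupOf_sup hA hB, Subgroup.map_sup]

theorem imSub_centralizerIn {ι : S →* G} (hinj : Function.Injective ι) (T : Subgroup Ω)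
    (hT : T ≤ S) :
    imSub ι (centralizerIn S T) = centralizerIn ι.range (imSub ι T) := by
  ext y
  rw [mem_imSub_iff]
  constructor
  · rintro ⟨x, hxS, ⟨-, hxC⟩, rfl⟩
    refine ⟨⟨_, rfl⟩, ?_⟩
    show ι ⟨x, hxS⟩ ∈ Subgroup.centralizer (imSub ι T : Set G)
    have hxC' : x ∈ Subgroup.centralizer (T : Set Ω) := hxC
    rw [Subgroup.mem_centralizer_iff]
    intro z hz
    obtain ⟨t, htS, ht, rfl⟩ := mem_imSub_iff.mp hz
    have h1 := Subgroup.mem_centralizer_iff.mp hxC' t ht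
    rw [← map_mul, ← map_mul]
    exact apply_congr ι h1 _ _
  · rintro ⟨⟨s, rfl⟩, hC⟩
    refine ⟨s.1, s.2, ⟨s.2, ?_⟩, rfl⟩
    show (s : Ω) ∈ Subgroup.centralizer (T : Set Ω)
    have hC' : ι s ∈ Subgroup.centralizer (imSub ι T : Set G) := hC
    rw [Subgroup.mem_centralizer_iff]
    intro t ht
    have h1 := Subgroup.mem_centralizer_iff.mp hC' (ι ⟨t, hT ht⟩) (apply_mem_imSub ι (hT ht) ht)
    rw [← map_mul, ← map_mul] at h1
    have h2 := hinj h1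
    exact congrArg (fun z : S => (z : Ω)) h2

theorem exists_conj_of_mem_autGroup {ι : S →* G} (F : FusionSystem S) (hR : F.IsRealizedBy ι)
    {Q : Subgroup Ω} (hQ : Q ≤ S) {α : MulAut Q} (hα : α ∈ F.autGroup Q) :
    ∃ a : G, ∀ x : Q, ι ⟨α x, hQ (α x).2⟩ = a * ι ⟨x, hQ x.2⟩ * a⁻¹ := by
  rw [mem_autGroup_iff F hQ] at hα
  obtain ⟨a, ha⟩ := exists_of_mem_hom F hR hα
  exact ⟨a, fun x => ha x⟩

theorem mem_normalizer_imSub_of_aut {ι : S →* G}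
    {Q : Subgroup Ω} (hQ : Q ≤ S) (α : MulAut Q) {a : G}
    (h : ∀ x : Q, ι ⟨α x, hQ (α x).2⟩ = a * ι ⟨x, hQ x.2⟩ * a⁻¹) :
    a ∈ Subgroup.normalizer (imSub ι Q : Set G) := by
  rw [Subgroup.mem_normalizer_iff]
  intro y
  constructor
  · intro hy
    obtain ⟨x, hxS, hx, rfl⟩ := mem_imSub_iff.mp hy
    have h1 := h ⟨x, hx⟩
    rw [← h1]
    exact apply_mem_imSub ι _ (α ⟨x, hx⟩).2
  · intro hy
    obtain ⟨z, hzS, hz, hzy⟩ := mem_imSub_iff.mp hy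
    have h1 := h (α⁻¹ ⟨z, hz⟩)
    have h2 : ι ⟨α (α⁻¹ ⟨z, hz⟩), hQ (α (α⁻¹ ⟨z, hz⟩)).2⟩ = ι ⟨z, hzS⟩ := by
      apply apply_congr
      rw [MulAut.apply_inv_self]
    rw [h2, hzy] at h1
    have h3 : y = ι ⟨(α⁻¹ ⟨z, hz⟩ : Q), hQ (α⁻¹ ⟨z, hz⟩).2⟩ :=
      mul_left_cancel (mul_right_cancel h1)
    rw [h3]
    exact apply_mem_imSub ι _ (α⁻¹ ⟨z, hz⟩).2

theorem exists_aut_of_normalizer {ι : S →* G} (F : FusionSystem S) (hR : F.IsRealizedBy ι)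
    {Q : Subgroup Ω} (hQ : Q ≤ S) {a : G}
    (ha : a ∈ Subgroup.normalizer (imSub ι Q : Set G)) :
    ∃ α ∈ F.autGroup Q, ∀ x : Q, ι ⟨α x, hQ (α x).2⟩ = a * ι ⟨x, hQ x.2⟩ * a⁻¹ := by
  have h : ∀ x : Q, a * ι ⟨x, hQ x.2⟩ * a⁻¹ ∈ ι.range := fun x =>
    imSub_le_range ι Q (conj_mem_of_mem_normalizer ha ⟨_, apply_mem_imSub ι (hQ x.2) x.2⟩)
  have hψ : pullHom hR.1 Q hQ a h ∈ F.Hom Q := pullHom_mem_hom F hR Q hQ a h
  have hr : (pullHom hR.1 Q hQ a h).range = Q := by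
    ext y
    constructor
    · rintro ⟨x, rfl⟩
      have h1 := apply_pullHom hR.1 Q hQ a h x
      have h2 : a * ι ⟨x, hQ x.2⟩ * a⁻¹ ∈ imSub ι Q :=
        conj_mem_of_mem_normalizer ha ⟨_, apply_mem_imSub ι (hQ x.2) x.2⟩
      rw [← h1] at h2
      have h3 : (pullHom hR.1 Q hQ a h x) ∈ preSub ι (imSub ι Q) :=
        mem_preSub_iff.mpr ⟨_, h2⟩
      rwa [preSub_imSub hR.1 hQ] at h3
    · intro hy
      have h2 : a⁻¹ * ι ⟨y, hQ hy⟩ * a ∈ imSub ι Q :=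
        conj_inv_mem_of_mem_normalizer ha ⟨_, apply_mem_imSub ι (hQ hy) hy⟩
      obtain ⟨x, hxS, hx, hxe⟩ := mem_imSub_iff.mp h2
      refine ⟨⟨x, hx⟩, ?_⟩
      have h1 := apply_pullHom hR.1 Q hQ a h ⟨x, hx⟩
      have h3 : ι ⟨pullHom hR.1 Q hQ a h ⟨x, hx⟩, pullHom_mem hR.1 Q hQ a h ⟨x, hx⟩⟩ =
          ι ⟨y, hQ hy⟩ := by
        rw [h1]
        show a * ι ⟨x, hxS⟩ * a⁻¹ = _
        rw [hxe]
        group
      exact congrArg (fun z : S => (z : Ω)) (hR.1 h3)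
  refine ⟨autOfHom F hψ hr, autOfHom_mem F hψ hr, fun x => ?_⟩
  exact apply_pullHom hR.1 Q hQ a h x

/-- The restriction of `ι` to the preimage of `N`, with values in `N`. -/
def restrictToN (ι : S →* G) (N : Subgroup G) : ↥(preSub ι N) →* ↥N :=
  (ι.comp (Subgroup.inclusion (preSub_le ι N))).codRestrict N
    (fun x => (mem_preSub_iff.mp x.2).2)

theorem restrictToN_apply (ι : S →* G) (N : Subgroup G) (x : ↥(preSub ι N)) :
    ((restrictToN ι N x : ↥N) : G) = ι ⟨x, preSub_le ι N x.2⟩ := rfl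

theorem pullFS_realized {ι : S →* G} (hinj : Function.Injective ι) (N : Subgroup G) :
    (pullFS ι hinj N).IsRealizedBy (restrictToN ι N) := by
  refine ⟨?_, fun P hP φ hφ => ?_⟩
  · intro x y hxy
    have h1 : ι ⟨x, preSub_le ι N x.2⟩ = ι ⟨y, preSub_le ι N y.2⟩ :=
      congrArg (fun z : ↥N => (z : G)) hxy
    have h2 := hinj h1
    exact Subtype.ext (congrArg (fun z : S => (z : Ω)) h2)
  · rw [pullFS_mem_iff]
    constructor
    · rintro ⟨-, -, g, hgN, hg⟩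
      refine ⟨⟨g, hgN⟩, fun x => Subtype.ext ?_⟩
      exact hg x _ _
    · rintro ⟨g, hg⟩
      refine ⟨hP, hφ, g.1, g.2, fun x hx hφx => ?_⟩
      exact congrArg (fun z : ↥N => (z : G)) (hg x)

theorem range_restrictToN (ι : S →* G) (N : Subgroup G) :
    (restrictToN ι N).range = (ι.range ⊓ N).subgroupOf N := by
  ext y
  rw [Subgroup.mem_subgroupOf]
  constructor
  · rintro ⟨x, rfl⟩
    exact ⟨⟨_, rfl⟩, (mem_preSub_iff.mp x.2).2⟩
  · rintro ⟨⟨s, hs⟩, hy⟩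
    have hsN : ι s ∈ N := by rw [hs]; exact hy
    refine ⟨⟨s.1, mem_preSub_iff.mpr ⟨s.2, hsN⟩⟩, Subtype.ext ?_⟩
    exact hs

theorem pullFS_saturated [Finite G] {p : ℕ} [Fact p.Prime] {ι : S →* G}
    (hinj : Function.Injective ι) (N : Subgroup G) [N.Normal]
    (TG : Sylow p G) (hTG : (TG : Subgroup G) = ι.range) :
    (pullFS ι hinj N).IsSaturated p := by
  obtain ⟨T', hT'⟩ := (Cfsg.Agent.S5118.isSylowIn_inf TG N).exists_sylow
  refine saturated_of_realized _ (pullFS_realized hinj N) T' ?_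
  rw [hT', range_restrictToN, hTG]

theorem pullFS_invariant [Finite G] {p : ℕ} [Fact p.Prime] {ι : S →* G} (F : FusionSystem S)
    (hR : F.IsRealizedBy ι) (N : Subgroup G) [hNn : N.Normal]
    (TG : Sylow p G) (hTG : (TG : Subgroup G) = ι.range) :
    (pullFS ι hR.1 N).IsInvariantIn F := by
  have hTS : preSub ι N ≤ S := preSub_le ι N
  refine ⟨?_, ⟨hTS, ?_⟩, ?_, ?_⟩
  · rintro P φ ⟨hP, hφT, g, -, hg⟩
    exact (hR.2 P (hP.trans hTS) φ (fun x => hTS (hφT x))).mpr ⟨g, fun x => hg x _ _⟩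
  · intro R hRT φ hφ x
    obtain ⟨g, hg⟩ := exists_of_mem_hom F hR hφ
    rw [mem_preSub_iff]
    refine ⟨(F.le_of_mem hφ).2 x, ?_⟩
    rw [hg x]
    exact hNn.conj_mem _ (mem_preSub_iff.mp (hRT x.2)).2 g
  · intro P hPT φ hφ α hα
    obtain ⟨-, hφT, h, hhN, hh⟩ := (pullFS_mem_iff hR.1 N).mp hφ
    obtain ⟨a, ha⟩ := exists_conj_of_mem_autGroup F hR hTS hα
    have hP'T : (P.subgroupOf (preSub ι N)).map ((preSub ι N).subtype.comp α.toMonoidHom) ≤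
        preSub ι N := by
      rintro _ ⟨t, ht, rfl⟩
      exact (α t).2
    have hP'S := hP'T.trans hTS
    have hkey : ∀ (t : ↥(preSub ι N)) (ht : (t : Ω) ∈ P),
        (a * h * a⁻¹) * ι ⟨α t, hTS (α t).2⟩ * (a * h * a⁻¹)⁻¹ =
          ι ⟨α ⟨φ ⟨t, ht⟩, hφT _⟩, hTS (α _).2⟩ := by
      intro t ht
      rw [ha, ha]
      have h1 := hh ⟨t, ht⟩ (hTS t.2) (hTS (hφT _))
      show _ = a * ι ⟨φ ⟨t, ht⟩, _⟩ * a⁻¹
      rw [h1]
      group
    have hrange : ∀ y : ↥((P.subgroupOf (preSub ι N)).map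
        ((preSub ι N).subtype.comp α.toMonoidHom)),
        (a * h * a⁻¹) * ι ⟨y, hP'S y.2⟩ * (a * h * a⁻¹)⁻¹ ∈ ι.range := by
      rintro ⟨_, t, ht, rfl⟩
      have h1 := hkey t ht
      exact ⟨_, h1.symm⟩
    refine ⟨pullHom hR.1 _ hP'S (a * h * a⁻¹) hrange, ?_, ?_⟩
    · rw [pullFS_mem_iff]
      refine ⟨hP'T, fun y => ?_, a * h * a⁻¹, hNn.conj_mem _ hhN a, fun y hy hφy =>
        apply_pullHom hR.1 _ hP'S (a * h * a⁻¹) hrange y⟩
      rw [mem_preSub_iff]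
      refine ⟨pullHom_mem hR.1 _ hP'S (a * h * a⁻¹) hrange y, ?_⟩
      rw [apply_pullHom]
      exact hNn.conj_mem _ (mem_preSub_iff.mp (hP'T y.2)).2 _
    · intro x hφx hαx
      have h1 := apply_pullHom hR.1 _ hP'S (a * h * a⁻¹) hrange
        ⟨(α ⟨x, hPT x.2⟩ : ↥(preSub ι N)), hαx⟩
      have h2 := hkey ⟨x, hPT x.2⟩ x.2
      have h3 := h1.trans h2
      exact congrArg (fun z : S => (z : Ω)) (hR.1 h3)
  · intro P hPT φ hφ
    obtain ⟨g, hg⟩ := exists_of_mem_hom F hR hφ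
    have hPS : P ≤ S := hPT.trans hTS
    have hφS := (F.le_of_mem hφ).2
    have hsyl : Cfsg.Agent.Lib.Helper18.IsSylowIn p (ι.range ⊓ N) N := by
      have := Cfsg.Agent.S5118.isSylowIn_inf TG N
      rwa [hTG] at this
    have hgN : g⁻¹ ∈ Subgroup.normalizer (N : Set G) :=
      Subgroup.le_normalizer_of_normal (Subgroup.mem_top _)
    obtain ⟨n, hnN, hn⟩ := hsyl.frattini hgN
    have haN : g * n⁻¹ ∈ Subgroup.normalizer (imSub ι (preSub ι N) : Set G) := by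
      rw [imSub_preSub_eq]
      have := Subgroup.inv_mem _ hn
      rwa [mul_inv_rev, inv_inv] at this
    obtain ⟨α, hαmem, hα⟩ := exists_aut_of_normalizer F hR hTS haN
    have hval : ∀ x : P, n * ι ⟨x, hPS x.2⟩ * n⁻¹ ∈ ι.range ⊓ N := by
      intro x
      have h1 : g * ι ⟨x, hPS x.2⟩ * g⁻¹ ∈ ι.range ⊓ N := by
        refine ⟨?_, hNn.conj_mem _ (mem_preSub_iff.mp (hPT x.2)).2 g⟩
        rw [← hg x]
        exact ⟨_, rfl⟩
      have h2 := conj_mem_of_mem_normalizer hn ⟨_, h1⟩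
      have e : n * g⁻¹ * (g * ι ⟨x, hPS x.2⟩ * g⁻¹) * (n * g⁻¹)⁻¹ = n * ι ⟨x, hPS x.2⟩ * n⁻¹ := by
        group
      rw [← e]
      exact h2
    refine ⟨α, hαmem, pullHom hR.1 P hPS n (fun x => (hval x).1), ?_, ?_⟩
    · rw [pullFS_mem_iff]
      refine ⟨hPT, fun x => ?_, n, hnN, fun x hx hφx =>
        apply_pullHom hR.1 P hPS n (fun x => (hval x).1) x⟩
      rw [mem_preSub_iff]
      refine ⟨pullHom_mem hR.1 P hPS n (fun x => (hval x).1) x, ?_⟩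
      rw [apply_pullHom]
      exact (hval x).2
    · intro x hx
      have h1 := hα ⟨pullHom hR.1 P hPS n (fun x => (hval x).1) x, hx⟩
      have h2 := apply_pullHom hR.1 P hPS n (fun x => (hval x).1) x
      have h3 : ι ⟨φ x, hφS x⟩ = ι ⟨α ⟨pullHom hR.1 P hPS n (fun x => (hval x).1) x, hx⟩,
          hTS (α _).2⟩ := by
        rw [h1]
        show _ = g * n⁻¹ * ι ⟨pullHom hR.1 P hPS n (fun x => (hval x).1) x, _⟩ * (g * n⁻¹)⁻¹
        rw [h2, hg x]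
        group
      exact congrArg (fun z : S => (z : Ω)) (hR.1 h3)

theorem pullFS_normal [Finite G] {p : ℕ} [Fact p.Prime] {ι : S →* G} (F : FusionSystem S)
    (hF : F.IsSaturated p) (hR : F.IsRealizedBy ι) (N : Subgroup G) [hNn : N.Normal]
    (TG : Sylow p G) (hTG : (TG : Subgroup G) = ι.range) :
    (pullFS ι hR.1 N).IsNormalIn F p := by
  refine ⟨⟨pullFS_saturated hR.1 N TG hTG, hF, pullFS_invariant F hR N TG hTG⟩, ?_⟩
  intro α hα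
  have hTS : preSub ι N ≤ S := preSub_le ι N
  rw [mem_autGroup_iff _ le_rfl] at hα
  obtain ⟨-, -, h, hhN, hh⟩ := (pullFS_mem_iff hR.1 N).mp hα
  have hh' : ∀ t : ↥(preSub ι N), ι ⟨α t, hTS (α t).2⟩ = h * ι ⟨t, hTS t.2⟩ * h⁻¹ :=
    fun t => hh t _ _
  have hhNorm : h ∈ Subgroup.normalizer (imSub ι (preSub ι N) : Set G) :=
    mem_normalizer_imSub_of_aut hTS α hh'
  rw [imSub_preSub_eq, ← hTG] at hhNorm
  obtain ⟨c, ⟨hcN, hcC⟩, hcNorm⟩ := Cfsg.Agent.S5118.exists_normalizing TG N hhN hhNorm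
  have hcT : c ∈ Subgroup.normalizer ((((TG : Subgroup G) ⊓ N : Subgroup G)) : Set G) :=
    centralizer_le_normalizer_aux _ hcC
  have hgT : c * h ∈ Subgroup.normalizer ((((TG : Subgroup G) ⊓ N : Subgroup G)) : Set G) :=
    Subgroup.mul_mem _ hcT hhNorm
  have hgTC : c * h ∈ Subgroup.normalizer
      (((((TG : Subgroup G) ⊓ N) ⊔ centralizerIn (TG : Subgroup G) ((TG : Subgroup G) ⊓ N) :
        Subgroup G)) : Set G) :=
    Subgroup.normalizer_inf_normalizer_le_normalizer_sup _ _ ⟨hgT, hcNorm⟩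
  have hCS : centralizerIn S (preSub ι N) ≤ S := inf_le_left
  have him : imSub ι (preSub ι N ⊔ centralizerIn S (preSub ι N)) =
      ((TG : Subgroup G) ⊓ N) ⊔ centralizerIn (TG : Subgroup G) ((TG : Subgroup G) ⊓ N) := by
    rw [imSub_sup ι hTS hCS, imSub_centralizerIn hR.1 _ hTS, imSub_preSub_eq, hTG]
  have hTCS : preSub ι N ⊔ centralizerIn S (preSub ι N) ≤ S := sup_le hTS inf_le_left
  rw [← him] at hgTC
  obtain ⟨β, hβmem, hβ⟩ := exists_aut_of_normalizer F hR hTCS hgTC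
  refine ⟨β, hβmem, ?_, ?_⟩
  · intro x
    have h1 := hβ (Subgroup.inclusion le_sup_left x)
    have h2 : h * ι ⟨x, hTS x.2⟩ * h⁻¹ ∈ (TG : Subgroup G) ⊓ N := by
      rw [← hh' x, hTG, ← imSub_preSub_eq]
      exact apply_mem_imSub ι _ (α x).2
    have h3 := conj_eq_of_mem_centralizer hcC h2
    have h4 : ι ⟨β (Subgroup.inclusion le_sup_left x), hTCS (β _).2⟩ =
        ι ⟨α x, hTS (α x).2⟩ := by
      rw [h1, hh' x]
      show c * h * ι ⟨x, _⟩ * (c * h)⁻¹ = _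
      rw [← h3]
      group
    exact congrArg (fun z : S => (z : Ω)) (hR.1 h4)
  · intro x hx
    have h1 := hβ x
    have hxim : ι ⟨x, hTCS x.2⟩ ∈ centralizerIn (TG : Subgroup G) ((TG : Subgroup G) ⊓ N) := by
      rw [hTG, ← imSub_preSub_eq, ← imSub_centralizerIn hR.1 _ hTS]
      exact apply_mem_imSub ι _ hx
    have h2 : (c * h) * ι ⟨x, hTCS x.2⟩ * (c * h)⁻¹ ∈
        centralizerIn (TG : Subgroup G) ((TG : Subgroup G) ⊓ N) :=
      conj_mem_of_mem_normalizer hcNorm ⟨_, hxim⟩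
    have h3 : ((β x : ↥(preSub ι N ⊔ centralizerIn S (preSub ι N))) : Ω) ∈
        centralizerIn S (preSub ι N) := by
      have h4 : ι ⟨β x, hTCS (β x).2⟩ ∈ imSub ι (centralizerIn S (preSub ι N)) := by
        rw [imSub_centralizerIn hR.1 _ hTS, imSub_preSub_eq, ← hTG, h1]
        exact h2
      have h5 := mem_preSub_iff.mpr ⟨_, h4⟩
      rwa [preSub_imSub hR.1 hCS] at h5
    have hgN : c * h ∈ N := N.mul_mem hcN hhN
    refine ⟨?_, ?_⟩
    · show (x : Ω)⁻¹ * ((β x : ↥(preSub ι N ⊔ centralizerIn S (preSub ι N))) : Ω) ∈ preSub ι N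
      rw [mem_preSub_iff]
      refine ⟨S.mul_mem (S.inv_mem (hTCS x.2)) (hTCS (β x).2), ?_⟩
      have e : ι ⟨(x : Ω)⁻¹ * β x, S.mul_mem (S.inv_mem (hTCS x.2)) (hTCS (β x).2)⟩ =
          (ι ⟨x, hTCS x.2⟩)⁻¹ * ι ⟨β x, hTCS (β x).2⟩ := by
        rw [← map_inv, ← map_mul]
        rfl
      rw [e, h1]
      have h5 : (ι ⟨x, hTCS x.2⟩)⁻¹ * (c * h) * ((ι ⟨x, hTCS x.2⟩)⁻¹)⁻¹ ∈ N :=
        hNn.conj_mem _ hgN _
      have e2 : (ι ⟨x, hTCS x.2⟩)⁻¹ * (c * h * ι ⟨x, hTCS x.2⟩ * (c * h)⁻¹) =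
          (ι ⟨x, hTCS x.2⟩)⁻¹ * (c * h) * ((ι ⟨x, hTCS x.2⟩)⁻¹)⁻¹ * (c * h)⁻¹ := by group
      rw [e2]
      exact N.mul_mem h5 (N.inv_mem hgN)
    · exact Subgroup.mul_mem _ (Subgroup.inv_mem _ hx.2) h3.2

end RealizeNormal

end Cfsg.Agent.Lib.Helper27
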