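import Cfsg.Agent.Lib.Helper27.RealizeNormal

set_option autoImplicit false

namespace Cfsg.Agent.Lib.Helper27

open Cfsg Cfsg.FusionSystem Cfsg.Agent.Lib.Helper26

section RealizeQuot

variable {Ω : Type*} [Group Ω] {S : Subgroup Ω} {G : Type*} [Group G]

/-- If the image of `S` lies in `N` and `N` induces the whole system, then `N` realizes it. -/
theorem realized_subgroup [Finite G] {p : ℕ} [Fact p.Prime] {ι : S →* G} (F : FusionSystem S)
    (hR : F.IsRealizedBy ι) (N : Subgroup G)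
    (TG : Sylow p G) (hTG : (TG : Subgroup G) = ι.range)
    (hTS : preSub ι N = S) (hHom : ∀ P : Subgroup Ω, (pullFS ι hR.1 N).Hom P = F.Hom P) :
    ∃ ι' : S →* ↥N, F.IsRealizedBy ι' ∧
      ∃ T' : Sylow p ↥N, (T' : Subgroup ↥N) = ι'.range := by
  have hmem : ∀ x : S, ι x ∈ N := by
    intro x
    have h1 : (x : Ω) ∈ preSub ι N := by rw [hTS]; exact x.2
    exact (mem_preSub_iff.mp h1).2
  refine ⟨ι.codRestrict N hmem, ⟨?_, fun P hP φ hφ => ?_⟩, ?_⟩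
  · intro x y hxy
    exact hR.1 (congrArg (fun z : ↥N => (z : G)) hxy)
  · rw [← hHom P, pullFS_mem_iff]
    constructor
    · rintro ⟨-, -, g, hgN, hg⟩
      refine ⟨⟨g, hgN⟩, fun x => Subtype.ext ?_⟩
      exact hg x _ _
    · rintro ⟨g, hg⟩
      refine ⟨hP.trans hTS.ge, fun x => hTS.ge (hφ x), g.1, g.2, fun x hx hφx => ?_⟩
      exact congrArg (fun z : ↥N => (z : G)) (hg x)
  · have hle : (TG : Subgroup G) ≤ N := by
      rw [hTG]
      rintro _ ⟨x, rfl⟩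
      exact hmem x
    obtain ⟨T', hT'⟩ := (Cfsg.Agent.Lib.Helper18.isSylowIn_of_sylow_le TG hle).exists_sylow
    refine ⟨T', ?_⟩
    rw [hT', hTG]
    ext y
    rw [Subgroup.mem_subgroupOf]
    constructor
    · rintro ⟨x, hx⟩
      exact ⟨x, Subtype.ext hx⟩
    · rintro ⟨x, rfl⟩
      exact ⟨x, rfl⟩

theorem imSub_bot (ι : S →* G) : imSub ι ⊥ = ⊥ := by
  ext y
  rw [mem_imSub_iff, Subgroup.mem_bot]
  constructor
  · rintro ⟨x, hxS, hx, rfl⟩
    rw [Subgroup.mem_bot] at hx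
    subst hx
    exact map_one ι
  · rintro rfl
    exact ⟨1, S.one_mem, Subgroup.mem_bot.mpr rfl, map_one ι⟩

/-- If the image of `S` meets `N` trivially, then the quotient by `N` realizes the system. -/
theorem realized_quotient [Finite G] {p : ℕ} [Fact p.Prime] {ι : S →* G} (F : FusionSystem S)
    (hR : F.IsRealizedBy ι) (N : Subgroup G) [hNn : N.Normal]
    (TG : Sylow p G) (hTG : (TG : Subgroup G) = ι.range) (hbot : preSub ι N = ⊥) :
    F.IsRealizedBy ((QuotientGroup.mk' N).comp ι) ∧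
      ∃ T' : Sylow p (G ⧸ N), (T' : Subgroup (G ⧸ N)) = ((QuotientGroup.mk' N).comp ι).range := by
  have hinf : ι.range ⊓ N = ⊥ := by
    rw [← imSub_preSub_eq, hbot, imSub_bot]
  have hinj' : ∀ u ∈ ι.range, ∀ v ∈ ι.range, (QuotientGroup.mk u : G ⧸ N) = QuotientGroup.mk v →
      u = v := by
    intro u hu v hv huv
    have h1 : u⁻¹ * v ∈ N := QuotientGroup.eq.mp huv
    have h2 : u⁻¹ * v ∈ ι.range ⊓ N :=
      ⟨Subgroup.mul_mem _ (Subgroup.inv_mem _ hu) hv, h1⟩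
    rw [hinf, Subgroup.mem_bot] at h2
    exact inv_mul_eq_one.mp h2
  refine ⟨⟨?_, ?_⟩, ?_⟩
  · intro x y hxy
    exact hR.1 (hinj' _ ⟨x, rfl⟩ _ ⟨y, rfl⟩ hxy)
  · intro P hP φ hφ
    rw [hR.2 P hP φ hφ]
    constructor
    · rintro ⟨g, hg⟩
      refine ⟨(QuotientGroup.mk g : G ⧸ N), fun x => ?_⟩
      show (QuotientGroup.mk (ι ⟨φ x, hφ x⟩) : G ⧸ N) = _
      rw [hg x]
      rfl
    · rintro ⟨gq, hgq⟩
      obtain ⟨g, rfl⟩ := QuotientGroup.mk_surjective gq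
      have hpN : ¬ p ∣ Nat.card N := by
        have h1 := (Cfsg.Agent.S5118.isSylowIn_inf TG N).not_dvd
        rwa [hTG, hinf, Subgroup.relIndex_bot_left] at h1
      have hsyl : Cfsg.Agent.Lib.Helper18.IsSylowIn p ι.range (ι.range ⊔ N) := by
        refine ⟨le_sup_left, ?_, ?_⟩
        · rw [← hTG]
          exact TG.isPGroup'
        · rw [Cfsg.Agent.Lib.Helper18.relIndex_sup_of_normal, ← Subgroup.inf_relIndex_right, hinf,
            Subgroup.relIndex_bot_left]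
          exact hpN
      have hRle : Cfsg.Agent.Lib.Helper18.conjSub g (imSub ι P) ≤ ι.range ⊔ N := by
        rintro _ ⟨y, hy, rfl⟩
        obtain ⟨x, hxS, hx, rfl⟩ := mem_imSub_iff.mp hy
        show g * ι ⟨x, hxS⟩ * g⁻¹ ∈ ι.range ⊔ N
        have h1 := hgq ⟨x, hx⟩
        have h2 : (QuotientGroup.mk (ι ⟨φ ⟨x, hx⟩, hφ _⟩) : G ⧸ N) =
            QuotientGroup.mk (g * ι ⟨x, hxS⟩ * g⁻¹) := h1
        have h3 : (ι ⟨φ ⟨x, hx⟩, hφ _⟩)⁻¹ * (g * ι ⟨x, hxS⟩ * g⁻¹) ∈ N := QuotientGroup.eq.mp h2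
        have e : g * ι ⟨x, hxS⟩ * g⁻¹ =
            ι ⟨φ ⟨x, hx⟩, hφ _⟩ * ((ι ⟨φ ⟨x, hx⟩, hφ _⟩)⁻¹ * (g * ι ⟨x, hxS⟩ * g⁻¹)) := by group
        rw [e]
        exact Subgroup.mul_mem _ (Subgroup.mem_sup_left ⟨_, rfl⟩) (Subgroup.mem_sup_right h3)
      have hRp : IsPGroup p (Cfsg.Agent.Lib.Helper18.conjSub g (imSub ι P)) := by
        apply Cfsg.Agent.Lib.Helper18.conjSub_isPGroup
        have : IsPGroup p ι.range := by rw [← hTG]; exact TG.isPGroup'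
        exact this.to_le (imSub_le_range ι P)
      obtain ⟨y, hy, hle⟩ := hsyl.exists_conj_le hRle hRp
      have hy' : y ∈ ((ι.range ⊔ N : Subgroup G) : Set G) := hy
      rw [Subgroup.mul_normal] at hy'
      obtain ⟨s, hs, n, hn, rfl⟩ := Set.mem_mul.mp hy'
      rw [Cfsg.Agent.Lib.Helper18.conjSub_mul] at hle
      have hs' : s ∈ ι.range := hs
      have hn' : n ∈ N := hn
      refine ⟨n * g, fun x => ?_⟩
      have h1 : s * n * g * ι ⟨x, hP x.2⟩ * (s * n * g)⁻¹ ∈ ι.range :=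
        hle (Cfsg.Agent.Lib.Helper18.conj_mem_conjSub (apply_mem_imSub ι (hP x.2) x.2))
      have h2 : n * g * ι ⟨x, hP x.2⟩ * (n * g)⁻¹ ∈ ι.range := by
        have e : n * g * ι ⟨x, hP x.2⟩ * (n * g)⁻¹ =
            s⁻¹ * (s * n * g * ι ⟨x, hP x.2⟩ * (s * n * g)⁻¹) * s := by group
        rw [e]
        exact Subgroup.mul_mem _ (Subgroup.mul_mem _ (Subgroup.inv_mem _ hs') h1) hs'
      apply hinj' _ ⟨_, rfl⟩ _ h2
      have h3 := hgq x
      have h4 : (QuotientGroup.mk (ι ⟨φ x, hφ x⟩) : G ⧸ N) =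
          QuotientGroup.mk (g * ι ⟨x, hP x.2⟩ * g⁻¹) := h3
      rw [h4]
      apply QuotientGroup.eq.mpr
      have e : (g * ι ⟨x, hP x.2⟩ * g⁻¹)⁻¹ * (n * g * ι ⟨x, hP x.2⟩ * (n * g)⁻¹) =
          (g * ι ⟨x, hP x.2⟩ * g⁻¹)⁻¹ * n * ((g * ι ⟨x, hP x.2⟩ * g⁻¹)⁻¹)⁻¹ * n⁻¹ := by group
      rw [e]
      exact N.mul_mem (hNn.conj_mem _ hn' _) (N.inv_mem hn')
  · refine ⟨TG.mapSurjective (QuotientGroup.mk'_surjective N), ?_⟩
    rw [Sylow.coe_mapSurjective, MonoidHom.range_comp, hTG]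

end RealizeQuot

end Cfsg.Agent.Lib.Helper27
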