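import Cfsg.Agent.Lib.Helper27.Width1
import Cfsg.Agent.Lib.Helper27.FischerLines

/-!
W-classes (helper27).  For a conjugation-invariant set `D` of 3-transpositions and `a ∈ D` write
`Dp D a` for the members of `D` other than `a` that commute with `a`.  If `Dp D a = Dp D b` then `a * b`
lies in the largest normal 3-subgroup.  The proof puts two such products into a common Sylow
3-subgroup (the group generated by the four members of `D` involved has order dividing `2 * 3 ^ 10`,
by the coset enumeration behind `Width1`) and then uses the theorem of Baer and Suzuki.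
-/

set_option autoImplicit false

namespace Cfsg.Agent.Lib.Helper27.WClass

open Cfsg Cfsg.Agent.Lib.Helper27

section Basic

variable {G : Type*} [Group G]

/-- the members of `D` other than `a` that commute with `a` -/
def Dp (D : Set G) (a : G) : Set G := {y | y ∈ D ∧ y ≠ a ∧ Commute a y}

theorem Dp_conj {D : Set G} (hconj : ∀ g : G, ∀ d ∈ D, g * d * g⁻¹ ∈ D) {a b : G}
    (h : Dp D a = Dp D b) (g : G) : Dp D (g * a * g⁻¹) = Dp D (g * b * g⁻¹) := by
  have key : ∀ c y : G, y ∈ Dp D (g * c * g⁻¹) ↔ g⁻¹ * y * g ∈ Dp D c := by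
    intro c y
    constructor
    · rintro ⟨hy, hne, hc⟩
      refine ⟨?_, ?_, ?_⟩
      · have := hconj g⁻¹ y hy
        rwa [inv_inv] at this
      · intro h
        apply hne
        rw [← h]; group
      · show c * (g⁻¹ * y * g) = g⁻¹ * y * g * c
        have hc' : g * c * g⁻¹ * y = y * (g * c * g⁻¹) := hc
        calc c * (g⁻¹ * y * g) = g⁻¹ * (g * c * g⁻¹ * y) * g := by group
          _ = g⁻¹ * (y * (g * c * g⁻¹)) * g := by rw [hc']
          _ = g⁻¹ * y * g * c := by group
    · rintro ⟨hy, hne, hc⟩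
      refine ⟨?_, ?_, ?_⟩
      · have := hconj g _ hy
        have e : g * (g⁻¹ * y * g) * g⁻¹ = y := by group
        rwa [e] at this
      · intro h
        apply hne
        rw [h]; group
      · show g * c * g⁻¹ * y = y * (g * c * g⁻¹)
        have hc' : c * (g⁻¹ * y * g) = g⁻¹ * y * g * c := hc
        calc g * c * g⁻¹ * y = g * (c * (g⁻¹ * y * g)) * g⁻¹ := by group
          _ = g * (g⁻¹ * y * g * c) * g⁻¹ := by rw [hc']
          _ = y * (g * c * g⁻¹) := by group
  ext y
  rw [key a y, key b y, h]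

/-- members with the same `Dp` are equal or do not commute -/
theorem eq_or_not_commute_of_Dp_eq {D : Set G} {a b : G} (hb : b ∈ D) (h : Dp D a = Dp D b) :
    a = b ∨ ¬ Commute a b := by
  by_contra hcon
  push Not at hcon
  obtain ⟨hne, hc⟩ := hcon
  have h1 : b ∈ Dp D a := ⟨hb, fun h => hne h.symm, hc⟩
  rw [h] at h1
  exact h1.2.1 rfl

/-- members attached to anchors that are equal or do not commute are equal or do not commute -/
theorem eq_or_not_commute {D : Set G} {p q y z : G} (hp : p ∈ D) (hz : z ∈ D)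
    (hpq : p = q ∨ ¬ Commute p q) (hy : Dp D y = Dp D p) (hzq : Dp D z = Dp D q) :
    y = z ∨ ¬ Commute y z := by
  by_contra hcon
  push Not at hcon
  obtain ⟨hne, hc⟩ := hcon
  have h1 : z ∈ Dp D y := ⟨hz, fun h => hne h.symm, hc⟩
  rw [hy] at h1
  obtain ⟨-, hzp, hpz⟩ := h1
  have h2 : p ∈ Dp D z := ⟨hp, fun h => hzp h.symm, hpz.symm⟩
  rw [hzq] at h2
  obtain ⟨-, hpq', hqp⟩ := h2
  rcases hpq with h | h
  · exact hpq' h
  · exact h hqp.symm

theorem Dp_conj_self {D : Set G} (hD : IsThreeTranspositionSet D)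
    (hconj : ∀ g : G, ∀ d ∈ D, g * d * g⁻¹ ∈ D) {a b : G} (ha : a ∈ D) (hb : b ∈ D)
    (h : Dp D a = Dp D b) : Dp D (b * a * b⁻¹) = Dp D a := by
  rcases eq_or_not_commute_of_Dp_eq hb h with hab | hab
  · rw [hab, mul_inv_cancel_right]
  · rw [fl_third_eq hD ha hb hab]
    have := Dp_conj hconj h.symm a
    rwa [mul_inv_cancel_right] at this

/-- conjugating by two members with the same `Dp` gives members with the same `Dp` -/
theorem Dp_conj_pair {D : Set G} (hD : IsThreeTranspositionSet D)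
    (hconj : ∀ g : G, ∀ d ∈ D, g * d * g⁻¹ ∈ D) {a b p : G} (ha : a ∈ D) (hb : b ∈ D) (hp : p ∈ D)
    (h : Dp D a = Dp D b) : Dp D (a * p * a⁻¹) = Dp D (b * p * b⁻¹) := by
  by_cases hpa : p = a
  · rw [hpa, mul_inv_cancel_right]
    exact (Dp_conj_self hD hconj ha hb h).symm
  by_cases hpb : p = b
  · rw [hpb, mul_inv_cancel_right]
    exact Dp_conj_self hD hconj hb ha h.symm
  by_cases hc : Commute a p
  · have h1 : p ∈ Dp D a := ⟨hp, hpa, hc⟩
    rw [h] at h1
    have hc' : Commute b p := h1.2.2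
    have e1 : a * p * a⁻¹ = p := by
      rw [hc.eq, mul_inv_cancel_right]
    have e2 : b * p * b⁻¹ = p := by
      rw [hc'.eq, mul_inv_cancel_right]
    rw [e1, e2]
  · have hc' : ¬ Commute b p := by
      intro hbp
      have h1 : p ∈ Dp D b := ⟨hp, hpb, hbp⟩
      rw [← h] at h1
      exact hc h1.2.2
    rw [fl_third_eq hD hp ha (fun h => hc h.symm), fl_third_eq hD hp hb (fun h => hc' h.symm)]
    exact Dp_conj hconj h p

end Basic

section Sylow

variable {G : Type*} [Group G] [Finite G]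

omit [Finite G] in
/-- two commuting elements of order dividing 3 lie in a common Sylow 3-subgroup -/
theorem sylow_pair_of_commute {x y : G} (hxy : Commute x y) (hx : x ^ 3 = 1) (hy : y ^ 3 = 1) :
    ∃ R : Sylow 3 G, x ∈ (R : Subgroup G) ∧ y ∈ (R : Subgroup G) := by
  have : Fact (Nat.Prime 3) := ⟨Nat.prime_three⟩
  set S : Subgroup G := Subgroup.closure {x, y} with hS
  have hcomm : ∀ g h : G, g ∈ S → h ∈ S → Commute g h := by
    intro g h hg hh
    refine Subgroup.closure_induction₂ (p := fun g h _ _ => Commute g h) ?_ ?_ ?_ ?_ ?_ ?_ ?_ hg hh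
    · intro g h hg hh
      rcases hg with rfl | rfl <;> rcases hh with rfl | rfl
      · exact Commute.refl _
      · exact hxy
      · exact hxy.symm
      · exact Commute.refl _
    · intro g _; exact Commute.one_left g
    · intro g _; exact Commute.one_right g
    · intro g h k _ _ _ h1 h2; exact h1.mul_left h2
    · intro g h k _ _ _ h1 h2; exact h1.mul_right h2
    · intro g h _ _ h1; exact h1.inv_left
    · intro g h _ _ h1; exact h1.inv_right
  have hcube : ∀ g : G, g ∈ S → g ^ 3 = 1 := by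
    intro g hg
    refine Subgroup.closure_induction (p := fun g _ => g ^ 3 = 1) ?_ ?_ ?_ ?_ hg
    · intro g hg
      rcases hg with rfl | rfl
      · exact hx
      · exact hy
    · exact one_pow 3
    · intro g h hg hh h1 h2
      rw [(hcomm g h hg hh).mul_pow, h1, h2, one_mul]
    · intro g _ h1
      rw [inv_pow, h1, inv_one]
  have hSp : IsPGroup 3 S := by
    intro g
    refine ⟨1, ?_⟩
    apply Subtype.ext
    rw [pow_one]
    exact hcube g g.2
  obtain ⟨R, hR⟩ := hSp.exists_le_sylow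
  exact ⟨R, hR (Subgroup.subset_closure (by simp)), hR (Subgroup.subset_closure (by simp))⟩

/-- two products of members of a set of involutions `D'` with all pairwise products of order
dividing 3, invariant under its four members involved, lie in a common Sylow 3-subgroup -/
theorem sylow_pair_of_invariant {D' : Set G} (hsq : ∀ d ∈ D', d * d = 1)
    (hcube : ∀ d ∈ D', ∀ e ∈ D', (d * e) ^ 3 = 1) {e f e' f' : G} (he : e ∈ D') (hf : f ∈ D')
    (he' : e' ∈ D') (hf' : f' ∈ D')
    (hinv : ∀ g ∈ ({e, f, e', f'} : Set G), ∀ d ∈ D', g * d * g⁻¹ ∈ D') :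
    ∃ R : Sylow 3 G, e * f ∈ (R : Subgroup G) ∧ e' * f' ∈ (R : Subgroup G) := by
  classical
  have : Fact (Nat.Prime 3) := ⟨Nat.prime_three⟩
  set K : Subgroup G := Subgroup.closure {e, f, e', f'} with hK
  have heK : e ∈ K := Subgroup.subset_closure (by simp)
  have hfK : f ∈ K := Subgroup.subset_closure (by simp)
  have he'K : e' ∈ K := Subgroup.subset_closure (by simp)
  have hf'K : f' ∈ K := Subgroup.subset_closure (by simp)
  -- invariance under `K`
  let S : Subgroup G :=
    { carrier := {g | ∀ d ∈ D', g * d * g⁻¹ ∈ D' ∧ g⁻¹ * d * g ∈ D'}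
      one_mem' := by
        intro d hd
        simp only [one_mul, inv_one, mul_one]
        exact ⟨hd, hd⟩
      mul_mem' := by
        intro g h hg hh d hd
        constructor
        · have e1 : g * h * d * (g * h)⁻¹ = g * (h * d * h⁻¹) * g⁻¹ := by group
          rw [e1]
          exact (hg _ (hh d hd).1).1
        · have e1 : (g * h)⁻¹ * d * (g * h) = h⁻¹ * (g⁻¹ * d * g) * h := by group
          rw [e1]
          exact (hh _ (hg d hd).2).2
      inv_mem' := by
        intro g hg d hd
        rw [inv_inv]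
        exact ⟨(hg d hd).2, (hg d hd).1⟩ }
  have hKS : K ≤ S := by
    rw [hK, Subgroup.closure_le]
    intro g hg d hd
    have hgD : g ∈ D' := by
      rcases hg with rfl | rfl | rfl | rfl <;> assumption
    have hginv : g⁻¹ = g := inv_eq_of_mul_eq_one_left (hsq g hgD)
    have h1 := hinv g hg d hd
    refine ⟨h1, ?_⟩
    rw [hginv]
    rw [hginv] at h1
    exact h1
  have hKinv : ∀ g ∈ K, ∀ d ∈ D', g * d * g⁻¹ ∈ D' := fun g hg d hd => (hKS hg d hd).1
  let DK : Set K := {x | (x : G) ∈ D'}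
  have hDK : W1.CubeClass DK := by
    refine ⟨?_, ?_, ?_⟩
    · intro x hx
      apply Subtype.ext
      exact hsq _ hx
    · intro g x hx
      exact hKinv _ g.2 _ hx
    · intro x hx y hy
      apply Subtype.ext
      exact hcube _ hx _ hy
  obtain ⟨R, h1, h2⟩ := W1.exists_sylow_pair (G := K) hDK (e := ⟨e, heK⟩) (f := ⟨f, hfK⟩)
    (e' := ⟨e', he'K⟩) (f' := ⟨f', hf'K⟩) he hf he' hf'
  have hRG : IsPGroup 3 ((R : Subgroup K).map K.subtype) := R.isPGroup'.map _
  obtain ⟨R', hR'⟩ := hRG.exists_le_sylow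
  exact ⟨R', hR' ⟨_, h1, rfl⟩, hR' ⟨_, h2, rfl⟩⟩

/-- the pair of products for anchors: a set `anch ⊆ D` of pairwise equal or non-commuting members,
invariant under conjugation by `a` and by `a'` -/
theorem sylow_pair_of_anchors {D : Set G} (hD : IsThreeTranspositionSet D)
    (hconj : ∀ g : G, ∀ d ∈ D, g * d * g⁻¹ ∈ D) {a b a' b' : G} (ha : a ∈ D) (hb : b ∈ D)
    (ha' : a' ∈ D) (hb' : b' ∈ D) (hab : Dp D a = Dp D b) (hab' : Dp D a' = Dp D b')
    (anch : Set G) (hsub : anch ⊆ D) (hpw : ∀ p ∈ anch, ∀ q ∈ anch, p = q ∨ ¬ Commute p q)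
    (hia : ∀ p ∈ anch, a * p * a⁻¹ ∈ anch) (hia' : ∀ p ∈ anch, a' * p * a'⁻¹ ∈ anch)
    (haA : a ∈ anch) (ha'A : a' ∈ anch) :
    ∃ R : Sylow 3 G, a * b ∈ (R : Subgroup G) ∧ a' * b' ∈ (R : Subgroup G) := by
  let D' : Set G := {y | y ∈ D ∧ ∃ p ∈ anch, Dp D y = Dp D p}
  have hsq : ∀ d ∈ D', d * d = 1 := fun d hd => tt_sq hD hd.1
  have hcube : ∀ d ∈ D', ∀ e ∈ D', (d * e) ^ 3 = 1 := by
    rintro y ⟨hy, p, hp, hyp⟩ z ⟨hz, q, hq, hzq⟩
    rcases eq_or_not_commute (hsub hp) hz (hpw p hp q hq) hyp hzq with h | h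
    · rw [h, tt_sq hD hz, one_pow]
    · rcases hD.2 y hy z hz with h2 | h3
      · exfalso
        apply h
        have h3 : y * z = (y * z)⁻¹ := by
          rw [eq_inv_iff_mul_eq_one, ← pow_two]; exact h2
        rw [mul_inv_rev, tt_inv hD hy, tt_inv hD hz] at h3
        exact h3
      · exact h3
  have haD' : a ∈ D' := ⟨ha, a, haA, rfl⟩
  have hbD' : b ∈ D' := ⟨hb, a, haA, hab.symm⟩
  have ha'D' : a' ∈ D' := ⟨ha', a', ha'A, rfl⟩
  have hb'D' : b' ∈ D' := ⟨hb', a', ha'A, hab'.symm⟩
  have hinva : ∀ d ∈ D', a * d * a⁻¹ ∈ D' := by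
    rintro y ⟨hy, p, hp, hyp⟩
    exact ⟨hconj a y hy, _, hia p hp, Dp_conj hconj hyp a⟩
  have hinva' : ∀ d ∈ D', a' * d * a'⁻¹ ∈ D' := by
    rintro y ⟨hy, p, hp, hyp⟩
    exact ⟨hconj a' y hy, _, hia' p hp, Dp_conj hconj hyp a'⟩
  have hinvb : ∀ d ∈ D', b * d * b⁻¹ ∈ D' := by
    intro y hy
    obtain ⟨h1, p, hp, h2⟩ := hinva y hy
    exact ⟨hconj b y hy.1, p, hp, (Dp_conj_pair hD hconj ha hb hy.1 hab).symm.trans h2⟩
  have hinvb' : ∀ d ∈ D', b' * d * b'⁻¹ ∈ D' := by
    intro y hy
    obtain ⟨h1, p, hp, h2⟩ := hinva' y hy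
    exact ⟨hconj b' y hy.1, p, hp, (Dp_conj_pair hD hconj ha' hb' hy.1 hab').symm.trans h2⟩
  refine sylow_pair_of_invariant hsq hcube haD' hbD' ha'D' hb'D' ?_
  intro g hg
  rcases hg with rfl | rfl | rfl | rfl
  · exact hinva
  · exact hinvb
  · exact hinva'
  · exact hinvb'

/-- two products `a * b`, `a' * b'` with `Dp D a = Dp D b` and `Dp D a' = Dp D b'` lie in a common
Sylow 3-subgroup -/
theorem sylow_pair_of_Dp_eq {D : Set G} (hD : IsThreeTranspositionSet D)
    (hconj : ∀ g : G, ∀ d ∈ D, g * d * g⁻¹ ∈ D) {a b a' b' : G} (ha : a ∈ D) (hb : b ∈ D)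
    (ha' : a' ∈ D) (hb' : b' ∈ D) (hab : Dp D a = Dp D b) (hab' : Dp D a' = Dp D b') :
    ∃ R : Sylow 3 G, a * b ∈ (R : Subgroup G) ∧ a' * b' ∈ (R : Subgroup G) := by
  have hcube : ∀ x y : G, x ∈ D → y ∈ D → Dp D x = Dp D y → (x * y) ^ 3 = 1 := by
    intro x y hx hy hxy
    rcases eq_or_not_commute_of_Dp_eq hy hxy with h | h
    · rw [h, tt_sq hD hy, one_pow]
    · rcases hD.2 x hx y hy with h2 | h3
      · exfalso
        apply h
        have h3 : x * y = (x * y)⁻¹ := by
          rw [eq_inv_iff_mul_eq_one, ← pow_two]; exact h2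
        rw [mul_inv_rev, tt_inv hD hx, tt_inv hD hy] at h3
        exact h3
      · exact h3
  by_cases haa : a = a'
  · -- one anchor
    subst haa
    refine sylow_pair_of_anchors hD hconj ha hb ha hb' hab hab' {a} ?_ ?_ ?_ ?_ rfl rfl
    · intro p hp
      rw [Set.mem_singleton_iff] at hp
      rw [hp]; exact ha
    · intro p hp q hq
      rw [Set.mem_singleton_iff] at hp hq
      left; rw [hp, hq]
    · intro p hp
      rw [Set.mem_singleton_iff] at hp
      rw [hp, mul_inv_cancel_right]; rfl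
    · intro p hp
      rw [Set.mem_singleton_iff] at hp
      rw [hp, mul_inv_cancel_right]; rfl
  by_cases hc : Commute a a'
  · -- everything commutes
    have h1 : a' ∈ Dp D a := ⟨ha', fun h => haa h.symm, hc⟩
    rw [hab] at h1
    have hba' : Commute b a' := h1.2.2
    have h2 : a ∈ Dp D a' := ⟨ha, haa, hc.symm⟩
    rw [hab'] at h2
    have hb'a : Commute b' a := h2.2.2
    have h3 : b ∈ Dp D a' := ⟨hb, fun h => h1.2.1 h.symm, hba'.symm⟩
    rw [hab'] at h3
    have hb'b : Commute b' b := h3.2.2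
    have hcomm : Commute (a * b) (a' * b') :=
      (Commute.mul_right hc hb'a.symm).mul_left (Commute.mul_right hba' hb'b.symm)
    exact sylow_pair_of_commute hcomm (hcube a b ha hb hab) (hcube a' b' ha' hb' hab')
  · -- three anchors on a line
    set c : G := a' * a * a'⁻¹ with hcdef
    have hcD : c ∈ D := hconj a' a ha
    have hca : c ≠ a := fl_third_ne_left hc
    have hca' : c ≠ a' := fl_third_ne_right hc
    have hnca' : ¬ Commute a' c := fl_nc_third_right hc
    have hnca : ¬ Commute a c := fl_nc_third_left hD ha ha' hc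
    have hc2 : c = a * a' * a⁻¹ := fl_third_eq hD ha ha' hc
    have e1 : a * c * a⁻¹ = a' := by
      rw [hc2, tt_inv hD ha]
      calc a * (a * a' * a) * a = (a * a) * a' * (a * a) := by group
        _ = a' := by rw [tt_sq hD ha, one_mul, mul_one]
    have e2 : a' * c * a'⁻¹ = a := by
      rw [hcdef, tt_inv hD ha']
      calc a' * (a' * a * a') * a' = (a' * a') * a * (a' * a') := by group
        _ = a := by rw [tt_sq hD ha', one_mul, mul_one]
    refine sylow_pair_of_anchors hD hconj ha hb ha' hb' hab hab' {a, a', c} ?_ ?_ ?_ ?_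
      (by simp) (by simp)
    · intro p hp
      rcases hp with rfl | rfl | rfl
      · exact ha
      · exact ha'
      · exact hcD
    · intro p hp q hq
      rcases hp with rfl | rfl | rfl <;> rcases hq with rfl | rfl | rfl
      · left; rfl
      · right; exact hc
      · right; exact hnca
      · right; exact fun h => hc h.symm
      · left; rfl
      · right; exact hnca'
      · right; exact fun h => hnca h.symm
      · right; exact fun h => hnca' h.symm
      · left; rfl
    · intro p hp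
      rcases hp with rfl | rfl | rfl
      · rw [mul_inv_cancel_right]; simp
      · rw [← hc2]; simp
      · rw [e1]; simp
    · intro p hp
      rcases hp with rfl | rfl | rfl
      · simp [hcdef]
      · rw [mul_inv_cancel_right]; simp
      · rw [e2]; simp

/-- **Members with the same commuting partners.**  If `a, b ∈ D` have the same commuting partners
in `D` then `a * b` lies in the largest normal 3-subgroup. -/
theorem mul_mem_pCore {D : Set G} (hD : IsThreeTranspositionSet D)
    (hconj : ∀ g : G, ∀ d ∈ D, g * d * g⁻¹ ∈ D) {a b : G} (ha : a ∈ D) (hb : b ∈ D)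
    (hab : Dp D a = Dp D b) : a * b ∈ Cfsg.pCore 3 G := by
  classical
  have : Fact (Nat.Prime 3) := ⟨Nat.prime_three⟩
  let I : Set G := {x | ∃ e ∈ D, ∃ f ∈ D, Dp D e = Dp D f ∧ x = e * f}
  have hIconj : ∀ x ∈ I, ∀ g : G, g * x * g⁻¹ ∈ I := by
    rintro x ⟨e, he, f, hf, hef, rfl⟩ g
    refine ⟨g * e * g⁻¹, hconj g e he, g * f * g⁻¹, hconj g f hf, Dp_conj hconj hef g, ?_⟩
    group
  have hpair : ∀ x ∈ I, ∀ y ∈ I, ∃ R : Sylow 3 G, x ∈ (R : Subgroup G) ∧ y ∈ (R : Subgroup G) := by
    rintro x ⟨e, he, f, hf, hef, rfl⟩ y ⟨e', he', f', hf', hef', rfl⟩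
    exact sylow_pair_of_Dp_eq hD hconj he hf he' hf' hef hef'
  set T : Subgroup G := Subgroup.closure I with hT
  have hTnorm : T.Normal := by
    constructor
    intro n hn g
    refine Subgroup.closure_induction (p := fun n _ => g * n * g⁻¹ ∈ T) ?_ ?_ ?_ ?_ hn
    · intro x hx
      exact Subgroup.subset_closure (hIconj x hx g)
    · rw [mul_one, mul_inv_cancel]; exact T.one_mem
    · intro a b _ _ ha hb
      have : g * (a * b) * g⁻¹ = (g * a * g⁻¹) * (g * b * g⁻¹) := by group
      rw [this]; exact T.mul_mem ha hb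
    · intro a _ ha
      have : g * a⁻¹ * g⁻¹ = (g * a * g⁻¹)⁻¹ := by group
      rw [this]; exact T.inv_mem ha
  have hTp : IsPGroup 3 T := by
    obtain P : Sylow 3 G := default
    have hIP := Cfsg.Agent.Lib.Helper22.baer_suzuki 3 I hIconj hpair P
    have hTP : T ≤ (P : Subgroup G) := by
      rw [hT, Subgroup.closure_le]; exact hIP
    exact P.isPGroup'.to_le hTP
  have hTle : T ≤ Cfsg.pCore 3 G := Cfsg.Agent.Lib.Helper1.le_pCore hTnorm hTp
  exact hTle (Subgroup.subset_closure ⟨a, ha, b, hb, hab, rfl⟩)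

end Sylow

end Cfsg.Agent.Lib.Helper27.WClass
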