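import Cfsg.Agent.Lib.Helper27.TTPrim
import Cfsg.Agent.Lib.Helper27.WClass
import Cfsg.Agent.S5349
import Cfsg.Agent.S5350
import Cfsg.Prelude.Def_FischerSpaces

/-!
Consequences of primitivity for a class of 3-transpositions (helper27): the classes of an invariant
equivalence relation are blocks; hence in the primitive case the largest normal 2- and 3-subgroups
are central and the commuting graph is connected (given two different commuting members).
-/

set_option autoImplicit false

namespace Cfsg.Agent.Lib.Helper27.TTPrim2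

open Cfsg Cfsg.Agent.Lib.Helper27 Cfsg.Agent.Lib.Helper27.TTFitting Cfsg.Agent.Lib.Helper27.TTPrim

section Equiv

variable {G : Type*} [Group G] {D : Set G}

/-- the classes of a conjugation-invariant equivalence relation are blocks -/
theorem isBlock_of_equiv (hconj : ∀ g : G, ∀ d ∈ D, g * d * g⁻¹ ∈ D) (r : G → G → Prop)
    (hsymm : ∀ x y, r x y → r y x) (htrans : ∀ x y z, r x y → r y z → r x z)
    (hr : ∀ g x y, r x y → r (g * x * g⁻¹) (g * y * g⁻¹)) (d : G) :
    IsBlock {v : G | v ∈ D ∧ r v d} := by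
  intro g
  by_cases h : ∃ x, x ∈ cj g {v : G | v ∈ D ∧ r v d} ∧ x ∈ {v : G | v ∈ D ∧ r v d}
  · left
    obtain ⟨x, hx1, hx2⟩ := h
    rw [mem_cj] at hx1
    have h1 : r x (g * d * g⁻¹) := by
      have := hr g _ _ hx1.2
      have e : g * (g⁻¹ * x * g) * g⁻¹ = x := by group
      rwa [e] at this
    have h2 : r (g * d * g⁻¹) d := htrans _ _ _ (hsymm _ _ h1) hx2.2
    ext y
    rw [mem_cj]
    constructor
    · rintro ⟨hyD, hy⟩
      have hyD' : y ∈ D := by
        have := hconj g _ hyD
        have e : g * (g⁻¹ * y * g) * g⁻¹ = y := by group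
        rwa [e] at this
      have h3 : r y (g * d * g⁻¹) := by
        have := hr g _ _ hy
        have e : g * (g⁻¹ * y * g) * g⁻¹ = y := by group
        rwa [e] at this
      exact ⟨hyD', htrans _ _ _ h3 h2⟩
    · rintro ⟨hyD, hy⟩
      refine ⟨?_, ?_⟩
      · have := hconj g⁻¹ y hyD
        rwa [inv_inv] at this
      · have h3 : r y (g * d * g⁻¹) := htrans _ _ _ hy (hsymm _ _ h2)
        have := hr g⁻¹ _ _ h3
        have e : g⁻¹ * (g * d * g⁻¹) * g⁻¹⁻¹ = d := by group
        rw [e, inv_inv] at this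
        exact this
  · right
    rw [Set.disjoint_left]
    intro x hx1 hx2
    exact h ⟨x, hx1, hx2⟩

end Equiv

section Cons

variable {G : Type*} [Group G] [Finite G] {D : Set G}

/-- primitivity makes the largest normal 2-subgroup central -/
theorem pCore_two_le_center_of_prim (hD : Cfsg.IsThreeTranspositionClass D)
    (hprim : Cfsg.IsPrimitiveUnderConj D) : Cfsg.pCore 2 G ≤ Subgroup.center G := by
  have hDorig := hD
  obtain ⟨hDs, ⟨d₀, hd₀, hDc⟩, hgen⟩ := hD
  obtain ⟨hall, hD2, hblk⟩ := hprim
  have hconj : ∀ g : G, ∀ x ∈ D, g * x * g⁻¹ ∈ D := by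
    intro g x hx
    obtain ⟨k, rfl⟩ := hall d₀ hd₀ x hx
    rw [hDc]
    show IsConj d₀ (g * (k * d₀ * k⁻¹) * g⁻¹)
    exact isConj_iff.mpr ⟨g * k, by group⟩
  apply le_center_of_commute_gen hgen
  intro n hn d hd
  -- the class of `d`
  have hB := isBlock_of_equiv hconj (fun x y => SamePerp D x y) (fun x y h => h.symm)
    (fun x y z h h' => h.trans h') (fun g x y h => SamePerp.conj hconj h g) d
  have hBD : {v : G | v ∈ D ∧ SamePerp D v d} ⊆ D := fun v hv => hv.1
  have hV := (Cfsg.Agent.S5349.result hDorig hD2 hd).2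
  have hdV : d ∈ {v : G | v ∈ D ∧ SamePerp D v d} := ⟨hd, SamePerp.refl D d⟩
  have hnV : n * d * n⁻¹ ∈ {v : G | v ∈ D ∧ SamePerp D v d} := by
    have : n * d * n⁻¹ ∈ {v : G | ∃ g ∈ Cfsg.pCore 2 G, v = g * d * g⁻¹} := ⟨n, hn, rfl⟩
    rw [← hV] at this
    exact this
  rcases hblk _ hBD hB with h | h
  · have := h hnV hdV
    show n * d = d * n
    calc n * d = n * d * n⁻¹ * n := by group
      _ = d * n := by rw [this]
  · -- everything commutes with `d`: impossible
    exfalso
    have hcomm : ∀ x ∈ D, Commute x d := by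
      intro x hx
      have hx' : x ∈ {v : G | v ∈ D ∧ SamePerp D v d} := by rw [h]; exact hx
      exact (hx'.2 d hd).mpr (Commute.refl d)
    have hcen : ∀ g : G, g * d = d * g := by
      intro g
      have hle : (⊤ : Subgroup G) ≤ Subgroup.centralizer {d} := by
        rw [← hgen, Subgroup.closure_le]
        intro x hx
        rw [SetLike.mem_coe, Subgroup.mem_centralizer_iff]
        intro y hy
        rw [Set.mem_singleton_iff] at hy
        rw [hy]
        exact (hcomm x hx).eq.symm
      have hg : g ∈ Subgroup.centralizer {d} := hle (Subgroup.mem_top g)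
      rw [Subgroup.mem_centralizer_iff] at hg
      exact (hg d rfl).symm
    obtain ⟨a, ha, b, hb, hab⟩ := hD2
    have hone : ∀ x ∈ D, x = d := by
      intro x hx
      obtain ⟨g, rfl⟩ := hall d hd x hx
      rw [hcen g, mul_inv_cancel_right]
    exact hab ((hone a ha).trans (hone b hb).symm)

/-- primitivity with a commuting pair makes the largest normal 3-subgroup central -/
theorem pCore_three_le_center_of_prim (hD : Cfsg.IsThreeTranspositionClass D)
    (hprim : Cfsg.IsPrimitiveUnderConj D) (hw : ∃ a ∈ D, ∃ b ∈ D, a ≠ b ∧ Commute a b) :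
    Cfsg.pCore 3 G ≤ Subgroup.center G := by
  have hDorig := hD
  obtain ⟨hDs, ⟨d₀, hd₀, hDc⟩, hgen⟩ := hD
  obtain ⟨hall, hD2, hblk⟩ := hprim
  have hconj : ∀ g : G, ∀ x ∈ D, g * x * g⁻¹ ∈ D := by
    intro g x hx
    obtain ⟨k, rfl⟩ := hall d₀ hd₀ x hx
    rw [hDc]
    show IsConj d₀ (g * (k * d₀ * k⁻¹) * g⁻¹)
    exact isConj_iff.mpr ⟨g * k, by group⟩
  apply le_center_of_commute_gen hgen
  intro n hn d hd
  have hB := isBlock_of_equiv hconj (fun x y => WClass.Dp D y = WClass.Dp D x)
    (fun x y h => h.symm) (fun x y z h h' => h'.trans h)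
    (fun g x y h => WClass.Dp_conj hconj h g) d
  have hBD : {v : G | v ∈ D ∧ WClass.Dp D d = WClass.Dp D v} ⊆ D := fun v hv => hv.1
  have hW := (Cfsg.Agent.S5350.result hDorig hD2 hd).2
  have hdW : d ∈ {v : G | v ∈ D ∧ WClass.Dp D d = WClass.Dp D v} := ⟨hd, rfl⟩
  have hnW : n * d * n⁻¹ ∈ {v : G | v ∈ D ∧ WClass.Dp D d = WClass.Dp D v} := by
    have : n * d * n⁻¹ ∈ {v : G | ∃ g ∈ Cfsg.pCore 3 G, v = g * d * g⁻¹} := ⟨n, hn, rfl⟩
    rw [← hW] at this
    exact this
  rcases hblk _ hBD hB with h | h
  · have := h hnW hdW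
    show n * d = d * n
    calc n * d = n * d * n⁻¹ * n := by group
      _ = d * n := by rw [this]
  · exfalso
    obtain ⟨a, ha, b, hb, hab, hc⟩ := hw
    have ha' : a ∈ {v : G | v ∈ D ∧ WClass.Dp D d = WClass.Dp D v} := by rw [h]; exact ha
    have hb' : b ∈ {v : G | v ∈ D ∧ WClass.Dp D d = WClass.Dp D v} := by rw [h]; exact hb
    have h1 : b ∈ WClass.Dp D a := ⟨hb, fun h => hab h.symm, hc⟩
    rw [← ha'.2, hb'.2] at h1
    exact h1.2.1 rfl

omit [Finite G] in
/-- conjugation is an automorphism of the commuting graph -/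
theorem reachable_conj (hconj : ∀ g : G, ∀ d ∈ D, g * d * g⁻¹ ∈ D) (g : G) {x y : G} (hx : x ∈ D)
    (hy : y ∈ D) (h : (Cfsg.commutingGraph D).Reachable ⟨x, hx⟩ ⟨y, hy⟩) :
    (Cfsg.commutingGraph D).Reachable ⟨g * x * g⁻¹, hconj g x hx⟩ ⟨g * y * g⁻¹, hconj g y hy⟩ := by
  let f : Cfsg.commutingGraph D →g Cfsg.commutingGraph D :=
    { toFun := fun u => ⟨g * (u : G) * g⁻¹, hconj g u u.2⟩
      map_rel' := by
        intro u v huv
        unfold Cfsg.commutingGraph at huv ⊢
        rw [SimpleGraph.fromRel_adj] at huv ⊢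
        refine ⟨?_, ?_⟩
        · intro h
          apply huv.1
          have h1 : g * (u : G) * g⁻¹ = g * (v : G) * g⁻¹ := congrArg Subtype.val h
          apply Subtype.ext
          exact mul_left_cancel (mul_right_cancel h1)
        · rcases huv.2 with h | h
          · left; exact (Commute.conj_iff g).mpr h
          · right; exact (Commute.conj_iff g).mpr h }
  exact h.map f

omit [Finite G] in
/-- primitivity with a commuting pair makes the commuting graph connected -/
theorem connected_of_prim (hD : Cfsg.IsThreeTranspositionClass D)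
    (hprim : Cfsg.IsPrimitiveUnderConj D) (hw : ∃ a ∈ D, ∃ b ∈ D, a ≠ b ∧ Commute a b) :
    (Cfsg.commutingGraph D).Connected := by
  obtain ⟨hDs, ⟨d₀, hd₀, hDc⟩, hgen⟩ := hD
  obtain ⟨hall, hD2, hblk⟩ := hprim
  have hconj : ∀ g : G, ∀ x ∈ D, g * x * g⁻¹ ∈ D := by
    intro g x hx
    obtain ⟨k, rfl⟩ := hall d₀ hd₀ x hx
    rw [hDc]
    show IsConj d₀ (g * (k * d₀ * k⁻¹) * g⁻¹)
    exact isConj_iff.mpr ⟨g * k, by group⟩
  obtain ⟨a, ha, b, hb, hab, hc⟩ := hw
  let r : G → G → Prop := fun x y => ∃ (hx : x ∈ D) (hy : y ∈ D),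
    (Cfsg.commutingGraph D).Reachable ⟨x, hx⟩ ⟨y, hy⟩
  have hB := isBlock_of_equiv hconj r
    (fun x y ⟨hx, hy, h⟩ => ⟨hy, hx, h.symm⟩)
    (fun x y z ⟨hx, _, h⟩ ⟨_, hz, h'⟩ => ⟨hx, hz, h.trans h'⟩)
    (fun g x y ⟨hx, hy, h⟩ => ⟨hconj g x hx, hconj g y hy, reachable_conj hconj g hx hy h⟩) a
  have hBD : {v : G | v ∈ D ∧ r v a} ⊆ D := fun v hv => hv.1
  have haB : a ∈ {v : G | v ∈ D ∧ r v a} := ⟨ha, ha, ha, SimpleGraph.Reachable.refl _⟩
  have hbB : b ∈ {v : G | v ∈ D ∧ r v a} := by
    refine ⟨hb, hb, ha, ?_⟩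
    apply SimpleGraph.Adj.reachable
    unfold Cfsg.commutingGraph
    rw [SimpleGraph.fromRel_adj]
    refine ⟨?_, Or.inl hc.symm⟩
    intro h
    exact hab (congrArg Subtype.val h).symm
  rcases hblk _ hBD hB with h | h
  · exact absurd (h haB hbB) hab
  · have hreach : ∀ x (hx : x ∈ D), (Cfsg.commutingGraph D).Reachable ⟨x, hx⟩ ⟨a, ha⟩ := by
      intro x hx
      have : x ∈ {v : G | v ∈ D ∧ r v a} := by rw [h]; exact hx
      obtain ⟨-, hx', ha', hr⟩ := this
      exact hr
    have hne : Nonempty D := ⟨⟨a, ha⟩⟩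
    refine (SimpleGraph.connected_iff _).mpr ⟨?_, hne⟩
    intro u v
    exact (hreach u u.2).trans (hreach v v.2).symm

end Cons

section Generic

open scoped commutatorElement

/-- a quasisimple group with trivial centre is simple -/
theorem isSimpleGroup_of_quasisimple {H : Type*} [Group H] (hq : Cfsg.IsQuasisimple H)
    (hc : Subgroup.center H = ⊥) : IsSimpleGroup H := by
  haveI := hq.2
  exact ((QuotientGroup.quotientMulEquivOfEq hc).trans QuotientGroup.quotientBot).symm.isSimpleGroup

/-- a noncommutative simple group is quasisimple -/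
theorem quasisimple_of_isSimpleGroup {H : Type*} [Group H] [IsSimpleGroup H]
    (hnc : ¬ ∀ a b : H, a * b = b * a) : Cfsg.IsQuasisimple H := by
  have hcen : Subgroup.center H = ⊥ := by
    rcases (inferInstance : (Subgroup.center H).Normal).eq_bot_or_eq_top with h | h
    · exact h
    · exfalso
      apply hnc
      intro a b
      have ha : a ∈ Subgroup.center H := by rw [h]; exact Subgroup.mem_top a
      rw [Subgroup.mem_center_iff] at ha
      exact (ha b).symm
  have hperf : commutator H = ⊤ := by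
    rcases (inferInstance : (commutator H).Normal).eq_bot_or_eq_top with h | h
    · exfalso
      apply hnc
      intro a b
      have hm : ⁅a, b⁆ ∈ commutator H :=
        Subgroup.commutator_mem_commutator (Subgroup.mem_top a) (Subgroup.mem_top b)
      rw [h, Subgroup.mem_bot, commutatorElement_eq_one_iff_commute] at hm
      exact hm.eq
    · exact h
  refine ⟨⟨hperf⟩, ?_⟩
  exact ((QuotientGroup.quotientMulEquivOfEq hcen).trans QuotientGroup.quotientBot).isSimpleGroup

/-- a finite group of order at most 2 is commutative -/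
theorem mul_comm_of_card_le_two {Q : Type*} [Group Q] [Finite Q] (h : Nat.card Q ≤ 2) (a b : Q) :
    a * b = b * a := by
  have hpos : 0 < Nat.card Q := Nat.card_pos
  have hcases : Nat.card Q = 1 ∨ Nat.card Q = 2 := by omega
  rcases hcases with h1 | h2
  · have := (Nat.card_eq_one_iff_unique.mp h1).1
    exact Subsingleton.elim _ _
  · haveI : Fact (Nat.Prime 2) := ⟨Nat.prime_two⟩
    haveI := isCyclic_of_prime_card h2
    exact (IsCyclic.isMulCommutative (α := Q)).is_comm.comm a b

variable {G : Type*} [Group G] {D : Set G}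

/-- if all generators are congruent to an involution `d₀` modulo `N` there are at most two cosets -/
theorem coset_dichotomy {N : Subgroup G} [N.Normal] (hgen : Subgroup.closure D = ⊤) {d₀ : G}
    (hsq : d₀ * d₀ = 1)
    (hsame : ∀ x ∈ D, (QuotientGroup.mk' N) x = (QuotientGroup.mk' N) d₀) (g : G) :
    (QuotientGroup.mk' N) g = 1 ∨ (QuotientGroup.mk' N) g = (QuotientGroup.mk' N) d₀ := by
  have hd2 : (QuotientGroup.mk' N) d₀ * (QuotientGroup.mk' N) d₀ = 1 := by
    rw [← map_mul, hsq, map_one]
  have hg : g ∈ Subgroup.closure D := by rw [hgen]; exact Subgroup.mem_top g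
  refine Subgroup.closure_induction (p := fun g _ => (QuotientGroup.mk' N) g = 1 ∨
    (QuotientGroup.mk' N) g = (QuotientGroup.mk' N) d₀) ?_ ?_ ?_ ?_ hg
  · intro x hx
    right; exact hsame x hx
  · left; exact map_one _
  · intro x y _ _ hx hy
    rw [map_mul]
    rcases hx with hx | hx <;> rcases hy with hy | hy
    · left; rw [hx, hy, one_mul]
    · right; rw [hx, hy, one_mul]
    · right; rw [hx, hy, mul_one]
    · left; rw [hx, hy, hd2]
  · intro x _ hx
    rw [map_inv]
    rcases hx with hx | hx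
    · left; rw [hx, inv_one]
    · right
      rw [hx]
      exact inv_eq_of_mul_eq_one_left hd2

/-- at most two cosets means index at most 2 -/
theorem index_le_two_of_coset_dichotomy {N : Subgroup G} [N.Normal] {d₀ : G}
    (hcos : ∀ g : G, (QuotientGroup.mk' N) g = 1 ∨
      (QuotientGroup.mk' N) g = (QuotientGroup.mk' N) d₀) : N.index ≤ 2 := by
  classical
  have hsurj : Function.Surjective
      (fun b : Bool => if b then (QuotientGroup.mk' N) d₀ else (1 : G ⧸ N)) := by
    intro q
    induction q using QuotientGroup.induction_on with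
    | H g =>
      rcases hcos g with h | h
      · exact ⟨false, by simpa using h.symm⟩
      · exact ⟨true, by simpa using h.symm⟩
  have hcard := Nat.card_le_card_of_surjective _ hsurj
  have hbool : Nat.card Bool = 2 := Nat.card_eq_fintype_card.trans Fintype.card_bool
  rw [hbool] at hcard
  exact hcard

/-- a perfect normal subgroup of index at most 2 is the commutator subgroup -/
theorem commutator_eq_of_index_le_two [Finite G] {L : Subgroup G} (hLn : L.Normal)
    (hperf : Group.IsPerfect L) (hidx : L.index ≤ 2) : commutator G = L := by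
  apply le_antisymm
  · rw [← Subgroup.Normal.quotient_commutative_iff_commutator_le]
    refine ⟨⟨fun a b => ?_⟩⟩
    apply mul_comm_of_card_le_two
    rw [← Subgroup.index_eq_card]
    exact hidx
  · have h1 : ⁅L, L⁆ = L := Subgroup.isPerfect_iff.mp hperf
    rw [commutator_def, ← h1]
    exact Subgroup.commutator_mono le_top le_top

/-- a normal subgroup is central or contains the simple commutator subgroup -/
theorem normal_le_center_or_commutator_le [IsSimpleGroup (commutator G)] {M : Subgroup G}
    (hMn : M.Normal) : M ≤ Subgroup.center G ∨ commutator G ≤ M := by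
  have hn : (M.subgroupOf (commutator G)).Normal := hMn.subgroupOf _
  rcases hn.eq_bot_or_eq_top with h | h
  · left
    rw [Subgroup.subgroupOf_eq_bot] at h
    intro m hm
    rw [Subgroup.mem_center_iff]
    intro g
    have h1 : g * m * g⁻¹ * m⁻¹ ∈ M := M.mul_mem (hMn.conj_mem m hm g) (M.inv_mem hm)
    have h2 : g * m * g⁻¹ * m⁻¹ ∈ commutator G :=
      Subgroup.commutator_mem_commutator (Subgroup.mem_top g) (Subgroup.mem_top m)
    have h3 : g * m * g⁻¹ * m⁻¹ = 1 := Subgroup.disjoint_def.mp h h1 h2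
    calc g * m = g * m * g⁻¹ * m⁻¹ * (m * g) := by group
      _ = m * g := by rw [h3, one_mul]
  · right
    exact Subgroup.subgroupOf_eq_top.mp h

/-- a normal subgroup of a group whose Fitting subgroup is central and whose centre is trivial has
trivial centre -/
theorem center_eq_bot_of_normal {L : Subgroup G} (hLn : L.Normal)
    (hFit : Cfsg.fittingSubgroup G ≤ Subgroup.center G) (hZ : Subgroup.center G = ⊥) :
    Subgroup.center L = ⊥ := by
  set ZL : Subgroup G := L ⊓ Subgroup.centralizer (L : Set G) with hZL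
  have hZLn : ZL.Normal := inferInstance
  have hZLnil : Group.IsNilpotent ZL := by
    let _ : CommGroup ZL :=
      { mul_comm := fun a b => by
          apply Subtype.ext
          have h1 : (a : G) ∈ Subgroup.centralizer (L : Set G) := a.2.2
          rw [Subgroup.mem_centralizer_iff] at h1
          exact (h1 b.1 b.2.1).symm }
    exact CommGroup.isNilpotent
  have hZLc : ZL ≤ Subgroup.center G :=
    (Cfsg.Agent.Lib.Helper1.le_fittingSubgroup hZLn hZLnil).trans hFit
  rw [hZ] at hZLc
  rw [eq_bot_iff]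
  intro z hz
  rw [Subgroup.mem_center_iff] at hz
  have hzZ : (z : G) ∈ ZL := by
    refine ⟨z.2, ?_⟩
    show (z : G) ∈ Subgroup.centralizer (L : Set G)
    rw [Subgroup.mem_centralizer_iff]
    intro l hl
    have := hz ⟨l, hl⟩
    exact congrArg Subtype.val this
  have := hZLc hzZ
  rw [Subgroup.mem_bot] at this ⊢
  exact Subtype.ext this

end Generic

section Fit

variable {G : Type*} [Group G] [Finite G] {D : Set G}

/-- the Fitting subgroup is central as soon as the largest normal 2- and 3-subgroups are -/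
theorem fitting_le_center (hDs : IsThreeTranspositionSet D)
    (hconj : ∀ g : G, ∀ d ∈ D, g * d * g⁻¹ ∈ D) (hgen : Subgroup.closure D = ⊤)
    (h2 : Cfsg.pCore 2 G ≤ Subgroup.center G) (h3 : Cfsg.pCore 3 G ≤ Subgroup.center G) :
    Cfsg.fittingSubgroup G ≤ Subgroup.center G := by
  rw [Cfsg.Agent.Lib.Helper1.fittingSubgroup_eq_iSup_pCore]
  apply iSup_le
  intro p
  have hp : (p : ℕ).Prime := p.2
  by_cases hp2 : (p : ℕ) = 2
  · rw [hp2]; exact h2
  by_cases hp3 : (p : ℕ) = 3
  · rw [hp3]; exact h3
  apply Cfsg.Agent.Lib.Helper27.TTFitting.pCore_le_center_of_gt_three hDs hconj hgen hp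
  have := hp.two_le
  omega

end Fit

end Cfsg.Agent.Lib.Helper27.TTPrim2
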