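import Cfsg.Agent.Lib.Lead.ReflF3
import Cfsg.Agent.Lib.Helper27.TTPrim2
import Cfsg.Agent.S5349
import Cfsg.Agent.S5350
import Cfsg.Agent.S5358

/-!
Reflections of a fixed norm in an orthogonal space over the field with three elements (helper27):
vectors separating two reflections, used to show that the largest normal 2- and 3-subgroups of the
group generated by the reflections are central and that the commuting graph is connected.
-/

set_option autoImplicit false

namespace Cfsg.Agent.Lib.Helper27.ReflPrim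

open Cfsg Cfsg.Agent.Lib.Helper16 Cfsg.Agent.Lib.helper6 Cfsg.Agent.Lib.Lead.RF3 Module Matrix

section Vec

variable {n : ℕ} (Q : QuadraticForm (ZMod 3) (Fin n → ZMod 3))

/-- a vector of prescribed norm orthogonal to three pairwise orthogonal anisotropic vectors -/
theorem exists_perp3 (hQ : (QuadraticMap.polarBilin Q).Nondegenerate) (hn : 5 ≤ n)
    (u v z : Fin n → ZMod 3) (hu : Q u ≠ 0) (hv : Q v ≠ 0) (hz : Q z ≠ 0)
    (huv : QuadraticMap.polar ⇑Q u v = 0) (huz : QuadraticMap.polar ⇑Q u z = 0)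
    (hvz : QuadraticMap.polar ⇑Q v z = 0) (d : ZMod 3) (hd : d ≠ 0) :
    ∃ y, Q y = d ∧ QuadraticMap.polar ⇑Q u y = 0 ∧ QuadraticMap.polar ⇑Q v y = 0 ∧
      QuadraticMap.polar ⇑Q z y = 0 := by
  classical
  set Bf : LinearMap.BilinForm (ZMod 3) (Fin n → ZMod 3) := QuadraticMap.polarBilin Q with hBf
  have hBf_apply : ∀ x y, Bf x y = QuadraticMap.polar ⇑Q x y := fun x y => rfl
  have hS : ∀ x y, Bf x y = Bf y x := fun x y => by
    rw [hBf_apply, hBf_apply, QuadraticMap.polar_comm]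
  have hrefl : Bf.IsRefl := fun x y h => by rw [hS]; exact h
  set P : Submodule (ZMod 3) (Fin n → ZMod 3) := Submodule.span _ {u, v, z} with hP
  set W := LinearMap.BilinForm.orthogonal Bf P with hW
  have hfrW : finrank (ZMod 3) ↥W = n - finrank (ZMod 3) ↥P := by
    rw [hW, LinearMap.BilinForm.finrank_orthogonal hQ, Module.finrank_fin_fun]
  have hWW : LinearMap.BilinForm.orthogonal Bf W = P :=
    LinearMap.BilinForm.orthogonal_orthogonal hQ hrefl P
  have hP3 : finrank (ZMod 3) ↥P ≤ 3 := by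
    have h1 := finrank_span_finset_le_card (R := ZMod 3) ({u, v, z} : Finset (Fin n → ZMod 3))
    have h2 : (({u, v, z} : Finset (Fin n → ZMod 3)) : Set (Fin n → ZMod 3)) = {u, v, z} := by
      simp
    rw [h2] at h1
    exact le_trans h1 Finset.card_le_three
  have huP : u ∈ P := Submodule.subset_span (by simp)
  have hvP : v ∈ P := Submodule.subset_span (by simp)
  have hzP : z ∈ P := Submodule.subset_span (by simp)
  have hbot : W ⊓ LinearMap.BilinForm.orthogonal Bf W = ⊥ := by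
    rw [hWW, eq_bot_iff]
    rintro x ⟨hxW, hxP⟩
    rw [Submodule.mem_bot]
    have hxu : QuadraticMap.polar ⇑Q u x = 0 := hxW u huP
    have hxv : QuadraticMap.polar ⇑Q v x = 0 := hxW v hvP
    have hxz : QuadraticMap.polar ⇑Q z x = 0 := hxW z hzP
    obtain ⟨a, b, e, rfl⟩ := Submodule.mem_span_triple.mp hxP
    have ha : a = 0 := by
      have := hxu
      rw [QuadraticMap.polar_add_right, QuadraticMap.polar_add_right, QuadraticMap.polar_smul_right,
        QuadraticMap.polar_smul_right, QuadraticMap.polar_smul_right, huv, huz, polar_self',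
        smul_eq_mul, smul_eq_mul, smul_eq_mul, mul_zero, mul_zero, add_zero, add_zero] at this
      rcases mul_eq_zero.mp this with h | h
      · exact h
      · exact absurd (neg_eq_zero.mp h) hu
    have hb : b = 0 := by
      have := hxv
      rw [QuadraticMap.polar_add_right, QuadraticMap.polar_add_right, QuadraticMap.polar_smul_right,
        QuadraticMap.polar_smul_right, QuadraticMap.polar_smul_right,
        QuadraticMap.polar_comm (⇑Q) v u, huv, hvz, polar_self',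
        smul_eq_mul, smul_eq_mul, smul_eq_mul, mul_zero, mul_zero, add_zero, zero_add] at this
      rcases mul_eq_zero.mp this with h | h
      · exact h
      · exact absurd (neg_eq_zero.mp h) hv
    have he : e = 0 := by
      have := hxz
      rw [QuadraticMap.polar_add_right, QuadraticMap.polar_add_right, QuadraticMap.polar_smul_right,
        QuadraticMap.polar_smul_right, QuadraticMap.polar_smul_right,
        QuadraticMap.polar_comm (⇑Q) z u, QuadraticMap.polar_comm (⇑Q) z v, huz, hvz, polar_self',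
        smul_eq_mul, smul_eq_mul, smul_eq_mul, mul_zero, mul_zero, zero_add, zero_add] at this
      rcases mul_eq_zero.mp this with h | h
      · exact h
      · exact absurd (neg_eq_zero.mp h) hz
    rw [ha, hb, he, zero_smul, zero_smul, zero_smul, add_zero, add_zero]
  have hdim : finrank (ZMod 3) ↥(W ⊓ LinearMap.BilinForm.orthogonal Bf W) + 2 ≤
      finrank (ZMod 3) ↥W := by
    rw [hbot, finrank_bot, hfrW]; omega
  obtain ⟨y, hyW, hy⟩ := Cfsg.Agent.Lib.Lead.SU1.exists_in_subspace two_ne Bf hS W hdim (-d)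
    (neg_ne_zero.mpr hd)
  refine ⟨y, ?_, ?_, ?_, ?_⟩
  · rw [hBf_apply, polar_self'] at hy
    exact neg_injective hy
  · exact hyW u huP
  · exact hyW v hvP
  · exact hyW z hzP

/-- two orthogonal vectors of norm `c`: a third vector of norm `c` orthogonal to the first, not
orthogonal to the second and not proportional to it -/
theorem exists_sep_perp (hQ : (QuadraticMap.polarBilin Q).Nondegenerate) (hn : 5 ≤ n)
    (c : ZMod 3) (hc : c ≠ 0) (u v : Fin n → ZMod 3) (hu : Q u = c) (hv : Q v = c)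
    (huv : QuadraticMap.polar ⇑Q u v = 0) :
    ∃ w, Q w = c ∧ QuadraticMap.polar ⇑Q u w = 0 ∧ QuadraticMap.polar ⇑Q v w ≠ 0 ∧ w ≠ v ∧
      w ≠ -v := by
  have hu0 : Q u ≠ 0 := by rw [hu]; exact hc
  have hv0 : Q v ≠ 0 := by rw [hv]; exact hc
  obtain ⟨z, hz, hzu, hzv⟩ := exists_perp Q hQ hn u v hu0 c hc
  have hz0 : Q z ≠ 0 := by rw [hz]; exact hc
  obtain ⟨y, hy, hyu, hyv, hyz⟩ := exists_perp3 Q hQ hn u v z hu0 hv0 hz0 huv hzu hzv (-c)
    (neg_ne c hc)
  have hpz : QuadraticMap.polar ⇑Q z (v + z + y) = -c := by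
    rw [QuadraticMap.polar_add_right, QuadraticMap.polar_add_right, polar_self', hyz,
      QuadraticMap.polar_comm (⇑Q) z v, hzv, hz]
    ring
  refine ⟨v + z + y, ?_, ?_, ?_, ?_, ?_⟩
  · rw [Q_add, Q_add, hv, hz, hy, hzv, QuadraticMap.polar_add_left, hyv, hyz]
    ring
  · rw [QuadraticMap.polar_add_right, QuadraticMap.polar_add_right, huv, hzu, hyu]
    ring
  · rw [QuadraticMap.polar_add_right, QuadraticMap.polar_add_right, polar_self', hzv, hyv, hv]
    intro h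
    apply hc
    linear_combination (-1 : ZMod 3) * h
  · intro h
    rw [h, QuadraticMap.polar_comm (⇑Q) z v, hzv] at hpz
    exact neg_ne c hc hpz.symm
  · intro h
    rw [h, QuadraticMap.polar_neg_right, QuadraticMap.polar_comm (⇑Q) z v, hzv, neg_zero] at hpz
    exact neg_ne c hc hpz.symm

/-- two non-orthogonal, non-proportional vectors of norm `c`: a third vector of norm `c`
orthogonal to the first and not orthogonal to the second -/
theorem exists_sep_nonperp (hQ : (QuadraticMap.polarBilin Q).Nondegenerate)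
    (c : ZMod 3) (hc : c ≠ 0) (u v : Fin n → ZMod 3) (hu : Q u = c) (hv : Q v = c)
    (huv : QuadraticMap.polar ⇑Q u v ≠ 0) (h1 : v ≠ u) (h2 : v ≠ -u) :
    ∃ w, Q w = c ∧ QuadraticMap.polar ⇑Q u w = 0 ∧ QuadraticMap.polar ⇑Q v w ≠ 0 := by
  obtain ⟨p, hp⟩ : ∃ p, p = QuadraticMap.polar ⇑Q u v := ⟨_, rfl⟩
  rw [← hp] at huv
  have hpp : p * p = 1 := z3_sq p huv
  have hcc : c * c = 1 := z3_sq c hc
  -- the projection of `v`
  obtain ⟨v', hv'⟩ : ∃ v' : Fin n → ZMod 3, v' = v + (p * c) • u := ⟨_, rfl⟩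
  have hv'u : QuadraticMap.polar ⇑Q u v' = 0 := by
    rw [hv', QuadraticMap.polar_add_right, QuadraticMap.polar_smul_right, polar_self', hu,
      ← hp, smul_eq_mul]
    linear_combination (-p) * hcc
  have hQv' : Q v' = 0 := by
    rw [hv', Q_add, QuadraticMap.map_smul, QuadraticMap.polar_smul_right, hu, hv,
      QuadraticMap.polar_comm (⇑Q) v u, ← hp, smul_eq_mul, smul_eq_mul]
    have h3 : (3 : ZMod 3) = 0 := by decide
    linear_combination (c * c * c + c) * hpp + c * hcc + c * h3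
  have hv'v' : QuadraticMap.polar ⇑Q v' v' = 0 := by
    rw [polar_self', hQv', neg_zero]
  have hv'ne : v' ≠ 0 := by
    intro h
    have hveq : v = (-(p * c)) • u := by
      have : v = v' - (p * c) • u := by rw [hv']; abel
      rw [this, h, zero_sub, neg_smul]
    rcases ne_of_sq 1 one_ne_zero (p * c) (mul_ne_zero huv hc) with h' | h'
    · apply h2
      rw [hveq, h', neg_smul, one_smul]
    · apply h1
      rw [hveq, h', neg_neg, one_smul]
  -- a vector not orthogonal to the projection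
  have hex : ∃ y₀, QuadraticMap.polar ⇑Q v' y₀ ≠ 0 := by
    by_contra hcon
    push Not at hcon
    exact hv'ne (hQ.1 v' hcon)
  obtain ⟨y₀, hy₀⟩ := hex
  obtain ⟨y, hy⟩ : ∃ y : Fin n → ZMod 3, y = y₀ + (QuadraticMap.polar ⇑Q u y₀ * c) • u :=
    ⟨_, rfl⟩
  have hyu : QuadraticMap.polar ⇑Q u y = 0 := by
    rw [hy, QuadraticMap.polar_add_right, QuadraticMap.polar_smul_right, polar_self', hu,
      smul_eq_mul]
    linear_combination (-(QuadraticMap.polar ⇑Q u y₀)) * hcc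
  obtain ⟨q, hq⟩ : ∃ q, q = QuadraticMap.polar ⇑Q v' y := ⟨_, rfl⟩
  have hqne : q ≠ 0 := by
    rw [hq, hy, QuadraticMap.polar_add_right, QuadraticMap.polar_smul_right,
      QuadraticMap.polar_comm (⇑Q) v' u, hv'u, smul_zero, add_zero]
    exact hy₀
  have hqq : q * q = 1 := z3_sq q hqne
  refine ⟨y + ((c - Q y) * q) • v', ?_, ?_, ?_⟩
  · rw [Q_add, QuadraticMap.map_smul, QuadraticMap.polar_smul_right, hQv',
      QuadraticMap.polar_comm (⇑Q) y v', ← hq, smul_eq_mul, smul_eq_mul]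
    linear_combination (c - Q y) * hqq
  · rw [QuadraticMap.polar_add_right, QuadraticMap.polar_smul_right, hyu, hv'u, smul_zero,
      add_zero]
  · have hvv' : v = v' - (p * c) • u := by rw [hv']; abel
    have : QuadraticMap.polar ⇑Q v (y + ((c - Q y) * q) • v') = q := by
      rw [hvv', QuadraticMap.polar_sub_left, QuadraticMap.polar_smul_left,
        QuadraticMap.polar_add_right, QuadraticMap.polar_add_right,
        QuadraticMap.polar_smul_right, QuadraticMap.polar_smul_right, hv'v', hyu, hv'u, ← hq]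
      simp
    rw [this]
    exact hqne

end Vec

section Grp

variable {n : ℕ} (Q : QuadraticForm (ZMod 3) (Fin n → ZMod 3))

theorem reflG_commute_iff (hQ : (QuadraticMap.polarBilin Q).Nondegenerate)
    (u v : Fin n → ZMod 3) (hu0 : Q u ≠ 0) (hv0 : Q v ≠ 0) (huv : Q u = Q v) (h1 : v ≠ u)
    (h2 : v ≠ -u) :
    Commute (reflG Q u hu0) (reflG Q v hv0) ↔ QuadraticMap.polar ⇑Q u v = 0 := by
  rw [← Cfsg.Agent.S5358.result n Q hQ u v hu0 huv h1 h2]
  constructor
  · intro h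
    have := congrArg (fun g : ↥(Cfsg.isometryGroup (ZMod 3) ⇑Q) =>
      ((g : Matrix.GeneralLinearGroup (Fin n) (ZMod 3)) : Matrix (Fin n) (Fin n) (ZMod 3))) h.eq
    simp only [iso_mul_coe, reflG_coe] at this
    exact this
  · intro h
    show _ * _ = _ * _
    apply iso_ext'
    rw [iso_mul_coe, iso_mul_coe, reflG_coe, reflG_coe]
    exact h.eq

theorem ne_of_polar_eq_zero (u v : Fin n → ZMod 3) (hu0 : Q u ≠ 0)
    (h : QuadraticMap.polar ⇑Q u v = 0) : v ≠ u ∧ v ≠ -u := by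
  constructor
  · intro e
    rw [e, polar_self'] at h
    exact hu0 (neg_eq_zero.mp h)
  · intro e
    rw [e, QuadraticMap.polar_neg_right, polar_self', neg_neg] at h
    exact hu0 h

theorem reflG_commute_of_perp (hQ : (QuadraticMap.polarBilin Q).Nondegenerate)
    (u v : Fin n → ZMod 3) (hu0 : Q u ≠ 0) (hv0 : Q v ≠ 0) (huv : Q u = Q v)
    (h : QuadraticMap.polar ⇑Q u v = 0) : Commute (reflG Q u hu0) (reflG Q v hv0) := by
  obtain ⟨h1, h2⟩ := ne_of_polar_eq_zero Q u v hu0 h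
  exact (reflG_commute_iff Q hQ u v hu0 hv0 huv h1 h2).mpr h

theorem reflG_ne_of_perp (u z : Fin n → ZMod 3) (hu0 : Q u ≠ 0) (hz0 : Q z ≠ 0)
    (h : QuadraticMap.polar ⇑Q u z = 0) : reflG Q u hu0 ≠ reflG Q z hz0 := by
  intro e
  have h1 := congrArg (fun g : ↥(Cfsg.isometryGroup (ZMod 3) ⇑Q) =>
    ((g : Matrix.GeneralLinearGroup (Fin n) (ZMod 3)) : Matrix (Fin n) (Fin n) (ZMod 3)) *ᵥ u) e
  simp only [reflG_coe] at h1
  rw [refl_mulVec Q u u hu0, refl_mulVec Q z u hz0, QuadraticMap.polar_comm (⇑Q) z u, h, mul_zero,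
    zero_smul, sub_zero, polar_self'] at h1
  have hs : Q u * -Q u = -1 := by
    have := z3_sq (Q u) hu0
    linear_combination (-1) * this
  rw [hs] at h1
  have h2 : (2 : ZMod 3) • u = 0 := by
    have e1 : u - (-1 : ZMod 3) • u = (2 : ZMod 3) • u := by module
    rw [e1] at h1
    have h3 : (2 : ZMod 3) • u - u = 0 := sub_eq_zero.mpr h1
    have h4 : (2 : ZMod 3) • u - u = (2 : ZMod 3) • ((2 : ZMod 3) • u) := by
      rw [smul_smul]
      have : (2 : ZMod 3) * 2 = 1 := by decide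
      rw [this]
      module
    rw [h4] at h3
    exact (smul_eq_zero.mp h3).resolve_left two_ne
  have hu : u = 0 := (smul_eq_zero.mp h2).resolve_left two_ne
  rw [hu, QuadraticMap.map_zero] at hu0
  exact hu0 rfl

/-- the reflection of norm `c` as a member of the reflection subgroup -/
noncomputable def mkD (c : ZMod 3) (w : Fin n → ZMod 3) (hw : Q w = c) (hw0 : Q w ≠ 0) :
    ↥(Cfsg.reflectionSubgroup (⇑Q) c) :=
  ⟨reflG Q w hw0, Subgroup.subset_closure (reflG_mem Q c w hw hw0)⟩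

theorem mkD_mem (c : ZMod 3) (w : Fin n → ZMod 3) (hw : Q w = c) (hw0 : Q w ≠ 0) :
    mkD Q c w hw hw0 ∈ {g : ↥(Cfsg.reflectionSubgroup (⇑Q) c) |
      (g : ↥(Cfsg.isometryGroup (ZMod 3) (⇑Q))) ∈ Cfsg.reflectionsOfNorm (⇑Q) c} :=
  reflG_mem Q c w hw hw0

theorem eq_mkD (c : ZMod 3) (hc : c ≠ 0) (d : ↥(Cfsg.reflectionSubgroup (⇑Q) c))
    (hd : d ∈ {g : ↥(Cfsg.reflectionSubgroup (⇑Q) c) |
      (g : ↥(Cfsg.isometryGroup (ZMod 3) (⇑Q))) ∈ Cfsg.reflectionsOfNorm (⇑Q) c}) :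
    ∃ (v : Fin n → ZMod 3) (hv : Q v = c) (hv0 : Q v ≠ 0), d = mkD Q c v hv hv0 := by
  obtain ⟨v, hv0, hv, hdv⟩ := mem_norm Q c hc d.1 hd
  exact ⟨v, hv, hv0, Subtype.ext hdv⟩

theorem mkD_commute_iff (c : ZMod 3) (u v : Fin n → ZMod 3) (hu : Q u = c) (hu0 : Q u ≠ 0)
    (hv : Q v = c) (hv0 : Q v ≠ 0) :
    Commute (mkD Q c u hu hu0) (mkD Q c v hv hv0) ↔ Commute (reflG Q u hu0) (reflG Q v hv0) := by
  constructor
  · intro h
    exact congrArg Subtype.val h.eq
  · intro h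
    show _ * _ = _ * _
    exact Subtype.ext h.eq

theorem mkD_eq_of (c : ZMod 3) (u v : Fin n → ZMod 3) (hu : Q u = c) (hu0 : Q u ≠ 0)
    (hv : Q v = c) (hv0 : Q v ≠ 0) (h : v = u ∨ v = -u) :
    mkD Q c v hv hv0 = mkD Q c u hu hu0 := by
  apply Subtype.ext
  show reflG Q v hv0 = reflG Q u hu0
  rcases h with h | h
  · subst h; rfl
  · subst h
    exact reflG_neg Q u hu0 hv0

end Grp

section Final

variable {n : ℕ} (Q : QuadraticForm (ZMod 3) (Fin n → ZMod 3))

/-- the classes of members with the same commuting partners are trivial -/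
theorem refl_V_trivial (hQ : (QuadraticMap.polarBilin Q).Nondegenerate) (hn : 5 ≤ n) (c : ZMod 3)
    (hc : c ≠ 0) (d v : ↥(Cfsg.reflectionSubgroup (⇑Q) c))
    (hd : d ∈ {g : ↥(Cfsg.reflectionSubgroup (⇑Q) c) |
      (g : ↥(Cfsg.isometryGroup (ZMod 3) (⇑Q))) ∈ Cfsg.reflectionsOfNorm (⇑Q) c})
    (hv : v ∈ {g : ↥(Cfsg.reflectionSubgroup (⇑Q) c) |
      (g : ↥(Cfsg.isometryGroup (ZMod 3) (⇑Q))) ∈ Cfsg.reflectionsOfNorm (⇑Q) c})
    (h : ∀ e ∈ {g : ↥(Cfsg.reflectionSubgroup (⇑Q) c) |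
      (g : ↥(Cfsg.isometryGroup (ZMod 3) (⇑Q))) ∈ Cfsg.reflectionsOfNorm (⇑Q) c},
      Commute v e ↔ Commute d e) : v = d := by
  by_contra hne
  obtain ⟨u, hu, hu0, rfl⟩ := eq_mkD Q c hc d hd
  obtain ⟨v₁, hv₁, hv₁0, rfl⟩ := eq_mkD Q c hc v hv
  have hn1 : v₁ ≠ u := fun e => hne (mkD_eq_of Q c u v₁ hu hu0 hv₁ hv₁0 (Or.inl e))
  have hn2 : v₁ ≠ -u := fun e => hne (mkD_eq_of Q c u v₁ hu hu0 hv₁ hv₁0 (Or.inr e))
  have hcomm : Commute (mkD Q c v₁ hv₁ hv₁0) (mkD Q c u hu hu0) := (h _ hd).mpr (Commute.refl _)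
  have hp : QuadraticMap.polar ⇑Q u v₁ = 0 := by
    rw [← reflG_commute_iff Q hQ u v₁ hu0 hv₁0 (hu.trans hv₁.symm) hn1 hn2]
    exact ((mkD_commute_iff Q c v₁ u hv₁ hv₁0 hu hu0).mp hcomm).symm
  obtain ⟨w, hw, hwu, hwv, hw1, hw2⟩ := exists_sep_perp Q hQ hn c hc u v₁ hu hv₁ hp
  have hw0 : Q w ≠ 0 := by rw [hw]; exact hc
  have h1 : Commute (mkD Q c u hu hu0) (mkD Q c w hw hw0) :=
    (mkD_commute_iff Q c u w hu hu0 hw hw0).mpr
      (reflG_commute_of_perp Q hQ u w hu0 hw0 (hu.trans hw.symm) hwu)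
  have h2 := (h _ (mkD_mem Q c w hw hw0)).mpr h1
  have h3 := (mkD_commute_iff Q c v₁ w hv₁ hv₁0 hw hw0).mp h2
  rw [reflG_commute_iff Q hQ v₁ w hv₁0 hw0 (hv₁.trans hw.symm) hw1 hw2] at h3
  exact hwv h3

/-- the classes of members with the same proper commuting partners are trivial -/
theorem refl_W_trivial (hQ : (QuadraticMap.polarBilin Q).Nondegenerate) (c : ZMod 3)
    (hc : c ≠ 0) (d w : ↥(Cfsg.reflectionSubgroup (⇑Q) c))
    (hd : d ∈ {g : ↥(Cfsg.reflectionSubgroup (⇑Q) c) |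
      (g : ↥(Cfsg.isometryGroup (ZMod 3) (⇑Q))) ∈ Cfsg.reflectionsOfNorm (⇑Q) c})
    (hw : w ∈ {g : ↥(Cfsg.reflectionSubgroup (⇑Q) c) |
      (g : ↥(Cfsg.isometryGroup (ZMod 3) (⇑Q))) ∈ Cfsg.reflectionsOfNorm (⇑Q) c})
    (h : {y : ↥(Cfsg.reflectionSubgroup (⇑Q) c) | y ∈ {g : ↥(Cfsg.reflectionSubgroup (⇑Q) c) |
      (g : ↥(Cfsg.isometryGroup (ZMod 3) (⇑Q))) ∈ Cfsg.reflectionsOfNorm (⇑Q) c} ∧ y ≠ d ∧
        Commute d y} =
      {y : ↥(Cfsg.reflectionSubgroup (⇑Q) c) | y ∈ {g : ↥(Cfsg.reflectionSubgroup (⇑Q) c) |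
      (g : ↥(Cfsg.isometryGroup (ZMod 3) (⇑Q))) ∈ Cfsg.reflectionsOfNorm (⇑Q) c} ∧ y ≠ w ∧
        Commute w y}) : w = d := by
  by_contra hne
  obtain ⟨u, hu, hu0, rfl⟩ := eq_mkD Q c hc d hd
  obtain ⟨v₁, hv₁, hv₁0, rfl⟩ := eq_mkD Q c hc w hw
  have hn1 : v₁ ≠ u := fun e => hne (mkD_eq_of Q c u v₁ hu hu0 hv₁ hv₁0 (Or.inl e))
  have hn2 : v₁ ≠ -u := fun e => hne (mkD_eq_of Q c u v₁ hu hu0 hv₁ hv₁0 (Or.inr e))
  by_cases hp : QuadraticMap.polar ⇑Q u v₁ = 0
  · have hcomm : Commute (mkD Q c u hu hu0) (mkD Q c v₁ hv₁ hv₁0) :=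
      (mkD_commute_iff Q c u v₁ hu hu0 hv₁ hv₁0).mpr
        (reflG_commute_of_perp Q hQ u v₁ hu0 hv₁0 (hu.trans hv₁.symm) hp)
    have hmem : mkD Q c v₁ hv₁ hv₁0 ∈ {y : ↥(Cfsg.reflectionSubgroup (⇑Q) c) |
        y ∈ {g : ↥(Cfsg.reflectionSubgroup (⇑Q) c) |
        (g : ↥(Cfsg.isometryGroup (ZMod 3) (⇑Q))) ∈ Cfsg.reflectionsOfNorm (⇑Q) c} ∧
        y ≠ mkD Q c u hu hu0 ∧ Commute (mkD Q c u hu hu0) y} := ⟨hw, hne, hcomm⟩
    rw [h] at hmem
    exact hmem.2.1 rfl
  · obtain ⟨x, hx, hxu, hxv⟩ := exists_sep_nonperp Q hQ c hc u v₁ hu hv₁ hp hn1 hn2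
    have hx0 : Q x ≠ 0 := by rw [hx]; exact hc
    have hcomm : Commute (mkD Q c u hu hu0) (mkD Q c x hx hx0) :=
      (mkD_commute_iff Q c u x hu hu0 hx hx0).mpr
        (reflG_commute_of_perp Q hQ u x hu0 hx0 (hu.trans hx.symm) hxu)
    have hxne : mkD Q c x hx hx0 ≠ mkD Q c u hu hu0 := by
      intro e
      exact reflG_ne_of_perp Q u x hu0 hx0 hxu (congrArg Subtype.val e).symm
    have hmem : mkD Q c x hx hx0 ∈ {y : ↥(Cfsg.reflectionSubgroup (⇑Q) c) |
        y ∈ {g : ↥(Cfsg.reflectionSubgroup (⇑Q) c) |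
        (g : ↥(Cfsg.isometryGroup (ZMod 3) (⇑Q))) ∈ Cfsg.reflectionsOfNorm (⇑Q) c} ∧
        y ≠ mkD Q c u hu hu0 ∧ Commute (mkD Q c u hu hu0) y} :=
      ⟨mkD_mem Q c x hx hx0, hxne, hcomm⟩
    rw [h] at hmem
    have h3 := (mkD_commute_iff Q c v₁ x hv₁ hv₁0 hx hx0).mp hmem.2.2
    have hx1 : x ≠ v₁ := by
      intro e
      rw [e] at hxu
      exact hp hxu
    have hx2 : x ≠ -v₁ := by
      intro e
      rw [e, QuadraticMap.polar_neg_right, neg_eq_zero] at hxu
      exact hp hxu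
    rw [reflG_commute_iff Q hQ v₁ x hv₁0 hx0 (hv₁.trans hx.symm) hx1 hx2] at h3
    exact hxv h3

end Final

section Generic

variable {G : Type*} [Group G] [Finite G] {D : Set G}

/-- trivial classes of members with the same commuting partners force the largest normal
2-subgroup into the centre -/
theorem pCore_two_le_center_of_trivial (hD : Cfsg.IsThreeTranspositionClass D)
    (hD2 : ∃ a ∈ D, ∃ b ∈ D, a ≠ b)
    (hV : ∀ d ∈ D, ∀ v ∈ D, (∀ e ∈ D, Commute v e ↔ Commute d e) → v = d) :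
    Cfsg.pCore 2 G ≤ Subgroup.center G := by
  apply Cfsg.Agent.Lib.Helper27.TTFitting.le_center_of_commute_gen hD.2.2
  intro m hm d hd
  have hS := (Cfsg.Agent.S5349.result hD hD2 hd).2
  have hmem : m * d * m⁻¹ ∈ {v : G | ∃ g ∈ Cfsg.pCore 2 G, v = g * d * g⁻¹} := ⟨m, hm, rfl⟩
  rw [← hS] at hmem
  have := hV d hd _ hmem.1 hmem.2
  show m * d = d * m
  calc m * d = m * d * m⁻¹ * m := by group
    _ = d * m := by rw [this]

/-- trivial classes of members with the same proper commuting partners force the largest normal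
3-subgroup into the centre -/
theorem pCore_three_le_center_of_trivial (hD : Cfsg.IsThreeTranspositionClass D)
    (hD2 : ∃ a ∈ D, ∃ b ∈ D, a ≠ b)
    (hW : ∀ d ∈ D, ∀ w ∈ D, {y : G | y ∈ D ∧ y ≠ d ∧ Commute d y} =
      {y : G | y ∈ D ∧ y ≠ w ∧ Commute w y} → w = d) :
    Cfsg.pCore 3 G ≤ Subgroup.center G := by
  apply Cfsg.Agent.Lib.Helper27.TTFitting.le_center_of_commute_gen hD.2.2
  intro m hm d hd
  have hS := (Cfsg.Agent.S5350.result hD hD2 hd).2
  have hmem : m * d * m⁻¹ ∈ {w : G | ∃ g ∈ Cfsg.pCore 3 G, w = g * d * g⁻¹} := ⟨m, hm, rfl⟩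
  rw [← hS] at hmem
  have := hW d hd _ hmem.1 hmem.2
  show m * d = d * m
  calc m * d = m * d * m⁻¹ * m := by group
    _ = d * m := by rw [this]

end Generic

end Cfsg.Agent.Lib.Helper27.ReflPrim
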