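import Mathlib
import Cfsg.Prelude.Def_Local
import Cfsg.Agent.Lib.Helper5.PConstr
import Cfsg.Agent.Lib.Helper5.SolvPSolv
import Cfsg.Agent.Lib.Helper5.Hol2
import Cfsg.Agent.Lib.Helper18.PCore
import Cfsg.Agent.Lib.Helper24.SelfCentCore
import Cfsg.Agent.Lib.Helper1.Fitting
import Cfsg.Agent.Lib.Helper1.Cores
import Cfsg.Agent.Lib.Helper1.Residual

set_option autoImplicit false

/-! Closure properties of `p`-solvable groups. -/

namespace Cfsg.Agent.Lib.Helper27.ResSer

open Cfsg

universe u

variable {p : ℕ}

/-- a group whose order is a power of `p` or prime to `p` is `p`-solvable -/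
theorem psolv_of_card {X : Type*} [Group X]
    (h : (∃ m : ℕ, Nat.card X = p ^ m) ∨ (Nat.card X).Coprime p) : IsPSolvable p X := by
  refine ⟨1, ![⊥, ⊤], rfl, rfl, ?_, ?_, ?_⟩
  · intro i j hij
    fin_cases i <;> fin_cases j
    · exact le_rfl
    · exact bot_le
    · exact absurd hij (by decide)
    · exact le_rfl
  · intro i
    fin_cases i
    · exact (inferInstance : (⊥ : Subgroup X).Normal)
    · exact (inferInstance : (⊤ : Subgroup X).Normal)
  · intro i
    fin_cases i
    show (∃ m : ℕ, (⊥ : Subgroup X).relIndex ⊤ = p ^ m) ∨ ((⊥ : Subgroup X).relIndex ⊤).Coprime p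
    rw [Subgroup.relIndex_top_right, Subgroup.index_bot]
    exact h

/-- a finite group mapping to a `p`-solvable group with kernel a `p`-group is `p`-solvable -/
theorem psolv_of_hom_ker [Fact p.Prime] {X : Type u} {Y : Type*} [Group X] [Group Y] [Finite X]
    (f : X →* Y) (hk : IsPGroup p f.ker) (hY : IsPSolvable p Y) : IsPSolvable p X := by
  obtain ⟨m, hm⟩ := IsPGroup.iff_card.mp hk
  have h1 : IsPSolvable p f.range :=
    Helper5.isPSolvable_of_injective f.range.subtype f.range.subtype_injective hY
  have e : X ⧸ f.ker ≃* f.range := QuotientGroup.quotientKerEquivRange f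
  have h2 : IsPSolvable p (X ⧸ f.ker) :=
    Helper5.isPSolvable_of_injective e.toMonoidHom e.injective h1
  exact Helper5.isPSolvable_of_quotient f.ker (Or.inl ⟨m, hm⟩) h2

/-- a nontrivial finite `p`-solvable group has a nontrivial characteristic subgroup that is a
`p`-group or a `p'`-group -/
theorem exists_char_of_psolv [Fact p.Prime] {K : Type*} [Group K] [Finite K] (hne : (⊤ : Subgroup K) ≠ ⊥)
    (h : IsPSolvable p K) :
    ∃ L : Subgroup K, L.Characteristic ∧ L ≠ ⊥ ∧
      ((∃ m : ℕ, Nat.card L = p ^ m) ∨ (Nat.card L).Coprime p) := by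
  obtain ⟨n, H, h0, hlast, hmono, hnorm, hfac⟩ := h
  have key : ∀ i : Fin (n + 1), H i ≠ ⊥ → pCore p K ≠ ⊥ ∨ pPrimeCore p K ≠ ⊥ := by
    intro i
    refine Fin.induction ?_ (fun j ih => ?_) i
    · intro h1
      exact absurd h0 h1
    · intro h1
      by_cases h2 : H j.castSucc = ⊥
      · have hn := hnorm j.succ
        have hrel : (H j.castSucc).relIndex (H j.succ) = Nat.card (H j.succ) := by
          rw [h2, Subgroup.relIndex_bot_left]
        rcases hfac j with ⟨m, hm⟩ | hc
        · left
          rw [hrel] at hm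
          have hp : IsPGroup p (H j.succ) := IsPGroup.of_card hm
          intro hb
          apply h1
          rw [eq_bot_iff, ← hb]
          exact Helper1.le_pCore hn hp
        · right
          rw [hrel] at hc
          intro hb
          apply h1
          rw [eq_bot_iff, ← hb]
          exact Helper1.le_pPrimeCore hn hc
      · exact ih h2
  rcases key (Fin.last n) (hlast ▸ hne) with h1 | h1
  · refine ⟨pCore p K, Helper18.pCore_characteristic p K, h1, Or.inl ?_⟩
    exact IsPGroup.iff_card.mp (Helper18.pCore_isPGroup p K)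
  · exact ⟨pPrimeCore p K, Helper24.pPrimeCore_characteristic p, h1,
      Or.inr (Helper1.pPrimeCore_card_coprime p)⟩

/-- a nontrivial finite `p`-solvable group has a proper normal subgroup whose index is a power of
`p` or prime to `p` -/
theorem exists_normal_of_psolv {X : Type*} [Group X] (hne : (⊥ : Subgroup X) ≠ ⊤)
    (h : IsPSolvable p X) :
    ∃ M : Subgroup X, M.Normal ∧ M ≠ ⊤ ∧ ((∃ m : ℕ, M.index = p ^ m) ∨ M.index.Coprime p) := by
  obtain ⟨n, H, h0, hlast, hmono, hnorm, hfac⟩ := h
  have key : ∀ i : Fin (n + 1), H i ≠ ⊤ →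
      ∃ M : Subgroup X, M.Normal ∧ M ≠ ⊤ ∧ ((∃ m : ℕ, M.index = p ^ m) ∨ M.index.Coprime p) := by
    intro i
    refine Fin.reverseInduction ?_ (fun j ih => ?_) i
    · intro h1
      exact absurd hlast h1
    · intro h1
      by_cases h2 : H j.succ = ⊤
      · refine ⟨H j.castSucc, hnorm _, h1, ?_⟩
        have := hfac j
        rw [h2, Subgroup.relIndex_top_right] at this
        exact this
      · exact ih h2
  exact key 0 (h0 ▸ hne)

theorem psolv_ext_aux [Fact p.Prime] : ∀ (n : ℕ) (X : Type u) [Group X] [Finite X],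
    Nat.card X = n → ∀ (K : Subgroup X) [K.Normal], IsPSolvable p K → IsPSolvable p (X ⧸ K) →
      IsPSolvable p X := by
  intro n
  induction n using Nat.strong_induction_on with
  | _ n ih =>
    intro X _ _ hn K _ hK hQ
    by_cases hKbot : K = ⊥
    · refine Helper5.isPSolvable_of_injective (QuotientGroup.mk' K) ?_ hQ
      rw [← MonoidHom.ker_eq_bot_iff, QuotientGroup.ker_mk', hKbot]
    · have hne : (⊤ : Subgroup K) ≠ ⊥ := by
        intro h
        apply hKbot
        rw [eq_bot_iff]
        intro x hx
        have h1 : (⟨x, hx⟩ : K) ∈ (⊤ : Subgroup K) := Subgroup.mem_top _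
        rw [h, Subgroup.mem_bot] at h1
        rw [Subgroup.mem_bot]
        exact congrArg Subtype.val h1
      obtain ⟨L₀, hchar, hL₀ne, hL₀⟩ := exists_char_of_psolv hne hK
      haveI := hchar
      have hLn : (L₀.map K.subtype).Normal := inferInstance
      have hLcard : Nat.card (L₀.map K.subtype) = Nat.card L₀ :=
        Subgroup.card_map_of_injective K.subtype_injective
      have hLne : 1 < Nat.card (L₀.map K.subtype) := by
        rw [hLcard]
        exact L₀.one_lt_card_iff_ne_bot.mpr hL₀ne
      have hLle : L₀.map K.subtype ≤ K := by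
        rintro _ ⟨y, -, rfl⟩
        exact y.2
      have hcard : Nat.card (X ⧸ L₀.map K.subtype) < n := by
        have h1 := Subgroup.card_eq_card_quotient_mul_card_subgroup (L₀.map K.subtype)
        rw [hn] at h1
        have hpos : 0 < Nat.card (X ⧸ L₀.map K.subtype) := Nat.card_pos
        nlinarith
      have hsurj := QuotientGroup.mk'_surjective (L₀.map K.subtype)
      have hK'n : (K.map (QuotientGroup.mk' (L₀.map K.subtype))).Normal :=
        Subgroup.Normal.map inferInstance _ hsurj
      have hK' : IsPSolvable p (K.map (QuotientGroup.mk' (L₀.map K.subtype))) :=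
        Helper5.h5_isPSolvable_of_surjective ((QuotientGroup.mk' (L₀.map K.subtype)).subgroupMap K)
          (MonoidHom.subgroupMap_surjective _ _) hK
      have hle : K ≤ (K.map (QuotientGroup.mk' (L₀.map K.subtype))).comap
          (QuotientGroup.mk' (L₀.map K.subtype)) := Subgroup.le_comap_map _ _
      have hQ' : IsPSolvable p ((X ⧸ L₀.map K.subtype) ⧸
          K.map (QuotientGroup.mk' (L₀.map K.subtype))) := by
        refine Helper5.h5_isPSolvable_of_surjective
          (QuotientGroup.map K (K.map (QuotientGroup.mk' (L₀.map K.subtype)))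
            (QuotientGroup.mk' (L₀.map K.subtype)) hle) ?_ hQ
        apply QuotientGroup.map_surjective_of_surjective
        exact (QuotientGroup.mk'_surjective _).comp hsurj
      have hX' : IsPSolvable p (X ⧸ L₀.map K.subtype) :=
        ih _ hcard (X ⧸ L₀.map K.subtype) rfl _ hK' hQ'
      refine Helper5.isPSolvable_of_quotient (L₀.map K.subtype) ?_ hX'
      rw [hLcard]
      exact hL₀

/-- an extension of a `p`-solvable group by a `p`-solvable group is `p`-solvable -/
theorem psolv_ext [Fact p.Prime] {X : Type u} [Group X] [Finite X] (K : Subgroup X) [K.Normal]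
    (hK : IsPSolvable p K) (hQ : IsPSolvable p (X ⧸ K)) : IsPSolvable p X :=
  psolv_ext_aux _ X rfl K hK hQ

/-- if a subgroup `N` is `p`-solvable and contains a normal subgroup `K` whose index is a power
of `p` or prime to `p`, the whole group is `p`-solvable -/
theorem psolv_of_le [Fact p.Prime] {X : Type u} [Group X] [Finite X] (K N : Subgroup X) [K.Normal]
    (hKN : K ≤ N) (hN : IsPSolvable p N)
    (hidx : (∃ m : ℕ, K.index = p ^ m) ∨ K.index.Coprime p) : IsPSolvable p X := by
  have hK : IsPSolvable p K :=
    Helper5.isPSolvable_of_injective (Subgroup.inclusion hKN) (Subgroup.inclusion_injective hKN) hN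
  refine psolv_ext K hK (psolv_of_card ?_)
  rw [← Subgroup.index_eq_card]
  exact hidx

/-- the subgroup generated by the elements of `p`-power order is normal -/
theorem ppClosure_normal {X : Type*} [Group X] :
    (Subgroup.closure {α : X | ∃ k : ℕ, orderOf α = p ^ k}).Normal := by
  refine ⟨fun n hn g => ?_⟩
  refine Subgroup.closure_induction
    (p := fun x _ => g * x * g⁻¹ ∈ Subgroup.closure {α : X | ∃ k : ℕ, orderOf α = p ^ k})
    ?_ ?_ ?_ ?_ hn
  · rintro x ⟨k, hk⟩
    apply Subgroup.subset_closure
    refine ⟨k, ?_⟩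
    have h := orderOf_injective (MulAut.conj g).toMonoidHom (MulAut.conj g).injective x
    rw [← hk, ← h]
    rfl
  · rw [mul_one, mul_inv_cancel]
    exact Subgroup.one_mem _
  · intro x y _ _ hx hy
    have e : g * (x * y) * g⁻¹ = (g * x * g⁻¹) * (g * y * g⁻¹) := by group
    rw [e]
    exact Subgroup.mul_mem _ hx hy
  · intro x _ hx
    have e : g * x⁻¹ * g⁻¹ = (g * x * g⁻¹)⁻¹ := by group
    rw [e]
    exact Subgroup.inv_mem _ hx

/-- the subgroup generated by the elements of `p`-power order has index prime to `p` -/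
theorem ppClosure_index_coprime [hp : Fact p.Prime] {X : Type*} [Group X] [Finite X] :
    (Subgroup.closure {α : X | ∃ k : ℕ, orderOf α = p ^ k}).index.Coprime p := by
  obtain ⟨P⟩ : Nonempty (Sylow p X) := inferInstance
  have hle : (P : Subgroup X) ≤ Subgroup.closure {α : X | ∃ k : ℕ, orderOf α = p ^ k} := by
    intro x hx
    apply Subgroup.subset_closure
    obtain ⟨k, hk⟩ := (IsPGroup.iff_orderOf.mp P.2) ⟨x, hx⟩
    refine ⟨k, ?_⟩
    rw [← hk, Subgroup.orderOf_mk]
  have h1 := Subgroup.index_dvd_of_le hle
  have h2 : ¬ p ∣ (P : Subgroup X).index := P.not_dvd_index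
  have h3 : ¬ p ∣ (Subgroup.closure {α : X | ∃ k : ℕ, orderOf α = p ^ k}).index :=
    fun h => h2 (h.trans h1)
  exact ((Nat.Prime.coprime_iff_not_dvd hp.out).mpr h3).symm

/-- a finite group with a `p`-solvable subgroup containing all elements of `p`-power order is
`p`-solvable -/
theorem psolv_of_ppClosure_le [Fact p.Prime] {X : Type u} [Group X] [Finite X] (N : Subgroup X)
    (hle : Subgroup.closure {α : X | ∃ k : ℕ, orderOf α = p ^ k} ≤ N) (hN : IsPSolvable p N) :
    IsPSolvable p X := by
  haveI := ppClosure_normal (p := p) (X := X)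
  exact psolv_of_le _ N hle hN (Or.inr ppClosure_index_coprime)

/-- a finite group with a `p`-solvable subgroup containing `O^p` is `p`-solvable -/
theorem psolv_of_pResidual_le [Fact p.Prime] {X : Type u} [Group X] [Finite X] (N : Subgroup X)
    (hle : pResidual p X ≤ N) (hN : IsPSolvable p N) : IsPSolvable p X := by
  haveI := Helper1.pResidual_normal (G := X) p
  refine psolv_of_le _ N hle hN (Or.inl ?_)
  rw [Subgroup.index_eq_card]
  exact IsPGroup.iff_card.mp (Helper1.quotient_pResidual_isPGroup p)

end Cfsg.Agent.Lib.Helper27.ResSer
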