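import Cfsg.Agent.Lib.Helper26.FusionSeries4
import Cfsg.Agent.Lib.Helper27.ResSer1
import Cfsg.Agent.Lib.Helper27.FusJoin
import Cfsg.Agent.S5106

set_option autoImplicit false

/-! Restriction of automorphism groups of a fusion system to invariant subgroups. -/

namespace Cfsg.Agent.Lib.Helper27.ResSer

open Cfsg Cfsg.FusionSystem Cfsg.Agent.Lib.Helper26

variable {Ω : Type*} [Group Ω] {S : Subgroup Ω}

/-- the restriction of an automorphism of `R` to an invariant subgroup `Q ≤ R`, as a hom -/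
def resFun {Q R : Subgroup Ω} (hQR : Q ≤ R) (α : MulAut R)
    (h : ∀ x : R, (x : Ω) ∈ Q → ((α x : R) : Ω) ∈ Q) : Q →* Q where
  toFun x := ⟨α (Subgroup.inclusion hQR x), h _ x.2⟩
  map_one' := by
    apply Subtype.ext
    simp
  map_mul' a b := by
    apply Subtype.ext
    simp

theorem resFun_injective {Q R : Subgroup Ω} (hQR : Q ≤ R) (α : MulAut R)
    (h : ∀ x : R, (x : Ω) ∈ Q → ((α x : R) : Ω) ∈ Q) : Function.Injective (resFun hQR α h) := by
  intro a b hab
  have h1 : ((α (Subgroup.inclusion hQR a) : R) : Ω) = ((α (Subgroup.inclusion hQR b) : R) : Ω) :=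
    congrArg (fun z : Q => (z : Ω)) hab
  have h2 := α.injective (Subtype.ext h1)
  exact Subgroup.inclusion_injective hQR h2

/-- the restriction of an automorphism of `R` to an invariant finite subgroup `Q ≤ R` -/
noncomputable def resAut {Q R : Subgroup Ω} [Finite Q] (hQR : Q ≤ R) (α : MulAut R)
    (h : ∀ x : R, (x : Ω) ∈ Q → ((α x : R) : Ω) ∈ Q) : MulAut Q :=
  MulEquiv.ofBijective (resFun hQR α h)
    ⟨resFun_injective hQR α h, Finite.injective_iff_surjective.mp (resFun_injective hQR α h)⟩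

theorem resAut_apply {Q R : Subgroup Ω} [Finite Q] (hQR : Q ≤ R) (α : MulAut R)
    (h : ∀ x : R, (x : Ω) ∈ Q → ((α x : R) : Ω) ∈ Q) (x : Q) :
    ((resAut hQR α h x : Q) : Ω) = ((α (Subgroup.inclusion hQR x) : R) : Ω) := rfl

theorem resAut_apply' {Q R : Subgroup Ω} [Finite Q] (hQR : Q ≤ R) (α : MulAut R)
    (h : ∀ x : R, (x : Ω) ∈ Q → ((α x : R) : Ω) ∈ Q) (x : Q) :
    Subgroup.inclusion hQR (resAut hQR α h x) = α (Subgroup.inclusion hQR x) := Subtype.ext rfl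

theorem resAut_mem (F : FusionSystem S) {Q R : Subgroup Ω} [Finite Q] (hQR : Q ≤ R) (hRS : R ≤ S)
    {α : MulAut R} (hα : α ∈ F.autGroup R)
    (h : ∀ x : R, (x : Ω) ∈ Q → ((α x : R) : Ω) ∈ Q) : resAut hQR α h ∈ F.autGroup Q := by
  rw [mem_autGroup_iff F (hQR.trans hRS)]
  have h2 := (mem_autGroup_iff F hRS).mp hα
  exact mem_of_forall_eq F (restrict_mem F h2 hQR) (fun x => rfl)

/-- the restriction homomorphism `Aut_F(R) → Aut_F(Q)` for an invariant subgroup `Q ≤ R` -/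
noncomputable def resHom (F : FusionSystem S) {Q R : Subgroup Ω} [Finite Q] (hQR : Q ≤ R)
    (hRS : R ≤ S) (hinv : AutInvariant (F.autGroup R) Q) : F.autGroup R →* F.autGroup Q where
  toFun a := ⟨resAut hQR a.1 (hinv a.1 a.2), resAut_mem F hQR hRS a.2 _⟩
  map_one' := by
    apply Subtype.ext
    apply MulEquiv.ext
    intro x
    apply Subtype.ext
    rfl
  map_mul' a b := by
    apply Subtype.ext
    apply MulEquiv.ext
    intro x
    apply Subtype.ext
    show (((a * b : F.autGroup R) : MulAut R) (Subgroup.inclusion hQR x) : Ω) = _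
    rw [Subgroup.coe_mul, MulAut.mul_apply]
    show _ = ((resAut hQR a.1 (hinv a.1 a.2) (resAut hQR b.1 (hinv b.1 b.2) x) : Q) : Ω)
    rw [resAut_apply, resAut_apply']

theorem resHom_apply (F : FusionSystem S) {Q R : Subgroup Ω} [Finite Q] (hQR : Q ≤ R)
    (hRS : R ≤ S) (hinv : AutInvariant (F.autGroup R) Q) (a : F.autGroup R) (x : Q) :
    ((((resHom F hQR hRS hinv a : F.autGroup Q) : MulAut Q) x : Q) : Ω) =
      (((a : MulAut R) (Subgroup.inclusion hQR x) : R) : Ω) := rfl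

/-- when `R` is normal in the saturated system, restriction to `Q ≤ R` is onto `Aut_F(Q)` -/
theorem resHom_surjective [Finite S] {p : ℕ} [Fact p.Prime] (hS : IsPGroup p S)
    (F : FusionSystem S) (hF : F.IsSaturated p) {Q R : Subgroup Ω} [Finite Q] (hQR : Q ≤ R)
    (hR : F.IsNormal R) (hinv : AutInvariant (F.autGroup R) Q) :
    Function.Surjective (resHom F hQR hR.1 hinv) := by
  rintro ⟨β, hβ⟩
  have hQS : Q ≤ S := hQR.trans hR.1
  have hβ' := (mem_autGroup_iff F hQS).mp hβ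
  obtain ⟨α, hα, h⟩ := (Cfsg.Agent.S5106.result p hS F hF R hR.1).mp hR Q hQR _ hβ'
  refine ⟨⟨α, hα⟩, ?_⟩
  apply Subtype.ext
  apply MulEquiv.ext
  intro x
  apply Subtype.ext
  rw [resHom_apply]
  exact h x

/-- an automorphism of `R ≤ S` fixing `Q` pointwise and acting trivially on `R` modulo `Q`
has `p`-power order -/
theorem exists_pow_eq_one_of_trivial [Finite S] {p : ℕ} [Fact p.Prime] (hS : IsPGroup p S)
    {Q R : Subgroup Ω} (hQS : Q ≤ S) (β : MulAut R)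
    (h1 : ∀ x : R, (x : Ω) ∈ Q → β x = x)
    (h2 : ∀ x : R, (x : Ω)⁻¹ * ((β x : R) : Ω) ∈ Q) : ∃ k : ℕ, β ^ (p ^ k) = 1 := by
  have hN : IsPElementOn p β Q := ⟨0, fun x hx => by rw [pow_zero, pow_one]; exact h1 x hx⟩
  obtain ⟨k, hk⟩ := isPElementOn_step hS (M := R) hQS β hN (fun x _ => ⟨(β x).2, h2 x⟩)
  refine ⟨k, ?_⟩
  apply MulEquiv.ext
  intro x
  exact hk x x.2

/-- the commutator of an element of `R` with an automorphism fixing the normal subgroup `Q`
pointwise centralizes `Q` -/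
theorem inv_mul_apply_mem_centralizer {Q R : Subgroup Ω} (hQR : Q ≤ R)
    (hn : R ≤ Subgroup.normalizer (Q : Set Ω))
    (β : MulAut R) (h1 : ∀ x : R, (x : Ω) ∈ Q → β x = x) (x : R) :
    (x : Ω)⁻¹ * ((β x : R) : Ω) ∈ Subgroup.centralizer (Q : Set Ω) := by
  rw [Subgroup.mem_centralizer_iff]
  intro q hq
  have hxq : (x : Ω) * q * (x : Ω)⁻¹ ∈ Q := (Subgroup.mem_normalizer_iff.mp (hn x.2) q).mp hq
  have h3 : β (x * ⟨q, hQR hq⟩ * x⁻¹) = x * ⟨q, hQR hq⟩ * x⁻¹ := h1 _ hxq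
  have h4 : β (⟨q, hQR hq⟩ : R) = ⟨q, hQR hq⟩ := h1 _ hq
  rw [map_mul, map_mul, map_inv, h4] at h3
  have h5 : ((β x : R) : Ω) * q * ((β x : R) : Ω)⁻¹ = (x : Ω) * q * (x : Ω)⁻¹ :=
    congrArg (fun z : R => (z : Ω)) h3
  have h6 : ((x : Ω)⁻¹ * ((β x : R) : Ω)) * q * ((x : Ω)⁻¹ * ((β x : R) : Ω))⁻¹ = q := by
    calc ((x : Ω)⁻¹ * ((β x : R) : Ω)) * q * ((x : Ω)⁻¹ * ((β x : R) : Ω))⁻¹
        = (x : Ω)⁻¹ * (((β x : R) : Ω) * q * ((β x : R) : Ω)⁻¹) * (x : Ω) := by group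
      _ = (x : Ω)⁻¹ * ((x : Ω) * q * (x : Ω)⁻¹) * (x : Ω) := by rw [h5]
      _ = q := by group
  calc q * ((x : Ω)⁻¹ * ((β x : R) : Ω))
      = (((x : Ω)⁻¹ * ((β x : R) : Ω)) * q * ((x : Ω)⁻¹ * ((β x : R) : Ω))⁻¹) *
          ((x : Ω)⁻¹ * ((β x : R) : Ω)) := by rw [h6]
    _ = (x : Ω)⁻¹ * ((β x : R) : Ω) * q := by group

/-- if `C_R(Q) ≤ Q` and `Q` is normal in `R`, the automorphisms in `Aut_F(R)` restricting
trivially to `Q` form a `p`-group -/
theorem ker_resHom_isPGroup [Finite S] {p : ℕ} [Fact p.Prime] (hS : IsPGroup p S)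
    (F : FusionSystem S) {Q R : Subgroup Ω} [Finite Q] (hQR : Q ≤ R) (hRS : R ≤ S)
    (hinv : AutInvariant (F.autGroup R) Q) (hn : R ≤ Subgroup.normalizer (Q : Set Ω))
    (hc : centralizerIn R Q ≤ Q) : IsPGroup p (resHom F hQR hRS hinv).ker := by
  rintro ⟨a, ha⟩
  have hfix : ∀ x : R, (x : Ω) ∈ Q → (a : MulAut R) x = x := by
    intro x hx
    have h1 := congrArg (fun b : F.autGroup Q => ((b : MulAut Q) ⟨x, hx⟩ : Ω)) (MonoidHom.mem_ker.mp ha)
    apply Subtype.ext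
    exact h1
  obtain ⟨k, hk⟩ := exists_pow_eq_one_of_trivial hS (hQR.trans hRS) (a : MulAut R) hfix
    (fun x => hc ⟨Subgroup.mul_mem _ (Subgroup.inv_mem _ x.2) ((a : MulAut R) x).2,
      inv_mul_apply_mem_centralizer hQR hn _ hfix x⟩)
  refine ⟨k, ?_⟩
  apply Subtype.ext
  apply Subtype.ext
  exact hk

/-- if every automorphism of order prime to `p` in the kernel of the restriction to `Q` acts
trivially on `R` modulo `Q`, the kernel is a `p`-group -/
theorem ker_resHom_isPGroup_of_coprime [Finite S] {p : ℕ} [Fact p.Prime] (hS : IsPGroup p S)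
    (F : FusionSystem S) {Q R : Subgroup Ω} [Finite Q] (hQR : Q ≤ R) (hRS : R ≤ S)
    (hinv : AutInvariant (F.autGroup R) Q)
    (h : ∀ a : F.autGroup R, (orderOf a).Coprime p → resHom F hQR hRS hinv a = 1 →
      ∀ x : R, (x : Ω)⁻¹ * (((a : MulAut R) x : R) : Ω) ∈ Q) :
    IsPGroup p (resHom F hQR hRS hinv).ker := by
  have hfinR : Finite R := finite_of_le hRS
  have hfinA : Finite (MulAut R) := inferInstance
  apply Helper18.isPGroup_of_forall_coprime_eq_one
  rintro ⟨a, ha⟩ hcop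
  have hcop' : (orderOf a).Coprime p := by
    rw [← Subgroup.orderOf_mk a ha]
    exact hcop
  have hfix : ∀ x : R, (x : Ω) ∈ Q → (a : MulAut R) x = x := by
    intro x hx
    have h1 := congrArg (fun b : F.autGroup Q => ((b : MulAut Q) ⟨x, hx⟩ : Ω)) (MonoidHom.mem_ker.mp ha)
    apply Subtype.ext
    exact h1
  obtain ⟨k, hk⟩ := exists_pow_eq_one_of_trivial hS (hQR.trans hRS) (a : MulAut R) hfix
    (h a hcop' (MonoidHom.mem_ker.mp ha))
  have h2 : a ^ (p ^ k) = 1 := by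
    apply Subtype.ext
    exact hk
  have h3 : orderOf a ∣ p ^ k := orderOf_dvd_of_pow_eq_one h2
  have h4 : orderOf a = 1 := Nat.Coprime.eq_one_of_dvd (Nat.Coprime.pow_right k hcop') h3
  apply Subtype.ext
  exact orderOf_eq_one_iff.mp h4

end Cfsg.Agent.Lib.Helper27.ResSer
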