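import Cfsg.Agent.Lib.Helper27.ResSer2
import Cfsg.Agent.Lib.Helper27.FusInvariant
import Cfsg.Agent.Lib.Helper26.FusionHyp
import Cfsg.Agent.Lib.Helper1.Residual
import Cfsg.Agent.S5119

set_option autoImplicit false

/-! The largest normal subgroup of an invariant subsystem is normal in the big system; a chain
criterion for normality involving the hyperfocal subgroup. -/

namespace Cfsg.Agent.Lib.Helper27.ResSer

open Cfsg Cfsg.FusionSystem Cfsg.Agent.Lib.Helper26 Cfsg.Agent.Lib.Helper27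
open scoped commutatorElement

variable {Ω : Type*} [Group Ω] {S : Subgroup Ω}

/-- a saturated system is invariant in itself -/
theorem isInvariantIn_self [Finite S] {p : ℕ} [Fact p.Prime] (hS : IsPGroup p S)
    (F : FusionSystem S) (hF : F.IsSaturated p) : F.IsInvariantIn F := by
  refine (Cfsg.Agent.S5119.result p hS F hF F (fun _ _ h => h) (stronglyClosed_top F)).mpr ?_
  intro P Q hPQ hQS φ hφ hφQ ψ hψ
  have hψP : ψ.comp (Subgroup.inclusion hPQ) ∈ F.Hom P := restrict_mem F hψ hPQ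
  obtain ⟨ι, hι, hιx⟩ := F.inv_mem hψP
  have hιP : ∀ y : (ψ.comp (Subgroup.inclusion hPQ)).range, ι y ∈ P := by
    rintro ⟨_, x, rfl⟩
    rw [hιx]
    exact x.2
  have h1 : φ.comp (ι.codRestrict P hιP) ∈ F.Hom (ψ.comp (Subgroup.inclusion hPQ)).range :=
    F.comp_mem hι hφ hιP
  have h1Q : ∀ y : (ψ.comp (Subgroup.inclusion hPQ)).range,
      (φ.comp (ι.codRestrict P hιP)) y ∈ Q := fun y => hφQ _
  have h2 : ψ.comp ((φ.comp (ι.codRestrict P hιP)).codRestrict Q h1Q) ∈
      F.Hom (ψ.comp (Subgroup.inclusion hPQ)).range := F.comp_mem h1 hψ h1Q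
  have hmap : (ψ.comp (Subgroup.inclusion hPQ)).range = (P.subgroupOf Q).map ψ := by
    ext z
    constructor
    · rintro ⟨x, rfl⟩
      exact ⟨Subgroup.inclusion hPQ x, Subgroup.mem_subgroupOf.mpr x.2, rfl⟩
    · rintro ⟨q, hq, rfl⟩
      exact ⟨⟨q, Subgroup.mem_subgroupOf.mp hq⟩, rfl⟩
  obtain ⟨χ, hχ, hχx⟩ := hom_cast_eq F hmap h2
  refine ⟨χ, hχ, fun x hx => ?_⟩
  have hy : ψ (Subgroup.inclusion hPQ x) ∈ (ψ.comp (Subgroup.inclusion hPQ)).range := ⟨x, rfl⟩
  rw [hχx _ hy hx]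
  have e2 : ι ⟨ψ (Subgroup.inclusion hPQ x), hy⟩ = x := hιx x
  have e3 : (ι.codRestrict P hιP) ⟨ψ (Subgroup.inclusion hPQ x), hy⟩ = x := Subtype.ext e2
  show ψ ⟨φ ((ι.codRestrict P hιP) ⟨ψ (Subgroup.inclusion hPQ x), hy⟩), _⟩ = _
  congr 2
  rw [e3]

/-- the largest normal subgroup of an invariant saturated subsystem is invariant under
`Aut_F(T)` -/
theorem apply_mem_core_of_invariant {T : Subgroup Ω} [Finite T] {p : ℕ} [Fact p.Prime]
    (hT : IsPGroup p T) {D : FusionSystem T} (hD : D.IsSaturated p) {E : FusionSystem S}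
    (hinv : D.IsInvariantIn E) {α : MulAut T} (hα : α ∈ E.autGroup T) (x : T)
    (hx : (x : Ω) ∈ D.core) : ((α x : T) : Ω) ∈ D.core := by
  have h1 : D.IsNormal (preAut α⁻¹ D.core) :=
    preAut_isNormal hT hD hinv ((E.autGroup T).inv_mem hα) (isNormal_core D)
  have h2 : preAut α⁻¹ D.core ≤ D.core := le_sSup h1
  exact h2 (apply_mem_preAut_inv α hx)

/-- the largest normal subgroup of an invariant saturated subsystem is normal in the big
system -/
theorem isNormal_core_of_invariant [Finite S] {p : ℕ} [Fact p.Prime] (hS : IsPGroup p S)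
    (E : FusionSystem S) (hE : E.IsSaturated p) {T : Subgroup Ω} (D : FusionSystem T)
    (hD : D.IsSaturated p) (hinv : D.IsInvariantIn E) : E.IsNormal D.core := by
  have hTS : T ≤ S := hinv.2.1.1
  have hfinT : Finite T := finite_of_le hTS
  have hTp : IsPGroup p T := hS.to_le hTS
  have hQ : D.IsNormal D.core := isNormal_core D
  have hQT : D.core ≤ T := hQ.1
  have hfinQ : Finite D.core := finite_of_le (hQT.trans hTS)
  obtain ⟨n, hn⟩ := exists_ucs_eq hS (hQT.trans hTS)
  have hsc : ∀ i : ℕ, E.StronglyClosed (ucs D.core i) := by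
    intro i
    refine stronglyClosed_of_invSC hinv ⟨stronglyClosed_ucs_of_isNormal D hQ i, ?_⟩
    intro α hα x hx
    have hinvQ : ∀ y : T, (y : Ω) ∈ D.core → ((α y : T) : Ω) ∈ D.core :=
      fun y hy => apply_mem_core_of_invariant hTp hD hinv hα y hy
    have hxQ : (x : Ω) ∈ D.core := ucs_le _ _ hx
    have h1 := apply_mem_ucs (resAut hQT α hinvQ) (x := ⟨x, hxQ⟩) hx
    rw [resAut_apply] at h1
    exact h1
  refine isNormal_of_chain hS E hE D.core n (fun i => ucs D.core i) (ucs_zero _) hn ?_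
  intro i
  refine ⟨hsc _, ?_⟩
  show ⁅D.core, ucs D.core ((i : ℕ) + 1)⁆ ≤ ucs D.core (i : ℕ)
  exact commutator_ucs_le D.core i

/-- a chain criterion: a strongly closed subgroup `N` is normal in the saturated system if it
centralizes the factors of a chain of strongly closed subgroups reaching `Q ≤ N`, where `Q`
contains the intersection of `N` with the hyperfocal subgroup -/
theorem isNormal_of_chain_hyp [Finite S] {p : ℕ} [Fact p.Prime] (hS : IsPGroup p S)
    (F : FusionSystem S) (hF : F.IsSaturated p) (N Q : Subgroup Ω) (hN : F.StronglyClosed N)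
    (n : ℕ) (Qs : Fin (n + 1) → Subgroup Ω) (h0 : Qs 0 = ⊥) (hlast : Qs (Fin.last n) = Q)
    (hstep : ∀ i : Fin n, F.StronglyClosed (Qs i.succ) ∧ ⁅N, Qs i.succ⁆ ≤ Qs (Fin.castSucc i))
    (hhyp : F.hyperfocalSubgroup p ⊓ N ≤ Q) : F.IsNormal N := by
  have hsc : ∀ i : Fin (n + 1), F.StronglyClosed (Qs i) := by
    intro i
    refine Fin.cases ?_ (fun j => (hstep j).1) i
    rw [h0]
    exact stronglyClosed_bot F
  have hQ : F.StronglyClosed Q := hlast ▸ hsc (Fin.last n)
  have hNn := le_normalizer_of_stronglyClosed F hN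
  refine isNormal_of_stronglyClosed_of_le_pCore hS F hF hN (fun P hess => ?_)
  have hPS : P ≤ S := hess.2.1.1
  have hfinP : Finite P := finite_of_le hPS
  have hnorm1 : ∀ i : Fin n, ((linkStab P (Qs (Fin.castSucc i)) (Qs i.succ)).subgroupOf
      (F.autGroup P)).Normal := fun i =>
    linkStab_subgroupOf_normal _ (autInvariant_of_stronglyClosed F (hsc _) hPS)
      (autInvariant_of_stronglyClosed F (hsc _) hPS)
  have hnorm2 : ((linkStab P N P).subgroupOf (F.autGroup P)).Normal :=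
    linkStab_subgroupOf_normal _ (autInvariant_of_stronglyClosed F hN hPS) (autInvariant_self _)
  have hKn : ((⨅ i : Fin n, (linkStab P (Qs (Fin.castSucc i)) (Qs i.succ)).subgroupOf
      (F.autGroup P)) ⊓ (linkStab P N P).subgroupOf (F.autGroup P)).Normal := by
    have := Subgroup.normal_iInf_normal hnorm1
    exact Subgroup.normal_inf_normal _ _
  have hKp : IsPGroup p ↥((⨅ i : Fin n, (linkStab P (Qs (Fin.castSucc i)) (Qs i.succ)).subgroupOf
      (F.autGroup P)) ⊓ (linkStab P N P).subgroupOf (F.autGroup P)) := by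
    have hfinA : Finite (MulAut P) := inferInstance
    apply Helper18.isPGroup_of_forall_coprime_eq_one
    rintro ⟨β, hβ⟩ hcop
    have hcop' : (orderOf β).Coprime p := by
      rw [← Subgroup.orderOf_mk β hβ]
      exact hcop
    rw [Subgroup.mem_inf, Subgroup.mem_iInf] at hβ
    obtain ⟨hβ1, hβ2⟩ := hβ
    have hres : β ∈ pResidual p (F.autGroup P) := Helper1.mem_pResidual_of_coprime hcop'
    have hchain : ∀ i : Fin (n + 1), IsPElementOn p (β : MulAut P) (Qs i) := by
      intro i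
      refine Fin.induction ?_ (fun j ih => ?_) i
      · rw [h0]
        exact isPElementOn_bot p _
      · refine isPElementOn_step hS (hsc _).1 _ ih (fun x hx => ?_)
        have := (Subgroup.mem_subgroupOf.mp (hβ1 j)) x hx
        exact ⟨this.1.1, this.2.1⟩
    obtain ⟨k, hk⟩ := isPElementOn_step hS (M := P) hQ.1 _ (hlast ▸ hchain (Fin.last n))
      (fun x hx => ⟨((β : MulAut P) x).2, hhyp ⟨gen_mem_hyperfocal F p hPS β hres x,
        ((Subgroup.mem_subgroupOf.mp hβ2) x hx).2.1⟩⟩)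
    have h2 : β ^ (p ^ k) = 1 := by
      apply Subtype.ext
      apply MulEquiv.ext
      intro x
      exact hk x x.2
    have h3 : orderOf β ∣ p ^ k := orderOf_dvd_of_pow_eq_one h2
    have h4 : orderOf β = 1 := Nat.Coprime.eq_one_of_dvd (Nat.Coprime.pow_right k hcop') h3
    apply Subtype.ext
    exact orderOf_eq_one_iff.mp h4
  refine le_trans ?_ (Helper1.le_pCore hKn hKp)
  intro b hb
  obtain ⟨g, hgQN, hg, hbg⟩ := mem_autInducedBy_iff'.mp (Subgroup.mem_subgroupOf.mp hb)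
  have hgS : g ∈ S := hN.1 hgQN.1
  rw [Subgroup.mem_inf, Subgroup.mem_iInf]
  refine ⟨fun i => ?_, ?_⟩
  · rw [Subgroup.mem_subgroupOf, hbg]
    have hcomm : ⁅Qs i.succ, N⁆ ≤ Qs (Fin.castSucc i) := by
      rw [Subgroup.commutator_comm]
      exact (hstep i).2
    refine conjAut_mem_linkStab hg (le_normalizer_of_stronglyClosed F (hsc _) hgS)
      (fun x hx => ?_) (fun x hx => ?_)
    · have h1 : ⁅x⁻¹, g⁆ ∈ ⁅Qs i.succ, N⁆ :=
        Subgroup.commutator_mem_commutator (Subgroup.inv_mem _ hx) hgQN.1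
      have e : x⁻¹ * (g * x * g⁻¹) = ⁅x⁻¹, g⁆ := by
        rw [commutatorElement_def]; group
      rw [e]
      exact hcomm h1
    · have h1 : ⁅x⁻¹, g⁻¹⁆ ∈ ⁅Qs i.succ, N⁆ :=
        Subgroup.commutator_mem_commutator (Subgroup.inv_mem _ hx) (Subgroup.inv_mem _ hgQN.1)
      have e : x⁻¹ * (g⁻¹ * x * g) = ⁅x⁻¹, g⁻¹⁆ := by
        rw [commutatorElement_def]; group
      rw [e]
      exact hcomm h1
  · rw [Subgroup.mem_subgroupOf, hbg]
    refine conjAut_mem_linkStab hg hg (fun x hx => ?_) (fun x hx => ?_)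
    · have h1 : x⁻¹ * g * x⁻¹⁻¹ ∈ N :=
        (Subgroup.mem_normalizer_iff.mp (hNn (S.inv_mem (hPS hx))) g).mp hgQN.1
      have e : x⁻¹ * (g * x * g⁻¹) = (x⁻¹ * g * x⁻¹⁻¹) * g⁻¹ := by group
      rw [e]
      exact N.mul_mem h1 (N.inv_mem hgQN.1)
    · have h1 : x⁻¹ * g⁻¹ * x⁻¹⁻¹ ∈ N :=
        (Subgroup.mem_normalizer_iff.mp (hNn (S.inv_mem (hPS hx))) g⁻¹).mp (N.inv_mem hgQN.1)
      have e : x⁻¹ * (g⁻¹ * x * g) = (x⁻¹ * g⁻¹ * x⁻¹⁻¹) * g := by group
      rw [e]
      exact N.mul_mem h1 hgQN.1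

end Cfsg.Agent.Lib.Helper27.ResSer
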