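import Cfsg.Agent.Lib.Helper27.ResSer3
import Cfsg.Agent.Lib.Helper27.ConstrainedSub
import Cfsg.Agent.Lib.Helper27.CentralQuot
import Cfsg.Agent.Lib.Helper26.PPowerIndex

set_option autoImplicit false

/-! The property "constrained with `p`-solvable `Aut_F(O_p(F))`" and its inheritance by
saturated subsystems over strongly closed subgroups. -/

namespace Cfsg.Agent.Lib.Helper27.ResSer

open Cfsg Cfsg.FusionSystem Cfsg.Agent.Lib.Helper26 Cfsg.Agent.Lib.Helper27
open scoped commutatorElement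

universe u

variable {Ω : Type u} [Group Ω] {S : Subgroup Ω}

/-- constrained, with `p`-solvable automizer of the largest normal subgroup -/
def PiProp (F : FusionSystem S) (p : ℕ) : Prop :=
  F.IsConstrained p ∧ IsPSolvable p ↥(F.autGroup F.core)

theorem finite_autGroup [Finite S] (F : FusionSystem S) {R : Subgroup Ω} (hRS : R ≤ S) :
    Finite ↥(F.autGroup R) := by
  have hfinR : Finite R := finite_of_le hRS
  have hfinA : Finite (MulAut R) := inferInstance
  infer_instance

/-- if `Q` is normal in `F` with `C_S(Q) ≤ Q` and `Aut_F(Q)` is `p`-solvable, so is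
`Aut_F(O_p(F))` -/
theorem psolv_core_of_normal [Finite S] {p : ℕ} [Fact p.Prime] (hS : IsPGroup p S)
    (F : FusionSystem S) {Q : Subgroup Ω} (hQ : F.IsNormal Q) (hc : centralizerIn S Q ≤ Q)
    (hsol : IsPSolvable p ↥(F.autGroup Q)) : IsPSolvable p ↥(F.autGroup F.core) := by
  have hR : F.IsNormal F.core := isNormal_core F
  have hQR : Q ≤ F.core := le_sSup hQ
  have hfinQ : Finite Q := finite_of_le hQ.1
  have hinv : AutInvariant (F.autGroup F.core) Q :=
    autInvariant_of_stronglyClosed F (stronglyClosed_of_isNormal F hQ) hR.1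
  have hfin := finite_autGroup F hR.1
  refine psolv_of_hom_ker (resHom F hQR hR.1 hinv) ?_ hsol
  refine ker_resHom_isPGroup hS F hQR hR.1 hinv (hR.1.trans (isNormal_le_normalizer hQ)) ?_
  rintro x ⟨hxR, hxC⟩
  exact hc ⟨hR.1 hxR, hxC⟩

/-- if `Aut_F(O_p(F))` is `p`-solvable then so is `Aut_F(Q)` for every `Q` normal in `F` -/
theorem psolv_of_core [Finite S] {p : ℕ} [Fact p.Prime] (hS : IsPGroup p S)
    (F : FusionSystem S) (hF : F.IsSaturated p) {Q : Subgroup Ω} (hQ : F.StronglyClosed Q)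
    (hQR : Q ≤ F.core)
    (hsol : IsPSolvable p ↥(F.autGroup F.core)) : IsPSolvable p ↥(F.autGroup Q) := by
  have hR : F.IsNormal F.core := isNormal_core F
  have hfinQ : Finite Q := finite_of_le hQ.1
  have hinv : AutInvariant (F.autGroup F.core) Q := autInvariant_of_stronglyClosed F hQ hR.1
  exact Helper5.h5_isPSolvable_of_surjective (resHom F hQR hR.1 hinv)
    (resHom_surjective hS F hF hQR hR hinv) hsol

/-- in a constrained system, `O_p(F) ∩ T` contains its centralizer in `T` for `T` strongly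
closed -/
theorem centralizerIn_core_inf_le [Finite S] {p : ℕ} [Fact p.Prime] (hS : IsPGroup p S)
    (F : FusionSystem S) (hF : F.IsConstrained p) {T : Subgroup Ω} (hT : F.StronglyClosed T) :
    centralizerIn T (F.core ⊓ T) ≤ F.core ⊓ T := by
  have hQ : F.IsNormal F.core := isNormal_core F
  rintro c ⟨hcT, hcV⟩
  have hcS : c ∈ S := hT.1 hcT
  have hcN : c ∈ Subgroup.normalizer ((F.core : Subgroup Ω) : Set Ω) :=
    isNormal_le_normalizer hQ hcS
  have hTn : S ≤ Subgroup.normalizer (T : Set Ω) := le_normalizer_of_stronglyClosed F hT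
  have hVinv : AutInvariant (F.autGroup F.core) (F.core ⊓ T) := by
    intro α hα x hx
    exact ⟨(α x).2, autInvariant_of_stronglyClosed F hT hQ.1 α hα x hx.2⟩
  have hcinvN : c⁻¹ ∈ Subgroup.normalizer ((F.core : Subgroup Ω) : Set Ω) :=
    Subgroup.inv_mem _ hcN
  refine ⟨?_, hcT⟩
  refine mem_core_of_chain hS F hF (inf_le_left.trans hQ.1) hVinv hcS hcV
    (fun x hx => ⟨?_, ?_⟩) (fun x hx => ⟨?_, ?_⟩)
  · exact Subgroup.mul_mem _ (Subgroup.inv_mem _ hx) ((Subgroup.mem_normalizer_iff.mp hcN x).mp hx)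
  · have h1 : x⁻¹ * c * x⁻¹⁻¹ ∈ T :=
      (Subgroup.mem_normalizer_iff.mp (hTn (S.inv_mem (hQ.1 hx))) c).mp hcT
    have e : x⁻¹ * (c * x * c⁻¹) = (x⁻¹ * c * x⁻¹⁻¹) * c⁻¹ := by group
    rw [e]
    exact T.mul_mem h1 (T.inv_mem hcT)
  · have h2 := (Subgroup.mem_normalizer_iff.mp hcinvN x).mp hx
    rw [inv_inv] at h2
    exact Subgroup.mul_mem _ (Subgroup.inv_mem _ hx) h2
  · have h1 : x⁻¹ * c⁻¹ * x⁻¹⁻¹ ∈ T :=
      (Subgroup.mem_normalizer_iff.mp (hTn (S.inv_mem (hQ.1 hx))) c⁻¹).mp (T.inv_mem hcT)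
    have e : x⁻¹ * (c⁻¹ * x * c) = (x⁻¹ * c⁻¹ * x⁻¹⁻¹) * c := by group
    rw [e]
    exact T.mul_mem h1 hcT

/-- the property passes to saturated subsystems over strongly closed subgroups -/
theorem piProp_of_subsystem [Finite S] {p : ℕ} [Fact p.Prime] (hS : IsPGroup p S)
    (F : FusionSystem S) (hF : PiProp F p) {T : Subgroup Ω} (E : FusionSystem T)
    (hE : E.IsSaturated p) (hEF : E.IsSubsystemOf F) (hT : F.StronglyClosed T) :
    PiProp E p := by
  obtain ⟨hcon, hsol⟩ := hF
  have hFs : F.IsSaturated p := hcon.1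
  have hTS : T ≤ S := hT.1
  have hfinT : Finite T := finite_of_le hTS
  have hTp : IsPGroup p T := hS.to_le hTS
  refine ⟨constrained_of_subsystem hS F hcon E hE hEF hT, ?_⟩
  have hQ : F.IsNormal F.core := isNormal_core F
  have hV : E.IsNormal (F.core ⊓ T) := isNormal_inf_of_subsystem hS F hQ E hE hEF hT
  have hVsc : F.StronglyClosed (F.core ⊓ T) := by
    refine ⟨inf_le_right.trans hTS, fun R hR φ hφ x => ⟨?_, ?_⟩⟩
    · exact (stronglyClosed_of_isNormal F hQ).2 R (hR.trans inf_le_left) φ hφ x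
    · exact hT.2 R (hR.trans inf_le_right) φ hφ x
  have h1 : IsPSolvable p ↥(F.autGroup (F.core ⊓ T)) :=
    psolv_of_core hS F hFs hVsc inf_le_left hsol
  have hle : E.autGroup (F.core ⊓ T) ≤ F.autGroup (F.core ⊓ T) :=
    autGroup_mono_of_subsystem hEF _
  have h2 : IsPSolvable p ↥(E.autGroup (F.core ⊓ T)) :=
    Helper5.isPSolvable_of_injective (Subgroup.inclusion hle) (Subgroup.inclusion_injective hle) h1
  exact psolv_core_of_normal hTp E hV (centralizerIn_core_inf_le hS F hcon hT) h2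

end Cfsg.Agent.Lib.Helper27.ResSer
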