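import Cfsg.Agent.Lib.Helper27.Tate3

set_option autoImplicit false

namespace Cfsg.Agent.Lib.Helper27.Tate

open Cfsg Cfsg.FusionSystem MulAction
open Cfsg.Agent.Lib.Helper26
open Cfsg.Agent.Lib.helper17.ParkGraph (graphOf IsFGraph mem_graphOf alpha1 alpha2 alpha1_apply
  alpha2_apply)
open Cfsg.Agent.Lib.helper17.CB11 Cfsg.Agent.Lib.helper17.CB12 Cfsg.Agent.Lib.helper17.CB14
open Cfsg.Agent.Lib.Helper26.PPI (HasFGraphStab exists_stab_graph)

universe u w

variable {Ω : Type u} [Group Ω] {S : Subgroup Ω}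

/-- the hyperfocal subgroup is strongly closed -/
theorem apply_mem_hyperfocal [Finite S] {p : ℕ} [Fact p.Prime] (hS : IsPGroup p S)
    (F : FusionSystem S) (hF : F.IsSaturated p) {P : Subgroup Ω} {φ : P →* Ω} (hφ : φ ∈ F.Hom P)
    (x : P) (hx : (x : Ω) ∈ F.hyperfocalSubgroup p) : φ x ∈ F.hyperfocalSubgroup p := by
  obtain ⟨s, hs, hsn⟩ := exists_uniform_conj hS F hF (F.hyperfocalSubgroup p)
    (le_normalizer_hyperfocal F p) le_rfl hφ
  have h1 : φ x = (s * (x : Ω) * s⁻¹) * ((s * (x : Ω) * s⁻¹)⁻¹ * φ x) := by group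
  rw [h1]
  exact (F.hyperfocalSubgroup p).mul_mem
    (conj_mem_of_le_normalizer (le_normalizer_hyperfocal F p) hs hx) (hsn x)

theorem hyperfocal_subgroupOf_normal (F : FusionSystem S) (p : ℕ) :
    ((F.hyperfocalSubgroup p).subgroupOf S).Normal := by
  refine ⟨fun n hn g => ?_⟩
  rw [Subgroup.mem_subgroupOf] at hn ⊢
  exact conj_mem_of_le_normalizer (le_normalizer_hyperfocal F p) g.2 hn

/-- auxiliary form of the extension theorem, with the subgroups as variables -/
theorem tate_extension_aux [Finite S] {p : ℕ} [Fact p.Prime] (hS : IsPGroup p S)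
    (F : FusionSystem S) (hF : F.IsSaturated p) {Z : Type w} [CommGroup Z]
    (hZ : ∀ z : Z, z ^ p = 1) (A : Subgroup Ω) (hA : A = F.hyperfocalSubgroup p)
    (N : Subgroup S) (hNdef : N = A.subgroupOf S)
    (lam : ↥N →* Z)
    (hlam : ∀ (s a : S) (ha : a ∈ N) (ha' : s * a * s⁻¹ ∈ N),
      lam ⟨s * a * s⁻¹, ha'⟩ = lam ⟨a, ha⟩) :
    ∃ θ : S →* Z, ∀ (a : S) (ha : a ∈ N), θ a = lam ⟨a, ha⟩ := by
  classical
  have hp : p.Prime := Fact.out
  have hnorm : S ≤ Subgroup.normalizer (A : Set Ω) := by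
    rw [hA]
    exact le_normalizer_hyperfocal F p
  have hAle : F.hyperfocalSubgroup p ≤ A := by rw [hA]
  haveI hNn : N.Normal := by
    rw [hNdef, hA]
    exact hyperfocal_subgroupOf_normal F p
  obtain ⟨X, hfin, hact, hXg, hst, m, hcard, hm⟩ := exists_char_biset hS F hF
  have hX : HasFGraphStab F X := hXg
  obtain ⟨r0, hr0⟩ := exists_retraction (X := X) (⊥ : Subgroup S) (by
    intro x c t hc hfix
    rw [Subgroup.mem_bot] at hc
    subst hc
    obtain ⟨R, θ, hθ, hstx⟩ := exists_stab_graph hX x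
    obtain ⟨h1, h2⟩ := (hstx _).mp hfix
    apply Subtype.ext
    rw [← h2]
    have h3 : (⟨(((1 : S), t) : S × S).1, h1⟩ : R) = 1 := Subtype.ext rfl
    rw [h3, map_one]
    rfl)
  have hr : ∀ (t : S) (x : X), r0 (((1 : S), t) • x) = r0 x * t⁻¹ := by
    intro t x
    rw [hr0 1 (Subgroup.one_mem _) t x, one_mul]
  haveI : Fintype (Ybar S X) := Fintype.ofFinite _
  have hcardY : Fintype.card (Ybar S X) = m := by
    have hcard2 := card_eq_of_retraction r0 hr
    rw [hcard, mul_comm] at hcard2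
    rw [← Nat.card_eq_fintype_card]
    exact (Nat.eq_of_mul_eq_mul_right Nat.card_pos hcard2).symm
  -- the equivariant map to the quotient
  obtain ⟨Dbar, hDbar⟩ := exists_biequivariant_quot N (X := X) (by
    intro x
    obtain ⟨R, θ, hθ, hstx⟩ := exists_stab_graph hX x
    obtain ⟨s, hs, hsn⟩ := exists_uniform_conj hS F hF A hnorm hAle hθ
    refine ⟨(⟨s, hs⟩ : S)⁻¹, ?_⟩
    intro u t hfix
    obtain ⟨h1, h2⟩ := (hstx (u, t)).mp hfix
    have h3 : ((⟨s, hs⟩ : S) * u * (⟨s, hs⟩ : S)⁻¹)⁻¹ * t ∈ N := by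
      rw [hNdef, Subgroup.mem_subgroupOf]
      have := hsn ⟨u, h1⟩
      rw [h2] at this
      exact this
    have h4 : ((t : S) : S ⧸ N) = (((⟨s, hs⟩ : S) * u * (⟨s, hs⟩ : S)⁻¹ : S) : S ⧸ N) :=
      (QuotientGroup.eq.mpr h3).symm
    rw [h4, QuotientGroup.mk_mul, QuotientGroup.mk_mul, QuotientGroup.mk_inv]
    group)
  obtain ⟨D, hDr, hDlift⟩ := exists_lift_rightEq N r0 hr Dbar hDbar
  have hD2 : ∀ (s : S) (x : X), eD D s x ∈ N := eD_mem_of_lift N hDbar hDlift
  have hci : ConjInv N lam := by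
    intro s n hn
    have hn' : s * n * s⁻¹ ∈ N := hNn.conj_mem n hn s
    rw [lamE_of_mem N lam hn', lamE_of_mem N lam hn]
    exact hlam s n hn hn'
  -- the correction term vanishes on `N`
  have hTT : ∀ a ∈ N, TT N lam D a = 1 := by
    let K : Subgroup S :=
      { carrier := {a | a ∈ N ∧ TT N lam D a = 1}
        mul_mem' := by
          rintro a b ⟨ha, ha1⟩ ⟨hb, hb1⟩
          refine ⟨N.mul_mem ha hb, ?_⟩
          rw [TT_mul N lam hci hDr hD2 ha hb, ha1, hb1, one_mul]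
        one_mem' := ⟨N.one_mem, TT_one N lam⟩
        inv_mem' := by
          rintro a ⟨ha, ha1⟩
          refine ⟨N.inv_mem ha, ?_⟩
          rw [TT_inv N lam hci hDr hD2 ha, ha1, inv_one] }
    have hgen : hypGen F p ⊆ ((K.map S.subtype : Subgroup Ω) : Set Ω) := by
      rintro _ ⟨P, α, x, hPS, hα, hxA, rfl⟩
      have hφ : P.subtype.comp α.toMonoidHom ∈ F.Hom P := (mem_autGroup_iff F hPS).mp hα
      have hφS : ∀ y : P, (P.subtype.comp α.toMonoidHom) y ∈ S := fun y => hPS (α y).2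
      have hαxA : ((α x : P) : Ω) ∈ A := by
        rw [hA]
        exact apply_mem_hyperfocal hS F hF hφ x hxA
      have hxA' : (x : Ω) ∈ A := by rw [hA]; exact hxA
      let a : S := ⟨x, hPS x.2⟩
      let a' : S := ⟨α x, hPS (α x).2⟩
      have haN : a ∈ N := by rw [hNdef]; exact Subgroup.mem_subgroupOf.mpr hxA'
      have ha'N : a' ∈ N := by rw [hNdef]; exact Subgroup.mem_subgroupOf.mpr hαxA
      obtain ⟨e, he⟩ := exists_twisted_equiv F hXg hst hPS _ hφ hφS
      have heG : (e : Equiv.Perm X) ∈ GX S X := by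
        intro t ω
        have h1 := he ((1 : P), t) ω
        have h2 : alpha1 hPS ((1 : P), t) = ((1 : S), t) := by
          rw [alpha1_apply]
          rfl
        have h3 : alpha2 (P.subtype.comp α.toMonoidHom) hφS ((1 : P), t) = ((1 : S), t) := by
          rw [alpha2_apply]
          apply Prod.ext
          · apply Subtype.ext
            show (P.subtype.comp α.toMonoidHom) 1 = ((1 : S) : Ω)
            rw [map_one]
            rfl
          · rfl
        rw [h2, h3] at h1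
        exact h1
      have hσ : ∀ ω : X, (⟨e, heG⟩ : GX S X).1 (lft a ω) = lft a' ((⟨e, heG⟩ : GX S X).1 ω) := by
        intro ω
        exact he (x, (1 : S)) ω
      have h5 : TT N lam D a' = TT N lam D a :=
        TT_twist N lam hci hDr ⟨e, heG⟩ a a' hσ (fun ω => fD_mem N hD2 haN ω)
          (fun ω => fD_mem N hD2 ha'N ω)
      refine ⟨a⁻¹ * a', ⟨N.mul_mem (N.inv_mem haN) ha'N, ?_⟩, rfl⟩
      rw [TT_mul N lam hci hDr hD2 (N.inv_mem haN) ha'N, TT_inv N lam hci hDr hD2 haN, h5,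
        inv_mul_cancel]
    have hAK : A ≤ K.map S.subtype := by
      rw [hA]
      exact (hyperfocal_le_closure_hypGen hS F).trans ((Subgroup.closure_le _).mpr hgen)
    intro a ha
    rw [hNdef] at ha
    obtain ⟨b, hb, hba⟩ := hAK (Subgroup.mem_subgroupOf.mp ha)
    have : b = a := Subtype.ext hba
    rw [← this]
    exact hb.2
  -- the extension
  have hcop : Nat.Coprime m p := ((Nat.Prime.coprime_iff_not_dvd hp).mpr hm).symm
  obtain ⟨k0, -, hk0⟩ := Nat.exists_mul_mod_eq_one_of_coprime hcop hp.one_lt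
  refine ⟨(powMonoidHom k0).comp (ThetaHom N lam hci hDr hD2)⁻¹, ?_⟩
  intro a ha
  show ((ThetaHom N lam hci hDr hD2)⁻¹ a) ^ k0 = lam ⟨a, ha⟩
  rw [MonoidHom.inv_apply]
  show (Theta N lam D a)⁻¹ ^ k0 = lam ⟨a, ha⟩
  rw [Theta_of_mem N lam hD2 ha, hTT a ha, mul_one, hcardY, lamE_of_mem N lam ha]
  have h1 : ((lam ⟨a, ha⟩)⁻¹ ^ m)⁻¹ = lam ⟨a, ha⟩ ^ m := by
    rw [inv_pow, inv_inv]
  rw [h1, ← pow_mul, pow_eq_pow_mod _ (hZ _), hk0, pow_one]

/-- **Extension of invariant homomorphisms from the hyperfocal subgroup.** Every homomorphism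
from the hyperfocal subgroup of a saturated fusion system over `S` to an abelian group of
exponent `p` that is invariant under conjugation by `S` extends to `S`. -/
theorem tate_extension [Finite S] {p : ℕ} [Fact p.Prime] (hS : IsPGroup p S)
    (F : FusionSystem S) (hF : F.IsSaturated p) {Z : Type w} [CommGroup Z]
    (hZ : ∀ z : Z, z ^ p = 1)
    (lam : ↥((F.hyperfocalSubgroup p).subgroupOf S) →* Z)
    (hlam : ∀ (s a : S) (ha : a ∈ (F.hyperfocalSubgroup p).subgroupOf S)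
      (ha' : s * a * s⁻¹ ∈ (F.hyperfocalSubgroup p).subgroupOf S),
      lam ⟨s * a * s⁻¹, ha'⟩ = lam ⟨a, ha⟩) :
    ∃ θ : S →* Z, ∀ (a : S) (ha : a ∈ (F.hyperfocalSubgroup p).subgroupOf S),
      θ a = lam ⟨a, ha⟩ :=
  tate_extension_aux hS F hF hZ _ rfl _ rfl lam hlam

end Cfsg.Agent.Lib.Helper27.Tate
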