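import Cfsg.Agent.Lib.Helper27.ResSer4
import Cfsg.Agent.Lib.Helper27.Tate4
import Cfsg.Agent.Lib.Helper26.PrimeNormP
import Cfsg.Agent.S5120

set_option autoImplicit false

/-! The property "constrained with `p`-solvable `Aut_F(O_p(F))`" passes up from the residual
subsystems. -/

namespace Cfsg.Agent.Lib.Helper27.ResSer

open Cfsg Cfsg.FusionSystem Cfsg.Agent.Lib.Helper26 Cfsg.Agent.Lib.Helper27
open scoped commutatorElement

universe u

variable {Ω : Type u} [Group Ω] {S : Subgroup Ω}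

theorem mem_sup_centralizerIn_iff {Q : Subgroup Ω}
    (hQn : S ≤ Subgroup.normalizer (Q : Set Ω)) (x : Ω) :
    x ∈ Q ⊔ centralizerIn S Q ↔ ∃ q ∈ Q, ∃ c ∈ centralizerIn S Q, x = q * c := by
  have hCn : centralizerIn S Q ≤ Subgroup.normalizer (Q : Set Ω) := inf_le_left.trans hQn
  rw [← SetLike.mem_coe, Subgroup.coe_mul_of_right_le_normalizer_left _ _ hCn, Set.mem_mul]
  constructor
  · rintro ⟨q, hq, c, hc, h⟩
    exact ⟨q, hq, c, hc, h.symm⟩
  · rintro ⟨q, hq, c, hc, h⟩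
    exact ⟨q, hq, c, hc, h.symm⟩

/-- for `Q` normal in `F`, the subgroup `Q C_S(Q)` is strongly closed -/
theorem stronglyClosed_sup_centralizerIn (F : FusionSystem S) {Q : Subgroup Ω}
    (hQ : F.IsNormal Q) : F.StronglyClosed (Q ⊔ centralizerIn S Q) := by
  have hQn : S ≤ Subgroup.normalizer (Q : Set Ω) := isNormal_le_normalizer hQ
  refine ⟨sup_le hQ.1 inf_le_left, fun R hR φ hφ x => ?_⟩
  obtain ⟨ψ, hψ, hψφ, hψQ⟩ := hQ.2 R φ hφ
  obtain ⟨q, hq, c, hc, hx⟩ := (mem_sup_centralizerIn_iff hQn _).mp (hR x.2)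
  have hqL : q ∈ R ⊔ Q := (le_sup_right : Q ≤ R ⊔ Q) hq
  have hcL : c ∈ R ⊔ Q := by
    have e : c = q⁻¹ * (x : Ω) := by rw [hx]; group
    rw [e]
    exact Subgroup.mul_mem _ (Subgroup.inv_mem _ hqL) ((le_sup_left : R ≤ R ⊔ Q) x.2)
  have hψx : φ x = ψ ⟨q, hqL⟩ * ψ ⟨c, hcL⟩ := by
    rw [← hψφ x, ← map_mul]
    congr 1
    exact Subtype.ext hx
  have hψq : ψ ⟨q, hqL⟩ ∈ Q :=
    hψQ.le ⟨⟨q, hqL⟩, Subgroup.mem_subgroupOf.mpr hq, rfl⟩
  have hψc : ψ ⟨c, hcL⟩ ∈ centralizerIn S Q := by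
    refine ⟨apply_mem F hψ _, ?_⟩
    show ψ ⟨c, hcL⟩ ∈ Subgroup.centralizer (Q : Set Ω)
    rw [Subgroup.mem_centralizer_iff]
    intro y hy
    obtain ⟨y', hy', hyy⟩ := hψQ.ge hy
    rw [← hyy]
    have hy'Q : (y' : Ω) ∈ Q := Subgroup.mem_subgroupOf.mp hy'
    have hcomm : y' * (⟨c, hcL⟩ : ↥(R ⊔ Q)) = ⟨c, hcL⟩ * y' := by
      apply Subtype.ext
      exact (Subgroup.mem_centralizer_iff.mp hc.2) _ hy'Q
    rw [← map_mul, ← map_mul, hcomm]
  rw [hψx]
  exact (mem_sup_centralizerIn_iff hQn _).mpr ⟨_, hψq, _, hψc, rfl⟩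

theorem commutator_sup_centralizerIn_le {Q U V : Subgroup Ω}
    (hQn : S ≤ Subgroup.normalizer (Q : Set Ω)) (hUQ : U ≤ Q) (h : ⁅Q, U⁆ ≤ V) :
    ⁅Q ⊔ centralizerIn S Q, U⁆ ≤ V := by
  rw [Subgroup.commutator_le]
  intro g hg u hu
  obtain ⟨q, hq, c, hc, rfl⟩ := (mem_sup_centralizerIn_iff hQn _).mp hg
  have hcu : c * u = u * c := ((Subgroup.mem_centralizer_iff.mp hc.2) u (hUQ hu)).symm
  have e : ⁅q * c, u⁆ = ⁅q, u⁆ := by
    rw [commutatorElement_def, commutatorElement_def]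
    have e1 : q * c * u * (q * c)⁻¹ * u⁻¹ = q * (c * u) * c⁻¹ * q⁻¹ * u⁻¹ := by group
    rw [e1, hcu]
    group
  rw [e]
  exact h (Subgroup.commutator_mem_commutator hq hu)

/-- if the `p`-residual subsystem has the property, so does the system -/
theorem piProp_of_pResidual [Finite S] {p : ℕ} [Fact p.Prime] (hS : IsPGroup p S)
    (E : FusionSystem S) (hE : E.IsSaturated p) (D : FusionSystem (E.hyperfocalSubgroup p))
    (hD : E.IsPResidual p D) (hPi : PiProp D p) : PiProp E p := by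
  obtain ⟨hDs, hDi⟩ := hD
  have hTS : E.hyperfocalSubgroup p ≤ S := hyperfocal_le E p
  have hfinT : Finite ↥(E.hyperfocalSubgroup p) := finite_of_le hTS
  have hTp : IsPGroup p ↥(E.hyperfocalSubgroup p) := hS.to_le hTS
  have hTn : ((E.hyperfocalSubgroup p).subgroupOf S).Normal := Cfsg.Agent.Lib.Helper27.Tate.hyperfocal_subgroupOf_normal E p
  have hDn : D.IsNormalIn E p :=
    Cfsg.Agent.S5120.result p hS E hE _ hTS hTn le_rfl D hDs hDi
  have hinv : D.IsInvariantIn E := hDn.1.2.2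
  have hTsc : E.StronglyClosed (E.hyperfocalSubgroup p) := hinv.2.1
  obtain ⟨hconD, hsolD⟩ := hPi
  obtain ⟨hQD, hQcD⟩ := core_isNormal_isCentric_of_constrained D hconD
  have hQE : E.IsNormal D.core := isNormal_core_of_invariant hS E hE D hDs hinv
  have hQT : D.core ≤ E.hyperfocalSubgroup p := hQD.1
  have hQS : D.core ≤ S := hQE.1
  have hfinQ : Finite D.core := finite_of_le hQS
  have hQn : S ≤ Subgroup.normalizer ((D.core : Subgroup Ω) : Set Ω) := isNormal_le_normalizer hQE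
  have hcT : centralizerIn (E.hyperfocalSubgroup p) D.core ≤ D.core :=
    hQcD.2 _ (isConj_refl D hQT)
  have hNsc : E.StronglyClosed (D.core ⊔ centralizerIn S D.core) :=
    stronglyClosed_sup_centralizerIn E hQE
  have hhyp : E.hyperfocalSubgroup p ⊓ (D.core ⊔ centralizerIn S D.core) ≤ D.core := by
    rintro x ⟨hxT, hxN⟩
    obtain ⟨q, hq, c, hc, rfl⟩ := (mem_sup_centralizerIn_iff hQn _).mp hxN
    have hcT' : c ∈ E.hyperfocalSubgroup p := by
      have e : c = q⁻¹ * (q * c) := by group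
      rw [e]
      exact Subgroup.mul_mem _ (Subgroup.inv_mem _ (hQT hq)) hxT
    exact Subgroup.mul_mem _ hq (hcT ⟨hcT', hc.2⟩)
  obtain ⟨n, hn⟩ := exists_ucs_eq hS hQS
  have hN : E.IsNormal (D.core ⊔ centralizerIn S D.core) := by
    refine isNormal_of_chain_hyp hS E hE _ D.core hNsc n (fun i => ucs D.core i) (ucs_zero _) hn
      ?_ hhyp
    intro i
    refine ⟨stronglyClosed_ucs_of_isNormal E hQE _, ?_⟩
    show ⁅D.core ⊔ centralizerIn S D.core, ucs D.core ((i : ℕ) + 1)⁆ ≤ ucs D.core (i : ℕ)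
    exact commutator_sup_centralizerIn_le hQn (ucs_le _ _) (commutator_ucs_le D.core i)
  have hNc : E.IsCentric (D.core ⊔ centralizerIn S D.core) := by
    refine ⟨hN.1, fun Q' hQ' => ?_⟩
    rw [isConj_eq_of_isNormal E hN hQ']
    rintro x ⟨hxS, hxC⟩
    refine (le_sup_right : centralizerIn S D.core ≤ _) ⟨hxS, ?_⟩
    have hxC' : x ∈ Subgroup.centralizer
        ((D.core ⊔ centralizerIn S D.core : Subgroup Ω) : Set Ω) := hxC
    show x ∈ Subgroup.centralizer ((D.core : Subgroup Ω) : Set Ω)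
    rw [Subgroup.mem_centralizer_iff] at hxC' ⊢
    intro y hy
    exact hxC' y ((le_sup_left : D.core ≤ D.core ⊔ centralizerIn S D.core) hy)
  have hconE : E.IsConstrained p := ⟨hE, _, hN, hNc⟩
  refine ⟨hconE, ?_⟩
  -- `p`-solvability
  have hR : E.IsNormal E.core := isNormal_core E
  have hQR : D.core ≤ E.core := le_sSup hQE
  have hinvQ : AutInvariant (E.autGroup E.core) D.core :=
    autInvariant_of_stronglyClosed E (stronglyClosed_of_isNormal E hQE) hR.1
  have hfinA := finite_autGroup E hR.1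
  have hfinAQ := finite_autGroup E hQS
  have hRT : E.core ⊓ E.hyperfocalSubgroup p ≤ D.core :=
    le_sSup (isNormal_inf_of_subsystem hS E hR D hDs hDi.1 hTsc)
  have hker : IsPGroup p (resHom E hQR hR.1 hinvQ).ker := by
    refine ker_resHom_isPGroup_of_coprime hS E hQR hR.1 hinvQ (fun a hcop _ x => ?_)
    have hres : a ∈ pResidual p (E.autGroup E.core) := Helper1.mem_pResidual_of_coprime hcop
    refine hRT ⟨?_, gen_mem_hyperfocal E p hR.1 a hres x⟩
    exact Subgroup.mul_mem _ (Subgroup.inv_mem _ x.2) ((a : MulAut E.core) x).2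
  have hle : D.autGroup D.core ≤ E.autGroup D.core := autGroup_mono_of_subsystem hDi.1 _
  have hsolQ : IsPSolvable p ↥(E.autGroup D.core) := by
    refine psolv_of_pResidual_le ((D.autGroup D.core).subgroupOf (E.autGroup D.core)) ?_ ?_
    · intro k hk
      rw [Subgroup.mem_subgroupOf]
      exact hDi.2.2 D.core hQT ⟨k, hk, rfl⟩
    · exact Helper5.isPSolvable_of_injective
        (Subgroup.subgroupOfEquivOfLe hle).toMonoidHom (Subgroup.subgroupOfEquivOfLe hle).injective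
        hsolD
  exact psolv_of_hom_ker (resHom E hQR hR.1 hinvQ) hker hsolQ

/-- if the `p'`-residual subsystem has the property, so does the system -/
theorem piProp_of_pPrimeResidual [Finite S] {p : ℕ} [Fact p.Prime] (hS : IsPGroup p S)
    (F : FusionSystem S) (hF : F.IsSaturated p) (E : FusionSystem S)
    (hE : F.IsPPrimeResidual p E) (hPi : PiProp E p) : PiProp F p := by
  have hEs : E.IsSaturated p := hE.1
  have hwn : F.IsWeaklyNormalIn F p := ⟨hF, hF, isInvariantIn_self hS F hF⟩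
  have hEn : E.IsNormalIn F p := residual_isNormalIn hS F hF F hwn E hE
  have hinv : E.IsInvariantIn F := hEn.1.2.2
  obtain ⟨hconE, hsolE⟩ := hPi
  obtain ⟨hQE, hQcE⟩ := core_isNormal_isCentric_of_constrained E hconE
  have hQF : F.IsNormal E.core := isNormal_core_of_invariant hS F hF E hEs hinv
  have hQS : E.core ≤ S := hQF.1
  have hc : centralizerIn S E.core ≤ E.core := hQcE.2 _ (isConj_refl E hQS)
  have hconF : F.IsConstrained p := by
    refine ⟨hF, E.core, hQF, hQS, fun Q' hQ' => ?_⟩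
    rw [isConj_eq_of_isNormal F hQF hQ']
    exact hc
  refine ⟨hconF, psolv_core_of_normal hS F hQF hc ?_⟩
  have hfinAQ := finite_autGroup F hQS
  have hle : E.autGroup E.core ≤ F.autGroup E.core := autGroup_mono_of_subsystem hE.2.1.1 _
  refine psolv_of_ppClosure_le ((E.autGroup E.core).subgroupOf (F.autGroup E.core)) ?_ ?_
  · intro k hk
    rw [Subgroup.mem_subgroupOf]
    exact hE.2.1.2 E.core hQS ⟨k, hk, rfl⟩
  · exact Helper5.isPSolvable_of_injective
      (Subgroup.subgroupOfEquivOfLe hle).toMonoidHom (Subgroup.subgroupOfEquivOfLe hle).injective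
      hsolE

end Cfsg.Agent.Lib.Helper27.ResSer
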