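import Cfsg.Agent.Lib.Helper27.ResSer5
import Cfsg.Agent.Lib.Helper27.RealizeNormal
import Cfsg.Agent.Lib.Helper27.ModelMain
import Cfsg.Agent.Lib.helper17.NS1

set_option autoImplicit false

/-! Models of systems that are constrained with `p`-solvable `Aut_F(O_p(F))`; a system of this
kind that equals its own `p'`-residual and whose hyperfocal subgroup is everything is trivial. -/

namespace Cfsg.Agent.Lib.Helper27.ResSer

open Cfsg Cfsg.FusionSystem Cfsg.Agent.Lib.Helper26 Cfsg.Agent.Lib.Helper27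
open scoped commutatorElement

universe u

variable {Ω : Type u} [Group Ω] {S : Subgroup Ω} {G : Type*} [Group G]

/-- if `g` induces `β` on `P` (through `ι`) and `q` is prime to the order of `β`, a power of
`g ^ q` induces `β` -/
theorem exists_pow_inducing {ι : S →* G} {P : Subgroup Ω} (hPS : P ≤ S) {β : MulAut P} {g : G}
    (hg : ∀ x : P, ι ⟨β x, hPS (β x).2⟩ = g * ι ⟨x, hPS x.2⟩ * g⁻¹) (q : ℕ)
    (hq : Nat.Coprime q (orderOf β)) :
    ∃ m : ℕ, ∀ x : P, ι ⟨β x, hPS (β x).2⟩ = (g ^ q) ^ m * ι ⟨x, hPS x.2⟩ * ((g ^ q) ^ m)⁻¹ := by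
  have hpow : ∀ (n : ℕ) (x : P),
      ι ⟨(β ^ n) x, hPS ((β ^ n) x).2⟩ = g ^ n * ι ⟨x, hPS x.2⟩ * (g ^ n)⁻¹ := by
    intro n
    induction n with
    | zero => intro x; simp
    | succ n ih =>
      intro x
      have e : (β ^ (n + 1)) x = β ((β ^ n) x) := by rw [pow_succ', MulAut.mul_apply]
      have e' : (⟨((β ^ (n + 1)) x : Ω), hPS ((β ^ (n + 1)) x).2⟩ : S) =
          ⟨(β ((β ^ n) x) : Ω), hPS (β ((β ^ n) x)).2⟩ := Subtype.ext (by rw [e])
      rw [e', hg, ih, pow_succ']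
      group
  obtain ⟨m, hm⟩ := exists_pow_eq_self_of_coprime hq
  refine ⟨m, fun x => ?_⟩
  have h5 := hpow (q * m) x
  have e : (β ^ (q * m)) x = β x := by rw [pow_mul, hm]
  have e' : (⟨((β ^ (q * m)) x : Ω), hPS ((β ^ (q * m)) x).2⟩ : S) =
      ⟨(β x : Ω), hPS (β x).2⟩ := Subtype.ext (by rw [e])
  rw [e', pow_mul] at h5
  exact h5

/-- an automorphism of order prime to `p` induced by `G` is induced by a `p'`-element -/
theorem exists_coprime_inducing' [Finite G] {p : ℕ} [Fact p.Prime] {ι : S →* G} {P : Subgroup Ω}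
    (hPS : P ≤ S) {β : MulAut P} (hβ : Nat.Coprime (orderOf β) p) {g : G}
    (hg : ∀ x : P, ι ⟨β x, hPS (β x).2⟩ = g * ι ⟨x, hPS x.2⟩ * g⁻¹) :
    ∃ h : G, Nat.Coprime (orderOf h) p ∧
      ∀ x : P, ι ⟨β x, hPS (β x).2⟩ = h * ι ⟨x, hPS x.2⟩ * h⁻¹ := by
  have hp : p.Prime := Fact.out
  obtain ⟨m, hm⟩ := exists_pow_inducing hPS hg (p ^ (Nat.card G).factorization p)
    (Nat.Coprime.pow_left _ hβ.symm)
  refine ⟨(g ^ (p ^ (Nat.card G).factorization p)) ^ m, ?_, hm⟩
  have h1 : (g ^ (p ^ (Nat.card G).factorization p)) ^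
      (Nat.card G / (p ^ (Nat.card G).factorization p)) = 1 := by
    rw [← pow_mul, Nat.mul_div_cancel' (Nat.ordProj_dvd _ _), pow_card_eq_one']
  have h2 := orderOf_dvd_of_pow_eq_one h1
  have h3 : Nat.Coprime (Nat.card G / (p ^ (Nat.card G).factorization p)) p :=
    (Nat.coprime_ordCompl hp Nat.card_pos.ne').symm
  have h4 : orderOf ((g ^ (p ^ (Nat.card G).factorization p)) ^ m) ∣
      orderOf (g ^ (p ^ (Nat.card G).factorization p)) := orderOf_pow_dvd m
  exact Nat.Coprime.coprime_dvd_left (h4.trans h2) h3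

/-- an automorphism of `p`-power order induced by `G` is induced by a `p`-element -/
theorem exists_ppow_inducing [Finite G] {p : ℕ} [Fact p.Prime] {ι : S →* G} {P : Subgroup Ω}
    (hPS : P ≤ S) {β : MulAut P} {k : ℕ} (hβ : orderOf β = p ^ k) {g : G}
    (hg : ∀ x : P, ι ⟨β x, hPS (β x).2⟩ = g * ι ⟨x, hPS x.2⟩ * g⁻¹) :
    ∃ h : G, h ^ (p ^ (Nat.card G).factorization p) = 1 ∧
      ∀ x : P, ι ⟨β x, hPS (β x).2⟩ = h * ι ⟨x, hPS x.2⟩ * h⁻¹ := by
  have hp : p.Prime := Fact.out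
  have h3 : Nat.Coprime (Nat.card G / (p ^ (Nat.card G).factorization p)) p :=
    (Nat.coprime_ordCompl hp Nat.card_pos.ne').symm
  obtain ⟨m, hm⟩ := exists_pow_inducing hPS hg (Nat.card G / (p ^ (Nat.card G).factorization p))
    (by rw [hβ]; exact Nat.Coprime.pow_right _ h3)
  refine ⟨(g ^ (Nat.card G / (p ^ (Nat.card G).factorization p))) ^ m, ?_, hm⟩
  have e : Nat.card G / p ^ (Nat.card G).factorization p * (m * p ^ (Nat.card G).factorization p) =
      Nat.card G * m := by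
    rw [← mul_assoc, mul_right_comm, Nat.div_mul_cancel (Nat.ordProj_dvd _ _)]
  rw [← pow_mul, ← pow_mul, e, pow_mul, pow_card_eq_one', one_pow]

/-- the hyperfocal subgroup of a realized system is mapped into `O^p(G)` -/
theorem hyperfocal_le_preSub_pResidual [Finite G] {p : ℕ} [Fact p.Prime] {ι : S →* G}
    (F : FusionSystem S) (hR : F.IsRealizedBy ι) :
    F.hyperfocalSubgroup p ≤ preSub ι (pResidual p G) := by
  have hn : (pResidual p G).Normal := Helper1.pResidual_normal p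
  refine (Subgroup.closure_le _).mpr ?_
  rintro _ ⟨P, α, x, hPS, hα, rfl⟩
  have key : ∀ β : F.autGroup P, β ∈ pResidual p (F.autGroup P) →
      ∀ x : P, (ι ⟨x, hPS x.2⟩)⁻¹ * ι ⟨((β : MulAut P) x : P), hPS ((β : MulAut P) x).2⟩ ∈
        pResidual p G := by
    intro β hβ
    have hβ' : β ∈ Subgroup.closure {g : F.autGroup P | Nat.Coprime (orderOf g) p} := hβ
    refine Subgroup.closure_induction (p := fun (β : F.autGroup P) _ => ∀ x : P,
      (ι ⟨x, hPS x.2⟩)⁻¹ * ι ⟨((β : MulAut P) x : P), hPS ((β : MulAut P) x).2⟩ ∈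
        pResidual p G) ?_ ?_ ?_ ?_ hβ'
    · intro γ hγ x
      have hγ' : Nat.Coprime (orderOf (γ : MulAut P)) p := by
        rw [Subgroup.orderOf_coe]
        exact hγ
      obtain ⟨g, hg⟩ := exists_conj_of_mem_autGroup F hR hPS γ.2
      obtain ⟨h, hh, hhx⟩ := exists_coprime_inducing' hPS hγ' hg
      rw [hhx]
      have hhK : h ∈ pResidual p G := Helper1.mem_pResidual_of_coprime hh
      have e : (ι ⟨x, hPS x.2⟩)⁻¹ * (h * ι ⟨x, hPS x.2⟩ * h⁻¹) =
          ((ι ⟨x, hPS x.2⟩)⁻¹ * h * (ι ⟨x, hPS x.2⟩)⁻¹⁻¹) * h⁻¹ := by group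
      rw [e]
      exact Subgroup.mul_mem _ (hn.conj_mem h hhK _) (Subgroup.inv_mem _ hhK)
    · intro x
      simp
    · intro a b _ _ ha hb x
      have e : (ι ⟨x, hPS x.2⟩)⁻¹ *
          ι ⟨(((a * b : F.autGroup P) : MulAut P) x : P), hPS (((a * b : F.autGroup P) : MulAut P) x).2⟩ =
          ((ι ⟨x, hPS x.2⟩)⁻¹ * ι ⟨((b : MulAut P) x : P), hPS ((b : MulAut P) x).2⟩) *
          ((ι ⟨((b : MulAut P) x : P), hPS ((b : MulAut P) x).2⟩)⁻¹ *
            ι ⟨((a : MulAut P) ((b : MulAut P) x) : P), hPS ((a : MulAut P) ((b : MulAut P) x)).2⟩) := by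
        have e1 : (⟨(((a * b : F.autGroup P) : MulAut P) x : P),
            hPS (((a * b : F.autGroup P) : MulAut P) x).2⟩ : S) =
            ⟨((a : MulAut P) ((b : MulAut P) x) : P), hPS ((a : MulAut P) ((b : MulAut P) x)).2⟩ := by
          apply Subtype.ext
          rw [Subgroup.coe_mul, MulAut.mul_apply]
        rw [e1]
        group
      rw [e]
      exact Subgroup.mul_mem _ (hb x) (ha _)
    · intro a _ ha x
      have h1 := ha ((a : MulAut P)⁻¹ x)
      have e1 : (⟨((a : MulAut P) ((a : MulAut P)⁻¹ x) : P),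
          hPS ((a : MulAut P) ((a : MulAut P)⁻¹ x)).2⟩ : S) = ⟨x, hPS x.2⟩ := by
        apply Subtype.ext
        rw [MulAut.apply_inv_self]
      rw [e1] at h1
      have e : (ι ⟨x, hPS x.2⟩)⁻¹ *
          ι ⟨(((a⁻¹ : F.autGroup P) : MulAut P) x : P), hPS (((a⁻¹ : F.autGroup P) : MulAut P) x).2⟩ =
          ((ι ⟨((a : MulAut P)⁻¹ x : P), hPS ((a : MulAut P)⁻¹ x).2⟩)⁻¹ * ι ⟨x, hPS x.2⟩)⁻¹ := by
        have e2 : (⟨(((a⁻¹ : F.autGroup P) : MulAut P) x : P),
            hPS (((a⁻¹ : F.autGroup P) : MulAut P) x).2⟩ : S) =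
            ⟨((a : MulAut P)⁻¹ x : P), hPS ((a : MulAut P)⁻¹ x).2⟩ := by
          apply Subtype.ext
          rw [Subgroup.coe_inv]
        rw [e2]
        group
      rw [e]
      exact Subgroup.inv_mem _ h1
  have hmem : (x : Ω)⁻¹ * (((α : MulAut P) x : P) : Ω) ∈ S :=
    S.mul_mem (S.inv_mem (hPS x.2)) (hPS ((α : MulAut P) x).2)
  refine mem_preSub_iff.mpr ⟨hmem, ?_⟩
  have e : (⟨(x : Ω)⁻¹ * (((α : MulAut P) x : P) : Ω), hmem⟩ : S) =
      (⟨x, hPS x.2⟩ : S)⁻¹ * ⟨((α : MulAut P) x : P), hPS ((α : MulAut P) x).2⟩ := Subtype.ext rfl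
  rw [e, map_mul, map_inv]
  exact key α hα x

/-- an element of `p`-power order lies in every normal subgroup of index prime to `p` -/
theorem mem_of_pow_eq_one_of_coprime_index {p : ℕ} (M : Subgroup G) [M.Normal]
    (hM : M.index.Coprime p) {h : G} {a : ℕ} (hh : h ^ (p ^ a) = 1) : h ∈ M := by
  have h1 : orderOf h ∣ p ^ a := orderOf_dvd_of_pow_eq_one hh
  have h2 : Nat.Coprime M.index (orderOf h) :=
    Nat.Coprime.coprime_dvd_right h1 (Nat.Coprime.pow_right _ hM)
  obtain ⟨m, hm⟩ := exists_pow_eq_self_of_coprime h2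
  rw [← hm]
  exact Subgroup.pow_mem _ (Subgroup.pow_index_mem M h) m

/-- a model of a system with the property is `p`-solvable -/
theorem psolv_of_isModel [Finite S] {p : ℕ} [Fact p.Prime]
    (F : FusionSystem S) (hF : PiProp F p) {G : Type u} [Group G] (ι : S →* G)
    (hG : F.IsModel p G ι) : IsPSolvable p G := by
  have hfin : Finite G := hG.1
  obtain ⟨hQn, hQc⟩ := core_isNormal_isCentric_of_constrained F hF.1
  obtain ⟨a, hsurj, hker⟩ := Cfsg.Agent.Lib.helper17.NS1.exists_act F ι hG hQn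
  have hC := centralizer_imSub_le F hG.2.1 hG.2.2.1 hG.2.2.2 hQn hQc
  have hkp : IsPGroup p a.ker := by
    have h1 : a.ker ≤ imSub ι F.core := fun g hg => hC ((hker g).mp hg)
    have h2 : IsPGroup p (imSub ι F.core) := by
      obtain ⟨T, hT⟩ := hG.2.2.1
      exact T.isPGroup'.to_le (hT ▸ imSub_le_range ι F.core)
    exact h2.to_le h1
  exact psolv_of_hom_ker a hkp hF.2

/-- a system with a `p`-solvable model has the property -/
theorem piProp_of_isModel [Finite S] {p : ℕ} [Fact p.Prime]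
    (F : FusionSystem S) (hcon : F.IsConstrained p) {G : Type u} [Group G] (ι : S →* G)
    (hG : F.IsModel p G ι) (hsol : IsPSolvable p G) : PiProp F p := by
  obtain ⟨a, hsurj, -⟩ := Cfsg.Agent.Lib.helper17.NS1.exists_act F ι hG (isNormal_core F)
  exact ⟨hcon, Helper5.h5_isPSolvable_of_surjective a hsurj hsol⟩

end Cfsg.Agent.Lib.Helper27.ResSer
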