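import Cfsg.Agent.Lib.Helper27.ResSer6

set_option autoImplicit false

/-! A system that is constrained with `p`-solvable `Aut_F(O_p(F))`, equals its own `p'`-residual
and has hyperfocal subgroup `S` lives over the trivial group. -/

namespace Cfsg.Agent.Lib.Helper27.ResSer

open Cfsg Cfsg.FusionSystem Cfsg.Agent.Lib.Helper26 Cfsg.Agent.Lib.Helper27
open scoped commutatorElement

universe u

variable {Ω : Type u} [Group Ω] {S : Subgroup Ω}

theorem castSystem_saturated {T T' : Subgroup Ω} (h : T = T') (E : FusionSystem T) {p : ℕ}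
    (hE : E.IsSaturated p) : (castSystem h E).IsSaturated p := by
  subst h
  exact hE

theorem bot_of_full [Finite S] {p : ℕ} [Fact p.Prime] (hS : IsPGroup p S)
    (E : FusionSystem S) (hPi : PiProp E p) (hres : E.IsPPrimeResidual p E)
    (hhyp : E.hyperfocalSubgroup p = S) : S = ⊥ := by
  by_contra hne
  obtain ⟨G, _, ι, hG⟩ := Model.exists_model p hS E hPi.1
  have hfin : Finite G := hG.1
  have hreal := hG.2.1
  obtain ⟨TG, hTG⟩ := hG.2.2.1
  have hsol : IsPSolvable p G := psolv_of_isModel E hPi ι hG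
  obtain ⟨hQn, hQc⟩ := core_isNormal_isCentric_of_constrained E hPi.1
  have hC := centralizer_imSub_le E hreal hG.2.2.1 hG.2.2.2 hQn hQc
  have hGne : (⊥ : Subgroup G) ≠ ⊤ := by
    intro h
    apply hne
    rw [eq_bot_iff]
    intro x hx
    have h1 : ι ⟨x, hx⟩ ∈ (⊤ : Subgroup G) := Subgroup.mem_top _
    rw [← h, Subgroup.mem_bot] at h1
    have h2 : (⟨x, hx⟩ : S) = 1 := hreal.1 (h1.trans (map_one ι).symm)
    exact Subgroup.mem_bot.mpr (congrArg Subtype.val h2)
  obtain ⟨M, hMn, hMne, hidx⟩ := exists_normal_of_psolv hGne hsol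
  have hrange : ∀ x : S, ι x ∈ pResidual p G := by
    intro x
    have hx : (x : Ω) ∈ E.hyperfocalSubgroup p := by rw [hhyp]; exact x.2
    have h1 : (x : Ω) ∈ preSub ι (pResidual p G) := hyperfocal_le_preSub_pResidual E hreal hx
    obtain ⟨hx', h2⟩ := mem_preSub_iff.mp h1
    exact h2
  have hcop : M.index.Coprime p := by
    rcases hidx with ⟨m, hm⟩ | hc
    · have hq : IsPGroup p (G ⧸ M) := IsPGroup.of_card (by rw [← Subgroup.index_eq_card]; exact hm)
      have hle : pResidual p G ≤ M := Helper1.pResidual_le_of_isPGroup_quotient M hq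
      have hTM : (TG : Subgroup G) ≤ M := by
        rw [hTG]
        rintro _ ⟨x, rfl⟩
        exact hle (hrange x)
      have h1 := Subgroup.index_dvd_of_le hTM
      have h2 : ¬ p ∣ (TG : Subgroup G).index := TG.not_dvd_index
      exact ((Nat.Prime.coprime_iff_not_dvd Fact.out).mpr (fun h => h2 (h.trans h1))).symm
    · exact hc
  have hSM : ∀ x : S, ι x ∈ M := by
    intro x
    obtain ⟨k, hk⟩ := hS x
    exact mem_of_pow_eq_one_of_coprime_index M hcop (a := k) (by rw [← map_pow, hk, map_one])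
  have hpre : preSub ι M = S :=
    le_antisymm (preSub_le ι M) (fun x hx => mem_preSub_iff.mpr ⟨hx, hSM ⟨x, hx⟩⟩)
  have hEMhom : ∀ P, (castSystem hpre (pullFS ι hreal.1 M)).Hom P = (pullFS ι hreal.1 M).Hom P :=
    castSystem_Hom hpre _
  have hEMsat : (castSystem hpre (pullFS ι hreal.1 M)).IsSaturated p :=
    castSystem_saturated hpre _ (pullFS_saturated hreal.1 M TG hTG)
  have hEMsub : (castSystem hpre (pullFS ι hreal.1 M)).IsSubsystemOf E := by
    intro P φ hφ
    rw [hEMhom] at hφ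
    obtain ⟨hP, hφT, g, -, hg⟩ := (pullFS_mem_iff hreal.1 M).mp hφ
    have hPS := hP.trans (preSub_le ι M)
    exact (hreal.2 P hPS φ (fun x => preSub_le ι M (hφT x))).mpr ⟨g, fun x => hg x _ _⟩
  have hEMidx : (castSystem hpre (pullFS ι hreal.1 M)).HasPrimeToPIndexIn E p := by
    refine ⟨hEMsub, fun P hPS => ?_⟩
    rw [Subgroup.map_le_iff_le_comap, Subgroup.closure_le]
    rintro α ⟨k, hk⟩
    show (α : MulAut P) ∈ (castSystem hpre (pullFS ι hreal.1 M)).autGroup P
    rw [mem_autGroup_iff _ hPS, hEMhom]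
    have hk' : orderOf (α : MulAut P) = p ^ k := by
      rw [Subgroup.orderOf_coe]
      exact hk
    obtain ⟨g, hg⟩ := exists_conj_of_mem_autGroup E hreal hPS α.2
    obtain ⟨h, hh, hhx⟩ := exists_ppow_inducing hPS hk' hg
    have hhM : h ∈ M := mem_of_pow_eq_one_of_coprime_index M hcop hh
    refine (pullFS_mem_iff hreal.1 M).mpr ⟨hPS.trans hpre.ge, fun x => ?_, h, hhM, fun x hx hφ => ?_⟩
    · exact hpre.ge (hPS ((α : MulAut P) x).2)
    · exact hhx x
  have hle := hres.2.2 _ hEMsat hEMidx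
  apply hMne
  rw [eq_top_iff]
  intro g _
  have hn : (imSub ι E.core).Normal := imSub_normal_of_isNormal E hreal hG.2.2.1 hG.2.2.2 hQn
  have hgN : g ∈ Subgroup.normalizer ((imSub ι E.core : Subgroup G) : Set G) := by
    rw [Subgroup.normalizer_eq_top]
    exact Subgroup.mem_top g
  obtain ⟨α, hα, hαg⟩ := exists_aut_of_normalizer E hreal hQn.1 hgN
  have h1 : E.core.subtype.comp α.toMonoidHom ∈ E.Hom E.core := (mem_autGroup_iff E hQn.1).mp hα
  have h2 := hle _ h1
  rw [hEMhom] at h2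
  obtain ⟨-, -, m, hmM, hm⟩ := (pullFS_mem_iff hreal.1 M).mp h2
  have hcen : m⁻¹ * g ∈ Subgroup.centralizer ((imSub ι E.core : Subgroup G) : Set G) := by
    rw [Subgroup.mem_centralizer_iff]
    intro y hy
    obtain ⟨x, hxS, hxQ, rfl⟩ := mem_imSub_iff.mp hy
    have e1 := hαg ⟨x, hxQ⟩
    have e2 := hm ⟨x, hxQ⟩ hxS (hQn.1 (α ⟨x, hxQ⟩).2)
    have e3 : g * ι ⟨x, hxS⟩ * g⁻¹ = m * ι ⟨x, hxS⟩ * m⁻¹ := e1.symm.trans e2
    calc ι ⟨x, hxS⟩ * (m⁻¹ * g) = m⁻¹ * (m * ι ⟨x, hxS⟩ * m⁻¹) * g := by group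
      _ = m⁻¹ * (g * ι ⟨x, hxS⟩ * g⁻¹) * g := by rw [e3]
      _ = m⁻¹ * g * ι ⟨x, hxS⟩ := by group
  have h3 : m⁻¹ * g ∈ M := by
    obtain ⟨s, hs⟩ := imSub_le_range ι E.core (hC hcen)
    rw [← hs]
    exact hSM s
  have e : g = m * (m⁻¹ * g) := by group
  rw [e]
  exact M.mul_mem hmM h3

end Cfsg.Agent.Lib.Helper27.ResSer
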