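import Mathlib
import Cfsg.Prelude.Def_Classical
import Cfsg.Agent.S2289
import Cfsg.Agent.Lib.Helper13.PSUEND
import Cfsg.Agent.Lib.Helper12.PSU3S.U33
import Cfsg.Agent.Lib.Helper12.PSU3S.U35

/-!
# S2291 (`PSU_n(q)`, `n ≥ 3`, `(n, q) ≠ (3, 2)`: two generators, at most 80 relators): the assembly, from the block theorems as hypotheses

* `n = 3`: `q = 3, 5`: helper12's certificates; other `q`: the landed S2289 and helper13's `psu_s2291_of_psu`.
* `n = 4`: `hSU4` (project SU4, helper22: `su4_main`).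
* `n = 2m ≥ 6`: `hE` (project GLE, helper20: `glue_even`).
* `n = 2m + 1 ≥ 5`: `hO` (projects SU5 / GLO, helper19).
-/

set_option autoImplicit false

namespace Cfsg.Agent.Lib.Helper27.STU

theorem s2291_core {F : Type*} [Field F] [Fintype F] (q n : ℕ) (hF : Fintype.card F = q ^ 2) (hn : 3 ≤ n)
    (h32 : ¬ (n = 3 ∧ q = 2))
    (hSU4 : ∃ rels : Finset (FreeGroup (Fin 6)), rels.card ≤ 35 ∧
      Nonempty (PresentedGroup (↑rels : Set (FreeGroup (Fin 6))) ≃* ↥(Cfsg.SU 4 F q)))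
    (hE : ∀ m : ℕ, 3 ≤ m → ∃ (k : ℕ) (R : Finset (FreeGroup (Fin k))), R.card ≤ 77 ∧
      Nonempty (PresentedGroup (↑R : Set (FreeGroup (Fin k))) ≃* ↥(Cfsg.SU (2 * m) F q)))
    (hO : ∀ m : ℕ, 2 ≤ m → ∃ (k : ℕ) (R : Finset (FreeGroup (Fin k))), R.card ≤ 77 ∧
      Nonempty (PresentedGroup (↑R : Set (FreeGroup (Fin k))) ≃* ↥(Cfsg.SU (2 * m + 1) F q))) :
    ∃ rels : Finset (FreeGroup (Fin 2)), rels.card ≤ 80 ∧
      Nonempty (PresentedGroup (↑rels : Set (FreeGroup (Fin 2))) ≃* Cfsg.PSU n F q) := by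
  rcases Nat.lt_or_ge n 4 with h3 | h4
  · -- n = 3
    have hn3 : n = 3 := by omega
    subst hn3
    have hq2 : q ≠ 2 := fun h => h32 ⟨rfl, h⟩
    by_cases hq3 : q = 3
    · subst hq3
      exact Cfsg.Agent.Lib.Helper12.PSU3S.U33.main hF
    by_cases hq5 : q = 5
    · subst hq5
      exact Cfsg.Agent.Lib.Helper12.PSU3S.U35.main hF
    obtain ⟨-, rels, hc, he⟩ := Cfsg.Agent.S2289.result q hF hq2 hq3 hq5
    exact Cfsg.Agent.Lib.Helper13.PSUEND.psu_s2291_of_psu q 3 hF hn h32 ⟨3, rels, by omega, he⟩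
  · apply Cfsg.Agent.Lib.Helper13.PSUEND.psu_s2291 q n hF hn h32
    rcases Nat.lt_or_ge n 5 with h5 | h5
    · have hn4 : n = 4 := by omega
      subst hn4
      obtain ⟨rels, hc, he⟩ := hSU4
      exact ⟨6, rels, by omega, he⟩
    · rcases Nat.even_or_odd' n with ⟨m, hm | hm⟩
      · subst hm
        exact hE m (by omega)
      · subst hm
        exact hO m (by omega)

end Cfsg.Agent.Lib.Helper27.STU
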