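import Mathlib
import Cfsg.Agent.Lib.Helper9.GLOP13
import Cfsg.Agent.Lib.Helper27.SU5X2
import Cfsg.Agent.Lib.Helper27.SU5X1

/-!
# S2291, the odd case `n = 2m + 1 ≥ 5` (helper27): `SU_{2m+1}(q)` has a presentation with at most 77 relators.
`m = 2`: helper19's project SU5 (`su5_mainU`, 6 generators, at most 54 relators); `m ≥ 3`: helper20's block GLO-II
(`glue_odd_of_gens` with the three generators `b1_gensU` of the `SU₃(q)` on the index `1`): `6 + 54 + (6 + 3 * 3) = 75`.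
-/

set_option autoImplicit false

namespace Cfsg.Agent.Lib.Helper27.STU

universe u

theorem su_odd_27 {F : Type u} [Field F] [Fintype F] {q : ℕ} (hF : Fintype.card F = q ^ 2) (m : ℕ) (hm : 2 ≤ m) :
    ∃ (k : ℕ) (R : Finset (FreeGroup (Fin k))), R.card ≤ 77 ∧
      Nonempty (PresentedGroup (↑R : Set (FreeGroup (Fin k))) ≃* ↥(Cfsg.SU (2 * m + 1) F q)) := by
  obtain ⟨rels, hc, ⟨e⟩⟩ := Cfsg.Agent.Lib.Helper19.SU5.su5_mainU hF
  rcases Nat.lt_or_ge m 3 with h | h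
  · have hm2 : m = 2 := by omega
    subst hm2
    exact ⟨6, rels, by omega, ⟨e⟩⟩
  · obtain ⟨k, R, hR, he⟩ := Cfsg.Agent.Lib.Helper20.GLO.glue_odd_of_gens hF m h rels e 3
      (Cfsg.Agent.Lib.Helper19.SU5.b1_gensU hF)
    exact ⟨k, R, by omega, he⟩

end Cfsg.Agent.Lib.Helper27.STU
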