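import Mathlib
import Cfsg.Agent.Lib.helper2.S91Defs
import Cfsg.Agent.Lib.helper23.SylowQuot

set_option autoImplicit false

/-! Duplicate of a piece of helper2's project S91 (the assigned copy is helper3's); kept in a private
namespace so that both files can be imported together without name clashes. -/

namespace Cfsg.Agent.Lib.Helper27.S91dup
open Subgroup Cfsg.Agent.Lib.helper2.S91

universe u

/-- `p`-elements of a subgroup, counted inside the subgroup or inside the ambient group. -/
theorem h27_uIn_subgroup {G : Type*} [Group G] (p : ℕ) (H : Subgroup G) :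
    uIn p (H : Set G) = Nat.card {g : ↥H // ∃ k : ℕ, orderOf g = p ^ k} := by
  unfold uIn
  apply Nat.card_congr
  refine
    { toFun := fun g => ⟨⟨g.1, g.2.1⟩, ?_⟩
      invFun := fun g => ⟨g.1.1, g.1.2, ?_⟩
      left_inv := fun g => rfl
      right_inv := fun g => rfl }
  · obtain ⟨k, hk⟩ := g.2.2
    exact ⟨k, by rw [← hk, ← Subgroup.orderOf_coe]⟩
  · obtain ⟨k, hk⟩ := g.2
    exact ⟨k, by rw [← hk, Subgroup.orderOf_coe]⟩

theorem h27_normalizer_le_normalizer_inf {G : Type*} [Group G] (P L : Subgroup G) [L.Normal] :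
    normalizer (P : Set G) ≤ normalizer ((P ⊓ L : Subgroup G) : Set G) := by
  intro g hg
  rw [Subgroup.mem_normalizer_iff] at hg ⊢
  intro n
  rw [Subgroup.mem_inf, Subgroup.mem_inf, ← hg n]
  constructor
  · rintro ⟨h1, h2⟩
    exact ⟨h1, ‹L.Normal›.conj_mem n h2 g⟩
  · rintro ⟨h1, h2⟩
    refine ⟨h1, ?_⟩
    have := ‹L.Normal›.conj_mem _ h2 g⁻¹
    have e : g⁻¹ * (g * n * g⁻¹) * g⁻¹⁻¹ = n := by group
    rwa [e] at this

/-- S91-NORM -/
theorem norm_step {G : Type u} [Group G] [Finite G] (p : ℕ) [Fact p.Prime] (L : Subgroup G)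
    [L.Normal] (P : Sylow p G)
    (h : ∀ Q : Sylow p ↥(normalizer (((P : Subgroup G) ⊓ L : Subgroup G) : Set G)),
        Nat.card ↥(Q : Subgroup ↥(normalizer (((P : Subgroup G) ⊓ L : Subgroup G) : Set G))) ^ p *
        Nat.card (Sylow p ↥(normalizer (((P : Subgroup G) ⊓ L : Subgroup G) : Set G))) ^ (p - 1) ≤
        Nat.card {g : ↥(normalizer (((P : Subgroup G) ⊓ L : Subgroup G) : Set G)) //
          ∃ k : ℕ, orderOf g = p ^ k} ^ p) :
    Nat.card ↥(P : Subgroup G) ^ p * Nat.card (Sylow p G) ^ (p - 1) ≤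
      (normalizer (((P : Subgroup G) ⊓ L : Subgroup G) : Set G)).index ^ (p - 1) *
        uIn p (normalizer (((P : Subgroup G) ⊓ L : Subgroup G) : Set G) : Set G) ^ p := by
  have hNH := h27_normalizer_le_normalizer_inf (P : Subgroup G) L
  have hPH : (P : Subgroup G) ≤ normalizer (((P : Subgroup G) ⊓ L : Subgroup G) : Set G) :=
    le_trans Subgroup.le_normalizer hNH
  have hQ := h (P.subtype hPH)
  have hcardQ : Nat.card ↥((P.subtype hPH : Sylow p _) : Subgroup
      ↥(normalizer (((P : Subgroup G) ⊓ L : Subgroup G) : Set G))) = Nat.card ↥(P : Subgroup G) :=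
    Nat.card_congr (Subgroup.subgroupOfEquivOfLe hPH).toEquiv
  have hnH := Cfsg.Agent.Lib.helper23.card_sylow_eq_relIndex_normalizer (p := p)
    (normalizer (((P : Subgroup G) ⊓ L : Subgroup G) : Set G)) (P : Subgroup G) hPH
    (Cfsg.Agent.Lib.helper23.card_sylow_of_le P _ hPH)
  have hnG : Nat.card (Sylow p G) =
      (normalizer ((P : Subgroup G) : Set G)).relIndex
        (normalizer (((P : Subgroup G) ⊓ L : Subgroup G) : Set G)) *
      (normalizer (((P : Subgroup G) ⊓ L : Subgroup G) : Set G)).index := by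
    rw [Sylow.card_eq_index_normalizer P]
    exact (Subgroup.relIndex_mul_index hNH).symm
  rw [hcardQ, hnH] at hQ
  rw [h27_uIn_subgroup, hnG, mul_pow]
  calc Nat.card ↥(P : Subgroup G) ^ p *
        ((normalizer ((P : Subgroup G) : Set G)).relIndex
          (normalizer (((P : Subgroup G) ⊓ L : Subgroup G) : Set G)) ^ (p - 1) *
        (normalizer (((P : Subgroup G) ⊓ L : Subgroup G) : Set G)).index ^ (p - 1))
      = (normalizer (((P : Subgroup G) ⊓ L : Subgroup G) : Set G)).index ^ (p - 1) *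
        (Nat.card ↥(P : Subgroup G) ^ p *
          (normalizer ((P : Subgroup G) : Set G)).relIndex
            (normalizer (((P : Subgroup G) ⊓ L : Subgroup G) : Set G)) ^ (p - 1)) := by ring
    _ ≤ _ := Nat.mul_le_mul_left _ hQ

end Cfsg.Agent.Lib.Helper27.S91dup
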