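import Mathlib
import Cfsg.Agent.Lib.helper2.S91Defs
import Cfsg.Agent.Lib.helper23.SylowQuot

set_option autoImplicit false

/-! Duplicate of a piece of helper2's project S91 (the assigned copy is helper3's); kept in a private
namespace so that both files can be imported together without name clashes. -/

namespace Cfsg.Agent.Lib.Helper27.S91dup
open Subgroup Cfsg.Agent.Lib.helper2.S91

universe u

/-- modulo a normal `p`-subgroup, `g` is a `p`-element iff its image is. -/
theorem h27_pElt_mk_iff {G : Type*} [Group G] [Finite G] (p : ℕ) [Fact p.Prime] (N : Subgroup G)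
    [N.Normal] (hN : IsPGroup p N) (g : G) :
    (∃ k : ℕ, orderOf (QuotientGroup.mk g : G ⧸ N) = p ^ k) ↔ ∃ k : ℕ, orderOf g = p ^ k := by
  have hp : p.Prime := Fact.out
  constructor
  · rintro ⟨k, hk⟩
    have h1 : (QuotientGroup.mk g : G ⧸ N) ^ (p ^ k) = 1 := by rw [← hk, pow_orderOf_eq_one]
    have h2 : g ^ (p ^ k) ∈ N := by
      rw [← QuotientGroup.eq_one_iff, QuotientGroup.mk_pow]
      exact h1
    obtain ⟨a, ha⟩ := hN ⟨g ^ (p ^ k), h2⟩
    have h3 : (g ^ (p ^ k)) ^ (p ^ a) = 1 := by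
      have := congrArg Subtype.val ha
      simpa using this
    rw [← pow_mul, ← pow_add] at h3
    obtain ⟨j, _, hj⟩ := (Nat.dvd_prime_pow hp).mp (orderOf_dvd_of_pow_eq_one h3)
    exact ⟨j, hj⟩
  · rintro ⟨k, hk⟩
    have h1 : (QuotientGroup.mk g : G ⧸ N) ^ (p ^ k) = 1 := by
      rw [← QuotientGroup.mk_pow, ← hk, pow_orderOf_eq_one, QuotientGroup.mk_one]
    obtain ⟨j, _, hj⟩ := (Nat.dvd_prime_pow hp).mp (orderOf_dvd_of_pow_eq_one h1)
    exact ⟨j, hj⟩

/-- the number of `p`-elements of `G` is `#N` times the number of `p`-elements of `G ⧸ N`. -/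
theorem h27_card_pElt_quot {G : Type*} [Group G] [Finite G] (p : ℕ) [Fact p.Prime] (N : Subgroup G)
    [N.Normal] (hN : IsPGroup p N) :
    Nat.card {g : G // ∃ k : ℕ, orderOf g = p ^ k} =
      Nat.card N * Nat.card {g : G ⧸ N // ∃ k : ℕ, orderOf g = p ^ k} := by
  have e := QuotientGroup.preimageMkEquivSubgroupProdSet N
    {x : G ⧸ N | ∃ k : ℕ, orderOf x = p ^ k}
  rw [← Nat.card_prod]
  refine Nat.card_congr (Equiv.trans ?_ e)
  refine Equiv.subtypeEquivRight ?_
  intro g
  exact (h27_pElt_mk_iff p N hN g).symm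

/-- S91-QUOT -/
theorem quot_step {G : Type u} [Group G] [Finite G] (p : ℕ) [Fact p.Prime] (N : Subgroup G)
    [N.Normal] (hN : IsPGroup p N) (P : Sylow p G)
    (h : ∀ Q : Sylow p (G ⧸ N), Nat.card ↥(Q : Subgroup (G ⧸ N)) ^ p *
        Nat.card (Sylow p (G ⧸ N)) ^ (p - 1) ≤
        Nat.card {g : G ⧸ N // ∃ k : ℕ, orderOf g = p ^ k} ^ p) :
    Nat.card ↥(P : Subgroup G) ^ p * Nat.card (Sylow p G) ^ (p - 1) ≤
      Nat.card {g : G // ∃ k : ℕ, orderOf g = p ^ k} ^ p := by
  have hp : p.Prime := Fact.out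
  have hs := QuotientGroup.mk'_surjective N
  have hNP : N ≤ (P : Subgroup G) := hN.le_sylow_of_normal P
  -- the Sylow subgroup of the quotient
  have hQ := h (P.mapSurjective hs)
  -- orders
  have hcP := Sylow.card_eq_multiplicity P
  have hcQ := Sylow.card_eq_multiplicity (P.mapSurjective hs)
  obtain ⟨a, ha⟩ := (IsPGroup.iff_card (p := p)).mp hN
  have hG : Nat.card G = Nat.card N * Nat.card (G ⧸ N) := by
    rw [mul_comm]; exact (Subgroup.card_eq_card_quotient_mul_card_subgroup N)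
  have hcard : Nat.card ↥(P : Subgroup G) =
      Nat.card N * Nat.card ↥((P.mapSurjective hs : Sylow p (G ⧸ N)) : Subgroup (G ⧸ N)) := by
    rw [hcP, hcQ, hG, ha]
    have hq0 : Nat.card (G ⧸ N) ≠ 0 := Nat.card_pos.ne'
    have hn0 : p ^ a ≠ 0 := pow_ne_zero _ hp.ne_zero
    rw [Nat.factorization_mul hn0 hq0, Finsupp.add_apply, hp.factorization_pow,
      Finsupp.single_eq_same, pow_add]
  -- Sylow numbers
  have hn : Nat.card (Sylow p G) = Nat.card (Sylow p (G ⧸ N)) := by
    rw [Cfsg.Agent.Lib.helper23.card_sylow_eq_mul N P, sup_eq_left.mpr hNP,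
      Subgroup.relIndex_eq_one.mpr Subgroup.le_normalizer, mul_one]
  rw [hcard, hn, h27_card_pElt_quot p N hN, mul_pow, mul_pow, mul_assoc]
  exact Nat.mul_le_mul_left _ hQ

end Cfsg.Agent.Lib.Helper27.S91dup
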