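import Mathlib
import Cfsg.Agent.S0985
import Cfsg.Agent.Lib.helper8.SylowBasic
import Cfsg.Agent.Lib.helper8.SimpleEmbed
import Cfsg.Agent.Lib.helper8.Burnside
import Cfsg.Agent.Lib.helper8.SubgroupCard
import Cfsg.Agent.Lib.helper8.SylowConj
import Cfsg.Agent.Lib.Helper11.S496K3

/-!
# Project S983 (S0983), order row 5880 = 2³·3·5·7²: no simple group of order 5880.

`n_7 ∈ {1, 8, 15, 120}`; `8`: `2|G| ∤ 8!`; `120`: `N(P) = P` abelian (Burnside); `15`: S0985 gives `P ≠ R` with `D = P ∩ R` of order `7`,
`H = N(D) ⊇ P, R`, `(G : H) ≥ 14`, so `|H| = 392`, `n_7(H) = 8`, `|N(P) ∩ H| = 49`; the stabiliser of `R` in `N(P)` (order `392`, acting on the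
`14` Sylow subgroups `≠ P`) lies in `N(P) ∩ H` and has order `≥ 28`, so it is `N(P) ∩ H ⊇ P`: `P` normalises `R`, `P = R`.
-/

set_option autoImplicit false
set_option maxRecDepth 4000

namespace Cfsg.Agent.Lib.Helper27.S983

open Subgroup Cfsg.Agent.Lib.helper8

/-- an element normalising two subgroups normalises their intersection. -/
theorem s983n5880_mem_normalizer_inf {G : Type*} [Group G] (A B : Subgroup G) (g : G)
    (hA : g ∈ normalizer (A : Set G)) (hB : g ∈ normalizer (B : Set G)) :
    g ∈ normalizer ((A ⊓ B : Subgroup G) : Set G) := by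
  rw [mem_normalizer_iff] at hA hB ⊢
  intro h
  rw [Subgroup.mem_inf, Subgroup.mem_inf, hA h, hB h]

/-- the case `n_7 = 15`. -/
theorem s983n5880_fifteen {G : Type*} [Group G] [Finite G] [IsSimpleGroup G] [Fact (Nat.Prime 7)]
    (hG : Nat.card G = 5880) (hna : ¬ IsMulCommutative G) (h15 : Nat.card (Sylow 7 G) = 15) : False := by
  classical
  have hG' : Nat.card G = 7 ^ 2 * 120 := by rw [hG]; norm_num
  have hm : ¬ 7 ∣ 120 := by norm_num
  have hmod : ¬ Nat.card (Sylow 7 G) ≡ 1 [MOD 7 ^ 2] := by
    rw [h15]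
    decide
  obtain ⟨P, R, hPR, hidx⟩ := Cfsg.Agent.S0985.result (G := G) 7 2 hmod
  have hcP : Nat.card (P : Subgroup G) = 49 := by
    rw [h8_sylow_card 7 2 120 hG' hm P]; norm_num
  have hcR : Nat.card (R : Subgroup G) = 49 := by
    rw [h8_sylow_card 7 2 120 hG' hm R]; norm_num
  set D : Subgroup G := (P : Subgroup G) ⊓ (R : Subgroup G) with hD
  have hDP : D ≤ (P : Subgroup G) := inf_le_left
  have hDR : D ≤ (R : Subgroup G) := inf_le_right
  -- |D| = 7
  have hrel : Nat.card D * (R : Subgroup G).relIndex (P : Subgroup G) = 49 := by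
    have := h8_card_inf_mul_relIndex (R : Subgroup G) (P : Subgroup G)
    rw [inf_comm, hcP] at this
    exact this
  have hidx' : (R : Subgroup G).relIndex (P : Subgroup G) ≤ 7 := by
    have : ((R : Subgroup G).subgroupOf (P : Subgroup G)).index ≤ 7 ^ (2 - 1) := hidx
    simpa [Subgroup.relIndex] using this
  have hDne : D ≠ (P : Subgroup G) := by
    intro hDeq
    apply hPR
    apply h8_sylow_eq_of_le 7 P R
    rw [← hDeq]
    exact hDR
  have hcD : Nat.card D = 7 := by
    have hdvd : Nat.card D ∣ 49 := ⟨_, hrel.symm⟩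
    have hle : Nat.card D ≤ 49 := Nat.le_of_dvd (by norm_num) hdvd
    have h49 : Nat.card D ≠ 49 := by
      intro h
      apply hDne
      apply Subgroup.eq_of_le_of_card_ge hDP
      rw [hcP, h]
    have hpos : 0 < (R : Subgroup G).relIndex (P : Subgroup G) := by
      rcases Nat.eq_zero_or_pos ((R : Subgroup G).relIndex (P : Subgroup G)) with h | h
      · rw [h, mul_zero] at hrel
        omega
      · exact h
    have hge : 7 ≤ Nat.card D := by
      by_contra hlt
      have : Nat.card D * (R : Subgroup G).relIndex (P : Subgroup G) ≤ 6 * 7 :=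
        Nat.mul_le_mul (by omega) hidx'
      omega
    interval_cases (Nat.card D) <;> omega
  have hcardD : Nat.card D * 7 = Nat.card (P : Subgroup G) := by rw [hcD, hcP]
  have hcardD' : Nat.card D * 7 = Nat.card (R : Subgroup G) := by rw [hcD, hcR]
  set H : Subgroup G := normalizer (D : Set G) with hH
  have hPH : (P : Subgroup G) ≤ H :=
    Cfsg.Agent.Lib.helper3.S496.k3_le_normalizer 7 _ D P.isPGroup' hDP hcardD
  have hRH : (R : Subgroup G) ≤ H :=
    Cfsg.Agent.Lib.helper3.S496.k3_le_normalizer 7 _ D R.isPGroup' hDR hcardD'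
  have hHne : H ≠ ⊤ := by
    intro htop
    have hDn : D.Normal := Subgroup.normalizer_eq_top_iff.mp htop
    rcases h8_simple_card_normal D with h | h
    · omega
    · omega
  -- index of H
  have hfac := h8_simple_two_mul_card_dvd_factorial hna H hHne
  rw [hG] at hfac
  have hidxH : 14 ≤ H.index := by
    by_contra hlt
    have h13 : H.index ≤ 13 := by omega
    have hdvd : (H.index).factorial ∣ (13).factorial := Nat.factorial_dvd_factorial h13
    have := dvd_trans hfac hdvd
    revert this
    decide
  have hHcard := H.card_mul_index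
  rw [hG] at hHcard
  obtain ⟨hn8, hndvd⟩ := h8_nsylow_subgroup_ge 7 P R hPR H hPH hRH
  rw [hcP] at hndvd
  obtain ⟨j, hj⟩ := hndvd
  have hj0 : j ≠ 0 := by
    rintro rfl
    rw [mul_zero] at hj
    have : 0 < Nat.card H := Nat.card_pos
    omega
  have hprod : Nat.card (Sylow 7 H) * j * H.index = 120 := by
    rw [hj] at hHcard
    nlinarith
  have hnj : Nat.card (Sylow 7 H) * j ≤ 8 := by
    by_contra hlt
    have h9 : 9 ≤ Nat.card (Sylow 7 H) * j := by omega
    have : 9 * 14 ≤ Nat.card (Sylow 7 H) * j * H.index := Nat.mul_le_mul h9 hidxH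
    omega
  have hj1 : j = 1 := by
    by_contra hne
    have h2 : 2 ≤ j := by omega
    have : 8 * 2 ≤ Nat.card (Sylow 7 H) * j := Nat.mul_le_mul hn8 h2
    omega
  subst hj1
  have hn8' : Nat.card (Sylow 7 H) = 8 := by omega
  have hcH : Nat.card H = 392 := by rw [hj, hn8']
  -- K = N(P) ⊓ H has order 49
  set N : Subgroup G := normalizer ((P : Subgroup G) : Set G) with hN
  have hPN : (P : Subgroup G) ≤ N := le_normalizer
  have hcN : Nat.card N = 392 := by
    have := h8_card_normalizer_sylow 7 P
    rw [h15, hG, ← hN] at this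
    omega
  have hcK : Nat.card (N ⊓ H : Subgroup G) = 49 := by
    have h1 : Nat.card (Sylow 7 H) =
        (normalizer (((P.subtype hPH : Sylow 7 H) : Subgroup H) : Set H)).index :=
      Sylow.card_eq_index_normalizer (P.subtype hPH)
    have h2 := Subgroup.card_mul_index
      (normalizer (((P.subtype hPH : Sylow 7 H) : Subgroup H) : Set H))
    rw [← h1, hn8', Sylow.coe_subtype] at h2
    have h3 : Nat.card (normalizer (((P : Subgroup G).subgroupOf H : Subgroup H) : Set H)) =
        Nat.card (N ⊓ H : Subgroup G) := by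
      rw [← subgroupOf_normalizer_eq hPH, ← hN, ← inf_subgroupOf_right]
      exact h8_card_subgroupOf inf_le_right
    rw [h3, Nat.card_congr (Equiv.refl _), hcH] at h2
    omega
  -- the stabiliser of R in N
  set St : Subgroup N := MulAction.stabilizer N R with hSt
  have hStle : St.map N.subtype ≤ N ⊓ H := by
    rintro x ⟨g, hg, rfl⟩
    have hgR : ((g : N) : G) ∈ normalizer ((R : Subgroup G) : Set G) := by
      apply Sylow.smul_eq_iff_mem_normalizer.mp
      have : g • R = R := hg
      rwa [Subgroup.smul_def] at this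
    refine Subgroup.mem_inf.mpr ⟨g.2, ?_⟩
    exact s983n5880_mem_normalizer_inf _ _ _ g.2 hgR
  have hcSt : Nat.card (St.map N.subtype) = Nat.card St :=
    Subgroup.card_map_of_injective N.subtype_injective
  have hStdvd : Nat.card St ∣ 49 := by
    rw [← hcSt, ← hcK]
    exact Subgroup.card_dvd_of_le hStle
  have horb : St.index ≤ 14 := by
    rw [hSt, MulAction.index_stabilizer]
    have hsub : MulAction.orbit N R ⊆ ({P} : Set (Sylow 7 G))ᶜ := by
      rintro Q ⟨g, rfl⟩
      intro hQ
      have hQ' : g • R = P := hQ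
      have hgP : ((g : N) : G) • P = P := Sylow.smul_eq_iff_mem_normalizer.mpr g.2
      rw [Subgroup.smul_def] at hQ'
      apply hPR
      have : ((g : N) : G) • R = ((g : N) : G) • P := by rw [hQ', hgP]
      exact (smul_left_cancel _ this).symm
    have h1 := Set.ncard_le_ncard hsub (Set.toFinite _)
    have h2 := Set.ncard_compl_add_ncard ({P} : Set (Sylow 7 G))
    rw [Set.ncard_singleton, h15] at h2
    omega
  have hStcard := St.card_mul_index
  rw [hcN] at hStcard
  have hSt49 : Nat.card St = 49 := by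
    have hle : Nat.card St ≤ 49 := Nat.le_of_dvd (by norm_num) hStdvd
    have hge : 28 ≤ Nat.card St := by
      by_contra hlt
      have : Nat.card St * St.index ≤ 27 * 14 := Nat.mul_le_mul (by omega) horb
      omega
    obtain ⟨k, hk⟩ := hStdvd
    interval_cases (Nat.card St) <;> omega
  have hSteq : St.map N.subtype = N ⊓ H := by
    apply Subgroup.eq_of_le_of_card_ge hStle
    rw [hcK, hcSt, hSt49]
  have hPnR : (P : Subgroup G) ≤ normalizer ((R : Subgroup G) : Set G) := by
    intro x hx
    have hxK : x ∈ (N ⊓ H : Subgroup G) := Subgroup.mem_inf.mpr ⟨hPN hx, hPH hx⟩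
    rw [← hSteq] at hxK
    obtain ⟨g, hg, rfl⟩ := hxK
    apply Sylow.smul_eq_iff_mem_normalizer.mp
    have : g • R = R := hg
    rwa [Subgroup.smul_def] at this
  have hPR' : (P : Subgroup G) ≤ (R : Subgroup G) :=
    h8_le_sylow_of_le_normalizer 7 R _ P.isPGroup' hPnR
  exact hPR (h8_sylow_eq_of_le 7 P R hPR')

/-- no simple group of order `5880`. -/
theorem no_simple_5880 {G : Type*} [Group G] [Finite G] [IsSimpleGroup G] (hG : Nat.card G = 5880) :
    False := by
  classical
  have : Fact (Nat.Prime 7) := ⟨by norm_num⟩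
  have hG' : Nat.card G = 7 ^ 2 * 120 := by rw [hG]; norm_num
  have hm : ¬ 7 ∣ 120 := by norm_num
  have hna : ¬ IsMulCommutative G := h8_not_comm_of_card (by rw [hG]; norm_num)
  have hmem := h8_nsylow_mem 7 2 120 hG' hm
  have hset : (Nat.divisors 120).filter (fun d => d % 7 = 1) = {1, 8, 15, 120} := by decide
  rw [hset] at hmem
  simp only [Finset.mem_insert, Finset.mem_singleton] at hmem
  obtain ⟨P⟩ : Nonempty (Sylow 7 G) := inferInstance
  have hcP : Nat.card (P : Subgroup G) = 49 := by
    rw [h8_sylow_card 7 2 120 hG' hm P]; norm_num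
  have hNn := h8_card_normalizer_sylow 7 P
  rw [hG] at hNn
  rcases hmem with h | h | h | h
  · exact h8_simple_nsylow_ne_one 7 2 120 hG' hm (by norm_num) (by norm_num) h
  · -- n_7 = 8
    have hidx : (normalizer ((P : Subgroup G) : Set G)).index = 8 := by
      rw [← h8_nsylow_eq_index_normalizer 7 P, h]
    have hne : normalizer ((P : Subgroup G) : Set G) ≠ ⊤ := by
      intro htop
      rw [htop, Subgroup.index_top] at hidx
      omega
    have := h8_simple_two_mul_card_dvd_factorial hna _ hne
    rw [hidx, hG] at this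
    revert this
    decide
  · exact s983n5880_fifteen hG hna h
  · -- n_7 = 120
    rw [h] at hNn
    have hcN : Nat.card (normalizer ((P : Subgroup G) : Set G)) = 49 := by omega
    have hPN : (P : Subgroup G) = normalizer ((P : Subgroup G) : Set G) := by
      apply Subgroup.eq_of_le_of_card_ge le_normalizer
      rw [hcN, hcP]
    apply h8_simple_not_normalizer_le_centralizer 7 2 120 hG' hm (by norm_num) (by norm_num) P
    intro x hx
    rw [← hPN] at hx
    rw [Subgroup.mem_centralizer_iff]
    intro y hy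
    exact h8_comm_of_card_prime_sq 7 (P : Subgroup G) (by rw [hcP]; norm_num) y hy x hx

end Cfsg.Agent.Lib.Helper27.S983
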