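import Mathlib
import Cfsg.Agent.Lib.helper3.S983.TblDefs
import Cfsg.Agent.Lib.Helper27.S983N5880

set_option autoImplicit false

namespace Cfsg.Agent.Lib.helper3.S983

theorem no_simple_5880 {G : Type*} [Group G] [Finite G] [IsSimpleGroup G] (hG : Nat.card G = 5880) : False :=
  Cfsg.Agent.Lib.Helper27.S983.no_simple_5880 hG

end Cfsg.Agent.Lib.helper3.S983
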