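import Mathlib
import Cfsg.Agent.Lib.helper14.SGUDefs
import Cfsg.Agent.Lib.helper6.Symp

/-!
# Project SGU (S5976), row CARDSP: `spGL` and Mathlib's `symplecticGroup` have the same number of elements.
-/

set_option autoImplicit false
set_option linter.unusedVariables false
set_option linter.unusedSectionVars false

namespace Cfsg.Agent.Lib.helper14.SGU

open Polynomial Module Cfsg.Agent.Lib.Lead.SPU Cfsg.Agent.Lib.Helper19.SPD

variable {F : Type*} [Field F] {d : ℕ}

/-- the bijection `spGL d F ≃ symplecticGroup (Fin d) F`. -/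
noncomputable def sgucardsp_equiv : Cfsg.spGL d F ≃ Matrix.symplecticGroup (Fin d) F where
  toFun g := ⟨((g : Matrix.GeneralLinearGroup (Fin d ⊕ Fin d) F) : Matrix (Fin d ⊕ Fin d) (Fin d ⊕ Fin d) F),
    (Cfsg.Agent.Lib.helper6.mem_symplecticGroup_iff_sympForm d _).mpr g.2⟩
  invFun A := ⟨⟨(A : Matrix (Fin d ⊕ Fin d) (Fin d ⊕ Fin d) F),
      ((A⁻¹ : Matrix.symplecticGroup (Fin d) F) : Matrix (Fin d ⊕ Fin d) (Fin d ⊕ Fin d) F),
      by
        have h := congrArg Subtype.val (mul_inv_cancel A)
        exact h,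
      by
        have h := congrArg Subtype.val (inv_mul_cancel A)
        exact h⟩,
    (Cfsg.Agent.Lib.helper6.mem_symplecticGroup_iff_sympForm d _).mp A.2⟩
  left_inv g := by
    apply Subtype.ext
    apply Units.ext
    rfl
  right_inv A := by
    apply Subtype.ext
    rfl

/-- CARDSP [S-M] : `spGL` and Mathlib's `symplecticGroup` have the same elements. -/
theorem card_spGL [Fintype F] : Nat.card (Cfsg.spGL d F) = Nat.card (Matrix.symplecticGroup (Fin d) F) :=
  Nat.card_congr sgucardsp_equiv

end Cfsg.Agent.Lib.helper14.SGU
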