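import Mathlib
import Cfsg.Agent.Lib.helper14.SGUDefs
import Cfsg.Agent.S5646

/-!
# Project SGU (S5976), row DERP: a transvection neither commutes nor anticommutes with any `JS`
(the proof of `Lead.SPU.strict`, which works for every `JS`).
-/

set_option autoImplicit false
set_option linter.unusedVariables false
set_option linter.unusedSectionVars false

namespace Cfsg.Agent.Lib.helper14.SGU

open Polynomial Module Cfsg.Agent.Lib.Lead.SPU Cfsg.Agent.Lib.Helper19.SPD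
open Matrix Cfsg.Agent.S5646 Cfsg.Agent.S5647 Cfsg.Agent.Lib.Helper28.SpPair

variable {F : Type*} [Field F] {d : ℕ}

theorem sguderp_pow (m : ℕ) (v : Fin m ⊕ Fin m → F) (c : F) (n : ℕ) :
    Cfsg.sympTransvection m v c ^ n = Cfsg.sympTransvection m v ((n : F) * c) := by
  induction n with
  | zero => rw [pow_zero, Nat.cast_zero, zero_mul, Cfsg.Agent.S5646.ts_zero]
  | succ n ih =>
    rw [pow_succ, ih, (Cfsg.Agent.S0767.result m v).1]
    congr 1
    push_cast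
    ring

/-- the transvection `t_v(1)` is not in `N(j)` for any `JS j c0`. -/
theorem sguderp_not_inN (hd : 2 ≤ d) (v : Fin d ⊕ Fin d → F) (hv : v ≠ 0)
    (g : Matrix.GeneralLinearGroup (Fin d ⊕ Fin d) F)
    (hg : (g : Matrix (Fin d ⊕ Fin d) (Fin d ⊕ Fin d) F) = Cfsg.sympTransvection d v 1)
    (j : Matrix (Fin d ⊕ Fin d) (Fin d ⊕ Fin d) F) (c0 : F) (hJ : JS j c0) : ¬ InN j g := by
  have hjj : ∀ x : Fin d ⊕ Fin d → F, j *ᵥ (j *ᵥ x) = c0 • x := by
    intro x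
    rw [Matrix.mulVec_mulVec, hJ.sq, Matrix.smul_mulVec, Matrix.one_mulVec]
  rintro (hc | hc)
  · obtain ⟨x, hx⟩ := Cfsg.Agent.Lib.helper6.sympForm_nondeg d v hv
    have hxv : Cfsg.sympForm d F x v ≠ 0 := by
      rw [Cfsg.Agent.Lib.helper6.sympForm_swap]
      exact neg_ne_zero.mpr hx
    have h1 : (g : Matrix (Fin d ⊕ Fin d) (Fin d ⊕ Fin d) F) *ᵥ (j *ᵥ x) =
        j *ᵥ ((g : Matrix (Fin d ⊕ Fin d) (Fin d ⊕ Fin d) F) *ᵥ x) := by
      rw [Matrix.mulVec_mulVec, Matrix.mulVec_mulVec, hc]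
    rw [ts_apply g v 1 hg, ts_apply g v 1 hg, Matrix.mulVec_add, Matrix.mulVec_smul, one_mul,
      one_mul] at h1
    have h2 : Cfsg.sympForm d F (j *ᵥ x) v • v = Cfsg.sympForm d F x v • (j *ᵥ v) :=
      add_left_cancel h1
    have h3 : j *ᵥ v = ((Cfsg.sympForm d F x v)⁻¹ * Cfsg.sympForm d F (j *ᵥ x) v) • v := by
      rw [mul_smul, h2, smul_smul, inv_mul_cancel₀ hxv, one_smul]
    have h4 := hjj v
    rw [h3, Matrix.mulVec_smul, h3, smul_smul] at h4
    have h5 : (((Cfsg.sympForm d F x v)⁻¹ * Cfsg.sympForm d F (j *ᵥ x) v) *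
        ((Cfsg.sympForm d F x v)⁻¹ * Cfsg.sympForm d F (j *ᵥ x) v) - c0) • v = 0 := by
      rw [sub_smul, h4, sub_self]
    rcases smul_eq_zero.1 h5 with h6 | h6
    · exact hJ.nsq _ (sub_eq_zero.1 h6)
    · exact hv h6
  · have hfr : Module.finrank F (⊥ : Submodule F (Fin d ⊕ Fin d → F)) + 2 <
        Module.finrank F (⊤ : Submodule F (Fin d ⊕ Fin d → F)) := by
      rw [finrank_bot, finrank_top, Module.finrank_fintype_fun_eq_card, Fintype.card_sum,
        Fintype.card_fin]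
      omega
    obtain ⟨x, -, hx0, hxn⟩ := avoid (⊤ : Submodule F (Fin d ⊕ Fin d → F)) ⊥
      ![sfL v, sfL (j *ᵥ v)] hfr
    have hx1 : Cfsg.sympForm d F x v = 0 := hx0 0
    have hx2 : Cfsg.sympForm d F x (j *ᵥ v) = 0 := hx0 1
    have hx3 : Cfsg.sympForm d F (j *ᵥ x) v = 0 := by rw [hJ.adj, hx2, neg_zero]
    have h1 : (g : Matrix (Fin d ⊕ Fin d) (Fin d ⊕ Fin d) F) *ᵥ (j *ᵥ x) =
        -(j *ᵥ ((g : Matrix (Fin d ⊕ Fin d) (Fin d ⊕ Fin d) F) *ᵥ x)) := by
      rw [Matrix.mulVec_mulVec, Matrix.mulVec_mulVec, hc, Matrix.neg_mulVec]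
    rw [ts_apply g v 1 hg, ts_apply g v 1 hg, hx1, hx3, mul_zero, zero_smul, add_zero,
      add_zero] at h1
    have h2 : (2 : F) • (j *ᵥ x) = 0 := by
      rw [two_smul]
      nth_rewrite 1 [h1]
      exact neg_add_cancel _
    rcases smul_eq_zero.1 h2 with h3 | h3
    · exact hJ.two h3
    · have h4 := hjj x
      rw [h3, Matrix.mulVec_zero] at h4
      rcases smul_eq_zero.1 h4.symm with h5 | h5
      · exact hJ.nsq 0 (by rw [h5, mul_zero])
      · exact hxn (by rw [h5]; exact Submodule.zero_mem _)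

/-- DERP [M]. -/
theorem der_p {p : ℕ} [Fact p.Prime] [CharP F p] (hd : 2 ≤ d) :
    ∃ x : Matrix.GeneralLinearGroup (Fin d ⊕ Fin d) F, x ∈ Cfsg.spGL d F ∧ x ^ p = 1 ∧
      (∀ z : F, (x : Matrix (Fin d ⊕ Fin d) (Fin d ⊕ Fin d) F) ≠ z • (1 : Matrix (Fin d ⊕ Fin d) (Fin d ⊕ Fin d) F)) ∧
      ∀ (j' : Matrix (Fin d ⊕ Fin d) (Fin d ⊕ Fin d) F) (c0' : F), JS j' c0' → ¬ InN j' x := by
  classical
  set i0 : Fin d := ⟨0, by omega⟩ with hi0
  set v : Fin d ⊕ Fin d → F := Pi.single (Sum.inl i0) 1 with hv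
  have hv0 : v ≠ 0 := by
    intro h
    have := congrFun h (Sum.inl i0)
    simp [hv] at this
  obtain ⟨g, hg, hgS⟩ := Cfsg.Agent.S5646.tsGL v (1 : F)
  have hact : ∀ x, (g : Matrix (Fin d ⊕ Fin d) (Fin d ⊕ Fin d) F) *ᵥ x =
      x + (1 * Cfsg.sympForm d F x v) • v := fun x => Cfsg.Agent.S5646.ts_apply g v 1 hg x
  refine ⟨g, hgS, ?_, ?_, fun j' c0' hJ => sguderp_not_inN hd v hv0 g hg j' c0' hJ⟩
  · apply Units.ext
    rw [Units.val_pow_eq_pow_val, hg, sguderp_pow, CharP.cast_eq_zero F p, zero_mul, Cfsg.Agent.S5646.ts_zero,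
      Units.val_one]
  · intro z hz
    obtain ⟨w, hw⟩ := Cfsg.Agent.Lib.helper6.sympForm_nondeg d v hv0
    have h1 := hact v
    rw [hz, Matrix.smul_mulVec, Matrix.one_mulVec, Cfsg.Agent.Lib.helper6.sympForm_self, mul_zero, zero_smul,
      add_zero] at h1
    have hz1 : z = 1 := by
      by_contra hne
      apply hv0
      have h2 : (z - 1) • v = 0 := by rw [sub_smul, one_smul, h1, sub_self]
      rcases smul_eq_zero.mp h2 with h3 | h3
      · exact absurd (sub_eq_zero.mp h3) hne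
      · exact h3
    have h4 := hact w
    rw [hz, hz1, one_smul, Matrix.one_mulVec, one_mul] at h4
    have h5 : Cfsg.sympForm d F w v • v = 0 := by
      have := h4
      nth_rewrite 1 [← add_zero w] at this
      exact (add_left_cancel this).symm
    rcases smul_eq_zero.mp h5 with h6 | h6
    · apply hw
      rw [Cfsg.Agent.Lib.helper6.sympForm_swap, h6, neg_zero]
    · exact hv0 h6

end Cfsg.Agent.Lib.helper14.SGU
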