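import Cfsg.Agent.Lib.helper14.SL2Sylow

set_option autoImplicit false

namespace Cfsg.Agent.Lib.Helper27

open Cfsg.Agent.Lib.helper14 Matrix

section
variable {F : Type*} [Field F] [Fintype F] (p : ℕ) [Fact p.Prime] [CharP F p]

local notation "SL2" => Matrix.SpecialLinearGroup (Fin 2) F
local notation "M2" => Matrix (Fin 2) (Fin 2) F

theorem mem_smul_sylow_iff {G : Type*} [Group G] {q : ℕ} (g : G) (P : Sylow q G) (x : G) :
    x ∈ g • P ↔ g⁻¹ * x * g ∈ P := by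
  have h : x ∈ ((g • P : Sylow q G) : Subgroup G) ↔ g⁻¹ * x * g ∈ (P : Subgroup G) := by
    rw [Sylow.coe_subgroup_smul, Subgroup.mem_pointwise_smul_iff_inv_smul_mem]
    simp [MulAut.smul_def]
  exact h

/-- Two distinct Sylow `p`-subgroups of `SL₂(F)` generate it. -/
theorem sup_eq_top_of_sylow_ne (R₁ R₂ : Sylow p SL2) (h : R₁ ≠ R₂) :
    (R₁ : Subgroup SL2) ⊔ (R₂ : Subgroup SL2) = ⊤ := by
  obtain ⟨g₁, hg₁⟩ := MulAction.exists_smul_eq SL2 (USSylow (F := F) p) R₁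
  obtain ⟨g₂, hg₂⟩ := MulAction.exists_smul_eq SL2 (USSylow (F := F) p) R₂
  have hR₁ : ∀ x, x ∈ R₁ ↔ g₁⁻¹ * x * g₁ ∈ US F := by
    intro x
    rw [← hg₁, mem_smul_sylow_iff]
    rfl
  have hR₂ : ∀ x, x ∈ R₂ ↔ g₂⁻¹ * x * g₂ ∈ US F := by
    intro x
    rw [← hg₂, mem_smul_sylow_iff]
    rfl
  have hm : ((g₁⁻¹ * g₂ : SL2) : M2) 1 0 ≠ 0 := by
    intro h0
    have hB : g₁⁻¹ * g₂ ∈ BS F := (mem_BS _).mpr h0
    apply h
    ext x
    show x ∈ R₁ ↔ x ∈ R₂
    rw [hR₁, hR₂, ← conj_mem_US_iff (g₁⁻¹ * g₂) hB (g₂⁻¹ * x * g₂)]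
    have e : g₁⁻¹ * g₂ * (g₂⁻¹ * x * g₂) * (g₁⁻¹ * g₂)⁻¹ = g₁⁻¹ * x * g₁ := by group
    rw [e]
  have htop : ((R₁ : Subgroup SL2) ⊔ (R₂ : Subgroup SL2)).comap (MulAut.conj g₁).toMonoidHom = ⊤ := by
    refine eq_top_of_US_conj _ (fun x => ?_) (g₁⁻¹ * g₂) hm (fun x => ?_)
    · refine Subgroup.mem_comap.mpr ((le_sup_left : (R₁ : Subgroup SL2) ≤ _) ?_)
      show g₁ * uS x * g₁⁻¹ ∈ R₁
      rw [hR₁]
      have e : g₁⁻¹ * (g₁ * uS x * g₁⁻¹) * g₁ = uS x := by group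
      rw [e]
      exact uS_mem x
    · refine Subgroup.mem_comap.mpr ((le_sup_right : (R₂ : Subgroup SL2) ≤ _) ?_)
      show g₁ * (g₁⁻¹ * g₂ * uS x * (g₁⁻¹ * g₂)⁻¹) * g₁⁻¹ ∈ R₂
      rw [hR₂]
      have e : g₂⁻¹ * (g₁ * (g₁⁻¹ * g₂ * uS x * (g₁⁻¹ * g₂)⁻¹) * g₁⁻¹) * g₂ = uS x := by group
      rw [e]
      exact uS_mem x
  rw [eq_top_iff]
  intro y _
  have h1 : g₁⁻¹ * y * g₁ ∈ ((R₁ : Subgroup SL2) ⊔ (R₂ : Subgroup SL2)).comap
      (MulAut.conj g₁).toMonoidHom := by rw [htop]; trivial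
  have h2 := Subgroup.mem_comap.mp h1
  have e : (MulAut.conj g₁).toMonoidHom (g₁⁻¹ * y * g₁) = y := by
    show g₁ * (g₁⁻¹ * y * g₁) * g₁⁻¹ = y
    group
  rwa [e] at h2

theorem card_sylow_SL2 (R : Sylow p SL2) : Nat.card R = Fintype.card F := by
  rw [Sylow.card_eq_multiplicity, ← Sylow.card_eq_multiplicity (USSylow (F := F) p)]
  exact card_US

end

section
variable (p : ℕ) [Fact p.Prime]

/-- An element of `p`-power order of `GL₂(𝔽_p)` lies in `SL₂`. -/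
theorem mem_range_toGL_of_pow (g : GL (Fin 2) (ZMod p)) (k : ℕ) (hg : g ^ (p ^ k) = 1) :
    g ∈ (Matrix.SpecialLinearGroup.toGL : Matrix.SpecialLinearGroup (Fin 2) (ZMod p) →* _).range := by
  have h1 : (Matrix.GeneralLinearGroup.det g) ^ (p ^ k) = 1 := by
    rw [← map_pow, hg, map_one]
  have h2 : ((Matrix.GeneralLinearGroup.det g : (ZMod p)ˣ) : ZMod p) = 1 := by
    have := congrArg (fun u : (ZMod p)ˣ => (u : ZMod p)) h1
    simp only [Units.val_pow_eq_pow_val, Units.val_one] at this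
    rw [ZMod.pow_card_pow] at this
    exact this
  refine ⟨⟨(g : Matrix (Fin 2) (Fin 2) (ZMod p)), h2⟩, ?_⟩
  ext i j
  rfl

/-- Two distinct Sylow `p`-subgroups of a finite group acting faithfully on `𝔽_p²` generate a copy
of `SL₂(p)`. -/
theorem nonempty_mulEquiv_SL2_of_sylow_ne {A : Type*} [Group A] [Finite A]
    (ρ : A →* GL (Fin 2) (ZMod p)) (hρ : Function.Injective ρ) (P₁ P₂ : Sylow p A)
    (hne : P₁ ≠ P₂) :
    Nonempty (↥((P₁ : Subgroup A) ⊔ (P₂ : Subgroup A)) ≃*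
      Matrix.SpecialLinearGroup (Fin 2) (ZMod p)) := by
  have hιinj : Function.Injective
      (Matrix.SpecialLinearGroup.toGL : Matrix.SpecialLinearGroup (Fin 2) (ZMod p) →* _) := by
    intro a b hab
    apply Subtype.ext
    have := congrArg (fun u : GL (Fin 2) (ZMod p) => (u : Matrix (Fin 2) (Fin 2) (ZMod p))) hab
    exact this
  have hle : ∀ P : Sylow p A, (P : Subgroup A).map ρ ≤
      (Matrix.SpecialLinearGroup.toGL : Matrix.SpecialLinearGroup (Fin 2) (ZMod p) →* _).range := by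
    intro P
    rintro _ ⟨x, hx, rfl⟩
    obtain ⟨k, hk⟩ := P.isPGroup' ⟨x, hx⟩
    refine mem_range_toGL_of_pow p (ρ x) k ?_
    rw [← map_pow]
    have : x ^ (p ^ k) = 1 := by
      have := congrArg Subtype.val hk
      simpa using this
    rw [this, map_one]
  have hQp : ∀ P : Sylow p A, IsPGroup p ↥(((P : Subgroup A).map ρ).comap
      (Matrix.SpecialLinearGroup.toGL : Matrix.SpecialLinearGroup (Fin 2) (ZMod p) →* _)) :=
    fun P => (P.isPGroup'.map ρ).comap_of_injective _ hιinj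
  have hcardQ : ∀ P : Sylow p A, Nat.card ↥(((P : Subgroup A).map ρ).comap
      (Matrix.SpecialLinearGroup.toGL : Matrix.SpecialLinearGroup (Fin 2) (ZMod p) →* _)) =
      Nat.card P := by
    intro P
    have e1 : ↥(((P : Subgroup A).map ρ).comap
      (Matrix.SpecialLinearGroup.toGL : Matrix.SpecialLinearGroup (Fin 2) (ZMod p) →* _)) ≃*
        ↥((((P : Subgroup A).map ρ).comap (Matrix.SpecialLinearGroup.toGL :
          Matrix.SpecialLinearGroup (Fin 2) (ZMod p) →* _)).map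
            (Matrix.SpecialLinearGroup.toGL : Matrix.SpecialLinearGroup (Fin 2) (ZMod p) →* _)) :=
      Subgroup.equivMapOfInjective _ _ hιinj
    rw [Nat.card_congr e1.toEquiv, Subgroup.map_comap_eq_self (hle P)]
    exact (Nat.card_congr (Subgroup.equivMapOfInjective _ ρ hρ).toEquiv).symm
  have hP1 : 1 < Nat.card P₁ := by
    by_contra hcon
    have h1 : Nat.card P₁ = 1 := by
      have := Nat.card_pos (α := P₁)
      omega
    have h2 : Nat.card P₂ = 1 := by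
      rw [Sylow.card_eq_multiplicity] at h1 ⊢
      exact h1
    apply hne
    apply Sylow.ext
    rw [Subgroup.card_eq_one.mp h1, Subgroup.card_eq_one.mp h2]
  have hP2 : 1 < Nat.card P₂ := by
    rw [Sylow.card_eq_multiplicity] at hP1 ⊢
    exact hP1
  have hSyl : ∀ P : Sylow p A, 1 < Nat.card P → ∃ R : Sylow p (Matrix.SpecialLinearGroup (Fin 2) (ZMod p)),
      (R : Subgroup _) = ((P : Subgroup A).map ρ).comap
        (Matrix.SpecialLinearGroup.toGL : Matrix.SpecialLinearGroup (Fin 2) (ZMod p) →* _) := by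
    intro P hP
    obtain ⟨R, hR⟩ := (hQp P).exists_le_sylow
    refine ⟨R, ?_⟩
    have hRc : Nat.card R = p := by
      rw [card_sylow_SL2 p R, ZMod.card]
    have hdvd : Nat.card ↥(((P : Subgroup A).map ρ).comap
      (Matrix.SpecialLinearGroup.toGL : Matrix.SpecialLinearGroup (Fin 2) (ZMod p) →* _)) ∣ p := by
      have h := Subgroup.card_dvd_of_le hR
      rw [hRc] at h
      exact h
    rcases (Nat.dvd_prime (Fact.out : p.Prime)).mp hdvd with h1 | h1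
    · rw [hcardQ] at h1
      omega
    · exact (Subgroup.eq_of_le_of_card_ge hR (by rw [hRc, h1])).symm
  obtain ⟨R₁, hR₁⟩ := hSyl P₁ hP1
  obtain ⟨R₂, hR₂⟩ := hSyl P₂ hP2
  have hRne : R₁ ≠ R₂ := by
    intro heq
    apply hne
    apply Sylow.ext
    have h1 : (P₁ : Subgroup A).map ρ = (P₂ : Subgroup A).map ρ := by
      rw [← Subgroup.map_comap_eq_self (hle P₁), ← Subgroup.map_comap_eq_self (hle P₂),
        ← hR₁, ← hR₂, heq]
    exact Subgroup.map_injective hρ h1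
  have htop := sup_eq_top_of_sylow_ne p R₁ R₂ hRne
  have hmap : ((P₁ : Subgroup A) ⊔ (P₂ : Subgroup A)).map ρ =
      (Matrix.SpecialLinearGroup.toGL : Matrix.SpecialLinearGroup (Fin 2) (ZMod p) →* _).range := by
    rw [Subgroup.map_sup, ← Subgroup.map_comap_eq_self (hle P₁),
      ← Subgroup.map_comap_eq_self (hle P₂), ← hR₁, ← hR₂, ← Subgroup.map_sup, htop,
      ← MonoidHom.range_eq_map]
  have e1 : ↥((P₁ : Subgroup A) ⊔ (P₂ : Subgroup A)) ≃*
      ↥(((P₁ : Subgroup A) ⊔ (P₂ : Subgroup A)).map ρ) := Subgroup.equivMapOfInjective _ ρ hρ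
  have e2 : ↥(((P₁ : Subgroup A) ⊔ (P₂ : Subgroup A)).map ρ) ≃*
      ↥(Matrix.SpecialLinearGroup.toGL : Matrix.SpecialLinearGroup (Fin 2) (ZMod p) →* _).range :=
    MulEquiv.subgroupCongr hmap
  exact ⟨(e1.trans e2).trans (MonoidHom.ofInjective hιinj).symm⟩

end

end Cfsg.Agent.Lib.Helper27
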