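import Mathlib
import Cfsg.Agent.Lib.helper17.SL3.Defs
import Cfsg.Agent.Lib.helper17.SL3.Defs2
import Cfsg.Agent.Lib.helper15.SL3T12
import Cfsg.Agent.Lib.helper8.SL3K6
import Cfsg.Agent.Lib.Helper24.SL3C15
import Cfsg.Agent.Lib.helper17.SL3C17v
import Cfsg.Agent.Lib.Helper9.SL3C18
import Cfsg.Agent.Lib.Helper20.SL3D1
import Cfsg.Agent.Lib.Helper11.SL3D2
import Cfsg.Agent.Lib.Helper11.SL3D3
import Cfsg.Agent.Lib.helper2.SL3D4
import Cfsg.Agent.Lib.Helper26.SL3D5
import Cfsg.Agent.Lib.Helper28.SL3D6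
import Cfsg.Agent.Lib.Helper27.SL3D8core

/-!
# Project SL3 (designer helper17), row D8 (helper27): `rd_of_hyp`, verbatim

`rd_of_hyp := sl3d8_core` on the landed rows T12 (helper15), K6 (helper8), C15 (Helper24), C17 (helper17), C18 (Helper9),
D1 (Helper20), D2 D3 (Helper11), D4 (helper2), D5 (Helper26), D6 D7 (Helper28).
-/

set_option autoImplicit false

namespace Cfsg.Agent.Lib.helper17.SL3

open Cfsg.Agent.Lib.helper17.SLP
open Polynomial

universe u v

section D

variable {F : Type u} [Field F] [Fintype F] {G : Type v} [Group G]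

/-- D8 [M]  deps D1–D7 T12 K6 C15 C17 C18: assemble the structure. -/
theorem rd_of_hyp (ζ : Fˣ) (hζ : ∀ y : Fˣ, y ∈ Subgroup.zpowers ζ) (x : F → G) (d w c : G)
    (H : Hyp ζ x d w c) (hRx : Fintype.card F = 4 → relRx (x 1) d w c = 1)
    (hgen : Subgroup.closure {x 1, d, w, c} = ⊤) :
    RD (Fintype.card F) (TT d c) (RG x) (RG (x02 x w c)) (RG (x12 x c)) (RG (x10 x w)) (RG (x21 x w c))
      w (c * w * c⁻¹) := by
  have R := tor_table ζ hζ x d w c H
  have K := comm3_all ζ hζ x d w c H hRx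
  have W := wact ζ hζ x d w c H R K
  have S := stein ζ x d w c H K W
  exact sl3d8_core x d w c (T_card ζ hζ x d w c H).1 (rg_mem x H.add).2 (rg_mem _ R.add02).2
    (rg_mem _ R.add12).2 (rd_comm x w c H.add ζ d R S) (rd_tor ζ x d w c H.add R)
    (rd_weylT ζ hζ x d w c H) (rd_weylX x w c H.add ζ d R W) (rd_rank1 ζ hζ x d w c H)
    (rd_braid_gen ζ hζ x d w c H hgen)

end D

end Cfsg.Agent.Lib.helper17.SL3
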