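import Mathlib
import Cfsg.Agent.Lib.helper17.SL3.Defs
import Cfsg.Agent.Lib.helper17.SL3.Defs2
import Cfsg.Agent.Lib.helper8.SL3K6
import Cfsg.Agent.Lib.Helper20.SL3E10
import Cfsg.Agent.Lib.Helper27.SL3D8
import Cfsg.Agent.Lib.Helper27.SL3FIN1core

/-!
# Project SL3 (designer helper17), row FIN1 (helper27): `card_le_sl3`, verbatim

`card_le_sl3 := sl3fin1_core` on D8 (`rd_of_hyp`, Helper27), E10 (`rd_card`, Helper20) and K6 (`T_card`, helper8).
-/

set_option autoImplicit false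

namespace Cfsg.Agent.Lib.helper17.SL3

open Cfsg.Agent.Lib.helper17.SLP
open Polynomial

universe u v

/-- FIN1 [S-M]  deps D8 E10 K6: `Nat.card (TT d c) ≤ (q-1)²`. -/
theorem card_le_sl3 {F : Type u} [Field F] [Fintype F] (ζ : Fˣ) (hζ : ∀ y : Fˣ, y ∈ Subgroup.zpowers ζ)
    (G : Type) [Group G] (x : F → G) (d w c : G) (H : Hyp ζ x d w c)
    (hRx : Fintype.card F = 4 → relRx (x 1) d w c = 1)
    (hgen : Subgroup.closure {x 1, d, w, c} = ⊤) :
    Finite G ∧ Nat.card G ≤ (Fintype.card F - 1) ^ 2 * Fintype.card F ^ 3 *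
      (1 + 2 * Fintype.card F + 2 * Fintype.card F ^ 2 + Fintype.card F ^ 3) := by
  exact sl3fin1_core (TT d c) (Fintype.card F)
    (rd_card _ _ _ _ _ _ _ _ _ (rd_of_hyp ζ hζ x d w c H hRx hgen))
    (T_card ζ hζ x d w c H).2.1

end Cfsg.Agent.Lib.helper17.SL3
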