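import Mathlib
import Cfsg.Agent.Lib.helper17.SL3.Defs
import Cfsg.Agent.Lib.helper17.SL3.Defs2
import Cfsg.Agent.Lib.helper2.SL3T5
import Cfsg.Agent.Lib.Helper25.SL3T7
import Cfsg.Agent.Lib.Helper27.SL3T9
import Cfsg.Agent.Lib.Helper27.SL3T10core

/-!
# Project SL3 (designer helper17), row T10 (helper27): `act10`, verbatim

`act10 := sl3t10_core` on the landed T5 (`tor_w`, helper2), T7 (`wsq_comm`, Helper25) and T9 (`act01`, Helper27).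
-/

set_option autoImplicit false

namespace Cfsg.Agent.Lib.helper17.SL3

open Cfsg.Agent.Lib.helper17.SLP
open Polynomial

universe u v

section T

variable {F : Type u} [Field F] {G : Type v} [Group G]

/-- T10 [M]  deps T5 T7 T9.  `g * x10 t * g⁻¹ = w * ((w⁻¹ g w) * x (-t) * (w⁻¹ g w)⁻¹) * w⁻¹` with `w⁻¹ d w = d₃⁻¹`, `w⁻¹ d₂ w = d₂⁻¹`, `w⁻¹ d₃ w = d⁻¹`; `w * x10 t * w⁻¹ = w² x (-t) w⁻²`. -/
theorem act10 (ζ : Fˣ) (hζ : ∀ y : Fˣ, y ∈ Subgroup.zpowers ζ) (x : F → G) (d w c : G)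
    (H : Hyp ζ x d w c) :
    (∀ s t, x10 x w (s + t) = x10 x w s * x10 x w t) ∧ (∀ t, w * x10 x w t * w⁻¹ = x (-t)) ∧
      Act ζ d (x10 x w) (-1) ∧ Act ζ (d2 d c) (x10 x w) 2 ∧ Act ζ (d3 d c) (x10 x w) (-1) := by
  exact sl3t10_core ζ x d w c H (tor_w ζ x d w c H).2.2.2 (wsq_comm ζ hζ x d w c H).2
    (act01 ζ hζ x d w c H)

end T

end Cfsg.Agent.Lib.helper17.SL3
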