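import Mathlib
import Cfsg.Agent.Lib.Helper10.SLB.Defs
import Cfsg.Agent.Lib.Helper27.SLBG08core
import Cfsg.Agent.Lib.Helper13.SLBG05
import Cfsg.Agent.Lib.Helper13.SLBG06

/-! Project SLB (helper10), row G08: at most one block of defect zero. -/

set_option autoImplicit false

namespace Cfsg.Agent.Lib.Helper10.SLB

/-- G08 -/
theorem defect_zero_le_one {G : Type*} [Group G] [Finite G] (p : ℕ) [Fact p.Prime]
    (M : Ideal Cfsg.AlgInt) (hM : Cfsg.IsPModular p M) (S : Sylow p G)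
    (h : ∀ C C' : ConjClasses G, Good p C → Good p C' → ∀ g : G,
      cnt (S : Subgroup G) C.carrier g ≡ cnt (S : Subgroup G) C'.carrier g [MOD p]) :
    Nat.card {B : Set (Cfsg.IrrCharacter G) // Cfsg.IsPBlock M B ∧
      Cfsg.IsDefectGroup p M B (⊥ : Subgroup G)} ≤ 1 := by
  haveI : Fintype G := Fintype.ofFinite G
  exact slbg08_core p
    (fun S K₁ K₂ K₁' K₂' h1 h2 h1' h2' e1 e2 => omega_congr p S K₁ K₂ K₁' K₂' h1 h2 h1' h2' e1 e2)
    (fun C hC => good_adm p C hC) M hM S h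

end Cfsg.Agent.Lib.Helper10.SLB
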