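import Cfsg.Agent.Lib.helper2.SLMD5
import Cfsg.Agent.Lib.Helper25.SLMD3
import Cfsg.Agent.Lib.Lead.SLMF2
import Cfsg.Agent.Lib.Helper24.SLMA9
import Cfsg.Agent.Lib.Helper11.SLMD1
import Cfsg.Agent.Lib.helper2.CharNat
import Cfsg.Agent.Lib.helper2.CharInd
import Cfsg.Agent.Lib.Lead.SLn

/-! Project SLM (S2332), piece F3 : the case `(n, q) = (5, 2)`. -/

set_option autoImplicit false
set_option linter.unusedSectionVars false
set_option linter.unusedVariables false

namespace Cfsg.Agent.Lib.helper15.SLM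

open Matrix Cfsg.Agent.Lib.helper2

section h27aux

/-- endomorphisms of a coordinate space of dimension at most one commute -/
theorem h27_end_comm {n : ℕ} (hn : n ≤ 1) (A B : Module.End ℂ (Fin n → ℂ)) : A * B = B * A := by
  interval_cases n
  · apply LinearMap.ext
    intro v
    funext i
    exact i.elim0
  · have key : ∀ (A : Module.End ℂ (Fin 1 → ℂ)) (v : Fin 1 → ℂ),
        A v = (A (fun _ => 1) 0) • v := by
      intro A v
      have hv : v = (v 0) • (fun _ => (1 : ℂ)) := by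
        ext i
        fin_cases i
        simp
      conv_lhs => rw [hv, map_smul]
      ext i
      fin_cases i
      simp [mul_comm]
    apply LinearMap.ext
    intro v
    funext i
    show A (B v) i = B (A v) i
    rw [key A (B v), key B v, key B (A v), key A v]
    simp only [Pi.smul_apply, smul_eq_mul]
    ring

/-- a representation of dimension at most one of a perfect group is trivial -/
theorem h27_trivial_of_perfect {G : Type*} [Group G] (hperf : commutator G = ⊤) {n : ℕ}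
    (hn : n ≤ 1) (τ : Representation ℂ G (Fin n → ℂ)) (g : G) : τ g = 1 := by
  have h1 : (⊤ : Subgroup G) ≤ MonoidHom.ker τ := by
    rw [← hperf, commutator_def, Subgroup.commutator_le]
    intro a _ b _
    rw [MonoidHom.mem_ker, commutatorElement_def]
    calc τ (a * b * a⁻¹ * b⁻¹) = τ a * τ b * τ a⁻¹ * τ b⁻¹ := by simp only [map_mul]
      _ = τ b * τ a * τ a⁻¹ * τ b⁻¹ := by rw [h27_end_comm hn (τ a) (τ b)]
      _ = τ (b * a * a⁻¹ * b⁻¹) := by simp only [map_mul]
      _ = 1 := by simp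
  exact MonoidHom.mem_ker.mp (h1 (Subgroup.mem_top g))

/-- a nonzero multiplicity of the trivial character gives a nonzero fixed vector -/
theorem h27_exists_fixed {G : Type*} [Group G] [Fintype G] {W : Type*} [AddCommGroup W]
    [Module ℂ W] [FiniteDimensional ℂ W] (σ : Representation ℂ G W)
    (h : Cfsg.classInner σ.character (fun _ => (1 : ℂ)) ≠ 0) :
    ∃ v : W, v ≠ 0 ∧ ∀ g, σ g v = v := by
  have : Invertible (Fintype.card G : ℂ) :=
    invertibleOfNonzero (by exact_mod_cast Fintype.card_ne_zero)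
  have h1 : LinearMap.trace ℂ W σ.averageMap = (Module.finrank ℂ σ.invariants : ℂ) :=
    (Representation.isProj_averageMap σ).trace
  have h2 : LinearMap.trace ℂ W σ.averageMap = Cfsg.classInner σ.character (fun _ => (1 : ℂ)) := by
    simp [Representation.averageMap, GroupAlgebra.average, map_sum, Cfsg.classInner,
      Representation.character, Finset.mul_sum]
  have h3 : 0 < Module.finrank ℂ σ.invariants := by
    rcases Nat.eq_zero_or_pos (Module.finrank ℂ σ.invariants) with h0 | h0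
    · exfalso
      apply h
      rw [← h2, h1, h0]
      simp
    · exact h0
  obtain ⟨v, hv⟩ := Module.finrank_pos_iff_exists_ne_zero.mp h3
  refine ⟨(v : W), fun h0 => hv (Subtype.ext h0), fun g => v.2 g⟩

theorem h27_arith_five_two (b : ℕ) (h7 : 7 ≤ b) (h14 : b ≤ 14)
    (hdvd : 2 ^ 4 - 1 + b ∣ ((2 ^ (4 + 1) - 1) * (2 ^ 4 - 1) / (2 - 1)) * (b - 1)) : b = 9 := by
  revert hdvd
  interval_cases b <;> decide

end h27aux

section Fsec

variable {F : Type*} [Field F] [Fintype F] [DecidableEq F]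
  {κ' : Type*} [Fintype κ'] [DecidableEq κ']
  {V : Type*} [AddCommGroup V] [Module ℂ V] [FiniteDimensional ℂ V]

/-- the degree of an irreducible character, with a representation affording it -/
theorem h27_irr_data {G : Type*} [Group G] (χ : Cfsg.IrrCharacter G) :
    ∃ (n : ℕ) (τ : Representation ℂ G (Fin n → ℂ)), τ.IsIrreducible ∧ τ.character = (χ : G → ℂ) ∧
      (χ : G → ℂ) 1 = (n : ℂ) := by
  obtain ⟨n, τ, hτ, hχ⟩ := χ.2
  refine ⟨n, τ, hτ, hχ, ?_⟩
  rw [← hχ, Representation.char_one]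
  simp

/-- F3 : the case (5,2) -/
theorem case_five_two (hq : Fintype.card F = 2) (hm' : Fintype.card κ' = 3)
    (χ₀ : AddChar F ℂ) (hχ₀ : χ₀.IsPrimitive)
    (ρ : Representation ℂ (SpecialLinearGroup (Unit ⊕ (Unit ⊕ κ')) F) V) (hirr : ρ.IsIrreducible)
    (b : ℕ) (hk : Module.finrank ℂ V = 2 ^ 4 - 1 + b)
    (hb : Module.finrank ℂ (fixSp ρ xQ) = b)
    (hc : ∀ u : Unit ⊕ κ' → F, u ≠ 0 → ρ.character (xQ u) = (b : ℂ) - 1)
    (htr : ∀ (y η : Unit ⊕ κ' → F) (h : η ⬝ᵥ y = 0), y ≠ 0 → η ≠ 0 →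
      LinearMap.trace ℂ V (ρ (dSL (tv y η h)) * eIdem χ₀ ρ xQ 0) = (b : ℂ) - (2 : ℂ) ^ 3) :
    15 ≤ b := by
  classical
  by_contra hlt
  have hlt' : b ≤ 14 := by omega
  have hcard4 : Fintype.card (Unit ⊕ κ') = 4 := by
    rw [Fintype.card_sum, hm']
    rfl
  have hperf : commutator (SpecialLinearGroup (Unit ⊕ κ') F) = ⊤ :=
    Cfsg.Agent.Lib.Lead.SL_commutator_eq_top (by omega)
  -- the representation on the fixed space
  set σ : Representation ℂ (SpecialLinearGroup (Unit ⊕ κ') F) ↥(fixSp ρ xQ) :=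
    resFix ρ xQ dSL (fun h u => dSL_normalizes h u) with hσ
  have hσchar : ∀ h : SpecialLinearGroup (Unit ⊕ κ') F,
      σ.character h = LinearMap.trace ℂ V (ρ (dSL h) * eIdem χ₀ ρ xQ 0) := fun h =>
    resFix_character χ₀ hχ₀ ρ xQ (fun u u' => xQ_add u u') dSL _ h
  have hσ1 : σ.character 1 = (b : ℂ) := by rw [Representation.char_one, hb]
  -- a transvection of the Levi
  obtain ⟨k0⟩ : Nonempty κ' := by
    rw [← Fintype.card_pos_iff, hm']
    norm_num
  set y : Unit ⊕ κ' → F := Pi.single (Sum.inl ()) 1 with hy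
  set η : Unit ⊕ κ' → F := Pi.single (Sum.inr k0) 1 with hη
  have h0 : η ⬝ᵥ y = 0 := by
    rw [hη, hy, single_dotProduct, Pi.single_eq_of_ne (by simp), mul_zero]
  have hy0 : y ≠ 0 := by
    intro h
    have := congrFun h (Sum.inl ())
    simp [hy] at this
  have hη0 : η ≠ 0 := by
    intro h
    have := congrFun h (Sum.inr k0)
    simp [hη] at this
  set t' : SpecialLinearGroup (Unit ⊕ κ') F := tv y η h0 with ht'
  have hσt : σ.character t' = (b : ℂ) - 8 := by
    rw [hσchar, htr y η h0 hy0 hη0]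
    norm_num
  have : Fintype (Cfsg.IrrCharacter (SpecialLinearGroup (Unit ⊕ κ') F)) := Fintype.ofFinite _
  have hψ : Cfsg.IsCharacter _ σ.character := isCharacter_of_rep σ
  obtain ⟨mm, hmm, hexp⟩ := isCharacter_expansion hψ
  choose d τ hτirr hτχ hd using
    (fun χ : Cfsg.IrrCharacter (SpecialLinearGroup (Unit ⊕ κ') F) => h27_irr_data χ)
  have hfr : ∀ χ, Module.finrank ℂ (Fin (d χ) → ℂ) = d χ := fun χ => Module.finrank_fin_fun ℂ
  have hE : ∀ g, σ.character g = ∑ χ, (mm χ : ℂ) * (χ : SpecialLinearGroup (Unit ⊕ κ') F → ℂ) g := by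
    intro g
    have := congrFun hexp g
    simpa [Finset.sum_apply, Pi.smul_apply, smul_eq_mul] using this
  -- some constituent is moved by the transvection
  have hex1 : ∃ χ₁, mm χ₁ ≠ 0 ∧ (χ₁ : SpecialLinearGroup (Unit ⊕ κ') F → ℂ) t' ≠ (χ₁ : SpecialLinearGroup (Unit ⊕ κ') F → ℂ) 1 := by
    by_contra hcon
    have hcon' : ∀ χ, mm χ ≠ 0 → (χ : SpecialLinearGroup (Unit ⊕ κ') F → ℂ) t' = (χ : SpecialLinearGroup (Unit ⊕ κ') F → ℂ) 1 := by
      intro χ h
      by_contra h2
      exact hcon ⟨χ, h, h2⟩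
    have h1 : σ.character t' = σ.character 1 := by
      rw [hE, hE]
      refine Finset.sum_congr rfl fun χ _ => ?_
      by_cases h : mm χ = 0
      · simp [h]
      · rw [hcon' χ h]
    rw [hσt, hσ1] at h1
    have : (8 : ℂ) = 0 := by linear_combination -h1
    norm_num at this
  obtain ⟨χ₁, hm1, hmove⟩ := hex1
  -- trivial on small degree
  have htriv : ∀ χ, d χ ≤ 1 → ∀ g, (χ : SpecialLinearGroup (Unit ⊕ κ') F → ℂ) g = (χ : SpecialLinearGroup (Unit ⊕ κ') F → ℂ) 1 := by
    intro χ hle g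
    rw [← hτχ χ]
    show LinearMap.trace _ _ ((τ χ) g) = LinearMap.trace _ _ ((τ χ) 1)
    rw [h27_trivial_of_perfect hperf hle (τ χ) g, h27_trivial_of_perfect hperf hle (τ χ) 1]
  have hd1 : 2 ≤ d χ₁ := by
    by_contra hlt1
    exact hmove (htriv χ₁ (by omega) t')
  have hle1 : mm χ₁ * d χ₁ ≤ b :=
    isCharacter_degree_ge hψ χ₁ (mm χ₁) b (d χ₁) (hmm χ₁) hσ1 (hd χ₁)
  have hD3 : ∀ χ, 2 ≤ d χ → 14 ≤ d χ ∨ ∃ b₁ : ℕ, d χ = 7 + b₁ ∧
      ∀ u : κ' → F, u ≠ 0 → (τ χ).character (xQ u) = (b₁ : ℂ) - 1 := by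
    intro χ h2
    have := thin_or_big 2 3 hq hm' (by norm_num) (τ χ) (hτirr χ) (by rw [hfr]; exact h2)
    rw [hfr] at this
    rcases this with h | ⟨b₁, h, -, h3⟩
    · left
      norm_num at h
      exact h
    · right
      refine ⟨b₁, ?_, h3⟩
      norm_num at h
      exact h
  have hmpos : 1 ≤ mm χ₁ := Nat.one_le_iff_ne_zero.mpr hm1
  have hd7 : 7 ≤ d χ₁ := by
    rcases hD3 χ₁ hd1 with h | ⟨b₁, h, -⟩ <;> omega
  have hb7 : 7 ≤ b := by nlinarith
  have hint := thin_integrality 2 4 hq hcard4 (by norm_num) ρ hirr b (by omega) hc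
  rw [hk] at hint
  have hb9 : b = 9 := h27_arith_five_two b hb7 hlt' hint
  -- the sum of the degrees
  have hsum : ∑ χ, mm χ * d χ = b := by
    have h1 := hE 1
    rw [hσ1] at h1
    have h2 : (b : ℂ) = ((∑ χ, mm χ * d χ : ℕ) : ℂ) := by
      rw [h1]
      push_cast
      refine Finset.sum_congr rfl fun χ _ => ?_
      rw [hd χ]
    exact_mod_cast h2.symm
  have hd9 : d χ₁ ≤ 9 := by nlinarith
  rcases hD3 χ₁ hd1 with h14 | ⟨b₁, hdb, hc₁⟩
  · omega
  · rcases Nat.lt_or_ge (d χ₁) 9 with hlt9 | hge9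
    · -- a second constituent, necessarily trivial
      have hm1' : mm χ₁ = 1 := by nlinarith
      have hsplit := Finset.add_sum_erase Finset.univ (fun χ => mm χ * d χ) (Finset.mem_univ χ₁)
      rw [hsum, hm1', one_mul] at hsplit
      have hrest : ∑ χ ∈ Finset.univ.erase χ₁, mm χ * d χ = b - d χ₁ := by omega
      have hrest0 : ∑ χ ∈ Finset.univ.erase χ₁, mm χ * d χ ≠ 0 := by omega
      obtain ⟨χ₂, hmem2, hne2⟩ := Finset.exists_ne_zero_of_sum_ne_zero hrest0
      have hle2 : mm χ₂ * d χ₂ ≤ b - d χ₁ := by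
        rw [← hrest]
        exact Finset.single_le_sum (f := fun χ => mm χ * d χ) (fun _ _ => Nat.zero_le _) hmem2
      have hm2 : mm χ₂ ≠ 0 := fun h => hne2 (by rw [h, zero_mul])
      have hd2pos : d χ₂ ≠ 0 := fun h => hne2 (by rw [h, mul_zero])
      have hd2le : d χ₂ ≤ 2 := by
        have : 1 ≤ mm χ₂ := Nat.one_le_iff_ne_zero.mpr hm2
        nlinarith
      have hd2 : d χ₂ = 1 := by
        rcases Nat.lt_or_ge (d χ₂) 2 with h | h
        · omega
        · rcases hD3 χ₂ h with h' | ⟨b₂, h', -⟩ <;> omega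
      have hχ₂ : (χ₂ : SpecialLinearGroup (Unit ⊕ κ') F → ℂ) = fun _ => (1 : ℂ) := by
        funext g
        rw [htriv χ₂ (by omega) g, hd χ₂, hd2]
        simp
      have hin : Cfsg.classInner σ.character (fun _ => (1 : ℂ)) ≠ 0 := by
        rw [← hχ₂, hmm χ₂]
        exact_mod_cast hm2
      obtain ⟨v, hv0, hvfix⟩ := h27_exists_fixed σ hin
      have hF2 := fixed_vector_two hq 4 hcard4 (by norm_num) ρ hirr (v : V)
        (fun h => hv0 (Subtype.ext h)) (fun u => v.2 u)
        (fun A => by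
          have := congrArg Subtype.val (hvfix A)
          rwa [hσ, resFix_apply] at this)
      rw [hk, hb9] at hF2
      norm_num at hF2
    · -- `W` is irreducible thin of degree `9 = 7 + 2`
      have hd9' : d χ₁ = 9 := by omega
      have hb₁ : b₁ = 2 := by omega
      subst hb₁
      have := thin_integrality 2 3 hq hm' (by norm_num) (τ χ₁) (hτirr χ₁) 2 (by norm_num) hc₁
      rw [hfr, hd9'] at this
      norm_num at this

end Fsec

end Cfsg.Agent.Lib.helper15.SLM
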