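import Mathlib
import Cfsg.Agent.Lib.Helper19.SO8.Defs
import Cfsg.Agent.Lib.Helper24.SO8C6

set_option autoImplicit false

/-!
# Project SO8, row PEEL1 (helper27, SPARE copy; the verbatim `peel_one` is Helper20.SO8PEEL1): peeling the full (even) power of `X + 1` off a self-reciprocal polynomial of
even degree in characteristic 2.
-/

namespace Cfsg.Agent.Lib.Helper19.SO8

open Polynomial Cfsg.Agent.Lib.Helper13.OTS

/-- `reverse` commutes with powers over a field. -/
theorem so8peel1_reverse_pow {F : Type*} [Field F] (f : F[X]) (n : ℕ) :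
    (f ^ n).reverse = f.reverse ^ n := by
  induction n with
  | zero => rw [pow_zero, pow_zero, ← C_1, reverse_C]
  | succ n ih => rw [pow_succ, reverse_mul_of_domain, ih, pow_succ]

/-- in characteristic 2, `X + 1 = X - C 1` -/
theorem so8peel1_X_add_one {F : Type*} [Field F] [CharP F 2] : (X + 1 : F[X]) = X - C 1 := by
  rw [C_1]
  exact (CharTwo.sub_eq_add _ _).symm

/-- `X + 1` is self-reciprocal -/
theorem so8peel1_reverse_X_add_one {F : Type*} [Field F] : (X + 1 : F[X]).reverse = X + 1 := by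
  have h : (X + 1 : F[X]) = X + C 1 := by rw [C_1]
  rw [h, reverse_add_C, natDegree_X, pow_one]
  have hX : (X : F[X]).reverse = 1 := by
    have := reverse_mul_X (1 : F[X])
    rw [one_mul] at this
    rw [this, ← C_1, reverse_C]
  rw [hX, C_1, one_mul, add_comm]

/-- `X + 1` is irreducible -/
theorem so8peel1_irreducible {F : Type*} [Field F] : Irreducible (X + 1 : F[X]) := by
  have h : (X + 1 : F[X]) = X + C 1 := by rw [C_1]
  rw [h]
  exact irreducible_of_degree_eq_one (degree_X_add_C 1)

/-- PEEL1 [M] -/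
theorem peel_one_h27 {F : Type*} [Field F] [CharP F 2] (χ : F[X]) (hχ : χ ≠ 0) (hr : χ.reverse = χ)
    (hev : Even χ.natDegree) :
    ∃ (k : ℕ) (g : F[X]), χ = (X + 1) ^ (2 * k) * g ∧ g.eval 1 ≠ 0 ∧ g.reverse = g := by
  have hirr : Irreducible (X + 1 : F[X]) := so8peel1_irreducible
  obtain ⟨j, g, hndvd, hχg⟩ := WfDvdMonoid.max_power_factor hχ hirr
  have hg1 : g.eval 1 ≠ 0 := by
    intro h
    apply hndvd
    rw [so8peel1_X_add_one, dvd_iff_isRoot]
    exact h
  have hgr : g.reverse = g := by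
    have h1 : χ.reverse = (X + 1) ^ j * g.reverse := by
      conv_lhs => rw [hχg]
      rw [reverse_mul_of_domain, so8peel1_reverse_pow, so8peel1_reverse_X_add_one]
    rw [hr] at h1
    have h2 : (X + 1 : F[X]) ^ j * g.reverse = (X + 1) ^ j * g := by rw [← h1, ← hχg]
    exact mul_left_cancel₀ (pow_ne_zero _ hirr.ne_zero) h2
  have hg0 : g ≠ 0 := by
    rintro rfl
    exact hg1 (by simp)
  have hgev : Even g.natDegree := selfrec_even g hgr hg1
  have hdeg : χ.natDegree = j + g.natDegree := by
    have hX1 : (X + 1 : F[X]).natDegree = 1 := by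
      have h : (X + 1 : F[X]) = X + C 1 := by rw [C_1]
      rw [h, natDegree_X_add_C]
    rw [hχg, natDegree_mul (pow_ne_zero _ hirr.ne_zero) hg0, natDegree_pow, hX1, mul_one]
  have hjev : Even j := by
    rw [hdeg] at hev
    exact (Nat.even_add.mp hev).mpr hgev
  obtain ⟨k, hk⟩ := hjev
  refine ⟨k, g, ?_, hg1, hgr⟩
  rw [hχg, hk, two_mul]

end Cfsg.Agent.Lib.Helper19.SO8
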