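import Mathlib
import Cfsg.Agent.Lib.helper7.SPC.Defs

set_option autoImplicit false

/-!
# Project SPC, row I3 (helper27): associativity, commutativity and the unit of `TSum`, up to `TIso`.
-/

namespace Cfsg.Agent.Lib.helper7.SPC

universe u

open Module

variable {F : Type u} [Field F]

theorem TSum_assoc (T₁ T₂ T₃ : Trip F) : TIso (TSum (TSum T₁ T₂) T₃) (TSum T₁ (TSum T₂ T₃)) := by
  refine ⟨LinearEquiv.prodAssoc F T₁.V T₂.V T₃.V, ?_, ?_⟩
  · intro x y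
    change T₁.B x.1.1 y.1.1 + (T₂.B x.1.2 y.1.2 + T₃.B x.2 y.2) =
      T₁.B x.1.1 y.1.1 + T₂.B x.1.2 y.1.2 + T₃.B x.2 y.2
    rw [add_assoc]
  · intro x
    rfl

theorem TSum_comm (T₁ T₂ : Trip F) : TIso (TSum T₁ T₂) (TSum T₂ T₁) := by
  refine ⟨LinearEquiv.prodComm F T₁.V T₂.V, ?_, ?_⟩
  · intro x y
    change T₂.B x.2 y.2 + T₁.B x.1 y.1 = T₁.B x.1 y.1 + T₂.B x.2 y.2
    rw [add_comm]
  · intro x
    rfl

theorem TSum_zero (T : Trip F) : TIso (TSum T (TZero F)) T := by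
  refine ⟨(LinearEquiv.prodUnique : (T.V × PUnit.{u + 1}) ≃ₗ[F] T.V), ?_, ?_⟩
  · intro x y
    exact (add_zero _).symm
  · intro x
    rfl

end Cfsg.Agent.Lib.helper7.SPC
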