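import Mathlib
import Cfsg.Prelude.Def_GeometricClasses
import Cfsg.Agent.Lib.Lead.SPU.Defs
import Cfsg.Agent.Lib.Helper11.SPUUNIV3
import Cfsg.Agent.Lib.Helper27.SPUEXcore

set_option autoImplicit false
set_option linter.unusedVariables false
set_option linter.unusedSectionVars false

/-!
# Project SPU (leader: lead) -> S5665 : piece EXZ (helper27), verbatim vs `Lead/SPU/Skel.lean.txt`
-/

namespace Cfsg.Agent.Lib.Lead.SPU

open Matrix Cfsg.Agent.S5646 Cfsg.Agent.S5647 Cfsg.Agent.Lib.Helper28.SpPair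

variable {m : ℕ} {F : Type*} [Field F] {j j1 : Matrix (Fin m ⊕ Fin m) (Fin m ⊕ Fin m) F} {c0 : F}
  {M : Subgroup (Matrix.GeneralLinearGroup (Fin m ⊕ Fin m) F)}

/-- EXZ [M-L] : the transvection vector of STEP2.
(`v' := v0 - (proj of v0 on K u0) ≠ 0`, `v' ⊥_h u0`, `h (z, v0) = h (z, v')` for `z ⊥_h u0`.  If `Qj v' ≠ 0` : `z := v' + t`, `t ⊥_h u0, v'`, `Qj t = - Qj v'`.
If `Qj v' = 0` : `y' ⊥_h u0` with `B (y', v') ≠ 0`, `z := y' - (Qj y' / (2 B (y', v'))) v'`.) -/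
theorem exz [Fintype F] (hm : 7 ≤ m) (hJ : JS j c0) (u0 v0 : Fin m ⊕ Fin m → F) (hu : Qj j u0 ≠ 0)
    (hv : v0 ∉ Klj j u0) :
    ∃ z : Fin m ⊕ Fin m → F, Qj j z = 0 ∧ HOj j z u0 ∧
      (Cfsg.sympForm m F v0 z ≠ 0 ∨ Cfsg.sympForm m F v0 (j *ᵥ z) ≠ 0) :=
  spuex_exz_core hJ (univ3 hm hJ) u0 v0 hu hv

end Cfsg.Agent.Lib.Lead.SPU
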