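import Mathlib

/-!
# Project SQD (designer helper14), row TF2 (helper27): `card_ge_of_chain`, verbatim (Mathlib only)

Counting along a descending chain of subgroups `V 0 ≥ V 1 ≥ …`: if for `J` different levels `lv j` there is a family
`g j : ι → T ⊓ V (lv j)` whose members lie in different cosets of `V (lv j + 1)`, then `|ι| ^ J ≤ |T|`.
-/

set_option autoImplicit false

namespace Cfsg.Agent.Lib.helper14.SQD

universe u v

theorem sqdtf2_finite {G : Type u} [Group G] (T : Subgroup G) [Finite T] (W : Subgroup G) :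
    Finite ↥(T ⊓ W) :=
  Finite.of_injective (Subgroup.inclusion (inf_le_left : T ⊓ W ≤ T)) (Subgroup.inclusion_injective _)

theorem sqdtf2_step_le {G : Type u} [Group G] (T : Subgroup G) [Finite T] (V : ℕ → Subgroup G)
    (hV : ∀ i, V (i + 1) ≤ V i) (i : ℕ) :
    Nat.card ↥(T ⊓ V (i + 1)) ≤ Nat.card ↥(T ⊓ V i) := by
  haveI : Finite ↥(T ⊓ V i) := sqdtf2_finite T (V i)
  exact Subgroup.card_le_of_le (inf_le_inf_left T (hV i))

theorem sqdtf2_step_mul {G : Type u} [Group G] (T : Subgroup G) [Finite T] (V : ℕ → Subgroup G)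
    {ι : Type v} [Finite ι] (i : ℕ) (γ : ι → G) (hγ : ∀ a, γ a ∈ T ∧ γ a ∈ V i)
    (hV : V (i + 1) ≤ V i) (hsep : ∀ a b, (γ a)⁻¹ * γ b ∈ V (i + 1) → a = b) :
    Nat.card ι * Nat.card ↥(T ⊓ V (i + 1)) ≤ Nat.card ↥(T ⊓ V i) := by
  haveI : Finite ↥(T ⊓ V i) := sqdtf2_finite T (V i)
  rw [← Nat.card_prod]
  let F : ι × ↥(T ⊓ V (i + 1)) → ↥(T ⊓ V i) := fun p =>
    ⟨γ p.1 * p.2.1, ⟨T.mul_mem (hγ p.1).1 p.2.2.1, (V i).mul_mem (hγ p.1).2 (hV p.2.2.2)⟩⟩
  apply Nat.card_le_card_of_injective F
  rintro ⟨a, x⟩ ⟨b, y⟩ h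
  have h' : γ a * x.1 = γ b * y.1 := congrArg Subtype.val h
  have hab : a = b := by
    apply hsep
    have e : (γ a)⁻¹ * γ b = x.1 * y.1⁻¹ := by
      rw [inv_mul_eq_iff_eq_mul, ← mul_assoc, h', mul_assoc, mul_inv_cancel, mul_one]
    rw [e]
    exact (V (i + 1)).mul_mem x.2.2 ((V (i + 1)).inv_mem y.2.2)
  subst hab
  have hxy : x.1 = y.1 := mul_left_cancel h'
  exact Prod.ext rfl (Subtype.ext hxy)

/-- TF2 [M] LEAF (Mathlib only). Counting along a descending chain.  Put `c i = Nat.card ↥(T ⊓ V i)`.  `c (i + 1) ≤ c i`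
always, and `Nat.card ι * c (i + 1) ≤ c i` if `i = lv j`, `j < J`: the map `(a, x) ↦ g j a * x` from `ι × ↥(T ⊓ V (i + 1))` to
`↥(T ⊓ V i)` is injective (`g j a * x = g j b * y` gives `(g j a)⁻¹ * g j b = x * y⁻¹ ∈ V (i + 1)`, so `a = b`, then `x = y`).
Downward induction on `i` (from `i` above all `lv j`): `Nat.card ι ^ (number of j < J with i ≤ lv j) ≤ c i`; at `i = 0` the
number is `J` and `c 0 ≤ Nat.card T`. -/
theorem card_ge_of_chain {G : Type u} [Group G] (T : Subgroup G) [Finite T] (V : ℕ → Subgroup G)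
    (hV : ∀ i, V (i + 1) ≤ V i) {ι : Type v} [Finite ι] (J : ℕ) (lv : ℕ → ℕ)
    (hlv : ∀ j < J, ∀ j' < J, lv j = lv j' → j = j') (g : ℕ → ι → G)
    (hg : ∀ j < J, ∀ a, g j a ∈ T ∧ g j a ∈ V (lv j))
    (hsep : ∀ j < J, ∀ a b, (g j a)⁻¹ * g j b ∈ V (lv j + 1) → a = b) :
    Nat.card ι ^ J ≤ Nat.card T := by
  classical
  have key : ∀ n i, (∀ j < J, lv j < i + n) →
      Nat.card ι ^ ((Finset.range J).filter (fun j => i ≤ lv j)).card ≤ Nat.card ↥(T ⊓ V i) := by
    intro n
    induction n with
    | zero =>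
      intro i h
      have h0 : ((Finset.range J).filter (fun j => i ≤ lv j)).card = 0 := by
        rw [Finset.card_eq_zero, Finset.filter_eq_empty_iff]
        intro j hj
        have := h j (Finset.mem_range.1 hj)
        omega
      rw [h0, pow_zero]
      haveI : Finite ↥(T ⊓ V i) := sqdtf2_finite T (V i)
      exact Nat.card_pos
    | succ n ih =>
      intro i h
      have ih' := ih (i + 1) (fun j hj => by have := h j hj; omega)
      by_cases hex : ∃ j < J, lv j = i
      · obtain ⟨j0, hj0, hl⟩ := hex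
        subst hl
        have hset : (Finset.range J).filter (fun j => lv j0 ≤ lv j) =
            insert j0 ((Finset.range J).filter (fun j => lv j0 + 1 ≤ lv j)) := by
          ext j
          simp only [Finset.mem_filter, Finset.mem_range, Finset.mem_insert]
          constructor
          · rintro ⟨hj, hle⟩
            by_cases e : lv j = lv j0
            · left
              exact hlv j hj j0 hj0 e
            · right
              exact ⟨hj, by omega⟩
          · rintro (rfl | ⟨hj, hle⟩)
            · exact ⟨hj0, le_refl _⟩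
            · exact ⟨hj, by omega⟩
        have hnot : j0 ∉ (Finset.range J).filter (fun j => lv j0 + 1 ≤ lv j) := by
          simp only [Finset.mem_filter, Finset.mem_range, not_and]
          intro _
          omega
        rw [hset, Finset.card_insert_of_notMem hnot, pow_succ, mul_comm]
        calc Nat.card ι * Nat.card ι ^ ((Finset.range J).filter (fun j => lv j0 + 1 ≤ lv j)).card
            ≤ Nat.card ι * Nat.card ↥(T ⊓ V (lv j0 + 1)) := Nat.mul_le_mul_left _ ih'
          _ ≤ Nat.card ↥(T ⊓ V (lv j0)) :=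
            sqdtf2_step_mul T V (lv j0) (g j0) (hg j0 hj0) (hV (lv j0)) (hsep j0 hj0)
      · have hset : (Finset.range J).filter (fun j => i ≤ lv j) =
            (Finset.range J).filter (fun j => i + 1 ≤ lv j) := by
          ext j
          simp only [Finset.mem_filter, Finset.mem_range]
          constructor
          · rintro ⟨hj, hle⟩
            refine ⟨hj, ?_⟩
            have : lv j ≠ i := fun e => hex ⟨j, hj, e⟩
            omega
          · rintro ⟨hj, hle⟩
            exact ⟨hj, by omega⟩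
        rw [hset]
        exact ih'.trans (sqdtf2_step_le T V hV i)
  obtain ⟨M, hM⟩ : ∃ M, ∀ j < J, lv j < M :=
    ⟨(Finset.range J).sup lv + 1, fun j hj =>
      Nat.lt_succ_of_le (Finset.le_sup (f := lv) (Finset.mem_range.2 hj))⟩
  have h0 := key M 0 (fun j hj => by simpa using hM j hj)
  have hN0 : ((Finset.range J).filter (fun j => 0 ≤ lv j)).card = J := by
    simp
  rw [hN0] at h0
  exact h0.trans (Subgroup.card_le_of_le inf_le_left)

end Cfsg.Agent.Lib.helper14.SQD
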