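import Mathlib
import Cfsg.Agent.Lib.helper14.SQD.DefsTF

/-!
# Project SQD (designer helper14), row TF4 core (helper27): conjugates of `h8tfPair` / `h8tfCls` by `n_w`

`sqdtf4_pair_core`, `sqdtf4_cls_core`: the statements of TF4a / TF4b with the statement of TF3 (`nWU_conj_char2`) as a
hypothesis.  The verbatim wrappers `conj_pair`, `conj_cls` land when TF3 is on main.
-/

set_option autoImplicit false

namespace Cfsg.Agent.Lib.helper14.SQD

open Cfsg Cfsg.Lie Cfsg.Lie.ChevalleyDatum Cfsg.Agent.Lib.helper8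

universe u v

/-- TF4a core. -/
theorem sqdtf4_pair_core {K : Type u} [Field K] {hB : H8Base.{u} chevF4} (R : H8TF K hB) (w : List ℕ)
    (hT3 : ∀ (s : ℕ), s < chevF4.nroots → ∀ t : K,
      (h8nWU chevF4 hB w : GL chevF4.Idx K) * h8xU chevF4 hB s t * (h8nWU chevF4 hB w : GL chevF4.Idx K)⁻¹ =
        h8xU chevF4 hB (h8sW chevF4 w s) t) (t : K) :
    (h8nWU chevF4 hB w : GL chevF4.Idx K) * h8tfPair R 33 24 t * (h8nWU chevF4 hB w : GL chevF4.Idx K)⁻¹ =
      h8xU chevF4 hB (h8sW chevF4 w 33) (R.f t) * h8xU chevF4 hB (h8sW chevF4 w 24) t := by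
  unfold h8tfPair
  rw [← hT3 33 (by decide) (R.f t), ← hT3 24 (by decide) t]
  group

/-- TF4b core. -/
theorem sqdtf4_cls_core {K : Type u} [Field K] {hB : H8Base.{u} chevF4} (R : H8TF K hB) (w : List ℕ)
    (hT3 : ∀ (s : ℕ), s < chevF4.nroots → ∀ t : K,
      (h8nWU chevF4 hB w : GL chevF4.Idx K) * h8xU chevF4 hB s t * (h8nWU chevF4 hB w : GL chevF4.Idx K)⁻¹ =
        h8xU chevF4 hB (h8sW chevF4 w s) t) (t v : K) :
    (h8nWU chevF4 hB w : GL chevF4.Idx K) * h8tfCls R 27 25 28 30 t v * (h8nWU chevF4 hB w : GL chevF4.Idx K)⁻¹ =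
      h8xU chevF4 hB (h8sW chevF4 w 27) (R.f t) * h8xU chevF4 hB (h8sW chevF4 w 25) t *
        h8xU chevF4 hB (h8sW chevF4 w 28) (R.f t * t + v) * h8xU chevF4 hB (h8sW chevF4 w 30) ((R.f v) ^ 2) := by
  unfold h8tfCls
  rw [← hT3 27 (by decide) (R.f t), ← hT3 25 (by decide) t, ← hT3 28 (by decide) (R.f t * t + v),
    ← hT3 30 (by decide) ((R.f v) ^ 2)]
  group

end Cfsg.Agent.Lib.helper14.SQD
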