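import Mathlib
import Cfsg.Agent.Lib.helper14.SQD.DefsTF
import Cfsg.Agent.Lib.Helper22.SQDTF3
import Cfsg.Agent.Lib.Helper27.SQDTF4core

/-!
# Project SQD (designer helper14), row TF4 (helper27): SPARES `sqdtf4_h27_conj_pair` + `sqdtf4_h27_conj_cls`

(helper14's own `Cfsg.Agent.Lib.helper14.SQD.TF4` holds the verbatim names `conj_pair`, `conj_cls`; these are exact-statement spares
under own names, so that importing both modules is safe.)

The cores `sqdtf4_pair_core` / `sqdtf4_cls_core` on the landed TF3 (`nWU_conj_char2`, Helper22).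
-/

set_option autoImplicit false

namespace Cfsg.Agent.Lib.helper14.SQD

open Cfsg Cfsg.Lie Cfsg.Lie.ChevalleyDatum Cfsg.Agent.Lib.helper8

universe u v

/-- TF4a [E]. `unfold h8tfPair`; `n * (a * b) * n⁻¹ = (n * a * n⁻¹) * (n * b * n⁻¹)` (`group`); TF3 twice. -/
theorem sqdtf4_h27_conj_pair {K : Type u} [Field K] [CharP K 2] {hB : H8Base.{u} chevF4} (R : H8TF K hB) (w : List ℕ)
    (hw : ∀ i ∈ w, i < chevF4.rank) (t : K) :
    (h8nWU chevF4 hB w : GL chevF4.Idx K) * h8tfPair R 33 24 t * (h8nWU chevF4 hB w : GL chevF4.Idx K)⁻¹ =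
      h8xU chevF4 hB (h8sW chevF4 w 33) (R.f t) * h8xU chevF4 hB (h8sW chevF4 w 24) t := by
  exact sqdtf4_pair_core R w (fun s hs t => nWU_conj_char2 hB w hw s hs t) t

/-- TF4b [E]. As TF4a with `h8tfCls` (four factors). -/
theorem sqdtf4_h27_conj_cls {K : Type u} [Field K] [CharP K 2] {hB : H8Base.{u} chevF4} (R : H8TF K hB) (w : List ℕ)
    (hw : ∀ i ∈ w, i < chevF4.rank) (t v : K) :
    (h8nWU chevF4 hB w : GL chevF4.Idx K) * h8tfCls R 27 25 28 30 t v * (h8nWU chevF4 hB w : GL chevF4.Idx K)⁻¹ =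
      h8xU chevF4 hB (h8sW chevF4 w 27) (R.f t) * h8xU chevF4 hB (h8sW chevF4 w 25) t *
        h8xU chevF4 hB (h8sW chevF4 w 28) (R.f t * t + v) * h8xU chevF4 hB (h8sW chevF4 w 30) ((R.f v) ^ 2) := by
  exact sqdtf4_cls_core R w (fun s hs t => nWU_conj_char2 hB w hw s hs t) t v

end Cfsg.Agent.Lib.helper14.SQD
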