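import Mathlib
import Cfsg.Agent.Lib.helper15.St2
import Cfsg.Agent.Lib.helper7.StA
import Cfsg.Agent.Lib.helper7.StC
import Cfsg.Agent.Lib.helper7.StE
import Cfsg.Agent.Lib.helper3.STC.Defs
import Cfsg.Agent.Lib.helper3.STC.Defs2
import Cfsg.Agent.Lib.helper3.STC.Defs3
import Cfsg.Agent.Lib.Helper24.STCI1
import Cfsg.Agent.Lib.Helper24.STCB1
import Cfsg.Agent.Lib.Helper24.STCW13
import Cfsg.Agent.Lib.helper23.STCH1
import Cfsg.Agent.Lib.helper23.STCX2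
import Cfsg.Agent.Lib.Helper27.STCF11

/-!
# STC row F15 (`ww_opp`): the product `w o k 1 * w o (ng k) 1` of two Weyl elements with opposite indices

(helper27)  The 4-step Weyl computation of the skeleton.
-/

set_option autoImplicit false

namespace Cfsg.Agent.Lib.helper3.STC

open Cfsg.Agent.Lib.helper15.St2 Cfsg.Agent.Lib.helper7.St

namespace SysC

variable {K : Type*} [Field K] {ι : Type*} {G : Type*} [Group G] (S : SysC K ι G)

section F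
variable [DecidableEq ι] (o : ι ⊕ ι)

/-- F15 [M]  opposite indices `k`, `ng k`. -/
theorem ww_opp [Finite K] (hW : S.HW) (hH : S.HH) {k : ι ⊕ ι} (hk : k ≠ o) (hk' : k ≠ ng o) :
    ∃ n, S.NP o n ∧ S.w o k 1 * S.w o (ng k) 1 = S.w o (ng o) 1 * n := by
  have hok : o ≠ k := hk.symm
  have hkk : k ≠ ng k := ne_ng k
  have hnko : ng k ≠ o := fun h => hk' (by rw [← h, ng_ng])
  have hnkno : ng k ≠ ng o := fun h => hk (ng_inj.mp h)
  have hono : o ≠ ng o := ne_ng o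
  -- step (1)
  have hℓ := hW k (ng k) hkk 1 one_ne_zero
  have h1 := IsMon.cj_w S hℓ hok 1 one_ne_zero
  have e1 : wpm k (ng k) o = o := by
    refine wpm_of_ne hok hnko.symm hnko.symm ?_
    rw [ng_ng]; exact hok
  have e2 : wpm k (ng k) k = ng k := wpm_left hkk
  rw [e1, e2] at h1
  set c₁ : K := dwc k (ng k) 1 o * (dwc k (ng k) 1 k)⁻¹ * 1 with hc₁
  have hc₁0 : c₁ ≠ 0 :=
    mul_ne_zero (mul_ne_zero (hℓ.1 o) (inv_ne_zero (hℓ.1 k))) one_ne_zero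
  -- step (2)
  have h2 := S.w_eq_w_one_mul_h hnko.symm c₁ hc₁0
  -- step (3)
  have hwk := hW o k hok 1 one_ne_zero
  have h3 := IsMon.cj_w S hwk hkk 1 one_ne_zero
  have e3 : wpm o k k = o := wpm_right hok
  have e4 : wpm o k (ng k) = ng o := by rw [wpm_ng hok, e3]
  rw [e3, e4] at h3
  set c₂ : K := dwc o k 1 k * (dwc o k 1 (ng k))⁻¹ * 1 with hc₂
  have hc₂0 : c₂ ≠ 0 :=
    mul_ne_zero (mul_ne_zero (hwk.1 k) (inv_ne_zero (hwk.1 (ng k)))) one_ne_zero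
  have h4 := S.w_eq_w_one_mul_h hono c₂ hc₂0
  have h5 := S.w_mul_w hok 1 1 one_ne_zero one_ne_zero
  have h6 : (S.w k (ng k) 1)⁻¹ = S.w k (ng k) (-1) := (S.w_neg k (ng k) 1).symm
  have h7 : (S.h o (ng k) c₁⁻¹)⁻¹ = S.h o (ng k) c₁ := by
    rw [S.h_inv hnko.symm c₁⁻¹ (inv_ne_zero hc₁0), inv_inv]
  refine ⟨S.h o (ng o) c₂⁻¹ * S.h o k (-(1 * 1⁻¹)) * S.w k (ng k) (-1) * S.h o (ng k) c₁, ?_, ?_⟩
  · refine S.stcf11_NP_mul o (S.stcf11_NP_mul o (S.stcf11_NP_mul o ?_ ?_) ?_) ?_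
    · exact S.stcf11_NP_h o hH hono.symm (inv_ne_zero hc₂0)
    · exact S.stcf11_NP_h o hH hk (neg_ne_zero.mpr (mul_ne_zero one_ne_zero (inv_ne_zero one_ne_zero)))
    · exact S.stcf11_NP_w o hW hkk hk hk' hnko hnkno (neg_ne_zero.mpr one_ne_zero)
    · exact S.stcf11_NP_h o hH hnko hc₁0
  · -- the computation
    unfold cj at h1 h3
    have hA : S.w o (ng k) 1 = S.w k (ng k) 1 * S.w o k 1 * (S.w k (ng k) 1)⁻¹ * (S.h o (ng k) c₁⁻¹)⁻¹ := by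
      rw [h1, h2]; group
    have hB : S.w o k 1 * S.w k (ng k) 1 = S.w o (ng o) c₂ * S.w o k 1 := by
      rw [← h3]; group
    rw [hA, ← h6, ← h7, ← h5]
    calc S.w o k 1 * (S.w k (ng k) 1 * S.w o k 1 * (S.w k (ng k) 1)⁻¹ * (S.h o (ng k) c₁⁻¹)⁻¹)
        = (S.w o k 1 * S.w k (ng k) 1) * S.w o k 1 * (S.w k (ng k) 1)⁻¹ * (S.h o (ng k) c₁⁻¹)⁻¹ := by group
      _ = S.w o (ng o) c₂ * S.w o k 1 * S.w o k 1 * (S.w k (ng k) 1)⁻¹ * (S.h o (ng k) c₁⁻¹)⁻¹ := by rw [hB]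
      _ = S.w o (ng o) 1 * (S.h o (ng o) c₂⁻¹ * (S.w o k 1 * S.w o k 1) * (S.w k (ng k) 1)⁻¹ * (S.h o (ng k) c₁⁻¹)⁻¹) := by
          rw [h4]; group

end F

end SysC

end Cfsg.Agent.Lib.helper3.STC
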