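import Mathlib
import Cfsg.Agent.Lib.helper14.UBNk
import Cfsg.Agent.S0279
import Cfsg.Agent.Lib.Helper27.FusSimpleQuot

set_option autoImplicit false

/-! The determinant one subgroup `NJ` of the unitary group `GJ n S` of the antidiagonal form, its
identification with the special unitary group of the standard form, and the unitriangular subgroup
as a Sylow subgroup. -/

namespace Cfsg.Agent.Lib.Helper27.SUFus

open Matrix Cfsg.Agent.Lib.helper14.UBN

universe u
variable {F : Type u} [Field F] {n : ℕ} {S : SInv F}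

/-- the determinant on the unitary group -/
noncomputable def detJ (n : ℕ) (S : SInv F) : ↥(GJ n S) →* Fˣ :=
  Matrix.GeneralLinearGroup.det.comp (GJ n S).subtype

/-- the subgroup of elements of determinant one -/
noncomputable def NJ (n : ℕ) (S : SInv F) : Subgroup ↥(GJ n S) := (detJ n S).ker

instance NJ_normal : (NJ n S).Normal := MonoidHom.normal_ker _

theorem detJ_val (g : ↥(GJ n S)) : ((detJ n S g : Fˣ) : F) = (mt g).det := by
  show ((Matrix.GeneralLinearGroup.det ((g : ↥(GJ n S)) : GL (Fin n) F) : Fˣ) : F) = _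
  rw [Matrix.GeneralLinearGroup.val_det_apply]
  rfl

theorem mem_NJ_iff (g : ↥(GJ n S)) : g ∈ NJ n S ↔ (mt g).det = 1 := by
  unfold NJ
  rw [MonoidHom.mem_ker, ← detJ_val]
  constructor
  · intro h
    rw [h]
    rfl
  · intro h
    exact Units.ext h

theorem UU_le_NJ [Fintype F] : UU n S ≤ NJ n S := by
  intro u hu
  rw [mem_NJ_iff]
  exact det_of_mem_UU u hu

/-- elements of `p`-power order have determinant one -/
theorem mem_NJ_of_pow [Fintype F] (p : ℕ) [Fact p.Prime] [CharP F p] (g : ↥(GJ n S)) (k : ℕ)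
    (hg : g ^ (p ^ k) = 1) : g ∈ NJ n S := by
  have hp : p.Prime := Fact.out
  unfold NJ
  rw [MonoidHom.mem_ker]
  have h1 : (detJ n S g) ^ (p ^ k) = 1 := by rw [← map_pow, hg, map_one]
  have h2 : (detJ n S g) ^ (Fintype.card F - 1) = 1 := by
    have := pow_card_eq_one' (G := Fˣ) (x := detJ n S g)
    rwa [Nat.card_units, Nat.card_eq_fintype_card] at this
  have h3 : orderOf (detJ n S g) ∣ p ^ k := orderOf_dvd_of_pow_eq_one h1
  have h4 : orderOf (detJ n S g) ∣ Fintype.card F - 1 := orderOf_dvd_of_pow_eq_one h2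
  have hcop : Nat.Coprime (p ^ k) (Fintype.card F - 1) := by
    apply Nat.Coprime.pow_left
    rw [Nat.Prime.coprime_iff_not_dvd hp]
    intro hdvd
    obtain ⟨m, _, hm⟩ := FiniteField.card F p
    have h5 : p ∣ Fintype.card F := by
      rw [hm]
      exact dvd_pow_self p m.ne_zero
    have h6 : 1 ≤ Fintype.card F := Fintype.card_pos
    have h7 : p ∣ 1 := by
      have := Nat.dvd_sub h5 hdvd
      rwa [Nat.sub_sub_self h6] at this
    exact hp.one_lt.ne' (Nat.dvd_one.mp h7)
  have h8 : orderOf (detJ n S g) = 1 := Nat.eq_one_of_dvd_coprimes hcop h3 h4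
  exact orderOf_eq_one_iff.mp h8

section bridge

variable [Fintype F] {q : ℕ}

/-- the special unitary group of the standard Hermitian form is isomorphic to the determinant one
subgroup of the unitary group of the antidiagonal form -/
theorem su_equiv (hF : Fintype.card F = q ^ 2) (hσ : ∀ x, S.σ x = x ^ q) (n : ℕ) :
    Nonempty (↥(Cfsg.SU n F q) ≃* ↥(NJ n S)) := by
  classical
  have hSne : S.σ ≠ RingHom.id F := Cfsg.Agent.Lib.helper6.HF.frob_ne_id hF S.σ hσ
  obtain ⟨P, hP⟩ := exists_basis_change S hSne n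
  let conjP : GL (Fin n) F →* GL (Fin n) F := (MulAut.conj P).toMonoidHom
  let ψ₀ : ↥(Cfsg.SU n F q) →* GL (Fin n) F :=
    conjP.comp (Matrix.SpecialLinearGroup.toGL.comp (Cfsg.SU n F q).subtype)
  have hψ₀ : ∀ s : ↥(Cfsg.SU n F q), ψ₀ s = P * Matrix.SpecialLinearGroup.toGL s.1 * P⁻¹ :=
    fun s => rfl
  have hmem : ∀ s : ↥(Cfsg.SU n F q), ψ₀ s ∈ GJ n S := by
    intro s
    rw [hψ₀]
    apply conj_mem_GJ S hσ P hP
    intro u v
    exact s.2 u v
  let ψ₁ : ↥(Cfsg.SU n F q) →* ↥(GJ n S) := ψ₀.codRestrict (GJ n S) hmem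
  have hψ₁ : ∀ s : ↥(Cfsg.SU n F q),
      ((ψ₁ s : ↥(GJ n S)) : GL (Fin n) F) = P * Matrix.SpecialLinearGroup.toGL s.1 * P⁻¹ :=
    fun s => rfl
  have hmem₂ : ∀ s : ↥(Cfsg.SU n F q), ψ₁ s ∈ NJ n S := by
    intro s
    unfold NJ
    rw [MonoidHom.mem_ker]
    show Matrix.GeneralLinearGroup.det ((ψ₁ s : ↥(GJ n S)) : GL (Fin n) F) = 1
    rw [hψ₁, map_mul, map_mul, map_inv, mul_comm, ← mul_assoc, inv_mul_cancel, one_mul]
    apply Units.ext
    rw [Matrix.GeneralLinearGroup.val_det_apply]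
    show (s.1 : Matrix (Fin n) (Fin n) F).det = 1
    exact s.1.2
  let ψ : ↥(Cfsg.SU n F q) →* ↥(NJ n S) := ψ₁.codRestrict (NJ n S) hmem₂
  have hψval : ∀ s : ↥(Cfsg.SU n F q),
      (((ψ s : ↥(NJ n S)) : ↥(GJ n S)) : GL (Fin n) F) =
        P * Matrix.SpecialLinearGroup.toGL s.1 * P⁻¹ := fun s => rfl
  have hψsurj : Function.Surjective ψ := by
    intro x
    have hx : Matrix.GeneralLinearGroup.det ((x : ↥(GJ n S)) : GL (Fin n) F) = 1 := x.2
    have hdet : ((P⁻¹ * ((x : ↥(GJ n S)) : GL (Fin n) F) * P : GL (Fin n) F) :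
        Matrix (Fin n) (Fin n) F).det = 1 := by
      have h1 : Matrix.GeneralLinearGroup.det (P⁻¹ * ((x : ↥(GJ n S)) : GL (Fin n) F) * P) = 1 := by
        rw [map_mul, map_mul, map_inv, hx, mul_one, inv_mul_cancel]
      have := congrArg Units.val h1
      rwa [Matrix.GeneralLinearGroup.val_det_apply] at this
    let sl : Matrix.SpecialLinearGroup (Fin n) F :=
      ⟨((P⁻¹ * ((x : ↥(GJ n S)) : GL (Fin n) F) * P : GL (Fin n) F) :
        Matrix (Fin n) (Fin n) F), hdet⟩
    have hsl : sl ∈ Cfsg.SU n F q := by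
      intro u v
      exact conj_preserves S hσ P hP _ x.1.2 u v
    refine ⟨⟨sl, hsl⟩, ?_⟩
    apply Subtype.ext
    apply Subtype.ext
    rw [hψval]
    have e1 : Matrix.SpecialLinearGroup.toGL sl =
        P⁻¹ * ((x : ↥(GJ n S)) : GL (Fin n) F) * P := by
      apply Units.ext
      rfl
    show P * Matrix.SpecialLinearGroup.toGL sl * P⁻¹ = _
    rw [e1]
    group
  have hψinj : Function.Injective ψ := by
    intro s s' h
    have h1 : P * Matrix.SpecialLinearGroup.toGL s.1 * P⁻¹ =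
        P * Matrix.SpecialLinearGroup.toGL s'.1 * P⁻¹ := by
      rw [← hψval, ← hψval, h]
    have h2 : Matrix.SpecialLinearGroup.toGL s.1 = Matrix.SpecialLinearGroup.toGL s'.1 := by
      have := mul_right_cancel h1
      exact mul_left_cancel this
    exact Subtype.ext (Matrix.SpecialLinearGroup.toGL_injective h2)
  exact ⟨MulEquiv.ofBijective ψ ⟨hψinj, hψsurj⟩⟩

end bridge

section sylow

variable [Fintype F]

/-- the unitriangular subgroup inside the determinant one subgroup -/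
noncomputable def UJ (n : ℕ) (S : SInv F) : Subgroup ↥(NJ n S) := (UU n S).subgroupOf (NJ n S)

theorem card_UJ_ppart (hS : HasSkew S) (p : ℕ) [Fact p.Prime] [CharP F p] :
    Nat.card ↥(UJ n S) = p ^ (Nat.card ↥(NJ n S)).factorization p := by
  have hp : p.Prime := Fact.out
  obtain ⟨a, r, h1, h2, h3⟩ := card_gu_ppart (n := n) (S := S) hS p
  have e : Nat.card ((UU n S).subgroupOf (BU n S)) = Nat.card ↥(UU n S) :=
    Nat.card_congr (Subgroup.subgroupOfEquivOfLe (UU_le_BU (n := n) (S := S))).toEquiv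
  have e' : Nat.card ↥(UJ n S) = Nat.card ↥(UU n S) :=
    Nat.card_congr (Subgroup.subgroupOfEquivOfLe (UU_le_NJ (n := n) (S := S))).toEquiv
  rw [e] at h1
  rw [e', h1]
  congr 1
  have hdvd1 : p ^ a ∣ Nat.card ↥(NJ n S) := by
    rw [← h1, ← e']
    exact Subgroup.card_subgroup_dvd_card _
  have hdvd2 : Nat.card ↥(NJ n S) ∣ p ^ a * r := by
    rw [← h2]
    exact Subgroup.card_subgroup_dvd_card _
  have hpos : Nat.card ↥(NJ n S) ≠ 0 := Nat.card_pos.ne'
  have hr0 : r ≠ 0 := fun h0 => h3 (h0 ▸ dvd_zero p)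
  have hpa0 : p ^ a ≠ 0 := pow_ne_zero _ hp.ne_zero
  apply le_antisymm
  · exact (hp.pow_dvd_iff_le_factorization hpos).mp hdvd1
  · have h4 := (Nat.factorization_le_iff_dvd hpos (mul_ne_zero hpa0 hr0)).mpr hdvd2 p
    rw [Nat.factorization_mul hpa0 hr0] at h4
    simp only [Finsupp.coe_add, Pi.add_apply] at h4
    rw [Nat.factorization_eq_zero_of_not_dvd h3, add_zero, hp.factorization_pow] at h4
    simpa using h4

/-- the unitriangular subgroup as a Sylow subgroup -/
noncomputable def uSylowJ (hS : HasSkew S) (p : ℕ) [Fact p.Prime] [CharP F p] :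
    Sylow p ↥(NJ n S) :=
  Sylow.ofCard (UJ n S) (card_UJ_ppart hS p)

theorem coe_uSylowJ (hS : HasSkew S) (p : ℕ) [Fact p.Prime] [CharP F p] :
    ((uSylowJ (n := n) hS p : Sylow p ↥(NJ n S)) : Subgroup ↥(NJ n S)) = UJ n S := rfl

end sylow

end Cfsg.Agent.Lib.Helper27.SUFus
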