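import Mathlib
import Cfsg.Agent.Lib.Helper27.SUFusA

set_option autoImplicit false

/-! General Eichler transformations `x ↦ x + h(x,u) v - (h(x,v) + β h(x,u)) u` of the unitary group
of the antidiagonal form: conjugation, multiplication, scaling. -/

namespace Cfsg.Agent.Lib.Helper27.SUFus

open Matrix Cfsg.Agent.Lib.helper14.UBN

universe u
variable {F : Type u} [Field F] {n : ℕ} {S : SInv F}

/-- the vector representing the functional `x ↦ hJ x w` -/
def rho (S : SInv F) (w : Fin n → F) : Fin n → F := fun i => S.σ (w (rv i))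

theorem rho_dot (x w : Fin n → F) : rho S w ⬝ᵥ x = hJ S x w := by
  unfold hJ rho dotProduct
  apply Finset.sum_congr rfl
  intro i _
  rw [mul_comm]

/-- the matrix of an Eichler transformation -/
def eM (S : SInv F) (u v : Fin n → F) (β : F) : Matrix (Fin n) (Fin n) F :=
  1 + Matrix.vecMulVec v (rho S u) - Matrix.vecMulVec u (rho S v + β • rho S u)

theorem eM_mulVec (u v : Fin n → F) (β : F) (x : Fin n → F) :
    eM S u v β *ᵥ x = x + hJ S x u • v - (hJ S x v + β * hJ S x u) • u := by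
  unfold eM
  rw [Matrix.sub_mulVec, Matrix.add_mulVec, Matrix.one_mulVec, Matrix.vecMulVec_mulVec,
    Matrix.vecMulVec_mulVec, op_smul_eq_smul, op_smul_eq_smul, rho_dot, add_dotProduct,
    smul_dotProduct, rho_dot, rho_dot, smul_eq_mul]

/-- the conditions making an Eichler transformation unitary -/
def EOk (S : SInv F) (u v : Fin n → F) (β : F) : Prop :=
  hJ S u u = 0 ∧ hJ S v u = 0 ∧ β + S.σ β = hJ S v v

theorem EOk.uv {u v : Fin n → F} {β : F} (h : EOk S u v β) : hJ S u v = 0 := by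
  rw [← hJ_symm, h.2.1, map_zero]

theorem eM_form {u v : Fin n → F} {β : F} (h : EOk S u v β) (x y : Fin n → F) :
    hJ S (eM S u v β *ᵥ x) (eM S u v β *ᵥ y) = hJ S x y := by
  rw [eM_mulVec, eM_mulVec]
  have h1 := h.1
  have h2 := h.2.1
  have h3 := h.uv
  have h4 : hJ S u y = S.σ (hJ S y u) := (hJ_symm y u).symm
  have h5 : hJ S v y = S.σ (hJ S y v) := (hJ_symm y v).symm
  simp only [hJ_add_left, hJ_sub_left, hJ_smul_left, hJ_add_right, hJ_sub_right, hJ_smul_right,
    h1, h2, h3, h4, h5, map_add, map_mul]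
  linear_combination (-(hJ S x u * S.σ (hJ S y u))) * h.2.2

open Classical in
/-- the Eichler transformation as an element of the unitary group (trivial if the conditions
fail) -/
noncomputable def eG (S : SInv F) (u v : Fin n → F) (β : F) : ↥(GJ n S) :=
  if h : EOk S u v β then mkG (eM S u v β) (eM_form h) else 1

theorem eG_mulVec {u v : Fin n → F} {β : F} (h : EOk S u v β) (x : Fin n → F) :
    mt (eG S u v β) *ᵥ x = x + hJ S x u • v - (hJ S x v + β * hJ S x u) • u := by
  unfold eG
  rw [dif_pos h, mt_mkG, eM_mulVec]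

/-- an element is determined by its action on vectors -/
theorem ext_mulVec {g h : ↥(GJ n S)} (e : ∀ x, mt g *ᵥ x = mt h *ᵥ x) : g = h :=
  mt_ext_bV (fun y => e _)

theorem hJ_inv_left (g : ↥(GJ n S)) (x w : Fin n → F) :
    hJ S (mt g⁻¹ *ᵥ x) w = hJ S x (mt g *ᵥ w) := by
  have := mt_form g (mt g⁻¹ *ᵥ x) w
  rw [mt_mulVec_inv] at this
  exact this.symm

theorem EOk.conj {u v : Fin n → F} {β : F} (h : EOk S u v β) (g : ↥(GJ n S)) :
    EOk S (mt g *ᵥ u) (mt g *ᵥ v) β := by
  refine ⟨?_, ?_, ?_⟩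
  · rw [mt_form, h.1]
  · rw [mt_form, h.2.1]
  · rw [mt_form, h.2.2]

/-- conjugation of Eichler transformations -/
theorem eG_conj {u v : Fin n → F} {β : F} (h : EOk S u v β) (g : ↥(GJ n S)) :
    g * eG S u v β * g⁻¹ = eG S (mt g *ᵥ u) (mt g *ᵥ v) β := by
  apply ext_mulVec
  intro x
  rw [mt_mul_mulVec, mt_mul_mulVec, eG_mulVec h, eG_mulVec (h.conj g), Matrix.mulVec_sub,
    Matrix.mulVec_add, Matrix.mulVec_smul, Matrix.mulVec_smul, mt_mulVec_inv, hJ_inv_left,
    hJ_inv_left]

theorem EOk.zero {u : Fin n → F} (h : hJ S u u = 0) : EOk S u 0 0 := by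
  refine ⟨h, ?_, ?_⟩
  · rw [hJ_zero_left]
  · rw [hJ_zero_left, map_zero, add_zero]

theorem eG_zero (u : Fin n → F) : eG S u 0 0 = 1 := by
  by_cases h : EOk S u 0 0
  · apply ext_mulVec
    intro x
    rw [eG_mulVec h, mt_one_mulVec, hJ_zero_right]
    simp
  · unfold eG
    rw [dif_neg h]

theorem EOk.add {u v v' : Fin n → F} {β β' : F} (h : EOk S u v β) (h' : EOk S u v' β') :
    EOk S u (v + v') (β + β' + hJ S v' v) := by
  refine ⟨h.1, ?_, ?_⟩
  · rw [hJ_add_left, h.2.1, h'.2.1, add_zero]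
  · rw [map_add, map_add, hJ_symm, hJ_add_left, hJ_add_right, hJ_add_right]
    linear_combination h.2.2 + h'.2.2

/-- multiplication of Eichler transformations with the same isotropic vector -/
theorem eG_mul {u v v' : Fin n → F} {β β' : F} (h : EOk S u v β) (h' : EOk S u v' β') :
    eG S u v β * eG S u v' β' = eG S u (v + v') (β + β' + hJ S v' v) := by
  apply ext_mulVec
  intro x
  rw [mt_mul_mulVec, eG_mulVec h', eG_mulVec h, eG_mulVec (h.add h')]
  have h1 := h.1
  have h2 := h.2.1
  have h3 := h.uv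
  have h4 := h'.2.1
  simp only [hJ_add_left, hJ_sub_left, hJ_smul_left, hJ_add_right, h1, h2, h3, h4, mul_zero,
    add_zero, sub_zero]
  module

theorem EOk.neg {u v : Fin n → F} {β : F} (h : EOk S u v β) : EOk S u (-v) (S.σ β) := by
  refine ⟨h.1, ?_, ?_⟩
  · rw [hJ_neg_left, h.2.1, neg_zero]
  · rw [S.invol, hJ_neg_left, hJ_neg_right, neg_neg, add_comm, h.2.2]

theorem eG_congr {u v v' : Fin n → F} {β β' : F} (hv : v = v') (hβ : β = β') :
    eG S u v β = eG S u v' β' := by
  rw [hv, hβ]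

theorem eG_inv {u v : Fin n → F} {β : F} (h : EOk S u v β) :
    (eG S u v β)⁻¹ = eG S u (-v) (S.σ β) := by
  rw [inv_eq_iff_mul_eq_one, eG_mul h h.neg, ← eG_zero (S := S) u]
  apply eG_congr
  · rw [add_neg_cancel]
  · rw [hJ_neg_left]
    linear_combination h.2.2

theorem EOk.smul {u v : Fin n → F} {β : F} (h : EOk S u v β) (l : F) :
    EOk S (l • u) v β := by
  refine ⟨?_, ?_, h.2.2⟩
  · rw [hJ_smul_left, hJ_smul_right, h.1, mul_zero, mul_zero]
  · rw [hJ_smul_right, h.2.1, mul_zero]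

theorem EOk.smul' {u v : Fin n → F} {β : F} (h : EOk S u v β) (l : F) :
    EOk S u (S.σ l • v) (l * S.σ l * β) := by
  refine ⟨h.1, ?_, ?_⟩
  · rw [hJ_smul_left, h.2.1, mul_zero]
  · rw [map_mul, map_mul, S.invol, hJ_smul_left, hJ_smul_right, S.invol]
    linear_combination (l * S.σ l) * h.2.2

/-- scaling the isotropic vector of an Eichler transformation -/
theorem eG_smul {u v : Fin n → F} {β : F} (h : EOk S u v β) (l : F) :
    eG S (l • u) v β = eG S u (S.σ l • v) (l * S.σ l * β) := by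
  apply ext_mulVec
  intro x
  rw [eG_mulVec (h.smul l), eG_mulVec (h.smul' l)]
  simp only [hJ_smul_right, S.invol]
  module

/-- entries of an Eichler transformation -/
theorem eG_apply {u v : Fin n → F} {β : F} (h : EOk S u v β) (x y : Fin n) :
    mt (eG S u v β) x y = (if x = y then 1 else 0) + S.σ (u (rv y)) * v x -
      (S.σ (v (rv y)) + β * S.σ (u (rv y))) * u x := by
  rw [← mulVec_bV (mt (eG S u v β)) y x, eG_mulVec h, hJ_bV_left, hJ_bV_left]
  simp only [Pi.add_apply, Pi.sub_apply, Pi.smul_apply, smul_eq_mul, bV_apply]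

/-- changing the vector `v` by a multiple of `u` -/
theorem eG_add_smul {u v : Fin n → F} {β : F} (h : EOk S u v β) (l : F) :
    eG S u (v + l • u) (β + l - S.σ l) = eG S u v β := by
  have h' : EOk S u (v + l • u) (β + l - S.σ l) := by
    refine ⟨h.1, ?_, ?_⟩
    · rw [hJ_add_left, hJ_smul_left, h.1, h.2.1, mul_zero, add_zero]
    · rw [map_sub, map_add, S.invol, hJ_add_left, hJ_add_right, hJ_add_right, hJ_smul_left,
        hJ_smul_left, hJ_smul_right, hJ_smul_right, h.1, h.2.1, h.uv]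
      linear_combination h.2.2
  apply ext_mulVec
  intro x
  rw [eG_mulVec h', eG_mulVec h]
  simp only [hJ_add_right, hJ_smul_right]
  module

end Cfsg.Agent.Lib.Helper27.SUFus
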