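import Mathlib
import Cfsg.Agent.Lib.Helper27.SUFusB

set_option autoImplicit false

/-! Eichler transformations along basis vectors: membership in the unitriangular subgroup, and the
decomposition of unitriangular unitary matrices into such transformations. -/

namespace Cfsg.Agent.Lib.Helper27.SUFus

open Matrix Cfsg.Agent.Lib.helper14.UBN

universe u
variable {F : Type u} [Field F] {n : ℕ} {S : SInv F}

theorem rv_ne_of_lt {p : Fin n} (h : rk p < rk (rv p)) : rv p ≠ p := by
  intro e
  rw [e] at h
  exact lt_irrefl _ h

theorem eOk_bV {p : Fin n} (hp : rv p ≠ p) {z : Fin n → F} (hz : z (rv p) = 0) {β : F}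
    (hβ : β + S.σ β = hJ S z z) : EOk S (bV p) z β := by
  refine ⟨?_, ?_, hβ⟩
  · rw [hJ_bV_bV, if_neg (Ne.symm hp)]
  · rw [hJ_bV_right, hz]

/-- vectors supported strictly between `p` and `rv p` -/
def Inner (p : Fin n) (z : Fin n → F) : Prop :=
  ∀ i, (rk i ≤ rk p ∨ rk (rv p) ≤ rk i) → z i = 0

theorem Inner.rv {p : Fin n} {z : Fin n → F} (h : Inner p z) : z (rv p) = 0 :=
  h _ (Or.inr le_rfl)

theorem Inner.self {p : Fin n} {z : Fin n → F} (h : Inner p z) : z p = 0 :=
  h _ (Or.inl le_rfl)

theorem Inner.add {p : Fin n} {z z' : Fin n → F} (h : Inner p z) (h' : Inner p z') :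
    Inner p (z + z') := by
  intro i hi
  rw [Pi.add_apply, h i hi, h' i hi, add_zero]

theorem Inner.smul {p : Fin n} {z : Fin n → F} (h : Inner p z) (c : F) : Inner p (c • z) := by
  intro i hi
  rw [Pi.smul_apply, h i hi, smul_zero]

theorem Inner.zero {p : Fin n} : Inner p (0 : Fin n → F) := fun _ _ => rfl

theorem inner_bV {p i : Fin n} (h1 : rk p < rk i) (h2 : rk i < rk (rv p)) :
    Inner p (bV i : Fin n → F) := by
  intro j hj
  rw [bV_apply]
  apply if_neg
  intro e
  rw [e] at hj
  omega

/-- Eichler transformations along a basis vector of the first half are unitriangular -/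
theorem eG_bV_mem_UU {p : Fin n} (hrk : rk p < rk (rv p)) {z : Fin n → F}
    (hz : ∀ i, rk (rv p) ≤ rk i → z i = 0) {β : F} (h : EOk S (bV p) z β) :
    eG S (bV p) z β ∈ UU n S := by
  have hp := rv_ne_of_lt hrk
  constructor
  · intro x y hxy
    rw [eG_apply h, bV_apply, bV_apply]
    have hne : x ≠ y := fun e => by rw [e] at hxy; exact lt_irrefl _ hxy
    rw [if_neg hne, zero_add]
    have t1 : S.σ (if rv y = p then (1 : F) else 0) * z x = 0 := by
      by_cases hy : rv y = p
      · have : rk (rv p) ≤ rk x := by
          rw [← hy, rv_rv]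
          exact hxy.le
        rw [hz x this, mul_zero]
      · rw [if_neg hy, map_zero, zero_mul]
    have t2 : (S.σ (z (rv y)) + β * S.σ (if rv y = p then (1 : F) else 0)) *
        (if x = p then (1 : F) else 0) = 0 := by
      by_cases hx : x = p
      · rw [hx] at hxy
        have h1 : rk (rv p) ≤ rk (rv y) := ((rk_rv_lt_iff p y).2 hxy).le
        have h2 : rv y ≠ p := by
          intro e
          rw [e] at h1
          omega
        rw [hz _ h1, map_zero, if_neg h2, map_zero, mul_zero, zero_add, zero_mul]
      · rw [if_neg hx, mul_zero]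
    rw [t1, t2, sub_zero]
  · intro x
    rw [eG_apply h, bV_apply, bV_apply, if_pos rfl]
    by_cases hx : x = p
    · have h2 : rv x ≠ p := by rw [hx]; exact hp
      rw [if_neg h2, map_zero, zero_mul, mul_zero, add_zero, add_zero, hx, hz _ le_rfl, map_zero,
        zero_mul, sub_zero]
    · rw [if_neg hx, mul_zero, sub_zero]
      by_cases hy : rv x = p
      · have : x = rv p := by rw [← hy, rv_rv]
        rw [this, hz _ le_rfl, mul_zero, add_zero]
      · rw [if_neg hy, map_zero, zero_mul, add_zero]

theorem eG_inner_mem_UU {p : Fin n} (hrk : rk p < rk (rv p)) {z : Fin n → F}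
    (hz : Inner p z) {β : F} (h : EOk S (bV p) z β) : eG S (bV p) z β ∈ UU n S :=
  eG_bV_mem_UU hrk (fun i hi => hz i (Or.inr hi)) h

/-- the generating set of Eichler transformations -/
def QSet (n : ℕ) (S : SInv F) : Set ↥(GJ n S) :=
  {g | ∃ (p : Fin n) (z : Fin n → F) (β : F), rk p < rk (rv p) ∧ Inner p z ∧
    EOk S (bV p) z β ∧ g = eG S (bV p) z β}

theorem QSet_subset_UU : QSet n S ⊆ (UU n S : Set ↥(GJ n S)) := by
  rintro g ⟨p, z, β, hrk, hz, h, rfl⟩
  exact eG_inner_mem_UU hrk hz h

theorem UU_fix_aux : ∀ d j : ℕ, j + d = n / 2 → ∀ g : ↥(GJ n S), g ∈ UU n S → FixOuter j g →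
    g ∈ Subgroup.closure (QSet n S) := by
  intro d
  induction d with
  | zero =>
    intro j hj g hgU hg
    have : g = 1 := by
      apply mt_ext
      rw [mt_one]
      ext x y
      rw [Matrix.one_apply, ← mulVec_bV (mt g) y x]
      by_cases hy : helper14.UBN.Out j y
      · rw [hg y hy, bV_apply]
      · by_cases hxy : x = y
        · rw [if_pos hxy, mulVec_bV, hxy]
          exact hgU.2 y
        · rw [if_neg hxy]
          apply outer_zero_of_fix hg hy
          have h1 := rk_add_rv x
          have h2 := rk_add_rv y
          have h3 : rk x ≠ rk y := fun e => hxy (rk_injective e)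
          unfold helper14.UBN.Out at hy ⊢
          push Not at hy
          omega
    rw [this]
    exact Subgroup.one_mem _
  | succ d ih =>
    intro j hj g hgU hg
    have hjn : j < n := by omega
    set p : Fin n := ⟨j, hjn⟩ with hp
    have hrkp : rk p = j := rfl
    have hrk : rk p < rk (rv p) := by
      have := rk_add_rv p
      omega
    have hpne : rv p ≠ p := rv_ne_of_lt hrk
    have hnp : ¬ helper14.UBN.Out j p := by
      rintro (h | h)
      · rw [hrkp] at h
        exact lt_irrefl _ h
      · omega
    have hnp' : ¬ helper14.UBN.Out j (rv p) := by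
      rintro (h | h)
      · omega
      · rw [rv_rv, hrkp] at h
        exact lt_irrefl _ h
    -- the column `p` is a basis vector
    have hgp : mt g *ᵥ bV p = bV p := by
      ext x
      rw [mulVec_bV, bV_apply]
      by_cases hx : x = p
      · rw [if_pos hx, hx]
        exact hgU.2 p
      · rw [if_neg hx]
        rcases lt_or_gt_of_ne (fun e => hx (rk_injective e)) with h | h
        · rw [← mulVec_bV (mt g) p x]
          exact outer_zero_of_fix hg hnp x (Or.inl (by rw [← hrkp]; exact h))
        · exact hgU.1 h
    set w : Fin n → F := mt g *ᵥ bV (rv p) with hw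
    have hw1 : w (rv p) = 1 := by
      rw [hw, mulVec_bV]
      exact hgU.2 _
    have hww : hJ S w w = 0 := by
      rw [hw, mt_form, hJ_bV_bV, rv_rv, if_neg hpne]
    have hw0 : ∀ i, helper14.UBN.Out (rk p) i → w i = 0 := fun i hi => outer_zero_of_fix hg hnp' i hi
    have hwup : ∀ i, rk (rv p) < rk i → w i = 0 := by
      intro i hi
      rw [hw, mulVec_bV]
      exact hgU.1 hi
    set z : Fin n → F := w - bV (rv p) - w p • bV p with hz
    have hza : z p = 0 := by
      rw [hz, Pi.sub_apply, Pi.sub_apply, Pi.smul_apply, bV_apply, bV_apply, if_neg hpne.symm,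
        if_pos rfl, smul_eq_mul, mul_one, sub_zero, sub_self]
    have hzc : z (rv p) = 0 := by
      rw [hz, Pi.sub_apply, Pi.sub_apply, Pi.smul_apply, bV_apply, bV_apply, if_pos rfl,
        if_neg hpne, smul_eq_mul, mul_zero, sub_zero, hw1, sub_self]
    have hzin : Inner p z := by
      intro i hi
      by_cases e1 : i = p
      · rw [e1]; exact hza
      by_cases e2 : i = rv p
      · rw [e2]; exact hzc
      have hwi : w i = 0 := by
        rcases hi with h | h
        · apply hw0
          left
          exact lt_of_le_of_ne h (fun e => e1 (rk_injective e))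
        · apply hwup
          exact lt_of_le_of_ne h (fun e => e2 (rk_injective e).symm)
      rw [hz, Pi.sub_apply, Pi.sub_apply, Pi.smul_apply, bV_apply, bV_apply, if_neg e1, if_neg e2,
        hwi, smul_zero, sub_zero, sub_zero]
    have hβ : -(w p) + S.σ (-(w p)) = hJ S z z := by
      rw [hz]
      exact eich_aux p hpne w hw1 hww
    have hok : EOk S (bV p) z (-(w p)) := eOk_bV hpne hzc hβ
    set E : ↥(GJ n S) := eG S (bV p) z (-(w p)) with hE
    have hEU : E ∈ UU n S := eG_inner_mem_UU hrk hzin hok
    have hEQ : E ∈ QSet n S := ⟨p, z, -(w p), hrk, hzin, hok, rfl⟩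
    have hEF : FixOuter j E := by
      intro i hi
      have hi1 : i ≠ rv p := fun e => hnp' (e ▸ hi)
      have hi2 : rv i ≠ p := by
        intro e
        apply hnp
        rw [← e]
        exact out_rv hi
      have hzi : z (rv i) = 0 := by
        apply hzin
        rcases hi with h | h
        · right
          have := (rk_rv_lt_iff p i).2 (by rw [hrkp]; exact h)
          exact this.le
        · left
          rw [hrkp]
          exact h.le
      rw [hE, eG_mulVec hok, hJ_bV_left, hJ_bV_left, hzi, bV_apply, if_neg hi2]
      simp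
    have hEp : mt E *ᵥ bV p = bV p := by
      rw [hE, eG_mulVec hok, hJ_bV_left, hJ_bV_left, bV_apply, if_neg hpne, hzc]
      simp
    have hEc : mt E *ᵥ bV (rv p) = w := by
      rw [hE, eG_mulVec hok, hJ_bV_left, hJ_bV_left, rv_rv, bV_apply, if_pos rfl, hza, hz]
      simp only [map_zero, map_one, zero_add, mul_one, one_smul, neg_smul]
      abel
    set g2 : ↥(GJ n S) := E⁻¹ * g with hg2
    have hg2U : g2 ∈ UU n S := (UU n S).mul_mem ((UU n S).inv_mem hEU) hgU
    have hg2F : FixOuter (j + 1) g2 := by
      intro i hi
      by_cases hi' : helper14.UBN.Out j i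
      · exact fixOuter_mul (fixOuter_inv hEF) hg i hi'
      · have hcase : i = p ∨ i = rv p := by
          unfold helper14.UBN.Out at hi hi'
          push Not at hi'
          rcases hi with h | h
          · left
            apply rk_injective
            rw [hrkp]
            omega
          · right
            apply rv_inj
            rw [rv_rv]
            apply rk_injective
            rw [hrkp]
            omega
        rcases hcase with e | e
        · rw [e, hg2, mt_mul_mulVec, hgp]
          have := mt_inv_mulVec E (bV p)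
          rwa [hEp] at this
        · rw [e, hg2, mt_mul_mulVec, ← hw, ← hEc, mt_inv_mulVec]
    have hg2H := ih (j + 1) (by omega) g2 hg2U hg2F
    have e : g = E * g2 := by
      rw [hg2]
      group
    rw [e]
    exact Subgroup.mul_mem _ (Subgroup.subset_closure hEQ) hg2H

/-- the unitriangular subgroup is generated by Eichler transformations along the basis vectors of
the first half -/
theorem UU_le_closure_QSet : UU n S ≤ Subgroup.closure (QSet n S) := by
  intro g hg
  apply UU_fix_aux (n / 2) 0 (by omega) g hg
  intro i hi
  rcases hi with h | h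
  · exact absurd h (Nat.not_lt_zero _)
  · exact absurd h (Nat.not_lt_zero _)

end Cfsg.Agent.Lib.Helper27.SUFus
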