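import Mathlib
import Cfsg.Agent.Lib.Helper27.SUFusC

set_option autoImplicit false

/-! Eichler transformations have `p`-power order; the rank one elements: root elements `X a b t`
of the linear nodes, the monomial elements `nW`, `nL` and the torus elements `hW`, `hL`. -/

namespace Cfsg.Agent.Lib.Helper27.SUFus

open Matrix Cfsg.Agent.Lib.helper14.UBN

universe u
variable {F : Type u} [Field F] {n : ℕ} {S : SInv F}

theorem eG_pow_exists {u v : Fin n → F} {β : F} (h : EOk S u v β) (k : ℕ) :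
    ∃ γ, EOk S u (k • v) γ ∧ (eG S u v β) ^ k = eG S u (k • v) γ := by
  induction k with
  | zero =>
    refine ⟨0, ?_, ?_⟩
    · rw [zero_smul]
      exact EOk.zero h.1
    · rw [pow_zero, zero_smul, eG_zero]
  | succ k ih =>
    obtain ⟨γ, h1, h2⟩ := ih
    refine ⟨γ + β + hJ S v (k • v), ?_, ?_⟩
    · rw [succ_nsmul]
      exact h1.add h
    · rw [pow_succ, h2, eG_mul h1 h, succ_nsmul]

theorem eG_zero_pow {u : Fin n → F} {γ : F} (h : EOk S u 0 γ) (k : ℕ) :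
    (eG S u 0 γ) ^ k = eG S u 0 (k • γ) := by
  induction k with
  | zero => rw [pow_zero, zero_smul, eG_zero]
  | succ k ih =>
    have hk : EOk S u 0 (k • γ) := by
      refine ⟨h.1, h.2.1, ?_⟩
      have := h.2.2
      rw [hJ_zero_left] at this ⊢
      rw [nsmul_eq_mul, map_mul, map_natCast]
      linear_combination (k : F) * this
    rw [pow_succ, ih, eG_mul hk h]
    apply eG_congr
    · rw [add_zero]
    · rw [hJ_zero_left, add_zero, succ_nsmul]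

/-- Eichler transformations have order dividing `p ^ 2` -/
theorem eG_pow_char_sq (p : ℕ) [Fact p.Prime] [CharP F p] {u v : Fin n → F} {β : F}
    (h : EOk S u v β) : (eG S u v β) ^ (p ^ 2) = 1 := by
  obtain ⟨γ, h1, h2⟩ := eG_pow_exists h p
  have hpv : p • v = 0 := by
    rw [← Nat.cast_smul_eq_nsmul F, CharP.cast_eq_zero, zero_smul]
  rw [hpv] at h1 h2
  rw [pow_two, pow_mul, h2, eG_zero_pow h1]
  have hpγ : p • γ = 0 := by
    rw [nsmul_eq_mul, CharP.cast_eq_zero, zero_mul]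
  rw [hpγ, eG_zero]

theorem eG_mem_NJ [Fintype F] (p : ℕ) [Fact p.Prime] [CharP F p] {u v : Fin n → F} {β : F}
    (h : EOk S u v β) : eG S u v β ∈ NJ n S :=
  mem_NJ_of_pow p _ 2 (eG_pow_char_sq p h)

/-- Eichler transformations with isotropic `v` are symmetric in the two vectors -/
theorem eG_swap {u v : Fin n → F} (h : EOk S u v 0) (hv : hJ S v v = 0) :
    eG S u v 0 = eG S v (-u) 0 := by
  have h' : EOk S v (-u) 0 := by
    refine ⟨hv, ?_, ?_⟩
    · rw [hJ_neg_left, h.uv, neg_zero]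
    · rw [hJ_neg_left, hJ_neg_right, h.1, map_zero, add_zero, neg_zero, neg_zero]
  apply ext_mulVec
  intro x
  rw [eG_mulVec h, eG_mulVec h']
  simp only [hJ_neg_right]
  module

/-! ### The linear nodes -/

/-- four distinct indices `a`, `b`, `rv a`, `rv b` -/
def Quad (a b : Fin n) : Prop := a ≠ b ∧ a ≠ rv b ∧ rv a ≠ a ∧ rv b ≠ b

theorem Quad.symm {a b : Fin n} (h : Quad a b) : Quad b a :=
  ⟨h.1.symm, fun e => h.2.1 (by rw [e, rv_rv]), h.2.2.2, h.2.2.1⟩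

/-- the root element `e_b ↦ e_b + t e_a`, `e_{rv a} ↦ e_{rv a} - σ(t) e_{rv b}` -/
noncomputable def X (S : SInv F) (a b : Fin n) (t : F) : ↥(GJ n S) :=
  eG S (bV a) (-(S.σ t) • bV (rv b)) 0

theorem X_ok {a b : Fin n} (h : Quad a b) (t : F) :
    EOk S (bV a) (-(S.σ t) • bV (rv b)) 0 := by
  apply eOk_bV h.2.2.1
  · rw [Pi.smul_apply, bV_apply, if_neg (fun e => h.1 (rv_inj e)), smul_zero]
  · rw [hJ_smul_left, hJ_smul_right, hJ_bV_bV, rv_rv, if_neg h.2.2.2, mul_zero, mul_zero, map_zero,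
      add_zero]

theorem X_mulVec {a b : Fin n} (h : Quad a b) (t : F) (u : Fin n → F) :
    mt (X S a b t) *ᵥ u = u + (t * u b) • bV a - (S.σ t * u (rv a)) • bV (rv b) := by
  unfold X
  rw [eG_mulVec (X_ok h t), hJ_bV_right, hJ_smul_right, hJ_bV_right, rv_rv, map_neg, S.invol]
  module

theorem X_bV_b {a b : Fin n} (h : Quad a b) (t : F) :
    mt (X S a b t) *ᵥ bV b = bV b + t • bV a := by
  rw [X_mulVec h, bV_apply, bV_apply, if_pos rfl, if_neg (fun e => h.2.1 (by rw [← e, rv_rv]))]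
  module

theorem X_bV_rva {a b : Fin n} (h : Quad a b) (t : F) :
    mt (X S a b t) *ᵥ bV (rv a) = bV (rv a) - S.σ t • bV (rv b) := by
  rw [X_mulVec h, bV_apply, bV_apply, if_pos rfl, if_neg (fun e => h.2.1 (by rw [e, rv_rv]))]
  module

theorem X_bV_of_ne {a b : Fin n} (h : Quad a b) (t : F) {j : Fin n} (h1 : j ≠ b)
    (h2 : j ≠ rv a) : mt (X S a b t) *ᵥ bV j = bV j := by
  rw [X_mulVec h, bV_apply, bV_apply, if_neg h1.symm,
    if_neg (fun e => h2 e.symm)]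
  module

/-- the monomial element of a linear node -/
noncomputable def nW (S : SInv F) (a b : Fin n) (t : F) : ↥(GJ n S) :=
  X S a b t * X S b a (-t⁻¹) * X S a b t

theorem nW_bV_a {a b : Fin n} (h : Quad a b) {t : F} (ht : t ≠ 0) :
    mt (nW S a b t) *ᵥ bV a = (-t⁻¹) • bV b := by
  simp only [nW, mt_mul_mulVec, Matrix.mulVec_add, Matrix.mulVec_smul,
    X_bV_of_ne h t h.1 h.2.2.1.symm, X_bV_b h.symm, X_bV_b h]
  match_scalars <;> field_simp <;> ring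

theorem nW_bV_b {a b : Fin n} (h : Quad a b) {t : F} (ht : t ≠ 0) :
    mt (nW S a b t) *ᵥ bV b = t • bV a := by
  simp only [nW, mt_mul_mulVec, Matrix.mulVec_add, Matrix.mulVec_smul, X_bV_b h, X_bV_b h.symm,
    X_bV_of_ne h t h.1 h.2.2.1.symm, X_bV_of_ne h.symm (-t⁻¹) h.1.symm h.2.2.2.symm]
  match_scalars <;> field_simp <;> ring

theorem nW_bV_rva {a b : Fin n} (h : Quad a b) {t : F} (ht : t ≠ 0) :
    mt (nW S a b t) *ᵥ bV (rv a) = (-(S.σ t)) • bV (rv b) := by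
  have hσt : S.σ t ≠ 0 := fun e => ht (sigma_eq_zero e)
  have hne1 : rv b ≠ b := h.2.2.2
  have hne2 : rv b ≠ rv a := fun e => h.1 (rv_inj e).symm
  have hne3 : rv a ≠ a := h.2.2.1
  simp only [nW, mt_mul_mulVec, Matrix.mulVec_sub, Matrix.mulVec_smul, X_bV_rva h,
    X_bV_rva h.symm, X_bV_of_ne h.symm (-t⁻¹) hne3 (fun e => h.1 (rv_inj e)),
    X_bV_of_ne h t hne1 hne2, map_neg, map_inv₀]
  match_scalars <;> field_simp <;> ring

theorem nW_bV_rvb {a b : Fin n} (h : Quad a b) {t : F} (ht : t ≠ 0) :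
    mt (nW S a b t) *ᵥ bV (rv b) = (S.σ t)⁻¹ • bV (rv a) := by
  have hσt : S.σ t ≠ 0 := fun e => ht (sigma_eq_zero e)
  have hne1 : rv b ≠ b := h.2.2.2
  have hne2 : rv b ≠ rv a := fun e => h.1 (rv_inj e).symm
  simp only [nW, mt_mul_mulVec, Matrix.mulVec_sub, Matrix.mulVec_smul, X_bV_rva h,
    X_bV_rva h.symm, X_bV_of_ne h t hne1 hne2, map_neg, map_inv₀]
  match_scalars <;> field_simp <;> ring

theorem nW_bV_of_ne {a b : Fin n} (h : Quad a b) (t : F) {j : Fin n} (h1 : j ≠ a) (h2 : j ≠ b)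
    (h3 : j ≠ rv a) (h4 : j ≠ rv b) : mt (nW S a b t) *ᵥ bV j = bV j := by
  unfold nW
  rw [mt_mul_mulVec, mt_mul_mulVec, X_bV_of_ne h t h2 h3, X_bV_of_ne h.symm _ h1 h4,
    X_bV_of_ne h t h2 h3]

theorem inv_mulVec_eq {g : ↥(GJ n S)} {v w : Fin n → F} (h : mt g *ᵥ v = w) :
    mt g⁻¹ *ᵥ w = v := by
  rw [← h, mt_inv_mulVec]

/-- the torus element of a linear node -/
noncomputable def hW (S : SInv F) (a b : Fin n) (t : F) : ↥(GJ n S) :=
  nW S a b t * (nW S a b 1)⁻¹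

theorem hW_bV_a {a b : Fin n} (h : Quad a b) {t : F} (ht : t ≠ 0) :
    mt (hW S a b t) *ᵥ bV a = t • bV a := by
  have h1 : mt (nW S a b 1)⁻¹ *ᵥ bV a = bV b := by
    apply inv_mulVec_eq
    rw [nW_bV_b h one_ne_zero, one_smul]
  unfold hW
  rw [mt_mul_mulVec, h1, nW_bV_b h ht]

theorem hW_bV_b {a b : Fin n} (h : Quad a b) {t : F} (ht : t ≠ 0) :
    mt (hW S a b t) *ᵥ bV b = t⁻¹ • bV b := by
  have h1 : mt (nW S a b 1)⁻¹ *ᵥ bV b = (-1 : F) • bV a := by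
    apply inv_mulVec_eq
    rw [Matrix.mulVec_smul, nW_bV_a h one_ne_zero]
    simp
  unfold hW
  rw [mt_mul_mulVec, h1, Matrix.mulVec_smul, nW_bV_a h ht]
  simp

theorem hW_bV_rva {a b : Fin n} (h : Quad a b) {t : F} (ht : t ≠ 0) :
    mt (hW S a b t) *ᵥ bV (rv a) = (S.σ t)⁻¹ • bV (rv a) := by
  have h1 : mt (nW S a b 1)⁻¹ *ᵥ bV (rv a) = bV (rv b) := by
    apply inv_mulVec_eq
    rw [nW_bV_rvb h one_ne_zero, map_one, inv_one, one_smul]
  unfold hW
  rw [mt_mul_mulVec, h1, nW_bV_rvb h ht]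

theorem hW_bV_rvb {a b : Fin n} (h : Quad a b) {t : F} (ht : t ≠ 0) :
    mt (hW S a b t) *ᵥ bV (rv b) = S.σ t • bV (rv b) := by
  have h1 : mt (nW S a b 1)⁻¹ *ᵥ bV (rv b) = (-1 : F) • bV (rv a) := by
    apply inv_mulVec_eq
    rw [Matrix.mulVec_smul, nW_bV_rva h one_ne_zero, map_one]
    simp
  unfold hW
  rw [mt_mul_mulVec, h1, Matrix.mulVec_smul, nW_bV_rva h ht]
  simp

theorem hW_bV_of_ne {a b : Fin n} (h : Quad a b) (t : F) {j : Fin n} (h1 : j ≠ a) (h2 : j ≠ b)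
    (h3 : j ≠ rv a) (h4 : j ≠ rv b) : mt (hW S a b t) *ᵥ bV j = bV j := by
  have h5 : mt (nW S a b 1)⁻¹ *ᵥ bV j = bV j :=
    inv_mulVec_eq (nW_bV_of_ne h 1 h1 h2 h3 h4)
  unfold hW
  rw [mt_mul_mulVec, h5, nW_bV_of_ne h t h1 h2 h3 h4]

/-! ### The last node -/

/-- the monomial element of the rank one group at the hyperbolic pair `e_p`, `e_{rv p}` -/
noncomputable def nL (S : SInv F) (p : Fin n) (v : Fin n → F) (β : F) : ↥(GJ n S) :=
  eG S (bV (rv p)) (β⁻¹ • v) (S.σ β)⁻¹ * eG S (bV p) v β *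
    eG S (bV (rv p)) ((S.σ β)⁻¹ • v) (S.σ β)⁻¹

/-- the hypotheses on the data of `nL` -/
structure LOk (S : SInv F) (p : Fin n) (v : Fin n → F) (β : F) : Prop where
  hp : rv p ≠ p
  v1 : v p = 0
  v2 : v (rv p) = 0
  hβ : β + S.σ β = hJ S v v
  β0 : β ≠ 0

theorem LOk.σβ0 {p : Fin n} {v : Fin n → F} {β : F} (h : LOk S p v β) : S.σ β ≠ 0 :=
  fun e => h.β0 (sigma_eq_zero e)

theorem LOk.ok2 {p : Fin n} {v : Fin n → F} {β : F} (h : LOk S p v β) : EOk S (bV p) v β :=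
  eOk_bV h.hp h.v2 h.hβ

theorem LOk.ok1 {p : Fin n} {v : Fin n → F} {β : F} (h : LOk S p v β) :
    EOk S (bV (rv p)) (β⁻¹ • v) (S.σ β)⁻¹ := by
  have hp' : rv (rv p) ≠ rv p := by rw [rv_rv]; exact h.hp.symm
  apply eOk_bV hp'
  · rw [rv_rv, Pi.smul_apply, h.v1, smul_zero]
  · rw [hJ_smul_left, hJ_smul_right, ← h.hβ]
    simp only [map_inv₀, S.invol]
    have := h.β0
    have := h.σβ0
    field_simp

theorem LOk.ok3 {p : Fin n} {v : Fin n → F} {β : F} (h : LOk S p v β) :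
    EOk S (bV (rv p)) ((S.σ β)⁻¹ • v) (S.σ β)⁻¹ := by
  have hp' : rv (rv p) ≠ rv p := by rw [rv_rv]; exact h.hp.symm
  apply eOk_bV hp'
  · rw [rv_rv, Pi.smul_apply, h.v1, smul_zero]
  · rw [hJ_smul_left, hJ_smul_right, ← h.hβ]
    simp only [map_inv₀, S.invol]
    have := h.β0
    have := h.σβ0
    field_simp

theorem nL_mulVec {p : Fin n} {v : Fin n → F} {β : F} (h : LOk S p v β) (x : Fin n → F) :
    mt (nL S p v β) *ᵥ x = x - (x p + β * x (rv p)) • bV p -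
      (x (rv p) + (S.σ β)⁻¹ * x p) • bV (rv p) - (β⁻¹ * hJ S x v) • v := by
  have hb := h.β0
  have hsb := h.σβ0
  have e2 : hJ S (bV (rv p) : Fin n → F) (bV (rv p)) = 0 := by
    rw [hJ_bV_bV, rv_rv, if_neg h.hp]
  have e3 : hJ S (bV p : Fin n → F) (bV (rv p)) = 1 := by rw [hJ_bV_bV, rv_rv, if_pos rfl]
  have e4 : hJ S (bV (rv p) : Fin n → F) (bV p) = 1 := by rw [hJ_bV_bV, if_pos rfl]
  have e5 : hJ S v (bV p) = 0 := by rw [hJ_bV_right, h.v2]
  have e6 : hJ S v (bV (rv p)) = 0 := by rw [hJ_bV_right, rv_rv, h.v1]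
  have e7 : hJ S (bV p) v = 0 := by rw [hJ_bV_left, h.v2, map_zero]
  have e8 : hJ S (bV (rv p)) v = 0 := by rw [hJ_bV_left, rv_rv, h.v1, map_zero]
  have e9 : hJ S v v = β + S.σ β := h.hβ.symm
  have e10 : hJ S x (bV p) = x (rv p) := hJ_bV_right x p
  have e11 : hJ S x (bV (rv p)) = x p := by rw [hJ_bV_right, rv_rv]
  unfold nL
  rw [mt_mul_mulVec, mt_mul_mulVec, eG_mulVec h.ok3, eG_mulVec h.ok2, eG_mulVec h.ok1]
  simp only [hJ_add_left, hJ_sub_left, hJ_smul_left, hJ_smul_right, e2, e3, e4, e5, e6, e7, e8,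
    e9, e10, e11, map_inv₀, S.invol]
  match_scalars <;> field_simp <;> ring

theorem nL_bV_p {p : Fin n} {v : Fin n → F} {β : F} (h : LOk S p v β) :
    mt (nL S p v β) *ᵥ bV p = (-(S.σ β)⁻¹) • bV (rv p) := by
  rw [nL_mulVec h, bV_apply, bV_apply, if_pos rfl, if_neg h.hp, hJ_bV_left, h.v2]
  simp only [map_zero, mul_zero, add_zero, mul_one, zero_add, zero_smul, sub_zero, one_smul,
    sub_self, zero_sub, neg_smul]

theorem nL_bV_rv {p : Fin n} {v : Fin n → F} {β : F} (h : LOk S p v β) :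
    mt (nL S p v β) *ᵥ bV (rv p) = (-β) • bV p := by
  rw [nL_mulVec h, bV_apply, bV_apply, if_pos rfl, if_neg h.hp.symm, hJ_bV_left, rv_rv, h.v1]
  simp only [map_zero, mul_zero, add_zero, mul_one, zero_add, zero_smul, sub_zero, one_smul,
    neg_smul]
  abel

theorem nL_of_perp {p : Fin n} {v : Fin n → F} {β : F} (h : LOk S p v β) {w : Fin n → F}
    (h1 : w p = 0) (h2 : w (rv p) = 0) :
    mt (nL S p v β) *ᵥ w = w - (β⁻¹ * hJ S w v) • v := by
  rw [nL_mulVec h, h1, h2]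
  simp

/-- the torus element of the last node -/
noncomputable def hL (S : SInv F) (p : Fin n) (v : Fin n → F) (β β₀ : F) : ↥(GJ n S) :=
  nL S p v β * nL S p 0 (-β₀)

theorem LOk.zero {p : Fin n} (hp : rv p ≠ p) {β₀ : F} (h0 : β₀ ≠ 0) (hs : β₀ + S.σ β₀ = 0) :
    LOk S p (0 : Fin n → F) (-β₀) := by
  refine ⟨hp, rfl, rfl, ?_, neg_ne_zero.mpr h0⟩
  rw [hJ_zero_left, map_neg]
  linear_combination -hs

theorem hL_bV_p {p : Fin n} {v : Fin n → F} {β β₀ : F} (h : LOk S p v β) (h0 : β₀ ≠ 0)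
    (hs : β₀ + S.σ β₀ = 0) : mt (hL S p v β β₀) *ᵥ bV p = (β / β₀) • bV p := by
  have hz := LOk.zero (S := S) h.hp h0 hs
  have hsb : S.σ β₀ ≠ 0 := fun e => h0 (sigma_eq_zero e)
  have e : S.σ β₀ = -β₀ := by linear_combination hs
  unfold hL
  rw [mt_mul_mulVec, nL_bV_p hz, Matrix.mulVec_smul, nL_bV_rv h, map_neg, e]
  match_scalars
  field_simp

theorem hL_bV_rv {p : Fin n} {v : Fin n → F} {β β₀ : F} (h : LOk S p v β) (h0 : β₀ ≠ 0)
    (hs : β₀ + S.σ β₀ = 0) :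
    mt (hL S p v β β₀) *ᵥ bV (rv p) = (-β₀ / S.σ β) • bV (rv p) := by
  have hz := LOk.zero (S := S) h.hp h0 hs
  have hsb := h.σβ0
  unfold hL
  rw [mt_mul_mulVec, nL_bV_rv hz, Matrix.mulVec_smul, nL_bV_p h]
  match_scalars
  field_simp

theorem hL_of_perp {p : Fin n} {v : Fin n → F} {β β₀ : F} (h : LOk S p v β) (h0 : β₀ ≠ 0)
    (hs : β₀ + S.σ β₀ = 0) {w : Fin n → F} (h1 : w p = 0) (h2 : w (rv p) = 0) :
    mt (hL S p v β β₀) *ᵥ w = w - (β⁻¹ * hJ S w v) • v := by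
  have hz := LOk.zero (S := S) h.hp h0 hs
  unfold hL
  rw [mt_mul_mulVec, nL_of_perp hz h1 h2, hJ_zero_right, mul_zero, zero_smul, sub_zero,
    nL_of_perp h h1 h2]

end Cfsg.Agent.Lib.Helper27.SUFus
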