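import Mathlib
import Cfsg.Agent.Lib.Helper27.SUFusD

set_option autoImplicit false

/-! Hypotheses on the involution, first half indices, membership of the rank one elements in the
determinant one subgroup, and two product identities for Eichler transformations. -/

namespace Cfsg.Agent.Lib.Helper27.SUFus

open Matrix Cfsg.Agent.Lib.helper14.UBN

universe u
variable {F : Type u} [Field F] {n : ℕ} {S : SInv F}

/-- the hypotheses on the involution: it is not the identity and its norm map is onto the fixed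
field -/
structure SGood (S : SInv F) : Prop where
  ne : ∃ δ, S.σ δ ≠ δ
  nsurj : ∀ c, S.σ c = c → ∃ d, d * S.σ d = c

theorem SGood.hasSkew (h : SGood S) : HasSkew S := by
  obtain ⟨δ, hδ⟩ := h.ne
  refine ⟨δ - S.σ δ, sub_ne_zero.mpr (Ne.symm hδ), ?_⟩
  rw [map_sub, S.invol]
  ring

theorem SGood.trace_one (h : SGood S) : ∃ θ, θ + S.σ θ = 1 := by
  by_cases h2 : (1 : F) + 1 = 0
  · obtain ⟨δ, hδ⟩ := h.ne
    have hne : δ + S.σ δ ≠ 0 := by
      intro e
      apply hδ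
      have : S.σ δ = -δ := by linear_combination e
      rw [this]
      linear_combination (-δ) * h2
    refine ⟨δ / (δ + S.σ δ), ?_⟩
    rw [map_div₀, map_add, S.invol, add_comm (S.σ δ) δ, ← add_div, div_self hne]
  · refine ⟨1 / (1 + 1), ?_⟩
    rw [map_div₀, map_add, map_one]
    field_simp

theorem hJ_self_fixed (y : Fin n → F) : S.σ (hJ S y y) = hJ S y y := hJ_symm y y

theorem SGood.exists_valid (h : SGood S) (y : Fin n → F) : ∃ γ, γ + S.σ γ = hJ S y y := by
  obtain ⟨θ, hθ⟩ := h.trace_one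
  refine ⟨hJ S y y * θ, ?_⟩
  rw [map_mul, hJ_self_fixed]
  linear_combination (hJ S y y) * hθ

/-- indices of the first half -/
def FH (p : Fin n) : Prop := rk p < rk (rv p)

theorem FH.ne {p : Fin n} (h : FH p) : rv p ≠ p := rv_ne_of_lt h

theorem FH.quad {a b : Fin n} (ha : FH a) (hb : FH b) (hab : a ≠ b) : Quad a b := by
  refine ⟨hab, ?_, ha.ne, hb.ne⟩
  intro e
  have h1 := rk_add_rv a
  have h2 := rk_add_rv b
  unfold FH at ha hb
  rw [e, rv_rv] at ha
  omega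

theorem FH.lt_rv {a b : Fin n} (ha : FH a) (hb : FH b) : rk a < rk (rv b) := by
  have h1 := rk_add_rv a
  have h2 := rk_add_rv b
  unfold FH at ha hb
  omega

section mem

variable [Fintype F]

theorem X_mem_NJ (p : ℕ) [Fact p.Prime] [CharP F p] {a b : Fin n} (h : Quad a b) (t : F) : X S a b t ∈ NJ n S :=
  eG_mem_NJ p (X_ok h t)

theorem nW_mem_NJ (p : ℕ) [Fact p.Prime] [CharP F p] {a b : Fin n} (h : Quad a b) (t : F) : nW S a b t ∈ NJ n S :=
  (NJ n S).mul_mem ((NJ n S).mul_mem (X_mem_NJ p h t) (X_mem_NJ p h.symm _)) (X_mem_NJ p h t)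

theorem hW_mem_NJ (p : ℕ) [Fact p.Prime] [CharP F p] {a b : Fin n} (h : Quad a b) (t : F) : hW S a b t ∈ NJ n S :=
  (NJ n S).mul_mem (nW_mem_NJ p h t) ((NJ n S).inv_mem (nW_mem_NJ p h 1))

theorem nL_mem_NJ (p : ℕ) [Fact p.Prime] [CharP F p] {a : Fin n} {v : Fin n → F} {β : F} (h : LOk S a v β) : nL S a v β ∈ NJ n S :=
  (NJ n S).mul_mem ((NJ n S).mul_mem (eG_mem_NJ p h.ok1) (eG_mem_NJ p h.ok2)) (eG_mem_NJ p h.ok3)

theorem hL_mem_NJ (p : ℕ) [Fact p.Prime] [CharP F p] {a : Fin n} {v : Fin n → F} {β β₀ : F} (h : LOk S a v β) (h0 : β₀ ≠ 0)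
    (hs : β₀ + S.σ β₀ = 0) : hL S a v β β₀ ∈ NJ n S :=
  (NJ n S).mul_mem (nL_mem_NJ p h) (nL_mem_NJ p (LOk.zero h.hp h0 hs))

end mem

/-- a transvection along `e_b - σ(c) e_a` -/
theorem tv_sum_identity {a b : Fin n} (h : Quad a b) (c β : F) (hs : β + S.σ β = 0) :
    eG S (bV b - S.σ c • bV a) 0 β =
      eG S (bV b) 0 β * eG S (bV a) 0 (c * S.σ c * β) * eG S (bV a) ((β * c) • bV b) 0 := by
  have eaa : hJ S (bV a : Fin n → F) (bV a) = 0 := by rw [hJ_bV_bV, if_neg h.2.2.1.symm]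
  have ebb : hJ S (bV b : Fin n → F) (bV b) = 0 := by rw [hJ_bV_bV, if_neg h.2.2.2.symm]
  have eab : hJ S (bV a : Fin n → F) (bV b) = 0 := by rw [hJ_bV_bV, if_neg h.2.1]
  have eba : hJ S (bV b : Fin n → F) (bV a) = 0 := by
    rw [hJ_bV_bV, if_neg (fun e => h.2.1 (by rw [e, rv_rv]))]
  have eσ : S.σ β = -β := by linear_combination hs
  have h1 : EOk S (bV b - S.σ c • bV a) 0 β := by
    refine ⟨?_, ?_, ?_⟩
    · simp only [hJ_sub_left, hJ_sub_right, hJ_smul_left, hJ_smul_right, eaa, ebb, eab, eba]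
      ring
    · rw [hJ_zero_left]
    · rw [hJ_zero_left, hs]
  have h2 : EOk S (bV b) 0 β := ⟨ebb, hJ_zero_left _, by rw [hJ_zero_left, hs]⟩
  have h3 : EOk S (bV a) 0 (c * S.σ c * β) := by
    refine ⟨eaa, hJ_zero_left _, ?_⟩
    rw [hJ_zero_left, map_mul, map_mul, S.invol, eσ]
    ring
  have h4 : EOk S (bV a) ((β * c) • bV b) 0 := by
    refine ⟨eaa, ?_, ?_⟩
    · rw [hJ_smul_left, eba, mul_zero]
    · rw [hJ_smul_left, hJ_smul_right, ebb, map_zero, mul_zero, mul_zero, add_zero]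
  apply ext_mulVec
  intro x
  have hxa : hJ S x (bV a) = x (rv a) := hJ_bV_right x a
  have hxb : hJ S x (bV b) = x (rv b) := hJ_bV_right x b
  rw [mt_mul_mulVec, mt_mul_mulVec, eG_mulVec h4, eG_mulVec h3, eG_mulVec h2, eG_mulVec h1]
  simp only [hJ_add_left, hJ_sub_left, hJ_sub_right, hJ_smul_left, hJ_smul_right, hJ_zero_right,
    hJ_zero_left, eaa, ebb, eab, eba, hxa, hxb, map_mul, S.invol, eσ]
  match_scalars <;> ring

/-- an Eichler transformation along `e_a + e_b` -/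
theorem eG_sum_identity {a b : Fin n} (h : Quad a b) {v : Fin n → F} {β : F}
    (hva : v (rv a) = 0) (hvb : v (rv b) = 0) (hβ : β + S.σ β = hJ S v v) :
    eG S (bV a + bV b) v β = eG S (bV a) (v - β • bV b) β * eG S (bV b) v β := by
  have eaa : hJ S (bV a : Fin n → F) (bV a) = 0 := by rw [hJ_bV_bV, if_neg h.2.2.1.symm]
  have ebb : hJ S (bV b : Fin n → F) (bV b) = 0 := by rw [hJ_bV_bV, if_neg h.2.2.2.symm]
  have eab : hJ S (bV a : Fin n → F) (bV b) = 0 := by rw [hJ_bV_bV, if_neg h.2.1]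
  have eba : hJ S (bV b : Fin n → F) (bV a) = 0 := by
    rw [hJ_bV_bV, if_neg (fun e => h.2.1 (by rw [e, rv_rv]))]
  have eva : hJ S v (bV a) = 0 := by rw [hJ_bV_right, hva]
  have evb : hJ S v (bV b) = 0 := by rw [hJ_bV_right, hvb]
  have eav : hJ S (bV a) v = 0 := by rw [hJ_bV_left, hva, map_zero]
  have ebv : hJ S (bV b) v = 0 := by rw [hJ_bV_left, hvb, map_zero]
  have h1 : EOk S (bV a + bV b) v β := by
    refine ⟨?_, ?_, hβ⟩
    · simp only [hJ_add_left, hJ_add_right, eaa, ebb, eab, eba, add_zero]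
    · rw [hJ_add_right, eva, evb, add_zero]
  have h2 : EOk S (bV a) (v - β • bV b) β := by
    refine ⟨eaa, ?_, ?_⟩
    · rw [hJ_sub_left, hJ_smul_left, eva, eba, mul_zero, sub_zero]
    · simp only [hJ_sub_left, hJ_sub_right, hJ_smul_left, hJ_smul_right, evb, ebv, ebb, mul_zero,
        sub_zero]
      exact hβ
  have h3 : EOk S (bV b) v β := ⟨ebb, evb, hβ⟩
  apply ext_mulVec
  intro x
  have hxa : hJ S x (bV a) = x (rv a) := hJ_bV_right x a
  have hxb : hJ S x (bV b) = x (rv b) := hJ_bV_right x b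
  rw [mt_mul_mulVec, eG_mulVec h3, eG_mulVec h2, eG_mulVec h1]
  simp only [hJ_add_left, hJ_sub_left, hJ_add_right, hJ_sub_right, hJ_smul_left, hJ_smul_right,
    ebb, eba, eva, evb, ebv, hxa, hxb]
  have e9 : hJ S v v = β + S.σ β := hβ.symm
  rw [e9]
  match_scalars <;> ring

end Cfsg.Agent.Lib.Helper27.SUFus
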