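import Mathlib
import Cfsg.Agent.Lib.Helper27.SUFusE

set_option autoImplicit false

/-! Subgroups of the unitriangular subgroup closed under fusion in the special unitary group:
propagation of root elements. -/

namespace Cfsg.Agent.Lib.Helper27.SUFus

open Matrix Cfsg.Agent.Lib.helper14.UBN

universe u
variable {F : Type u} [Field F] {n : ℕ} {S : SInv F}

/-- subgroups of the unitriangular group closed under fusion in the determinant one subgroup -/
def Closed (T : Subgroup ↥(GJ n S)) : Prop :=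
  T ≤ UU n S ∧ ∀ x ∈ T, ∀ g ∈ NJ n S, g * x * g⁻¹ ∈ UU n S → g * x * g⁻¹ ∈ T

/-- all transvections along `e_a` lie in `T` -/
def TV (T : Subgroup ↥(GJ n S)) (a : Fin n) : Prop :=
  ∀ β, β + S.σ β = 0 → eG S (bV a) 0 β ∈ T

theorem tv_ok {a : Fin n} (ha : rv a ≠ a) {β : F} (hβ : β + S.σ β = 0) :
    EOk S (bV a) 0 β := by
  apply eOk_bV ha rfl
  rw [hJ_zero_left, hβ]

theorem tv_mem_UU {a : Fin n} (ha : FH a) {β : F} (hβ : β + S.σ β = 0) :
    eG S (bV a) 0 β ∈ UU n S :=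
  eG_inner_mem_UU ha Inner.zero (tv_ok ha.ne hβ)

section closed

variable [Fintype F] (p : ℕ) [Fact p.Prime] [CharP F p]

include p in
/-- one nontrivial transvection gives all transvections along the same vector -/
theorem tv_all (hG : SGood S) {T : Subgroup ↥(GJ n S)} (hT : Closed T) {a b : Fin n}
    (ha : FH a) (hb : FH b) (hab : a ≠ b) {β₀ : F} (h0 : β₀ ≠ 0) (hs : β₀ + S.σ β₀ = 0)
    (hmem : eG S (bV a) 0 β₀ ∈ T) : TV T a := by
  intro β hβ
  by_cases hβ0 : β = 0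
  · rw [hβ0, eG_zero]
    exact T.one_mem
  have hq := ha.quad hb hab
  have e0 : S.σ β₀ = -β₀ := by linear_combination hs
  have e1 : S.σ β = -β := by linear_combination hβ
  have hc : S.σ (β / β₀) = β / β₀ := by
    rw [map_div₀, e0, e1, neg_div_neg_eq]
  obtain ⟨d, hd⟩ := hG.nsurj _ hc
  have hd0 : d ≠ 0 := by
    intro e
    rw [e, zero_mul] at hd
    exact hβ0 ((div_eq_zero_iff.mp hd.symm).resolve_right h0)
  have hok := tv_ok (S := S) ha.ne hs
  have hconj : hW S a b d * eG S (bV a) 0 β₀ * (hW S a b d)⁻¹ = eG S (bV a) 0 β := by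
    rw [eG_conj hok, hW_bV_a hq hd0, Matrix.mulVec_zero, eG_smul hok]
    apply eG_congr
    · rw [smul_zero]
    · rw [hd]
      field_simp
  rw [← hconj]
  apply hT.2 _ hmem _ (hW_mem_NJ p hq d)
  rw [hconj]
  exact tv_mem_UU ha hβ

include p in
/-- transvections along one first half basis vector give those along another -/
theorem tv_move {T : Subgroup ↥(GJ n S)} (hT : Closed T) {a b : Fin n}
    (ha : FH a) (hb : FH b) (hab : a ≠ b) (h : TV T a) : TV T b := by
  intro β hβ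
  have hq := ha.quad hb hab
  have hok := tv_ok (S := S) ha.ne hβ
  have hokb := tv_ok (S := S) hb.ne hβ
  have hconj : nW S a b 1 * eG S (bV a) 0 β * (nW S a b 1)⁻¹ = eG S (bV b) 0 β := by
    rw [eG_conj hok, nW_bV_a hq one_ne_zero, Matrix.mulVec_zero, eG_smul hokb]
    apply eG_congr
    · rw [smul_zero]
    · simp
  rw [← hconj]
  apply hT.2 _ (h β hβ) _ (nW_mem_NJ p hq 1)
  rw [hconj]
  exact tv_mem_UU hb hβ

include p in
/-- the root elements `e_a + e_b` -/
theorem short_plus (hG : SGood S) {T : Subgroup ↥(GJ n S)} (hT : Closed T) {a b : Fin n}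
    (ha : FH a) (hb : FH b) (hab : a ≠ b) (hTa : TV T a) (hTb : TV T b) (c : F) :
    eG S (bV a) (c • bV b) 0 ∈ T := by
  obtain ⟨β₀, h0, hs⟩ := hG.hasSkew
  have hq := ha.quad hb hab
  have e0 : S.σ β₀ = -β₀ := by linear_combination hs
  set c' : F := c / β₀ with hc'
  have hyok : EOk S (bV a) (c' • bV (rv b)) 0 := by
    apply eOk_bV ha.ne
    · rw [Pi.smul_apply, bV_apply, if_neg (fun e => hab (rv_inj e)), smul_zero]
    · rw [hJ_smul_left, hJ_smul_right, hJ_bV_bV, rv_rv, if_neg hb.ne, mul_zero, mul_zero,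
        map_zero, add_zero]
  set y : ↥(GJ n S) := eG S (bV a) (c' • bV (rv b)) 0 with hy
  have hyN : y ∈ NJ n S := eG_mem_NJ p hyok
  have hyb : mt y *ᵥ bV b = bV b - S.σ c' • bV a := by
    rw [hy, eG_mulVec hyok, hJ_bV_bV, if_neg (fun e => hq.2.1 (by rw [e, rv_rv])), hJ_smul_right,
      hJ_bV_bV, rv_rv, if_pos rfl]
    module
  have hokb := tv_ok (S := S) hb.ne hs
  have hskew : c' * S.σ c' * β₀ + S.σ (c' * S.σ c' * β₀) = 0 := by
    rw [map_mul, map_mul, S.invol, e0]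
    ring
  have hconj : y * eG S (bV b) 0 β₀ * y⁻¹ =
      eG S (bV b) 0 β₀ * eG S (bV a) 0 (c' * S.σ c' * β₀) *
        eG S (bV a) ((β₀ * c') • bV b) 0 := by
    rw [eG_conj hokb, hyb, Matrix.mulVec_zero, tv_sum_identity hq c' β₀ hs]
  have h1 : eG S (bV b) 0 β₀ ∈ T := hTb β₀ hs
  have h2 : eG S (bV a) 0 (c' * S.σ c' * β₀) ∈ T := hTa _ hskew
  have hplusU : eG S (bV a) ((β₀ * c') • bV b) 0 ∈ UU n S := by
    apply eG_bV_mem_UU ha
    · intro i hi
      rw [Pi.smul_apply, bV_apply, if_neg, smul_zero]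
      intro e
      rw [e] at hi
      have := ha.lt_rv hb
      have := hb.lt_rv ha
      unfold FH at ha hb
      omega
    · apply eOk_bV ha.ne
      · rw [Pi.smul_apply, bV_apply, if_neg (fun e => hq.2.1 (by rw [← e, rv_rv])), smul_zero]
      · rw [hJ_smul_left, hJ_smul_right, hJ_bV_bV, if_neg hb.ne.symm, mul_zero, mul_zero,
          map_zero, add_zero]
  have h3 : y * eG S (bV b) 0 β₀ * y⁻¹ ∈ T := by
    apply hT.2 _ h1 _ hyN
    rw [hconj]
    exact (UU n S).mul_mem ((UU n S).mul_mem (hT.1 h1) (hT.1 h2)) hplusU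
  rw [hconj] at h3
  have h4 : eG S (bV a) ((β₀ * c') • bV b) 0 =
      (eG S (bV b) 0 β₀ * eG S (bV a) 0 (c' * S.σ c' * β₀))⁻¹ *
        (eG S (bV b) 0 β₀ * eG S (bV a) 0 (c' * S.σ c' * β₀) *
          eG S (bV a) ((β₀ * c') • bV b) 0) := by group
  have h5 : β₀ * c' = c := by
    rw [hc']
    field_simp
  rw [← h5, h4]
  exact T.mul_mem (T.inv_mem (T.mul_mem h1 h2)) h3

include p in
/-- the root elements `e_a - e_b` -/
theorem short_minus (hG : SGood S) {T : Subgroup ↥(GJ n S)} (hT : Closed T) {a b : Fin n}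
    (ha : FH a) (hb : FH b) (hlt : rk a < rk b) (h : ∀ c : F, eG S (bV a) (c • bV b) 0 ∈ T) (c : F) :
    eG S (bV a) (c • bV (rv b)) 0 ∈ T := by
  obtain ⟨β₀, h0, hs⟩ := hG.hasSkew
  have hab : a ≠ b := fun e => by rw [e] at hlt; exact lt_irrefl _ hlt
  have hq := ha.quad hb hab
  have hL : LOk S b (0 : Fin n → F) β₀ := ⟨hb.ne, rfl, rfl, by rw [hJ_zero_left, hs], h0⟩
  have hsb := hL.σβ0
  set g : ↥(GJ n S) := nL S b 0 β₀ with hg
  have hgN : g ∈ NJ n S := nL_mem_NJ p hL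
  have hga : mt g *ᵥ bV a = bV a := by
    rw [hg, nL_of_perp hL, hJ_zero_right, mul_zero, zero_smul, sub_zero]
    · rw [bV_apply, if_neg hab.symm]
    · rw [bV_apply, if_neg (fun e => hq.2.1 e.symm)]
  have hgb : mt g *ᵥ bV b = (-(S.σ β₀)⁻¹) • bV (rv b) := nL_bV_p hL
  set c' : F := c / (-(S.σ β₀)⁻¹) with hc'
  have hok : EOk S (bV a) (c' • bV b) 0 := by
    apply eOk_bV ha.ne
    · rw [Pi.smul_apply, bV_apply, if_neg (fun e => hq.2.1 (by rw [← e, rv_rv])), smul_zero]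
    · rw [hJ_smul_left, hJ_smul_right, hJ_bV_bV, if_neg hb.ne.symm, mul_zero, mul_zero,
        map_zero, add_zero]
  have hconj : g * eG S (bV a) (c' • bV b) 0 * g⁻¹ = eG S (bV a) (c • bV (rv b)) 0 := by
    rw [eG_conj hok, hga, Matrix.mulVec_smul, hgb]
    apply eG_congr _ rfl
    rw [hc', smul_smul]
    congr 1
    field_simp
  rw [← hconj]
  apply hT.2 _ (h c') _ hgN
  rw [hconj]
  apply eG_bV_mem_UU ha
  · intro i hi
    rw [Pi.smul_apply, bV_apply, if_neg, smul_zero]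
    intro e
    rw [e] at hi
    have := (rk_rv_lt_iff b a).2 hlt
    omega
  · apply eOk_bV ha.ne
    · rw [Pi.smul_apply, bV_apply, if_neg (fun e => hab (rv_inj e)), smul_zero]
    · rw [hJ_smul_left, hJ_smul_right, hJ_bV_bV, rv_rv, if_neg hb.ne, mul_zero, mul_zero,
        map_zero, add_zero]

end closed

end Cfsg.Agent.Lib.Helper27.SUFus
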