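import Mathlib
import Cfsg.Agent.Lib.Helper27.SUFusF

set_option autoImplicit false

/-! Closed subgroups of the unitriangular subgroup: the root elements attached to the anisotropic
middle basis vector, and the assembly of all Eichler transformations. -/

namespace Cfsg.Agent.Lib.Helper27.SUFus

open Matrix Cfsg.Agent.Lib.helper14.UBN

universe u
variable {F : Type u} [Field F] {n : ℕ} {S : SInv F}

theorem mid_rk {m b : Fin n} (hm : rv m = m) (hb : FH b) : rk b < rk m ∧ rk m < rk (rv b) := by
  have h1 := rk_add_rv m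
  have h2 := rk_add_rv b
  rw [hm] at h1
  unfold FH at hb
  omega

theorem mid_ne {m b : Fin n} (hm : rv m = m) (hb : FH b) : m ≠ b ∧ m ≠ rv b := by
  have := mid_rk hm hb
  constructor
  · intro e
    rw [e] at this
    omega
  · intro e
    rw [e] at this
    omega

/-- all Eichler transformations along `e_a` with vector in the line of `e_i` lie in `T` -/
abbrev Piece (T : Subgroup ↥(GJ n S)) (a i : Fin n) : Prop :=
  ∀ c β : F, EOk S (bV a) (c • bV i) β → eG S (bV a) (c • bV i) β ∈ T

section closed

variable [Fintype F] (p : ℕ) [Fact p.Prime] [CharP F p]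

include p in
/-- the root elements of the anisotropic middle vector, first step -/
theorem mid_first {T : Subgroup ↥(GJ n S)} (hT : Closed T) {a b m : Fin n}
    (ha : FH a) (hb : FH b) (hlt : rk a < rk b) (hm : rv m = m)
    (hplus : ∀ c : F, eG S (bV a) (c • bV b) 0 ∈ T)
    (hminus : ∀ c : F, eG S (bV a) (c • bV (rv b)) 0 ∈ T) : Piece T a m := by
  intro c β hok
  have hab : a ≠ b := fun e => by rw [e] at hlt; exact lt_irrefl _ hlt
  have hq := ha.quad hb hab
  have hma := mid_ne hm ha
  have hmb := mid_ne hm hb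
  set v : Fin n → F := c • bV m with hv
  have hva : v (rv a) = 0 := by
    rw [hv, Pi.smul_apply, bV_apply, if_neg (fun e => hma.2 e.symm), smul_zero]
  have hvb : v (rv b) = 0 := by
    rw [hv, Pi.smul_apply, bV_apply, if_neg (fun e => hmb.2 e.symm), smul_zero]
  have hva' : v a = 0 := by
    rw [hv, Pi.smul_apply, bV_apply, if_neg (fun e => hma.1 e.symm), smul_zero]
  have hvb' : v b = 0 := by
    rw [hv, Pi.smul_apply, bV_apply, if_neg (fun e => hmb.1 e.symm), smul_zero]
  have hβ : β + S.σ β = hJ S v v := hok.2.2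
  -- the element `x`
  have hxok : EOk S (bV a) ((-1 : F) • bV (rv b)) 0 := by
    apply eOk_bV ha.ne
    · rw [Pi.smul_apply, bV_apply, if_neg (fun e => hab (rv_inj e)), smul_zero]
    · rw [hJ_smul_left, hJ_smul_right, hJ_bV_bV, rv_rv, if_neg hb.ne, mul_zero, mul_zero,
        map_zero, add_zero]
  set x : ↥(GJ n S) := eG S (bV a) ((-1 : F) • bV (rv b)) 0 with hx
  have hxT : x ∈ T := hminus (-1)
  have hxb : mt x *ᵥ bV b = bV a + bV b := by
    rw [hx, eG_mulVec hxok, hJ_bV_bV, if_neg (fun e => hq.2.1 (by rw [e, rv_rv])), hJ_smul_right,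
      hJ_bV_bV, rv_rv, if_pos rfl, map_neg, map_one]
    module
  have hxv : mt x *ᵥ v = v := by
    rw [hx, eG_mulVec hxok, hJ_bV_right, hva, hJ_smul_right, hJ_bV_right, rv_rv, hvb']
    simp
  -- the element `y`
  have hyok : EOk S (bV b) v β := eOk_bV hb.ne hvb hβ
  set y : ↥(GJ n S) := eG S (bV b) v β with hy
  have hyU : y ∈ UU n S := by
    apply eG_bV_mem_UU hb _ hyok
    intro i hi
    rw [hv, Pi.smul_apply, bV_apply, if_neg, smul_zero]
    intro e
    rw [e] at hi
    have := mid_rk hm hb
    omega
  have hconj : x * y * x⁻¹ = eG S (bV a) (v - β • bV b) β * y := by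
    rw [hy, eG_conj hyok, hxb, hxv, eG_sum_identity hq hva hvb hβ]
  have h1 : y * x⁻¹ * y⁻¹ ∈ T := by
    apply hT.2 _ (T.inv_mem hxT) _ (UU_le_NJ hyU)
    exact (UU n S).mul_mem ((UU n S).mul_mem hyU ((UU n S).inv_mem (hT.1 hxT)))
      ((UU n S).inv_mem hyU)
  have h2 : eG S (bV a) (v - β • bV b) β ∈ T := by
    have e : eG S (bV a) (v - β • bV b) β = x * (y * x⁻¹ * y⁻¹) := by
      have : eG S (bV a) (v - β • bV b) β = (x * y * x⁻¹) * y⁻¹ := by
        rw [hconj]
        group
      rw [this]
      group
    rw [e]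
    exact T.mul_mem hxT h1
  -- splitting
  have hok2 : EOk S (bV a) ((-β) • bV b) 0 := by
    apply eOk_bV ha.ne
    · rw [Pi.smul_apply, bV_apply, if_neg (fun e => hq.2.1 (by rw [← e, rv_rv])), smul_zero]
    · rw [hJ_smul_left, hJ_smul_right, hJ_bV_bV, if_neg hb.ne.symm, mul_zero, mul_zero,
        map_zero, add_zero]
  have hsplit : eG S (bV a) v β * eG S (bV a) ((-β) • bV b) 0 =
      eG S (bV a) (v - β • bV b) β := by
    rw [eG_mul hok hok2]
    apply eG_congr
    · rw [neg_smul, sub_eq_add_neg]
    · rw [hJ_smul_left, hJ_bV_left, hvb, map_zero, mul_zero, add_zero, add_zero]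
  have h3 : eG S (bV a) ((-β) • bV b) 0 ∈ T := hplus (-β)
  have e : eG S (bV a) v β =
      eG S (bV a) (v - β • bV b) β * (eG S (bV a) ((-β) • bV b) 0)⁻¹ := by
    rw [← hsplit]
    group
  rw [e]
  exact T.mul_mem h2 (T.inv_mem h3)

include p in
/-- the root elements of the anisotropic middle vector, transport -/
theorem mid_move {T : Subgroup ↥(GJ n S)} (hT : Closed T) {a b m : Fin n}
    (ha : FH a) (hb : FH b) (hab : a ≠ b) (hm : rv m = m) (h : Piece T a m) : Piece T b m := by
  intro c β hok
  have hq := ha.quad hb hab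
  have hma := mid_ne hm ha
  have hmb := mid_ne hm hb
  have hβ : β + S.σ β = hJ S ((-c) • bV m) ((-c) • bV m) := by
    have := hok.2.2
    rw [hJ_smul_left, hJ_smul_right] at this ⊢
    rw [map_neg]
    linear_combination this
  have hoka : EOk S (bV a) ((-c) • bV m) β := by
    apply eOk_bV ha.ne _ hβ
    rw [Pi.smul_apply, bV_apply, if_neg (fun e => hma.2 e.symm), smul_zero]
  have hgm : mt (nW S a b 1) *ᵥ bV m = bV m :=
    nW_bV_of_ne hq 1 hma.1 hmb.1 hma.2 hmb.2
  have hokb : EOk S (bV b) ((-c) • bV m) β := by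
    apply eOk_bV hb.ne _ hβ
    rw [Pi.smul_apply, bV_apply, if_neg (fun e => hmb.2 e.symm), smul_zero]
  have hconj : nW S a b 1 * eG S (bV a) ((-c) • bV m) β * (nW S a b 1)⁻¹ =
      eG S (bV b) (c • bV m) β := by
    rw [eG_conj hoka, nW_bV_a hq one_ne_zero, Matrix.mulVec_smul, hgm, eG_smul hokb]
    apply eG_congr
    · simp
    · simp
  rw [← hconj]
  apply hT.2 _ (h (-c) β hoka) _ (nW_mem_NJ p hq 1)
  rw [hconj]
  apply eG_bV_mem_UU hb _ hok
  intro i hi
  rw [Pi.smul_apply, bV_apply, if_neg, smul_zero]
  intro e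
  rw [e] at hi
  have := mid_rk hm hb
  omega

end closed

/-- assembling an Eichler transformation from its pieces -/
theorem eG_inner_mem (hG : SGood S) {T : Subgroup ↥(GJ n S)} {a : Fin n} (ha : FH a)
    (hTa : TV T a) (hpieces : ∀ i, rk a < rk i → rk i < rk (rv a) → Piece T a i)
    (s : Finset (Fin n)) : ∀ z : Fin n → F, Inner a z → (∀ i, i ∉ s → z i = 0) →
      ∀ β, EOk S (bV a) z β → eG S (bV a) z β ∈ T := by
  classical
  induction s using Finset.induction_on with
  | empty =>
    intro z _ hz β hok
    have hz0 : z = 0 := by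
      funext i
      exact hz i (Finset.notMem_empty i)
    rw [hz0] at hok ⊢
    apply hTa
    have := hok.2.2
    rwa [hJ_zero_left] at this
  | insert i s hi ih =>
    intro z hzin hz β hok
    by_cases hinner : rk a < rk i ∧ rk i < rk (rv a)
    · set z' : Fin n → F := z - z i • bV i with hz'
      have hz'i : z' i = 0 := by
        rw [hz', Pi.sub_apply, Pi.smul_apply, bV_apply, if_pos rfl, smul_eq_mul, mul_one, sub_self]
      have hz'in : Inner a z' := by
        intro j hj
        rw [hz', Pi.sub_apply, Pi.smul_apply, hzin j hj, bV_apply, if_neg, smul_zero, sub_zero]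
        intro e
        rw [e] at hj
        omega
      have hz's : ∀ j, j ∉ s → z' j = 0 := by
        intro j hj
        by_cases hji : j = i
        · rw [hji]
          exact hz'i
        · rw [hz', Pi.sub_apply, Pi.smul_apply, bV_apply, if_neg hji, smul_zero, sub_zero]
          apply hz
          rw [Finset.mem_insert]
          push Not
          exact ⟨hji, hj⟩
      obtain ⟨γ, hγ⟩ := hG.exists_valid (z i • bV i)
      have hok1 : EOk S (bV a) (z i • bV i) γ := by
        apply eOk_bV ha.ne _ hγ
        rw [Pi.smul_apply, bV_apply, if_neg, smul_zero]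
        intro e
        rw [← e] at hinner
        omega
      have hzsum : z = z i • bV i + z' := by
        rw [hz']
        abel
      have hok2 : EOk S (bV a) z' (β - γ - hJ S z' (z i • bV i)) := by
        apply eOk_bV ha.ne
        · exact hz'in.rv
        · have h1 := hok.2.2
          rw [hzsum, hJ_add_left, hJ_add_right, hJ_add_right] at h1
          have h2 : S.σ (hJ S z' (z i • bV i)) = hJ S (z i • bV i) z' := hJ_symm _ _
          rw [map_sub, map_sub, h2]
          linear_combination h1 - hγ
      have hprod : eG S (bV a) (z i • bV i) γ * eG S (bV a) z' (β - γ - hJ S z' (z i • bV i)) =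
          eG S (bV a) z β := by
        rw [eG_mul hok1 hok2]
        apply eG_congr hzsum.symm
        ring
      rw [← hprod]
      exact T.mul_mem (hpieces i hinner.1 hinner.2 _ _ hok1) (ih z' hz'in hz's _ hok2)
    · apply ih z hzin _ β hok
      intro j hj
      by_cases hji : j = i
      · rw [hji]
        apply hzin
        push Not at hinner
        by_cases h1 : rk a < rk i
        · exact Or.inr (hinner h1)
        · exact Or.inl (not_lt.mp h1)
      · apply hz
        rw [Finset.mem_insert]
        push Not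
        exact ⟨hji, hj⟩

end Cfsg.Agent.Lib.Helper27.SUFus
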