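import Mathlib
import Cfsg.Agent.Lib.Helper27.SUFusG
import Cfsg.Agent.Lib.Helper1.Nilp

set_option autoImplicit false

/-! The centralizer of the Eichler transformations along the first basis vector, and the theorem
that a nontrivial closed subgroup of the unitriangular subgroup is the whole subgroup. -/

namespace Cfsg.Agent.Lib.Helper27.SUFus

open Matrix Cfsg.Agent.Lib.helper14.UBN

universe u
variable {F : Type u} [Field F] {n : ℕ} {S : SInv F}

theorem index_cases {a : Fin n} (h0 : rk a = 0) (j : Fin n) :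
    j = a ∨ j = rv a ∨ (rk a < rk j ∧ rk j < rk (rv a)) := by
  have h1 := rk_add_rv a
  have h2 := rk_lt j
  by_cases e1 : rk j = 0
  · left
    apply rk_injective
    rw [e1, h0]
  by_cases e2 : rk j = n - 1
  · right; left
    apply rk_injective
    rw [e2]
    omega
  · right; right
    omega

theorem UU_col_first {a : Fin n} (h0 : rk a = 0) {z : ↥(GJ n S)} (hz : z ∈ UU n S) :
    mt z *ᵥ bV a = bV a := by
  ext x
  rw [mulVec_bV, bV_apply]
  by_cases hx : x = a
  · rw [if_pos hx, hx]
    exact hz.2 a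
  · rw [if_neg hx]
    apply hz.1
    have : rk x ≠ rk a := fun e => hx (rk_injective e)
    omega

/-- a unitriangular matrix commuting with all Eichler transformations along the first basis
vector is a transvection along that vector -/
theorem comm_form (hG : SGood S) {a : Fin n} (h0 : rk a = 0) (ha : FH a) {z : ↥(GJ n S)}
    (hz : z ∈ UU n S)
    (hcomm : ∀ (y : Fin n → F) (γ : F), Inner a y → EOk S (bV a) y γ →
      z * eG S (bV a) y γ = eG S (bV a) y γ * z) :
    ∃ β, β + S.σ β = 0 ∧ z = eG S (bV a) 0 β := by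
  have hane := ha.ne
  have hza := UU_col_first h0 hz
  set w : Fin n → F := mt z *ᵥ bV (rv a) with hw
  have hw1 : w (rv a) = 1 := by
    rw [hw, mulVec_bV]
    exact hz.2 _
  have hA : ∀ (y : Fin n → F) (γ : F), Inner a y → EOk S (bV a) y γ →
      mt z *ᵥ y = y - hJ S w y • bV a := by
    intro y γ hy hok
    have h1 := congrArg (fun g : ↥(GJ n S) => mt g *ᵥ bV (rv a)) (hcomm y γ hy hok)
    simp only [mt_mul_mulVec] at h1
    rw [← hw, eG_mulVec hok, eG_mulVec hok, hJ_bV_bV, if_pos rfl, hJ_bV_left, rv_rv, hy.self,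
      map_zero, hJ_bV_right, hw1, Matrix.mulVec_sub, Matrix.mulVec_add, Matrix.mulVec_smul,
      Matrix.mulVec_smul, hza, ← hw] at h1
    have h2 : mt z *ᵥ y = (w + (1 : F) • mt z *ᵥ y - (0 + γ * 1) • bV a) - w +
        (0 + γ * 1) • bV a := by module
    rw [h2, h1]
    module
  have hB : ∀ (y : Fin n → F) (γ : F), Inner a y → EOk S (bV a) y γ →
      hJ S y w = hJ S w y := by
    intro y γ hy hok
    have h1 := mt_form z y (bV (rv a))
    rw [← hw, hA y γ hy hok, hJ_bV_right, rv_rv, hy.self, hJ_sub_left, hJ_smul_left, hJ_bV_left,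
      hw1, map_one, mul_one] at h1
    linear_combination h1
  have hC : ∀ k, rk a < rk k → rk k < rk (rv a) → w (rv k) = 0 := by
    intro k hk1 hk2
    obtain ⟨δ, hδ⟩ := hG.ne
    have hin : Inner a (bV k : Fin n → F) := inner_bV hk1 hk2
    obtain ⟨γ₁, hγ₁⟩ := hG.exists_valid (bV k : Fin n → F)
    obtain ⟨γ₂, hγ₂⟩ := hG.exists_valid (δ • bV k : Fin n → F)
    have hok1 : EOk S (bV a) (bV k) γ₁ := eOk_bV hane hin.rv hγ₁
    have hok2 : EOk S (bV a) (δ • bV k) γ₂ := eOk_bV hane (hin.smul δ).rv hγ₂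
    have e1 := hB _ _ hin hok1
    have e2 := hB _ _ (hin.smul δ) hok2
    rw [hJ_bV_left, hJ_bV_right] at e1
    rw [hJ_smul_left, hJ_smul_right, hJ_bV_left, hJ_bV_right, e1] at e2
    have e3 : (δ - S.σ δ) * w (rv k) = 0 := by linear_combination e2
    rcases mul_eq_zero.mp e3 with h | h
    · exact absurd (sub_eq_zero.mp h).symm hδ
    · exact h
  have hC' : ∀ i, rk a < rk i → rk i < rk (rv a) → w i = 0 := by
    intro i hi1 hi2
    have h1 : rk a < rk (rv i) := by
      have := (rk_rv_lt_iff (rv a) i).2 hi2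
      rwa [rv_rv] at this
    have h2 : rk (rv i) < rk (rv a) := (rk_rv_lt_iff i a).2 hi1
    have := hC (rv i) h1 h2
    rwa [rv_rv] at this
  have hwform : w = bV (rv a) + w a • bV a := by
    ext j
    rw [Pi.add_apply, Pi.smul_apply, bV_apply, bV_apply, smul_eq_mul]
    rcases index_cases h0 j with e | e | ⟨e1, e2⟩
    · rw [e, if_neg hane.symm, if_pos rfl]
      ring
    · rw [e, if_pos rfl, if_neg hane, hw1]
      ring
    · have hja : j ≠ a := fun e => by rw [e] at e1; exact lt_irrefl _ e1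
      have hjr : j ≠ rv a := fun e => by rw [e] at e2; exact lt_irrefl _ e2
      rw [hC' j e1 e2, if_neg hjr, if_neg hja]
      ring
  have hww : hJ S w w = 0 := by
    rw [hw, mt_form, hJ_bV_bV, rv_rv, if_neg hane]
  have hβ : -(w a) + S.σ (-(w a)) = 0 := by
    obtain ⟨c, hc⟩ : ∃ c : F, c = w a := ⟨_, rfl⟩
    rw [← hc] at hwform ⊢
    rw [hwform] at hww
    have e1 : hJ S (bV (rv a) : Fin n → F) (bV (rv a)) = 0 := by
      rw [hJ_bV_bV, rv_rv, if_neg hane]
    have e2 : hJ S (bV (rv a) : Fin n → F) (bV a) = 1 := by rw [hJ_bV_bV, if_pos rfl]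
    have e3 : hJ S (bV a : Fin n → F) (bV (rv a)) = 1 := by rw [hJ_bV_bV, rv_rv, if_pos rfl]
    have e4 : hJ S (bV a : Fin n → F) (bV a) = 0 := by rw [hJ_bV_bV, if_neg hane.symm]
    simp only [hJ_add_left, hJ_add_right, hJ_smul_left, hJ_smul_right, e1, e2, e3, e4] at hww
    rw [map_neg]
    linear_combination -hww
  refine ⟨-(w a), hβ, ?_⟩
  have hok := tv_ok (S := S) hane hβ
  apply mt_ext_bV
  intro j
  rw [eG_mulVec hok, hJ_zero_right, zero_add, hJ_bV_bV]
  rcases index_cases h0 j with e | e | ⟨e1, e2⟩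
  · rw [e, hza, if_neg hane.symm]
    module
  · rw [e, ← hw, if_pos rfl]
    nth_rewrite 1 [hwform]
    module
  · have hjr : j ≠ rv a := fun e => by rw [e] at e2; exact lt_irrefl _ e2
    obtain ⟨γ₁, hγ₁⟩ := hG.exists_valid (bV j : Fin n → F)
    have hin : Inner a (bV j : Fin n → F) := inner_bV e1 e2
    have hok1 : EOk S (bV a) (bV j) γ₁ := eOk_bV hane hin.rv hγ₁
    rw [hA _ _ hin hok1, hJ_bV_right, if_neg hjr]
    have : w (rv j) = 0 := hC j e1 e2
    rw [this]
    module

section closed

variable [Fintype F] (p : ℕ) [Fact p.Prime] [CharP F p]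

include p in
/-- a nontrivial closed subgroup contains a nontrivial transvection along the first basis
vector -/
theorem exists_tv_mem (hG : SGood S) {T : Subgroup ↥(GJ n S)} (hT : Closed T) (hne : T ≠ ⊥)
    {a : Fin n} (h0 : rk a = 0) (ha : FH a) :
    ∃ β, β ≠ 0 ∧ β + S.σ β = 0 ∧ eG S (bV a) 0 β ∈ T := by
  classical
  have hpg : IsPGroup p ↥(UU n S) := UU_isPGroup p
  haveI : Finite ↥(GJ n S) := gjFinite
  have hnil : Group.IsNilpotent ↥(UU n S) := hpg.isNilpotent
  have hnorm : (T.subgroupOf (UU n S)).Normal := by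
    refine ⟨fun x hx s => ?_⟩
    rw [Subgroup.mem_subgroupOf] at hx ⊢
    exact hT.2 x hx s (UU_le_NJ s.2)
      (Subgroup.mul_mem _ (Subgroup.mul_mem _ s.2 x.2) (Subgroup.inv_mem _ s.2))
  have hne' : T.subgroupOf (UU n S) ≠ ⊥ := by
    intro h
    apply hne
    rw [Subgroup.eq_bot_iff_forall]
    intro x hx
    have : (⟨x, hT.1 hx⟩ : ↥(UU n S)) ∈ T.subgroupOf (UU n S) := Subgroup.mem_subgroupOf.mpr hx
    rw [h, Subgroup.mem_bot] at this
    exact congrArg Subtype.val this
  have hcen := Cfsg.Agent.Lib.Helper1.normal_inf_center_ne_bot (T.subgroupOf (UU n S)) hne'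
  obtain ⟨⟨z, hzmem⟩, hz1⟩ := (Subgroup.ne_bot_iff_exists_ne_one).mp hcen
  have hzT : (z : ↥(GJ n S)) ∈ T := Subgroup.mem_subgroupOf.mp hzmem.1
  have hzc : z ∈ Subgroup.center ↥(UU n S) := hzmem.2
  have hz1' : (z : ↥(GJ n S)) ≠ 1 := by
    intro h
    apply hz1
    apply Subtype.ext
    apply Subtype.ext
    exact h
  obtain ⟨β, hβ, hzform⟩ := comm_form hG h0 ha z.2 (by
    intro y γ hy hok
    have hE : eG S (bV a) y γ ∈ UU n S := eG_inner_mem_UU ha hy hok
    have := Subgroup.mem_center_iff.mp hzc ⟨_, hE⟩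
    exact (congrArg Subtype.val this).symm)
  refine ⟨β, ?_, hβ, ?_⟩
  · intro e
    apply hz1'
    rw [hzform, e, eG_zero]
  · rw [← hzform]
    exact hzT

include p in
/-- the only nontrivial subgroup of the unitriangular subgroup closed under fusion in the special
unitary group is the whole subgroup -/
theorem eq_UU_of_closed (hG : SGood S) (hn : 4 ≤ n) {T : Subgroup ↥(GJ n S)} (hT : Closed T)
    (hne : T ≠ ⊥) : T = UU n S := by
  classical
  set a0 : Fin n := ⟨0, by omega⟩ with ha0
  set a1 : Fin n := ⟨1, by omega⟩ with ha1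
  have hr0 : rk a0 = 0 := rfl
  have hr1 : rk a1 = 1 := rfl
  have hF0 : FH a0 := by
    have := rk_add_rv a0
    unfold FH
    omega
  have hF1 : FH a1 := by
    have := rk_add_rv a1
    unfold FH
    omega
  have h01 : a0 ≠ a1 := by
    intro e
    have := congrArg rk e
    omega
  obtain ⟨β₀, hβ0, hβs, hmem⟩ := exists_tv_mem p hG hT hne hr0 hF0
  have hTV0 : TV T a0 := tv_all p hG hT hF0 hF1 h01 hβ0 hβs hmem
  have hTV : ∀ a, FH a → TV T a := by
    intro a ha
    by_cases e : a = a0
    · rw [e]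
      exact hTV0
    · exact tv_move p hT hF0 ha (Ne.symm e) hTV0
  have hplus : ∀ a b, FH a → FH b → a ≠ b → ∀ c : F, eG S (bV a) (c • bV b) 0 ∈ T :=
    fun a b ha hb hab c => short_plus p hG hT ha hb hab (hTV a ha) (hTV b hb) c
  have hminus : ∀ a b, FH a → FH b → rk a < rk b → ∀ c : F, eG S (bV a) (c • bV (rv b)) 0 ∈ T := by
    intro a b ha hb hlt c
    have hab : a ≠ b := fun e => by rw [e] at hlt; exact lt_irrefl _ hlt
    exact short_minus p hG hT ha hb hlt (hplus a b ha hb hab) c
  have hmid : ∀ a m, FH a → rv m = m → Piece T a m := by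
    intro a m ha hm
    have h0 : Piece T a0 m :=
      mid_first p hT hF0 hF1 (by rw [hr0, hr1]; exact Nat.zero_lt_one) hm
        (hplus a0 a1 hF0 hF1 h01) (hminus a0 a1 hF0 hF1 (by rw [hr0, hr1]; exact Nat.zero_lt_one))
    by_cases e : a = a0
    · rw [e]
      exact h0
    · exact mid_move p hT hF0 ha (Ne.symm e) hm h0
  have hpieces : ∀ a, FH a → ∀ i, rk a < rk i → rk i < rk (rv a) → Piece T a i := by
    intro a ha i hi1 hi2
    have hia : i ≠ a := fun e => by rw [e] at hi1; exact lt_irrefl _ hi1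
    rcases lt_trichotomy (rk i) (rk (rv i)) with h | h | h
    · -- first half
      intro c β hok
      have hβ : β + S.σ β = 0 := by
        have := hok.2.2
        rwa [hJ_smul_left, hJ_smul_right, hJ_bV_bV, if_neg (rv_ne_of_lt h).symm, mul_zero,
          mul_zero] at this
      have hok0 : EOk S (bV a) (c • bV i) 0 :=
        ⟨hok.1, hok.2.1, by
          rw [hJ_smul_left, hJ_smul_right, hJ_bV_bV, if_neg (rv_ne_of_lt h).symm, mul_zero,
            mul_zero, map_zero, add_zero]⟩
      have e : eG S (bV a) (c • bV i) β = eG S (bV a) (c • bV i) 0 * eG S (bV a) 0 β := by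
        rw [eG_mul hok0 (tv_ok ha.ne hβ)]
        apply eG_congr
        · rw [add_zero]
        · rw [hJ_zero_left, add_zero, zero_add]
      rw [e]
      exact T.mul_mem (hplus a i ha h hia.symm c) (hTV a ha β hβ)
    · -- the middle index
      have hm : rv i = i := (rk_injective h).symm
      exact hmid a i ha hm
    · -- second half
      have hb : FH (rv i) := by
        unfold FH
        rw [rv_rv]
        exact h
      have hlt : rk a < rk (rv i) := by
        have := (rk_rv_lt_iff (rv i) a).1 (by rw [rv_rv]; exact hi2)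
        exact this
      intro c β hok
      have hne : rv i ≠ i := fun e => by rw [e] at h; exact lt_irrefl _ h
      have hβ : β + S.σ β = 0 := by
        have := hok.2.2
        rwa [hJ_smul_left, hJ_smul_right, hJ_bV_bV, if_neg hne.symm, mul_zero,
          mul_zero] at this
      have hok0 : EOk S (bV a) (c • bV i) 0 :=
        ⟨hok.1, hok.2.1, by
          rw [hJ_smul_left, hJ_smul_right, hJ_bV_bV, if_neg hne.symm, mul_zero,
            mul_zero, map_zero, add_zero]⟩
      have e : eG S (bV a) (c • bV i) β = eG S (bV a) (c • bV i) 0 * eG S (bV a) 0 β := by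
        rw [eG_mul hok0 (tv_ok ha.ne hβ)]
        apply eG_congr
        · rw [add_zero]
        · rw [hJ_zero_left, add_zero, zero_add]
      rw [e]
      have h1 := hminus a (rv i) ha hb hlt c
      rw [rv_rv] at h1
      exact T.mul_mem h1 (hTV a ha β hβ)
  apply le_antisymm hT.1
  refine le_trans UU_le_closure_QSet ?_
  rw [Subgroup.closure_le]
  rintro g ⟨a, z, β, ha, hz, hok, rfl⟩
  exact eG_inner_mem hG ha (hTV a ha) (hpieces a ha) Finset.univ z hz
    (fun i hi => absurd (Finset.mem_univ i) hi) β hok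

end closed

end Cfsg.Agent.Lib.Helper27.SUFus
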