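import Mathlib
import Cfsg.Agent.Lib.Helper27.SUFusH

set_option autoImplicit false

/-! Two subgroups of the unitriangular subgroup with large normalizers: the group `Q0` of Eichler
transformations along the first basis vector, and the stabilizer `R0` of the second basis
vector. -/

namespace Cfsg.Agent.Lib.Helper27.SUFus

open Matrix Cfsg.Agent.Lib.helper14.UBN

universe u
variable {F : Type u} [Field F] {n : ℕ} {S : SInv F}

/-- in a finite group, an element conjugating a subgroup into itself normalizes it -/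
theorem normalizer_of_conj_mem {G : Type*} [Group G] [Finite G] (R : Subgroup G) (g : G)
    (h : ∀ r ∈ R, g * r * g⁻¹ ∈ R) : g ∈ Subgroup.normalizer (R : Set G) := by
  rw [Subgroup.mem_normalizer_iff_map_conj_eq]
  have hle : R.map (MulAut.conj g).toMonoidHom ≤ R := by
    rintro _ ⟨r, hr, rfl⟩
    exact h r hr
  refine Subgroup.eq_of_le_of_card_ge hle ?_
  rw [Subgroup.card_map_of_injective (MulAut.conj g).injective]

theorem eG_of_not {u v : Fin n → F} {β : F} (h : ¬ EOk S u v β) : eG S u v β = 1 := by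
  unfold eG
  rw [dif_neg h]

/-- the Eichler transformations along `e_a` -/
def Q0 (S : SInv F) (a : Fin n) : Subgroup ↥(GJ n S) where
  carrier := {g | ∃ (y : Fin n → F) (γ : F), g = eG S (bV a) y γ}
  mul_mem' := by
    rintro _ _ ⟨y, γ, rfl⟩ ⟨y', γ', rfl⟩
    by_cases h : EOk S (bV a) y γ
    · by_cases h' : EOk S (bV a) y' γ'
      · exact ⟨y + y', γ + γ' + hJ S y' y, eG_mul h h'⟩
      · rw [eG_of_not h', mul_one]
        exact ⟨y, γ, rfl⟩
    · rw [eG_of_not h, one_mul]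
      exact ⟨y', γ', rfl⟩
  one_mem' := ⟨0, 0, (eG_zero _).symm⟩
  inv_mem' := by
    rintro _ ⟨y, γ, rfl⟩
    by_cases h : EOk S (bV a) y γ
    · exact ⟨-y, S.σ γ, eG_inv h⟩
    · rw [eG_of_not h, inv_one]
      exact ⟨0, 0, (eG_zero _).symm⟩

theorem mem_Q0 {a : Fin n} {g : ↥(GJ n S)} :
    g ∈ Q0 S a ↔ ∃ (y : Fin n → F) (γ : F), g = eG S (bV a) y γ := Iff.rfl

theorem Q0_le_UU {a : Fin n} (h0 : rk a = 0) (ha : FH a) : Q0 S a ≤ UU n S := by
  rintro _ ⟨y, γ, rfl⟩
  by_cases h : EOk S (bV a) y γ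
  · apply eG_bV_mem_UU ha _ h
    intro i hi
    have h1 := rk_add_rv a
    have h2 := rk_lt i
    have hi' : i = rv a := by
      apply rk_injective
      omega
    rw [hi']
    have := h.2.1
    rwa [hJ_bV_right] at this
  · rw [eG_of_not h]
    exact (UU n S).one_mem

/-- elements stabilizing the line of `e_a` conjugate `Q0` into itself -/
theorem conj_mem_Q0 {a : Fin n} (x : ↥(GJ n S)) (c : F) (hx : mt x *ᵥ bV a = c • bV a)
    {g : ↥(GJ n S)} (hg : g ∈ Q0 S a) : x * g * x⁻¹ ∈ Q0 S a := by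
  obtain ⟨y, γ, rfl⟩ := hg
  by_cases h : EOk S (bV a) y γ
  · have hc : c ≠ 0 := by
      intro e
      rw [e, zero_smul] at hx
      have h1 := mt_inv_mulVec x (bV a)
      rw [hx, Matrix.mulVec_zero] at h1
      have h2 := congrFun h1 a
      rw [Pi.zero_apply, bV_apply, if_pos rfl] at h2
      exact zero_ne_one h2
    have h1 := h.conj x
    rw [hx] at h1
    have h2 : EOk S (bV a) (mt x *ᵥ y) γ := by
      refine ⟨h.1, ?_, h1.2.2⟩
      have := h1.2.1
      rw [hJ_smul_right] at this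
      rcases mul_eq_zero.mp this with e | e
      · exact absurd (sigma_eq_zero e) hc
      · exact e
    rw [eG_conj h, hx, eG_smul h2]
    exact ⟨_, _, rfl⟩
  · rw [eG_of_not h, mul_one, mul_inv_cancel]
    exact (Q0 S a).one_mem

section fin

variable [Finite F]

theorem mem_normalizer_Q0 {a : Fin n} (x : ↥(GJ n S)) (c : F)
    (hx : mt x *ᵥ bV a = c • bV a) : x ∈ Subgroup.normalizer ((Q0 S a : Subgroup ↥(GJ n S)) : Set _) := by
  haveI : Finite ↥(GJ n S) := gjFinite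
  exact normalizer_of_conj_mem _ x (fun g hg => conj_mem_Q0 x c hx hg)

theorem UU_le_normalizer_Q0 {a : Fin n} (h0 : rk a = 0) :
    UU n S ≤ Subgroup.normalizer ((Q0 S a : Subgroup ↥(GJ n S)) : Set _) := by
  intro u hu
  apply mem_normalizer_Q0 u 1
  rw [UU_col_first h0 hu, one_smul]

end fin

/-- `Q0` is self-centralizing in the unitriangular subgroup -/
theorem mem_Q0_of_commute (hG : SGood S) {a : Fin n} (h0 : rk a = 0) (ha : FH a)
    {s : ↥(GJ n S)} (hs : s ∈ UU n S) (hcomm : ∀ r ∈ Q0 S a, s * r = r * s) : s ∈ Q0 S a := by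
  obtain ⟨β, _, hform⟩ := comm_form hG h0 ha hs (fun y γ _ _ => hcomm _ ⟨y, γ, rfl⟩)
  exact ⟨0, β, hform⟩

/-! ### The stabilizer of a basis vector -/

/-- the unitriangular matrices fixing `e_b` -/
def R0 (S : SInv F) (b : Fin n) : Subgroup ↥(GJ n S) where
  carrier := {g | g ∈ UU n S ∧ mt g *ᵥ bV b = bV b}
  mul_mem' := by
    rintro g h ⟨hg, hg'⟩ ⟨hh, hh'⟩
    exact ⟨(UU n S).mul_mem hg hh, by rw [mt_mul_mulVec, hh', hg']⟩
  one_mem' := ⟨(UU n S).one_mem, mt_one_mulVec _⟩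
  inv_mem' := by
    rintro g ⟨hg, hg'⟩
    exact ⟨(UU n S).inv_mem hg, inv_mulVec_eq hg'⟩

theorem mem_R0 {b : Fin n} {g : ↥(GJ n S)} :
    g ∈ R0 S b ↔ g ∈ UU n S ∧ mt g *ᵥ bV b = bV b := Iff.rfl

theorem R0_le_UU {b : Fin n} : R0 S b ≤ UU n S := fun _ h => h.1

/-- the second column of a unitriangular matrix -/
theorem UU_col_second {a b : Fin n} (h0 : rk a = 0) (h1 : rk b = 1) {z : ↥(GJ n S)}
    (hz : z ∈ UU n S) : mt z *ᵥ bV b = bV b + mt z a b • bV a := by
  have hab : a ≠ b := fun e => by rw [e, h1] at h0; exact one_ne_zero h0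
  ext x
  rw [mulVec_bV, Pi.add_apply, Pi.smul_apply, bV_apply, bV_apply, smul_eq_mul]
  by_cases hx : x = b
  · rw [if_pos hx, if_neg (fun e => hab (e.symm.trans hx)), mul_zero, add_zero, hx]
    exact hz.2 b
  · rw [if_neg hx, zero_add]
    by_cases hxa : x = a
    · rw [if_pos hxa, mul_one, hxa]
    · rw [if_neg hxa, mul_zero]
      apply hz.1
      have e1 : rk x ≠ rk a := fun e => hxa (rk_injective e)
      have e2 : rk x ≠ rk b := fun e => hx (rk_injective e)
      omega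

theorem UU_conj_mem_R0 {a b : Fin n} (h0 : rk a = 0) (h1 : rk b = 1) {u g : ↥(GJ n S)}
    (hu : u ∈ UU n S) (hg : g ∈ R0 S b) : u * g * u⁻¹ ∈ R0 S b := by
  refine ⟨(UU n S).mul_mem ((UU n S).mul_mem hu hg.1) ((UU n S).inv_mem hu), ?_⟩
  have hu' := (UU n S).inv_mem hu
  have hga := UU_col_first h0 hg.1
  have e1 : mt g *ᵥ (mt u⁻¹ *ᵥ bV b) = mt u⁻¹ *ᵥ bV b := by
    rw [UU_col_second h0 h1 hu', Matrix.mulVec_add, Matrix.mulVec_smul, hg.2, hga]
  rw [mt_mul_mulVec, mt_mul_mulVec, e1, mt_mulVec_inv]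

section fin2

variable [Finite F]

theorem UU_le_normalizer_R0 {a b : Fin n} (h0 : rk a = 0) (h1 : rk b = 1) :
    UU n S ≤ Subgroup.normalizer ((R0 S b : Subgroup ↥(GJ n S)) : Set _) := by
  haveI : Finite ↥(GJ n S) := gjFinite
  intro u hu
  exact normalizer_of_conj_mem _ u (fun g hg => UU_conj_mem_R0 h0 h1 hu hg)

end fin2

/-- the stabilizer of the second basis vector is self-centralizing in the unitriangular
subgroup -/
theorem mem_R0_of_commute (hG : SGood S) {b : Fin n} (hb : FH b)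
    {s : ↥(GJ n S)} (hs : s ∈ UU n S) (hcomm : ∀ r ∈ R0 S b, s * r = r * s) : s ∈ R0 S b := by
  refine ⟨hs, ?_⟩
  obtain ⟨β₀, h0, hsk⟩ := hG.hasSkew
  have hok := tv_ok (S := S) hb.ne hsk
  have hbb : hJ S (bV b : Fin n → F) (bV b) = 0 := by rw [hJ_bV_bV, if_neg hb.ne.symm]
  have hr : eG S (bV b) 0 β₀ ∈ R0 S b := by
    refine ⟨tv_mem_UU hb hsk, ?_⟩
    rw [eG_mulVec hok, hbb, hJ_zero_right]
    simp
  have h1 := congrArg (fun g : ↥(GJ n S) => mt g *ᵥ bV (rv b)) (hcomm _ hr)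
  simp only [mt_mul_mulVec] at h1
  have hd : (mt s *ᵥ bV (rv b)) (rv b) = 1 := by
    rw [mulVec_bV]
    exact hs.2 _
  rw [eG_mulVec hok, eG_mulVec hok, hJ_zero_right, hJ_zero_right, hJ_bV_bV, if_pos rfl,
    hJ_bV_right, hd, Matrix.mulVec_sub, Matrix.mulVec_add, Matrix.mulVec_smul,
    Matrix.mulVec_smul, Matrix.mulVec_zero] at h1
  have h2 : β₀ • (mt s *ᵥ bV b) = β₀ • bV b := by
    have e : β₀ • (mt s *ᵥ bV b) =
        (mt s *ᵥ bV (rv b) + (1 : F) • (0 : Fin n → F)) -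
          (mt s *ᵥ bV (rv b) + (1 : F) • (0 : Fin n → F) - (0 + β₀ * 1) • mt s *ᵥ bV b) := by
      module
    rw [e, h1]
    module
  have h3 := congrArg (fun v : Fin n → F => β₀⁻¹ • v) h2
  simp only [smul_smul, inv_mul_cancel₀ h0, one_smul] at h3
  exact h3

end Cfsg.Agent.Lib.Helper27.SUFus
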