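import Mathlib
import Cfsg.Agent.Lib.Helper27.SUFusI

set_option autoImplicit false

/-! The torus elements of the nodes are generated by elements of `p`-power order normalizing one of
the subgroups `Q0`, `R0`. -/

namespace Cfsg.Agent.Lib.Helper27.SUFus

open Matrix Cfsg.Agent.Lib.helper14.UBN

universe u
variable {F : Type u} [Field F] {n : ℕ} {S : SInv F}

/-- vectors fixed by an Eichler transformation -/
theorem eG_fix {u v w : Fin n → F} {β : F} (h : EOk S u v β) (h1 : hJ S w u = 0)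
    (h2 : hJ S w v = 0) : mt (eG S u v β) *ᵥ w = w := by
  rw [eG_mulVec h, h1, h2]
  simp

/-- the elements of `p`-power order of the determinant one subgroup normalizing `R` -/
def PEl (p : ℕ) (R : Subgroup ↥(GJ n S)) : Set ↥(GJ n S) :=
  {x | x ∈ NJ n S ∧ x ∈ Subgroup.normalizer (R : Set ↥(GJ n S)) ∧ ∃ k : ℕ, x ^ (p ^ k) = 1}

section fin

variable [Fintype F] (p : ℕ) [Fact p.Prime] [CharP F p]

theorem eG_mem_PEl_Q0 {a : Fin n} {u v : Fin n → F} {β : F} (h : EOk S u v β)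
    (h1 : hJ S (bV a) u = 0) (h2 : hJ S (bV a) v = 0) : eG S u v β ∈ PEl p (Q0 S a) := by
  refine ⟨eG_mem_NJ p h, ?_, 2, eG_pow_char_sq p h⟩
  apply mem_normalizer_Q0 _ 1
  rw [eG_fix h h1 h2, one_smul]

theorem X_mem_PEl_Q0 {a a' b' : Fin n} (ha : FH a) (ha' : FH a') (hb' : FH b')
    (h : a' ≠ b') (h2 : a ≠ b') (t : F) : X S a' b' t ∈ PEl p (Q0 S a) := by
  have hq := ha'.quad hb' h
  apply eG_mem_PEl_Q0 p (X_ok hq t)
  · rw [hJ_bV_bV, if_neg]
    intro e
    have := ha.lt_rv ha'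
    rw [← e] at this
    exact lt_irrefl _ this
  · rw [hJ_smul_right, hJ_bV_bV, rv_rv, if_neg h2, mul_zero]

theorem hW_mem_closure_Q0 {a a' b' : Fin n} (ha : FH a) (ha' : FH a') (hb' : FH b')
    (h : a' ≠ b') (h1 : a ≠ a') (h2 : a ≠ b') (t : F) :
    hW S a' b' t ∈ Subgroup.closure (PEl p (Q0 S a)) := by
  have e1 : ∀ t : F, nW S a' b' t ∈ Subgroup.closure (PEl p (Q0 S a)) := by
    intro t
    unfold nW
    apply Subgroup.mul_mem _ (Subgroup.mul_mem _ _ _) _
    · exact Subgroup.subset_closure (X_mem_PEl_Q0 p ha ha' hb' h h2 t)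
    · exact Subgroup.subset_closure (X_mem_PEl_Q0 p ha hb' ha' h.symm h1 _)
    · exact Subgroup.subset_closure (X_mem_PEl_Q0 p ha ha' hb' h h2 t)
  unfold hW
  exact Subgroup.mul_mem _ (e1 t) (Subgroup.inv_mem _ (e1 1))

theorem nL_mem_closure_Q0 {a b : Fin n} (hab : a ≠ b) (hab' : a ≠ rv b) {v : Fin n → F}
    {β : F} (h : LOk S b v β) (hv : v (rv a) = 0) :
    nL S b v β ∈ Subgroup.closure (PEl p (Q0 S a)) := by
  have e1 : hJ S (bV a : Fin n → F) (bV (rv b)) = 0 := by rw [hJ_bV_bV, rv_rv, if_neg hab]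
  have e2 : hJ S (bV a : Fin n → F) (bV b) = 0 := by rw [hJ_bV_bV, if_neg hab']
  have e3 : ∀ c : F, hJ S (bV a) (c • v) = 0 := by
    intro c
    rw [hJ_smul_right, hJ_bV_left, hv, map_zero, mul_zero]
  unfold nL
  apply Subgroup.mul_mem _ (Subgroup.mul_mem _ _ _) _
  · exact Subgroup.subset_closure (eG_mem_PEl_Q0 p h.ok1 e1 (e3 _))
  · apply Subgroup.subset_closure (eG_mem_PEl_Q0 p h.ok2 e2 _)
    have := e3 1
    rwa [one_smul] at this
  · exact Subgroup.subset_closure (eG_mem_PEl_Q0 p h.ok3 e1 (e3 _))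

theorem hL_mem_closure_Q0 {a b : Fin n} (hab : a ≠ b) (hab' : a ≠ rv b) {v : Fin n → F}
    {β β₀ : F} (h : LOk S b v β) (hv : v (rv a) = 0) (h0 : β₀ ≠ 0) (hs : β₀ + S.σ β₀ = 0) :
    hL S b v β β₀ ∈ Subgroup.closure (PEl p (Q0 S a)) := by
  unfold hL
  exact Subgroup.mul_mem _ (nL_mem_closure_Q0 p hab hab' h hv)
    (nL_mem_closure_Q0 p hab hab' (LOk.zero h.hp h0 hs) rfl)

/-- the lower root element of the first node normalizes the stabilizer of the second basis
vector -/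
theorem X_lower_conj_mem_R0 {a b : Fin n} (h0 : rk a = 0) (h1 : rk b = 1) (ha : FH a)
    (hb : FH b) (s : F) {g : ↥(GJ n S)} (hg : g ∈ R0 S b) :
    X S b a s * g * (X S b a s)⁻¹ ∈ R0 S b := by
  have hab : a ≠ b := fun e => by rw [e, h1] at h0; exact one_ne_zero h0
  have hq := hb.quad ha hab.symm
  have hok := X_ok (S := S) hq s
  have hg' : g⁻¹ ∈ R0 S b := (R0 S b).inv_mem hg
  set zy : Fin n → F := -(S.σ s) • bV (rv a) with hzy
  have hconj : g⁻¹ * X S b a s * g = eG S (bV b) (mt g⁻¹ *ᵥ zy) 0 := by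
    have := eG_conj hok g⁻¹
    rw [inv_inv, hg'.2] at this
    exact this
  have hok1 : EOk S (bV b) (mt g⁻¹ *ᵥ zy) 0 := by
    have := hok.conj g⁻¹
    rwa [hg'.2] at this
  have hinv : (X S b a s)⁻¹ = eG S (bV b) (-zy) (S.σ 0) := eG_inv hok
  have hprod : g⁻¹ * X S b a s * g * (X S b a s)⁻¹ =
      eG S (bV b) (mt g⁻¹ *ᵥ zy + -zy) (0 + S.σ 0 + hJ S (-zy) (mt g⁻¹ *ᵥ zy)) := by
    rw [hconj, hinv, eG_mul hok1 hok.neg]
  have hok2 := hok1.add hok.neg
  set z' : Fin n → F := mt g⁻¹ *ᵥ zy + -zy with hz'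
  have hz'1 : z' (rv a) = 0 := by
    rw [hz', hzy, Matrix.mulVec_smul, Pi.add_apply, Pi.neg_apply, Pi.smul_apply, Pi.smul_apply,
      mulVec_bV, hg'.1.2, bV_apply, if_pos rfl]
    simp
  have hz'2 : z' (rv b) = 0 := by
    have e1 : mt g⁻¹ (rv b) (rv a) = 0 := by
      rw [inv_apply, rv_rv, rv_rv, ← mulVec_bV (mt g) b a, hg.2, bV_apply, if_neg hab,
        map_zero]
    rw [hz', hzy, Matrix.mulVec_smul, Pi.add_apply, Pi.neg_apply, Pi.smul_apply, Pi.smul_apply,
      mulVec_bV, e1, bV_apply, if_neg (fun e => hab (rv_inj e).symm)]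
    simp
  have hE : eG S (bV b) z' (0 + S.σ 0 + hJ S (-zy) (mt g⁻¹ *ᵥ zy)) ∈ R0 S b := by
    refine ⟨?_, ?_⟩
    · apply eG_bV_mem_UU hb _ hok2
      intro i hi
      have h2 := rk_add_rv a
      have h3 := rk_add_rv b
      have h4 := rk_lt i
      by_cases e : rk i = rk (rv b)
      · rw [rk_injective e]
        exact hz'2
      · have : i = rv a := by
          apply rk_injective
          omega
        rw [this]
        exact hz'1
    · apply eG_fix hok2
      · rw [hJ_bV_bV, if_neg hb.ne.symm]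
      · rw [hJ_bV_left, hz'2, map_zero]
  have e : X S b a s * g * (X S b a s)⁻¹ = g * (g⁻¹ * X S b a s * g * (X S b a s)⁻¹) := by
    group
  rw [e, hprod]
  exact (R0 S b).mul_mem hg hE

theorem hW_mem_closure_R0 {a b : Fin n} (h0 : rk a = 0) (h1 : rk b = 1) (ha : FH a)
    (hb : FH b) (t : F) : hW S a b t ∈ Subgroup.closure (PEl p (R0 S b)) := by
  haveI : Finite ↥(GJ n S) := gjFinite
  have hab : a ≠ b := fun e => by rw [e, h1] at h0; exact one_ne_zero h0
  have hq := ha.quad hb hab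
  have hup : ∀ t : F, X S a b t ∈ PEl p (R0 S b) := by
    intro t
    refine ⟨X_mem_NJ p hq t, ?_, 2, eG_pow_char_sq p (X_ok hq t)⟩
    apply UU_le_normalizer_R0 h0 h1
    apply eG_bV_mem_UU ha _ (X_ok hq t)
    intro i hi
    rw [Pi.smul_apply, bV_apply, if_neg, smul_zero]
    intro e
    rw [e] at hi
    have := (rk_rv_lt_iff b a).2 (by rw [h0, h1]; exact Nat.zero_lt_one)
    omega
  have hlow : ∀ s : F, X S b a s ∈ PEl p (R0 S b) := by
    intro s
    refine ⟨X_mem_NJ p hq.symm s, ?_, 2, eG_pow_char_sq p (X_ok hq.symm s)⟩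
    exact normalizer_of_conj_mem _ _ (fun g hg => X_lower_conj_mem_R0 h0 h1 ha hb s hg)
  have e1 : ∀ t : F, nW S a b t ∈ Subgroup.closure (PEl p (R0 S b)) := by
    intro t
    unfold nW
    exact Subgroup.mul_mem _ (Subgroup.mul_mem _ (Subgroup.subset_closure (hup t))
      (Subgroup.subset_closure (hlow _))) (Subgroup.subset_closure (hup t))
  unfold hW
  exact Subgroup.mul_mem _ (e1 t) (Subgroup.inv_mem _ (e1 1))

end fin

end Cfsg.Agent.Lib.Helper27.SUFus
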