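import Mathlib
import Cfsg.Agent.Lib.Helper27.SUFusJ

set_option autoImplicit false

/-! Diagonal matrices of determinant one in the unitary group are products of torus elements of
the nodes. -/

namespace Cfsg.Agent.Lib.Helper27.SUFus

open Matrix Cfsg.Agent.Lib.helper14.UBN

universe u
variable {F : Type u} [Field F] {n : ℕ} {S : SInv F}

theorem diag_mulVec {t : ↥(GJ n S)} (ht : IsMono (mt t) 1) (i : Fin n) :
    mt t *ᵥ bV i = mt t i i • bV i := by
  ext x
  rw [mulVec_bV, Pi.smul_apply, bV_apply, smul_eq_mul]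
  by_cases hx : x = i
  · rw [if_pos hx, mul_one, hx]
  · rw [if_neg hx, mul_zero]
    by_contra h
    exact hx (ht x i h)

theorem isMono_of_bV {g : ↥(GJ n S)} (c : Fin n → F) (h : ∀ i, mt g *ᵥ bV i = c i • bV i) :
    IsMono (mt g) 1 ∧ ∀ i, mt g i i = c i := by
  constructor
  · intro x y hxy
    rw [Equiv.Perm.one_apply]
    by_contra hne
    apply hxy
    rw [← mulVec_bV (mt g) y x, h, Pi.smul_apply, bV_apply, if_neg hne, smul_zero]
  · intro i
    rw [← mulVec_bV (mt g) i i, h, Pi.smul_apply, bV_apply, if_pos rfl, smul_eq_mul, mul_one]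

theorem isMono_mul_inv {h t : ↥(GJ n S)} (hh : IsMono (mt h) 1) (ht : IsMono (mt t) 1) :
    IsMono (mt (h⁻¹ * t)) 1 := by
  rw [← mem_TU_iff] at hh ht ⊢
  exact Subgroup.mul_mem _ (Subgroup.inv_mem _ hh) ht

/-- the torus element of a linear node is diagonal -/
theorem hW_diag {a b : Fin n} (h : Quad a b) {t : F} (ht : t ≠ 0) :
    IsMono (mt (hW S a b t)) 1 ∧ mt (hW S a b t) a a = t ∧
      ∀ i, i ≠ a → i ≠ b → i ≠ rv a → i ≠ rv b → mt (hW S a b t) i i = 1 := by
  classical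
  have hmain := isMono_of_bV (g := hW S a b t)
    (fun i => if i = a then t else if i = b then t⁻¹ else if i = rv a then (S.σ t)⁻¹
      else if i = rv b then S.σ t else 1) (by
    intro i
    by_cases h1 : i = a
    · rw [if_pos h1, h1, hW_bV_a h ht]
    rw [if_neg h1]
    by_cases h2 : i = b
    · rw [if_pos h2, h2, hW_bV_b h ht]
    rw [if_neg h2]
    by_cases h3 : i = rv a
    · rw [if_pos h3, h3, hW_bV_rva h ht]
    rw [if_neg h3]
    by_cases h4 : i = rv b
    · rw [if_pos h4, h4, hW_bV_rvb h ht]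
    rw [if_neg h4, hW_bV_of_ne h t h1 h2 h3 h4, one_smul])
  refine ⟨hmain.1, ?_, ?_⟩
  · rw [hmain.2, if_pos rfl]
  · intro i h1 h2 h3 h4
    rw [hmain.2, if_neg h1, if_neg h2, if_neg h3, if_neg h4]

/-- dividing a diagonal matrix by a torus element -/
theorem diag_div {h t : ↥(GJ n S)} (hh : IsMono (mt h) 1) (ht : IsMono (mt t) 1) (i : Fin n)
    (e : mt h i i = mt t i i) : mt (h⁻¹ * t) i i = 1 := by
  have h1 : mt h *ᵥ bV i = mt t i i • bV i := by rw [diag_mulVec hh, e]
  have h2 : mt (h⁻¹ * t) *ᵥ bV i = bV i := by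
    rw [mt_mul_mulVec, diag_mulVec ht, ← h1, mt_inv_mulVec]
  rw [← mulVec_bV (mt (h⁻¹ * t)) i i, h2, bV_apply, if_pos rfl]

theorem diag_div_one {h t : ↥(GJ n S)} (hh : IsMono (mt h) 1) (ht : IsMono (mt t) 1)
    (i : Fin n) (e1 : mt h i i = 1) (e2 : mt t i i = 1) : mt (h⁻¹ * t) i i = 1 :=
  diag_div hh ht i (by rw [e1, e2])

/-- identification of a diagonal matrix with a torus element of the last node -/
theorem torus_eq_hL {t : ↥(GJ n S)} (ht : IsMono (mt t) 1) {b : Fin n} {v : Fin n → F}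
    {β β₀ : F} (hL' : LOk S b v β) (h0 : β₀ ≠ 0) (hs : β₀ + S.σ β₀ = 0)
    (hb : mt t b b = β / β₀) (hrb : mt t (rv b) (rv b) = -β₀ / S.σ β)
    (hother : ∀ i, i ≠ b → i ≠ rv b →
      bV i - (β⁻¹ * hJ S (bV i) v) • v = mt t i i • (bV i : Fin n → F)) :
    t = hL S b v β β₀ := by
  apply mt_ext_bV
  intro i
  rw [diag_mulVec ht]
  by_cases h1 : i = b
  · rw [h1, hL_bV_p hL' h0 hs, hb]
  by_cases h2 : i = rv b
  · rw [h2, hL_bV_rv hL' h0 hs, hrb]
  rw [hL_of_perp hL' h0 hs, hother i h1 h2]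
  · rw [bV_apply, if_neg (fun e => h1 e.symm)]
  · rw [bV_apply, if_neg (fun e => h2 e.symm)]

theorem det_diag {t : ↥(GJ n S)} (ht : IsMono (mt t) 1) : (mt t).det = ∏ i, mt t i i := by
  have : mt t = Matrix.diagonal (fun i => mt t i i) := by
    ext x y
    rw [Matrix.diagonal_apply]
    by_cases hxy : x = y
    · rw [if_pos hxy, hxy]
    · rw [if_neg hxy]
      by_contra h
      exact hxy (ht x y h)
  rw [this, Matrix.det_diagonal]
  simp only [Matrix.diagonal_apply_eq]

end Cfsg.Agent.Lib.Helper27.SUFus
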