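import Mathlib
import Cfsg.Agent.Lib.Helper27.SUFusK

set_option autoImplicit false

/-! The normalizer of the unitriangular subgroup in the special unitary group is generated by the
unitriangular subgroup and by good elements. -/

namespace Cfsg.Agent.Lib.Helper27.SUFus

open Matrix Cfsg.Agent.Lib.helper14.UBN

universe u
variable {F : Type u} [Field F] {n : ℕ} {S : SInv F}

section fin

variable [Fintype F] (p : ℕ) [Fact p.Prime] [CharP F p]

include p in
/-- the last node -/
theorem last_node_mem (hG : SGood S) {a0 : Fin n} (h00 : rk a0 = 0) (hF0 : FH a0) {j : ℕ}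
    (hj : j + 1 = n / 2) (hj1 : 1 ≤ j) {t : ↥(GJ n S)} (ht : IsMono (mt t) 1)
    (htN : t ∈ NJ n S) (hone : ∀ i, rk i < j → mt t i i = 1) :
    t ∈ Subgroup.closure (PEl p (Q0 S a0)) := by
  classical
  have hjn : j < n := by omega
  set b : Fin n := ⟨j, hjn⟩ with hb
  have hrb : rk b = j := rfl
  have hrvb := rk_add_rv b
  have hFb : FH b := by
    unfold FH
    omega
  have htB : t ∈ BU n S := ((mem_TU_iff t).2 ht).1
  have hunit := up_diag_rv t htB
  have hone' : ∀ i, rk (rv i) < j → mt t i i = 1 := by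
    intro i hi
    have := hunit i
    rwa [hone (rv i) hi, map_one, mul_one] at this
  set D : F := mt t b b with hD
  have hD0 : D ≠ 0 := up_diag_ne_zero t htB b
  have hsD0 : S.σ D ≠ 0 := fun e => hD0 (sigma_eq_zero e)
  have hdrb : mt t (rv b) (rv b) = (S.σ D)⁻¹ := by
    have := hunit (rv b)
    rw [rv_rv] at this
    exact eq_inv_of_mul_eq_one_left this
  have hdet : ∏ i, mt t i i = 1 := by
    rw [← det_diag ht]
    exact (mem_NJ_iff t).1 htN
  obtain ⟨β₀, hβ0, hβs⟩ := hG.hasSkew
  have eσ0 : S.σ β₀ = -β₀ := by linear_combination hβs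
  have ha0b : a0 ≠ b := by
    intro e
    have := congrArg rk e
    omega
  have ha0rb : a0 ≠ rv b := by
    intro e
    have := congrArg rk e
    omega
  by_cases hm : ∃ m : Fin n, rv m = m
  · -- odd dimension
    obtain ⟨m, hm⟩ := hm
    have hrm := rk_add_rv m
    rw [hm] at hrm
    have hmb := mid_ne hm hFb
    have hothers : ∀ i, i ≠ b → i ≠ m → i ≠ rv b → mt t i i = 1 := by
      intro i h1 h2 h3
      have e1 : rk i ≠ rk b := fun e => h1 (rk_injective e)
      have e2 : rk i ≠ rk m := fun e => h2 (rk_injective e)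
      have e3 : rk i ≠ rk (rv b) := fun e => h3 (rk_injective e)
      have h4 := rk_add_rv i
      by_cases h5 : rk i < j
      · exact hone i h5
      · apply hone' i
        omega
    set c : F := mt t m m with hc
    have hprod : D * (c * (S.σ D)⁻¹) = 1 := by
      rw [← hdet, ← Finset.mul_prod_erase Finset.univ _ (Finset.mem_univ b),
        Finset.prod_eq_mul m (rv b) hmb.2, hdrb]
      · intro i hi hi'
        exact hothers i (Finset.ne_of_mem_erase hi) hi'.1 hi'.2
      · intro h
        exact absurd (Finset.mem_erase.mpr ⟨hmb.1, Finset.mem_univ m⟩) h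
      · intro h
        exact absurd (Finset.mem_erase.mpr ⟨hFb.ne, Finset.mem_univ _⟩) h
    have hcD : D * c = S.σ D := by
      field_simp at hprod
      linear_combination hprod
    set β : F := D * β₀ with hβ
    have hβne : β ≠ 0 := mul_ne_zero hD0 hβ0
    have hσβ : S.σ β = -(S.σ D * β₀) := by rw [hβ, map_mul, eσ0]; ring
    have hfix : S.σ (β + S.σ β) = β + S.σ β := by rw [map_add, S.invol, add_comm]
    obtain ⟨a, ha⟩ := hG.nsurj _ hfix
    set v : Fin n → F := a • bV m with hv
    have hLok : LOk S b v β := by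
      refine ⟨hFb.ne, ?_, ?_, ?_, hβne⟩
      · rw [hv, Pi.smul_apply, bV_apply, if_neg hmb.1.symm, smul_zero]
      · rw [hv, Pi.smul_apply, bV_apply, if_neg hmb.2.symm, smul_zero]
      · rw [hv, hJ_smul_left, hJ_smul_right, hJ_bV_bV, if_pos hm.symm, mul_one, ha]
    have hsβne := hLok.σβ0
    have hteq : t = hL S b v β β₀ := by
      apply torus_eq_hL ht hLok hβ0 hβs
      · rw [← hD, hβ]
        field_simp
      · rw [hdrb, hσβ]
        field_simp
      · intro i h1 h2
        by_cases h3 : i = m
        · rw [h3, hv, hJ_smul_right, hJ_bV_bV, if_pos hm.symm, mul_one, ← hc]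
          have e : 1 - β⁻¹ * S.σ a * a = c := by
            have e1 : D * (1 - β⁻¹ * S.σ a * a) = D * c := by
              rw [hcD]
              have e2 : β⁻¹ * S.σ a * a = (β + S.σ β) / β := by
                rw [← ha]
                field_simp
              rw [e2, hσβ, hβ]
              field_simp
              ring
            exact mul_left_cancel₀ hD0 e1
          rw [← e]
          module
        · have : hJ S (bV i) v = 0 := by
            rw [hv, hJ_smul_right, hJ_bV_bV, hm, if_neg h3, mul_zero]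
          rw [this, hothers i h1 h3 h2]
          simp
    rw [hteq]
    apply hL_mem_closure_Q0 p ha0b ha0rb hLok _ hβ0 hβs
    rw [hv, Pi.smul_apply, bV_apply, if_neg (fun e => (mid_ne hm hF0).2 e.symm), smul_zero]
  · -- even dimension
    push Not at hm
    have heven : n % 2 = 0 := by
      by_contra hodd
      have hmn : n / 2 < n := by omega
      apply hm ⟨n / 2, hmn⟩
      apply rk_injective
      have := rk_add_rv (⟨n / 2, hmn⟩ : Fin n)
      have e : rk (⟨n / 2, hmn⟩ : Fin n) = n / 2 := rfl
      omega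
    have hothers : ∀ i, i ≠ b ∧ i ≠ rv b → mt t i i = 1 := by
      rintro i ⟨h1, h3⟩
      have e1 : rk i ≠ rk b := fun e => h1 (rk_injective e)
      have e3 : rk i ≠ rk (rv b) := fun e => h3 (rk_injective e)
      have h4 := rk_add_rv i
      by_cases h5 : rk i < j
      · exact hone i h5
      · apply hone' i
        omega
    have hprod : D * (S.σ D)⁻¹ = 1 := by
      rw [← hdet, Fintype.prod_eq_mul b (rv b) hFb.ne.symm hothers, hdrb]
    have hDD : D = S.σ D := by
      field_simp at hprod
      exact hprod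
    set β : F := D * β₀ with hβ
    have hβne : β ≠ 0 := mul_ne_zero hD0 hβ0
    have hσβ : S.σ β = -(D * β₀) := by rw [hβ, map_mul, eσ0, ← hDD]; ring
    have hLok : LOk S b (0 : Fin n → F) β := by
      refine ⟨hFb.ne, rfl, rfl, ?_, hβne⟩
      rw [hJ_zero_left, hσβ, hβ]
      ring
    have hteq : t = hL S b 0 β β₀ := by
      apply torus_eq_hL ht hLok hβ0 hβs
      · rw [← hD, hβ]
        field_simp
      · rw [hdrb, hσβ, ← hDD]
        field_simp
      · intro i h1 h2
        rw [hothers i ⟨h1, h2⟩]
        simp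
    rw [hteq]
    exact hL_mem_closure_Q0 p ha0b ha0rb hLok rfl hβ0 hβs

include p in
theorem torus_mem_aux (hG : SGood S) {a0 : Fin n} (h00 : rk a0 = 0) (hF0 : FH a0) :
    ∀ r j : ℕ, j + r + 1 = n / 2 → 1 ≤ j → ∀ t : ↥(GJ n S), IsMono (mt t) 1 → t ∈ NJ n S →
      (∀ i, rk i < j → mt t i i = 1) → t ∈ Subgroup.closure (PEl p (Q0 S a0)) := by
  intro r
  induction r with
  | zero =>
    intro j hj hj1 t ht htN hone
    exact last_node_mem p hG h00 hF0 (by omega) hj1 ht htN hone
  | succ r ih =>
    intro j hj hj1 t ht htN hone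
    have hjn : j < n := by omega
    have hjn' : j + 1 < n := by omega
    set a : Fin n := ⟨j, hjn⟩ with ha
    set b : Fin n := ⟨j + 1, hjn'⟩ with hb
    have hra : rk a = j := rfl
    have hrb : rk b = j + 1 := rfl
    have hrva := rk_add_rv a
    have hrvb := rk_add_rv b
    have hFa : FH a := by unfold FH; omega
    have hFb : FH b := by unfold FH; omega
    have hab : a ≠ b := by
      intro e
      have := congrArg rk e
      omega
    have hq := hFa.quad hFb hab
    have htB : t ∈ BU n S := ((mem_TU_iff t).2 ht).1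
    set D : F := mt t a a with hD
    have hD0 : D ≠ 0 := up_diag_ne_zero t htB a
    obtain ⟨hd, haa, hoth⟩ := hW_diag (S := S) hq hD0
    set t' : ↥(GJ n S) := (hW S a b D)⁻¹ * t with ht'
    have ht'd : IsMono (mt t') 1 := isMono_mul_inv hd ht
    have ht'N : t' ∈ NJ n S :=
      (NJ n S).mul_mem ((NJ n S).inv_mem (hW_mem_NJ p hq D)) htN
    have ht'one : ∀ i, rk i < j + 1 → mt t' i i = 1 := by
      intro i hi
      by_cases hij : rk i < j
      · apply diag_div_one hd ht i _ (hone i hij)
        apply hoth i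
        · intro e; rw [e] at hij; omega
        · intro e; rw [e] at hij; omega
        · intro e; rw [e] at hij; omega
        · intro e; rw [e] at hij; omega
      · have : i = a := by
          apply rk_injective
          omega
        rw [this]
        exact diag_div hd ht a haa
    have h1 := ih (j + 1) (by omega) (by omega) t' ht'd ht'N ht'one
    have ha0a : a0 ≠ a := by
      intro e
      have := congrArg rk e
      omega
    have ha0b : a0 ≠ b := by
      intro e
      have := congrArg rk e
      omega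
    have h2 := hW_mem_closure_Q0 (S := S) p hF0 hFa hFb hab ha0a ha0b D
    have e : t = hW S a b D * t' := by
      rw [ht']
      group
    rw [e]
    exact Subgroup.mul_mem _ h2 h1

/-- the good elements -/
def GoodJ (p : ℕ) (S : SInv F) (a0 a1 : Fin n) : Set ↥(GJ n S) :=
  {h | h ∈ BU n S ∧ h ∈ NJ n S ∧ (h ∈ Subgroup.closure (PEl p (Q0 S a0)) ∨
    h ∈ Subgroup.closure (PEl p (R0 S a1)))}

include p in
theorem torus_mem (hG : SGood S) (hn : 4 ≤ n) {a0 a1 : Fin n} (h00 : rk a0 = 0)
    (h11 : rk a1 = 1) {t : ↥(GJ n S)} (ht : IsMono (mt t) 1) (htN : t ∈ NJ n S) :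
    t ∈ Subgroup.closure (GoodJ p S a0 a1) := by
  have hr0 := rk_add_rv a0
  have hr1 := rk_add_rv a1
  have hF0 : FH a0 := by unfold FH; omega
  have hF1 : FH a1 := by unfold FH; omega
  have h01 : a0 ≠ a1 := by
    intro e
    have := congrArg rk e
    omega
  have hq := hF0.quad hF1 h01
  have htB : t ∈ BU n S := ((mem_TU_iff t).2 ht).1
  set D : F := mt t a0 a0 with hD
  have hD0 : D ≠ 0 := up_diag_ne_zero t htB a0
  obtain ⟨hd, haa, _⟩ := hW_diag (S := S) hq hD0
  set t' : ↥(GJ n S) := (hW S a0 a1 D)⁻¹ * t with ht'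
  have ht'd : IsMono (mt t') 1 := isMono_mul_inv hd ht
  have hhN : hW S a0 a1 D ∈ NJ n S := hW_mem_NJ p hq D
  have ht'N : t' ∈ NJ n S := (NJ n S).mul_mem ((NJ n S).inv_mem hhN) htN
  have ht'one : ∀ i, rk i < 1 → mt t' i i = 1 := by
    intro i hi
    have : i = a0 := by
      apply rk_injective
      omega
    rw [this]
    exact diag_div hd ht a0 haa
  have h1 := torus_mem_aux p hG h00 hF0 (n / 2 - 2) 1 (by omega) le_rfl t' ht'd ht'N ht'one
  have hg1 : hW S a0 a1 D ∈ GoodJ p S a0 a1 :=
    ⟨((mem_TU_iff _).2 hd).1, hhN, Or.inr (hW_mem_closure_R0 p h00 h11 hF0 hF1 D)⟩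
  have hg2 : t' ∈ GoodJ p S a0 a1 := ⟨((mem_TU_iff _).2 ht'd).1, ht'N, Or.inl h1⟩
  have e : t = hW S a0 a1 D * t' := by
    rw [ht']
    group
  rw [e]
  exact Subgroup.mul_mem _ (Subgroup.subset_closure hg1) (Subgroup.subset_closure hg2)

include p in
/-- the normalizer of the unitriangular subgroup is generated by it and by good elements -/
theorem normalizer_le_closure (hG : SGood S) (hn : 4 ≤ n) {a0 a1 : Fin n} (h00 : rk a0 = 0)
    (h11 : rk a1 = 1) {g : ↥(GJ n S)} (hgN : g ∈ NJ n S)
    (hg : ∀ u ∈ UU n S, g⁻¹ * u * g ∈ UU n S) :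
    g ∈ Subgroup.closure ((UU n S : Set ↥(GJ n S)) ∪ GoodJ p S a0 a1) := by
  have hgB : g ∈ BU n S := mem_BU_of_fixed hG.hasSkew g (fun u hu => UU_le_BU (hg u hu))
  have hd := diagOf_mem g hgB
  have hu := mul_diagOf_inv_mem g hgB
  have hdN : diagOf g hgB ∈ NJ n S := by
    have e : diagOf g hgB = (g * (diagOf g hgB)⁻¹)⁻¹ * g := by group
    rw [e]
    exact (NJ n S).mul_mem ((NJ n S).inv_mem (UU_le_NJ hu)) hgN
  have h1 := torus_mem p hG hn h00 h11 ((mem_TU_iff _).1 hd) hdN
  have e : g = (g * (diagOf g hgB)⁻¹) * diagOf g hgB := by group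
  rw [e]
  apply Subgroup.mul_mem
  · exact Subgroup.subset_closure (Or.inl hu)
  · exact Subgroup.closure_mono Set.subset_union_right h1

end fin

end Cfsg.Agent.Lib.Helper27.SUFus
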