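import Mathlib
import Cfsg.Agent.Lib.Helper27.SUFusL
import Cfsg.Agent.Lib.Helper16.UnitaryFixed

set_option autoImplicit false

/-! Transfer of the results on the unitriangular subgroup to the determinant one subgroup as an
abstract group, and the hypotheses on the Frobenius involution. -/

namespace Cfsg.Agent.Lib.Helper27.SUFus

open Matrix Cfsg.Agent.Lib.helper14.UBN Cfsg.Agent.Lib.Helper27.FusSimpleQuot
open Cfsg.Agent.Lib.Helper27.FusSimpleGen

universe u
variable {F : Type u} [Field F] {n : ℕ} {S : SInv F}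

/-- closures of subsets of a subgroup can be computed inside the subgroup -/
theorem mem_closure_subtype {G : Type*} [Group G] (K : Subgroup G) (A : Set G)
    (hA : A ⊆ (K : Set G)) (g : K) (hg : (g : G) ∈ Subgroup.closure A) :
    g ∈ Subgroup.closure (K.subtype ⁻¹' A) := by
  have h1 : Subgroup.closure A = (Subgroup.closure (K.subtype ⁻¹' A)).map K.subtype := by
    rw [MonoidHom.map_closure, Set.image_preimage_eq_of_subset]
    intro x hx
    exact ⟨⟨x, hA hx⟩, rfl⟩
  rw [h1] at hg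
  obtain ⟨g', hg', e⟩ := hg
  have : g' = g := Subtype.ext e
  rw [← this]
  exact hg'

/-- the hypotheses on the involution hold for the Frobenius map of a field with `q ^ 2`
elements -/
theorem sGood_frob [Fintype F] {q : ℕ} (hF : Fintype.card F = q ^ 2)
    (hσ : ∀ x, S.σ x = x ^ q) : SGood S := by
  constructor
  · obtain ⟨δ, hδ⟩ := Cfsg.Agent.Lib.Lead.HI.exists_not_fixed hF
    exact ⟨δ, by rw [hσ]; exact hδ⟩
  · intro c hc
    by_cases hc0 : c = 0
    · exact ⟨0, by rw [hc0, zero_mul]⟩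
    · have hq : 1 ≤ q := by
        rcases Nat.eq_zero_or_pos q with h | h
        · rw [h] at hF
          have : 0 < Fintype.card F := Fintype.card_pos
          omega
        · exact h
      have h1 : c ^ (q - 1) = 1 := by
        have h2 : c ^ q = c := by rw [← hσ]; exact hc
        have h3 : c * c ^ (q - 1) = c * 1 := by
          rw [← pow_succ', Nat.sub_add_cancel hq, h2, mul_one]
        exact mul_left_cancel₀ hc0 h3
      obtain ⟨μ, hμ⟩ := Cfsg.Agent.Lib.Helper16.norm_surj hF (Units.mk0 c hc0) (by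
        apply Units.ext
        rw [Units.val_pow_eq_pow_val, Units.val_mk0, h1, Units.val_one])
      refine ⟨(μ : F), ?_⟩
      rw [hσ, ← pow_succ']
      have := congrArg Units.val hμ
      rwa [Units.val_pow_eq_pow_val, Units.val_mk0] at this

section fin

variable [Fintype F] (p : ℕ) [Fact p.Prime] [CharP F p]

theorem UJ_ne_bot (hG : SGood S) (hn : 2 ≤ n) : UJ n S ≠ ⊥ := by
  obtain ⟨β₀, h0, hs⟩ := hG.hasSkew
  set a0 : Fin n := ⟨0, by omega⟩ with ha0
  have hr := rk_add_rv a0
  have hr0 : rk a0 = 0 := rfl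
  have hF0 : FH a0 := by unfold FH; omega
  have hU : eG S (bV a0) 0 β₀ ∈ UU n S := tv_mem_UU hF0 hs
  intro hbot
  have hmem : (⟨eG S (bV a0) 0 β₀, UU_le_NJ hU⟩ : ↥(NJ n S)) ∈ UJ n S :=
    Subgroup.mem_subgroupOf.mpr hU
  rw [hbot, Subgroup.mem_bot] at hmem
  have h1 : eG S (bV a0) 0 β₀ = 1 := congrArg Subtype.val hmem
  have h2 := congrArg (fun g : ↥(GJ n S) => (mt g *ᵥ bV (rv a0)) a0) h1
  simp only [eG_mulVec (tv_ok hF0.ne hs), mt_one_mulVec] at h2
  rw [hJ_zero_right, hJ_bV_bV, if_pos rfl] at h2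
  simp only [Pi.sub_apply, Pi.add_apply, Pi.smul_apply, bV_apply,
    if_neg hF0.ne.symm, Pi.zero_apply, smul_eq_mul, if_true] at h2
  apply h0
  linear_combination -h2

include p in
/-- strongly closed subgroups of the unitriangular subgroup of the determinant one subgroup -/
theorem eq_UJ_of_closed (hG : SGood S) (hn : 4 ≤ n) (T' : Subgroup ↥(NJ n S))
    (hT' : T' ≤ UJ n S) (hne : T' ≠ ⊥)
    (hcl : ∀ x ∈ T', ∀ g : ↥(NJ n S), g * x * g⁻¹ ∈ UJ n S → g * x * g⁻¹ ∈ T') :
    T' = UJ n S := by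
  set T : Subgroup ↥(GJ n S) := T'.map (NJ n S).subtype with hT
  have hmemT : ∀ x : ↥(NJ n S), (x : ↥(GJ n S)) ∈ T ↔ x ∈ T' := by
    intro x
    rw [hT]
    exact Subgroup.mem_map_iff_mem (NJ n S).subtype_injective
  have hclosed : Closed T := by
    constructor
    · rintro _ ⟨x, hx, rfl⟩
      exact Subgroup.mem_subgroupOf.mp (hT' hx)
    · rintro _ ⟨x, hx, rfl⟩ g hg hU
      have h1 := hcl x hx ⟨g, hg⟩ (Subgroup.mem_subgroupOf.mpr hU)
      exact (hmemT _).2 h1
  have hTne : T ≠ ⊥ := by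
    intro h
    apply hne
    rw [Subgroup.eq_bot_iff_forall]
    intro x hx
    have : (x : ↥(GJ n S)) ∈ T := (hmemT x).2 hx
    rw [h, Subgroup.mem_bot] at this
    exact Subtype.ext this
  have hTU := eq_UU_of_closed p hG hn hclosed hTne
  ext x
  rw [← hmemT, hTU]
  exact Subgroup.mem_subgroupOf.symm

/-- transfer of normalizers to a subgroup -/
theorem mem_normalizer_subgroupOf {G : Type*} [Group G] (K R : Subgroup G) (x : K)
    (hx : (x : G) ∈ Subgroup.normalizer (R : Set G)) :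
    x ∈ Subgroup.normalizer ((R.subgroupOf K : Subgroup K) : Set K) := by
  rw [Subgroup.mem_normalizer_iff] at hx ⊢
  intro h
  rw [Subgroup.mem_subgroupOf, Subgroup.mem_subgroupOf]
  exact hx h

include p in
/-- good elements of the unitary group give good elements of the determinant one subgroup -/
theorem goodElt_of_goodJ (hG : SGood S) (hn : 4 ≤ n) {a0 a1 : Fin n} (h00 : rk a0 = 0)
    (h11 : rk a1 = 1) (y : ↥(NJ n S)) (hy : (y : ↥(GJ n S)) ∈ GoodJ p S a0 a1) :
    GoodElt p (UJ n S) y := by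
  haveI : Finite ↥(GJ n S) := gjFinite
  have hr0 := rk_add_rv a0
  have hr1 := rk_add_rv a1
  have hF0 : FH a0 := by unfold FH; omega
  have hF1 : FH a1 := by unfold FH; omega
  obtain ⟨hyB, _, hycl⟩ := hy
  have hyN : (y : ↥(GJ n S)) ∈ Subgroup.normalizer ((UU n S : Subgroup ↥(GJ n S)) : Set _) :=
    normalizer_of_conj_mem _ _ (fun u hu => UU_conj_mem _ u hyB hu)
  have key : ∀ R : Subgroup ↥(GJ n S), R ≤ UU n S →
      UU n S ≤ Subgroup.normalizer (R : Set ↥(GJ n S)) →
      (∀ s ∈ UU n S, (∀ r ∈ R, s * r = r * s) → s ∈ R) →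
      (y : ↥(GJ n S)) ∈ Subgroup.closure (PEl p R) → GoodElt p (UJ n S) y := by
    intro R hRU hnorm hcent hcl
    refine ⟨mem_normalizer_subgroupOf _ _ y hyN, R.subgroupOf (NJ n S), ?_, ?_, ?_, ?_⟩
    · intro r hr
      exact Subgroup.mem_subgroupOf.mpr (hRU (Subgroup.mem_subgroupOf.mp hr))
    · intro s hs
      exact mem_normalizer_subgroupOf _ _ s (hnorm (Subgroup.mem_subgroupOf.mp hs))
    · intro s hs hcomm
      apply Subgroup.mem_subgroupOf.mpr
      apply hcent _ (Subgroup.mem_subgroupOf.mp hs)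
      intro r hr
      have := hcomm ⟨r, UU_le_NJ (hRU hr)⟩ (Subgroup.mem_subgroupOf.mpr hr)
      exact congrArg Subtype.val this
    · have h1 := mem_closure_subtype (NJ n S) (PEl p R) (fun x hx => hx.1) y hcl
      refine Subgroup.closure_mono ?_ h1
      rintro x ⟨_, hx2, k, hk⟩
      refine ⟨mem_normalizer_subgroupOf _ _ x hx2, k, ?_⟩
      apply Subtype.ext
      rw [Subgroup.coe_pow, Subgroup.coe_one]
      exact hk
  rcases hycl with h | h
  · exact key (Q0 S a0) (Q0_le_UU h00 hF0) (UU_le_normalizer_Q0 h00)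
      (fun s hs hc => mem_Q0_of_commute hG h00 hF0 hs hc) h
  · exact key (R0 S a1) R0_le_UU (UU_le_normalizer_R0 h00 h11)
      (fun s hs hc => mem_R0_of_commute hG hF1 hs hc) h

include p in
/-- the generation of the normalizer of the unitriangular subgroup in the determinant one
subgroup -/
theorem normalizer_UJ_le (hG : SGood S) (hn : 4 ≤ n) :
    Subgroup.normalizer ((UJ n S : Subgroup ↥(NJ n S)) : Set ↥(NJ n S)) ≤
      Subgroup.closure (((UJ n S : Subgroup ↥(NJ n S)) : Set ↥(NJ n S)) ∪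
        {h : ↥(NJ n S) | GoodElt p (UJ n S) h}) := by
  set a0 : Fin n := ⟨0, by omega⟩ with ha0
  set a1 : Fin n := ⟨1, by omega⟩ with ha1
  have h00 : rk a0 = 0 := rfl
  have h11 : rk a1 = 1 := rfl
  intro g hg
  have hg' := Subgroup.inv_mem _ hg
  have hconj : ∀ u ∈ UU n S, (g : ↥(GJ n S))⁻¹ * u * (g : ↥(GJ n S)) ∈ UU n S := by
    intro u hu
    have h1 := (Subgroup.mem_normalizer_iff.mp hg' ⟨u, UU_le_NJ hu⟩).mp
      (Subgroup.mem_subgroupOf.mpr hu)
    rw [inv_inv] at h1
    exact Subgroup.mem_subgroupOf.mp h1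
  have h1 := normalizer_le_closure p hG hn h00 h11 g.2 hconj
  have hsub : ((UU n S : Set ↥(GJ n S)) ∪ GoodJ p S a0 a1) ⊆ (NJ n S : Set ↥(GJ n S)) := by
    rintro x (hx | hx)
    · exact UU_le_NJ hx
    · exact hx.2.1
  have h2 := mem_closure_subtype (NJ n S) _ hsub g h1
  refine Subgroup.closure_mono ?_ h2
  rintro x (hx | hx)
  · left
    exact Subgroup.mem_subgroupOf.mpr hx
  · right
    exact goodElt_of_goodJ p hG hn h00 h11 x hx

end fin

end Cfsg.Agent.Lib.Helper27.SUFus
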