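import Cfsg.Agent.Lib.Helper19.SW.Defs

set_option autoImplicit false

/-! Duplicate of piece SW-A1 (the assigned copy is `Cfsg.Agent.Lib.Helper25.SWA1`); kept in a
private namespace so that the two files can be imported together without name clashes. -/

namespace Cfsg.Agent.Lib.Helper27.SWA1dup

open Cfsg.Agent.Lib.Helper19.SW

variable {G : Type*} [Group G] {V : Type*} [MulAction G V] {Adj : V → V → Prop}

/-! ## Piece A1 : the action of `G_v` on its three neighbours -/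
section A1

theorem nbr_three (h : LS3 G Adj) (v : V) :
    ∃ w₁ w₂ w₃ : V, w₁ ≠ w₂ ∧ w₁ ≠ w₃ ∧ w₂ ≠ w₃ ∧ ∀ w, Adj v w ↔ (w = w₁ ∨ w = w₂ ∨ w = w₃) := by
  obtain ⟨x, y, z, hxy, hxz, hyz, hs⟩ := Set.ncard_eq_three.mp (h.card_nbr v)
  refine ⟨x, y, z, hxy, hxz, hyz, fun w => ?_⟩
  have : w ∈ {w | Adj v w} ↔ w ∈ ({x, y, z} : Set V) := by rw [hs]
  simpa using this

theorem smul_adj_iff (h : LS3 G Adj) (g : G) (v w : V) : Adj (g • v) (g • w) ↔ Adj v w := by
  constructor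
  · intro hh
    have := h.smul g⁻¹ _ _ hh
    simpa using this
  · exact h.smul g v w

theorem mem_Qs_iff (v : V) (x : G) :
    x ∈ Qs G Adj v ↔ x • v = v ∧ ∀ w, Adj v w → x • w = w := by
  unfold Qs
  simp only [Subgroup.mem_inf, Subgroup.mem_iInf, MulAction.mem_stabilizer_iff, Set.mem_ofPred_eq]

theorem mem_Ts_iff (v w : V) (x : G) : x ∈ Ts G v w ↔ x • v = v ∧ x • w = w := by
  unfold Ts
  simp only [Subgroup.mem_inf, MulAction.mem_stabilizer_iff]

theorem Ts_comm (v w : V) : Ts G v w = Ts G w v := by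
  unfold Ts
  exact inf_comm _ _

theorem Qs_le_Ts (v w : V) (hvw : Adj v w) : Qs G Adj v ≤ Ts G v w := by
  intro x hx
  rw [mem_Qs_iff] at hx
  rw [mem_Ts_iff]
  exact ⟨hx.1, hx.2 w hvw⟩

/-- the two other neighbours. -/
theorem h27_other_two (h : LS3 G Adj) {v w : V} (hw : Adj v w) :
    ∃ w' w'', Adj v w' ∧ Adj v w'' ∧ w' ≠ w ∧ w'' ≠ w ∧ w' ≠ w'' ∧
      ∀ x, Adj v x → x = w ∨ x = w' ∨ x = w'' := by
  obtain ⟨a, b, c, hab, hac, hbc, hiff⟩ := nbr_three h v
  have ha : Adj v a := (hiff a).2 (Or.inl rfl)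
  have hb : Adj v b := (hiff b).2 (Or.inr (Or.inl rfl))
  have hc : Adj v c := (hiff c).2 (Or.inr (Or.inr rfl))
  rcases (hiff w).1 hw with rfl | rfl | rfl
  · exact ⟨b, c, hb, hc, hab.symm, hac.symm, hbc, fun x hx => (hiff x).1 hx⟩
  · refine ⟨a, c, ha, hc, hab, hbc.symm, hac, fun x hx => ?_⟩
    rcases (hiff x).1 hx with h1 | h1 | h1
    · exact Or.inr (Or.inl h1)
    · exact Or.inl h1
    · exact Or.inr (Or.inr h1)
  · refine ⟨a, b, ha, hb, hac, hbc, hab, fun x hx => ?_⟩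
    rcases (hiff x).1 hx with h1 | h1 | h1
    · exact Or.inr (Or.inl h1)
    · exact Or.inr (Or.inr h1)
    · exact Or.inl h1

/-- given three distinct neighbours, every neighbour is one of them. -/
theorem h27_nbr_cases (h : LS3 G Adj) {v w w' w'' : V} (hw : Adj v w) (hw' : Adj v w')
    (hw'' : Adj v w'') (h1 : w' ≠ w) (h2 : w'' ≠ w) (h3 : w' ≠ w'') :
    ∀ x, Adj v x → x = w ∨ x = w' ∨ x = w'' := by
  intro x hx
  have hsub : ({w, w', w''} : Set V) ⊆ {y | Adj v y} := by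
    intro y hy
    rcases hy with rfl | rfl | rfl
    · exact hw
    · exact hw'
    · exact hw''
  have hfin : ({y | Adj v y} : Set V).Finite := by
    apply Set.finite_of_ncard_ne_zero
    rw [h.card_nbr v]
    norm_num
  have hcard : ({w, w', w''} : Set V).ncard = 3 :=
    Set.ncard_eq_three.mpr ⟨w, w', w'', h1.symm, h2.symm, h3, rfl⟩
  have heq : ({w, w', w''} : Set V) = {y | Adj v y} := by
    apply Set.eq_of_subset_of_ncard_le hsub _ hfin
    rw [hcard, h.card_nbr v]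
  have : x ∈ ({w, w', w''} : Set V) := by rw [heq]; exact hx
  simpa using this

theorem h27_adj_smul_of_fix (h : LS3 G Adj) {v x : V} {t : G} (ht : t • v = v) (hx : Adj v x) :
    Adj v (t • x) := by
  have := h.smul t v x hx
  rwa [ht] at this

/-- an element of `T_vw` outside `Q_v` swaps the two other neighbours of `v`. -/
theorem swap_of_not_mem_Qs (h : LS3 G Adj) {v w w' w'' : V} (hw : Adj v w) (hw' : Adj v w')
    (hw'' : Adj v w'') (h1 : w' ≠ w) (h2 : w'' ≠ w) (h3 : w' ≠ w'') {t : G} (ht : t ∈ Ts G v w)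
    (htQ : t ∉ Qs G Adj v) : t • w' = w'' ∧ t • w'' = w' := by
  rw [mem_Ts_iff] at ht
  obtain ⟨htv, htw⟩ := ht
  have hcases := h27_nbr_cases h hw hw' hw'' h1 h2 h3
  have hinj : ∀ a b : V, t • a = t • b → a = b := fun a b hab => by
    have := congrArg (fun y => t⁻¹ • y) hab
    simpa using this
  have c1 := hcases _ (h27_adj_smul_of_fix h htv hw')
  have c2 := hcases _ (h27_adj_smul_of_fix h htv hw'')
  have n1 : t • w' ≠ w := fun e => h1 (hinj _ _ (e.trans htw.symm))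
  have n2 : t • w'' ≠ w := fun e => h2 (hinj _ _ (e.trans htw.symm))
  have n3 : t • w' ≠ t • w'' := fun e => h3 (hinj _ _ e)
  rcases c1 with e1 | e1 | e1
  · exact absurd e1 n1
  · -- t fixes w', so fixes w'' as well, so t ∈ Q_v
    exfalso
    rcases c2 with e2 | e2 | e2
    · exact n2 e2
    · exact n3 (e1.trans e2.symm)
    · apply htQ
      rw [mem_Qs_iff]
      refine ⟨htv, fun x hx => ?_⟩
      rcases hcases x hx with rfl | rfl | rfl
      · exact htw
      · exact e1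
      · exact e2
  · refine ⟨e1, ?_⟩
    rcases c2 with e2 | e2 | e2
    · exact absurd e2 n2
    · exact e2
    · exact absurd (e1.trans e2.symm) n3

theorem exists_Ts_not_Qs (h : LS3 G Adj) {v w : V} (hw : Adj v w) :
    ∃ t ∈ Ts G v w, t ∉ Qs G Adj v := by
  obtain ⟨t, ht, w', hw', hne⟩ := h.s3 v w hw
  refine ⟨t, ht, fun hq => hne ?_⟩
  rw [mem_Qs_iff] at hq
  exact hq.2 w' hw'

/-- `|T_vw : Q_v| = 2`. -/
theorem mul_mem_Qs (h : LS3 G Adj) {v w : V} (hw : Adj v w) {t t' : G} (ht : t ∈ Ts G v w)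
    (ht' : t' ∈ Ts G v w) (htQ : t ∉ Qs G Adj v) (htQ' : t' ∉ Qs G Adj v) :
    t * t' ∈ Qs G Adj v := by
  obtain ⟨w', w'', hw', hw'', h1, h2, h3, hcases⟩ := h27_other_two h hw
  obtain ⟨a1, a2⟩ := swap_of_not_mem_Qs h hw hw' hw'' h1 h2 h3 ht htQ
  obtain ⟨b1, b2⟩ := swap_of_not_mem_Qs h hw hw' hw'' h1 h2 h3 ht' htQ'
  rw [mem_Ts_iff] at ht ht'
  rw [mem_Qs_iff]
  refine ⟨by rw [mul_smul, ht'.1, ht.1], fun x hx => ?_⟩
  rcases hcases x hx with rfl | rfl | rfl
  · rw [mul_smul, ht'.2, ht.2]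
  · rw [mul_smul, b1, a2]
  · rw [mul_smul, b2, a1]

theorem relIndex_Qs_Ts (h : LS3 G Adj) {v w : V} (hw : Adj v w) :
    (Qs G Adj v).relIndex (Ts G v w) = 2 := by
  rw [Subgroup.relIndex_eq_two_iff]
  obtain ⟨t, ht, htQ⟩ := exists_Ts_not_Qs h hw
  refine ⟨t, ht, fun b hb => ?_⟩
  by_cases hbQ : b ∈ Qs G Adj v
  · refine Or.inr ⟨hbQ, fun hbt => htQ ?_⟩
    have := (Qs G Adj v).mul_mem ((Qs G Adj v).inv_mem hbQ) hbt
    simpa using this
  · exact Or.inl ⟨mul_mem_Qs h hw hb ht hbQ htQ, hbQ⟩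

theorem h27_Ts_le_Gs (v w : V) : Ts G v w ≤ MulAction.stabilizer G v := by
  unfold Ts
  exact inf_le_left

theorem relIndex_Ts_Gs (h : LS3 G Adj) {v w : V} (hw : Adj v w) :
    (Ts G v w).relIndex (MulAction.stabilizer G v) = 3 := by
  have hst : (Ts G v w).subgroupOf (MulAction.stabilizer G v) =
      MulAction.stabilizer (MulAction.stabilizer G v) w := by
    ext ⟨x, hx⟩
    rw [Subgroup.mem_subgroupOf, mem_Ts_iff, MulAction.mem_stabilizer_iff]
    rw [MulAction.mem_stabilizer_iff] at hx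
    constructor
    · intro hh
      exact hh.2
    · intro hh
      exact ⟨hx, hh⟩
  rw [Subgroup.relIndex, hst, MulAction.index_stabilizer, ← h.card_nbr v]
  congr 1
  ext x
  constructor
  · rintro ⟨⟨g, hg⟩, rfl⟩
    rw [MulAction.mem_stabilizer_iff] at hg
    exact h27_adj_smul_of_fix h hg hw
  · intro hx
    obtain ⟨g, hg, hgx⟩ := h.trans v w x hw hx
    exact ⟨⟨g, hg⟩, hgx⟩

/-- `G_v` is 2-transitive on the neighbours of `v`. -/
theorem two_trans (h : LS3 G Adj) {v w₁ w₂ w₁' w₂' : V} (h1 : Adj v w₁) (h2 : Adj v w₂)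
    (h12 : w₁ ≠ w₂) (h1' : Adj v w₁') (h2' : Adj v w₂') (h12' : w₁' ≠ w₂') :
    ∃ g ∈ MulAction.stabilizer G v, g • w₁ = w₁' ∧ g • w₂ = w₂' := by
  obtain ⟨g, hg, hgw⟩ := h.trans v w₁ w₁' h1 h1'
  have hgv : g • v = v := hg
  by_cases hc : g • w₂ = w₂'
  · exact ⟨g, hg, hgw, hc⟩
  · obtain ⟨t, ht, htQ⟩ := exists_Ts_not_Qs h h1'
    have hadj : Adj v (g • w₂) := h27_adj_smul_of_fix h hgv h2
    have hne1 : g • w₂ ≠ w₁' := by
      intro e
      apply h12
      have := congrArg (fun y => g⁻¹ • y) (hgw.trans e.symm)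
      simpa using this
    obtain ⟨s1, _⟩ := swap_of_not_mem_Qs h h1' hadj h2' hne1 h12'.symm hc ht htQ
    have ht' := (mem_Ts_iff _ _ _).1 ht
    refine ⟨t * g, (MulAction.stabilizer G v).mul_mem (h27_Ts_le_Gs v w₁' ht) hg, ?_, ?_⟩
    · rw [mul_smul, hgw, ht'.2]
    · rw [mul_smul, s1]

/-- `G_v = ⟨T_vw, T_vw'⟩`. -/
theorem Gs_le_sup (h : LS3 G Adj) {v w w' : V} (hw : Adj v w) (hw' : Adj v w') (hne : w ≠ w') :
    MulAction.stabilizer G v ≤ Ts G v w ⊔ Ts G v w' := by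
  intro g hg
  have hgv : g • v = v := hg
  obtain ⟨a, b, ha, hb, ha1, hb1, hab, hcases⟩ := h27_other_two h hw
  -- the third neighbour
  obtain ⟨w'', hw'', h2, h3⟩ : ∃ w'', Adj v w'' ∧ w'' ≠ w ∧ w' ≠ w'' := by
    rcases hcases w' hw' with e | e | e
    · exact absurd e.symm hne
    · exact ⟨b, hb, hb1, by rw [e]; exact hab⟩
    · exact ⟨a, ha, ha1, by rw [e]; exact hab.symm⟩
  have hc3 := h27_nbr_cases h hw hw' hw'' hne.symm h2 h3
  obtain ⟨t, ht, htQ⟩ := exists_Ts_not_Qs h hw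
  obtain ⟨t', ht', htQ'⟩ := exists_Ts_not_Qs h hw'
  obtain ⟨s1, s2⟩ := swap_of_not_mem_Qs h hw hw' hw'' hne.symm h2 h3 ht htQ
  obtain ⟨s1', s2'⟩ := swap_of_not_mem_Qs h hw' hw hw'' hne h3.symm (Ne.symm h2) ht' htQ'
  have htS : t ∈ Ts G v w ⊔ Ts G v w' := Subgroup.mem_sup_left ht
  have htS' : t' ∈ Ts G v w ⊔ Ts G v w' := Subgroup.mem_sup_right ht'
  -- find k in the join with k • w = g • w
  have key : ∃ k ∈ Ts G v w ⊔ Ts G v w', k • w = g • w := by
    rcases hc3 _ (h27_adj_smul_of_fix h hgv hw) with e | e | e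
    · exact ⟨1, Subgroup.one_mem _, by rw [one_smul, e]⟩
    · -- g • w = w' ; t' sends w to w'', t sends w'' to w'
      refine ⟨t * t', Subgroup.mul_mem _ htS htS', ?_⟩
      rw [mul_smul, s1', s2, e]
    · exact ⟨t', htS', by rw [s1', e]⟩
  obtain ⟨k, hk, hkw⟩ := key
  have hkv : k • v = v := by
    have : Ts G v w ⊔ Ts G v w' ≤ MulAction.stabilizer G v :=
      sup_le (h27_Ts_le_Gs v w) (h27_Ts_le_Gs v w')
    exact this hk
  have : k⁻¹ * g ∈ Ts G v w := by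
    rw [mem_Ts_iff]
    constructor
    · rw [mul_smul, hgv]
      have := congrArg (fun y => k⁻¹ • y) hkv
      simpa using this.symm
    · rw [mul_smul, ← hkw]
      simp
  have h2 : g = k * (k⁻¹ * g) := by group
  rw [h2]
  exact Subgroup.mul_mem _ hk (Subgroup.mem_sup_left this)

/-- a normal subgroup of `G_v` not contained in `Q_v` is transitive on the neighbours, hence
`G_v = K T_vw`. -/
theorem Gs_le_sup_of_normal (h : LS3 G Adj) {v w : V} (hw : Adj v w) (K : Subgroup G)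
    (hK : K ≤ MulAction.stabilizer G v)
    (hKn : ∀ g ∈ MulAction.stabilizer G v, ∀ x ∈ K, g * x * g⁻¹ ∈ K)
    (hKQ : ¬ K ≤ Qs G Adj v) : MulAction.stabilizer G v ≤ K ⊔ Ts G v w := by
  -- K moves some neighbour
  obtain ⟨k0, hk0, hk0Q⟩ := Set.not_subset.mp hKQ
  have hk0v : k0 • v = v := hK hk0
  have hmove0 : ∃ x, Adj v x ∧ k0 • x ≠ x := by
    by_contra hcon
    push Not at hcon
    exact hk0Q ((mem_Qs_iff _ _).2 ⟨hk0v, hcon⟩)
  obtain ⟨x0, hx0, hx0m⟩ := hmove0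
  -- K moves every neighbour
  have hmove : ∀ y, Adj v y → ∃ k ∈ K, k • y ≠ y := by
    intro y hy
    obtain ⟨g, hg, rfl⟩ := h.trans v x0 y hx0 hy
    refine ⟨g * k0 * g⁻¹, hKn g hg k0 hk0, ?_⟩
    intro e
    apply hx0m
    have e2 : g • (k0 • x0) = g • x0 := by
      simpa [mul_smul] using e
    have := congrArg (fun z => g⁻¹ • z) e2
    simpa using this
  -- K is transitive on neighbours starting from w
  have htrans : ∀ y, Adj v y → ∃ k ∈ K, k • w = y := by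
    obtain ⟨k1, hk1, hk1w⟩ := hmove w hw
    have hk1v : k1 • v = v := hK hk1
    have hw' : Adj v (k1 • w) := h27_adj_smul_of_fix h hk1v hw
    intro y hy
    by_cases e1 : y = w
    · exact ⟨1, K.one_mem, by rw [one_smul, e1]⟩
    by_cases e2 : y = k1 • w
    · exact ⟨k1, hk1, e2.symm⟩
    -- y is the third neighbour
    have hc3 := h27_nbr_cases h hw hw' hy hk1w e1 (Ne.symm e2)
    obtain ⟨k3, hk3, hk3y⟩ := hmove y hy
    have hk3v : k3 • v = v := hK hk3
    rcases hc3 _ (h27_adj_smul_of_fix h hk3v hy) with e | e | e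
    · -- k3 • y = w
      refine ⟨k3⁻¹, K.inv_mem hk3, ?_⟩
      rw [← e]
      simp
    · -- k3 • y = k1 • w
      refine ⟨k3⁻¹ * k1, K.mul_mem (K.inv_mem hk3) hk1, ?_⟩
      rw [mul_smul, ← e]
      simp
    · exact absurd e hk3y
  intro g hg
  have hgv : g • v = v := hg
  obtain ⟨k, hk, hkw⟩ := htrans _ (h27_adj_smul_of_fix h hgv hw)
  have hkv : k • v = v := hK hk
  have : k⁻¹ * g ∈ Ts G v w := by
    rw [mem_Ts_iff]
    constructor
    · rw [mul_smul, hgv]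
      have := congrArg (fun y => k⁻¹ • y) hkv
      simpa using this.symm
    · rw [mul_smul, ← hkw]
      simp
  have h2 : g = k * (k⁻¹ * g) := by group
  rw [h2]
  exact Subgroup.mul_mem _ (Subgroup.mem_sup_left hk) (Subgroup.mem_sup_right this)

theorem isPGroup_Qs (h : LS3 G Adj) (v : V) : IsPGroup 2 (Qs G Adj v) := by
  obtain ⟨w, _, _, _, _, _, hiff⟩ := nbr_three h v
  have hw : Adj v w := (hiff w).2 (Or.inl rfl)
  exact (h.two v w hw).to_le (Qs_le_Ts v w hw)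

theorem card_Gs (h : LS3 G Adj) (v : V) :
    Nat.card (MulAction.stabilizer G v) = 6 * Nat.card (Qs G Adj v) := by
  obtain ⟨w, _, _, _, _, _, hiff⟩ := nbr_three h v
  have hw : Adj v w := (hiff w).2 (Or.inl rfl)
  have hQT := Qs_le_Ts (G := G) v w hw
  have hTG := h27_Ts_le_Gs (G := G) v w
  have e1 := Subgroup.relIndex_mul_relIndex (Qs G Adj v) (Ts G v w) (MulAction.stabilizer G v)
    hQT hTG
  have e2 := Subgroup.relIndex_mul_relIndex ⊥ (Qs G Adj v) (MulAction.stabilizer G v)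
    bot_le (hQT.trans hTG)
  rw [Subgroup.relIndex_bot_left, Subgroup.relIndex_bot_left] at e2
  rw [relIndex_Qs_Ts h hw, relIndex_Ts_Gs h hw] at e1
  rw [← e2, ← e1]
  ring

/-- an element of order 3 of `G_v`, permuting the three neighbours cyclically. -/
theorem exists_three_cycle (h : LS3 G Adj) {v w₁ w₂ w₃ : V} (h1 : Adj v w₁) (h2 : Adj v w₂)
    (h3 : Adj v w₃) (h12 : w₁ ≠ w₂) (h13 : w₁ ≠ w₃) (h23 : w₂ ≠ w₃) :
    ∃ s ∈ MulAction.stabilizer G v, s ^ 3 = 1 ∧ s • w₁ = w₂ ∧ s • w₂ = w₃ ∧ s • w₃ = w₁ := by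
  obtain ⟨g, hg, g1, g2⟩ := two_trans h h1 h2 h12 h2 h3 h23
  have hgv : g • v = v := hg
  have hinj : ∀ a b : V, g • a = g • b → a = b := fun a b hab => by
    have := congrArg (fun y => g⁻¹ • y) hab
    simpa using this
  have hcases := h27_nbr_cases h h1 h2 h3 h12.symm h13.symm h23
  have g3 : g • w₃ = w₁ := by
    rcases hcases _ (h27_adj_smul_of_fix h hgv h3) with e | e | e
    · exact e
    · exact absurd (hinj _ _ (e.trans g1.symm)) h13.symm
    · exact absurd (hinj _ _ (e.trans g2.symm)) h23.symm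
  -- |G_v| = 3 * 2^(k+1)
  have hfinG := h.fin v
  have hQG : Qs G Adj v ≤ MulAction.stabilizer G v :=
    (Qs_le_Ts v w₁ h1).trans (h27_Ts_le_Gs v w₁)
  have hfinQ : Finite (Qs G Adj v) :=
    Finite.of_injective (Subgroup.inclusion hQG) (Subgroup.inclusion_injective hQG)
  obtain ⟨k, hk⟩ := (IsPGroup.iff_card (p := 2)).mp (isPGroup_Qs h v)
  have hcard : Nat.card (MulAction.stabilizer G v) = 3 * 2 ^ (k + 1) := by
    rw [card_Gs h v, hk]; ring
  have hgN : g ^ (3 * 2 ^ (k + 1)) = 1 := by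
    have : (⟨g, hg⟩ : MulAction.stabilizer G v) ^ Nat.card (MulAction.stabilizer G v) = 1 :=
      pow_card_eq_one'
    rw [hcard] at this
    have := congrArg Subtype.val this
    simpa using this
  -- g^3 fixes the three neighbours
  have hg3 : ∀ x, (x = w₁ ∨ x = w₂ ∨ x = w₃) → (g ^ 3) • x = x := by
    intro x hx
    have e : g ^ 3 = g * g * g := by rw [pow_succ, pow_two]
    rcases hx with rfl | rfl | rfl
    · rw [e, mul_smul, mul_smul, g1, g2, g3]
    · rw [e, mul_smul, mul_smul, g2, g3, g1]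
    · rw [e, mul_smul, mul_smul, g3, g1, g2]
  have hg3q : ∀ (q : ℕ) x, (x = w₁ ∨ x = w₂ ∨ x = w₃) → ((g ^ 3) ^ q) • x = x := by
    intro q
    induction q with
    | zero => intro x _; simp
    | succ n ih =>
      intro x hx
      rw [pow_succ, mul_smul, hg3 x hx, ih x hx]
  -- 4^(k+1) = 3 q + 1
  obtain ⟨q, hq⟩ : ∃ q, 4 ^ (k + 1) = 3 * q + 1 := by
    have : 4 ^ (k + 1) % 3 = 1 := by
      rw [Nat.pow_mod]; norm_num
    exact ⟨4 ^ (k + 1) / 3, by omega⟩
  refine ⟨g ^ (4 ^ (k + 1)), (MulAction.stabilizer G v).pow_mem hg _, ?_, ?_, ?_, ?_⟩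
  · rw [← pow_mul]
    have : 4 ^ (k + 1) * 3 = (3 * 2 ^ (k + 1)) * 2 ^ (k + 1) := by
      have : (4 : ℕ) ^ (k + 1) = 2 ^ (k + 1) * 2 ^ (k + 1) := by
        rw [← mul_pow]; norm_num
      rw [this]; ring
    rw [this, pow_mul, hgN, one_pow]
  · rw [hq, pow_succ, pow_mul, mul_smul, g1]
    exact hg3q q _ (Or.inr (Or.inl rfl))
  · rw [hq, pow_succ, pow_mul, mul_smul, g2]
    exact hg3q q _ (Or.inr (Or.inr rfl))
  · rw [hq, pow_succ, pow_mul, mul_smul, g3]
    exact hg3q q _ (Or.inl rfl)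

end A1

end Cfsg.Agent.Lib.Helper27.SWA1dup
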