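import Cfsg.Agent.Lib.Helper27.OmegaAut

set_option autoImplicit false

namespace Cfsg.Agent.Lib.Helper27

variable {R : Type*} [Group R]

/-- The subgroup `[R, A]` generated by the `x⁻¹ α(x)`. -/
def commSub (A : Subgroup (MulAut R)) : Subgroup R :=
  Subgroup.closure {y : R | ∃ α ∈ A, ∃ x : R, y = x⁻¹ * α x}

theorem inv_mul_apply_mem_commSub {A : Subgroup (MulAut R)} {α : MulAut R} (hα : α ∈ A) (x : R) :
    x⁻¹ * α x ∈ commSub A :=
  Subgroup.subset_closure ⟨α, hα, x, rfl⟩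

theorem apply_mem_commSub {A : Subgroup (MulAut R)} {β : MulAut R} (hβ : β ∈ A) {x : R}
    (hx : x ∈ commSub A) : β x ∈ commSub A := by
  have key : commSub A ≤ (commSub A).comap β.toMonoidHom := by
    unfold commSub
    rw [Subgroup.closure_le]
    rintro _ ⟨α, hα, x, rfl⟩
    show β (x⁻¹ * α x) ∈ Subgroup.closure _
    refine Subgroup.subset_closure ⟨β * α * β⁻¹, A.mul_mem (A.mul_mem hβ hα) (A.inv_mem hβ), β x, ?_⟩
    rw [map_mul, map_inv]
    simp
  exact key hx

/-- `x` has order dividing `p`, or `p = 2` and order dividing `4`. -/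
def IsSmall (p : ℕ) (x : R) : Prop := x ^ p = 1 ∨ (p = 2 ∧ x ^ 4 = 1)

theorem isSmall_apply {p : ℕ} (β : MulAut R) {x : R} (hx : IsSmall p x) : IsSmall p (β x) := by
  rcases hx with h | ⟨h2, h⟩
  · left; rw [← map_pow, h, map_one]
  · right; exact ⟨h2, by rw [← map_pow, h, map_one]⟩

/-- the one-sided condition -/
def SmallCond (p : ℕ) (Q : Subgroup R) (α : MulAut R) : Prop :=
  ∀ x : R, x ∈ Q → IsSmall p x → α x ∈ Subgroup.zpowers x ∧ (p ≠ 2 → α x = x)

theorem apply_mem_zpowers_of_mem {α : MulAut R} {x y : R} (h : α x ∈ Subgroup.zpowers x)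
    (hy : y ∈ Subgroup.zpowers x) : α y ∈ Subgroup.zpowers x := by
  obtain ⟨k, rfl⟩ := Subgroup.mem_zpowers_iff.mp hy
  rw [map_zpow]
  exact Subgroup.zpow_mem _ h k

theorem smallCond_one (p : ℕ) (Q : Subgroup R) : SmallCond p Q 1 :=
  fun x _ _ => ⟨Subgroup.mem_zpowers x, fun _ => rfl⟩

theorem smallCond_mul {p : ℕ} {Q : Subgroup R} {α β : MulAut R} (hα : SmallCond p Q α)
    (hβ : SmallCond p Q β) : SmallCond p Q (α * β) := by
  intro x hx hs
  obtain ⟨h1, h2⟩ := hβ x hx hs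
  obtain ⟨h3, h4⟩ := hα x hx hs
  refine ⟨?_, fun hp => ?_⟩
  · rw [MulAut.mul_apply]
    exact apply_mem_zpowers_of_mem h3 h1
  · rw [MulAut.mul_apply, h2 hp, h4 hp]

/-- Automorphisms normalizing every small cyclic subgroup of `Q` (centralizing for odd `p`). -/
def smallStab (p : ℕ) (Q : Subgroup R) : Subgroup (MulAut R) where
  carrier := {α | SmallCond p Q α ∧ SmallCond p Q α⁻¹}
  one_mem' := ⟨smallCond_one p Q, by rw [inv_one]; exact smallCond_one p Q⟩
  mul_mem' := by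
    intro α β hα hβ
    refine ⟨smallCond_mul hα.1 hβ.1, ?_⟩
    rw [mul_inv_rev]
    exact smallCond_mul hβ.2 hα.2
  inv_mem' := by
    intro α hα
    refine ⟨hα.2, ?_⟩
    rw [inv_inv]
    exact hα.1

theorem smallCond_conj {p : ℕ} {Q : Subgroup R} {α β : MulAut R}
    (hQ : ∀ x ∈ Q, β⁻¹ x ∈ Q) (hα : SmallCond p Q α) : SmallCond p Q (β * α * β⁻¹) := by
  intro x hx hs
  obtain ⟨h1, h2⟩ := hα (β⁻¹ x) (hQ x hx) (isSmall_apply _ hs)
  refine ⟨?_, fun hp => ?_⟩
  · rw [MulAut.mul_apply, MulAut.mul_apply]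
    obtain ⟨k, hk⟩ := Subgroup.mem_zpowers_iff.mp h1
    rw [← hk, map_zpow, MulAut.apply_inv_self]
    exact Subgroup.zpow_mem _ (Subgroup.mem_zpowers x) k
  · rw [MulAut.mul_apply, MulAut.mul_apply, h2 hp, MulAut.apply_inv_self]

theorem smallStab_normal {p : ℕ} {Q : Subgroup R} (A : Subgroup (MulAut R))
    (hQ : ∀ β ∈ A, ∀ x ∈ Q, β x ∈ Q) : ((smallStab p Q).subgroupOf A).Normal := by
  constructor
  intro a ha b
  rw [Subgroup.mem_subgroupOf] at ha ⊢
  have hb' : ∀ x ∈ Q, (b : MulAut R)⁻¹ x ∈ Q := fun x hx => hQ _ (A.inv_mem b.2) x hx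
  have e1 : ((b * a * b⁻¹ : A) : MulAut R) = (b : MulAut R) * (a : MulAut R) * (b : MulAut R)⁻¹ := rfl
  have e2 : ((b * a * b⁻¹ : A) : MulAut R)⁻¹ =
      (b : MulAut R) * (a : MulAut R)⁻¹ * (b : MulAut R)⁻¹ := by
    rw [e1]; group
  refine ⟨?_, ?_⟩
  · rw [e1]; exact smallCond_conj hb' ha.1
  · rw [e2]; exact smallCond_conj hb' ha.2

theorem pow_apply_of_fix' (γ : MulAut R) (x z : R) (hx : γ x = x * z) (hz : γ z = z) (n : ℕ) :
    (γ ^ n) x = x * z ^ n := by
  induction n with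
  | zero => simp
  | succ n ih =>
    rw [pow_succ', MulAut.mul_apply, ih, map_mul, map_pow, hx, hz, pow_succ']
    group

theorem apply_eq_of_odd_of_pow_four {α : MulAut R} [Finite R] {x : R}
    (hodd : (orderOf α).Coprime 2) (h4 : x ^ 4 = 1) (hx : α x ∈ Subgroup.zpowers x) : α x = x := by
  obtain ⟨k, hk⟩ := Subgroup.mem_zpowers_iff.mp hx
  have h4z : x ^ (4 : ℤ) = 1 := by
    have : x ^ ((4 : ℕ) : ℤ) = 1 := by rw [zpow_natCast]; exact h4
    simpa using this
  have hsq : (α * α) x = x ∨ x = 1 := by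
    have h2 : (α * α) x = x ^ (k * k) := by
      rw [MulAut.mul_apply, ← hk, map_zpow, ← hk, ← zpow_mul]
    obtain ⟨m, hm | hm⟩ := Int.even_or_odd' k
    · right
      have e : k * k = 4 * (m * m) := by rw [hm]; ring
      rw [e, zpow_mul, h4z, one_zpow] at h2
      have : (α * α) x = (α * α) 1 := by rw [h2, map_one]
      exact (α * α).injective this
    · left
      have e : k * k = 4 * (m * m + m) + 1 := by rw [hm]; ring
      rw [e, zpow_add, zpow_mul, h4z, one_zpow, one_mul, zpow_one] at h2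
      exact h2
  rcases hsq with hsq | h1
  · have hn : Odd (orderOf α) := Nat.coprime_two_right.mp hodd
    obtain ⟨t, ht⟩ := hn
    have h3 : ∀ j : ℕ, ((α * α) ^ j) x = x := by
      intro j
      induction j with
      | zero => simp
      | succ j ih => rw [pow_succ', MulAut.mul_apply, ih, hsq]
    have h5 : α ^ (orderOf α) = 1 := pow_orderOf_eq_one α
    have h6 : α ^ (orderOf α) = α * (α * α) ^ t := by
      rw [ht, pow_succ', ← pow_two, ← pow_mul]
    rw [h6] at h5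
    have h7 : (α * (α * α) ^ t) x = x := by rw [h5]; rfl
    rw [MulAut.mul_apply, h3 t] at h7
    exact h7
  · rw [h1, map_one]

/-- A `p'`-element of `A` in the small stabilizer of `[R, A]` is trivial. -/
theorem eq_one_of_mem_smallStab [Finite R] {p : ℕ} [Fact p.Prime] (hR : IsPGroup p R)
    (A : Subgroup (MulAut R)) {α : MulAut R} (hαA : α ∈ A)
    (hα : α ∈ smallStab p (commSub A)) (hcop : (orderOf α).Coprime p) : α = 1 := by
  have hfix : ∀ a ∈ commSub A, (a ^ p = 1 ∨ (p = 2 ∧ a ^ 4 = 1)) → α a = a := by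
    intro a ha hs
    obtain ⟨h1, h2⟩ := hα.1 a ha hs
    by_cases hp : p = 2
    · have h4 : a ^ 4 = 1 := by
        rcases hs with h | ⟨-, h⟩
        · rw [hp] at h
          rw [show 4 = 2 * 2 from rfl, pow_mul, h, one_pow]
        · exact h
      exact apply_eq_of_odd_of_pow_four (hp ▸ hcop) h4 h1
    · exact h2 hp
  have hQfix : ∀ x ∈ commSub A, α x = x :=
    aut_fix_of_fix_small α hcop (commSub A) (hR.to_subgroup _)
      (fun x hx => apply_mem_commSub hαA hx)
      (fun x hx => apply_mem_commSub (A.inv_mem hαA) hx) hfix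
  ext x
  have hz : x⁻¹ * α x ∈ commSub A := inv_mul_apply_mem_commSub hαA x
  have h1 : α x = x * (x⁻¹ * α x) := by group
  have h2 := pow_apply_of_fix' α x (x⁻¹ * α x) h1 (hQfix _ hz) (orderOf α)
  rw [pow_orderOf_eq_one] at h2
  have h3 : (x⁻¹ * α x) ^ (orderOf α) = 1 := by
    have : x = x * (x⁻¹ * α x) ^ (orderOf α) := h2
    exact (mul_eq_left.mp this.symm)
  have h4 : x⁻¹ * α x = 1 := by
    have hinj := (hR.powEquiv hcop.symm).injective
    apply hinj
    show (x⁻¹ * α x) ^ (orderOf α) = 1 ^ (orderOf α)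
    rw [h3, one_pow]
  show α x = x
  calc α x = x * (x⁻¹ * α x) := h1
    _ = x := by rw [h4, mul_one]

theorem isPGroup_smallStab [Finite R] {p : ℕ} [hp : Fact p.Prime] (hR : IsPGroup p R)
    (A : Subgroup (MulAut R)) : IsPGroup p ↥((smallStab p (commSub A)).subgroupOf A) := by
  rintro ⟨α, hα⟩
  rw [Subgroup.mem_subgroupOf] at hα
  have hn : orderOf (α : MulAut R) ≠ 0 := (orderOf_pos _).ne'
  obtain ⟨a, m, hm, hnm⟩ := Nat.exists_eq_pow_mul_and_not_dvd hn p hp.out.ne_one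
  refine ⟨a, ?_⟩
  have hδm : ((α : MulAut R) ^ (p ^ a)) ^ m = 1 := by
    rw [← pow_mul, ← hnm]
    exact pow_orderOf_eq_one _
  have hcop : (orderOf ((α : MulAut R) ^ (p ^ a))).Coprime p := by
    have hdvd : orderOf ((α : MulAut R) ^ (p ^ a)) ∣ m := orderOf_dvd_of_pow_eq_one hδm
    have hmp : m.Coprime p := ((Nat.Prime.coprime_iff_not_dvd hp.out).mpr hm).symm
    exact Nat.Coprime.coprime_dvd_left hdvd hmp
  have h1 := eq_one_of_mem_smallStab hR A (A.pow_mem α.2 _)
    ((smallStab p (commSub A)).pow_mem hα _) hcop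
  apply Subtype.ext
  apply Subtype.ext
  exact h1

end Cfsg.Agent.Lib.Helper27
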