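import Mathlib
import Cfsg.Agent.Lib.Helper27.SpFusA

set_option autoImplicit false

/-! Vector computations with symplectic transvections and short root elements. -/

namespace Cfsg.Agent.Lib.Helper27.SpFus

open Matrix Cfsg.Agent.Lib.helper6 Cfsg.Agent.Lib.Helper26 Cfsg.Agent.Lib.Helper16.SPA
open Cfsg.Agent.Lib.helper14.SpBN

universe u
variable {K : Type u} [Field K] {m : ℕ}

theorem form_e_right (x : Fin m ⊕ Fin m → K) (i : Fin m) :
    Cfsg.sympForm m K x (bV (Sum.inl i)) = x (Sum.inr i) := by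
  rw [sympForm_bV_right]
  simp [eps]

theorem form_f_right (x : Fin m ⊕ Fin m → K) (i : Fin m) :
    Cfsg.sympForm m K x (bV (Sum.inr i)) = - x (Sum.inl i) := by
  rw [sympForm_bV_right]
  simp [eps]

theorem form_e_left (i : Fin m) (x : Fin m ⊕ Fin m → K) :
    Cfsg.sympForm m K (bV (Sum.inl i)) x = - x (Sum.inr i) := by
  rw [sympForm_bV_left]
  simp [eps]

theorem form_f_left (i : Fin m) (x : Fin m ⊕ Fin m → K) :
    Cfsg.sympForm m K (bV (Sum.inr i)) x = x (Sum.inl i) := by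
  rw [sympForm_bV_left]
  simp [eps]

theorem bV_inl_inr (i j : Fin m) : (bV (Sum.inl i) : Fin m ⊕ Fin m → K) (Sum.inr j) = 0 := by
  rw [bV_apply, if_neg]
  exact Sum.inr_ne_inl

theorem bV_inr_inl (i j : Fin m) : (bV (Sum.inr i) : Fin m ⊕ Fin m → K) (Sum.inl j) = 0 := by
  rw [bV_apply, if_neg]
  exact Sum.inl_ne_inr

theorem bV_inl_inl (i j : Fin m) :
    (bV (Sum.inl i) : Fin m ⊕ Fin m → K) (Sum.inl j) = if j = i then 1 else 0 := by
  rw [bV_apply]
  by_cases h : j = i
  · rw [if_pos h, if_pos (by rw [h])]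
  · rw [if_neg h, if_neg (fun e => h (Sum.inl.inj e))]

theorem bV_inr_inr (i j : Fin m) :
    (bV (Sum.inr i) : Fin m ⊕ Fin m → K) (Sum.inr j) = if j = i then 1 else 0 := by
  rw [bV_apply]
  by_cases h : j = i
  · rw [if_pos h, if_pos (by rw [h])]
  · rw [if_neg h, if_neg (fun e => h (Sum.inr.inj e))]

/-- vectors in the span of the `e_i` -/
def InL (v : Fin m ⊕ Fin m → K) : Prop := ∀ i, v (Sum.inr i) = 0

theorem inL_e (i : Fin m) : InL (bV (Sum.inl i) : Fin m ⊕ Fin m → K) := fun j => bV_inl_inr i j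

theorem inL_zero : InL (0 : Fin m ⊕ Fin m → K) := fun _ => rfl

theorem InL.add {u v : Fin m ⊕ Fin m → K} (hu : InL u) (hv : InL v) : InL (u + v) := fun i => by
  rw [Pi.add_apply, hu i, hv i, add_zero]

theorem InL.sub {u v : Fin m ⊕ Fin m → K} (hu : InL u) (hv : InL v) : InL (u - v) := fun i => by
  rw [Pi.sub_apply, hu i, hv i, sub_zero]

theorem InL.smul {u : Fin m ⊕ Fin m → K} (hu : InL u) (c : K) : InL (c • u) := fun i => by
  rw [Pi.smul_apply, hu i, smul_zero]

theorem form_inL {u v : Fin m ⊕ Fin m → K} (hu : InL u) (hv : InL v) :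
    Cfsg.sympForm m K u v = 0 := by
  have hu' : ∀ i, u (Sum.inr i) = 0 := hu
  have hv' : ∀ i, v (Sum.inr i) = 0 := hv
  rw [sympForm_eq_sum_eps, Fintype.sum_sum_type]
  simp only [Sum.swap_inl, Sum.swap_inr, hu', hv', mul_zero, zero_mul, Finset.sum_const_zero,
    add_zero]

theorem spT_fix_inL {v w : Fin m ⊕ Fin m → K} (hv : InL v) (hw : InL w) (c : K) :
    (spT m v c).1 *ᵥ w = w := by
  rw [spT_mulVec, form_inL hw hv, mul_zero, zero_smul, add_zero]

theorem sR_fix_inL {u v w : Fin m ⊕ Fin m → K} (hu : InL u) (hv : InL v) (hw : InL w) (c : K) :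
    (sR u v c).1 *ᵥ w = w := by
  unfold sR
  rw [sp_mul_mulVec, sp_mul_mulVec, spT_fix_inL hv hw, spT_fix_inL hu hw,
    spT_fix_inL (hu.add hv) hw]

/-- scaling the two vectors of a short root element by inverse scalars -/
theorem sR_smul_smul {u v : Fin m ⊕ Fin m → K} (huv : Cfsg.sympForm m K u v = 0) {l : K}
    (hl : l ≠ 0) (c : K) : sR (l • u) (l⁻¹ • v) c = sR u v c := by
  have h1 : Cfsg.sympForm m K (l • u) (l⁻¹ • v) = 0 := by
    rw [sympForm_smul_left, sympForm_smul_right, huv, mul_zero, mul_zero]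
  apply sp_ext
  intro x
  rw [sR_mulVec h1, sR_mulVec huv, sympForm_smul_right, sympForm_smul_right, smul_smul, smul_smul]
  have e1 : l * Cfsg.sympForm m K x u * l⁻¹ = Cfsg.sympForm m K x u := by
    rw [mul_comm, ← mul_assoc, inv_mul_cancel₀ hl, one_mul]
  have e2 : l⁻¹ * Cfsg.sympForm m K x v * l = Cfsg.sympForm m K x v := by
    rw [mul_comm, ← mul_assoc, mul_inv_cancel₀ hl, one_mul]
  rw [e1, e2]

theorem sR_mul {u v : Fin m ⊕ Fin m → K} (huv : Cfsg.sympForm m K u v = 0) (c d : K) :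
    sR u v c * sR u v d = sR u v (c + d) := by
  have hvu : Cfsg.sympForm m K v u = 0 := by rw [sympForm_swap, huv, neg_zero]
  apply sp_ext
  intro x
  rw [sp_mul_mulVec, sR_mulVec huv, sR_mulVec huv, sR_mulVec huv]
  simp only [sympForm_add_left, sympForm_smul_left, sympForm_self, huv, hvu, mul_zero, add_zero,
    zero_add]
  module

theorem sR_inv {u v : Fin m ⊕ Fin m → K} (huv : Cfsg.sympForm m K u v = 0) (c : K) :
    (sR u v c)⁻¹ = sR u v (-c) := by
  rw [inv_eq_iff_mul_eq_one, sR_mul huv, add_neg_cancel, sR_zero]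

/-- a commutator identity -/
theorem pair_identity {u v : Fin m ⊕ Fin m → K} (huv : Cfsg.sympForm m K u v = 0) (b : K) :
    spT m (v - b • u) (-1) * spT m v 1 = sR u v b * spT m u (-b ^ 2) := by
  have hvu : Cfsg.sympForm m K v u = 0 := by rw [sympForm_swap, huv, neg_zero]
  apply sp_ext
  intro x
  rw [sp_mul_mulVec, sp_mul_mulVec, spT_mulVec, spT_mulVec, spT_mulVec, sR_mulVec huv]
  simp only [sympForm_add_left, sympForm_smul_left, sympForm_sub_right, sympForm_smul_right,
    sympForm_self, huv, hvu, mul_zero, add_zero, zero_add, sub_zero, mul_one, one_mul]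
  module

end Cfsg.Agent.Lib.Helper27.SpFus
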