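import Mathlib
import Cfsg.Agent.Lib.Helper27.SpFusB

set_option autoImplicit false

/-! Subgroups of the unitriangular subgroup of `Sp_{2m}(K)` closed under fusion: from one
transvection to all root elements. -/

namespace Cfsg.Agent.Lib.Helper27.SpFus

open Matrix Cfsg.Agent.Lib.helper6 Cfsg.Agent.Lib.Helper26 Cfsg.Agent.Lib.Helper16.SPA
open Cfsg.Agent.Lib.helper14.SpBN

universe u
variable {K : Type u} [Field K] [Fintype K] {m : ℕ}

theorem sp_trans' (hm : 0 < m) (v w : Fin m ⊕ Fin m → K) (hv : v ≠ 0) (hw : w ≠ 0) :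
    ∃ g : ↥(Matrix.symplecticGroup (Fin m) K), g.1 *ᵥ v = w := by
  obtain ⟨m', rfl⟩ := Nat.exists_eq_succ_of_ne_zero hm.ne'
  exact Cfsg.Agent.Lib.Helper16.sp_transitive m' v w hv hw

/-- an additive subgroup of a finite field stable under multiplication by squares and containing
a nonzero element is everything -/
theorem mem_of_sq_stable (A : AddSubgroup K) (hsq : ∀ l c : K, c ∈ A → l ^ 2 * c ∈ A)
    {c₀ : K} (hc₀ : c₀ ∈ A) (hne : c₀ ≠ 0) (x : K) : x ∈ A := by
  by_cases h2 : (2 : K) = 0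
  · have hchar : ringChar K = 2 :=
      CharP.ringChar_of_prime_eq_zero Nat.prime_two (by exact_mod_cast h2)
    obtain ⟨r, hr⟩ := FiniteField.isSquare_of_char_two hchar (x / c₀)
    have := hsq r c₀ hc₀
    rw [pow_two, ← hr, div_mul_cancel₀ x hne] at this
    exact this
  · have key : ∀ y : K, y * c₀ ∈ A := by
      intro y
      have e : y * c₀ = ((y + 1) / 2) ^ 2 * c₀ - ((y - 1) / 2) ^ 2 * c₀ := by
        field_simp
        ring
      rw [e]
      exact A.sub_mem (hsq _ _ hc₀) (hsq _ _ hc₀)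
    have := key (x / c₀)
    rwa [div_mul_cancel₀ x hne] at this

theorem mem_Usp_of_fixE (g : ↥(Matrix.symplecticGroup (Fin m) K))
    (h : ∀ l : Fin m, g.1 *ᵥ (bV (Sum.inl l) : Fin m ⊕ Fin m → K) = bV (Sum.inl l)) :
    g ∈ Usp m K := by
  rw [mem_Usp_iff, IsU_iff_cols]
  refine ⟨fun l a => ?_, fun l a hla => ?_, fun l => ?_⟩
  · rw [h l, bV_inl_inr]
  · rw [h l, bV_inl_inl, if_neg (ne_of_gt hla)]
  · rw [h l, bV_inl_inl, if_pos rfl]

theorem spT_mem_Usp {v : Fin m ⊕ Fin m → K} (hv : InL v) (c : K) : spT m v c ∈ Usp m K :=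
  mem_Usp_of_fixE _ (fun l => spT_fix_inL hv (inL_e l) c)

theorem sR_mem_Usp {u v : Fin m ⊕ Fin m → K} (hu : InL u) (hv : InL v) (c : K) :
    sR u v c ∈ Usp m K :=
  mem_Usp_of_fixE _ (fun l => sR_fix_inL hu hv (inL_e l) c)

section closed

variable (T : Subgroup ↥(Matrix.symplecticGroup (Fin m) K))
  (hcl : ∀ x ∈ T, ∀ g : ↥(Matrix.symplecticGroup (Fin m) K),
    g * x * g⁻¹ ∈ Usp m K → g * x * g⁻¹ ∈ T)

include hcl

/-- from one nontrivial transvection to all transvections with centre in the span of the `e_i` -/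
theorem spT_mem_of_one (hm : 0 < m) {v : Fin m ⊕ Fin m → K} {c : K} (hv : v ≠ 0) (hc : c ≠ 0)
    (h : spT m v c ∈ T) : ∀ w : Fin m ⊕ Fin m → K, InL w → ∀ c' : K, spT m w c' ∈ T := by
  set e0 : Fin m ⊕ Fin m → K := bV (Sum.inl ⟨0, hm⟩) with he0
  have he0L : InL e0 := inL_e _
  have he0ne : e0 ≠ 0 := bV_ne_zero _
  -- step a
  have ha : spT m e0 c ∈ T := by
    obtain ⟨g, hg⟩ := sp_trans' hm v e0 hv he0ne
    have h1 := hcl _ h g
    rw [spT_conj, hg] at h1
    exact h1 (spT_mem_Usp he0L c)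
  -- step b
  let A : AddSubgroup K :=
    { carrier := {c' | spT m e0 c' ∈ T}
      zero_mem' := by
        show spT m e0 0 ∈ T
        rw [spT_zero]
        exact T.one_mem
      add_mem' := by
        intro a b ha hb
        show spT m e0 (a + b) ∈ T
        rw [← spT_mul]
        exact T.mul_mem ha hb
      neg_mem' := by
        intro a ha
        show spT m e0 (-a) ∈ T
        rw [← spT_inv]
        exact T.inv_mem ha }
  have hsq : ∀ l c' : K, c' ∈ A → l ^ 2 * c' ∈ A := by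
    intro l c' hc'
    by_cases hl : l = 0
    · rw [hl]
      simp only [ne_eq, OfNat.ofNat_ne_zero, not_false_eq_true, zero_pow, zero_mul]
      exact A.zero_mem
    · have hle : l • e0 ≠ 0 := smul_ne_zero hl he0ne
      obtain ⟨g, hg⟩ := sp_trans' hm e0 (l • e0) he0ne hle
      have h1 := hcl _ hc' g
      rw [spT_conj, hg, spT_smul] at h1
      exact h1 (spT_mem_Usp he0L _)
  have hall : ∀ c' : K, spT m e0 c' ∈ T := fun c' => mem_of_sq_stable A hsq ha hc c'
  intro w hw c'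
  by_cases hw0 : w = 0
  · rw [hw0, spT_zero_left]
    exact T.one_mem
  · obtain ⟨g, hg⟩ := sp_trans' hm e0 w he0ne hw0
    have h1 := hcl _ (hall c') g
    rw [spT_conj, hg] at h1
    exact h1 (spT_mem_Usp hw c')

theorem sR_mem_of_spT (hT : ∀ w : Fin m ⊕ Fin m → K, InL w → ∀ c' : K, spT m w c' ∈ T)
    {u v : Fin m ⊕ Fin m → K} (hu : InL u) (hv : InL v) (c : K) : sR u v c ∈ T := by
  unfold sR
  exact T.mul_mem (T.mul_mem (hT _ (hu.add hv) _) (hT _ hu _)) (hT _ hv _)

end closed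

end Cfsg.Agent.Lib.Helper27.SpFus
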