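import Mathlib
import Cfsg.Agent.Lib.Helper27.SpFusC

set_option autoImplicit false

/-! Subgroups of the unitriangular subgroup of `Sp_{2m}(K)` closed under fusion: a closed subgroup
containing all transvections with centre in the span of the `e_i` is everything. -/

namespace Cfsg.Agent.Lib.Helper27.SpFus

open Matrix Cfsg.Agent.Lib.helper6 Cfsg.Agent.Lib.Helper26 Cfsg.Agent.Lib.Helper16.SPA
open Cfsg.Agent.Lib.helper14.SpBN

universe u
variable {K : Type u} [Field K] [Fintype K] {m : ℕ}

/-- vectors in the span of the `e_i` with `i < k` -/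
def Below (k : Fin m) (a : Fin m ⊕ Fin m → K) : Prop :=
  InL a ∧ ∀ i : Fin m, k ≤ i → a (Sum.inl i) = 0

/-- the element sending `e_k` to `f_k` and fixing the vectors orthogonal to both -/
def gSwap (k : Fin m) : ↥(Matrix.symplecticGroup (Fin m) K) :=
  spT m (bV (Sum.inl k)) (-1) * spT m (bV (Sum.inr k)) (-1)

theorem gSwap_e (k : Fin m) :
    (gSwap (K := K) k).1 *ᵥ (bV (Sum.inl k) : Fin m ⊕ Fin m → K) = bV (Sum.inr k) := by
  unfold gSwap
  rw [sp_mul_mulVec, spT_mulVec, spT_mulVec, form_f_right, bV_inl_inl, if_pos rfl,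
    sympForm_add_left, sympForm_smul_left, form_e_right, form_e_right, bV_inl_inr, bV_inr_inr,
    if_pos rfl]
  module

theorem gSwap_fix (k : Fin m) {a : Fin m ⊕ Fin m → K} (h1 : a (Sum.inl k) = 0)
    (h2 : a (Sum.inr k) = 0) : (gSwap (K := K) k).1 *ᵥ a = a := by
  unfold gSwap
  have h3 : (spT m (bV (Sum.inr k) : Fin m ⊕ Fin m → K) (-1)).1 *ᵥ a = a := by
    rw [spT_mulVec, form_f_right, h1, neg_zero, mul_zero, zero_smul, add_zero]
  rw [sp_mul_mulVec, h3, spT_mulVec, form_e_right, h2, mul_zero, zero_smul, add_zero]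

theorem form_below_f {k : Fin m} {a : Fin m ⊕ Fin m → K} (ha : Below k a) :
    Cfsg.sympForm m K a (bV (Sum.inr k)) = 0 := by
  rw [form_f_right, ha.2 k le_rfl, neg_zero]

theorem sR_below_e {k : Fin m} {a : Fin m ⊕ Fin m → K} (ha : Below k a) (c : K) (l : Fin m) :
    (sR a (bV (Sum.inr k)) c).1 *ᵥ (bV (Sum.inl l) : Fin m ⊕ Fin m → K) =
      bV (Sum.inl l) - (if k = l then c else 0) • a := by
  rw [sR_mulVec (form_below_f ha), form_e_left, ha.1 l, neg_zero, zero_smul, zero_add, form_f_right,
    bV_inl_inl]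
  by_cases h : k = l
  · rw [if_pos h, if_pos h]
    module
  · rw [if_neg h, if_neg h]
    module

theorem sR_below_mem_Usp {k : Fin m} {a : Fin m ⊕ Fin m → K} (ha : Below k a) (c : K) :
    sR a (bV (Sum.inr k)) c ∈ Usp m K := by
  rw [mem_Usp_iff, IsU_iff_cols]
  refine ⟨fun l b => ?_, fun l b hlb => ?_, fun l => ?_⟩
  · rw [sR_below_e ha, Pi.sub_apply, Pi.smul_apply, bV_inl_inr, ha.1 b, smul_zero, sub_zero]
  · rw [sR_below_e ha, Pi.sub_apply, Pi.smul_apply, bV_inl_inl, if_neg (ne_of_gt hlb)]
    by_cases h : k = l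
    · rw [if_pos h, ha.2 b (by rw [h]; exact le_of_lt hlb), smul_zero, sub_zero]
    · rw [if_neg h, zero_smul, sub_zero]
  · rw [sR_below_e ha, Pi.sub_apply, Pi.smul_apply, bV_inl_inl, if_pos rfl]
    by_cases h : k = l
    · rw [if_pos h, ha.2 l (by rw [h]), smul_zero, sub_zero]
    · rw [if_neg h, zero_smul, sub_zero]

section closed

variable (T : Subgroup ↥(Matrix.symplecticGroup (Fin m) K))
  (hcl : ∀ x ∈ T, ∀ g : ↥(Matrix.symplecticGroup (Fin m) K),
    g * x * g⁻¹ ∈ Usp m K → g * x * g⁻¹ ∈ T)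
  (hT : ∀ w : Fin m ⊕ Fin m → K, InL w → ∀ c' : K, spT m w c' ∈ T)

include hcl hT

theorem sR_below_mem {k : Fin m} {a : Fin m ⊕ Fin m → K} (ha : Below k a) (c : K) :
    sR a (bV (Sum.inr k)) c ∈ T := by
  have h0 : sR a (bV (Sum.inl k)) c ∈ T := sR_mem_of_spT T hcl hT ha.1 (inL_e k) c
  have h1 := hcl _ h0 (gSwap k)
  rw [sR_conj, gSwap_e, gSwap_fix k (ha.2 k le_rfl) (ha.1 k)] at h1
  exact h1 (sR_below_mem_Usp ha c)

/-- elements fixing all `e_l` and the `f_l` with `l ≥ j` -/
theorem mem_of_fix_aux (j : ℕ) : ∀ g : ↥(Matrix.symplecticGroup (Fin m) K),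
    (∀ l : Fin m, g.1 *ᵥ (bV (Sum.inl l) : Fin m ⊕ Fin m → K) = bV (Sum.inl l)) →
    (∀ l : Fin m, j ≤ l.val → g.1 *ᵥ (bV (Sum.inr l) : Fin m ⊕ Fin m → K) = bV (Sum.inr l)) →
    g ∈ T := by
  induction j with
  | zero =>
    intro g he hf
    have : g = 1 := by
      apply sp_ext_basis
      rintro (l | l)
      · rw [he l, sp_one_mulVec]
      · rw [hf l (Nat.zero_le _), sp_one_mulVec]
    rw [this]
    exact T.one_mem
  | succ j ih =>
    intro g he hf
    by_cases hjm : j < m
    · set k : Fin m := ⟨j, hjm⟩ with hk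
      set s : Fin m ⊕ Fin m → K := g.1 *ᵥ bV (Sum.inr k) - bV (Sum.inr k) with hs
      have hsL : InL s := by
        intro i
        rw [hs, Pi.sub_apply, ← form_e_right (g.1 *ᵥ bV (Sum.inr k)) i]
        nth_rewrite 1 [← he i]
        rw [sp_form, form_e_right, sub_self]
      have hs2 : ∀ i : Fin m, k < i → s (Sum.inl i) = 0 := by
        intro i hi
        have h1 : g.1 *ᵥ (bV (Sum.inr i) : Fin m ⊕ Fin m → K) = bV (Sum.inr i) := by
          apply hf
          have : k.val < i.val := hi
          rw [hk] at this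
          exact this
        have h2 := sp_form g (bV (Sum.inr k) : Fin m ⊕ Fin m → K) (bV (Sum.inr i))
        rw [h1, form_f_right, form_f_right, bV_inr_inl, neg_zero, neg_eq_zero] at h2
        rw [hs, Pi.sub_apply, h2, bV_inr_inl, sub_zero]
      set σ : K := s (Sum.inl k) with hσ
      set s' : Fin m ⊕ Fin m → K := s - σ • bV (Sum.inl k) with hs'
      have hs'B : Below k s' := by
        refine ⟨hsL.sub ((inL_e k).smul σ), fun i hki => ?_⟩
        rw [hs', Pi.sub_apply, Pi.smul_apply, bV_inl_inl]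
        rcases eq_or_lt_of_le hki with h | h
        · rw [← h, if_pos rfl, smul_eq_mul, mul_one, hσ, sub_self]
        · rw [if_neg (ne_of_gt h), smul_zero, sub_zero, hs2 i h]
      set h : ↥(Matrix.symplecticGroup (Fin m) K) :=
        sR s' (bV (Sum.inl k)) 1 * spT m (bV (Sum.inl k)) σ with hh
      have hhT : h ∈ T := T.mul_mem (sR_mem_of_spT T hcl hT hs'B.1 (inL_e k) 1) (hT _ (inL_e k) σ)
      have horth : Cfsg.sympForm m K s' (bV (Sum.inl k)) = 0 := form_inL hs'B.1 (inL_e k)
      have hhe : ∀ l : Fin m, h.1 *ᵥ (bV (Sum.inl l) : Fin m ⊕ Fin m → K) = bV (Sum.inl l) := by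
        intro l
        rw [hh, sp_mul_mulVec, spT_fix_inL (inL_e k) (inL_e l), sR_fix_inL hs'B.1 (inL_e k) (inL_e l)]
      have hhf : ∀ l : Fin m, k ≤ l → h.1 *ᵥ (bV (Sum.inr l) : Fin m ⊕ Fin m → K) =
          bV (Sum.inr l) + (if l = k then 1 else 0) • s := by
        intro l hkl
        rw [hh, sp_mul_mulVec, spT_mulVec, form_e_right, bV_inr_inr, Matrix.mulVec_add,
          Matrix.mulVec_smul, sR_fix_inL hs'B.1 (inL_e k) (inL_e k), sR_mulVec horth, form_f_left,
          hs'B.2 l hkl, zero_smul, zero_add, form_e_right, bV_inr_inr]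
        by_cases hlk : l = k
        · rw [if_pos hlk, if_pos hlk.symm, hs']
          module
        · rw [if_neg hlk, if_neg (fun e => hlk e.symm)]
          module
      have hg' : h⁻¹ * g ∈ T := by
        apply ih
        · intro l
          rw [sp_mul_mulVec, he l]
          nth_rewrite 1 [← hhe l]
          rw [sp_inv_mulVec]
        · intro l hjl
          have hkl : k ≤ l := hjl
          by_cases hlk : l = k
          · have e1 : g.1 *ᵥ (bV (Sum.inr l) : Fin m ⊕ Fin m → K) =
                h.1 *ᵥ (bV (Sum.inr l) : Fin m ⊕ Fin m → K) := by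
              rw [hhf l hkl, if_pos hlk, one_smul, hs, hlk]
              module
            rw [sp_mul_mulVec, e1, sp_inv_mulVec]
          · have hl' : j + 1 ≤ l.val := by
              have h1 : j ≤ l.val := hjl
              have h2 : l.val ≠ j := fun e => hlk (Fin.ext e)
              omega
            rw [sp_mul_mulVec, hf l hl']
            have e1 : h.1 *ᵥ (bV (Sum.inr l) : Fin m ⊕ Fin m → K) = bV (Sum.inr l) := by
              rw [hhf l hkl, if_neg hlk, zero_smul, add_zero]
            nth_rewrite 1 [← e1]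
            rw [sp_inv_mulVec]
      have : g = h * (h⁻¹ * g) := by group
      rw [this]
      exact T.mul_mem hhT hg'
    · apply ih g he
      intro l hl
      exfalso
      have := l.2
      omega

/-- elements of the unitriangular subgroup fixing the `e_l` with `l ≥ j` -/
theorem mem_of_mem_Usp_aux (j : ℕ) : ∀ g : ↥(Matrix.symplecticGroup (Fin m) K), g ∈ Usp m K →
    (∀ l : Fin m, j ≤ l.val → g.1 *ᵥ (bV (Sum.inl l) : Fin m ⊕ Fin m → K) = bV (Sum.inl l)) →
    g ∈ T := by
  induction j with
  | zero =>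
    intro g _ he
    exact mem_of_fix_aux T hcl hT m g (fun l => he l (Nat.zero_le _))
      (fun l hl => absurd l.2 (by omega))
  | succ j ih =>
    intro g hgU he
    by_cases hjm : j < m
    · set k : Fin m := ⟨j, hjm⟩ with hk
      obtain ⟨hc1, hc2, hc3⟩ := (IsU_iff_cols g.1).mp ((mem_Usp_iff g).mp hgU)
      set a : Fin m ⊕ Fin m → K := g.1 *ᵥ bV (Sum.inl k) - bV (Sum.inl k) with ha
      have haB : Below k a := by
        refine ⟨fun i => ?_, fun i hki => ?_⟩
        · rw [ha, Pi.sub_apply, hc1 k i, bV_inl_inr, sub_zero]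
        · rw [ha, Pi.sub_apply, bV_inl_inl]
          rcases eq_or_lt_of_le hki with h | h
          · rw [← h, if_pos rfl, hc3 k, sub_self]
          · rw [if_neg (ne_of_gt h), hc2 k i h, sub_zero]
      set h : ↥(Matrix.symplecticGroup (Fin m) K) := sR a (bV (Sum.inr k)) (-1) with hh
      have hhT : h ∈ T := sR_below_mem T hcl hT haB (-1)
      have hhU : h ∈ Usp m K := sR_below_mem_Usp haB (-1)
      have hg' : h⁻¹ * g ∈ T := by
        apply ih _ ((Usp m K).mul_mem ((Usp m K).inv_mem hhU) hgU)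
        intro l hjl
        have hkl : k ≤ l := hjl
        by_cases hlk : k = l
        · have e1 : g.1 *ᵥ (bV (Sum.inl l) : Fin m ⊕ Fin m → K) =
              h.1 *ᵥ (bV (Sum.inl l) : Fin m ⊕ Fin m → K) := by
            rw [hh, sR_below_e haB, if_pos hlk, ha, ← hlk]
            module
          rw [sp_mul_mulVec, e1, sp_inv_mulVec]
        · have hl' : j + 1 ≤ l.val := by
            have h1 : j ≤ l.val := hjl
            have h2 : l.val ≠ j := fun e => hlk (Fin.ext e.symm)
            omega
          rw [sp_mul_mulVec, he l hl']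
          have e1 : h.1 *ᵥ (bV (Sum.inl l) : Fin m ⊕ Fin m → K) = bV (Sum.inl l) := by
            rw [hh, sR_below_e haB, if_neg hlk, zero_smul, sub_zero]
          nth_rewrite 1 [← e1]
          rw [sp_inv_mulVec]
      have : g = h * (h⁻¹ * g) := by group
      rw [this]
      exact T.mul_mem hhT hg'
    · apply ih g hgU
      intro l hl
      exfalso
      have := l.2
      omega

/-- a closed subgroup containing the transvections with centre in the span of the `e_i` contains
the unitriangular subgroup -/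
theorem Usp_le_of_spT : Usp m K ≤ T := fun g hg =>
  mem_of_mem_Usp_aux T hcl hT m g hg (fun l hl => absurd l.2 (by omega))

end closed

end Cfsg.Agent.Lib.Helper27.SpFus
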