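import Mathlib
import Cfsg.Agent.Lib.Helper27.SpFusD
import Cfsg.Agent.Lib.Helper1.Nilp

set_option autoImplicit false

/-! Subgroups of the unitriangular subgroup of `Sp_{2m}(K)` closed under fusion: a nontrivial
closed subgroup contains a nontrivial transvection. -/

namespace Cfsg.Agent.Lib.Helper27.SpFus

open Matrix Cfsg.Agent.Lib.helper6 Cfsg.Agent.Lib.Helper26 Cfsg.Agent.Lib.Helper16.SPA
open Cfsg.Agent.Lib.helper14.SpBN

universe u
variable {K : Type u} [Field K] [Fintype K] {m : ℕ}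

omit [Fintype K] in
theorem sR_inL_f_e {k : Fin m} {a : Fin m ⊕ Fin m → K} (haL : InL a) (hak : a (Sum.inl k) = 0)
    (c : K) (l : Fin m) :
    (sR a (bV (Sum.inr k)) c).1 *ᵥ (bV (Sum.inl l) : Fin m ⊕ Fin m → K) =
      bV (Sum.inl l) - (if k = l then c else 0) • a := by
  have horth : Cfsg.sympForm m K a (bV (Sum.inr k)) = 0 := by
    rw [form_f_right, hak, neg_zero]
  rw [sR_mulVec horth, form_e_left, haL l, neg_zero, zero_smul, zero_add, form_f_right,
    bV_inl_inl]
  by_cases h : k = l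
  · rw [if_pos h, if_pos h]
    module
  · rw [if_neg h, if_neg h]
    module

/-- the diagonal element with prescribed eigenvalues on the `e_i` -/
def torD (d : Fin m → K) (hd : ∀ i, d i ≠ 0) : ↥(Matrix.symplecticGroup (Fin m) K) :=
  ⟨colMat (fun y => (Sum.elim d (fun i => (d i)⁻¹) y : K) • bV y), by
    apply colMat_mem
    intro k l
    rw [sympForm_smul_left, sympForm_smul_right, sympForm_bV_bV]
    by_cases h : k = l.swap
    · rw [if_pos h, h]
      rcases l with i | i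
      · simp only [Sum.swap_inl, Sum.elim_inr, Sum.elim_inl]
        rw [← mul_assoc, inv_mul_cancel₀ (hd i), one_mul]
      · simp only [Sum.swap_inr, Sum.elim_inr, Sum.elim_inl]
        rw [← mul_assoc, mul_inv_cancel₀ (hd i), one_mul]
    · rw [if_neg h, mul_zero, mul_zero]⟩

omit [Fintype K] in
theorem torD_e (d : Fin m → K) (hd : ∀ i, d i ≠ 0) (i : Fin m) :
    (torD d hd).1 *ᵥ (bV (Sum.inl i) : Fin m ⊕ Fin m → K) = d i • bV (Sum.inl i) :=
  colMat_bV _ _

omit [Fintype K] in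
/-- the action of the product of a transvection and a short root element -/
theorem zel_mulVec {u0 u1 : Fin m ⊕ Fin m → K} (h01 : Cfsg.sympForm m K u0 u1 = 0) (a b : K)
    (x : Fin m ⊕ Fin m → K) :
    (spT m u0 a * sR u0 u1 b).1 *ᵥ x = x + (a * Cfsg.sympForm m K x u0) • u0 +
      b • (Cfsg.sympForm m K x u0 • u1 + Cfsg.sympForm m K x u1 • u0) := by
  have h10 : Cfsg.sympForm m K u1 u0 = 0 := by rw [sympForm_swap, h01, neg_zero]
  rw [sp_mul_mulVec, sR_mulVec h01, spT_mulVec]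
  simp only [sympForm_add_left, sympForm_smul_left, sympForm_self, h10, mul_zero, add_zero]
  module

omit [Fintype K] in
/-- the relation among the seven transvections of a totally isotropic `3`-space over the field
with two elements -/
theorem seven_identity (h2 : (2 : K) = 0) {u0 u1 u2 : Fin m ⊕ Fin m → K}
    (h01 : Cfsg.sympForm m K u0 u1 = 0) (h02 : Cfsg.sympForm m K u0 u2 = 0)
    (h12 : Cfsg.sympForm m K u1 u2 = 0) :
    (spT m u0 1 * sR u0 u1 1) * (spT m u0 1 * sR u0 (u1 + u2) 1) * (spT m u0 1 * sR u0 u2 1) =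
      spT m u0 1 := by
  have h012 : Cfsg.sympForm m K u0 (u1 + u2) = 0 := by rw [sympForm_add_right, h01, h02, add_zero]
  have h10 : Cfsg.sympForm m K u1 u0 = 0 := by rw [sympForm_swap, h01, neg_zero]
  have h20 : Cfsg.sympForm m K u2 u0 = 0 := by rw [sympForm_swap, h02, neg_zero]
  have h21 : Cfsg.sympForm m K u2 u1 = 0 := by rw [sympForm_swap, h12, neg_zero]
  apply sp_ext
  intro x
  rw [sp_mul_mulVec, sp_mul_mulVec, zel_mulVec h02, zel_mulVec h012, zel_mulVec h01, spT_mulVec]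
  simp only [sympForm_add_left, sympForm_add_right, sympForm_smul_left, sympForm_self, h01, h02,
    h10, h20, h12, h21, mul_zero, add_zero, zero_add, one_mul]
  set A0 := Cfsg.sympForm m K x u0
  set A1 := Cfsg.sympForm m K x u1
  set A2 := Cfsg.sympForm m K x u2
  have e : ∀ w : Fin m ⊕ Fin m → K, (2 : K) • w = 0 := fun w => by rw [h2, zero_smul]
  have key : x + A0 • u0 + (1 : K) • (A0 • u2 + A2 • u0) + A0 • u0 +
      (1 : K) • (A0 • (u1 + u2) + (A1 + A2) • u0) + A0 • u0 + (1 : K) • (A0 • u1 + A1 • u0) =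
      x + A0 • u0 + (2 : K) • (A0 • u0 + A0 • u1 + A0 • u2 + A1 • u0 + A2 • u0) := by
    module
  rw [key, e, add_zero]

omit [Fintype K] in
theorem zel_conj (g : ↥(Matrix.symplecticGroup (Fin m) K)) (u0 u1 : Fin m ⊕ Fin m → K) (a b : K) :
    g * (spT m u0 a * sR u0 u1 b) * g⁻¹ =
      spT m (g.1 *ᵥ u0) a * sR (g.1 *ᵥ u0) (g.1 *ᵥ u1) b := by
  rw [← spT_conj, ← sR_conj]
  group

omit [Fintype K] in
theorem bV_inl_ne {i j : Fin m} (h : j ≠ i) :
    (bV (Sum.inl i) : Fin m ⊕ Fin m → K) (Sum.inl j) = 0 := by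
  rw [bV_inl_inl, if_neg h]

/-- a nontrivial closed subgroup of the unitriangular subgroup contains a nontrivial
transvection -/
theorem exists_spT_mem (hm : 2 ≤ m) (hex : m = 2 → 3 ≤ Fintype.card K) (p : ℕ) [Fact p.Prime]
    [CharP K p] (T : Subgroup ↥(Matrix.symplecticGroup (Fin m) K)) (hTU : T ≤ Usp m K)
    (hT1 : T ≠ ⊥)
    (hcl : ∀ x ∈ T, ∀ g : ↥(Matrix.symplecticGroup (Fin m) K),
      g * x * g⁻¹ ∈ Usp m K → g * x * g⁻¹ ∈ T) :
    ∃ (v : Fin m ⊕ Fin m → K) (c : K), v ≠ 0 ∧ c ≠ 0 ∧ spT m v c ∈ T := by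
  classical
  have hm0 : 0 < m := by omega
  set P := uSylow (K := K) hm0 p with hP
  have hPU : (P : Subgroup ↥(Matrix.symplecticGroup (Fin m) K)) = Usp m K := by
    rw [hP, coe_uSylow, Usp_eq_Uup hm0 p]
  have hpg : IsPGroup p ↥(Usp m K) := Usp_isPGroup p
  have hnil : Group.IsNilpotent ↥(Usp m K) := hpg.isNilpotent
  have hnorm : (T.subgroupOf (Usp m K)).Normal := by
    refine ⟨fun x hx s => ?_⟩
    rw [Subgroup.mem_subgroupOf] at hx ⊢
    exact hcl x hx s (Subgroup.mul_mem _ (Subgroup.mul_mem _ s.2 x.2) (Subgroup.inv_mem _ s.2))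
  have hne : T.subgroupOf (Usp m K) ≠ ⊥ := by
    intro h
    apply hT1
    rw [Subgroup.eq_bot_iff_forall]
    intro x hx
    have : (⟨x, hTU hx⟩ : ↥(Usp m K)) ∈ T.subgroupOf (Usp m K) := Subgroup.mem_subgroupOf.mpr hx
    rw [h, Subgroup.mem_bot] at this
    exact congrArg Subtype.val this
  have hcen := Cfsg.Agent.Lib.Helper1.normal_inf_center_ne_bot (T.subgroupOf (Usp m K)) hne
  obtain ⟨⟨z, hzmem⟩, hz1⟩ := (Subgroup.ne_bot_iff_exists_ne_one).mp hcen
  have hzT : (z : ↥(Matrix.symplecticGroup (Fin m) K)) ∈ T := Subgroup.mem_subgroupOf.mp hzmem.1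
  have hzc : z ∈ Subgroup.center ↥(Usp m K) := hzmem.2
  have hz1' : (z : ↥(Matrix.symplecticGroup (Fin m) K)) ≠ 1 := by
    intro h
    apply hz1
    apply Subtype.ext
    apply Subtype.ext
    exact h
  have hzZ : (z : ↥(Matrix.symplecticGroup (Fin m) K)) ∈
      Cfsg.Agent.Lib.Helper16.AP.Zs (P : Subgroup ↥(Matrix.symplecticGroup (Fin m) K)) := by
    rw [Cfsg.Agent.Lib.Helper16.AP.mem_Zs_iff, hPU]
    refine ⟨z.2, fun h hh => ?_⟩
    have := Subgroup.mem_center_iff.mp hzc ⟨h, hh⟩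
    exact congrArg Subtype.val this
  obtain ⟨a, b, h2b, hz⟩ := Zs_sylow_form p hm P (by rw [hPU]) _ hzZ
  set i0 : Fin m := ⟨0, by omega⟩ with hi0
  set i1 : Fin m := ⟨1, by omega⟩ with hi1
  have h01i : i0 ≠ i1 := by
    intro h
    have := congrArg Fin.val h
    simp [hi0, hi1] at this
  set e0 : Fin m ⊕ Fin m → K := bV (Sum.inl i0) with he0
  set e1 : Fin m ⊕ Fin m → K := bV (Sum.inl i1) with he1
  have he0L : InL e0 := inL_e i0
  have he1L : InL e1 := inL_e i1
  have h01 : Cfsg.sympForm m K e0 e1 = 0 := form_inL he0L he1L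
  have he0ne : e0 ≠ 0 := bV_ne_zero _
  rw [hz] at hzT hz1'
  by_cases hb : b = 0
  · rw [hb, sR_zero, mul_one] at hzT hz1'
    refine ⟨e0, a, he0ne, ?_, hzT⟩
    intro ha
    apply hz1'
    rw [ha, spT_zero]
  have h2 : (2 : K) = 0 := by
    rcases mul_eq_zero.mp h2b with h | h
    · exact h
    · exact absurd h hb
  by_cases ha : a = 0
  · -- the central element is a short root element
    rw [ha, spT_zero, one_mul] at hzT
    set z' : ↥(Matrix.symplecticGroup (Fin m) K) := sR e0 (bV (Sum.inr i1)) b with hz'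
    have hz'U : z' ∈ Usp m K := sR_e_f_mem_Usp i0 i1 (by rw [Fin.lt_def]; simp [hi0, hi1]) b
    have hz'T : z' ∈ T := by
      have h1 := hcl _ hzT (gSwap i1)
      rw [sR_conj, gSwap_e, gSwap_fix i1 (bV_inl_ne h01i.symm) (bV_inl_inr i0 i1)] at h1
      exact h1 hz'U
    set t : ↥(Matrix.symplecticGroup (Fin m) K) := spT m e1 (-1) with ht
    have htU : t ∈ Usp m K := spT_mem_Usp he1L _
    have hconj : t * z'⁻¹ * t⁻¹ ∈ T :=
      hcl _ (T.inv_mem hz'T) t ((Usp m K).mul_mem ((Usp m K).mul_mem htU ((Usp m K).inv_mem hz'U))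
        ((Usp m K).inv_mem htU))
    have hcomm : z' * (t * z'⁻¹ * t⁻¹) ∈ T := T.mul_mem hz'T hconj
    have e : z' * (t * z'⁻¹ * t⁻¹) = (z' * t * z'⁻¹) * t⁻¹ := by group
    have e2 : z'.1 *ᵥ e1 = e1 - b • e0 := by
      rw [hz', he1, sR_inL_f_e he0L (bV_inl_ne h01i.symm) b i1, if_pos rfl]
    rw [e, ht, spT_conj, e2, spT_inv, neg_neg, pair_identity h01 b] at hcomm
    have h3 : spT m e0 (-b ^ 2) = (sR e0 e1 b)⁻¹ * (sR e0 e1 b * spT m e0 (-b ^ 2)) := by group
    refine ⟨e0, -b ^ 2, he0ne, neg_ne_zero.mpr (pow_ne_zero 2 hb), ?_⟩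
    rw [h3]
    exact T.mul_mem (T.inv_mem hzT) hcomm
  by_cases hl : ∃ l : K, l ≠ 0 ∧ l ^ 2 ≠ 1
  · -- scaling by a diagonal element
    obtain ⟨l, hl0, hl1⟩ := hl
    set d : Fin m → K := fun i => if i = i0 then l else if i = i1 then l⁻¹ else 1 with hd
    have hd0 : ∀ i, d i ≠ 0 := by
      intro i
      rw [hd]
      show (if i = i0 then l else if i = i1 then l⁻¹ else 1) ≠ 0
      split_ifs
      · exact hl0
      · exact inv_ne_zero hl0
      · exact one_ne_zero
    set h := torD d hd0 with hh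
    have hhe0 : h.1 *ᵥ e0 = l • e0 := by
      rw [hh, he0, torD_e, hd]
      show (if i0 = i0 then l else if i0 = i1 then l⁻¹ else 1) • _ = _
      rw [if_pos rfl]
    have hhe1 : h.1 *ᵥ e1 = l⁻¹ • e1 := by
      rw [hh, he1, torD_e, hd]
      show (if i1 = i0 then l else if i1 = i1 then l⁻¹ else 1) • _ = _
      rw [if_neg h01i.symm, if_pos rfl]
    have h1 := hcl _ hzT h
    rw [zel_conj, hhe0, hhe1, spT_smul, sR_smul_smul h01 hl0] at h1
    have h2' : spT m e0 (l ^ 2 * a) * sR e0 e1 b ∈ T :=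
      h1 ((Usp m K).mul_mem (spT_mem_Usp he0L _) (sR_mem_Usp he0L he1L _))
    have h3 : spT m e0 (l ^ 2 * a + -a) =
        (spT m e0 (l ^ 2 * a) * sR e0 e1 b) * (spT m e0 a * sR e0 e1 b)⁻¹ := by
      rw [← spT_mul, ← spT_inv]
      group
    refine ⟨e0, l ^ 2 * a + -a, he0ne, ?_, ?_⟩
    · intro h0
      have : (l ^ 2 - 1) * a = 0 := by linear_combination h0
      rcases mul_eq_zero.mp this with h | h
      · exact hl1 (sub_eq_zero.mp h)
      · exact ha h
    · rw [h3]
      exact T.mul_mem h2' (T.inv_mem hzT)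
  · -- the field with two elements
    push Not at hl
    have hone : ∀ x : K, x ≠ 0 → x = 1 := by
      intro x hx
      have h1 := hl x hx
      have h3 : (x - 1) ^ 2 = 0 := by linear_combination h1 + (1 - x) * h2
      exact sub_eq_zero.mp ((pow_eq_zero_iff (two_ne_zero)).mp h3)
    have hcard : Fintype.card K ≤ 2 := by
      have hsub : (Finset.univ : Finset K) ⊆ {0, 1} := by
        intro x _
        by_cases hx : x = 0
        · rw [hx]; simp
        · rw [hone x hx]; simp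
      calc Fintype.card K = (Finset.univ : Finset K).card := Finset.card_univ.symm
        _ ≤ ({0, 1} : Finset K).card := Finset.card_le_card hsub
        _ ≤ 2 := Finset.card_le_two
    have hm3 : 3 ≤ m := by
      rcases Nat.lt_or_ge 2 m with h | h
      · exact h
      · have hm2 : m = 2 := le_antisymm h hm
        have := hex hm2
        omega
    rw [hone a ha, hone b hb] at hzT
    set i2 : Fin m := ⟨2, by omega⟩ with hi2
    have h02i : i0 ≠ i2 := by
      intro h
      have := congrArg Fin.val h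
      simp [hi0, hi2] at this
    have h12i : i1 ≠ i2 := by
      intro h
      have := congrArg Fin.val h
      simp [hi1, hi2] at this
    set e2 : Fin m ⊕ Fin m → K := bV (Sum.inl i2) with he2
    have he2L : InL e2 := inL_e i2
    have h02 : Cfsg.sympForm m K e0 e2 = 0 := form_inL he0L he2L
    have h12 : Cfsg.sympForm m K e1 e2 = 0 := form_inL he1L he2L
    -- the first conjugate
    set g3 : ↥(Matrix.symplecticGroup (Fin m) K) := sR e2 (bV (Sum.inr i1)) (-1) with hg3
    have hg3e0 : g3.1 *ᵥ e0 = e0 := by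
      rw [hg3, he0, sR_inL_f_e he2L (bV_inl_ne h12i) (-1) i0, if_neg h01i.symm, zero_smul, sub_zero]
    have hg3e1 : g3.1 *ᵥ e1 = e1 + e2 := by
      rw [hg3, he1, sR_inL_f_e he2L (bV_inl_ne h12i) (-1) i1, if_pos rfl]
      module
    have hz3 : spT m e0 1 * sR e0 (e1 + e2) 1 ∈ T := by
      have h1 := hcl _ hzT g3
      rw [zel_conj, hg3e0, hg3e1] at h1
      exact h1 ((Usp m K).mul_mem (spT_mem_Usp he0L _) (sR_mem_Usp he0L (he1L.add he2L) _))
    -- the second conjugate
    set g2 : ↥(Matrix.symplecticGroup (Fin m) K) := sR e1 (bV (Sum.inr i2)) 1 with hg2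
    have hg2e0 : g2.1 *ᵥ e0 = e0 := by
      rw [hg2, he0, sR_inL_f_e he1L (bV_inl_ne h12i.symm) 1 i0, if_neg h02i.symm, zero_smul,
        sub_zero]
    have hg2e12 : g2.1 *ᵥ (e1 + e2) = e2 := by
      rw [Matrix.mulVec_add, hg2, he1, he2, sR_inL_f_e he1L (bV_inl_ne h12i.symm) 1 i1,
        sR_inL_f_e he1L (bV_inl_ne h12i.symm) 1 i2, if_neg h12i.symm, if_pos rfl]
      module
    have hz2 : spT m e0 1 * sR e0 e2 1 ∈ T := by
      have h1 := hcl _ hz3 g2
      rw [zel_conj, hg2e0, hg2e12] at h1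
      exact h1 ((Usp m K).mul_mem (spT_mem_Usp he0L _) (sR_mem_Usp he0L he2L _))
    refine ⟨e0, 1, he0ne, one_ne_zero, ?_⟩
    rw [← seven_identity h2 h01 h02 h12]
    exact T.mul_mem (T.mul_mem hzT hz3) hz2

/-- the only nontrivial subgroup of the unitriangular subgroup of `Sp_{2m}(K)` closed under fusion
is the whole subgroup -/
theorem eq_Usp_of_closed (hm : 2 ≤ m) (hex : m = 2 → 3 ≤ Fintype.card K) (p : ℕ) [Fact p.Prime]
    [CharP K p] (T : Subgroup ↥(Matrix.symplecticGroup (Fin m) K)) (hTU : T ≤ Usp m K)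
    (hT1 : T ≠ ⊥)
    (hcl : ∀ x ∈ T, ∀ g : ↥(Matrix.symplecticGroup (Fin m) K),
      g * x * g⁻¹ ∈ Usp m K → g * x * g⁻¹ ∈ T) : T = Usp m K := by
  obtain ⟨v, c, hv, hc, hmem⟩ := exists_spT_mem hm hex p T hTU hT1 hcl
  have hT := spT_mem_of_one T hcl (by omega) hv hc hmem
  exact le_antisymm hTU (Usp_le_of_spT T hcl hT)

end Cfsg.Agent.Lib.Helper27.SpFus
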