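import Mathlib
import Cfsg.Agent.Lib.Helper27.SpFusA

set_option autoImplicit false

/-! The unipotent radicals of the minimal parabolic subgroups of `Sp_{2m}(K)`. -/

namespace Cfsg.Agent.Lib.Helper27.SpFus

open Matrix Cfsg.Agent.Lib.helper6 Cfsg.Agent.Lib.Helper26 Cfsg.Agent.Lib.Helper16.SPA
open Cfsg.Agent.Lib.helper14.SpBN

universe u
variable {K : Type u} [Field K] {m : ℕ}

/-- product entry at a simple pair -/
theorem up_mul_apply_ac {M N : Matrix (Fin m ⊕ Fin m) (Fin m ⊕ Fin m) K}
    (hM : M.BlockTriangular rk) (hN : N.BlockTriangular rk) (k : Fin m) :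
    (M * N) (pa k) (pc k) =
      M (pa k) (pa k) * N (pa k) (pc k) + M (pa k) (pc k) * N (pc k) (pc k) := by
  rw [Matrix.mul_apply, Fintype.sum_eq_add (pa k) (pc k) (pa_ne_pc k)]
  rintro z ⟨hz1, hz2⟩
  have h1 : rk z ≠ k.val := fun e => hz1 (eq_pa_of_rk e)
  have h2 : rk z ≠ k.val + 1 := fun e => hz2 (eq_pc_of_rk e)
  rcases Nat.lt_or_ge (rk z) k.val with h | h
  · have : M (pa k) z = 0 := hM (by rw [rk_pa]; exact h)
    rw [this, zero_mul]
  · have : N z (pc k) = 0 := hN (by rw [rk_pc]; omega)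
    rw [this, mul_zero]

theorem entry_mul {g h : ↥(Matrix.symplecticGroup (Fin m) K)} (hg : g ∈ Uup m K)
    (hh : h ∈ Uup m K) (k : Fin m) :
    (g * h).1 (pa k) (pc k) = g.1 (pa k) (pc k) + h.1 (pa k) (pc k) := by
  rw [coe_mul', up_mul_apply_ac hg.1 hh.1, hg.2, hh.2, one_mul, mul_one, add_comm]

theorem entry_inv {g : ↥(Matrix.symplecticGroup (Fin m) K)} (hg : g ∈ Uup m K) (k : Fin m) :
    (g⁻¹).1 (pa k) (pc k) = - g.1 (pa k) (pc k) := by
  have h1 := entry_mul hg ((Uup m K).inv_mem hg) k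
  rw [mul_inv_cancel, coe_one', Matrix.one_apply_ne (pa_ne_pc k)] at h1
  linear_combination -h1

/-- the unipotent radical of the `k`-th minimal parabolic subgroup -/
def Rk (k : Fin m) : Subgroup ↥(Matrix.symplecticGroup (Fin m) K) where
  carrier := {g | g ∈ Uup m K ∧ g.1 (pa k) (pc k) = 0}
  mul_mem' := by
    rintro a b ⟨ha, ha0⟩ ⟨hb, hb0⟩
    refine ⟨(Uup m K).mul_mem ha hb, ?_⟩
    rw [entry_mul ha hb, ha0, hb0, add_zero]
  one_mem' := ⟨(Uup m K).one_mem, by rw [coe_one', Matrix.one_apply_ne (pa_ne_pc k)]⟩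
  inv_mem' := by
    rintro g ⟨hg, hg0⟩
    refine ⟨(Uup m K).inv_mem hg, ?_⟩
    rw [entry_inv hg, hg0, neg_zero]

theorem mem_Rk {k : Fin m} {g : ↥(Matrix.symplecticGroup (Fin m) K)} :
    g ∈ Rk (K := K) k ↔ g ∈ Uup m K ∧ g.1 (pa k) (pc k) = 0 := Iff.rfl

theorem Rk_le_Uup (k : Fin m) : Rk (K := K) k ≤ Uup m K := fun _ h => h.1

theorem Uup_conj_mem_Rk {k : Fin m} {u g : ↥(Matrix.symplecticGroup (Fin m) K)}
    (hu : u ∈ Uup m K) (hg : g ∈ Rk (K := K) k) : u * g * u⁻¹ ∈ Rk (K := K) k := by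
  have hug : u * g ∈ Uup m K := (Uup m K).mul_mem hu hg.1
  refine ⟨(Uup m K).mul_mem hug ((Uup m K).inv_mem hu), ?_⟩
  rw [entry_mul hug ((Uup m K).inv_mem hu), entry_mul hu hg.1, entry_inv hu, hg.2]
  ring

/-- entries of a conjugate by a simple reflection -/
theorem sRef_conj_apply (k : Fin m) (M : Matrix (Fin m ⊕ Fin m) (Fin m ⊕ Fin m) K)
    (x y : Fin m ⊕ Fin m) :
    ((sRef (F := K) k).1 * M * ((sRef (F := K) k)⁻¹).1) x y =
      (sRef (F := K) k).1 x (tauS k x) * M (tauS k x) (tauS k y) *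
        ((sRef (F := K) k)⁻¹).1 (tauS k y) y := by
  rw [mul_mono_apply (isMono_sRef_inv k), mono_mul_apply (isMono_sRef k), tauS_symm]

theorem sRef_conj_mem_Rk {k : Fin m} {g : ↥(Matrix.symplecticGroup (Fin m) K)}
    (hg : g ∈ Rk (K := K) k) : sRef k * g * (sRef k)⁻¹ ∈ Rk (K := K) k := by
  have hB : sRef k * g * (sRef k)⁻¹ ∈ Bsp m K := sRef_conj_mem k g hg.1.1 hg.2
  refine ⟨⟨hB, fun x => ?_⟩, ?_⟩
  · rw [coe_mul', coe_mul', sRef_conj_apply, hg.1.2, mul_one]
    have h1 := mul_inv_apply (sRef (F := K) k) x x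
    rw [if_pos rfl, mul_mono_apply (isMono_sRef_inv k)] at h1
    exact h1
  · rw [coe_mul', coe_mul', sRef_conj_apply, tauS_pa, tauS_pc]
    have h1 : g.1 (pc k) (pa k) = 0 := hg.1.1 (by rw [rk_pa, rk_pc]; omega)
    rw [h1, mul_zero, zero_mul]

theorem uRoot_row_other (k : Fin m) (t : K) (x : Fin m ⊕ Fin m) (hx1 : x ≠ pa k)
    (hx2 : x ≠ (pc k).swap) (z : Fin m ⊕ Fin m) :
    (uRoot k t).1 x z = if x = z then 1 else 0 := by
  rw [uRoot_apply, if_neg (fun h : x = pa k ∧ z = pc k => hx1 h.1),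
    if_neg (fun h : pc k ≠ (pa k).swap ∧ x = (pc k).swap ∧ z = (pa k).swap => hx2 h.2.1), add_zero,
    add_zero]

theorem uRoot_col_other (k : Fin m) (t : K) (y : Fin m ⊕ Fin m) (hy1 : y ≠ pc k)
    (hy2 : y ≠ (pa k).swap) (z : Fin m ⊕ Fin m) :
    (uRoot k t).1 z y = if z = y then 1 else 0 := by
  rw [uRoot_apply, if_neg (fun h : z = pa k ∧ y = pc k => hy1 h.2),
    if_neg (fun h : pc k ≠ (pa k).swap ∧ z = (pc k).swap ∧ y = (pa k).swap => hy2 h.2.2), add_zero,
    add_zero]

/-- the radical of a minimal parabolic subgroup is self-centralizing in the unitriangular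
subgroup -/
theorem mem_Rk_of_commute (hm : 2 ≤ m) {k : Fin m} {g : ↥(Matrix.symplecticGroup (Fin m) K)}
    (hg : g ∈ Uup m K) (hcomm : ∀ r ∈ Rk (K := K) k, g * r = r * g) : g ∈ Rk (K := K) k := by
  refine ⟨hg, ?_⟩
  by_cases hk : k.val + 1 < m
  · -- use the next simple root
    set k' : Fin m := ⟨k.val + 1, hk⟩ with hk'
    have hpa' : pa k' = pc k := eq_pc_of_rk (by rw [rk_pa])
    have hr : uRoot k' (1 : K) ∈ Rk (K := K) k := by
      refine ⟨uRoot_mem_Uup k' 1, ?_⟩
      rw [uRoot_row_other k' 1 (pa k), if_neg (pa_ne_pc k)]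
      · intro h
        have := congrArg rk h
        rw [rk_pa, rk_pa] at this
        simp [hk'] at this
      · intro h
        have h1 := congrArg rk h
        have h2 := rk_add_swap (pc k')
        rw [rk_pc] at h2
        rw [rk_pa] at h1
        have : k'.val = k.val + 1 := rfl
        omega
    have h1 := congrArg (fun x : ↥(Matrix.symplecticGroup (Fin m) K) => x.1 (pa k) (pc k'))
      (hcomm _ hr)
    simp only [coe_mul'] at h1
    rw [Matrix.mul_apply, Matrix.mul_apply,
      Fintype.sum_eq_add (pc k') (pa k') (pa_ne_pc k').symm] at h1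
    · rw [uRoot_col_pc, uRoot_col_pc, if_pos rfl, if_neg (pa_ne_pc k'), if_pos rfl] at h1
      have h2 : ∑ x, (uRoot k' (1 : K)).1 (pa k) x * g.1 x (pc k') = g.1 (pa k) (pc k') := by
        rw [Finset.sum_eq_single (pa k)]
        · rw [uRoot_row_other k' 1 (pa k), if_pos rfl, one_mul]
          · intro h
            have := congrArg rk h
            rw [rk_pa, rk_pa] at this
            simp [hk'] at this
          · intro h
            have h1 := congrArg rk h
            have h2 := rk_add_swap (pc k')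
            rw [rk_pc] at h2
            rw [rk_pa] at h1
            have : k'.val = k.val + 1 := rfl
            omega
        · intro z _ hz
          rw [uRoot_row_other k' 1 (pa k), if_neg (fun e => hz e.symm), zero_mul]
          · intro h
            have := congrArg rk h
            rw [rk_pa, rk_pa] at this
            simp [hk'] at this
          · intro h
            have h1 := congrArg rk h
            have h2 := rk_add_swap (pc k')
            rw [rk_pc] at h2
            rw [rk_pa] at h1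
            have : k'.val = k.val + 1 := rfl
            omega
        · intro h
          exact absurd (Finset.mem_univ _) h
      rw [h2, hpa'] at h1
      linear_combination h1
    · rintro z ⟨hz1, hz2⟩
      rw [uRoot_col_pc, if_neg hz1, if_neg hz2, mul_zero]
  · -- the last simple root: use the previous one
    have hk1 : 1 ≤ k.val := by
      have := k.2
      omega
    set k' : Fin m := ⟨k.val - 1, by have := k.2; omega⟩ with hk'
    have hk'v : k'.val + 1 = k.val := by
      show k.val - 1 + 1 = k.val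
      omega
    have hpc' : pc k' = pa k := eq_pa_of_rk (by rw [rk_pc, hk'v])
    have hpck : pc k = (pa k).swap := by
      apply rk_injective
      have h1 := rk_add_swap (pa k)
      rw [rk_pa] at h1
      rw [rk_pc]
      have := k.2
      omega
    have hne1 : pa k ≠ pa k' := by
      intro h
      have := congrArg rk h
      rw [rk_pa, rk_pa] at this
      omega
    have hr : uRoot k' (1 : K) ∈ Rk (K := K) k := by
      refine ⟨uRoot_mem_Uup k' 1, ?_⟩
      rw [uRoot_row_other k' 1 (pa k) hne1, if_neg (pa_ne_pc k)]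
      rw [hpc']
      exact (swap_ne (pa k)).symm
    have hc1 : pc k ≠ pc k' := by
      rw [hpc']
      exact (pa_ne_pc k).symm
    have hc2 : pc k ≠ (pa k').swap := by
      intro h
      have h1 := congrArg rk h
      have h2 := rk_add_swap (pa k')
      rw [rk_pa] at h2
      rw [rk_pc] at h1
      have := k.2
      omega
    have h1 := congrArg (fun x : ↥(Matrix.symplecticGroup (Fin m) K) => x.1 (pa k') (pc k))
      (hcomm _ hr)
    simp only [coe_mul'] at h1
    rw [Matrix.mul_apply, Matrix.mul_apply] at h1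
    have h2 : ∑ x, g.1 (pa k') x * (uRoot k' (1 : K)).1 x (pc k) = g.1 (pa k') (pc k) := by
      rw [Finset.sum_eq_single (pc k)]
      · rw [uRoot_col_other k' 1 (pc k) hc1 hc2, if_pos rfl, mul_one]
      · intro z _ hz
        rw [uRoot_col_other k' 1 (pc k) hc1 hc2, if_neg hz, mul_zero]
      · intro h
        exact absurd (Finset.mem_univ _) h
    have h3 : ∑ x, (uRoot k' (1 : K)).1 (pa k') x * g.1 x (pc k) =
        g.1 (pa k') (pc k) + g.1 (pa k) (pc k) := by
      rw [Fintype.sum_eq_add (pa k') (pc k') (pa_ne_pc k')]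
      · rw [uRoot_row_pa, uRoot_row_pa, if_pos rfl, if_neg (pa_ne_pc k').symm, if_pos rfl, one_mul,
          one_mul, hpc']
      · rintro z ⟨hz1, hz2⟩
        rw [uRoot_row_pa, if_neg hz1, if_neg hz2, zero_mul]
    rw [h2, h3] at h1
    linear_combination -h1

end Cfsg.Agent.Lib.Helper27.SpFus
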