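import Mathlib
import Cfsg.Agent.Lib.Helper27.SpFusE

set_option autoImplicit false

/-! Diagonal elements of `Sp_{2m}(K)` as products of root elements. -/

namespace Cfsg.Agent.Lib.Helper27.SpFus

open Matrix Cfsg.Agent.Lib.helper6 Cfsg.Agent.Lib.Helper26 Cfsg.Agent.Lib.Helper16.SPA
open Cfsg.Agent.Lib.helper14.SpBN

universe u
variable {K : Type u} [Field K] {m : ℕ}

/-- the monomial element attached to a long root -/
def wL (e f : Fin m ⊕ Fin m → K) (ν : K) : ↥(Matrix.symplecticGroup (Fin m) K) :=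
  spT m e ν * spT m f ν⁻¹ * spT m e ν

theorem wL_mulVec {e f : Fin m ⊕ Fin m → K} (hef : Cfsg.sympForm m K e f = -1)
    (hfe : Cfsg.sympForm m K f e = 1) {ν : K} (hν : ν ≠ 0) (v : Fin m ⊕ Fin m → K) :
    (wL e f ν).1 *ᵥ v = v + (ν * Cfsg.sympForm m K v e + Cfsg.sympForm m K v f) • e +
      (ν⁻¹ * Cfsg.sympForm m K v f - Cfsg.sympForm m K v e) • f := by
  unfold wL
  simp only [sp_mul_mulVec, spT_mulVec, sympForm_add_left, sympForm_smul_left, sympForm_self, hef,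
    hfe]
  match_scalars <;> field_simp <;> ring

/-- the diagonal element attached to a long root -/
def hL (e f : Fin m ⊕ Fin m → K) (ν : K) : ↥(Matrix.symplecticGroup (Fin m) K) :=
  wL e f ν * wL e f (-1)

theorem hL_mulVec {e f : Fin m ⊕ Fin m → K} (hef : Cfsg.sympForm m K e f = -1)
    (hfe : Cfsg.sympForm m K f e = 1) {ν : K} (hν : ν ≠ 0) (v : Fin m ⊕ Fin m → K) :
    (hL e f ν).1 *ᵥ v = v + ((1 - ν) * Cfsg.sympForm m K v f) • e +
      ((ν⁻¹ - 1) * Cfsg.sympForm m K v e) • f := by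
  unfold hL
  rw [sp_mul_mulVec, wL_mulVec hef hfe (neg_ne_zero.mpr one_ne_zero), wL_mulVec hef hfe hν]
  simp only [sympForm_add_left, sympForm_smul_left, sympForm_self, hef, hfe]
  match_scalars <;> field_simp <;> ring

/-- a hyperbolic pair -/
def HPair (e f : Fin m ⊕ Fin m → K) : Prop :=
  Cfsg.sympForm m K e f = -1 ∧ Cfsg.sympForm m K f e = 1

/-- orthogonal vectors -/
def Orth (u v : Fin m ⊕ Fin m → K) : Prop :=
  Cfsg.sympForm m K u v = 0 ∧ Cfsg.sympForm m K v u = 0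

/-- the monomial element attached to a short root -/
def wS (e e' f f' : Fin m ⊕ Fin m → K) (ν : K) : ↥(Matrix.symplecticGroup (Fin m) K) :=
  sR e f' (-ν) * sR e' f ν⁻¹ * sR e f' (-ν)

theorem wS_mulVec {e e' f f' : Fin m ⊕ Fin m → K} (h1 : HPair e f) (h2 : HPair e' f')
    (h3 : Orth e e') (h4 : Orth e f') (h5 : Orth e' f) (h6 : Orth f f') {ν : K} (hν : ν ≠ 0)
    (v : Fin m ⊕ Fin m → K) :
    (wS e e' f f' ν).1 *ᵥ v = v +
      (Cfsg.sympForm m K v f - ν * Cfsg.sympForm m K v f') • e +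
      (ν⁻¹ * Cfsg.sympForm m K v f + Cfsg.sympForm m K v f') • e' +
      (ν⁻¹ * Cfsg.sympForm m K v e' - Cfsg.sympForm m K v e) • f +
      (-ν * Cfsg.sympForm m K v e - Cfsg.sympForm m K v e') • f' := by
  unfold wS
  simp only [sp_mul_mulVec, sR_mulVec h4.1, sR_mulVec h5.1, sympForm_add_left, sympForm_smul_left,
    sympForm_self, h1.1, h1.2, h2.1, h2.2, h3.1, h3.2, h4.1, h4.2, h5.1, h5.2, h6.1, h6.2]
  match_scalars <;> field_simp <;> ring

/-- the diagonal element attached to a short root -/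
def hS (e e' f f' : Fin m ⊕ Fin m → K) (ν : K) : ↥(Matrix.symplecticGroup (Fin m) K) :=
  wS e e' f f' ν * wS e e' f f' (-1)

theorem hS_mulVec {e e' f f' : Fin m ⊕ Fin m → K} (h1 : HPair e f) (h2 : HPair e' f')
    (h3 : Orth e e') (h4 : Orth e f') (h5 : Orth e' f) (h6 : Orth f f') {ν : K} (hν : ν ≠ 0)
    (v : Fin m ⊕ Fin m → K) :
    (hS e e' f f' ν).1 *ᵥ v = v +
      ((1 - ν) * Cfsg.sympForm m K v f) • e +
      ((1 - ν⁻¹) * Cfsg.sympForm m K v f') • e' +
      ((ν⁻¹ - 1) * Cfsg.sympForm m K v e) • f +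
      ((ν - 1) * Cfsg.sympForm m K v e') • f' := by
  unfold hS
  rw [sp_mul_mulVec, wS_mulVec h1 h2 h3 h4 h5 h6 (neg_ne_zero.mpr one_ne_zero),
    wS_mulVec h1 h2 h3 h4 h5 h6 hν]
  simp only [sympForm_add_left, sympForm_smul_left, sympForm_self, h1.1, h1.2, h2.1, h2.2, h3.1,
    h3.2, h4.1, h4.2, h5.1, h5.2, h6.1, h6.2]
  match_scalars <;> field_simp <;> ring

end Cfsg.Agent.Lib.Helper27.SpFus
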