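import Mathlib
import Cfsg.Agent.Lib.Helper27.SpFusG
import Cfsg.Agent.Lib.Helper27.SpFusF

set_option autoImplicit false

/-! Diagonal elements of `Sp_{2m}(K)`: the elements attached to the simple roots are good. -/

namespace Cfsg.Agent.Lib.Helper27.SpFus

open Matrix Cfsg.Agent.Lib.helper6 Cfsg.Agent.Lib.Helper26 Cfsg.Agent.Lib.Helper16.SPA
open Cfsg.Agent.Lib.helper14.SpBN Cfsg.Agent.Lib.Helper27.FusSimpleGen

universe u
variable {K : Type u} [Field K] {m : ℕ}

theorem hPair_basis (k : Fin m) :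
    HPair (bV (Sum.inl k) : Fin m ⊕ Fin m → K) (bV (Sum.inr k)) :=
  ⟨by rw [form_f_right, bV_inl_inl, if_pos rfl], by rw [form_e_right, bV_inr_inr, if_pos rfl]⟩

theorem orth_e_e (i j : Fin m) :
    Orth (bV (Sum.inl i) : Fin m ⊕ Fin m → K) (bV (Sum.inl j)) :=
  ⟨form_inL (inL_e i) (inL_e j), form_inL (inL_e j) (inL_e i)⟩

theorem orth_e_f {i j : Fin m} (h : i ≠ j) :
    Orth (bV (Sum.inl i) : Fin m ⊕ Fin m → K) (bV (Sum.inr j)) :=
  ⟨by rw [form_f_right, bV_inl_inl, if_neg h.symm, neg_zero],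
   by rw [form_e_right, bV_inr_inr, if_neg h]⟩

theorem orth_f_f (i j : Fin m) :
    Orth (bV (Sum.inr i) : Fin m ⊕ Fin m → K) (bV (Sum.inr j)) :=
  ⟨by rw [form_f_right, bV_inr_inl, neg_zero], by rw [form_f_right, bV_inr_inl, neg_zero]⟩

theorem torD_f (d : Fin m → K) (hd : ∀ i, d i ≠ 0) (i : Fin m) :
    (torD d hd).1 *ᵥ (bV (Sum.inr i) : Fin m ⊕ Fin m → K) = (d i)⁻¹ • bV (Sum.inr i) :=
  colMat_bV _ _

theorem torD_congr {d d' : Fin m → K} (h : d = d') (hd : ∀ i, d i ≠ 0) (hd' : ∀ i, d' i ≠ 0) :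
    torD d hd = torD d' hd' := by
  subst h
  rfl

theorem torD_mul (d d' : Fin m → K) (hd : ∀ i, d i ≠ 0) (hd' : ∀ i, d' i ≠ 0) :
    torD (fun i => d i * d' i) (fun i => mul_ne_zero (hd i) (hd' i)) = torD d hd * torD d' hd' := by
  apply sp_ext_basis
  rintro (l | l)
  · rw [sp_mul_mulVec, torD_e, torD_e, Matrix.mulVec_smul, torD_e, smul_smul, mul_comm]
  · rw [sp_mul_mulVec, torD_f, torD_f, Matrix.mulVec_smul, torD_f, smul_smul, mul_inv, mul_comm]

theorem torD_one : torD (fun _ : Fin m => (1 : K)) (fun _ => one_ne_zero) = 1 := by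
  apply sp_ext_basis
  rintro (l | l)
  · rw [torD_e, one_smul, sp_one_mulVec]
  · rw [torD_f, inv_one, one_smul, sp_one_mulVec]

theorem torD_mem_Bsp (d : Fin m → K) (hd : ∀ i, d i ≠ 0) : torD d hd ∈ Bsp m K := by
  apply up_of_isMono_one
  intro x y hxy
  rw [Equiv.Perm.one_apply]
  by_contra hne
  apply hxy
  rw [← mulVec_bV (torD d hd).1 y x]
  rcases y with i | i
  · rw [torD_e, Pi.smul_apply, bV_apply, if_neg hne, smul_zero]
  · rw [torD_f, Pi.smul_apply, bV_apply, if_neg hne, smul_zero]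

theorem hL_eq_torD (k : Fin m) {ν : K} (hν : ν ≠ 0) :
    hL (bV (Sum.inl k) : Fin m ⊕ Fin m → K) (bV (Sum.inr k)) ν =
      torD (fun i => if i = k then ν else 1) (fun i => by
        show (if i = k then ν else 1) ≠ 0
        split_ifs
        · exact hν
        · exact one_ne_zero) := by
  have hp := hPair_basis (K := K) k
  apply sp_ext_basis
  rintro (l | l)
  · rw [hL_mulVec hp.1 hp.2 hν, torD_e, form_f_right, bV_inl_inl, form_inL (inL_e l) (inL_e k),
      mul_zero, zero_smul, add_zero]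
    by_cases h : k = l
    · rw [if_pos h, if_pos h.symm, h]
      module
    · rw [if_neg h, if_neg (fun e => h e.symm)]
      module
  · rw [hL_mulVec hp.1 hp.2 hν, torD_f, form_f_right, bV_inr_inl, form_e_right, bV_inr_inr]
    by_cases h : k = l
    · rw [if_pos h, if_pos h.symm, h]
      module
    · rw [if_neg h, if_neg (fun e => h e.symm)]
      simp

theorem hS_eq_torD {k k' : Fin m} (hkk' : k ≠ k') {ν : K} (hν : ν ≠ 0) :
    hS (bV (Sum.inl k) : Fin m ⊕ Fin m → K) (bV (Sum.inl k')) (bV (Sum.inr k)) (bV (Sum.inr k')) ν =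
      torD (fun i => if i = k then ν else if i = k' then ν⁻¹ else 1) (fun i => by
        show (if i = k then ν else if i = k' then ν⁻¹ else 1) ≠ 0
        split_ifs
        · exact hν
        · exact inv_ne_zero hν
        · exact one_ne_zero) := by
  apply sp_ext_basis
  rintro (l | l)
  · rw [hS_mulVec (hPair_basis k) (hPair_basis k') (orth_e_e k k') (orth_e_f hkk')
      (orth_e_f hkk'.symm) (orth_f_f k k') hν, torD_e, form_f_right, form_f_right, bV_inl_inl,
      bV_inl_inl, form_inL (inL_e l) (inL_e k), form_inL (inL_e l) (inL_e k'),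
      mul_zero, zero_smul, add_zero, mul_zero, zero_smul, add_zero]
    by_cases h : k = l
    · have h' : k' ≠ l := fun e => hkk' (h.trans e.symm)
      rw [if_pos h, if_neg h', if_pos h.symm, h]
      module
    · by_cases h2 : k' = l
      · rw [if_neg h, if_pos h2, if_neg (fun e => h e.symm), if_pos h2.symm, h2]
        match_scalars <;> first | (field_simp; done) | (field_simp; ring) | ring
      · rw [if_neg h, if_neg h2, if_neg (fun e => h e.symm), if_neg (fun e => h2 e.symm)]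
        module
  · rw [hS_mulVec (hPair_basis k) (hPair_basis k') (orth_e_e k k') (orth_e_f hkk')
      (orth_e_f hkk'.symm) (orth_f_f k k') hν, torD_f, form_f_right, form_f_right, bV_inr_inl,
      bV_inr_inl, form_e_right, form_e_right, bV_inr_inr, bV_inr_inr]
    by_cases h : k = l
    · have h' : k' ≠ l := fun e => hkk' (h.trans e.symm)
      rw [if_pos h, if_neg h', if_pos h.symm, h]
      module
    · by_cases h2 : k' = l
      · rw [if_neg h, if_pos h2, if_neg (fun e => h e.symm), if_pos h2.symm, h2]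
        match_scalars <;> first | (field_simp; done) | (field_simp; ring) | ring
      · rw [if_neg h, if_neg h2, if_neg (fun e => h e.symm), if_neg (fun e => h2 e.symm)]
        simp

section good

variable [Fintype K]

theorem uup_pow (p : ℕ) [Fact p.Prime] [CharP K p] {u : ↥(Matrix.symplecticGroup (Fin m) K)}
    (hu : u ∈ Uup m K) : ∃ j : ℕ, u ^ (p ^ j) = 1 := by
  obtain ⟨j, hj⟩ := (Uup_isPGroup (m := m) (F := K) p) ⟨u, hu⟩
  refine ⟨j, ?_⟩
  have := congrArg Subtype.val hj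
  simpa using this

theorem Uup_le_normalizer_Rk (k : Fin m) :
    Uup m K ≤ Subgroup.normalizer ((Rk (K := K) k : Subgroup _) : Set _) := fun u hu =>
  mem_normalizer_of_conj_mem _ u (fun _ hr => Uup_conj_mem_Rk hu hr)

theorem sRef_mem_normalizer_Rk (k : Fin m) :
    sRef (F := K) k ∈ Subgroup.normalizer ((Rk (K := K) k : Subgroup _) : Set _) :=
  mem_normalizer_of_conj_mem _ _ (fun _ hr => sRef_conj_mem_Rk hr)

theorem mem_closure_of_mem_Uup (p : ℕ) [Fact p.Prime] [CharP K p] (k : Fin m)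
    {x : ↥(Matrix.symplecticGroup (Fin m) K)} (hx : x ∈ Uup m K) :
    x ∈ Subgroup.closure {x : ↥(Matrix.symplecticGroup (Fin m) K) |
      x ∈ Subgroup.normalizer ((Rk (K := K) k : Subgroup _) : Set _) ∧ ∃ j : ℕ, x ^ (p ^ j) = 1} :=
  Subgroup.subset_closure ⟨Uup_le_normalizer_Rk k hx, uup_pow p hx⟩

theorem mem_closure_of_conj (p : ℕ) [Fact p.Prime] [CharP K p] (k : Fin m)
    {x : ↥(Matrix.symplecticGroup (Fin m) K)} (hx : x ∈ Uup m K) :
    sRef k * x * (sRef k)⁻¹ ∈ Subgroup.closure {x : ↥(Matrix.symplecticGroup (Fin m) K) |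
      x ∈ Subgroup.normalizer ((Rk (K := K) k : Subgroup _) : Set _) ∧ ∃ j : ℕ, x ^ (p ^ j) = 1} := by
  apply Subgroup.subset_closure
  obtain ⟨j, hj⟩ := uup_pow p hx
  refine ⟨Subgroup.mul_mem _ (Subgroup.mul_mem _ (sRef_mem_normalizer_Rk k)
    (Uup_le_normalizer_Rk k hx)) (Subgroup.inv_mem _ (sRef_mem_normalizer_Rk k)), j, ?_⟩
  rw [conj_pow, hj, mul_one, mul_inv_cancel]

theorem sRef_e (k : Fin m) :
    (sRef (F := K) k).1 *ᵥ (bV (Sum.inl k) : Fin m ⊕ Fin m → K) = bV (pc k) := by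
  have h := monoSp_mulVec (F := K) (tauS k) (SwC_tauS k) (Sum.inl k)
  have h1 : tauS k (Sum.inl k) = pc k := tauS_pa k
  rw [h1] at h
  have h2 : (lamS (tauS k) (Sum.inl k) : K) = 1 := rfl
  rw [h2, one_smul] at h
  exact h

/-- the diagonal element attached to the long simple root is good -/
theorem goodElt_long (hm : 2 ≤ m) (p : ℕ) [Fact p.Prime] [CharP K p] (k : Fin m)
    (hk : ¬ k.val + 1 < m) {ν : K} (hν : ν ≠ 0) :
    GoodElt p (Uup m K) (torD (fun i => if i = k then ν else 1) (fun i => by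
        show (if i = k then ν else 1) ≠ 0
        split_ifs
        · exact hν
        · exact one_ne_zero)) := by
  have hm0 : 0 < m := by omega
  refine ⟨Bsp_le_normalizer_Uup (torD_mem_Bsp _ _), Rk k, Rk_le_Uup k, Uup_le_normalizer_Rk k,
    fun s hs hcomm => mem_Rk_of_commute hm hs hcomm, ?_⟩
  rw [← hL_eq_torD k hν]
  have hpc : pc k = Sum.inr k := by
    unfold pc
    rw [dif_neg hk]
  have hX : ∀ t : K, spT m (bV (Sum.inl k) : Fin m ⊕ Fin m → K) t ∈ Subgroup.closure
      {x : ↥(Matrix.symplecticGroup (Fin m) K) |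
        x ∈ Subgroup.normalizer ((Rk (K := K) k : Subgroup _) : Set _) ∧
          ∃ j : ℕ, x ^ (p ^ j) = 1} := by
    intro t
    apply mem_closure_of_mem_Uup p k
    rw [← Usp_eq_Uup hm0 p]
    exact spT_mem_Usp (inL_e k) t
  have hY : ∀ t : K, spT m (bV (Sum.inr k) : Fin m ⊕ Fin m → K) t ∈ Subgroup.closure
      {x : ↥(Matrix.symplecticGroup (Fin m) K) |
        x ∈ Subgroup.normalizer ((Rk (K := K) k : Subgroup _) : Set _) ∧
          ∃ j : ℕ, x ^ (p ^ j) = 1} := by
    intro t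
    have h1 : spT m (bV (Sum.inl k) : Fin m ⊕ Fin m → K) t ∈ Uup m K := by
      rw [← Usp_eq_Uup hm0 p]
      exact spT_mem_Usp (inL_e k) t
    have h2 := mem_closure_of_conj p k h1
    rwa [spT_conj, sRef_e, hpc] at h2
  have hw : ∀ μ : K, wL (bV (Sum.inl k) : Fin m ⊕ Fin m → K) (bV (Sum.inr k)) μ ∈
      Subgroup.closure {x : ↥(Matrix.symplecticGroup (Fin m) K) |
        x ∈ Subgroup.normalizer ((Rk (K := K) k : Subgroup _) : Set _) ∧
          ∃ j : ℕ, x ^ (p ^ j) = 1} := by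
    intro μ
    unfold wL
    exact Subgroup.mul_mem _ (Subgroup.mul_mem _ (hX _) (hY _)) (hX _)
  unfold hL
  exact Subgroup.mul_mem _ (hw _) (hw _)

theorem sRef_f_succ (k : Fin m) (hk : k.val + 1 < m) :
    (sRef (F := K) k).1 *ᵥ (bV (Sum.inr ⟨k.val + 1, hk⟩) : Fin m ⊕ Fin m → K) =
      bV (Sum.inr k) := by
  have hpc : pc k = Sum.inl ⟨k.val + 1, hk⟩ := by
    unfold pc
    rw [dif_pos hk]
  have h := monoSp_mulVec (F := K) (tauS k) (SwC_tauS k) (Sum.inr ⟨k.val + 1, hk⟩)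
  have h0 : tauS k (Sum.inl ⟨k.val + 1, hk⟩) = Sum.inl k := by
    rw [← hpc]
    exact tauS_pc k
  have h1 : tauS k (Sum.inr ⟨k.val + 1, hk⟩) = Sum.inr k := by
    have := SwC_tauS k (Sum.inl ⟨k.val + 1, hk⟩)
    rw [Sum.swap_inl, h0, Sum.swap_inl] at this
    exact this
  have h2 : (lamS (tauS k) (Sum.inr ⟨k.val + 1, hk⟩) : K) = 1 := by
    show (eps (tauS k (Sum.inl ⟨k.val + 1, hk⟩)) : K) = 1
    rw [h0]
    rfl
  rw [h1, h2, one_smul] at h
  exact h

/-- the diagonal elements attached to the short simple roots are good -/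
theorem goodElt_short (hm : 2 ≤ m) (p : ℕ) [Fact p.Prime] [CharP K p] (k : Fin m)
    (hk : k.val + 1 < m) {ν : K} (hν : ν ≠ 0) :
    GoodElt p (Uup m K) (torD (fun i => if i = k then ν else
        if i = (⟨k.val + 1, hk⟩ : Fin m) then ν⁻¹ else 1) (fun i => by
        show (if i = k then ν else if i = (⟨k.val + 1, hk⟩ : Fin m) then ν⁻¹ else 1) ≠ 0
        split_ifs
        · exact hν
        · exact inv_ne_zero hν
        · exact one_ne_zero)) := by
  have hm0 : 0 < m := by omega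
  set k' : Fin m := ⟨k.val + 1, hk⟩ with hk'
  have hkk' : k ≠ k' := by
    intro h
    have := congrArg Fin.val h
    simp [hk'] at this
  have hlt : k < k' := by
    rw [Fin.lt_def]
    show k.val < k.val + 1
    omega
  refine ⟨Bsp_le_normalizer_Uup (torD_mem_Bsp _ _), Rk k, Rk_le_Uup k, Uup_le_normalizer_Rk k,
    fun s hs hcomm => mem_Rk_of_commute hm hs hcomm, ?_⟩
  rw [← hS_eq_torD hkk' hν]
  have hpc : pc k = Sum.inl k' := by
    unfold pc
    rw [dif_pos hk]
  have hXU : ∀ t : K, sR (bV (Sum.inl k) : Fin m ⊕ Fin m → K) (bV (Sum.inr k')) t ∈ Uup m K := by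
    intro t
    rw [← Usp_eq_Uup hm0 p]
    exact sR_e_f_mem_Usp k k' hlt t
  have hX : ∀ t : K, sR (bV (Sum.inl k) : Fin m ⊕ Fin m → K) (bV (Sum.inr k')) t ∈
      Subgroup.closure {x : ↥(Matrix.symplecticGroup (Fin m) K) |
        x ∈ Subgroup.normalizer ((Rk (K := K) k : Subgroup _) : Set _) ∧
          ∃ j : ℕ, x ^ (p ^ j) = 1} := fun t => mem_closure_of_mem_Uup p k (hXU t)
  have hY : ∀ t : K, sR (bV (Sum.inl k') : Fin m ⊕ Fin m → K) (bV (Sum.inr k)) t ∈
      Subgroup.closure {x : ↥(Matrix.symplecticGroup (Fin m) K) |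
        x ∈ Subgroup.normalizer ((Rk (K := K) k : Subgroup _) : Set _) ∧
          ∃ j : ℕ, x ^ (p ^ j) = 1} := by
    intro t
    have h2 := mem_closure_of_conj p k (hXU t)
    rwa [sR_conj, sRef_e, hpc, sRef_f_succ k hk] at h2
  have hw : ∀ μ : K, wS (bV (Sum.inl k) : Fin m ⊕ Fin m → K) (bV (Sum.inl k')) (bV (Sum.inr k))
      (bV (Sum.inr k')) μ ∈
      Subgroup.closure {x : ↥(Matrix.symplecticGroup (Fin m) K) |
        x ∈ Subgroup.normalizer ((Rk (K := K) k : Subgroup _) : Set _) ∧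
          ∃ j : ℕ, x ^ (p ^ j) = 1} := by
    intro μ
    unfold wS
    exact Subgroup.mul_mem _ (Subgroup.mul_mem _ (hX _) (hY _)) (hX _)
  unfold hS
  exact Subgroup.mul_mem _ (hw _) (hw _)

end good

end Cfsg.Agent.Lib.Helper27.SpFus
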