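import Mathlib
import Cfsg.Agent.Lib.Helper27.SpFusH

set_option autoImplicit false

/-! The normalizer of the unitriangular subgroup of `Sp_{2m}(K)` is generated by it and by good
elements. -/

namespace Cfsg.Agent.Lib.Helper27.SpFus

open Matrix Cfsg.Agent.Lib.helper6 Cfsg.Agent.Lib.Helper26 Cfsg.Agent.Lib.Helper16.SPA
open Cfsg.Agent.Lib.helper14.SpBN Cfsg.Agent.Lib.Helper27.FusSimpleGen

universe u
variable {K : Type u} [Field K] [Fintype K] {m : ℕ}

theorem torD_mem_closure (hm : 2 ≤ m) (p : ℕ) [Fact p.Prime] [CharP K p] : ∀ n : ℕ,
    ∀ (d : Fin m → K) (hd : ∀ i, d i ≠ 0), (∀ i : Fin m, i.val + n < m → d i = 1) →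
    torD d hd ∈ Subgroup.closure
      (((Uup m K : Subgroup ↥(Matrix.symplecticGroup (Fin m) K)) : Set _) ∪
        {h | GoodElt p (Uup m K) h}) := by
  intro n
  induction n with
  | zero =>
    intro d hd h
    have : d = fun _ => (1 : K) := by
      funext i
      exact h i (by have := i.2; omega)
    rw [torD_congr this hd (fun _ => one_ne_zero), torD_one]
    exact Subgroup.one_mem _
  | succ n ih =>
    intro d hd h
    by_cases hn : n < m
    · set k : Fin m := ⟨m - 1 - n, by omega⟩ with hk
      have hkv : k.val + n + 1 = m := by
        show m - 1 - n + n + 1 = m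
        omega
      set ν : K := d k with hν
      have hν0 : ν ≠ 0 := hd k
      by_cases hk1 : k.val + 1 < m
      · set k' : Fin m := ⟨k.val + 1, hk1⟩ with hk'
        have hkk' : k' ≠ k := by
          intro e
          have := congrArg Fin.val e
          simp [hk'] at this
        set d' : Fin m → K := fun i => if i = k then 1 else if i = k' then d k' * ν else d i
          with hd'
        have hd'0 : ∀ i, d' i ≠ 0 := by
          intro i
          show (if i = k then 1 else if i = k' then d k' * ν else d i) ≠ 0
          split_ifs
          · exact one_ne_zero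
          · exact mul_ne_zero (hd k') hν0
          · exact hd i
        have hdec : d = fun i => (if i = k then ν else if i = k' then ν⁻¹ else 1) * d' i := by
          funext i
          show d i = (if i = k then ν else if i = k' then ν⁻¹ else 1) *
            (if i = k then 1 else if i = k' then d k' * ν else d i)
          by_cases h1 : i = k
          · rw [if_pos h1, if_pos h1, mul_one, h1]
          · by_cases h2 : i = k'
            · rw [if_neg h1, if_pos h2, if_neg h1, if_pos h2, h2]
              field_simp
            · rw [if_neg h1, if_neg h2, if_neg h1, if_neg h2, one_mul]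
        have hd'1 : ∀ i : Fin m, i.val + n < m → d' i = 1 := by
          intro i hi
          show (if i = k then 1 else if i = k' then d k' * ν else d i) = 1
          by_cases h1 : i = k
          · rw [if_pos h1]
          · have h2 : i.val ≠ k.val := fun e => h1 (Fin.ext e)
            have h3 : i ≠ k' := by
              intro e
              have := congrArg Fin.val e
              simp only [hk'] at this
              omega
            rw [if_neg h1, if_neg h3]
            apply h i
            omega
        rw [torD_congr hdec hd (fun i => mul_ne_zero (by
          show (if i = k then ν else if i = k' then ν⁻¹ else 1) ≠ 0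
          split_ifs
          · exact hν0
          · exact inv_ne_zero hν0
          · exact one_ne_zero) (hd'0 i)),
          torD_mul (fun i => if i = k then ν else if i = k' then ν⁻¹ else 1) d' _ hd'0]
        refine Subgroup.mul_mem _ (Subgroup.subset_closure (Or.inr ?_)) (ih d' hd'0 hd'1)
        exact goodElt_short hm p k hk1 hν0
      · set d' : Fin m → K := fun i => if i = k then 1 else d i with hd'
        have hd'0 : ∀ i, d' i ≠ 0 := by
          intro i
          show (if i = k then 1 else d i) ≠ 0
          split_ifs
          · exact one_ne_zero
          · exact hd i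
        have hdec : d = fun i => (if i = k then ν else 1) * d' i := by
          funext i
          show d i = (if i = k then ν else 1) * (if i = k then 1 else d i)
          by_cases h1 : i = k
          · rw [if_pos h1, if_pos h1, mul_one, h1]
          · rw [if_neg h1, if_neg h1, one_mul]
        have hd'1 : ∀ i : Fin m, i.val + n < m → d' i = 1 := by
          intro i hi
          show (if i = k then 1 else d i) = 1
          by_cases h1 : i = k
          · rw [if_pos h1]
          · have h2 : i.val ≠ k.val := fun e => h1 (Fin.ext e)
            rw [if_neg h1]
            apply h i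
            omega
        rw [torD_congr hdec hd (fun i => mul_ne_zero (by
          show (if i = k then ν else 1) ≠ 0
          split_ifs
          · exact hν0
          · exact one_ne_zero) (hd'0 i)),
          torD_mul (fun i => if i = k then ν else 1) d' _ hd'0]
        refine Subgroup.mul_mem _ (Subgroup.subset_closure (Or.inr ?_)) (ih d' hd'0 hd'1)
        exact goodElt_long hm p k hk1 hν0
    · apply ih d hd
      intro i hi
      exfalso
      omega

/-- the normalizer of the unitriangular subgroup is generated by it and the good elements -/
theorem normalizer_Uup_le_closure (hm : 2 ≤ m) (p : ℕ) [Fact p.Prime] [CharP K p] :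
    Subgroup.normalizer ((Uup m K : Subgroup ↥(Matrix.symplecticGroup (Fin m) K)) : Set _) ≤
      Subgroup.closure (((Uup m K : Subgroup ↥(Matrix.symplecticGroup (Fin m) K)) : Set _) ∪
        {h | GoodElt p (Uup m K) h}) := by
  intro g hg
  have hm0 : 0 < m := by omega
  have hgB : g ∈ Bsp m K := normalizer_Uup_le hm0 hg
  have hu : g * (diagSp g hgB)⁻¹ ∈ Uup m K := mul_diagSp_inv_mem g hgB
  set lam : Fin m → K := fun i => g.1 (Sum.inl i) (Sum.inl i) with hlam
  have hlam0 : ∀ i, lam i ≠ 0 := fun i => up_diag_ne_zero g hgB (Sum.inl i)
  have hd : diagSp g hgB = torD lam hlam0 := by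
    apply sp_ext_basis
    rintro (l | l)
    · funext x
      rw [mulVec_bV, diagSp_apply, torD_e, Pi.smul_apply, bV_apply, smul_eq_mul, mul_ite, mul_one,
        mul_zero]
    · funext x
      rw [mulVec_bV, diagSp_apply, torD_f, Pi.smul_apply, bV_apply, smul_eq_mul, mul_ite, mul_one,
        mul_zero]
      have h1 := up_diag_swap g hgB (Sum.inl l)
      rw [Sum.swap_inl] at h1
      have h2 : g.1 (Sum.inr l) (Sum.inr l) = (lam l)⁻¹ := eq_inv_of_mul_eq_one_right h1
      rw [h2]
  have hdec : g = (g * (diagSp g hgB)⁻¹) * diagSp g hgB := by group
  rw [hdec]
  refine Subgroup.mul_mem _ (Subgroup.subset_closure (Or.inl hu)) ?_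
  rw [hd]
  exact torD_mem_closure hm p m lam hlam0 (fun i hi => absurd hi (by omega))

end Cfsg.Agent.Lib.Helper27.SpFus
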