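import Cfsg.Agent.Lib.Helper27.ConstrainedSub
import Cfsg.Agent.Lib.Helper26.FusionGroup
import Cfsg.Agent.Lib.Helper18.SylowIn
import Cfsg.Agent.S5118
import Cfsg.Agent.S5076

set_option autoImplicit false

namespace Cfsg.Agent.Lib.Helper27

open Cfsg Cfsg.FusionSystem Cfsg.Agent.Lib.Helper26

variable {G : Type*} [Group G]

theorem fusionSystem_ext {S : Subgroup G} {F F' : FusionSystem S}
    (h : ∀ P : Subgroup G, F.Hom P = F'.Hom P) : F = F' := by
  cases F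
  cases F'
  congr
  funext P
  exact h P

theorem subFS_top_eq (S : Subgroup G) :
    fusionSystemOfSubgroup ⊤ S le_top = groupFusionSystem S := by
  apply fusionSystem_ext
  intro P
  ext φ
  constructor
  · rintro ⟨h1, h2, g, -, hg⟩
    exact ⟨h1, h2, g, hg⟩
  · rintro ⟨h1, h2, g, hg⟩
    exact ⟨h1, h2, g, Subgroup.mem_top g, hg⟩

theorem subFS_saturated_of_isSylowIn [Finite G] {p : ℕ} [Fact p.Prime] {H T : Subgroup G}
    (hT : Cfsg.Agent.Lib.Helper18.IsSylowIn p T H) :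
    (fusionSystemOfSubgroup H T hT.le).IsSaturated p := by
  obtain ⟨T', hT'⟩ := hT.exists_sylow
  refine saturated_of_realized _ (Cfsg.Agent.S5118.subFS_realized hT.le) T' ?_
  rw [hT', Subgroup.inclusion_range]

/-- Transport of centricity from `F_T(H)` inside `G` to the fusion system of the group `H`. -/
theorem groupFS_subgroupOf_isCentric {H T : Subgroup G} (hTH : T ≤ H) {Q : Subgroup G}
    (hQ : (fusionSystemOfSubgroup H T hTH).IsCentric Q) :
    (groupFusionSystem (T.subgroupOf H)).IsCentric (Q.subgroupOf H) := by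
  have hQT : Q ≤ T := hQ.1
  have hQH : Q ≤ H := hQT.trans hTH
  refine ⟨fun x hx => ?_, fun R' hR' => ?_⟩
  · rw [Subgroup.mem_subgroupOf] at hx ⊢
    exact hQT hx
  obtain ⟨φ', ⟨-, hval, g, hg⟩, hr⟩ := hR'
  have hconj : (fusionSystemOfSubgroup H T hTH).IsConj Q (R'.map H.subtype) := by
    refine ⟨conjHom Q g, ⟨hQT, fun x => ?_, g, g.2, fun x => rfl⟩, ?_⟩
    · have h1 := hval ⟨⟨x, hQH x.2⟩, Subgroup.mem_subgroupOf.mpr x.2⟩
      rw [Subgroup.mem_subgroupOf, hg] at h1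
      exact h1
    · ext y
      constructor
      · rintro ⟨x, rfl⟩
        refine ⟨φ' ⟨⟨x, hQH x.2⟩, Subgroup.mem_subgroupOf.mpr x.2⟩, ?_, ?_⟩
        · rw [← hr]; exact ⟨_, rfl⟩
        · rw [hg]; rfl
      · rintro ⟨y', hy', rfl⟩
        rw [← hr] at hy'
        obtain ⟨x', rfl⟩ := hy'
        refine ⟨⟨x'.1.1, Subgroup.mem_subgroupOf.mp x'.2⟩, ?_⟩
        rw [hg]
        rfl
  have hc := hQ.2 _ hconj
  intro x' hx'
  have h1 : (x' : G) ∈ centralizerIn T (R'.map H.subtype) := by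
    refine ⟨Subgroup.mem_subgroupOf.mp hx'.1, ?_⟩
    show (x' : G) ∈ Subgroup.centralizer ((R'.map H.subtype : Subgroup G) : Set G)
    rw [Subgroup.mem_centralizer_iff]
    rintro _ ⟨y', hy', rfl⟩
    have h2 := (Subgroup.mem_centralizer_iff.mp hx'.2) y' hy'
    exact congrArg Subtype.val h2
  obtain ⟨y', hy', hyx⟩ := hc h1
  have : y' = x' := Subtype.ext hyx
  rw [← this]
  exact hy'

/-- Transport of normality from `F_T(H)` inside `G` to the fusion system of the group `H`. -/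
theorem groupFS_subgroupOf_isNormal {H T : Subgroup G} (hTH : T ≤ H) {Q : Subgroup G}
    (hQ : (fusionSystemOfSubgroup H T hTH).IsNormal Q) :
    (groupFusionSystem (T.subgroupOf H)).IsNormal (Q.subgroupOf H) := by
  have hQT : Q ≤ T := hQ.1
  have hQH : Q ≤ H := hQT.trans hTH
  have hQ'T' : Q.subgroupOf H ≤ T.subgroupOf H := by
    intro x hx
    rw [Subgroup.mem_subgroupOf] at hx ⊢
    exact hQT hx
  refine ⟨hQ'T', fun P' φ' hφ' => ?_⟩
  obtain ⟨hP'T, hval, g, hg⟩ := hφ'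
  have hPT : P'.map H.subtype ≤ T := by
    rintro _ ⟨x, hx, rfl⟩
    exact Subgroup.mem_subgroupOf.mp (hP'T hx)
  have hφ : conjHom (P'.map H.subtype) (g : G) ∈
      (fusionSystemOfSubgroup H T hTH).Hom (P'.map H.subtype) := by
    refine ⟨hPT, ?_, g, g.2, fun x => rfl⟩
    rintro ⟨_, x, hx, rfl⟩
    have h1 := hval ⟨x, hx⟩
    rw [Subgroup.mem_subgroupOf, hg] at h1
    exact h1
  obtain ⟨ψ, ⟨-, hψT, k, hkH, hk⟩, hψφ, hψQ⟩ := hQ.2 _ _ hφ
  have hsup : ∀ x' : ↥H, x' ∈ P' ⊔ Q.subgroupOf H → (x' : G) ∈ P'.map H.subtype ⊔ Q := by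
    intro x' hx'
    have : (x' : G) ∈ (P' ⊔ Q.subgroupOf H).map H.subtype := ⟨x', hx', rfl⟩
    rw [Subgroup.map_sup, Subgroup.map_subgroupOf_eq_of_le hQH] at this
    exact this
  refine ⟨conjHom (P' ⊔ Q.subgroupOf H) ⟨k, hkH⟩, ⟨sup_le hP'T hQ'T', ?_, ⟨k, hkH⟩, fun x => rfl⟩,
    ?_, ?_⟩
  · intro x
    rw [Subgroup.mem_subgroupOf]
    have h1 := hψT ⟨((x : ↥H) : G), hsup x x.2⟩
    rw [hk] at h1
    exact h1
  · intro x
    apply Subtype.ext
    have h1 := hψφ ⟨((x : ↥H) : G), ⟨x, x.2, rfl⟩⟩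
    rw [hk] at h1
    rw [hg]
    exact h1
  · ext y'
    constructor
    · rintro ⟨x, hx, rfl⟩
      have hx : x ∈ (Q.subgroupOf H).subgroupOf (P' ⊔ Q.subgroupOf H) := hx
      rw [Subgroup.mem_subgroupOf, Subgroup.mem_subgroupOf] at hx
      have h1 : ψ ⟨((x : ↥H) : G), hsup x x.2⟩ ∈ Q :=
        hψQ.le ⟨⟨((x : ↥H) : G), hsup x x.2⟩, Subgroup.mem_subgroupOf.mpr hx, rfl⟩
      rw [hk] at h1
      exact Subgroup.mem_subgroupOf.mpr h1
    · intro hy'
      rw [Subgroup.mem_subgroupOf] at hy'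
      obtain ⟨x, hx, hxy⟩ := hψQ.ge hy'
      have hx : x ∈ Q.subgroupOf (P'.map H.subtype ⊔ Q) := hx
      rw [Subgroup.mem_subgroupOf] at hx
      rw [hk] at hxy
      have hxQ' : (⟨(x : G), hQH hx⟩ : ↥H) ∈ Q.subgroupOf H := Subgroup.mem_subgroupOf.mpr hx
      refine ⟨⟨⟨(x : G), hQH hx⟩, (le_sup_right : Q.subgroupOf H ≤ P' ⊔ Q.subgroupOf H) hxQ'⟩,
        ?_, ?_⟩
      · exact Subgroup.mem_subgroupOf.mpr hxQ'
      · apply Subtype.ext
        exact hxy

/-- For `H` subnormal in `G`: `S ∩ H` is Sylow in `H`, and `F_{S ∩ H}(H)` is constrained as soon as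
`F_S(G)` is. -/
theorem subFS_constrained_of_isSubnormal [Finite G] {p : ℕ} [Fact p.Prime] (S : Sylow p G)
    (hF : (groupFusionSystem (S : Subgroup G)).IsConstrained p) {H : Subgroup G}
    (hH : H.IsSubnormal) :
    Cfsg.Agent.Lib.Helper18.IsSylowIn p ((S : Subgroup G) ⊓ H) H ∧
      (fusionSystemOfSubgroup H ((S : Subgroup G) ⊓ H) inf_le_right).IsConstrained p := by
  induction hH with
  | top =>
    have key : ∀ (T : Subgroup G) (hT : T = (S : Subgroup G)) (hle : T ≤ ⊤),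
        (fusionSystemOfSubgroup ⊤ T hle).IsConstrained p := by
      intro T hT hle
      subst hT
      rw [subFS_top_eq]
      exact hF
    refine ⟨?_, key _ (inf_top_eq _) _⟩
    rw [inf_top_eq]
    exact Cfsg.Agent.Lib.Helper18.isSylowIn_top_of_sylow S
  | step H K hHK hK hN ih =>
    obtain ⟨hsylK, hcK⟩ := ih
    have hKn : K ≤ Subgroup.normalizer (H : Set G) :=
      (Subgroup.normal_subgroupOf_iff_le_normalizer hHK).mp hN
    have hinf : ((S : Subgroup G) ⊓ K) ⊓ H = (S : Subgroup G) ⊓ H := by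
      rw [inf_assoc, inf_eq_right.mpr hHK]
    have hsyl : Cfsg.Agent.Lib.Helper18.IsSylowIn p ((S : Subgroup G) ⊓ H) H := by
      rw [← hinf]
      exact hsylK.inf_of_normal hHK hKn
    refine ⟨hsyl, ?_⟩
    have hSK : IsPGroup p ↥((S : Subgroup G) ⊓ K) := hsylK.isPGroup
    refine constrained_of_subsystem hSK _ hcK _ (subFS_saturated_of_isSylowIn hsyl) ?_ ?_
    · rintro P φ ⟨h1, h2, g, hg, hφ⟩
      exact ⟨h1.trans (inf_le_inf_left _ hHK), fun x => ⟨(h2 x).1, hHK (h2 x).2⟩, g, hHK hg, hφ⟩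
    · refine ⟨inf_le_inf_left _ hHK, ?_⟩
      rintro R hR φ ⟨-, h2, k, hk, hφ⟩ x
      refine ⟨(h2 x).1, ?_⟩
      rw [hφ]
      exact (Subgroup.mem_normalizer_iff.mp (hKn hk) x).mp (hR x.2).2

theorem groupFS_subgroupOf_constrained_of_isSubnormal [Finite G] {p : ℕ} [Fact p.Prime]
    (S : Sylow p G) (hF : (groupFusionSystem (S : Subgroup G)).IsConstrained p) {H : Subgroup G}
    (hH : H.IsSubnormal) :
    (groupFusionSystem ((S : Subgroup G).subgroupOf H)).IsConstrained p := by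
  obtain ⟨hsyl, -, Q, hQn, hQc⟩ := subFS_constrained_of_isSubnormal S hF hH
  rw [← Subgroup.inf_subgroupOf_right]
  refine ⟨?_, Q.subgroupOf H, groupFS_subgroupOf_isNormal _ hQn, groupFS_subgroupOf_isCentric _ hQc⟩
  obtain ⟨T', hT'⟩ := hsyl.exists_sylow
  rw [← hT']
  exact Cfsg.Agent.S5076.result p T'

end Cfsg.Agent.Lib.Helper27
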