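import Mathlib
import Cfsg.Prelude

/-!
# The type A groups: coordinates give an isomorphism
-/

set_option autoImplicit false

namespace Cfsg.Agent.Lib.Helper27.SzA

variable {F : Type*} [Field F] (φ : F →+* F)

/-- the matrices of the type A group -/
def mat (x y : F) : Matrix (Fin 3) (Fin 3) F := !![1, 0, 0; x, 1, 0; y, φ x, 1]

theorem mat_mul (x y x' y' : F) :
    mat φ x y * mat φ x' y' = mat φ (x + x') (y + y' + φ x * x') := by
  unfold mat
  ext i j
  fin_cases i <;> fin_cases j <;> simp [Matrix.mul_apply, Fin.sum_univ_three, map_add] <;> ring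

theorem mat_zero : mat φ 0 0 = 1 := by
  unfold mat
  ext i j
  fin_cases i <;> fin_cases j <;> simp

/-- the matrices as units -/
def unit (x y : F) : GL (Fin 3) F :=
  ⟨mat φ x y, mat φ (-x) (-y + φ x * x),
    by rw [mat_mul, ← mat_zero φ]; congr 1 <;> ring,
    by rw [mat_mul, ← mat_zero φ]; congr 1 <;> simp <;> ring⟩

theorem coe_unit (x y : F) : ((unit φ x y : GL (Fin 3) F) : Matrix (Fin 3) (Fin 3) F) = mat φ x y :=
  rfl

theorem unit_mul (x y x' y' : F) :
    unit φ x y * unit φ x' y' = unit φ (x + x') (y + y' + φ x * x') := by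
  apply Units.ext
  rw [Units.val_mul, coe_unit, coe_unit, coe_unit, mat_mul]

theorem unit_zero : unit φ 0 0 = 1 := by
  apply Units.ext
  rw [coe_unit, mat_zero]; rfl

theorem mat_injective {x y x' y' : F} (h : mat φ x y = mat φ x' y') : x = x' ∧ y = y' := by
  have h1 := congrFun (congrFun h 1) 0
  have h2 := congrFun (congrFun h 2) 0
  unfold mat at h1 h2
  simp at h1 h2
  exact ⟨h1, h2⟩

/-- the type A group is the set of these matrices -/
theorem mem_typeA (g : GL (Fin 3) F) :
    g ∈ Cfsg.suzukiTypeA F φ ↔ ∃ x y : F, g = unit φ x y := by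
  let T : Subgroup (GL (Fin 3) F) :=
    { carrier := {g | ∃ x y : F, g = unit φ x y}
      one_mem' := ⟨0, 0, (unit_zero φ).symm⟩
      mul_mem' := by
        rintro a b ⟨x, y, rfl⟩ ⟨x', y', rfl⟩
        exact ⟨_, _, unit_mul φ x y x' y'⟩
      inv_mem' := by
        rintro a ⟨x, y, rfl⟩
        refine ⟨-x, -y + φ x * x, ?_⟩
        apply Units.ext
        rfl }
  have hset : {g : GL (Fin 3) F | ∃ x y : F,
      (g : Matrix (Fin 3) (Fin 3) F) = !![1, 0, 0; x, 1, 0; y, φ x, 1]} = (T : Set _) := by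
    ext g
    constructor
    · rintro ⟨x, y, hg⟩
      exact ⟨x, y, Units.ext hg⟩
    · rintro ⟨x, y, rfl⟩
      exact ⟨x, y, rfl⟩
  unfold Cfsg.suzukiTypeA
  rw [hset, Subgroup.closure_eq]
  rfl

/-- coordinates with the type A cocycle give an isomorphism with the type A group -/
theorem typeA_equiv {P : Type*} [Group P] (X Y : P → F)
    (hX : ∀ p p' : P, X (p * p') = X p + X p')
    (hY : ∀ p p' : P, Y (p * p') = Y p + Y p' + φ (X p) * X p')
    (hinj : ∀ p p' : P, X p = X p' → Y p = Y p' → p = p')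
    (hsurj : ∀ x y : F, ∃ p : P, X p = x ∧ Y p = y) :
    Nonempty (P ≃* Cfsg.suzukiTypeA F φ) := by
  have hX1 : X 1 = 0 := by
    have := hX 1 1
    rw [one_mul] at this
    exact left_eq_add.mp this
  have hY1 : Y 1 = 0 := by
    have := hY 1 1
    rw [one_mul, hX1, map_zero, zero_mul, add_zero] at this
    exact left_eq_add.mp this
  let Ψ : P →* GL (Fin 3) F :=
    { toFun := fun p => unit φ (X p) (Y p)
      map_one' := by rw [hX1, hY1, unit_zero]
      map_mul' := by
        intro p p'
        rw [unit_mul, hX, hY] }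
  have hΨinj : Function.Injective Ψ := by
    intro p p' hpp
    have h1 : mat φ (X p) (Y p) = mat φ (X p') (Y p') := congrArg Units.val hpp
    obtain ⟨h2, h3⟩ := mat_injective φ h1
    exact hinj p p' h2 h3
  have hrange : Ψ.range = Cfsg.suzukiTypeA F φ := by
    ext g
    rw [mem_typeA, MonoidHom.mem_range]
    constructor
    · rintro ⟨p, rfl⟩
      exact ⟨X p, Y p, rfl⟩
    · rintro ⟨x, y, rfl⟩
      obtain ⟨p, hp1, hp2⟩ := hsurj x y
      exact ⟨p, by show unit φ (X p) (Y p) = _; rw [hp1, hp2]⟩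
  exact ⟨(MonoidHom.ofInjective hΨinj).trans (MulEquiv.subgroupCongr hrange)⟩

end Cfsg.Agent.Lib.Helper27.SzA
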