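import Mathlib
import Cfsg.Agent.Lib.Helper27.SzField5

/-!
# Coordinates over a finite field for a regular commutative group of automorphisms
-/

set_option autoImplicit false

namespace Cfsg.Agent.Lib.Helper27.SzF

variable {K : Type*} {W : Type*} [Group K] [AddCommGroup W] {a : K →* AddMonoid.End W}

/-- the field is `K` with a zero added -/
noncomputable def Reg.optEquivE (h : Reg a) : Option K ≃ h.E := by
  classical
  refine Equiv.ofBijective (fun o => match o with
    | none => (0 : h.E)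
    | some k => ⟨a k, h.a_mem_E k⟩) ⟨?_, ?_⟩
  · rintro (_ | k) (_ | k') hkk
    · rfl
    · exfalso
      have : (0 : AddMonoid.End W) = a k' := congrArg Subtype.val hkk
      exact h.a_ne_zero k' this.symm
    · exfalso
      have : a k = (0 : AddMonoid.End W) := congrArg Subtype.val hkk
      exact h.a_ne_zero k this
    · have : a k = a k' := congrArg Subtype.val hkk
      rw [h.a_injective this]
  · rintro ⟨T, hT⟩
    rcases hT with rfl | ⟨k, rfl⟩
    · exact ⟨none, rfl⟩
    · exact ⟨some k, rfl⟩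

theorem Reg.card_E (h : Reg a) : Nat.card h.E = Nat.card K + 1 := by
  haveI := h.finK
  rw [← Nat.card_congr h.optEquivE, Finite.card_option]

theorem Reg.finite_E (h : Reg a) : Finite h.E := by
  haveI := h.finK
  exact Finite.of_equiv _ h.optEquivE

/-- the field is isomorphic to any field of the same order -/
theorem Reg.exists_ringEquiv (h : Reg a) {F : Type*} [Field F] [Fintype F]
    (hcard : Fintype.card F = Nat.card K + 1) :
    ∃ θ : h.E → F, Function.Bijective θ ∧ (∀ x y : h.E, θ (x + y) = θ x + θ y) ∧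
      (∀ x y : h.E, θ (x * y) = θ x * θ y) ∧ θ 1 = 1 := by
  classical
  letI := h.commRingE
  haveI := h.E_isDomain
  haveI := h.finite_E
  letI : Fintype h.E := Fintype.ofFinite _
  letI : Field h.E := Fintype.fieldOfDomain h.E
  have hc : Fintype.card h.E = Fintype.card F := by
    rw [hcard, ← h.card_E, Nat.card_eq_fintype_card]
  let θ := FiniteField.ringEquivOfCardEq hc
  exact ⟨θ, θ.bijective, map_add θ, map_mul θ, map_one θ⟩

/-- coordinates -/
theorem Reg.exists_coord (h : Reg a) {F : Type*} [Field F] [Fintype F]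
    (hcard : Fintype.card F = Nat.card K + 1) {w₀ : W} (hw₀ : w₀ ≠ 0) :
    ∃ (ψ : W → F) (c : K → F), (∀ w w' : W, ψ (w + w') = ψ w + ψ w') ∧ Function.Bijective ψ ∧
      (∀ (k : K) (w : W), ψ (a k w) = c k * ψ w) ∧ (∀ k k' : K, c (k * k') = c k * c k') ∧
      c 1 = 1 ∧ (∀ k : K, c k ≠ 0) ∧ Function.Injective c ∧ (∀ x : F, x ≠ 0 → ∃ k : K, c k = x) ∧
      ψ w₀ = 1 := by
  obtain ⟨θ, hθb, hθa, hθm, hθ1⟩ := h.exists_ringEquiv hcard
  have hθ0 : θ 0 = 0 := by
    have := hθa 0 0
    rw [add_zero] at this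
    exact left_eq_add.mp this
  -- evaluation at `w₀`
  let ev : h.E → W := fun L => (L : AddMonoid.End W) w₀
  have hev_add : ∀ L L' : h.E, ev (L + L') = ev L + ev L' := fun L L' => rfl
  have hev_inj : Function.Injective ev := by
    intro L L' hLL
    have h1 : ((L - L' : h.E) : AddMonoid.End W) w₀ = 0 := by
      show (L : AddMonoid.End W) w₀ - (L' : AddMonoid.End W) w₀ = 0
      rw [sub_eq_zero]; exact hLL
    by_contra hne
    have h2 : ((L - L' : h.E) : AddMonoid.End W) ≠ 0 := by
      intro h0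
      apply hne
      have : L - L' = 0 := Subtype.ext h0
      exact sub_eq_zero.mp this
    exact hw₀ (h.eq_zero_of_apply_eq_zero (L - L').2 h2 h1)
  have hev_surj : Function.Surjective ev := by
    intro w
    by_cases hw : w = 0
    · exact ⟨0, by rw [hw]; rfl⟩
    · obtain ⟨k, hk⟩ := h.exists_apply_eq hw₀ hw
      exact ⟨⟨a k, h.a_mem_E k⟩, hk⟩
  let e : h.E ≃ W := Equiv.ofBijective ev ⟨hev_inj, hev_surj⟩
  have he : ∀ L : h.E, e L = (L : AddMonoid.End W) w₀ := fun L => rfl
  have hes : ∀ w : W, ((e.symm w : h.E) : AddMonoid.End W) w₀ = w := fun w => e.apply_symm_apply w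
  refine ⟨fun w => θ (e.symm w), fun k => θ ⟨a k, h.a_mem_E k⟩, ?_, ?_, ?_, ?_, ?_, ?_, ?_, ?_, ?_⟩
  · intro w w'
    show θ (e.symm (w + w')) = θ (e.symm w) + θ (e.symm w')
    rw [← hθa]
    congr 1
    apply e.injective
    rw [e.apply_symm_apply]
    show w + w' = ev (e.symm w + e.symm w')
    rw [hev_add]
    show w + w' = e (e.symm w) + e (e.symm w')
    rw [e.apply_symm_apply, e.apply_symm_apply]
  · exact hθb.comp e.symm.bijective
  · intro k w
    show θ (e.symm (a k w)) = θ ⟨a k, h.a_mem_E k⟩ * θ (e.symm w)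
    rw [← hθm]
    congr 1
    apply e.injective
    rw [e.apply_symm_apply, he]
    show a k w = a k (((e.symm w : h.E) : AddMonoid.End W) w₀)
    rw [hes]
  · intro k k'
    show θ ⟨a (k * k'), _⟩ = θ ⟨a k, _⟩ * θ ⟨a k', _⟩
    rw [← hθm]
    congr 1
    apply Subtype.ext
    show a (k * k') = a k * a k'
    rw [map_mul]
  · show θ ⟨a 1, _⟩ = 1
    rw [← hθ1]
    congr 1
    apply Subtype.ext
    show a 1 = 1
    rw [map_one]
  · intro k h0
    have h0' : θ ⟨a k, h.a_mem_E k⟩ = 0 := h0
    have : (⟨a k, h.a_mem_E k⟩ : h.E) = 0 := hθb.1 (by rw [h0', hθ0])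
    exact h.a_ne_zero k (congrArg Subtype.val this)
  · intro k k' hkk
    have : (⟨a k, h.a_mem_E k⟩ : h.E) = ⟨a k', h.a_mem_E k'⟩ := hθb.1 hkk
    exact h.a_injective (congrArg Subtype.val this)
  · intro x hx
    obtain ⟨L, rfl⟩ := hθb.2 x
    obtain ⟨T, hT⟩ := L
    rcases hT with rfl | ⟨k, rfl⟩
    · exact absurd hθ0 hx
    · exact ⟨k, rfl⟩
  · show θ (e.symm w₀) = 1
    rw [← hθ1]
    congr 1
    apply e.injective
    rw [e.apply_symm_apply, he]
    rfl

end Cfsg.Agent.Lib.Helper27.SzF
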