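import Mathlib
import Cfsg.Agent.Lib.Helper27.SzField5

/-!
# Multiplicative quadratic maps on a finite field of characteristic two
-/

set_option autoImplicit false

namespace Cfsg.Agent.Lib.Helper27.SzA

open Cfsg.Agent.Lib.Helper27.SzF

variable {F : Type*} [Field F]

/-- the multiplicative group acting on the field by multiplication -/
def mulAct (F : Type*) [Field F] : Fˣ →* AddMonoid.End F where
  toFun u := AddMonoidHom.mulLeft (u : F)
  map_one' := by
    ext x
    show ((1 : Fˣ) : F) * x = x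
    rw [Units.val_one, one_mul]
  map_mul' := by
    intro u v
    ext x
    show ((u * v : Fˣ) : F) * x = (u : F) * ((v : F) * x)
    rw [Units.val_mul, mul_assoc]

theorem mulAct_apply (u : Fˣ) (x : F) : mulAct F u x = (u : F) * x := rfl

/-- left multiplication as an endomorphism -/
def mL (c : F) : AddMonoid.End F := AddMonoidHom.mulLeft c

theorem mL_apply (c x : F) : mL c x = c * x := rfl

theorem reg_mulAct [Finite F] (h2 : ∀ x : F, x + x = 0) (hbig : ∃ x : F, x ≠ 0 ∧ x ≠ 1)
    (hodd : Odd (Nat.card Fˣ)) : Reg (mulAct F) := by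
  refine ⟨mul_comm, h2, ?_, ⟨1, one_ne_zero⟩, ?_, hodd, inferInstance⟩
  · intro w w' hw hw'
    refine ⟨Units.mk0 (w' / w) (div_ne_zero hw' hw), ?_, ?_⟩
    · show (w' / w) * w = w'
      exact div_mul_cancel₀ w' hw
    · intro u hu
      apply Units.ext
      show (u : F) = w' / w
      have : (u : F) * w = w' := hu
      rw [← this, mul_div_cancel_right₀ _ hw]
  · obtain ⟨x, hx0, hx1⟩ := hbig
    refine ⟨Units.mk0 x hx0, ?_⟩
    intro h1
    apply hx1
    have := congrArg Units.val h1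
    exact this

/-- left multiplication commutes with the projections -/
theorem proj_mulLeft [Fintype Fˣ] (m : ℕ) (c : F) (T : AddMonoid.End F) :
    proj (mulAct F) m (mL c * T) = mL c * proj (mulAct F) m T := by
  unfold proj
  rw [Finset.mul_sum]
  apply Finset.sum_congr rfl
  intro u _
  have hc : mulAct F (u ^ m)⁻¹ * mL c = mL c * mulAct F (u ^ m)⁻¹ := by
    ext x
    show (((u ^ m)⁻¹ : Fˣ) : F) * (c * x) = c * ((((u ^ m)⁻¹ : Fˣ) : F) * x)
    ring
  rw [← mul_assoc, ← mul_assoc, hc]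
  simp only [mul_assoc]

theorem proj_mul_act [Fintype Fˣ] (hR : Reg (mulAct F)) (m : ℕ) (v : Fˣ) (T : AddMonoid.End F) :
    proj (mulAct F) m (T * mulAct F v) = proj (mulAct F) m T * mulAct F v := by
  unfold proj
  rw [Finset.sum_mul]
  apply Finset.sum_congr rfl
  intro u _
  rw [mul_assoc, mul_assoc, mul_assoc, mul_assoc, hR.a_comm v u]

/-- a multiplicative map which is quadratic, but not additive, is the product of two distinct
field endomorphisms -/
theorem quad_mult [Finite F] (h2 : ∀ x : F, x + x = 0) (hbig : ∃ x : F, x ≠ 0 ∧ x ≠ 1)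
    (hodd : Odd (Nat.card Fˣ)) (τ : F → F) (B : F → F → F)
    (hτm : ∀ x y, τ (x * y) = τ x * τ y) (hτ1 : τ 1 = 1)
    (hτB : ∀ x y, τ (x + y) = τ x + τ y + B x y)
    (hB1 : ∀ x x' y, B (x + x') y = B x y + B x' y)
    (hB2 : ∀ x y y', B x (y + y') = B x y + B x y')
    (hB0 : ∃ x y, B x y ≠ 0) :
    ∃ φ₁ φ₂ : F →+* F, φ₁ ≠ φ₂ ∧ ∀ x, τ x = φ₁ x * φ₂ x := by
  classical
  haveI : Fintype Fˣ := Fintype.ofFinite _
  have hR := reg_mulAct h2 hbig hodd
  have hB00 : ∀ y, B 0 y = 0 := by
    intro y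
    have := hB1 0 0 y
    rw [add_zero] at this
    exact left_eq_add.mp this
  have hτ0 : τ 0 = 0 := by
    have := hτB 0 0
    rw [add_zero, hB00, add_zero, h2] at this
    exact this
  have hBeq : ∀ l x y, B (l * x) (l * y) = τ l * B x y := by
    intro l x y
    have h1 := hτB (l * x) (l * y)
    rw [← mul_add, hτm, hτB, hτm, hτm, mul_add, mul_add] at h1
    exact (add_left_cancel h1).symm
  -- the maps `T y`
  let T : F → AddMonoid.End F := fun y => AddMonoidHom.mk' (fun x => B x y) (fun x x' => hB1 x x' y)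
  have hT : ∀ y x, T y x = B x y := fun y x => rfl
  have hTadd : ∀ y y', T (y + y') = T y + T y' := by
    intro y y'
    ext x
    exact hB2 x y y'
  have hT0 : T 0 = 0 := by
    have := hTadd 0 0
    rw [add_zero] at this
    exact left_eq_add.mp this
  have hTtw : ∀ (u : Fˣ) y, T ((u : F) * y) =
      mL (τ u) * T y * mulAct F u⁻¹ := by
    intro u y
    ext x
    show B x ((u : F) * y) = τ u * B (((u⁻¹ : Fˣ) : F) * x) y
    rw [← hBeq]
    congr 1
    rw [← mul_assoc, ← Units.val_mul, mul_inv_cancel, Units.val_one, one_mul]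
  -- choose a nonvanishing projection
  obtain ⟨x₀, y₀, hxy₀⟩ := hB0
  have hTy₀ : T y₀ ≠ 0 := by
    intro h0
    apply hxy₀
    rw [← hT, h0]; rfl
  obtain ⟨m, hm⟩ : ∃ m : ℕ, proj (mulAct F) m (T y₀) ≠ 0 := by
    by_contra hall
    push Not at hall
    apply hTy₀
    rw [← hR.sum_proj (T y₀)]
    exact Finset.sum_eq_zero (fun m _ => hall m)
  have hSig : ∀ y, proj (mulAct F) m (T y) ∈ Sig (mulAct F) m := fun y => hR.proj_mem_Sig m (T y)
  have hS1 : proj (mulAct F) m (T y₀) 1 ≠ 0 := by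
    intro h0
    exact one_ne_zero (hR.Sig_injective (hSig y₀) hm h0)
  -- semilinearity in coordinates
  have hSu : ∀ y (u : Fˣ) (w : F), proj (mulAct F) m (T y) ((u : F) * w) =
      (u : F) ^ m * proj (mulAct F) m (T y) w := by
    intro y u w
    have := Sig_apply (hSig y) u w
    rw [mulAct_apply, mulAct_apply, Units.val_pow_eq_pow_val] at this
    exact this
  -- `m` is not zero
  have hm0 : m ≠ 0 := by
    rintro rfl
    obtain ⟨x₁, hx₁0, hx₁1⟩ := hbig
    have hx₁' : 1 + x₁ ≠ 0 := by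
      intro h0
      apply hx₁1
      have := eq_neg_of_add_eq_zero_right h0
      rw [this]
      exact (neg_eq_of_add_eq_zero_left (h2 1))
    have e1 := hSu y₀ (Units.mk0 x₁ hx₁0) 1
    have e2 := hSu y₀ (Units.mk0 (1 + x₁) hx₁') 1
    rw [pow_zero, one_mul, Units.val_mk0, mul_one] at e1 e2
    rw [map_add, e1, h2] at e2
    exact hS1 e2.symm
  have hSx : ∀ y (x : F), proj (mulAct F) m (T y) x = x ^ m * proj (mulAct F) m (T y) 1 := by
    intro y x
    by_cases hx : x = 0
    · rw [hx, map_zero, zero_pow hm0, zero_mul]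
    · have := hSu y (Units.mk0 x hx) 1
      rw [Units.val_mk0, mul_one] at this
      exact this
  -- the first endomorphism
  have hpow_add : ∀ x y : F, (x + y) ^ m = x ^ m + y ^ m := by
    intro x y
    have h1 : proj (mulAct F) m (T y₀) (x + y) =
        proj (mulAct F) m (T y₀) x + proj (mulAct F) m (T y₀) y := map_add _ x y
    rw [hSx y₀ (x + y), hSx y₀ x, hSx y₀ y, ← add_mul] at h1
    exact mul_right_cancel₀ hS1 h1
  let φ₁ : F →+* F :=
    { toFun := fun x => x ^ m
      map_one' := one_pow m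
      map_mul' := fun x y => mul_pow x y m
      map_zero' := zero_pow hm0
      map_add' := hpow_add }
  -- the second endomorphism
  let c : F → F := fun y => proj (mulAct F) m (T y) 1
  have hc_add : ∀ y y', c (y + y') = c y + c y' := by
    intro y y'
    show proj (mulAct F) m (T (y + y')) 1 = _
    rw [hTadd, proj_add]
    rfl
  have hc0 : c 0 = 0 := by
    show proj (mulAct F) m (T 0) 1 = 0
    rw [hT0, proj_zero]; rfl
  have hc_mul : ∀ x y : F, c (x * y) = τ x * (x ^ m)⁻¹ * c y := by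
    intro x y
    by_cases hx : x = 0
    · rw [hx, zero_mul, hc0, hτ0, zero_mul, zero_mul]
    · have h1 := hTtw (Units.mk0 x hx) y
      rw [Units.val_mk0] at h1
      show proj (mulAct F) m (T (x * y)) 1 = _
      rw [h1, proj_mul_act hR, proj_mulLeft]
      show τ x * proj (mulAct F) m (T y) ((((Units.mk0 x hx)⁻¹ : Fˣ) : F) * 1) = _
      rw [hSu, Units.val_inv_eq_inv_val, Units.val_mk0, inv_pow]
      show τ x * ((x ^ m)⁻¹ * c y) = _
      rw [mul_assoc]
  have hφ₂add : ∀ x x' : F, τ (x + x') * ((x + x') ^ m)⁻¹ =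
      τ x * (x ^ m)⁻¹ + τ x' * (x' ^ m)⁻¹ := by
    intro x x'
    have h1 : c ((x + x') * y₀) = c (x * y₀) + c (x' * y₀) := by
      rw [add_mul, hc_add]
    rw [hc_mul, hc_mul, hc_mul, ← add_mul] at h1
    exact mul_right_cancel₀ hS1 h1
  let φ₂ : F →+* F :=
    { toFun := fun x => τ x * (x ^ m)⁻¹
      map_one' := by rw [hτ1, one_pow, inv_one, mul_one]
      map_mul' := fun x y => by
        rw [hτm, mul_pow, mul_inv]; ring
      map_zero' := by rw [hτ0, zero_mul]
      map_add' := hφ₂add }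
  have hprod : ∀ x, τ x = φ₁ x * φ₂ x := by
    intro x
    show τ x = x ^ m * (τ x * (x ^ m)⁻¹)
    by_cases hx : x = 0
    · rw [hx, hτ0, zero_mul, mul_zero]
    · have : x ^ m ≠ 0 := pow_ne_zero m hx
      field_simp
  refine ⟨φ₁, φ₂, ?_, hprod⟩
  intro heq
  apply hxy₀
  have h1 := hτB x₀ y₀
  rw [hprod, hprod, hprod, heq, map_add] at h1
  have h3 : (φ₂ x₀ + φ₂ y₀) * (φ₂ x₀ + φ₂ y₀) =
      φ₂ x₀ * φ₂ x₀ + φ₂ y₀ * φ₂ y₀ + (φ₂ x₀ * φ₂ y₀ + φ₂ x₀ * φ₂ y₀) := by ring
  rw [h3, h2, add_zero] at h1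
  exact (left_eq_add.mp h1)

end Cfsg.Agent.Lib.Helper27.SzA
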