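import Mathlib

/-!
# A field automorphism `φ` of a finite field with `x ↦ x φ(x)` injective has odd order
-/

set_option autoImplicit false

namespace Cfsg.Agent.Lib.Helper27.SzA

open Module

/-- the fixed field of a cyclic group of automorphisms -/
theorem mem_fixed_zpowers {F : Type*} [Field F] (ψ : F ≃+* F) (x : F) :
    x ∈ FixedPoints.subfield (Subgroup.zpowers ψ) F ↔ ψ x = x := by
  constructor
  · intro hx
    exact hx ⟨ψ, Subgroup.mem_zpowers ψ⟩
  · intro hx g
    obtain ⟨g, hg⟩ := g
    have hle : Subgroup.zpowers ψ ≤ MulAction.stabilizer (F ≃+* F) x := by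
      rw [Subgroup.zpowers_le]
      exact hx
    exact hle hg

theorem card_eq_pow_zpowers {F : Type*} [Field F] [Finite F] (ψ : F ≃+* F) :
    Nat.card F = Nat.card (FixedPoints.subfield (Subgroup.zpowers ψ) F) ^ orderOf ψ := by
  haveI : Finite (F ≃+* F) :=
    Finite.of_injective (fun e : F ≃+* F => (e : F → F)) DFunLike.coe_injective
  haveI : Fintype (Subgroup.zpowers ψ) := Fintype.ofFinite _
  have h1 := FixedPoints.finrank_eq_card (Subgroup.zpowers ψ) F
  have h2 : Nat.card F = Nat.card (FixedPoints.subfield (Subgroup.zpowers ψ) F) ^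
      finrank (FixedPoints.subfield (Subgroup.zpowers ψ) F) F := Module.natCard_eq_pow_finrank
  rw [h1, ← Nat.card_eq_fintype_card, Nat.card_zpowers] at h2
  exact h2

theorem odd_orderOf_of_injective {F : Type*} [Field F] [Finite F] (φ : F ≃+* F)
    (hinj : ∀ x y : F, x ≠ 0 → y ≠ 0 → x * φ x = y * φ y → x = y) : Odd (orderOf φ) := by
  haveI : Finite (F ≃+* F) :=
    Finite.of_injective (fun e : F ≃+* F => (e : F → F)) DFunLike.coe_injective
  have step1 : ∀ x : F, φ (φ x) = x → φ x = x := by
    intro x hx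
    by_cases hx0 : x = 0
    · rw [hx0, map_zero]
    have hφx0 : φ x ≠ 0 := fun h0 => hx0 ((map_eq_zero_iff φ φ.injective).mp h0)
    have h1 : (x / φ x) * φ (x / φ x) = 1 * φ 1 := by
      rw [map_div₀, hx, map_one, mul_one]
      field_simp
    have h2 := hinj _ _ (div_ne_zero hx0 hφx0) one_ne_zero h1
    have h3 := (div_eq_one_iff_eq hφx0).mp h2
    exact h3.symm
  -- the fixed fields coincide
  have hsub : FixedPoints.subfield (Subgroup.zpowers (φ ^ 2)) F =
      FixedPoints.subfield (Subgroup.zpowers φ) F := by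
    ext x
    rw [mem_fixed_zpowers, mem_fixed_zpowers]
    constructor
    · intro hx
      apply step1
      have : (φ ^ 2) x = φ (φ x) := by rw [pow_two]; rfl
      rw [← this]; exact hx
    · intro hx
      have : (φ ^ 2) x = φ (φ x) := by rw [pow_two]; rfl
      rw [this, hx, hx]
  have h1 := card_eq_pow_zpowers φ
  have h2 := card_eq_pow_zpowers (φ ^ 2)
  rw [hsub, h1] at h2
  have hL : 1 < Nat.card (FixedPoints.subfield (Subgroup.zpowers φ) F) := Finite.one_lt_card
  have h3 := Nat.pow_right_injective hL h2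
  have hpos : 0 < orderOf φ := orderOf_pos φ
  rw [orderOf_pow' φ (by norm_num : (2 : ℕ) ≠ 0)] at h3
  -- `r = r / gcd r 2`
  have hg : Nat.gcd (orderOf φ) 2 = 1 := by
    rcases Nat.div_eq_self.mp h3.symm with h0 | h1
    · omega
    · exact h1
  exact Nat.coprime_two_right.mp hg

end Cfsg.Agent.Lib.Helper27.SzA
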