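import Mathlib
import Cfsg.Agent.Lib.Helper27.SzMain
import Cfsg.Agent.Lib.Helper27.SzA2

/-!
# Suzuki 2-groups of order `q²`: the quotient by the involutions as a regular module
-/

set_option autoImplicit false

namespace Cfsg.Agent.Lib.Helper27.Sz

open scoped commutatorElement
open Cfsg.Agent.Lib.Helper27.SzF

variable {K : Type*} {P : Type*} [Group K] [Group P] {ρ : K →* MulAut P}

/-- all commutators are involutions -/
class CommMod (P : Type*) [Group P] : Prop where
  comm : ∀ x y : P, ⁅x, y⁆ ∈ Vs P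

instance quot_commGroup [CommMod P] : CommGroup (P ⧸ Vs P) :=
  { (inferInstance : Group (P ⧸ Vs P)) with
    mul_comm := by
      intro a b
      obtain ⟨x, rfl⟩ := QuotientGroup.mk_surjective a
      obtain ⟨y, rfl⟩ := QuotientGroup.mk_surjective b
      rw [← QuotientGroup.mk_mul, ← QuotientGroup.mk_mul]
      apply QuotientGroup.eq.mpr
      have h1 : (x * y)⁻¹ * (y * x) = ⁅y⁻¹, x⁻¹⁆ := by
        rw [commutatorElement_def]; group
      rw [h1]
      exact CommMod.comm _ _ }

/-- the class of an element, written additively -/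
def cls [CommMod P] (p : P) : Additive (P ⧸ Vs P) := Additive.ofMul (p : P ⧸ Vs P)

theorem cls_mul [CommMod P] (p p' : P) : cls (p * p') = cls p + cls p' := rfl

theorem cls_eq_zero_iff [CommMod P] (p : P) : cls p = 0 ↔ p ∈ Vs P := by
  constructor
  · intro h0
    have : (p : P ⧸ Vs P) = 1 := h0
    exact (QuotientGroup.eq_one_iff p).mp this
  · intro hp
    have : (p : P ⧸ Vs P) = 1 := (QuotientGroup.eq_one_iff p).mpr hp
    exact this

theorem cls_surjective [CommMod P] : Function.Surjective (cls : P → Additive (P ⧸ Vs P)) := by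
  intro w
  obtain ⟨p, hp⟩ := QuotientGroup.mk_surjective (Additive.toMul w)
  exact ⟨p, by unfold cls; rw [hp]; rfl⟩

theorem cls_eq_iff [CommMod P] (p p' : P) : cls p = cls p' ↔ p⁻¹ * p' ∈ Vs P := by
  constructor
  · intro h0
    have : (p : P ⧸ Vs P) = (p' : P ⧸ Vs P) := h0
    exact QuotientGroup.eq.mp this
  · intro hp
    have : (p : P ⧸ Vs P) = (p' : P ⧸ Vs P) := QuotientGroup.eq.mpr hp
    exact this

/-- the action on the quotient, written additively -/
noncomputable def aM [CommMod P] (ρ : K →* MulAut P) :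
    K →* AddMonoid.End (Additive (P ⧸ Vs P)) where
  toFun k := MonoidHom.toAdditive ((quotAct ρ (Vs P) (inv_Vs ρ) k : MulAut (P ⧸ Vs P)).toMonoidHom)
  map_one' := by
    apply AddMonoidHom.ext
    intro w
    obtain ⟨p, rfl⟩ := cls_surjective w
    show Additive.ofMul (quotAct ρ (Vs P) (inv_Vs ρ) 1 (p : P ⧸ Vs P)) = cls p
    rw [map_one]; rfl
  map_mul' := by
    intro k k'
    apply AddMonoidHom.ext
    intro w
    obtain ⟨p, rfl⟩ := cls_surjective w
    show Additive.ofMul (quotAct ρ (Vs P) (inv_Vs ρ) (k * k') (p : P ⧸ Vs P)) =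
      Additive.ofMul (quotAct ρ (Vs P) (inv_Vs ρ) k (quotAct ρ (Vs P) (inv_Vs ρ) k' (p : P ⧸ Vs P)))
    rw [map_mul]; rfl

theorem aM_cls [CommMod P] (k : K) (p : P) : aM ρ k (cls p) = cls (ρ k p) := by
  show Additive.ofMul (quotAct ρ (Vs P) (inv_Vs ρ) k (p : P ⧸ Vs P)) = cls (ρ k p)
  rw [quotAct_mk]; rfl

/-- the regular action on the quotient, when the order is `q²` -/
theorem Suz.reg_aM [CommMod P] (h : Suz ρ) (hsq : ∀ x : P, x * x ∈ Vs P)
    (hcard : Nat.card P = (Nat.card K + 1) ^ 2) : Reg (aM ρ) := by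
  haveI := h.fin
  haveI := h.finite_K
  have hfpf : ∀ (k : K) (p : P), aM ρ k (cls p) = cls p → p ∉ Vs P → k = 1 := by
    intro k p hkp hp
    by_contra hk
    apply hp
    apply h.fpf_quot (inv_Vs ρ) hk
    rw [aM_cls] at hkp
    rw [quotAct_mk]
    exact hkp
  -- an element outside the involutions
  obtain ⟨p₀, hp₀⟩ : ∃ p₀ : P, p₀ ∉ Vs P := by
    by_contra hall
    push Not at hall
    have h1 : Vs P = ⊤ := (Subgroup.eq_top_iff' _).mpr hall
    have h2 : Nat.card (Vs P) = Nat.card P := by rw [h1, Subgroup.card_top]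
    rw [h.card_Vs, hcard] at h2
    have : 2 ≤ Nat.card K + 1 := by
      have := Nat.card_pos (α := K)
      omega
    nlinarith
  have hm₀ : cls p₀ ≠ 0 := fun h0 => hp₀ ((cls_eq_zero_iff p₀).mp h0)
  -- the orbit map
  let f : Option K → Additive (P ⧸ Vs P) := fun o => match o with
    | none => 0
    | some k => aM ρ k (cls p₀)
  have hf_inj : Function.Injective f := by
    rintro (_ | k) (_ | k') hkk
    · rfl
    · exfalso
      have h1 : (0 : Additive (P ⧸ Vs P)) = aM ρ k' (cls p₀) := hkk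
      rw [aM_cls] at h1
      have h2 := (cls_eq_zero_iff _).mp h1.symm
      exact hp₀ ((inv_Vs ρ).apply_mem_iff k' p₀ |>.mp h2)
    · exfalso
      have h1 : aM ρ k (cls p₀) = (0 : Additive (P ⧸ Vs P)) := hkk
      rw [aM_cls] at h1
      have h2 := (cls_eq_zero_iff _).mp h1
      exact hp₀ ((inv_Vs ρ).apply_mem_iff k p₀ |>.mp h2)
    · have h1 : aM ρ k (cls p₀) = aM ρ k' (cls p₀) := hkk
      have h2 : aM ρ (k'⁻¹ * k) (cls p₀) = cls p₀ := by
        rw [map_mul, mul_apply', h1, ← mul_apply', ← map_mul, inv_mul_cancel, map_one]; rfl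
      have h3 := hfpf _ _ h2 hp₀
      rw [inv_mul_eq_one.mp h3]
  have hcardM : Nat.card (Additive (P ⧸ Vs P)) = Nat.card K + 1 := by
    have h1 : Nat.card (Additive (P ⧸ Vs P)) = Nat.card (P ⧸ Vs P) := Nat.card_congr Additive.toMul
    have h2 := (Vs P).card_mul_index
    rw [h.card_Vs, hcard, Subgroup.index_eq_card] at h2
    have hpos : 0 < Nat.card K + 1 := by omega
    rw [h1]
    have h3 : (Nat.card K + 1) * Nat.card (P ⧸ Vs P) = (Nat.card K + 1) * (Nat.card K + 1) := by
      rw [h2]; ring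
    exact Nat.eq_of_mul_eq_mul_left hpos h3
  have hf_bij : Function.Bijective f := by
    apply hf_inj.bijective_of_nat_card_le
    rw [hcardM, Finite.card_option]
  have horbit : ∀ w : Additive (P ⧸ Vs P), w ≠ 0 → ∃ k : K, aM ρ k (cls p₀) = w := by
    intro w hw
    obtain ⟨o, ho⟩ := hf_bij.2 w
    rcases o with _ | k
    · exact absurd ho.symm hw
    · exact ⟨k, ho⟩
  refine ⟨h.comm, ?_, ?_, ⟨cls p₀, hm₀⟩, h.reg_aV.big, h.card_K_odd, h.finite_K⟩
  · intro w
    obtain ⟨p, rfl⟩ := cls_surjective w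
    rw [← cls_mul]
    exact (cls_eq_zero_iff _).mpr (hsq p)
  · intro w w' hw hw'
    obtain ⟨k₁, rfl⟩ := horbit w hw
    obtain ⟨k₂, rfl⟩ := horbit w' hw'
    refine ⟨k₂ * k₁⁻¹, ?_, ?_⟩
    · show aM ρ (k₂ * k₁⁻¹) (aM ρ k₁ (cls p₀)) = aM ρ k₂ (cls p₀)
      rw [← mul_apply', ← map_mul, inv_mul_cancel_right]
    · intro k hk
      have hk' : aM ρ k (aM ρ k₁ (cls p₀)) = aM ρ k₂ (cls p₀) := hk
      rw [← mul_apply', ← map_mul] at hk'
      have := hf_inj (a₁ := some (k * k₁)) (a₂ := some k₂) hk'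
      have h4 : k * k₁ = k₂ := Option.some_injective _ this
      rw [← h4, mul_inv_cancel_right]

end Cfsg.Agent.Lib.Helper27.Sz
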