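import Mathlib
import Cfsg.Agent.Lib.Helper27.SzA5

/-!
# Suzuki 2-groups of order `q²`: coordinates over a finite field
-/

set_option autoImplicit false

namespace Cfsg.Agent.Lib.Helper27.Sz

open scoped commutatorElement
open Cfsg.Agent.Lib.Helper27.SzF

variable {K : Type*} {P : Type*} [Group K] [Group P]

/-- coordinates on the quotient by the involutions and on the involutions -/
structure Coords (ρ : K →* MulAut P) (F : Type*) [Field F] where
  X : P → F
  J : P → F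
  cM : K → F
  cV : K → F
  p₀ : P
  X_mul : ∀ p p' : P, X (p * p') = X p + X p'
  X_zero_iff : ∀ p : P, X p = 0 ↔ p ∈ Vs P
  X_surj : Function.Surjective X
  X_act : ∀ (k : K) (p : P), X (ρ k p) = cM k * X p
  J_mul : ∀ v ∈ Vs P, ∀ v' ∈ Vs P, J (v * v') = J v + J v'
  J_inj : ∀ v ∈ Vs P, J v = 0 → v = 1
  J_surj : ∀ y : F, ∃ v ∈ Vs P, J v = y
  J_act : ∀ (k : K), ∀ v ∈ Vs P, J (ρ k v) = cV k * J v
  cM_mul : ∀ k k' : K, cM (k * k') = cM k * cM k'
  cM_one : cM 1 = 1
  cM_ne : ∀ k : K, cM k ≠ 0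
  cM_inj : Function.Injective cM
  cM_surj : ∀ x : F, x ≠ 0 → ∃ k : K, cM k = x
  cV_mul : ∀ k k' : K, cV (k * k') = cV k * cV k'
  cV_one : cV 1 = 1
  cV_ne : ∀ k : K, cV k ≠ 0
  cV_inj : Function.Injective cV
  cV_surj : ∀ x : F, x ≠ 0 → ∃ k : K, cV k = x
  X_p₀ : X p₀ = 1
  J_p₀ : J (p₀ * p₀) = 1

variable {ρ : K →* MulAut P}

/-- existence of coordinates -/
theorem Suz.exists_coords [CommMod P] (h : Suz ρ) (hsq : ∀ x : P, x * x ∈ Vs P)
    (hcard : Nat.card P = (Nat.card K + 1) ^ 2) {F : Type*} [Field F] [Fintype F]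
    (hF : Fintype.card F = Nat.card K + 1) : Nonempty (Coords ρ F) := by
  classical
  have hRM := h.reg_aM hsq hcard
  have hRV := h.reg_aV
  obtain ⟨m₀, hm₀⟩ := hRM.ne
  obtain ⟨p₀, rfl⟩ := cls_surjective m₀
  have hp₀ : p₀ ∉ Vs P := fun h0 => hm₀ ((cls_eq_zero_iff p₀).mpr h0)
  have hp₀sq : p₀ * p₀ ≠ 1 := fun h0 => hp₀ (h.mem_Vs_iff.mpr h0)
  have hw₀ : mkV (p₀ * p₀) (hsq p₀) ≠ 0 := by
    intro h0
    exact hp₀sq (congrArg val h0)
  obtain ⟨ψM, cM, hMadd, hMbij, hMact, hcMmul, hcM1, hcMne, hcMinj, hcMsurj, hMw⟩ :=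
    hRM.exists_coord hF hm₀
  obtain ⟨ψV, cV, hVadd, hVbij, hVact, hcVmul, hcV1, hcVne, hcVinj, hcVsurj, hVw⟩ :=
    hRV.exists_coord hF hw₀
  have hψM0 : ψM 0 = 0 := by
    have := hMadd 0 0
    rw [add_zero] at this
    exact left_eq_add.mp this
  have hψV0 : ψV 0 = 0 := by
    have := hVadd 0 0
    rw [add_zero] at this
    exact left_eq_add.mp this
  refine ⟨{
    X := fun p => ψM (cls p)
    J := fun v => if hv : v ∈ Vs P then ψV (mkV v hv) else 0
    cM := cM
    cV := cV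
    p₀ := p₀
    X_mul := fun p p' => by rw [cls_mul, hMadd]
    X_zero_iff := fun p => by
      rw [← cls_eq_zero_iff]
      constructor
      · intro h0
        exact hMbij.1 (by rw [h0, hψM0])
      · intro h0
        rw [h0, hψM0]
    X_surj := fun x => by
      obtain ⟨w, hw⟩ := hMbij.2 x
      obtain ⟨p, rfl⟩ := cls_surjective w
      exact ⟨p, hw⟩
    X_act := fun k p => by rw [← aM_cls, hMact]
    J_mul := fun v hv v' hv' => by
      rw [dif_pos hv, dif_pos hv', dif_pos ((Vs P).mul_mem hv hv'), ← hVadd]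
      rfl
    J_inj := fun v hv h0 => by
      rw [dif_pos hv] at h0
      have : mkV v hv = 0 := hVbij.1 (by rw [h0, hψV0])
      exact congrArg val this
    J_surj := fun y => by
      obtain ⟨w, hw⟩ := hVbij.2 y
      refine ⟨val w, val_mem w, ?_⟩
      rw [dif_pos (val_mem w)]
      exact hw
    J_act := fun k v hv => by
      rw [dif_pos hv, dif_pos (apply_mem_Vs _ hv), ← hVact]
      rfl
    cM_mul := hcMmul
    cM_one := hcM1
    cM_ne := hcMne
    cM_inj := hcMinj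
    cM_surj := hcMsurj
    cV_mul := hcVmul
    cV_one := hcV1
    cV_ne := hcVne
    cV_inj := hcVinj
    cV_surj := hcVsurj
    X_p₀ := hMw
    J_p₀ := by
      rw [dif_pos (hsq p₀)]
      exact hVw }⟩

end Cfsg.Agent.Lib.Helper27.Sz
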