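import Mathlib
import Cfsg.Agent.Lib.Helper27.SzA6

/-!
# Suzuki 2-groups of order `q²`: the squaring and commutator maps in coordinates
-/

set_option autoImplicit false

namespace Cfsg.Agent.Lib.Helper27.Sz

open scoped commutatorElement
open Cfsg.Agent.Lib.Helper27.SzF

variable {K : Type*} {P : Type*} [Group K] [Group P] {ρ : K →* MulAut P}
variable {F : Type*} [Field F] (c : Coords ρ F)

theorem Coords.X_one : c.X 1 = 0 := by
  have := c.X_mul 1 1
  rw [one_mul] at this
  exact left_eq_add.mp this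

theorem Coords.X_inv (p : P) : c.X p⁻¹ = - c.X p := by
  have := c.X_mul p p⁻¹
  rw [mul_inv_cancel, c.X_one] at this
  exact (neg_eq_of_add_eq_zero_right this.symm).symm

theorem Coords.J_one : c.J 1 = 0 := by
  have := c.J_mul 1 (Vs P).one_mem 1 (Vs P).one_mem
  rw [one_mul] at this
  exact left_eq_add.mp this

theorem Coords.X_eq_iff (p p' : P) : c.X p = c.X p' ↔ p⁻¹ * p' ∈ Vs P := by
  rw [← c.X_zero_iff, c.X_mul, c.X_inv]
  constructor
  · intro h; rw [h, neg_add_cancel]
  · intro h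
    have := eq_neg_of_add_eq_zero_right h
    rw [this, neg_neg]

/-- a lift of a coordinate -/
noncomputable def Coords.lift (x : F) : P := Classical.choose (c.X_surj x)

theorem Coords.X_lift (x : F) : c.X (c.lift x) = x := Classical.choose_spec (c.X_surj x)

/-- the squaring map in coordinates -/
noncomputable def Coords.S (x : F) : F := c.J (c.lift x * c.lift x)

/-- the commutator map in coordinates -/
noncomputable def Coords.B (x y : F) : F := c.J ⁅c.lift x, c.lift y⁆

theorem Coords.exists_eq_mul (p : P) : ∃ z ∈ Vs P, c.lift (c.X p) = p * z := by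
  have h1 : c.X p = c.X (c.lift (c.X p)) := (c.X_lift _).symm
  rw [c.X_eq_iff] at h1
  exact ⟨_, h1, by group⟩

theorem Coords.J_sq (p : P) : c.J (p * p) = c.S (c.X p) := by
  obtain ⟨z, hz, hpz⟩ := c.exists_eq_mul p
  unfold Coords.S
  rw [hpz]
  have h1 : z * p = p * z := (comm_of_mem_Vs hz p).symm
  have h2 : p * z * (p * z) = p * p := by
    calc p * z * (p * z) = p * (z * p) * z := by group
      _ = p * (p * z) * z := by rw [h1]
      _ = p * p * (z * z) := by group
      _ = p * p := by rw [hz.2, mul_one]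
  rw [h2]

theorem Coords.J_comm (p p' : P) : c.J ⁅p, p'⁆ = c.B (c.X p) (c.X p') := by
  obtain ⟨z, hz, hpz⟩ := c.exists_eq_mul p
  obtain ⟨z', hz', hpz'⟩ := c.exists_eq_mul p'
  unfold Coords.B
  rw [hpz, hpz', comm_mul_central_left hz.1, comm_mul_central_right hz'.1]

section props

variable [CommMod P] (h : Suz ρ) (hsq : ∀ x : P, x * x ∈ Vs P)
include h hsq

theorem Coords.S_act (k : K) (x : F) : c.S (c.cM k * x) = c.cV k * c.S x := by
  have h1 : c.X (ρ k (c.lift x)) = c.cM k * x := by rw [c.X_act, c.X_lift]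
  rw [← h1, ← c.J_sq, ← map_mul, c.J_act k _ (hsq _), c.J_sq, c.X_lift]

theorem Coords.S_add (x x' : F) : c.S (x + x') = c.S x + c.S x' + c.B x' x := by
  have h1 : c.X (c.lift x * c.lift x') = x + x' := by rw [c.X_mul, c.X_lift, c.X_lift]
  have hc : ⁅c.lift x', c.lift x⁆ ∈ Vs P := CommMod.comm _ _
  rw [← h1, ← c.J_sq, sq_mul_of_comm_central hc.1,
    c.J_mul _ ((Vs P).mul_mem hc (hsq _)) _ (hsq _), c.J_mul _ hc _ (hsq _), c.J_sq, c.J_sq,
    c.J_comm, c.X_lift, c.X_lift]
  ring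

theorem Coords.B_add_left (x x' y : F) : c.B (x + x') y = c.B x y + c.B x' y := by
  have h1 : c.X (c.lift x * c.lift x') = x + x' := by rw [c.X_mul, c.X_lift, c.X_lift]
  have hc : ⁅c.lift x', c.lift y⁆ ∈ Vs P := CommMod.comm _ _
  have hc' : ⁅c.lift x, c.lift y⁆ ∈ Vs P := CommMod.comm _ _
  have h2 : c.B (x + x') y = c.J ⁅c.lift x * c.lift x', c.lift y⁆ := by
    rw [c.J_comm, h1, c.X_lift]
  rw [h2, comm_mul_left_of_central hc.1, c.J_mul _ hc' _ hc, c.J_comm, c.J_comm, c.X_lift,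
    c.X_lift, c.X_lift]

theorem Coords.B_add_right (x y y' : F) : c.B x (y + y') = c.B x y + c.B x y' := by
  have h1 : c.X (c.lift y * c.lift y') = y + y' := by rw [c.X_mul, c.X_lift, c.X_lift]
  have hc : ⁅c.lift x, c.lift y'⁆ ∈ Vs P := CommMod.comm _ _
  have hc' : ⁅c.lift x, c.lift y⁆ ∈ Vs P := CommMod.comm _ _
  have h2 : c.B x (y + y') = c.J ⁅c.lift x, c.lift y * c.lift y'⁆ := by
    rw [c.J_comm, h1, c.X_lift]
  rw [h2, comm_mul_right_of_central hc.1, c.J_mul _ hc' _ hc, c.J_comm, c.J_comm, c.X_lift,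
    c.X_lift, c.X_lift]

theorem Coords.S_zero_iff (x : F) : c.S x = 0 ↔ x = 0 := by
  constructor
  · intro h0
    have h1 : c.J (c.lift x * c.lift x) = 0 := h0
    have h2 := c.J_inj _ (hsq _) h1
    have h3 : c.lift x ∈ Vs P := h.mem_Vs_iff.mpr h2
    rw [← c.X_lift x]
    exact (c.X_zero_iff _).mpr h3
  · intro h0
    have h1 : c.lift x ∈ Vs P := by
      rw [← c.X_zero_iff, c.X_lift]; exact h0
    show c.J (c.lift x * c.lift x) = 0
    rw [h1.2, c.J_one]

theorem Coords.S_one : c.S 1 = 1 := by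
  have h1 : c.S (c.X c.p₀) = 1 := by rw [← c.J_sq, c.J_p₀]
  rwa [c.X_p₀] at h1

theorem Coords.S_cM (k : K) : c.S (c.cM k) = c.cV k := by
  have := c.S_act h hsq k 1
  rw [mul_one, c.S_one h hsq, mul_one] at this
  exact this

theorem Coords.S_zero : c.S 0 = 0 := (c.S_zero_iff h hsq 0).mpr rfl

theorem Coords.S_mul (x y : F) : c.S (x * y) = c.S x * c.S y := by
  by_cases hx : x = 0
  · rw [hx, zero_mul, c.S_zero h hsq, zero_mul]
  · obtain ⟨k, rfl⟩ := c.cM_surj x hx
    rw [c.S_act h hsq, c.S_cM h hsq]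

theorem Coords.S_injective : Function.Injective c.S := by
  intro x y hxy
  by_cases hx : x = 0
  · rw [hx, c.S_zero h hsq] at hxy
    rw [hx, (c.S_zero_iff h hsq y).mp hxy.symm]
  · have hy : y ≠ 0 := by
      intro hy
      rw [hy, c.S_zero h hsq] at hxy
      exact hx ((c.S_zero_iff h hsq x).mp hxy)
    obtain ⟨k, rfl⟩ := c.cM_surj x hx
    obtain ⟨k', rfl⟩ := c.cM_surj y hy
    rw [c.S_cM h hsq, c.S_cM h hsq] at hxy
    rw [c.cV_inj hxy]

theorem Coords.B_ne (hna : ∃ x y : P, x * y ≠ y * x) : ∃ x y : F, c.B x y ≠ 0 := by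
  obtain ⟨p, p', hpp⟩ := hna
  refine ⟨c.X p, c.X p', ?_⟩
  rw [← c.J_comm]
  intro h0
  have h1 := c.J_inj _ (CommMod.comm p p') h0
  exact hpp (commutatorElement_eq_one_iff_commute.mp h1).eq

end props

end Cfsg.Agent.Lib.Helper27.Sz
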