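import Mathlib
import Cfsg.Agent.Lib.Helper27.SzA7
import Cfsg.Agent.Lib.Helper27.SzA1
import Cfsg.Agent.Lib.Helper27.SzA3
import Cfsg.Agent.Lib.Helper27.SzA4

/-!
# Suzuki 2-groups of order `q²` are of type A
-/

set_option autoImplicit false

namespace Cfsg.Agent.Lib.Helper27.Sz

open scoped commutatorElement
open Cfsg.Agent.Lib.Helper27.SzF Cfsg.Agent.Lib.Helper27.SzA

variable {K : Type*} {P : Type*} [Group K] [Group P] {ρ : K →* MulAut P}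

/-- the product of three conjugates used to define the second coordinate -/
def omg (ρ : K →* MulAut P) (k₁ k₂ k₃ : K) (p : P) : P := ρ k₁ p * ρ k₂ p * (ρ k₃ p)⁻¹

theorem omg_mul [CommMod P] (k₁ k₂ k₃ : K) (p p' : P)
    (hu : omg ρ k₁ k₂ k₃ p' ∈ Subgroup.center P) :
    omg ρ k₁ k₂ k₃ (p * p') = ⁅ρ k₁ p', ρ k₂ p⁆ * omg ρ k₁ k₂ k₃ p * omg ρ k₁ k₂ k₃ p' := by
  have hc : ⁅ρ k₁ p', ρ k₂ p⁆ ∈ Subgroup.center P := (CommMod.comm _ _).1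
  have h1 : ∀ t : P, t * ⁅ρ k₁ p', ρ k₂ p⁆ = ⁅ρ k₁ p', ρ k₂ p⁆ * t := Subgroup.mem_center_iff.mp hc
  have h2 : ∀ t : P, t * omg ρ k₁ k₂ k₃ p' = omg ρ k₁ k₂ k₃ p' * t := Subgroup.mem_center_iff.mp hu
  have h3 : ρ k₁ p' * ρ k₂ p = ⁅ρ k₁ p', ρ k₂ p⁆ * (ρ k₂ p * ρ k₁ p') := by
    rw [commutatorElement_def]; group
  calc omg ρ k₁ k₂ k₃ (p * p')
      = ρ k₁ p * (ρ k₁ p' * ρ k₂ p) * ρ k₂ p' * (ρ k₃ p')⁻¹ * (ρ k₃ p)⁻¹ := by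
        unfold omg; rw [map_mul, map_mul, map_mul]; group
    _ = ρ k₁ p * (⁅ρ k₁ p', ρ k₂ p⁆ * (ρ k₂ p * ρ k₁ p')) * ρ k₂ p' * (ρ k₃ p')⁻¹ *
          (ρ k₃ p)⁻¹ := by rw [h3]
    _ = (ρ k₁ p * ⁅ρ k₁ p', ρ k₂ p⁆) * ρ k₂ p * (ρ k₁ p' * ρ k₂ p' * (ρ k₃ p')⁻¹) *
          (ρ k₃ p)⁻¹ := by group
    _ = (⁅ρ k₁ p', ρ k₂ p⁆ * ρ k₁ p) * ρ k₂ p * omg ρ k₁ k₂ k₃ p' * (ρ k₃ p)⁻¹ := by
        rw [h1]; rfl
    _ = ⁅ρ k₁ p', ρ k₂ p⁆ * (ρ k₁ p * ρ k₂ p * omg ρ k₁ k₂ k₃ p') * (ρ k₃ p)⁻¹ := by group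
    _ = ⁅ρ k₁ p', ρ k₂ p⁆ * (omg ρ k₁ k₂ k₃ p' * (ρ k₁ p * ρ k₂ p)) * (ρ k₃ p)⁻¹ := by rw [h2]
    _ = ⁅ρ k₁ p', ρ k₂ p⁆ * (omg ρ k₁ k₂ k₃ p' * (ρ k₁ p * ρ k₂ p * (ρ k₃ p)⁻¹)) := by group
    _ = ⁅ρ k₁ p', ρ k₂ p⁆ * (omg ρ k₁ k₂ k₃ p' * omg ρ k₁ k₂ k₃ p) := rfl
    _ = ⁅ρ k₁ p', ρ k₂ p⁆ * (omg ρ k₁ k₂ k₃ p * omg ρ k₁ k₂ k₃ p') := by rw [← h2]
    _ = ⁅ρ k₁ p', ρ k₂ p⁆ * omg ρ k₁ k₂ k₃ p * omg ρ k₁ k₂ k₃ p' := by group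

/-- **Higman**: a nonabelian Suzuki 2-group of order `q²` is of type A -/
theorem Suz.typeA [CommMod P] (h : Suz ρ) (hsq : ∀ x : P, x * x ∈ Vs P)
    (hna : ∃ x y : P, x * y ≠ y * x) (hcard : Nat.card P = (Nat.card K + 1) ^ 2)
    {F : Type*} [Field F] [Fintype F] (hF : Fintype.card F = Nat.card K + 1)
    (h2 : ∀ x : F, x + x = 0) :
    ∃ φ : F ≃+* F, φ ≠ RingEquiv.refl F ∧ Odd (orderOf φ) ∧
      Nonempty (P ≃* Cfsg.suzukiTypeA F (φ : F →+* F)) := by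
  obtain ⟨c⟩ := h.exists_coords hsq hcard hF
  have hneg : ∀ x : F, -x = x := fun x => neg_eq_of_add_eq_zero_left (h2 x)
  obtain ⟨k₀, hk₀⟩ := h.reg_aV.big
  have hbig : ∃ x : F, x ≠ 0 ∧ x ≠ 1 :=
    ⟨c.cM k₀, c.cM_ne k₀, fun h1 => hk₀ (c.cM_inj (by rw [h1, c.cM_one]))⟩
  have hodd : Odd (Nat.card Fˣ) := by
    rw [Nat.card_units, Nat.card_eq_fintype_card, hF, Nat.add_sub_cancel]
    exact h.card_K_odd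
  obtain ⟨φ₁, φ₂, hne, hprod⟩ := quad_mult h2 hbig hodd c.S (fun x y => c.B y x)
    (c.S_mul h hsq) (c.S_one h hsq) (fun x y => c.S_add h hsq x y)
    (fun x x' y => c.B_add_right h hsq y x x') (fun x y y' => c.B_add_left h hsq y y' x)
    (by obtain ⟨x, y, hxy⟩ := c.B_ne h hsq hna; exact ⟨y, x, hxy⟩)
  -- the commutator form
  have hB : ∀ x y : F, c.B y x = φ₁ x * φ₂ y + φ₂ x * φ₁ y := by
    intro x y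
    have h1 := c.S_add h hsq x y
    rw [hprod, hprod, hprod, map_add, map_add] at h1
    have h3 : c.B y x = (φ₁ x + φ₁ y) * (φ₂ x + φ₂ y) - (φ₁ x * φ₂ x + φ₁ y * φ₂ y) := by
      rw [h1]; ring
    rw [h3]; ring
  -- the three elements of `K`
  obtain ⟨y₁, x₁, hβ⟩ := c.B_ne h hsq hna
  have hβ' : φ₁ x₁ * φ₂ y₁ + φ₂ x₁ * φ₁ y₁ ≠ 0 := by rw [← hB]; exact hβ
  have hx₁ : x₁ ≠ 0 := by
    rintro rfl
    apply hβ'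
    rw [map_zero, map_zero, zero_mul, zero_mul, add_zero]
  have hy₁ : y₁ ≠ 0 := by
    rintro rfl
    apply hβ'
    rw [map_zero, map_zero, mul_zero, mul_zero, add_zero]
  have hxy₁ : x₁ + y₁ ≠ 0 := by
    intro h0
    apply hβ'
    have : y₁ = x₁ := by
      have := eq_neg_of_add_eq_zero_right h0
      rw [this, hneg]
    rw [this, mul_comm (φ₂ x₁) (φ₁ x₁)]
    exact h2 _
  obtain ⟨k₁, hk₁⟩ := c.cM_surj x₁ hx₁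
  obtain ⟨k₂, hk₂⟩ := c.cM_surj y₁ hy₁
  obtain ⟨k₃, hk₃⟩ := c.cM_surj (x₁ + y₁) hxy₁
  have hβ₀ : c.cV k₁ + c.cV k₂ + c.cV k₃ = c.B y₁ x₁ := by
    have h1 := c.S_add h hsq x₁ y₁
    rw [← hk₃, ← hk₁, ← hk₂, c.S_cM h hsq, c.S_cM h hsq, c.S_cM h hsq, hk₁, hk₂] at h1
    rw [h1]
    linear_combination h2 (c.cV k₁) + h2 (c.cV k₂)
  -- the product of three conjugates
  have hωV : ∀ p : P, omg ρ k₁ k₂ k₃ p ∈ Vs P := by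
    intro p
    rw [← c.X_zero_iff]
    unfold omg
    rw [c.X_mul, c.X_mul, c.X_inv, c.X_act, c.X_act, c.X_act, hk₁, hk₂, hk₃]
    ring
  have hωz : ∀ z ∈ Vs P, c.J (omg ρ k₁ k₂ k₃ z) = c.B y₁ x₁ * c.J z := by
    intro z hz
    unfold omg
    rw [inv_eq_of_mem_Vs (apply_mem_Vs _ hz),
      c.J_mul _ ((Vs P).mul_mem (apply_mem_Vs _ hz) (apply_mem_Vs _ hz)) _ (apply_mem_Vs _ hz),
      c.J_mul _ (apply_mem_Vs _ hz) _ (apply_mem_Vs _ hz), c.J_act _ _ hz, c.J_act _ _ hz,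
      c.J_act _ _ hz, ← hβ₀]
    ring
  have hωmul : ∀ p p' : P, c.J (omg ρ k₁ k₂ k₃ (p * p')) =
      c.B (x₁ * c.X p') (y₁ * c.X p) + c.J (omg ρ k₁ k₂ k₃ p) + c.J (omg ρ k₁ k₂ k₃ p') := by
    intro p p'
    rw [omg_mul k₁ k₂ k₃ p p' (hωV p').1,
      c.J_mul _ ((Vs P).mul_mem (CommMod.comm _ _) (hωV p)) _ (hωV p'),
      c.J_mul _ (CommMod.comm _ _) _ (hωV p), c.J_comm, c.X_act, c.X_act, hk₁, hk₂]
  -- the constants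
  have hβne : c.B y₁ x₁ ≠ 0 := hβ
  have hAB : φ₁ y₁ * φ₂ x₁ * (c.B y₁ x₁)⁻¹ + φ₂ y₁ * φ₁ x₁ * (c.B y₁ x₁)⁻¹ = 1 := by
    rw [← add_mul, hB x₁ y₁]
    have : φ₁ y₁ * φ₂ x₁ + φ₂ y₁ * φ₁ x₁ = φ₁ x₁ * φ₂ y₁ + φ₂ x₁ * φ₁ y₁ := by ring
    rw [this]
    exact mul_inv_cancel₀ hβ'
  -- the second coordinate before the twist
  let Y₁ : P → F := fun p =>
    c.J (omg ρ k₁ k₂ k₃ p) * (c.B y₁ x₁)⁻¹ + φ₂ y₁ * φ₁ x₁ * (c.B y₁ x₁)⁻¹ * c.S (c.X p)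
  have hY₁ : ∀ p p' : P, Y₁ (p * p') = Y₁ p + Y₁ p' + φ₁ (c.X p) * φ₂ (c.X p') := by
    intro p p'
    show c.J (omg ρ k₁ k₂ k₃ (p * p')) * (c.B y₁ x₁)⁻¹ +
        φ₂ y₁ * φ₁ x₁ * (c.B y₁ x₁)⁻¹ * c.S (c.X (p * p')) =
      (c.J (omg ρ k₁ k₂ k₃ p) * (c.B y₁ x₁)⁻¹ + φ₂ y₁ * φ₁ x₁ * (c.B y₁ x₁)⁻¹ * c.S (c.X p)) +
      (c.J (omg ρ k₁ k₂ k₃ p') * (c.B y₁ x₁)⁻¹ + φ₂ y₁ * φ₁ x₁ * (c.B y₁ x₁)⁻¹ * c.S (c.X p')) +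
      φ₁ (c.X p) * φ₂ (c.X p')
    rw [hωmul, c.X_mul, c.S_add h hsq, hB (c.X p) (c.X p'), hB (y₁ * c.X p) (x₁ * c.X p'),
      map_mul, map_mul, map_mul, map_mul]
    linear_combination (φ₁ (c.X p) * φ₂ (c.X p')) * hAB +
      (φ₂ (c.X p) * φ₁ (c.X p')) * h2 (φ₂ y₁ * φ₁ x₁ * (c.B y₁ x₁)⁻¹)
  have hY₁z : ∀ z ∈ Vs P, Y₁ z = c.J z := by
    intro z hz
    show c.J (omg ρ k₁ k₂ k₃ z) * (c.B y₁ x₁)⁻¹ +
      φ₂ y₁ * φ₁ x₁ * (c.B y₁ x₁)⁻¹ * c.S (c.X z) = c.J z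
    rw [hωz z hz, (c.X_zero_iff z).mpr hz, c.S_zero h hsq, mul_zero, add_zero]
    field_simp
  -- the automorphisms
  let φ₁' : F ≃+* F := RingEquiv.ofBijective φ₁
    ⟨φ₁.injective, Finite.injective_iff_surjective.mp φ₁.injective⟩
  let φ₂' : F ≃+* F := RingEquiv.ofBijective φ₂
    ⟨φ₂.injective, Finite.injective_iff_surjective.mp φ₂.injective⟩
  have hφ₁' : ∀ x, φ₁' x = φ₁ x := fun x => rfl
  have hφ₂' : ∀ x, φ₂' x = φ₂ x := fun x => rfl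
  have hφ₂s : ∀ x, φ₂'.symm (φ₂ x) = x := fun x => by rw [← hφ₂', RingEquiv.symm_apply_apply]
  refine ⟨φ₁'.trans φ₂'.symm, ?_, ?_, ?_⟩
  · intro heq
    apply hne
    ext x
    have h1 : (φ₁'.trans φ₂'.symm) x = x := by rw [heq]; rfl
    have h3 : φ₂'.symm (φ₁ x) = x := h1
    have h4 := congrArg φ₂' h3
    rw [RingEquiv.apply_symm_apply] at h4
    exact h4
  · apply odd_orderOf_of_injective
    intro x y _ _ hxy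
    apply c.S_injective h hsq
    rw [hprod, hprod]
    have h1 : x * φ₂'.symm (φ₁ x) = y * φ₂'.symm (φ₁ y) := hxy
    have h3 := congrArg φ₂' h1
    rw [map_mul, map_mul, RingEquiv.apply_symm_apply, RingEquiv.apply_symm_apply, hφ₂', hφ₂'] at h3
    rw [mul_comm (φ₁ x), mul_comm (φ₁ y)]
    exact h3
  · apply typeA_equiv ((φ₁'.trans φ₂'.symm : F ≃+* F) : F →+* F) c.X (fun p => φ₂'.symm (Y₁ p))
      c.X_mul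
    · intro p p'
      show φ₂'.symm (Y₁ (p * p')) =
        φ₂'.symm (Y₁ p) + φ₂'.symm (Y₁ p') + φ₂'.symm (φ₁ (c.X p)) * c.X p'
      rw [hY₁, map_add, map_add, map_mul, hφ₂s]
    · intro p p' hX hY
      have hY' : Y₁ p = Y₁ p' := φ₂'.symm.injective hY
      have hz : p⁻¹ * p' ∈ Vs P := (c.X_eq_iff p p').mp hX
      have h1 : Y₁ (p * (p⁻¹ * p')) = Y₁ p + Y₁ (p⁻¹ * p') + φ₁ (c.X p) * φ₂ (c.X (p⁻¹ * p')) :=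
        hY₁ _ _
      rw [mul_inv_cancel_left, (c.X_zero_iff _).mpr hz, map_zero, mul_zero, add_zero, hY₁z _ hz,
        ← hY'] at h1
      have h3 : c.J (p⁻¹ * p') = 0 := by
        have := (left_eq_add.mp h1)
        exact this
      have h4 := c.J_inj _ hz h3
      exact (inv_mul_eq_one.mp h4)
    · intro x y
      obtain ⟨p₁, hp₁⟩ := c.X_surj x
      obtain ⟨z, hz, hJz⟩ := c.J_surj (φ₂ y + Y₁ p₁)
      refine ⟨p₁ * z, ?_, ?_⟩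
      · rw [c.X_mul, (c.X_zero_iff z).mpr hz, add_zero, hp₁]
      · show φ₂'.symm (Y₁ (p₁ * z)) = y
        rw [hY₁, (c.X_zero_iff z).mpr hz, map_zero, mul_zero, add_zero, hY₁z z hz, hJz]
        have : Y₁ p₁ + (φ₂ y + Y₁ p₁) = φ₂ y := by
          linear_combination h2 (Y₁ p₁)
        rw [this, hφ₂s]

end Cfsg.Agent.Lib.Helper27.Sz
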