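import Mathlib
import Cfsg.Prelude
import Cfsg.Agent.Lib.Helper27.SzA8

/-!
# Suzuki 2-groups of order `q²` are of type A, for `Cfsg.IsSuzukiTwoGroup`
-/

set_option autoImplicit false

namespace Cfsg.Agent.Lib.Helper27.Sz

open scoped commutatorElement

variable {P : Type*} [Group P]

theorem higman_typeA (hP : Cfsg.IsSuzukiTwoGroup P)
    (hcard : Nat.card P = Nat.card (Subgroup.center P) ^ 2) :
    ∃ (F : Type) (_ : Field F) (_ : Fintype F) (φ : F ≃+* F),
      Fintype.card F = Nat.card (Subgroup.center P) ∧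
      φ ≠ RingEquiv.refl F ∧ Odd (orderOf φ) ∧
      Nonempty (P ≃* Cfsg.suzukiTypeA F (φ : F →+* F)) := by
  obtain ⟨hfin, hp, hna, htwo, K, hcyc, hreg⟩ := hP
  have h : Suz (K.subtype : K →* MulAut P) := by
    refine ⟨hfin, ?_, hp, htwo, hreg⟩
    intro a b
    letI := IsCyclic.commGroup (α := K)
    exact mul_comm a b
  have hcen : Subgroup.center P = Vs P :=
    le_antisymm (h.center_le hna) Vs_le_center
  haveI : CommMod P := ⟨h.comm_mem hna⟩
  obtain ⟨n, hn2, hn⟩ := h.exists_card_Vs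
  have hn0 : n ≠ 0 := by omega
  haveI : Fact (Nat.Prime 2) := ⟨Nat.prime_two⟩
  haveI : Finite (GaloisField 2 n) := by
    apply Nat.finite_of_card_ne_zero
    rw [GaloisField.card 2 n hn0]
    positivity
  letI : Fintype (GaloisField 2 n) := Fintype.ofFinite _
  have hF : Fintype.card (GaloisField 2 n) = Nat.card K + 1 := by
    rw [← Nat.card_eq_fintype_card, GaloisField.card 2 n hn0, ← hn, h.card_Vs]
  have h2 : ∀ x : GaloisField 2 n, x + x = 0 := fun x => CharTwo.add_self_eq_zero x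
  have hcard' : Nat.card P = (Nat.card K + 1) ^ 2 := by
    rw [hcard, hcen, h.card_Vs]
  obtain ⟨φ, hφ1, hφ2, hφ3⟩ := h.typeA (h.sq_mem hna) hna hcard' hF h2
  refine ⟨GaloisField 2 n, inferInstance, inferInstance, φ, ?_, hφ1, hφ2, hφ3⟩
  rw [hF, hcen, h.card_Vs]

end Cfsg.Agent.Lib.Helper27.Sz
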