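import Mathlib
import Cfsg.Agent.Lib.Helper26.FusionNormal
import Cfsg.Agent.Lib.Helper26.FusionSat3
import Cfsg.Agent.Lib.Helper1.Cores
import Cfsg.Agent.S5080
import Cfsg.Agent.S5326

/-!
# Groups of class two with central involutions are resistant
-/

set_option autoImplicit false

namespace Cfsg.Agent.Lib.Helper27.SzFus

open Cfsg Cfsg.FusionSystem Cfsg.Agent.Lib.Helper26

section Chain

variable {G : Type*} [Group G]

/-- the stabilizer of the chain `1 ≤ Ω₁(G) ≤ G` when the involutions are central -/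
def chainStab (G : Type*) [Group G] (hG : ∀ x : G, x * x = 1 → ∀ y : G, x * y = y * x) :
    Subgroup (MulAut G) where
  carrier := {α | (∀ x : G, x * x = 1 → α x = x) ∧ ∀ x : G, (α x * x⁻¹) * (α x * x⁻¹) = 1}
  one_mem' := by
    refine ⟨fun x _ => rfl, fun x => ?_⟩
    show (x * x⁻¹) * (x * x⁻¹) = 1
    group
  mul_mem' := by
    rintro α β ⟨hα1, hα2⟩ ⟨hβ1, hβ2⟩
    refine ⟨fun x hx => ?_, fun x => ?_⟩
    · show α (β x) = x
      rw [hβ1 x hx, hα1 x hx]
    · show (α (β x) * x⁻¹) * (α (β x) * x⁻¹) = 1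
      have hz := hβ2 x
      have h1 : α (β x) = (β x * x⁻¹) * α x := by
        have : β x = (β x * x⁻¹) * x := by group
        conv_lhs => rw [this]
        rw [map_mul, hα1 _ hz]
      have hc := hG _ hz (α x * x⁻¹)
      rw [h1]
      calc β x * x⁻¹ * α x * x⁻¹ * (β x * x⁻¹ * α x * x⁻¹)
          = β x * x⁻¹ * ((α x * x⁻¹) * (β x * x⁻¹)) * (α x * x⁻¹) := by group
        _ = β x * x⁻¹ * ((β x * x⁻¹) * (α x * x⁻¹)) * (α x * x⁻¹) := by rw [hc]
        _ = (β x * x⁻¹ * (β x * x⁻¹)) * ((α x * x⁻¹) * (α x * x⁻¹)) := by group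
        _ = 1 := by rw [hz, hα2, one_mul]
  inv_mem' := by
    rintro α ⟨hα1, hα2⟩
    refine ⟨fun x hx => ?_, fun x => ?_⟩
    · have := hα1 x hx
      calc α⁻¹ x = α⁻¹ (α x) := by rw [this]
        _ = x := by simp
    · have h1 := hα2 (α⁻¹ x)
      have h2 : α (α⁻¹ x) = x := by simp
      rw [h2] at h1
      have h3 : α⁻¹ x * x⁻¹ = (x * (α⁻¹ x)⁻¹)⁻¹ := by group
      rw [h3, ← mul_inv_rev, h1, inv_one]

theorem mem_chainStab {hG : ∀ x : G, x * x = 1 → ∀ y : G, x * y = y * x} {α : MulAut G} :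
    α ∈ chainStab G hG ↔
      (∀ x : G, x * x = 1 → α x = x) ∧ ∀ x : G, (α x * x⁻¹) * (α x * x⁻¹) = 1 := Iff.rfl

theorem chainStab_normal (hG : ∀ x : G, x * x = 1 → ∀ y : G, x * y = y * x) :
    (chainStab G hG).Normal := by
  constructor
  rintro α ⟨hα1, hα2⟩ γ
  refine ⟨fun x hx => ?_, fun x => ?_⟩
  · show γ (α (γ⁻¹ x)) = x
    have h1 : γ⁻¹ x * γ⁻¹ x = 1 := by rw [← map_mul, hx, map_one]
    rw [hα1 _ h1]
    simp
  · show (γ (α (γ⁻¹ x)) * x⁻¹) * (γ (α (γ⁻¹ x)) * x⁻¹) = 1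
    have h1 := hα2 (γ⁻¹ x)
    have h2 : γ (α (γ⁻¹ x)) * x⁻¹ = γ (α (γ⁻¹ x) * (γ⁻¹ x)⁻¹) := by
      rw [map_mul, map_inv]
      simp
    rw [h2, ← map_mul, h1, map_one]

theorem chainStab_sq (hG : ∀ x : G, x * x = 1 → ∀ y : G, x * y = y * x) {α : MulAut G}
    (hα : α ∈ chainStab G hG) : α * α = 1 := by
  obtain ⟨hα1, hα2⟩ := hα
  ext x
  show α (α x) = x
  have hz := hα2 x
  have h1 : α x = (α x * x⁻¹) * x := by group
  conv_lhs => rw [h1]
  rw [map_mul, hα1 _ hz]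
  calc α x * x⁻¹ * α x = (α x * x⁻¹) * (α x * x⁻¹) * x := by group
    _ = x := by rw [hz, one_mul]

theorem chainStab_isPGroup (hG : ∀ x : G, x * x = 1 → ∀ y : G, x * y = y * x) :
    IsPGroup 2 (chainStab G hG) := by
  intro α
  refine ⟨1, ?_⟩
  apply Subtype.ext
  rw [pow_one, pow_two]
  exact chainStab_sq hG α.2

end Chain

variable {Ω : Type*} [Group Ω] {S : Subgroup Ω}

/-- no essential subgroups when involutions are central and commutators are involutions -/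
theorem not_essential_of_class_two [Finite S] (hS : IsPGroup 2 S) (F : FusionSystem S)
    (hF : F.IsSaturated 2)
    (h1 : ∀ x ∈ S, x * x = 1 → ∀ y ∈ S, x * y = y * x)
    (h2 : ∀ x ∈ S, ∀ y ∈ S, (x * y * x⁻¹ * y⁻¹) * (x * y * x⁻¹ * y⁻¹) = 1)
    {H : Subgroup Ω} (hH : F.IsEssential 2 H) : False := by
  haveI : Fact (Nat.Prime 2) := ⟨Nat.prime_two⟩
  have hHS : H ≤ S := hH.2.1.1
  have hne : H ≠ S := Cfsg.Agent.S5326.ne_top_of_essential hS F hF hH
  obtain ⟨g, hgS, hgH, hgN⟩ := exists_normalizing_of_lt hS hHS hne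
  have hcent : centralizerIn S H ≤ H := hH.1.2 H (isConj_refl F hHS)
  have hrad := Cfsg.Agent.S5080.result 2 hS F hF H hH
  have hG : ∀ x : H, x * x = 1 → ∀ y : H, x * y = y * x := by
    intro x hx y
    apply Subtype.ext
    exact h1 x (hHS x.2) (congrArg Subtype.val hx) y (hHS y.2)
  have hmem : conjAut H g hgN ∈ chainStab H hG := by
    refine ⟨fun x hx => ?_, fun x => ?_⟩
    · apply Subtype.ext
      rw [conjAut_apply]
      have := h1 x (hHS x.2) (congrArg Subtype.val hx) g hgS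
      rw [← this]; group
    · apply Subtype.ext
      have := h2 g hgS x (hHS x.2)
      show (g * (x : Ω) * g⁻¹ * (x : Ω)⁻¹) * (g * (x : Ω) * g⁻¹ * (x : Ω)⁻¹) = 1
      exact this
  have hA : conjAut H g hgN ∈ F.autGroup H :=
    autInducedBy_le_autGroup F hHS (conjAut_mem_autInducedBy hgS hgN)
  have hn : ((chainStab H hG).subgroupOf (F.autGroup H)).Normal :=
    (chainStab_normal hG).subgroupOf _
  have hpg : IsPGroup 2 ((chainStab H hG).subgroupOf (F.autGroup H)) :=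
    (chainStab_isPGroup hG).comap_subtype
  have hle := Cfsg.Agent.Lib.Helper1.le_pCore hn hpg
  have hInn : conjAut H g hgN ∈ Cfsg.Inn H := by
    rw [← hrad.2]
    exact ⟨⟨_, hA⟩, hle (Subgroup.mem_subgroupOf.mpr hmem), rfl⟩
  exact notMem_inn_of_centric hHS hcent hgS hgH hgN hInn

/-- such a group is normal in every saturated fusion system over it -/
theorem isNormal_of_class_two [Finite S] (hS : IsPGroup 2 S) (F : FusionSystem S)
    (hF : F.IsSaturated 2)
    (h1 : ∀ x ∈ S, x * x = 1 → ∀ y ∈ S, x * y = y * x)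
    (h2 : ∀ x ∈ S, ∀ y ∈ S, (x * y * x⁻¹ * y⁻¹) * (x * y * x⁻¹ * y⁻¹) = 1) : F.IsNormal S := by
  haveI : Fact (Nat.Prime 2) := ⟨Nat.prime_two⟩
  apply isNormal_of_forall_essential hS F hF S
  rintro P (rfl | hP)
  · refine ⟨le_rfl, fun α _ => ?_⟩
    rw [Subgroup.subgroupOf_self]
    exact Subgroup.map_top_of_surjective _ α.surjective
  · exact absurd (not_essential_of_class_two hS F hF h1 h2 hP) id

end Cfsg.Agent.Lib.Helper27.SzFus
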