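import Mathlib
import Cfsg.Prelude
import Cfsg.Agent.Lib.Helper27.SzMain

/-!
# Higman's theorem for `Cfsg.IsSuzukiTwoGroup`
-/

set_option autoImplicit false

namespace Cfsg.Agent.Lib.Helper27.Sz

open scoped commutatorElement

variable {P : Type*} [Group P]

/-- the structure theorem for Suzuki 2-groups -/
theorem higman (hP : Cfsg.IsSuzukiTwoGroup P) :
    (∀ x : P, x * x = 1 → x ∈ Subgroup.center P) ∧
    (∀ z ∈ Subgroup.center P, z * z = 1) ∧
    (∀ x : P, x * x ∈ Subgroup.center P) ∧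
    (∀ x y : P, ⁅x, y⁆ ∈ Subgroup.center P) ∧
    (Nat.card P = Nat.card (Subgroup.center P) ^ 2 ∨
      Nat.card P = Nat.card (Subgroup.center P) ^ 3) := by
  obtain ⟨hfin, hp, hna, htwo, K, hcyc, hreg⟩ := hP
  have h : Suz (K.subtype : K →* MulAut P) := by
    refine ⟨hfin, ?_, hp, htwo, hreg⟩
    intro a b
    letI := IsCyclic.commGroup (α := K)
    exact mul_comm a b
  have hcen : Subgroup.center P = Vs P :=
    le_antisymm (h.center_le hna) Vs_le_center
  refine ⟨fun x hx => h.mem_center_of_sq hx, fun z hz => (h.center_le hna z hz).2,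
    fun x => (h.sq_mem hna x).1, fun x y => (h.comm_mem hna x y).1, ?_⟩
  rw [hcen, h.card_Vs]
  exact h.card_eq hna

end Cfsg.Agent.Lib.Helper27.Sz
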