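import Mathlib
import Cfsg.Agent.Lib.helper17.T3.DefsC

/-!
# T3C row D11 (`ls_up`): core on the statement of E2 (`LongLift.eqv_refl`).
-/

set_option autoImplicit false

namespace Cfsg.Agent.Lib.helper17.T3

open Cfsg.Agent.Lib.helper15.St2 Cfsg.Agent.Lib.helper7.Ce Matrix

variable {F K : Type*} [Field F] [Field K] [Algebra F K]

variable {C : Cub F K} {G Γ : Type*} [Group G] [Group Γ]

theorem t3cd11h27_nm_one (C : Cub F K) : C.nm 1 = 1 := by
  apply (algebraMap F K).injective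
  rw [C.hnm, map_one, map_one, map_one]
  ring

theorem t3cd11h27_z33 (k : ZMod 6) : k + 3 + 3 = k := by
  have : (3 : ZMod 6) + 3 = 0 := by decide
  rw [add_assoc, this, add_zero]

theorem t3cd11h27_z13 (k : ZMod 6) : k + 1 + 3 = k + 4 := by
  have : (1 : ZMod 6) + 3 = 4 := by decide
  rw [add_assoc, this]

theorem t3cd11h27_z23 (k : ZMod 6) : k + 2 + 3 = k + 5 := by
  have : (2 : ZMod 6) + 3 = 5 := by decide
  rw [add_assoc, this]

section D

variable {S : SysT C G} {σ : Γ →* G} {L : ShortLift S σ}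

/-- the four `MapsPair` facts of the Weyl element `ws k 1` -/
theorem t3cd11h27_pairs (S : SysT C G) (k : ZMod 6) :
    S.MapsPair (S.xs k 1 * S.xs (k + 3) 1 * S.xs k 1) k (k + 3) 1 ∧
    S.MapsPair (S.xs k 1 * S.xs (k + 3) 1 * S.xs k 1) (k + 1) (k + 2) 1 ∧
    S.MapsPair (S.xs k 1 * S.xs (k + 3) 1 * S.xs k 1) (k + 2) (k + 1) (-1) ∧
    S.MapsPair (S.xs k 1 * S.xs (k + 3) 1 * S.xs k 1) (k + 3) k 1 := by
  have h1 : (1 : K) ≠ 0 := one_ne_zero
  have e0 : S.xs k 1 * S.xs (k + 3) 1 * S.xs k 1 = S.xs k 1 * S.xs (k + 3) (1 : K)⁻¹ * S.xs k 1 := by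
    rw [inv_one]
  have hn := t3cd11h27_nm_one C
  have s0 := fun u => S.ws_s0 k 1 u h1
  have s1 := fun u => S.ws_s1 k 1 u h1
  have s2 := fun u => S.ws_s2 k 1 u h1
  have s3 := fun u => S.ws_s3 k 1 u h1
  have s4 := fun u => S.ws_s4 k 1 u h1
  have s5 := fun u => S.ws_s5 k 1 u h1
  simp only [hn, inv_one, one_pow, one_mul, one_smul] at s0 s1 s2 s3 s4 s5
  refine ⟨⟨fun t => ?_, fun t => ?_⟩, ⟨fun t => ?_, fun t => ?_⟩, ⟨fun t => ?_, fun t => ?_⟩,
    ⟨fun t => ?_, fun t => ?_⟩⟩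
  · rw [one_mul]; exact s0 t
  · rw [t3cd11h27_z33, inv_one, one_mul]; exact s3 t
  · rw [one_mul]; exact s1 t
  · rw [t3cd11h27_z13, t3cd11h27_z23, inv_one, one_mul]; exact s4 t
  · rw [neg_one_mul]; exact s2 t
  · rw [t3cd11h27_z23, t3cd11h27_z13, inv_neg, inv_one, neg_one_mul]; exact s5 t
  · rw [one_mul]; exact s3 t
  · rw [t3cd11h27_z33, inv_one, one_mul]; exact s0 t

theorem t3cd11h27_core (M : LongLift S σ L)
    (hE2 : ∀ (e : Γ) (k k' : ZMod 6) (a b : K) (c0 : F), a ≠ 0 → b ≠ 0 →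
      S.MapsPair (σ e) k (k' + 1) a → S.MapsPair (σ e) (k + 1) k' b → a * b = algebraMap F K c0 →
      ∀ c : F, cj e (M.Y k c) = M.Y k' (-(c0 * c)))
    (hsl : ∀ k s c, cm (L.X k s) (M.Y (k + 2) c) = M.Y k (c * C.nm s) * L.X (k + 1) (-(c • C.sharp s)) * M.Y (k + 1) (c ^ 2 * C.nm s) * L.X (k + 2) (-(c • s)))
    (k : ZMod 6) (c : F) (t : K) :
    cm (M.Y k c) (L.X (k + 3) t) = L.X (k + 1) (-(c • t)) * M.Y (k + 1) (-(c ^ 2 * C.nm t)) * L.X (k + 2) (c • C.sharp t) * M.Y (k + 2) (c * C.nm t) := by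
  set e : Γ := L.X k 1 * L.X (k + 3) 1 * L.X k 1 with he
  have hσe : σ e = S.xs k 1 * S.xs (k + 3) 1 * S.xs k 1 := by
    rw [he, map_mul, map_mul, L.map, L.map]
  obtain ⟨p0, p1, p2, p3⟩ := t3cd11h27_pairs S k
  rw [← hσe] at p0 p1 p2 p3
  have h1 : (1 : K) ≠ 0 := one_ne_zero
  have hm1 : (-1 : K) ≠ 0 := neg_ne_zero.mpr one_ne_zero
  -- the action of `e` on the short lifts
  have x0 : ∀ u, cj e (L.X k u) = L.X (k + 3) u := fun u => by
    have := L.eqv e k (k + 3) 1 h1 p0 u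
    rwa [one_mul] at this
  have x1 : ∀ u, cj e (L.X (k + 1) u) = L.X (k + 2) u := fun u => by
    have := L.eqv e (k + 1) (k + 2) 1 h1 p1 u
    rwa [one_mul] at this
  have x2 : ∀ u, cj e (L.X (k + 2) u) = L.X (k + 1) (-u) := fun u => by
    have := L.eqv e (k + 2) (k + 1) (-1) hm1 p2 u
    rwa [neg_one_mul] at this
  -- the action of `e` on the long lifts
  have y0 : ∀ a, cj e (M.Y k a) = M.Y (k + 2) (-a) := fun a => by
    have e21 : k + 2 + 1 = k + 3 := by rw [add_assoc]; norm_num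
    have := hE2 e k (k + 2) 1 1 1 h1 h1 (by rw [e21]; exact p0) p1 (by rw [map_one, one_mul]) a
    rwa [one_mul] at this
  have y1 : ∀ a, cj e (M.Y (k + 1) a) = M.Y (k + 1) a := fun a => by
    have e11 : k + 1 + 1 = k + 2 := by rw [add_assoc]; norm_num
    have := hE2 e (k + 1) (k + 1) 1 (-1) (-1) h1 hm1 (by rw [e11]; exact p1)
      (by rw [e11]; exact p2) (by rw [map_neg, map_one, one_mul]) a
    rwa [neg_one_mul, neg_neg] at this
  have y2 : ∀ a, cj e (M.Y (k + 2) a) = M.Y k a := fun a => by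
    have e21 : k + 2 + 1 = k + 3 := by rw [add_assoc]; norm_num
    have := hE2 e (k + 2) k (-1) 1 (-1) hm1 h1 p2 (by rw [e21]; exact p3)
      (by rw [map_neg, map_one, mul_one]) a
    rwa [neg_one_mul, neg_neg] at this
  -- negatives are inverses
  have Xneg : ∀ (j : ZMod 6) (u : K), L.X j (-u) = (L.X j u)⁻¹ := fun j u => by
    have h0 : L.X j 0 = 1 := by
      have := L.add j 0 0
      rw [add_zero] at this
      exact mul_eq_left.mp this
    have := L.add j (-u) u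
    rw [neg_add_cancel, h0] at this
    exact eq_inv_of_mul_eq_one_left this
  have Yneg : ∀ (j : ZMod 6) (a : F), M.Y j (-a) = (M.Y j a)⁻¹ := fun j a => by
    have h0 : M.Y j 0 = 1 := by
      have := M.add j 0 0
      rw [add_zero] at this
      exact mul_eq_left.mp this
    have := M.add j (-a) a
    rw [neg_add_cancel, h0] at this
    exact eq_inv_of_mul_eq_one_left this
  have hc := congrArg (cj e) (hsl k t c)
  rw [cj_cm, x0, y2, cj_mul, cj_mul, cj_mul, y0, x1, y1, x2] at hc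
  rw [← cm_inv_swap, hc, neg_neg, Xneg, Yneg, Xneg, Yneg]
  group

end D

end Cfsg.Agent.Lib.helper17.T3
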