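import Mathlib
import Cfsg.Agent.Lib.helper17.T3.DefsC
import Cfsg.Agent.Lib.helper3.SL2Mult
import Cfsg.Agent.Lib.helper23.CEUE1
import Cfsg.Agent.Lib.Helper27.T3CD11core
import Cfsg.Agent.Lib.Helper28.T3CE2

/-!
# T3C row D11 (`ls_up`), verbatim vs `helper17/T3/SkelC.lean.txt`.
-/

set_option autoImplicit false

namespace Cfsg.Agent.Lib.helper17.T3

open Cfsg.Agent.Lib.helper15.St2 Cfsg.Agent.Lib.helper7.Ce Matrix

variable {F K : Type*} [Field F] [Field K] [Algebra F K]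

variable {C : Cub F K} {G Γ : Type*} [Group G] [Group Γ]

section D

variable {S : SysT C G} {σ : Γ →* G} {L : ShortLift S σ}

/-- [D11] [M] -/
theorem ls_up (hC : C.Good) (h : IsCE σ) (hT : CLT S σ) (M : LongLift S σ L)
    (hsl : ∀ k s c, cm (L.X k s) (M.Y (k + 2) c) = M.Y k (c * C.nm s) * L.X (k + 1) (-(c • C.sharp s)) * M.Y (k + 1) (c ^ 2 * C.nm s) * L.X (k + 2) (-(c • s)))
    (k : ZMod 6) (c : F) (t : K) :
    cm (M.Y k c) (L.X (k + 3) t) = L.X (k + 1) (-(c • t)) * M.Y (k + 1) (-(c ^ 2 * C.nm t)) * L.X (k + 2) (c • C.sharp t) * M.Y (k + 2) (c * C.nm t) :=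
  t3cd11h27_core M (fun e k k' a b c0 ha hb hk hk1 hab c => LongLift.eqv_refl hC M e k k' ha hb hk hk1 hab c) hsl k c t

end D

end Cfsg.Agent.Lib.helper17.T3
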