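import Mathlib
import Cfsg.Agent.Lib.helper17.T3.DefsC

/-!
# T3C row D7 (`Z3_map`), verbatim vs `helper17/T3/SkelC.lean.txt`.
-/

set_option autoImplicit false

namespace Cfsg.Agent.Lib.helper17.T3

open Cfsg.Agent.Lib.helper15.St2 Cfsg.Agent.Lib.helper7.Ce Matrix

variable {F K : Type*} [Field F] [Field K] [Algebra F K]

variable {C : Cub F K} {G Γ : Type*} [Group G] [Group Γ]

section D

variable {S : SysT C G} {σ : Γ →* G} {L : ShortLift S σ}

/-- [D7] [S] `S.sl`. -/
theorem Z3_map (M : LongLift S σ L) (k : ZMod 6) (s : K) (c : F) : σ (Z3 L M k s c) = 1 := by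
  unfold Z3 R3
  rw [map_mul, map_cm, map_inv, map_mul, map_mul, map_mul, L.map, L.map, L.map, M.map, M.map, M.map,
    S.sl, mul_inv_cancel]

end D

end Cfsg.Agent.Lib.helper17.T3
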