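import Mathlib
import Cfsg.Agent.Lib.Helper24.T3C.Defs2
import Cfsg.Agent.Lib.helper23.CEUE1
import Cfsg.Agent.Lib.helper3.SL2Mult
import Cfsg.Agent.Lib.Helper19.SL2Normal

/-!
# T3C row R4 (`nm_ne_zero`), verbatim vs `Helper24/T3C/Skel.lean.txt`.
-/

set_option autoImplicit false

namespace Cfsg.Agent.Lib.Helper24.T3C

open Cfsg.Agent.Lib.helper15.St2 Cfsg.Agent.Lib.helper7.Ce Cfsg.Agent.Lib.helper17.T3

variable {F K : Type*} [Field F] [Field K] [Algebra F K] {C : Cub F K} {G : Type*} [Group G] {Γ : Type*} [Group Γ]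
  {π : Γ →* G} {S : SysT C G}

section R'

/-- R4 [S] -/
theorem nm_ne_zero (C : Cub F K) {t : K} (ht : t ≠ 0) : C.nm t ≠ 0 := by
  intro h
  have h1 := C.hnm t
  rw [h, map_zero] at h1
  have h2 : C.θ t ≠ 0 := (map_ne_zero C.θ).mpr ht
  have h3 : C.θ (C.θ t) ≠ 0 := (map_ne_zero C.θ).mpr h2
  exact mul_ne_zero (mul_ne_zero ht h2) h3 h1.symm

end R'

end Cfsg.Agent.Lib.Helper24.T3C
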