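import Mathlib
import Cfsg.Agent.Lib.Helper24.T3C.Defs2
import Cfsg.Agent.Lib.helper23.CEUE1
import Cfsg.Agent.Lib.helper3.SL2Mult
import Cfsg.Agent.Lib.Helper19.SL2Normal

/-!
# T3C row U2 (`ShortLift.wl_s0 … wl_s5`), verbatim vs `Helper24/T3C/Skel.lean.txt`.
-/

set_option autoImplicit false

namespace Cfsg.Agent.Lib.Helper24.T3C

open Cfsg.Agent.Lib.helper15.St2 Cfsg.Agent.Lib.helper7.Ce Cfsg.Agent.Lib.helper17.T3

variable {F K : Type*} [Field F] [Field K] [Algebra F K] {C : Cub F K} {G : Type*} [Group G] {Γ : Type*} [Group Γ]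
  {π : Γ →* G} {S : SysT C G}

section U

variable (L : ShortLift S π)

theorem t3cu2_am_ne (c : F) (hc : c ≠ 0) : algebraMap F K c ≠ 0 :=
  (map_ne_zero (algebraMap F K)).mpr hc

theorem t3cu2_z43 : (4 : ZMod 6) + 3 = 1 := by decide
theorem t3cu2_z33 : (3 : ZMod 6) + 3 = 0 := by decide
theorem t3cu2_z13 : (1 : ZMod 6) + 3 = 4 := by decide
theorem t3cu2_z23 : (2 : ZMod 6) + 3 = 5 := by decide
theorem t3cu2_z53 : (5 : ZMod 6) + 3 = 2 := by decide

/-- U2 [M] (six statements) -/
theorem ShortLift.wl_s0 (k : ZMod 6) (c : F) (u : K) (hc : c ≠ 0) (g : Γ) (hg : π g = S.wl k c) :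
    cj g (L.xs k u) = L.xs (k + 4) (-(c⁻¹ • u)) := by
  have hd : -(algebraMap F K c⁻¹) ≠ 0 := neg_ne_zero.mpr (t3cu2_am_ne c⁻¹ (inv_ne_zero hc))
  have h := L.equi g k (k + 4) (-(algebraMap F K c⁻¹)) hd
    (fun t => by
      rw [hg]
      have := S.wl_s0 k c t hc
      rw [Algebra.smul_def] at this
      rw [neg_mul]
      exact this)
    (fun t => by
      rw [hg]
      have := S.wl_s3 k c t hc
      rw [Algebra.smul_def] at this
      have e : k + 4 + 3 = k + 1 := by rw [add_assoc, t3cu2_z43]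
      rw [e, inv_neg, map_inv₀, inv_inv, neg_mul]
      exact this) u
  rw [h, neg_mul, Algebra.smul_def]

theorem ShortLift.wl_s1 (k : ZMod 6) (c : F) (u : K) (hc : c ≠ 0) (g : Γ) (hg : π g = S.wl k c) :
    cj g (L.xs (k + 1) u) = L.xs (k + 3) (c⁻¹ • u) := by
  have hd : algebraMap F K c⁻¹ ≠ 0 := t3cu2_am_ne c⁻¹ (inv_ne_zero hc)
  have h := L.equi g (k + 1) (k + 3) (algebraMap F K c⁻¹) hd
    (fun t => by
      rw [hg]
      have := S.wl_s1 k c t hc
      rw [Algebra.smul_def] at this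
      exact this)
    (fun t => by
      rw [hg]
      have := S.wl_s4 k c t hc
      rw [Algebra.smul_def] at this
      have e1 : k + 1 + 3 = k + 4 := by rw [add_assoc, t3cu2_z13]
      have e2 : k + 3 + 3 = k := by rw [add_assoc, t3cu2_z33, add_zero]
      rw [e1, e2, map_inv₀, inv_inv]
      exact this) u
  rw [h, Algebra.smul_def]

theorem ShortLift.wl_s2 (k : ZMod 6) (c : F) (u : K) (hc : c ≠ 0) (g : Γ) (hg : π g = S.wl k c) :
    cj g (L.xs (k + 2) u) = L.xs (k + 2) u := by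
  have h := L.equi g (k + 2) (k + 2) 1 one_ne_zero
    (fun t => by
      rw [hg, one_mul]
      exact S.wl_s2 k c t hc)
    (fun t => by
      rw [hg, inv_one, one_mul]
      have e1 : k + 2 + 3 = k + 5 := by rw [add_assoc, t3cu2_z23]
      rw [e1]
      exact S.wl_s5 k c t hc) u
  rw [h, one_mul]

theorem ShortLift.wl_s3 (k : ZMod 6) (c : F) (u : K) (hc : c ≠ 0) (g : Γ) (hg : π g = S.wl k c) :
    cj g (L.xs (k + 3) u) = L.xs (k + 1) (-(c • u)) := by
  have hd : -(algebraMap F K c) ≠ 0 := neg_ne_zero.mpr (t3cu2_am_ne c hc)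
  have h := L.equi g (k + 3) (k + 1) (-(algebraMap F K c)) hd
    (fun t => by
      rw [hg]
      have := S.wl_s3 k c t hc
      rw [Algebra.smul_def] at this
      rw [neg_mul]
      exact this)
    (fun t => by
      rw [hg]
      have := S.wl_s0 k c t hc
      rw [Algebra.smul_def] at this
      have e1 : k + 3 + 3 = k := by rw [add_assoc, t3cu2_z33, add_zero]
      have e2 : k + 1 + 3 = k + 4 := by rw [add_assoc, t3cu2_z13]
      rw [e1, e2, inv_neg, ← map_inv₀, neg_mul]
      exact this) u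
  rw [h, neg_mul, Algebra.smul_def]

theorem ShortLift.wl_s4 (k : ZMod 6) (c : F) (u : K) (hc : c ≠ 0) (g : Γ) (hg : π g = S.wl k c) :
    cj g (L.xs (k + 4) u) = L.xs k (c • u) := by
  have hd : algebraMap F K c ≠ 0 := t3cu2_am_ne c hc
  have h := L.equi g (k + 4) k (algebraMap F K c) hd
    (fun t => by
      rw [hg]
      have := S.wl_s4 k c t hc
      rw [Algebra.smul_def] at this
      exact this)
    (fun t => by
      rw [hg]
      have := S.wl_s1 k c t hc
      rw [Algebra.smul_def] at this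
      have e1 : k + 4 + 3 = k + 1 := by rw [add_assoc, t3cu2_z43]
      rw [e1, ← map_inv₀]
      exact this) u
  rw [h, Algebra.smul_def]

theorem ShortLift.wl_s5 (k : ZMod 6) (c : F) (u : K) (hc : c ≠ 0) (g : Γ) (hg : π g = S.wl k c) :
    cj g (L.xs (k + 5) u) = L.xs (k + 5) u := by
  have h := L.equi g (k + 5) (k + 5) 1 one_ne_zero
    (fun t => by
      rw [hg, one_mul]
      exact S.wl_s5 k c t hc)
    (fun t => by
      rw [hg, inv_one, one_mul]
      have e1 : k + 5 + 3 = k + 2 := by rw [add_assoc, t3cu2_z53]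
      rw [e1]
      exact S.wl_s2 k c t hc) u
  rw [h, one_mul]

end U

end Cfsg.Agent.Lib.Helper24.T3C
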