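import Mathlib
import Cfsg.Agent.Lib.Helper28.T9.Defs

/-!
# Project T9 (S5559), piece C2d : auxiliary form (normality of `P` and `X = P ∪ aP` as hypotheses)
-/

set_option autoImplicit false

namespace Cfsg.Agent.Lib.Helper28.T9

universe u

section c2d

variable {X : Type u} [Group X]

/-- the commutator map `g ↦ t⁻¹ g⁻¹ t g` -/
def h27_kap (t g : X) : X := t⁻¹ * g⁻¹ * t * g

theorem h27_kap_eq_one_iff (t g : X) : h27_kap t g = 1 ↔ g * t = t * g := by
  unfold h27_kap
  constructor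
  · intro h
    have : t * g = g * t * (t⁻¹ * g⁻¹ * t * g) := by group
    rw [h, mul_one] at this
    exact this.symm
  · intro h
    have : t⁻¹ * g⁻¹ * t * g = t⁻¹ * g⁻¹ * (t * g) := by group
    rw [this, ← h]
    group

theorem h27_conj_eq (t g : X) : g⁻¹ * t * g = t * h27_kap t g := by
  unfold h27_kap
  group

theorem h27_kap_mul (t g k : X) (hc : ∀ x : X, x * h27_kap t g = h27_kap t g * x) :
    h27_kap t (g * k) = h27_kap t g * h27_kap t k := by
  have e1 : h27_kap t (g * k) = t⁻¹ * k⁻¹ * (g⁻¹ * t * g) * k := by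
    unfold h27_kap
    group
  rw [e1, h27_conj_eq t g]
  have e2 : t⁻¹ * k⁻¹ * (t * h27_kap t g) * k = t⁻¹ * k⁻¹ * t * (h27_kap t g * k) := by group
  rw [e2, ← hc k]
  have e3 : t⁻¹ * k⁻¹ * t * (k * h27_kap t g) = h27_kap t k * h27_kap t g := by
    unfold h27_kap
    group
  rw [e3]
  exact hc _

theorem h27_kap_conj_inv (t a g : X) (hsq : a * a = 1) (hta : a * t * a = t⁻¹)
    (hc : ∀ x : X, x * h27_kap t g = h27_kap t g * x) :
    h27_kap t (a * g * a) = (h27_kap t g)⁻¹ := by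
  have ha : a⁻¹ = a := inv_eq_of_mul_eq_one_left hsq
  have hta' : a * t⁻¹ * a = t := by
    have : a * t⁻¹ * a = (a * t * a)⁻¹ := by
      rw [mul_inv_rev, mul_inv_rev, ha, mul_assoc]
    rw [this, hta, inv_inv]
  -- κ(aga) = a (t g⁻¹ t⁻¹ g) a
  have e1 : h27_kap t (a * g * a) = a * ((a * t⁻¹ * a) * g⁻¹ * (a * t * a) * g) * a := by
    unfold h27_kap
    rw [mul_inv_rev, mul_inv_rev, ha]
    have h1 : a * t⁻¹ * a * g⁻¹ * (a * t * a) * g = a * t⁻¹ * a * g⁻¹ * a * t * a * g := by group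
    rw [h1]
    have h2 : a * (a * t⁻¹ * a * g⁻¹ * a * t * a * g) * a =
        (a * a) * t⁻¹ * a * g⁻¹ * a * t * a * g * a := by group
    rw [h2, hsq, one_mul]
    group
  rw [e1, hta', hta]
  -- t g⁻¹ t⁻¹ g = (κ g)⁻¹
  have e2 : t * g⁻¹ * t⁻¹ * g = (h27_kap t g)⁻¹ := by
    have h1 : g⁻¹ * t⁻¹ * g = (g⁻¹ * t * g)⁻¹ := by group
    have h2 : t * g⁻¹ * t⁻¹ * g = t * (g⁻¹ * t⁻¹ * g) := by group
    rw [h2, h1, h27_conj_eq, mul_inv_rev]
    have h3 : ∀ x : X, x * (h27_kap t g)⁻¹ = (h27_kap t g)⁻¹ * x := by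
      intro x
      have := hc x
      calc x * (h27_kap t g)⁻¹ = (h27_kap t g)⁻¹ * (h27_kap t g * x) * (h27_kap t g)⁻¹ := by group
        _ = (h27_kap t g)⁻¹ * (x * h27_kap t g) * (h27_kap t g)⁻¹ := by rw [this]
        _ = (h27_kap t g)⁻¹ * x := by group
    rw [← mul_assoc, h3 t]
    group
  rw [e2]
  have h3 : a * (h27_kap t g)⁻¹ = (h27_kap t g)⁻¹ * a := by
    have := hc a
    calc a * (h27_kap t g)⁻¹ = (h27_kap t g)⁻¹ * (h27_kap t g * a) * (h27_kap t g)⁻¹ := by group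
      _ = (h27_kap t g)⁻¹ * (a * h27_kap t g) * (h27_kap t g)⁻¹ := by rw [this]
      _ = (h27_kap t g)⁻¹ * a := by group
  rw [h3, mul_assoc, hsq, mul_one]

/-- values of `κ` are central when they lie in `zpowers z`, `z` central -/
theorem h27_central_of_mem_zpowers {z : X} (hzc : z ∈ Subgroup.center X) {c : X}
    (hc : c ∈ Subgroup.zpowers z) (x : X) : x * c = c * x := by
  have h1 : Subgroup.zpowers z ≤ Subgroup.center X := Subgroup.zpowers_le.mpr hzc
  exact (Subgroup.mem_center_iff.mp (h1 hc) x)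

/-- elements of `zpowers z` when `z ^ 3 = 1` -/
theorem h27_zpowers_cases {z : X} (hz3 : z ^ 3 = 1) {c : X} (hc : c ∈ Subgroup.zpowers z) :
    c = 1 ∨ c = z ∨ c = z * z := by
  obtain ⟨k, rfl⟩ := Subgroup.mem_zpowers_iff.mp hc
  have h1 : z ^ k = z ^ (k % 3) := by
    have : k = k % 3 + 3 * (k / 3) := (Int.emod_add_mul_ediv k 3).symm
    conv_lhs => rw [this]
    rw [zpow_add, zpow_mul]
    have : z ^ (3 : ℤ) = 1 := by
      have := hz3
      exact_mod_cast this
    rw [this, one_zpow, mul_one]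
  rw [h1]
  have h2 : 0 ≤ k % 3 := Int.emod_nonneg k (by norm_num)
  have h3 : k % 3 < 3 := Int.emod_lt_of_pos k (by norm_num)
  interval_cases (k % 3)
  · left; simp
  · right; left; simp
  · right; right
    show z ^ (2 : ℤ) = z * z
    rw [zpow_ofNat, pow_two]

/-- C2d in auxiliary form: normality of `P` and `X = P ∪ aP` are hypotheses. -/
theorem h27_index_three_aux [Finite X] {E : Set X} (a : X) (hsq : a * a = 1)
    (hN : (prodSub E).Normal) (hB2 : ∀ g : X, g ∈ prodSub E ∨ a * g ∈ prodSub E)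
    (t : X) (htP : t ∈ prodSub E)
    (hta : a * t * a = t⁻¹) (z : X) (hz3 : z ^ 3 = 1) (hz1 : z ≠ 1)
    (hzc : z ∈ Subgroup.center X)
    (hcomm : ∀ g ∈ prodSub E, t⁻¹ * g⁻¹ * t * g ∈ Subgroup.zpowers z)
    (hnc : ∃ g ∈ prodSub E, g * t ≠ t * g) :
    (prodSub E ⊓ Subgroup.centralizer {t}).relIndex (prodSub E) = 3 ∧
    (∀ g ∈ prodSub E, a * g * a * g ∈ Subgroup.centralizer {t}) ∧
    (∀ g ∈ prodSub E, a * g = g * a → g * t = t * g) ∧
    (∀ g : X, ∀ k ∈ prodSub E ⊓ Subgroup.centralizer {t},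
      g⁻¹ * k * g ∈ prodSub E ⊓ Subgroup.centralizer {t}) ∧
    (∃ g ∈ prodSub E, g⁻¹ * t * g = t * z) ∧ (∃ g ∈ prodSub E, g⁻¹ * t * g = t * z * z) := by
  have ha : a⁻¹ = a := inv_eq_of_mul_eq_one_left hsq
  have hkz : ∀ g ∈ prodSub E, h27_kap t g ∈ Subgroup.zpowers z := hcomm
  have hcen : ∀ g ∈ prodSub E, ∀ x : X, x * h27_kap t g = h27_kap t g * x := fun g hg x =>
    h27_central_of_mem_zpowers hzc (hkz g hg) x
  have hmul : ∀ g ∈ prodSub E, ∀ k : X, h27_kap t (g * k) = h27_kap t g * h27_kap t k :=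
    fun g hg k => h27_kap_mul t g k (hcen g hg)
  have hmemC : ∀ g : X, g ∈ Subgroup.centralizer {t} ↔ h27_kap t g = 1 := by
    intro g
    rw [Subgroup.mem_centralizer_iff, h27_kap_eq_one_iff]
    constructor
    · intro h
      exact (h t rfl).symm
    · intro h x hx
      rw [Set.mem_singleton_iff.mp hx]
      exact h.symm
  have haPa : ∀ g ∈ prodSub E, a * g * a ∈ prodSub E := by
    intro g hg
    have := hN.conj_mem g hg a
    rwa [ha] at this
  have hinv : ∀ g ∈ prodSub E, h27_kap t (a * g * a) = (h27_kap t g)⁻¹ := fun g hg =>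
    h27_kap_conj_inv t a g hsq hta (hcen g hg)
  -- the homomorphism
  let f : ↥(prodSub E) →* ↥(Subgroup.zpowers z) :=
    MonoidHom.mk' (fun g => ⟨h27_kap t g, hkz g g.2⟩) (by
      intro g k
      apply Subtype.ext
      exact hmul g g.2 k)
  have hf : ∀ g : ↥(prodSub E), ((f g : ↥(Subgroup.zpowers z)) : X) = h27_kap t g := fun g => rfl
  have hker : f.ker = (prodSub E ⊓ Subgroup.centralizer {t}).subgroupOf (prodSub E) := by
    ext g
    rw [MonoidHom.mem_ker, Subgroup.mem_subgroupOf, Subgroup.mem_inf, hmemC]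
    constructor
    · intro h
      refine ⟨g.2, ?_⟩
      rw [← hf, h]
      rfl
    · intro h
      apply Subtype.ext
      rw [hf, h.2]
      rfl
  -- an element with κ = z
  obtain ⟨g0, hg0P, hg0⟩ := hnc
  have hk0 : h27_kap t g0 ≠ 1 := fun h => hg0 ((h27_kap_eq_one_iff t g0).mp h)
  have hex : ∃ g1 ∈ prodSub E, h27_kap t g1 = z := by
    rcases h27_zpowers_cases hz3 (hkz g0 hg0P) with h | h | h
    · exact absurd h hk0
    · exact ⟨g0, hg0P, h⟩
    · refine ⟨g0 * g0, (prodSub E).mul_mem hg0P hg0P, ?_⟩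
      rw [hmul g0 hg0P, h]
      have : z * z * (z * z) = z ^ 3 * z := by
        rw [pow_succ, pow_two]
        simp only [mul_assoc]
      rw [this, hz3, one_mul]
  obtain ⟨g1, hg1P, hg1⟩ := hex
  have hg2 : h27_kap t (g1 * g1) = z * z := by rw [hmul g1 hg1P, hg1]
  refine ⟨?_, ?_, ?_, ?_, ⟨g1, hg1P, ?_⟩, ⟨g1 * g1, (prodSub E).mul_mem hg1P hg1P, ?_⟩⟩
  · -- index
    rw [Subgroup.relIndex, ← hker, Subgroup.index_ker]
    have hrange : f.range = ⊤ := by
      rw [eq_top_iff]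
      intro c _
      obtain ⟨k, hk⟩ := Subgroup.mem_zpowers_iff.mp c.2
      refine ⟨(⟨g1, hg1P⟩ : ↥(prodSub E)) ^ k, ?_⟩
      apply Subtype.ext
      rw [map_zpow, Subgroup.coe_zpow, hf, hg1, hk]
    rw [hrange]
    have h3 : Nat.card (⊤ : Subgroup ↥(Subgroup.zpowers z)) = Nat.card ↥(Subgroup.zpowers z) :=
      Nat.card_congr (Subgroup.topEquiv).toEquiv
    rw [h3, Nat.card_zpowers]
    haveI : Fact (Nat.Prime 3) := ⟨Nat.prime_three⟩
    exact orderOf_eq_prime hz3 hz1
  · intro g hg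
    rw [hmemC, hmul (a * g * a) (haPa g hg), hinv g hg, inv_mul_cancel]
  · intro g hg hag
    have h1 : a * g * a = g := by rw [hag, mul_assoc, hsq, mul_one]
    have h2 := hinv g hg
    rw [h1] at h2
    -- κ = κ⁻¹ and κ ∈ {1, z, z²}
    have h3 : h27_kap t g * h27_kap t g = 1 := by
      nth_rw 1 [h2]
      exact inv_mul_cancel _
    have h4 : h27_kap t g = 1 := by
      rcases h27_zpowers_cases hz3 (hkz g hg) with h | h | h
      · exact h
      · exfalso
        rw [h] at h3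
        apply hz1
        have : z = z ^ 3 * (z * z)⁻¹ := by
          rw [pow_succ, pow_two]
          group
        rw [this, hz3, h3, inv_one, mul_one]
      · exfalso
        rw [h] at h3
        apply hz1
        have : z = (z * z * (z * z)) * (z ^ 3)⁻¹ := by
          rw [pow_succ, pow_two]
          group
        rw [this, hz3, h3, inv_one, mul_one]
    exact (h27_kap_eq_one_iff t g).mp h4
  · -- normality
    have hP : ∀ p ∈ prodSub E, ∀ k ∈ prodSub E ⊓ Subgroup.centralizer {t},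
        p⁻¹ * k * p ∈ prodSub E ⊓ Subgroup.centralizer {t} := by
      intro p hp k hk
      rw [Subgroup.mem_inf] at hk ⊢
      have hkP : p⁻¹ * k * p ∈ prodSub E := by
        have := hN.conj_mem k hk.1 p⁻¹
        rwa [inv_inv] at this
      refine ⟨hkP, ?_⟩
      rw [hmemC]
      have hp' : p⁻¹ ∈ prodSub E := (prodSub E).inv_mem hp
      rw [hmul (p⁻¹ * k) ((prodSub E).mul_mem hp' hk.1), hmul p⁻¹ hp', (hmemC k).mp hk.2, mul_one]
      rw [← hmul p⁻¹ hp', inv_mul_cancel]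
      unfold h27_kap
      group
    intro g k hk
    rcases hB2 g with hg | hg
    · exact hP g hg k hk
    · -- g = a * p
      have hk' : a * k * a ∈ prodSub E ⊓ Subgroup.centralizer {t} := by
        rw [Subgroup.mem_inf] at hk ⊢
        refine ⟨haPa k hk.1, ?_⟩
        rw [hmemC, hinv k hk.1, (hmemC k).mp hk.2, inv_one]
      have := hP (a * g) hg (a * k * a) hk'
      have e : (a * g)⁻¹ * (a * k * a) * (a * g) = g⁻¹ * k * g := by
        rw [mul_inv_rev, ha]
        have : g⁻¹ * a * (a * k * a) * (a * g) = g⁻¹ * (a * a) * k * (a * a) * g := by group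
        rw [this, hsq, mul_one, mul_one]
      rwa [e] at this
  · rw [h27_conj_eq, hg1]
  · rw [h27_conj_eq, hg2, mul_assoc]

end c2d

end Cfsg.Agent.Lib.Helper28.T9
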