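import Mathlib
import Cfsg.Agent.Lib.Helper28.T9.Defs
import Cfsg.Agent.Lib.Helper13.T9B
import Cfsg.Agent.Lib.Helper27.T9C2dAux

/-!
# Project T9 (S5559), piece C2d : `C = C_P(t)` has index 3 in `P`
-/

set_option autoImplicit false

namespace Cfsg.Agent.Lib.Helper28.T9

universe u v

section abstract

variable {X : Type u} [Group X] {V : Type v} [AddCommGroup V] [DistribMulAction X V] {E : Set X}

/-- PIECE C2d : `C = C_P(t)` has index 3, is inverted-modulo by `a`, contains `C_P(a)`, and is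
normal in `X`; both `t z` and `t z²` are conjugates of `t`. -/
theorem index_three [Finite X] (h : Cfg X V E) (a : X) (ha : a ∈ E) (t : X) (htP : t ∈ prodSub E)
    (hta : a * t * a = t⁻¹) (z : X) (hz3 : z ^ 3 = 1) (hz1 : z ≠ 1)
    (hzc : z ∈ Subgroup.center X)
    (hcomm : ∀ g ∈ prodSub E, t⁻¹ * g⁻¹ * t * g ∈ Subgroup.zpowers z)
    (hnc : ∃ g ∈ prodSub E, g * t ≠ t * g) :
    (prodSub E ⊓ Subgroup.centralizer {t}).relIndex (prodSub E) = 3 ∧
    (∀ g ∈ prodSub E, a * g * a * g ∈ Subgroup.centralizer {t}) ∧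
    (∀ g ∈ prodSub E, a * g = g * a → g * t = t * g) ∧
    (∀ g : X, ∀ k ∈ prodSub E ⊓ Subgroup.centralizer {t},
      g⁻¹ * k * g ∈ prodSub E ⊓ Subgroup.centralizer {t}) ∧
    (∃ g ∈ prodSub E, g⁻¹ * t * g = t * z) ∧ (∃ g ∈ prodSub E, g⁻¹ * t * g = t * z * z) :=
  h27_index_three_aux a (h.sq a ha) (prodSub_normal h) (mem_or_mul_mem h a ha) t htP hta z hz3 hz1
    hzc hcomm hnc

end abstract

end Cfsg.Agent.Lib.Helper28.T9
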