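import Mathlib
import Cfsg.Agent.Lib.Helper28.T9.Defs
import Cfsg.Agent.Lib.Helper25.TTA2

/-!
# Project T9 (S5559), piece R6 : two groups of order 54 generated by three involutions with the
four relations are isomorphic (both are quotients of the presented group, which has at most 54
elements).
-/

set_option autoImplicit false

namespace Cfsg.Agent.Lib.Helper28.T9

/-- the seven relators -/
def h27_r6rels : Set (FreeGroup (Fin 3)) :=
  {FreeGroup.of 0 ^ 2, FreeGroup.of 1 ^ 2, FreeGroup.of 2 ^ 2,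
    (FreeGroup.of 0 * FreeGroup.of 1) ^ 3, (FreeGroup.of 1 * FreeGroup.of 2) ^ 3,
    (FreeGroup.of 2 * FreeGroup.of 0) ^ 3,
    (FreeGroup.of 0 * (FreeGroup.of 1 * FreeGroup.of 2 * FreeGroup.of 1)) ^ 3}

/-- the presented group -/
abbrev h27_R6G : Type := PresentedGroup h27_r6rels

theorem h27_r6_rel {r : FreeGroup (Fin 3)} (hr : r ∈ h27_r6rels) :
    PresentedGroup.mk h27_r6rels r = 1 := PresentedGroup.one_of_mem hr

theorem h27_r6_range : Set.range (PresentedGroup.of (rels := h27_r6rels)) =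
    {PresentedGroup.of 0, PresentedGroup.of 1, PresentedGroup.of 2} := by
  ext g
  constructor
  · rintro ⟨i, rfl⟩
    fin_cases i
    · left; rfl
    · right; left; rfl
    · right; right; rfl
  · rintro (rfl | rfl | rfl)
    · exact ⟨0, rfl⟩
    · exact ⟨1, rfl⟩
    · exact ⟨2, rfl⟩

/-- the presented group has at most 54 elements -/
theorem h27_r6_card : Finite h27_R6G ∧ Nat.card h27_R6G ≤ 54 := by
  set A : h27_R6G := PresentedGroup.of 0 with hA
  set B : h27_R6G := PresentedGroup.of 1 with hB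
  set C : h27_R6G := PresentedGroup.of 2 with hC
  have e : ∀ i : Fin 3, (PresentedGroup.of i : h27_R6G) =
      PresentedGroup.mk h27_r6rels (FreeGroup.of i) := fun i => rfl
  have r1 : A ^ 2 = 1 := by
    rw [hA, e, ← map_pow]
    exact h27_r6_rel (by simp [h27_r6rels])
  have r2 : B ^ 2 = 1 := by
    rw [hB, e, ← map_pow]
    exact h27_r6_rel (by simp [h27_r6rels])
  have r3 : C ^ 2 = 1 := by
    rw [hC, e, ← map_pow]
    exact h27_r6_rel (by simp [h27_r6rels])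
  have r4 : (A * B) ^ 3 = 1 := by
    rw [hA, hB, e, e, ← map_mul, ← map_pow]
    exact h27_r6_rel (by simp [h27_r6rels])
  have r5 : (B * C) ^ 3 = 1 := by
    rw [hB, hC, e, e, ← map_mul, ← map_pow]
    exact h27_r6_rel (by simp [h27_r6rels])
  have r6 : (C * A) ^ 3 = 1 := by
    rw [hC, hA, e, e, ← map_mul, ← map_pow]
    exact h27_r6_rel (by simp [h27_r6rels])
  have r7 : (A * (B * C * B)) ^ 3 = 1 := by
    rw [hA, hB, hC, e, e, e, ← map_mul, ← map_mul, ← map_mul, ← map_pow]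
    exact h27_r6_rel (by simp [h27_r6rels])
  obtain ⟨s, hs54, hs⟩ := Cfsg.Agent.Lib.Helper25.TT.k54_bound A B C r1 r2 r3 r4 r5 r6 r7
  have htop : Subgroup.closure ({A, B, C} : Set h27_R6G) = ⊤ := by
    rw [← h27_r6_range]
    exact PresentedGroup.closure_range_of _
  have hall : ∀ g : h27_R6G, g ∈ s := fun g => hs g (by rw [htop]; exact Subgroup.mem_top g)
  have hfin : Finite h27_R6G := Finite.of_injective (fun g => (⟨g, hall g⟩ : ↥s))
    (fun x y hxy => by simpa using hxy)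
  refine ⟨hfin, ?_⟩
  have h1 : Nat.card h27_R6G ≤ Nat.card ↥s :=
    Nat.card_le_card_of_injective (fun g => (⟨g, hall g⟩ : ↥s)) (fun x y hxy => by simpa using hxy)
  have h2 : Nat.card ↥s = s.card := by
    rw [Nat.card_eq_fintype_card, Fintype.card_coe]
  omega

/-- a group of order 54 with such a generating triple is isomorphic to the presented group -/
theorem h27_r6_iso {G : Type*} [Group G] (h : Nat.card G = 54) (a b c : G)
    (ha : a ^ 2 = 1) (hb : b ^ 2 = 1) (hc : c ^ 2 = 1) (hab : (a * b) ^ 3 = 1)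
    (hbc : (b * c) ^ 3 = 1) (hca : (c * a) ^ 3 = 1) (h4 : (a * (b * c * b)) ^ 3 = 1)
    (hg : Subgroup.closure ({a, b, c} : Set G) = ⊤) : Nonempty (h27_R6G ≃* G) := by
  let f : Fin 3 → G := ![a, b, c]
  have hrel : ∀ r ∈ h27_r6rels, FreeGroup.lift f r = 1 := by
    intro r hr
    simp only [h27_r6rels, Set.mem_insert_iff, Set.mem_singleton_iff] at hr
    rcases hr with rfl | rfl | rfl | rfl | rfl | rfl | rfl <;>
      simp only [map_pow, map_mul, FreeGroup.lift_apply_of] <;>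
      simpa [f] using (by assumption)
  let φ : h27_R6G →* G := PresentedGroup.toGroup hrel
  have hφ0 : φ (PresentedGroup.of 0) = a := PresentedGroup.toGroup.of hrel
  have hφ1 : φ (PresentedGroup.of 1) = b := PresentedGroup.toGroup.of hrel
  have hφ2 : φ (PresentedGroup.of 2) = c := PresentedGroup.toGroup.of hrel
  have hsurj : Function.Surjective φ := by
    rw [← MonoidHom.range_eq_top, eq_top_iff, ← hg, Subgroup.closure_le]
    rintro x (rfl | rfl | rfl)
    · exact ⟨_, hφ0⟩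
    · exact ⟨_, hφ1⟩
    · exact ⟨_, hφ2⟩
  obtain ⟨hfin, hcard⟩ := h27_r6_card
  haveI := hfin
  have hbij : Function.Bijective φ :=
    hsurj.bijective_of_nat_card_le (by rw [h]; exact hcard)
  exact ⟨MulEquiv.ofBijective φ hbij⟩

/-- PIECE R6 : two groups of order 54 generated by three involutions with the four relations
are isomorphic (both are quotients of the presented group, which has at most 54 elements by
`Cfsg.Agent.Lib.Helper25.TT.k54_bound`). -/
theorem iso_of_triples {G₁ G₂ : Type*} [Group G₁] [Group G₂] (h₁ : Nat.card G₁ = 54)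
    (h₂ : Nat.card G₂ = 54) (a₁ b₁ c₁ : G₁) (a₂ b₂ c₂ : G₂)
    (ha₁ : a₁ ^ 2 = 1) (hb₁ : b₁ ^ 2 = 1) (hc₁ : c₁ ^ 2 = 1) (hab₁ : (a₁ * b₁) ^ 3 = 1)
    (hbc₁ : (b₁ * c₁) ^ 3 = 1) (hca₁ : (c₁ * a₁) ^ 3 = 1) (h4₁ : (a₁ * (b₁ * c₁ * b₁)) ^ 3 = 1)
    (hg₁ : Subgroup.closure ({a₁, b₁, c₁} : Set G₁) = ⊤)
    (ha₂ : a₂ ^ 2 = 1) (hb₂ : b₂ ^ 2 = 1) (hc₂ : c₂ ^ 2 = 1) (hab₂ : (a₂ * b₂) ^ 3 = 1)
    (hbc₂ : (b₂ * c₂) ^ 3 = 1) (hca₂ : (c₂ * a₂) ^ 3 = 1) (h4₂ : (a₂ * (b₂ * c₂ * b₂)) ^ 3 = 1)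
    (hg₂ : Subgroup.closure ({a₂, b₂, c₂} : Set G₂) = ⊤) :
    Nonempty (G₁ ≃* G₂) := by
  obtain ⟨e₁⟩ := h27_r6_iso h₁ a₁ b₁ c₁ ha₁ hb₁ hc₁ hab₁ hbc₁ hca₁ h4₁ hg₁
  obtain ⟨e₂⟩ := h27_r6_iso h₂ a₂ b₂ c₂ ha₂ hb₂ hc₂ hab₂ hbc₂ hca₂ h4₂ hg₂
  exact ⟨e₁.symm.trans e₂⟩

end Cfsg.Agent.Lib.Helper28.T9
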