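import Mathlib

/-!
Coset-table certificates giving divisibility of an index (helper27).

A group `G` is generated by involutions `v 0, …, v (n-1)` subject to relators; `H` is a subgroup
containing `v ℓ` for `ℓ < nsub`.  A certificate is a table on `N` labels whose edges are justified one
after another ("facts"), every fact being a definition of a coset representative, a subgroup generator at
label `0`, or the single missing step of a closed relator walk through earlier facts.  The conclusion is
that `H.index` divides `N`.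
-/

set_option autoImplicit false

namespace Cfsg.Agent.Lib.Helper27.TCD

/-- the `k`-th field of width `w` of the packed number `X` -/
def fld (X w k : ℕ) : ℕ := Nat.mod (Nat.shiftRight X (Nat.mul w k)) (Nat.pow 2 w)

/-- bounded universal quantifier -/
def allB (n : ℕ) (p : ℕ → Bool) : Bool :=
  @Nat.rec (fun _ => Bool) true (fun k ih => cond (p k) ih false) n

theorem allB_iff (n : ℕ) (p : ℕ → Bool) : allB n p = true ↔ ∀ k < n, p k = true := by
  induction n with
  | zero => exact ⟨fun _ k hk => absurd hk (Nat.not_lt_zero k), fun _ => rfl⟩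
  | succ n ih =>
    have e : allB (n+1) p = cond (p n) (allB n p) false := rfl
    rw [e]
    constructor
    · intro h k hk
      cases hp : p n with
      | false => rw [hp] at h; exact absurd h (by simp)
      | true =>
        rw [hp] at h
        rcases Nat.lt_succ_iff_lt_or_eq.mp hk with h1 | h1
        · exact ih.mp h k h1
        · rw [h1]; exact hp
    · intro h
      have hp : p n = true := h n (Nat.lt_succ_self n)
      rw [hp]
      exact ih.mpr (fun k hk => h k (Nat.lt_succ_of_lt hk))

/-- the data of a certificate -/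
structure Cert where
  /-- number of letters -/
  n : ℕ
  /-- the letters below `nsub` lie in the subgroup -/
  nsub : ℕ
  /-- number of labels -/
  N : ℕ
  /-- number of facts -/
  K : ℕ
  /-- time table, 16 bit fields, field `i * n + g` -/
  TM : ℕ
  /-- facts, 8 fields of 16 bits each: source, target, letter, kind, relator, start, position -/
  FS : ℕ
  /-- parents and letters of the tree: 2 fields of 16 bits for each label -/
  PL : ℕ

namespace Cert

variable (C : Cert)

def tm (i g : ℕ) : ℕ := fld C.TM 16 (Nat.add (Nat.mul i C.n) g)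
def fsrc (k : ℕ) : ℕ := fld C.FS 16 (Nat.mul 8 k)
def fdst (k : ℕ) : ℕ := fld C.FS 16 (Nat.add (Nat.mul 8 k) 1)
def flet (k : ℕ) : ℕ := fld C.FS 16 (Nat.add (Nat.mul 8 k) 2)
def fkind (k : ℕ) : ℕ := fld C.FS 16 (Nat.add (Nat.mul 8 k) 3)
def frel (k : ℕ) : ℕ := fld C.FS 16 (Nat.add (Nat.mul 8 k) 4)
def fstart (k : ℕ) : ℕ := fld C.FS 16 (Nat.add (Nat.mul 8 k) 5)
def fpos (k : ℕ) : ℕ := fld C.FS 16 (Nat.add (Nat.mul 8 k) 6)
def par (j : ℕ) : ℕ := fld C.PL 16 (Nat.mul 2 j)
def lab (j : ℕ) : ℕ := fld C.PL 16 (Nat.add (Nat.mul 2 j) 1)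

end Cert

/-- the words for the members of the class: letters and conjugates of letters by letters -/
def dword (n q : ℕ) : List ℕ :=
  cond (Nat.blt q n) [q] [Nat.mod (Nat.sub q n) n, Nat.div (Nat.sub q n) n, Nat.mod (Nat.sub q n) n]

/-- the relator number `ρ`: the cube of a product of two class words -/
def relator (n ρ : ℕ) : List ℕ :=
  (fun w => w ++ (w ++ w))
    (dword n (Nat.div ρ (Nat.add n (Nat.mul n n))) ++ dword n (Nat.mod ρ (Nat.add n (Nat.mul n n))))

/-- one step through an earlier fact -/
def step (C : Cert) (k cur l : ℕ) : Option ℕ :=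
  cond (Nat.blt (C.tm cur l) k && Nat.beq (C.flet (C.tm cur l)) l)
    (cond (Nat.beq (C.fsrc (C.tm cur l)) cur) (some (C.fdst (C.tm cur l)))
      (cond (Nat.beq (C.fdst (C.tm cur l)) cur) (some (C.fsrc (C.tm cur l))) none))
    none

/-- a walk through earlier facts -/
def walk (C : Cert) (k : ℕ) : List ℕ → ℕ → Option ℕ
  | [], cur => some cur
  | l :: w, cur =>
    match step C k cur l with
    | some c => walk C k w c
    | none => none

/-- equality test of the result of a walk -/
def isSome (o : Option ℕ) (c : ℕ) : Bool :=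
  match o with
  | some x => Nat.beq x c
  | none => false

theorem isSome_iff (o : Option ℕ) (c : ℕ) : isSome o c = true ↔ o = some c := by
  cases o with
  | none => simp [isSome]
  | some x =>
    simp only [isSome, Option.some.injEq]
    constructor
    · exact Nat.eq_of_beq_eq_true
    · intro h; rw [h]; exact Nat.beq_refl c

/-- selection by the kind of a fact -/
def kindSel (kind : ℕ) (a b c : Bool) : Bool :=
  match kind with
  | 0 => a
  | 1 => b
  | _ => c

theorem kindSel_zero (a b c : Bool) : kindSel 0 a b c = a := rfl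
theorem kindSel_one (a b c : Bool) : kindSel 1 a b c = b := rfl
theorem kindSel_succ_succ (m : ℕ) (a b c : Bool) : kindSel (m+2) a b c = c := rfl

/-- the check of the fact number `k` -/
def factOK (C : Cert) (k : ℕ) : Bool :=
  Nat.blt (C.fsrc k) C.N && (Nat.blt (C.fdst k) C.N && (Nat.blt (C.flet k) C.n &&
    kindSel (C.fkind k)
      -- kind 0: definition
      (Nat.blt (C.fsrc k) (C.fdst k) && (Nat.beq (C.par (C.fdst k)) (C.fsrc k) &&
        Nat.beq (C.lab (C.fdst k)) (C.flet k)))
      -- kind 1: subgroup generator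
      (Nat.beq (C.fsrc k) 0 && (Nat.beq (C.fdst k) 0 && Nat.blt (C.flet k) C.nsub))
      -- other kinds: relator
      (Nat.beq ((relator C.n (C.frel k)).getD (C.fpos k) C.n) (C.flet k) &&
        (isSome (walk C k ((relator C.n (C.frel k)).take (C.fpos k)) (C.fstart k)) (C.fsrc k) &&
         isSome (walk C k ((relator C.n (C.frel k)).drop (Nat.succ (C.fpos k))) (C.fdst k))
          (C.fstart k)))))

/-- the other end of the edge at `i` with letter `g` -/
def nxt (C : Cert) (i g : ℕ) : ℕ :=
  cond (Nat.beq (C.fsrc (C.tm i g)) i) (C.fdst (C.tm i g)) (C.fsrc (C.tm i g))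

/-- the check of the entry `(i, g)` of the table -/
def edgeOK (C : Cert) (i g : ℕ) : Bool :=
  Nat.blt (C.tm i g) C.K && (Nat.beq (C.flet (C.tm i g)) g &&
    ((Nat.beq (C.fsrc (C.tm i g)) i || Nat.beq (C.fdst (C.tm i g)) i) &&
      Nat.beq (C.tm (nxt C i g) g) (C.tm i g)))

/-- all checks -/
def checkAll (C : Cert) : Bool :=
  allB C.K (factOK C) && allB C.N (fun i => allB C.n (fun g => edgeOK C i g))

section Sound

variable {G : Type*} [Group G] (H : Subgroup G) (v : ℕ → G) (C : Cert)

/-- value of a word -/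
def wprod (l : List ℕ) : G := (l.map v).prod

theorem wprod_nil : wprod v [] = 1 := rfl
theorem wprod_cons (s : ℕ) (l : List ℕ) : wprod v (s :: l) = v s * wprod v l := by
  simp [wprod]
theorem wprod_append (l₁ l₂ : List ℕ) : wprod v (l₁ ++ l₂) = wprod v l₁ * wprod v l₂ := by
  simp [wprod]

/-- representative of a label -/
def tau : ℕ → G
  | 0 => 1
  | (j+1) => if _h : C.par (j+1) < j+1 then tau (C.par (j+1)) * v (C.lab (j+1)) else 1
decreasing_by exact _h

theorem tau_zero : tau v C 0 = 1 := by rw [tau]

theorem tau_pos {j : ℕ} (hj : 0 < j) (h : C.par j < j) :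
    tau v C j = tau v C (C.par j) * v (C.lab j) := by
  obtain ⟨j, rfl⟩ := Nat.exists_eq_succ_of_ne_zero (Nat.pos_iff_ne_zero.mp hj)
  rw [tau, dif_pos h]

/-- meaning of a fact -/
def Valid (k : ℕ) : Prop :=
  tau v C (C.fsrc k) * v (C.flet k) * (tau v C (C.fdst k))⁻¹ ∈ H

variable (hinv : ∀ s, v s * v s = 1)

include hinv in
theorem valid_rev {k : ℕ} (hk : Valid H v C k) :
    tau v C (C.fdst k) * v (C.flet k) * (tau v C (C.fsrc k))⁻¹ ∈ H := by
  have h1 := H.inv_mem hk
  have h2 : (v (C.flet k))⁻¹ = v (C.flet k) := inv_eq_of_mul_eq_one_left (hinv _)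
  have h3 : (tau v C (C.fsrc k) * v (C.flet k) * (tau v C (C.fdst k))⁻¹)⁻¹
      = tau v C (C.fdst k) * v (C.flet k) * (tau v C (C.fsrc k))⁻¹ := by
    rw [mul_inv_rev, mul_inv_rev, inv_inv, h2, mul_assoc]
  rw [h3] at h1; exact h1

include hinv in
theorem step_sound {k cur l c : ℕ} (hall : ∀ t < k, Valid H v C t)
    (h : step C k cur l = some c) : tau v C cur * v l * (tau v C c)⁻¹ ∈ H := by
  unfold step at h
  cases h1 : (Nat.blt (C.tm cur l) k && Nat.beq (C.flet (C.tm cur l)) l) with
  | false => rw [h1] at h; exact absurd h (by simp)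
  | true =>
    rw [h1] at h
    rw [Bool.and_eq_true] at h1
    have ht : C.tm cur l < k := by
      have := h1.1
      rwa [Nat.blt_eq] at this
    have hl : C.flet (C.tm cur l) = l := Nat.eq_of_beq_eq_true h1.2
    have hv := hall _ ht
    cases h2 : Nat.beq (C.fsrc (C.tm cur l)) cur with
    | true =>
      rw [h2] at h
      have hs : C.fsrc (C.tm cur l) = cur := Nat.eq_of_beq_eq_true h2
      have hc : C.fdst (C.tm cur l) = c := by simpa using h
      unfold Valid at hv
      rw [hs, hl, hc] at hv
      exact hv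
    | false =>
      rw [h2] at h
      cases h3 : Nat.beq (C.fdst (C.tm cur l)) cur with
      | true =>
        rw [h3] at h
        have hd : C.fdst (C.tm cur l) = cur := Nat.eq_of_beq_eq_true h3
        have hc : C.fsrc (C.tm cur l) = c := by simpa using h
        have hv' := valid_rev H v C hinv hv
        rw [hd, hl, hc] at hv'
        exact hv'
      | false =>
        rw [h3] at h
        exact absurd h (by simp)

include hinv in
theorem walk_sound {k : ℕ} (hall : ∀ t < k, Valid H v C t) :
    ∀ (w : List ℕ) (cur c : ℕ), walk C k w cur = some c →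
      tau v C cur * wprod v w * (tau v C c)⁻¹ ∈ H := by
  intro w
  induction w with
  | nil =>
    intro cur c h
    have : cur = c := by simpa [walk] using h
    rw [this, wprod_nil, mul_one, mul_inv_cancel]
    exact H.one_mem
  | cons l w ih =>
    intro cur c h
    rw [walk] at h
    cases hs : step C k cur l with
    | none => rw [hs] at h; exact absurd h (by simp)
    | some c1 =>
      rw [hs] at h
      have h1 := step_sound H v C hinv hall hs
      have h2 := ih c1 c h
      have := H.mul_mem h1 h2
      rw [wprod_cons]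
      convert this using 1
      group

variable (hrel : ∀ ρ, wprod v (relator C.n ρ) = 1) (hsub : ∀ l < C.nsub, v l ∈ H)

include hinv hrel hsub in
theorem fact_sound {k : ℕ} (hall : ∀ t < k, Valid H v C t) (h : factOK C k = true) :
    Valid H v C k := by
  unfold factOK at h
  simp only [Bool.and_eq_true] at h
  obtain ⟨-, -, hlt, h⟩ := h
  have hlt' : C.flet k < C.n := by rwa [Nat.blt_eq] at hlt
  unfold Valid
  rcases Nat.lt_or_ge (C.fkind k) 2 with hk | hk
  · rcases Nat.lt_or_ge (C.fkind k) 1 with hk0 | hk1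
    · have hk0' : C.fkind k = 0 := by omega
      rw [hk0', kindSel_zero] at h
      simp only [Bool.and_eq_true] at h
      obtain ⟨h1, h2, h3⟩ := h
      have h1' : C.fsrc k < C.fdst k := by rwa [Nat.blt_eq] at h1
      have h2' : C.par (C.fdst k) = C.fsrc k := Nat.eq_of_beq_eq_true h2
      have h3' : C.lab (C.fdst k) = C.flet k := Nat.eq_of_beq_eq_true h3
      have hpos : 0 < C.fdst k := lt_of_le_of_lt (Nat.zero_le _) h1'
      rw [tau_pos v C hpos (by rw [h2']; exact h1'), h2', h3', mul_inv_cancel]
      exact H.one_mem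
    · have hk1' : C.fkind k = 1 := by omega
      rw [hk1', kindSel_one] at h
      simp only [Bool.and_eq_true] at h
      obtain ⟨h1, h2, h3⟩ := h
      have h1' : C.fsrc k = 0 := Nat.eq_of_beq_eq_true h1
      have h2' : C.fdst k = 0 := Nat.eq_of_beq_eq_true h2
      have h3' : C.flet k < C.nsub := by rwa [Nat.blt_eq] at h3
      rw [h1', h2', tau_zero, one_mul, inv_one, mul_one]
      exact hsub _ h3'
  · obtain ⟨m, hm⟩ : ∃ m, C.fkind k = m + 2 := ⟨C.fkind k - 2, by omega⟩
    rw [hm, kindSel_succ_succ] at h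
    simp only [Bool.and_eq_true] at h
    obtain ⟨h1, h2, h3⟩ := h
    set r := relator C.n (C.frel k) with hr
    set p := C.fpos k with hp
    have h1' : r.getD p C.n = C.flet k := Nat.eq_of_beq_eq_true h1
    have h2' := (isSome_iff _ _).mp h2
    have h3' := (isSome_iff _ _).mp h3
    have w1 := walk_sound H v C hinv hall _ _ _ h2'
    have w2 := walk_sound H v C hinv hall _ _ _ h3'
    -- the relator splits
    have hp_lt : p < r.length := by
      by_contra hge
      have hge' : r.length ≤ p := Nat.le_of_not_lt hge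
      have : r.getD p C.n = C.n := by
        rw [List.getD_eq_getElem?_getD, List.getElem?_eq_none hge']; rfl
      rw [this] at h1'
      omega
    have hget : r[p] = C.flet k := by
      rw [← h1', List.getD_eq_getElem?_getD, List.getElem?_eq_getElem hp_lt]; rfl
    have hsplit : r = r.take p ++ C.flet k :: r.drop (p+1) := by
      rw [← hget]
      exact (List.take_append_drop p r).symm.trans (by rw [List.drop_eq_getElem_cons hp_lt])
    have hone : wprod v (r.take p) * (v (C.flet k) * wprod v (r.drop (p+1))) = 1 := by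
      rw [← wprod_cons, ← wprod_append, ← hsplit]
      exact hrel _
    -- combine
    have key : tau v C (C.fsrc k) * v (C.flet k) * (tau v C (C.fdst k))⁻¹ =
        (tau v C (C.fstart k) * wprod v (r.take p) * (tau v C (C.fsrc k))⁻¹)⁻¹ *
        (tau v C (C.fdst k) * wprod v (r.drop (p+1)) * (tau v C (C.fstart k))⁻¹)⁻¹ := by
      have e1 : v (C.flet k) = (wprod v (r.take p))⁻¹ * (wprod v (r.drop (p+1)))⁻¹ := by
        have := hone
        rw [← mul_assoc] at this
        have h5 := eq_inv_of_mul_eq_one_left this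
        calc v (C.flet k) = (wprod v (r.take p))⁻¹ * (wprod v (r.take p) * v (C.flet k)) := by group
          _ = _ := by rw [h5]
      rw [e1]
      group
    rw [key]
    exact H.mul_mem (H.inv_mem w1) (H.inv_mem w2)

include hinv hrel hsub in
theorem all_valid (h : allB C.K (factOK C) = true) : ∀ k < C.K, Valid H v C k := by
  intro k
  induction k using Nat.strong_induction_on with
  | _ k ih =>
    intro hk
    exact fact_sound H v C hinv hrel hsub (fun t ht => ih t ht (lt_trans ht hk))
      ((allB_iff _ _).mp h k hk)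

theorem fact_bounds {k : ℕ} (h : factOK C k = true) : C.fsrc k < C.N ∧ C.fdst k < C.N := by
  unfold factOK at h
  simp only [Bool.and_eq_true] at h
  obtain ⟨h1, h2, -⟩ := h
  rw [Nat.blt_eq] at h1 h2
  exact ⟨h1, h2⟩

theorem edge_facts {i g : ℕ} (h : edgeOK C i g = true) :
    C.tm i g < C.K ∧ C.flet (C.tm i g) = g ∧
      (C.fsrc (C.tm i g) = i ∨ C.fdst (C.tm i g) = i) ∧ C.tm (nxt C i g) g = C.tm i g := by
  unfold edgeOK at h
  simp only [Bool.and_eq_true, Bool.or_eq_true] at h
  obtain ⟨h1, h2, h3, h4⟩ := h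
  rw [Nat.blt_eq] at h1
  refine ⟨h1, Nat.eq_of_beq_eq_true h2, ?_, Nat.eq_of_beq_eq_true h4⟩
  rcases h3 with h3 | h3
  · exact Or.inl (Nat.eq_of_beq_eq_true h3)
  · exact Or.inr (Nat.eq_of_beq_eq_true h3)

theorem nxt_eq_of_src {i g : ℕ} (h : C.fsrc (C.tm i g) = i) : nxt C i g = C.fdst (C.tm i g) := by
  unfold nxt
  rw [h, Nat.beq_refl]
  rfl

theorem nxt_eq_of_ne {i g : ℕ} (h : C.fsrc (C.tm i g) ≠ i) : nxt C i g = C.fsrc (C.tm i g) := by
  unfold nxt
  have : Nat.beq (C.fsrc (C.tm i g)) i = false := by
    cases hb : Nat.beq (C.fsrc (C.tm i g)) i with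
    | false => rfl
    | true => exact absurd (Nat.eq_of_beq_eq_true hb) h
  rw [this]
  rfl

theorem nxt_nxt {i g : ℕ} (h : edgeOK C i g = true) : nxt C (nxt C i g) g = i := by
  obtain ⟨-, -, h3, h4⟩ := edge_facts C h
  by_cases hs : C.fsrc (C.tm i g) = i
  · have e1 := nxt_eq_of_src C hs
    by_cases hd : C.fdst (C.tm i g) = i
    · rw [e1, hd]
      rw [nxt_eq_of_src C hs, hd]
    · have : C.fsrc (C.tm (nxt C i g) g) ≠ nxt C i g := by
        rw [h4, e1, hs]
        exact fun h => hd h.symm
      rw [nxt_eq_of_ne C this, h4, hs]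
  · have e1 := nxt_eq_of_ne C hs
    have hd : C.fdst (C.tm i g) = i := h3.resolve_left hs
    have : C.fsrc (C.tm (nxt C i g) g) = nxt C i g := by
      rw [h4, e1]
    rw [nxt_eq_of_src C this, h4, hd]

include hinv in
theorem edge_valid {i g : ℕ} (hv : ∀ k < C.K, Valid H v C k) (h : edgeOK C i g = true) :
    tau v C i * v g * (tau v C (nxt C i g))⁻¹ ∈ H := by
  obtain ⟨h1, h2, h3, -⟩ := edge_facts C h
  have hval := hv _ h1
  by_cases hs : C.fsrc (C.tm i g) = i
  · rw [nxt_eq_of_src C hs]
    unfold Valid at hval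
    rw [hs, h2] at hval
    exact hval
  · rw [nxt_eq_of_ne C hs]
    have hd : C.fdst (C.tm i g) = i := h3.resolve_left hs
    have := valid_rev H v C hinv hval
    rw [hd, h2] at this
    exact this

theorem nxt_lt {i g : ℕ} (hf : allB C.K (factOK C) = true) (h : edgeOK C i g = true) :
    nxt C i g < C.N := by
  obtain ⟨h1, -, -, -⟩ := edge_facts C h
  have hb := fact_bounds C ((allB_iff _ _).mp hf _ h1)
  unfold nxt
  cases Nat.beq (C.fsrc (C.tm i g)) i
  · exact hb.1
  · exact hb.2

include hinv hrel hsub in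
/-- the main theorem: the index of `H` divides the number of labels -/
theorem index_dvd [Finite G] (hcheck : checkAll C = true)
    (hgen : Subgroup.closure {y | ∃ g < C.n, y = v g} = ⊤) : H.index ∣ C.N := by
  classical
  unfold checkAll at hcheck
  rw [Bool.and_eq_true] at hcheck
  obtain ⟨hf, he⟩ := hcheck
  have hE : ∀ i < C.N, ∀ g < C.n, edgeOK C i g = true := fun i hi g hg =>
    (allB_iff _ _).mp ((allB_iff _ _).mp he i hi) g hg
  have hv := all_valid H v C hinv hrel hsub hf
  have : Fintype (G ⧸ H) := Fintype.ofFinite _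
  -- the map to cosets
  let φ : Fin C.N → G ⧸ H := fun i => QuotientGroup.mk (tau v C i)⁻¹
  let cnt : G ⧸ H → ℕ := fun x => (Finset.univ.filter (fun i : Fin C.N => φ i = x)).card
  -- the permutations
  have hσ : ∀ g < C.n, ∀ x : G ⧸ H, cnt (v g • x) = cnt x := by
    intro g hg x
    have hmap : ∀ i : Fin C.N, φ ⟨nxt C i g, nxt_lt C hf (hE i i.2 g hg)⟩ = v g • φ i := by
      intro i
      show (QuotientGroup.mk (tau v C (nxt C i g))⁻¹ : G ⧸ H) =
        v g • (QuotientGroup.mk (tau v C i)⁻¹ : G ⧸ H)
      rw [MulAction.Quotient.smul_mk, QuotientGroup.eq, inv_inv]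
      have h1 := edge_valid H v C hinv hv (hE i i.2 g hg)
      have h2 := H.inv_mem h1
      have h3 : (v g)⁻¹ = v g := inv_eq_of_mul_eq_one_left (hinv g)
      have : (tau v C i * v g * (tau v C (nxt C i g))⁻¹)⁻¹ =
          tau v C (nxt C i g) * (v g * (tau v C i)⁻¹) := by
        rw [mul_inv_rev, mul_inv_rev, inv_inv, h3]
      rw [this] at h2
      exact h2
    apply le_antisymm
    · -- from fibre over v g • x into fibre over x
      apply Finset.card_le_card_of_injOn (fun i => ⟨nxt C i g, nxt_lt C hf (hE i i.2 g hg)⟩)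
      · intro i hi
        simp only [Finset.coe_filter, Finset.mem_univ, true_and, Set.mem_ofPred_eq] at hi ⊢
        rw [hmap i, hi, smul_smul, hinv g, one_smul]
      · intro i _ j _ hij
        have h1 : nxt C i g = nxt C j g := congrArg Fin.val hij
        apply Fin.ext
        rw [← nxt_nxt C (hE i i.2 g hg), ← nxt_nxt C (hE j j.2 g hg), h1]
    · apply Finset.card_le_card_of_injOn (fun i => ⟨nxt C i g, nxt_lt C hf (hE i i.2 g hg)⟩)
      · intro i hi
        simp only [Finset.coe_filter, Finset.mem_univ, true_and, Set.mem_ofPred_eq] at hi ⊢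
        rw [hmap i, hi]
      · intro i _ j _ hij
        have h1 : nxt C i g = nxt C j g := congrArg Fin.val hij
        apply Fin.ext
        rw [← nxt_nxt C (hE i i.2 g hg), ← nxt_nxt C (hE j j.2 g hg), h1]
  have hG : ∀ γ : G, ∀ x : G ⧸ H, cnt (γ • x) = cnt x := by
    intro γ
    have hγ : γ ∈ Subgroup.closure {y | ∃ g < C.n, y = v g} := by rw [hgen]; trivial
    refine Subgroup.closure_induction (p := fun γ _ => ∀ x : G ⧸ H, cnt (γ • x) = cnt x)
      ?_ ?_ ?_ ?_ hγ
    · rintro y ⟨g, hg, rfl⟩ x
      exact hσ g hg x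
    · intro x; rw [one_smul]
    · intro a b _ _ ha hb x
      rw [mul_smul, ha, hb]
    · intro a _ ha x
      have := ha (a⁻¹ • x)
      rw [smul_smul, mul_inv_cancel, one_smul] at this
      exact this.symm
  have hconst : ∀ x : G ⧸ H, cnt x = cnt (QuotientGroup.mk 1) := by
    intro x
    obtain ⟨γ, hγ⟩ := MulAction.exists_smul_eq G (QuotientGroup.mk 1 : G ⧸ H) x
    rw [← hγ, hG]
  have hsum : C.N = ∑ x : G ⧸ H, cnt x := by
    have := Finset.card_eq_sum_card_fiberwise (f := φ) (s := (Finset.univ : Finset (Fin C.N)))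
      (t := (Finset.univ : Finset (G ⧸ H))) (fun _ _ => Finset.mem_univ _)
    rw [Finset.card_univ, Fintype.card_fin] at this
    exact this
  rw [Finset.sum_congr rfl (fun x _ => hconst x), Finset.sum_const, Finset.card_univ,
    smul_eq_mul] at hsum
  have hidx : H.index = Fintype.card (G ⧸ H) := by
    rw [Subgroup.index, Nat.card_eq_fintype_card]
  rw [hidx, hsum]
  exact Dvd.intro _ rfl

end Sound

end Cfsg.Agent.Lib.Helper27.TCD
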