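import Mathlib
import Cfsg.Agent.Lib.Helper10.TEM.Defs

/-!
# TEM row F4 (core): transport of the short root elements along `W(F₄)`.
Core on the statements of the rows C6 (`nW_X`), G1 (`nO_mem_G1`), R2 (`rat_nW`).
-/

set_option autoImplicit false

namespace Cfsg.Agent.Lib.Helper10.TEM

open Cfsg.Lie Cfsg.Lie.ChevalleyDatum Matrix
open Cfsg.Agent.Lib.helper8

universe u

/-- certificate: for every non-fixed root `r` a list of orbit indices leading from `56` to `r` -/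
def temf4_tab : List (List ℕ) :=
  [[], [], [], [3, 2, 1, 0, 2, 1, 2, 3], [2, 1, 0, 2, 1, 2, 3], [2, 3, 2, 1, 0, 2, 1, 2, 3], [],
   [1, 0, 2, 1, 2, 3], [], [0, 2, 1, 2, 3], [0, 1, 2, 3], [], [2, 1, 2, 3], [1, 2, 3], [2, 3], [3],
   [2, 3, 1, 0, 2, 1, 2, 3], [3, 1, 0, 2, 1, 2, 3], [], [0, 3, 2, 1, 2, 3], [], [0, 3, 1, 2, 3],
   [3, 0, 2, 3, 1, 2, 3], [0, 2, 3, 1, 2, 3], [], [], [3, 2, 1, 2, 3], [], [3, 1, 2, 3], [2, 3, 2],
   [2, 3, 2, 1, 2, 3], [2, 3, 1, 2, 3], [], [3, 1, 2, 3, 1, 2, 3], [1, 2, 3, 1, 2, 3],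
   [2, 3, 1, 2, 3, 1, 2, 3], [2, 1, 3, 2, 1, 3, 2], [1, 2, 1, 3, 2], [1, 3, 2, 1, 3, 2], [],
   [2, 1, 3, 2], [3, 2, 1, 3, 2], [3, 2], [1, 3, 2], [], [3, 2, 1, 2], [], [], [0, 2, 1, 3, 2],
   [2, 0, 3, 2, 1, 2], [3, 0, 1, 2], [], [0, 3, 2, 1, 2], [], [3, 1, 0, 2, 1, 2],
   [2, 3, 1, 0, 2, 1, 2], [], [2], [1, 2], [2, 1, 2], [], [0, 1, 2], [0, 2, 1, 2], [],
   [1, 0, 2, 1, 2], [], [2, 3, 2, 1, 0, 2, 1, 2], [2, 1, 0, 2, 1, 2], [3, 2, 1, 0, 2, 1, 2], [], [],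
   []]

def temf4_path (r : ℕ) : List ℕ := temf4_tab.getD r []

set_option synthInstance.maxSize 1024 in
theorem temf4_cert : ∀ r < 72, h8sE6 r ≠ r →
    h8sW chevE6 (flatO (temf4_path r)) 56 = r ∧
      h8sW chevE6 (flatO (temf4_path r).reverse) r = 56 := by decide +kernel

theorem temf4_orbW_lt (k : ℕ) : ∀ i ∈ orbW k, i < 6 := by
  intro i hi
  unfold orbW at hi
  split at hi <;> simp at hi <;> omega

theorem temf4_flatO_lt (l : List ℕ) : ∀ i ∈ flatO l, i < 6 := by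
  intro i hi
  unfold flatO at hi
  rw [List.mem_flatMap] at hi
  obtain ⟨k, _, hk⟩ := hi
  exact temf4_orbW_lt k i hk

theorem temf4_nroots : chevE6.nroots = 72 := by decide +kernel

theorem temf4_rank : chevE6.rank = 6 := by decide +kernel

variable {K : Type u} [Field K] {q : ℕ} {f : K ≃+* K} {M H : Subgroup (GG K)}

/-- `nO l` conjugates short root elements to short root elements -/
theorem temf4_conj (hF : Frob q f)
    (hC6 : ∀ (w : List ℕ), (∀ i ∈ w, i < 6) → ∀ r < 72, ∃ ε : K, (ε = 1 ∨ ε = -1) ∧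
      (∀ t : K, nW w * X r t * (nW w)⁻¹ = X (h8sW chevE6 w r) (ε * t)) ∧
      ∀ t : K, (nW w)⁻¹ * X (h8sW chevE6 w r) t * nW w = X r (ε * t))
    (hG1 : ∀ l : List ℕ, (nO l : GG K) ∈ twistedE6 K q)
    (l : List ℕ) (r : ℕ) (hr : r < 72) :
    ∃ ε : K, (ε = 1 ∨ ε = -1) ∧ ∀ t : K,
      nO l * XS q r t * (nO l)⁻¹ = XS q (h8sW chevE6 (flatO l) r) (ε * t) := by
  obtain ⟨ε, hε, h1, -⟩ := hC6 (flatO l) (temf4_flatO_lt l) r hr
  have hr1 : h8sW chevE6 (flatO l) r < 72 := by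
    have := h8sW_lt chevE6 hA (flatO l)
      (by rw [temf4_rank]; exact temf4_flatO_lt l) r (by rw [temf4_nroots]; exact hr)
    rwa [temf4_nroots] at this
  refine ⟨ε, hε, fun t => ?_⟩
  have hn : Sg f (nO l : GG K) = nO l := sig_fix hF _ (hG1 l)
  have h2 : nO l * X (h8sE6 r) (((h8eE6 r : ℤ) : K) * t ^ q) * (nO l)⁻¹ =
      X (h8sE6 (h8sW chevE6 (flatO l) r))
        (((h8eE6 (h8sW chevE6 (flatO l) r) : ℤ) : K) * (ε * t) ^ q) := by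
    have h3 := congrArg (Sg f) (h1 t)
    rw [map_mul, map_mul, map_inv, Sg_X f r hr, Sg_X f _ hr1, hF.pow, hF.pow] at h3
    have hn' : Sg f (nW (flatO l) : GG K) = nO l := hn
    rw [hn'] at h3
    exact h3
  have h1' : nO l * X r t * (nO l)⁻¹ = X (h8sW chevE6 (flatO l) r) (ε * t) := h1 t
  unfold XS
  rw [← h1', ← h2]
  group

theorem temf4_core (C : Ctx q f M H)
    (hC6 : ∀ (w : List ℕ), (∀ i ∈ w, i < 6) → ∀ r < 72, ∃ ε : K, (ε = 1 ∨ ε = -1) ∧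
      (∀ t : K, nW w * X r t * (nW w)⁻¹ = X (h8sW chevE6 w r) (ε * t)) ∧
      ∀ t : K, (nW w)⁻¹ * X (h8sW chevE6 w r) t * nW w = X r (ε * t))
    (hG1 : ∀ l : List ℕ, (nO l : GG K) ∈ twistedE6 K q)
    (hR2 : ∀ w : List ℕ, Rat q (nW w : GG K))
    (r : ℕ) (hr : r < 72) (hσ : h8sE6 r ≠ r)
    (h : ∀ t : K, XS q r t ∈ H) : ∀ r' < 72, h8sE6 r' ≠ r' → ∀ t : K, XS q r' t ∈ H := by
  have hnH : ∀ l : List ℕ, (nO l : GG K) ∈ H := fun l =>
    C.hMH ((C.hM _).mpr ⟨hG1 l, hR2 (flatO l)⟩)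
  -- one step of transport
  have step : ∀ (l : List ℕ) (r₀ : ℕ), r₀ < 72 → (∀ t : K, XS q r₀ t ∈ H) →
      ∀ t : K, XS q (h8sW chevE6 (flatO l) r₀) t ∈ H := by
    intro l r₀ hr₀ h₀ t
    obtain ⟨ε, hε, hc⟩ := temf4_conj C.hF hC6 hG1 l r₀ hr₀
    have hεε : ε * (ε * t) = t := by
      rcases hε with rfl | rfl <;> ring
    have := hc (ε * t)
    rw [hεε] at this
    rw [← this]
    exact H.mul_mem (H.mul_mem (hnH l) (h₀ _)) (H.inv_mem (hnH l))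
  intro r' hr' hσ' t
  have h56 : ∀ t : K, XS q 56 t ∈ H := by
    intro t
    have := step (temf4_path r).reverse r hr h t
    rwa [(temf4_cert r hr hσ).2] at this
  have := step (temf4_path r') 56 (by norm_num) h56 t
  rwa [(temf4_cert r' hr' hσ').1] at this

end Cfsg.Agent.Lib.Helper10.TEM
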