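import Mathlib
import Cfsg.Agent.Lib.Helper10.TEM.Defs
import Cfsg.Agent.Lib.Helper27.TEMF4core
import Cfsg.Agent.Lib.Helper16.TEMC6
import Cfsg.Agent.Lib.Helper12.TEMG1
import Cfsg.Agent.Lib.helper4.TEMR2

/-!
# TEM row F4 (verbatim): `short_all`.
-/

set_option autoImplicit false

namespace Cfsg.Agent.Lib.Helper10.TEM

open Cfsg.Lie Cfsg.Lie.ChevalleyDatum Matrix
open Cfsg.Agent.Lib.helper8

universe u

variable {K : Type u} [Field K] {q : ℕ} {f : K ≃+* K} {M H : Subgroup (GG K)}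

theorem short_all (C : Ctx q f M H) (r : ℕ) (hr : r < 72) (hσ : h8sE6 r ≠ r)
    (h : ∀ t : K, XS q r t ∈ H) : ∀ r' < 72, h8sE6 r' ≠ r' → ∀ t : K, XS q r' t ∈ H :=
  temf4_core C (fun w hw r hr => nW_X w hw r hr) (fun l => nO_mem_G1 C.hF l)
    (fun w => rat_nW C.hF w) r hr hσ h

end Cfsg.Agent.Lib.Helper10.TEM
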