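import Mathlib
import Cfsg.Agent.Lib.Helper10.TEM.Defs

/-!
# TEM row P4, part a: generic lemmas (products modulo a central subgroup containing the commutators;
the full block decomposition of a fixed element of a term of the filtration).
-/

set_option autoImplicit false

namespace Cfsg.Agent.Lib.Helper10.TEM

open Cfsg.Lie Cfsg.Lie.ChevalleyDatum Matrix
open Cfsg.Agent.Lib.helper8

universe u

/-- In a subgroup `Q` whose commutators lie in a subgroup `Z` centralized by `Q`, the products of two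
lists of elements of `Q` that are permutations of each other differ by an element of `Z`. -/
theorem temp4q_perm_prod {G : Type*} [Group G] (Q Z : Subgroup G)
    (hcomm : ∀ g ∈ Q, ∀ h ∈ Q, g * h * g⁻¹ * h⁻¹ ∈ Z)
    (hcent : ∀ g ∈ Q, ∀ z ∈ Z, Commute g z)
    (L₁ L₂ : List G) (hp : L₁.Perm L₂) (hL : ∀ x ∈ L₁, x ∈ Q) :
    L₁.prod⁻¹ * L₂.prod ∈ Z := by
  induction hp with
  | nil => simp
  | cons x _ ih =>
    rw [List.prod_cons, List.prod_cons]
    have e : ∀ a b : G, (x * a)⁻¹ * (x * b) = a⁻¹ * b := fun a b => by group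
    rw [e]
    exact ih (fun y hy => hL y (List.mem_cons_of_mem _ hy))
  | swap x y l =>
    rw [List.prod_cons, List.prod_cons, List.prod_cons, List.prod_cons]
    have hx : x ∈ Q := hL x (List.mem_cons_of_mem _ List.mem_cons_self)
    have hy : y ∈ Q := hL y List.mem_cons_self
    have hl : l.prod ∈ Q := Subgroup.list_prod_mem _ (fun z hz =>
      hL z (List.mem_cons_of_mem _ (List.mem_cons_of_mem _ hz)))
    have hz : x⁻¹ * y⁻¹ * x⁻¹⁻¹ * y⁻¹⁻¹ ∈ Z := hcomm _ (Q.inv_mem hx) _ (Q.inv_mem hy)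
    have hc := hcent _ hl _ hz
    have e : (y * (x * l.prod))⁻¹ * (x * (y * l.prod)) =
        l.prod⁻¹ * ((x⁻¹ * y⁻¹ * x⁻¹⁻¹ * y⁻¹⁻¹) * l.prod) := by group
    rw [e, ← hc.eq, inv_mul_cancel_left]
    exact hz
  | trans h₁ h₂ ih₁ ih₂ =>
    rename_i l₁ l₂ l₃
    have hL₂ : ∀ x ∈ l₂, x ∈ Q := fun x hx => hL x (h₁.mem_iff.mpr hx)
    have e : l₁.prod⁻¹ * l₃.prod = (l₁.prod⁻¹ * l₂.prod) * (l₂.prod⁻¹ * l₃.prod) := by group
    rw [e]
    exact Z.mul_mem (ih₁ hL) (ih₂ hL₂)

variable {K : Type u} [Field K] {q : ℕ} {f : K ≃+* K}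

/-- the full block decomposition of a fixed element of the `i`-th term of the filtration -/
theorem temp4q_blocks (n : ℕ) : ∀ i, i + n = 24 → ∀ g ∈ h8Ub chevE6 K posi i, Sg f g = g →
    ∃ t : ℕ → ℕ → K,
      (∀ j, i ≤ j → j < 24 → ∀ k ∈ h8Lb chevE6 posi j, h8tS h8tE6 h8eE6 f (t j) k = t j k) ∧
      g = ((List.range' i n).map fun j => h8Pb chevE6 hB (h8Lb chevE6 posi j) (t j)).prod := by
  induction n with
  | zero =>
    intro i hi g hg _
    have : i = 24 := by omega
    rw [this, h8Ub_top chevE6 posi 24 posi_lt, Subgroup.mem_bot] at hg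
    refine ⟨fun _ _ => 0, fun j h1 h2 => by omega, ?_⟩
    rw [hg]; rfl
  | succ n ih =>
    intro i hi g hg hfix
    obtain ⟨t, v, hv, rfl⟩ := h8Ub_step chevE6 hB hC hBN hO2 posi blk i g hg
    obtain ⟨h1, h2⟩ := h8Sig_fix_split chevE6 hB hC hBN hO2 posi blk blkRead h8sE6 h8tE6 h8pE6
      h8qE6 h8eE6 hAut f sigp i t v hv hfix
    obtain ⟨t', ht', hv'⟩ := ih (i + 1) (by omega) v hv h2
    refine ⟨Function.update t' i t, ?_, ?_⟩
    · intro j hj1 hj2 k hk
      by_cases hji : j = i
      · subst hji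
        rw [Function.update_self]
        exact h1 k hk
      · rw [Function.update_of_ne hji]
        exact ht' j (by omega) hj2 k hk
    · rw [List.range'_succ, List.map_cons, List.prod_cons, Function.update_self, hv']
      congr 2
      apply List.map_congr_left
      intro j hj
      rw [List.mem_range'_1] at hj
      rw [Function.update_of_ne (by omega)]

end Cfsg.Agent.Lib.Helper10.TEM
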