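import Mathlib
import Cfsg.Agent.Lib.Helper10.TEM.Defs
import Cfsg.Agent.Lib.Helper27.TEMP4a
import Cfsg.Agent.Lib.Helper27.TEMP3
import Cfsg.Agent.Lib.Helper21.TEMC5
import Cfsg.Agent.Lib.helper4.TEMR2
import Cfsg.Agent.Lib.Helper26.TEMR1

/-!
# TEM row P4 (core): `u = QS q t * ℓ`, `ℓ` rational.
Core on the statements of the rows P0 (`Ub_nine`) and G3 (`X_mem_G1`, `XS_mem_G1`).
-/

set_option autoImplicit false

namespace Cfsg.Agent.Lib.Helper10.TEM

open Cfsg.Lie Cfsg.Lie.ChevalleyDatum Matrix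
open Cfsg.Agent.Lib.helper8

universe u

theorem temp4q_Lb : ∀ j < 24, h8Lb chevE6 posi j =
    ([[39], [37, 42], [40, 43], [44], [36, 56], [38, 57], [41, 58], [45, 59], [60], [46], [47],
     [48, 50], [49, 61], [51], [52, 62], [53], [54, 64], [63], [55, 67], [65], [66, 68], [69], [70],
     [71]] : List (List ℕ)).getD j [] := by
  intro j hj
  have h := congrArg (fun l => l.getD j []) Lb_data
  simp only [List.getD_eq_getElem?_getD, List.getElem?_map, List.getElem?_range hj,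
    Option.map_some, Option.getD_some] at h
  rw [h]
  simp only [List.getD_eq_getElem?_getD]

/-- data of the fixed roots of level 1 -/
theorem temp4q_long_data : ∀ r ∈ [46, 47, 51, 53, 63, 65, 69, 70, 71],
    r < 72 ∧ r ∈ Psi1 ∧ h8sE6 r = r ∧ h8tE6 r = r ∧ h8eE6 r = 1 := by decide +kernel

/-- data of the non-fixed roots of level 1 -/
theorem temp4q_short_data : ∀ r ∈ [48, 49, 52, 54, 55, 66],
    r < 72 ∧ r ∈ Psi1 ∧ h8sE6 r ∈ Psi1 ∧ h8sE6 r ≠ r ∧ h8tE6 (h8sE6 r) = r := by decide +kernel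

variable {K : Type u} [Field K] {q : ℕ} {f : K ≃+* K}

theorem temp4q_X_mem (r : ℕ) (hr : r ∈ Psi1) (t : K) : X r t ∈ UPsi K Psi1 :=
  Subgroup.subset_closure ⟨r, hr, t, rfl⟩

/-- a one-root block -/
theorem temp4q_long_block (hF : Frob q f) (j r : ℕ) (hLb : h8Lb chevE6 posi j = [r])
    (hr : r ∈ [46, 47, 51, 53, 63, 65, 69, 70, 71]) (t : ℕ → K)
    (ht : ∀ k ∈ h8Lb chevE6 posi j, h8tS h8tE6 h8eE6 f t k = t k) :
    h8Pb chevE6 hB (h8Lb chevE6 posi j) t = X r (t r) ∧ (t r) ^ q = t r := by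
  obtain ⟨_, _, _, hτ, hη⟩ := temp4q_long_data r hr
  refine ⟨?_, ?_⟩
  · rw [hLb, h8Pb_cons, h8Pb_nil, mul_one]; rfl
  · have := ht r (by rw [hLb]; exact List.mem_singleton_self r)
    unfold h8tS at this
    rw [hτ, hη, Int.cast_one, one_mul, hF.pow] at this
    exact this

/-- a two-root block -/
theorem temp4q_short_block (hF : Frob q f) (j r : ℕ) (hLb : h8Lb chevE6 posi j = [r, h8sE6 r])
    (hr : r ∈ [48, 49, 52, 54, 55, 66]) (t : ℕ → K)
    (ht : ∀ k ∈ h8Lb chevE6 posi j, h8tS h8tE6 h8eE6 f t k = t k) :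
    h8Pb chevE6 hB (h8Lb chevE6 posi j) t = XS q r (t r) := by
  obtain ⟨_, _, _, _, hτ⟩ := temp4q_short_data r hr
  have := ht (h8sE6 r) (by rw [hLb]; simp)
  unfold h8tS at this
  rw [hτ, hF.pow] at this
  rw [hLb, h8Pb_cons, h8Pb_cons, h8Pb_nil, mul_one, ← this]
  rfl

theorem temp4q_XS_mem (r : ℕ) (hr : r ∈ [48, 49, 52, 54, 55, 66]) (t : K) :
    XS q r t ∈ UPsi K Psi1 := by
  obtain ⟨_, h1, h2, _, _⟩ := temp4q_short_data r hr
  exact Subgroup.mul_mem _ (temp4q_X_mem r h1 t) (temp4q_X_mem _ h2 _)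

theorem temp4q_central (g : GG K) (hg : g ∈ UPsi K Psi1) (z : GG K) (hz : z ∈ UPsi K [71]) :
    Commute g z := by
  unfold UPsi at hg
  induction hg using Subgroup.closure_induction with
  | mem x hx =>
    obtain ⟨r, hr, t, rfl⟩ := hx
    exact temc5_central r hr t z hz
  | one => exact Commute.one_left z
  | mul x y _ _ hx hy => exact hx.mul_left hy
  | inv x _ hx => exact hx.inv_left

theorem temp4q_core (hF : Frob q f)
    (hP0 : h8Ub chevE6 K posi 9 = UPsi K Psi1)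
    (hG3X : ∀ r < 72, h8sE6 r = r → ∀ t : K, t ^ q = t → X r t ∈ twistedE6 K q)
    (hG3S : ∀ r < 72, h8sE6 r ≠ r → ∀ t : K, XS q r t ∈ twistedE6 K q)
    (u : GG K) (hu : u ∈ UPsi K Psi1 ⊓ twistedE6 K q) :
    ∃ t : ℕ → K, ∃ ℓ : GG K, ℓ ∈ UPsi K Psi1 ∧ ℓ ∈ twistedE6 K q ∧ Rat q ℓ ∧ u = QS q t * ℓ := by
  have hfix : Sg f u = u := sig_fix hF u hu.2
  obtain ⟨tb, htb, hu_eq⟩ := temp4q_blocks 15 9 rfl u (by rw [hP0]; exact hu.1) hfix
  -- the coordinates
  let a : ℕ → K := fun r => tb (posi r) r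
  -- the long blocks
  have hl : ∀ (j r : ℕ), 9 ≤ j → j < 24 → h8Lb chevE6 posi j = [r] →
      r ∈ [46, 47, 51, 53, 63, 65, 69, 70, 71] →
      h8Pb chevE6 hB (h8Lb chevE6 posi j) (tb j) = X r (tb j r) ∧ (tb j r) ^ q = tb j r :=
    fun j r h1 h2 hLb hr => temp4q_long_block hF j r hLb hr (tb j) (htb j h1 h2)
  have hs : ∀ (j r : ℕ), 9 ≤ j → j < 24 → h8Lb chevE6 posi j = [r, h8sE6 r] →
      r ∈ [48, 49, 52, 54, 55, 66] →
      h8Pb chevE6 hB (h8Lb chevE6 posi j) (tb j) = XS q r (tb j r) :=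
    fun j r h1 h2 hLb hr => temp4q_short_block hF j r hLb hr (tb j) (htb j h1 h2)
  obtain ⟨e9, r46⟩ := hl 9 46 (by norm_num) (by norm_num) (by rw [temp4q_Lb 9 (by norm_num)]; rfl) (by simp)
  obtain ⟨e10, r47⟩ := hl 10 47 (by norm_num) (by norm_num) (by rw [temp4q_Lb 10 (by norm_num)]; rfl) (by simp)
  have e11 := hs 11 48 (by norm_num) (by norm_num) (by rw [temp4q_Lb 11 (by norm_num)]; rfl) (by simp)
  have e12 := hs 12 49 (by norm_num) (by norm_num) (by rw [temp4q_Lb 12 (by norm_num)]; rfl) (by simp)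
  obtain ⟨e13, r51⟩ := hl 13 51 (by norm_num) (by norm_num) (by rw [temp4q_Lb 13 (by norm_num)]; rfl) (by simp)
  have e14 := hs 14 52 (by norm_num) (by norm_num) (by rw [temp4q_Lb 14 (by norm_num)]; rfl) (by simp)
  obtain ⟨e15, r53⟩ := hl 15 53 (by norm_num) (by norm_num) (by rw [temp4q_Lb 15 (by norm_num)]; rfl) (by simp)
  have e16 := hs 16 54 (by norm_num) (by norm_num) (by rw [temp4q_Lb 16 (by norm_num)]; rfl) (by simp)
  obtain ⟨e17, r63⟩ := hl 17 63 (by norm_num) (by norm_num) (by rw [temp4q_Lb 17 (by norm_num)]; rfl) (by simp)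
  have e18 := hs 18 55 (by norm_num) (by norm_num) (by rw [temp4q_Lb 18 (by norm_num)]; rfl) (by simp)
  obtain ⟨e19, r65⟩ := hl 19 65 (by norm_num) (by norm_num) (by rw [temp4q_Lb 19 (by norm_num)]; rfl) (by simp)
  have e20 := hs 20 66 (by norm_num) (by norm_num) (by rw [temp4q_Lb 20 (by norm_num)]; rfl) (by simp)
  obtain ⟨e21, r69⟩ := hl 21 69 (by norm_num) (by norm_num) (by rw [temp4q_Lb 21 (by norm_num)]; rfl) (by simp)
  obtain ⟨e22, r70⟩ := hl 22 70 (by norm_num) (by norm_num) (by rw [temp4q_Lb 22 (by norm_num)]; rfl) (by simp)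
  obtain ⟨e23, r71⟩ := hl 23 71 (by norm_num) (by norm_num) (by rw [temp4q_Lb 23 (by norm_num)]; rfl) (by simp)
  have hrange : List.range' 9 15 = [9, 10, 11, 12, 13, 14, 15, 16, 17, 18, 19, 20, 21, 22, 23] := by
    decide
  rw [hrange] at hu_eq
  simp only [List.map_cons, List.map_nil, e9, e10, e11, e12, e13, e14, e15, e16, e17, e18, e19, e20,
    e21, e22, e23] at hu_eq
  -- the factors, as a function of the root
  let F : ℕ → GG K := fun r =>
    if r ∈ [48, 49, 52, 54, 55, 66] then XS q r (a r) else X r (a r)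
  have hu1 : u = ([46, 47, 48, 49, 51, 52, 53, 54, 63, 55, 65, 66, 69, 70, 71].map F).prod := by
    rw [hu_eq]; rfl
  have hperm : ([46, 47, 48, 49, 51, 52, 53, 54, 63, 55, 65, 66, 69, 70, 71] : List ℕ).Perm
      [48, 49, 52, 54, 55, 66, 46, 47, 51, 53, 63, 65, 69, 70, 71] := by decide
  have hFQ : ∀ x ∈ ([46, 47, 48, 49, 51, 52, 53, 54, 63, 55, 65, 66, 69, 70, 71].map F),
      x ∈ UPsi K Psi1 := by
    intro x hx
    rw [List.mem_map] at hx
    obtain ⟨r, hr, rfl⟩ := hx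
    show (if r ∈ [48, 49, 52, 54, 55, 66] then XS q r (a r) else X r (a r)) ∈ UPsi K Psi1
    split_ifs with h
    · exact temp4q_XS_mem r h _
    · refine temp4q_X_mem r ?_ _
      revert r
      decide
  have hw := temp4q_perm_prod (UPsi K Psi1) (UPsi K [71]) Q_comm temp4q_central _ _
    (hperm.map F) hFQ
  rw [← hu1] at hw
  -- the long part
  set L₀ : GG K := X 46 (a 46) * (X 47 (a 47) * (X 51 (a 51) * (X 53 (a 53) * (X 63 (a 63) *
    (X 65 (a 65) * (X 69 (a 69) * (X 70 (a 70) * (X 71 (a 71) * 1)))))))) with hL₀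
  have hprod2 : ([48, 49, 52, 54, 55, 66, 46, 47, 51, 53, 63, 65, 69, 70, 71].map F).prod =
      QS q a * L₀ := by
    show XS q 48 (a 48) * (XS q 49 (a 49) * (XS q 52 (a 52) * (XS q 54 (a 54) * (XS q 55 (a 55) *
      (XS q 66 (a 66) * L₀))))) = QS q a * L₀
    unfold QS
    simp only [mul_assoc]
  rw [hprod2] at hw
  set w : GG K := u⁻¹ * (QS q a * L₀) with hw_def
  -- memberships
  have hQSQ : QS q a ∈ UPsi K Psi1 := by
    unfold QS
    exact Subgroup.mul_mem _ (Subgroup.mul_mem _ (Subgroup.mul_mem _ (Subgroup.mul_mem _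
      (Subgroup.mul_mem _ (temp4q_XS_mem 48 (by simp) _) (temp4q_XS_mem 49 (by simp) _))
      (temp4q_XS_mem 52 (by simp) _)) (temp4q_XS_mem 54 (by simp) _))
      (temp4q_XS_mem 55 (by simp) _)) (temp4q_XS_mem 66 (by simp) _)
  have hSG : ∀ r ∈ [48, 49, 52, 54, 55, 66], ∀ t : K, XS q r t ∈ twistedE6 K q := by
    intro r hr t
    obtain ⟨h1, _, _, h4, _⟩ := temp4q_short_data r hr
    exact hG3S r h1 h4 t
  have hQSG : QS q a ∈ twistedE6 K q := by
    unfold QS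
    exact Subgroup.mul_mem _ (Subgroup.mul_mem _ (Subgroup.mul_mem _ (Subgroup.mul_mem _
      (Subgroup.mul_mem _ (hSG 48 (by simp) _) (hSG 49 (by simp) _))
      (hSG 52 (by simp) _)) (hSG 54 (by simp) _)) (hSG 55 (by simp) _)) (hSG 66 (by simp) _)
  have hXG : ∀ r ∈ [46, 47, 51, 53, 63, 65, 69, 70, 71], ∀ t : K, t ^ q = t →
      X r t ∈ twistedE6 K q := by
    intro r hr t ht
    obtain ⟨h1, _, h3, _, _⟩ := temp4q_long_data r hr
    exact hG3X r h1 h3 t ht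
  have hL₀G : L₀ ∈ twistedE6 K q := by
    rw [hL₀]
    exact Subgroup.mul_mem _ (hXG 46 (by simp) _ r46) (Subgroup.mul_mem _ (hXG 47 (by simp) _ r47)
      (Subgroup.mul_mem _ (hXG 51 (by simp) _ r51) (Subgroup.mul_mem _ (hXG 53 (by simp) _ r53)
      (Subgroup.mul_mem _ (hXG 63 (by simp) _ r63) (Subgroup.mul_mem _ (hXG 65 (by simp) _ r65)
      (Subgroup.mul_mem _ (hXG 69 (by simp) _ r69) (Subgroup.mul_mem _ (hXG 70 (by simp) _ r70)
      (Subgroup.mul_mem _ (hXG 71 (by simp) _ r71) (Subgroup.one_mem _)))))))))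
  have hL₀R : Rat q L₀ := by
    rw [hL₀]
    exact rat_mul hF (rat_X hF 46 _ r46) (rat_mul hF (rat_X hF 47 _ r47)
      (rat_mul hF (rat_X hF 51 _ r51) (rat_mul hF (rat_X hF 53 _ r53)
      (rat_mul hF (rat_X hF 63 _ r63) (rat_mul hF (rat_X hF 65 _ r65)
      (rat_mul hF (rat_X hF 69 _ r69) (rat_mul hF (rat_X hF 70 _ r70)
      (rat_mul hF (rat_X hF 71 _ r71) (rat_one hF)))))))))
  have hwG : w ∈ twistedE6 K q :=
    Subgroup.mul_mem _ (Subgroup.inv_mem _ hu.2) (Subgroup.mul_mem _ hQSG hL₀G)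
  have hwR : Rat q w := one_rat hF 71 (by simp) w ⟨hw, hwG⟩
  have hℓ : (QS q a)⁻¹ * u = L₀ * w⁻¹ := by
    rw [hw_def]; group
  refine ⟨a, (QS q a)⁻¹ * u, ?_, ?_, ?_, ?_⟩
  · exact Subgroup.mul_mem _ (Subgroup.inv_mem _ hQSQ) hu.1
  · exact Subgroup.mul_mem _ (Subgroup.inv_mem _ hQSG) hu.2
  · rw [hℓ]
    exact rat_mul hF hL₀R (rat_inv hF hwR)
  · group

end Cfsg.Agent.Lib.Helper10.TEM
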