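import Cfsg.Agent.Lib.Helper28.TOO.Defs2

/-!
# Project TOO, row GA8 (perp_img): isometries map perps to perps.
-/

set_option autoImplicit false
set_option linter.unusedVariables false
set_option linter.unusedSectionVars false

namespace Cfsg.Agent.Lib.Helper28.TOO

open Matrix
open scoped Kronecker
open Cfsg.Agent.Lib.helper7.TP Cfsg.Agent.Lib.Helper21.TS

/-- general form: `g ∈ Iso J` ⇒ `(g S)^⊥ = g (S^⊥)`. -/
theorem tooga8_perp_img {ι : Type*} [Fintype ι] [DecidableEq ι] {F : Type*} [Field F] {J : Matrix ι ι F}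
    (g : Matrix.GeneralLinearGroup ι F) (hg : g ∈ Iso J) (S : Submodule F (ι → F)) :
    perp J (img g S) = img g (perp J S) := by
  have hiso := (mem_Iso_iff_bf J g).mp hg
  have hgi : ∀ y, (g : Matrix ι ι F) *ᵥ (((g⁻¹ : Matrix.GeneralLinearGroup ι F) : Matrix ι ι F) *ᵥ y) = y := by
    intro y
    rw [Matrix.mulVec_mulVec, ← Units.val_mul, mul_inv_cancel, Units.val_one, Matrix.one_mulVec]
  ext v
  rw [mem_perp, mem_img]
  constructor
  · intro h
    refine ⟨((g⁻¹ : Matrix.GeneralLinearGroup ι F) : Matrix ι ι F) *ᵥ v, ?_, hgi v⟩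
    rw [mem_perp]
    intro s hs
    have h1 := h ((g : Matrix ι ι F) *ᵥ s) ((mem_img g S _).mpr ⟨s, hs, rfl⟩)
    rw [← hiso, hgi]
    exact h1
  · rintro ⟨s', hs', rfl⟩ t ht
    obtain ⟨s, hs, rfl⟩ := (mem_img g S t).mp ht
    rw [hiso]
    exact hs' s hs

variable {a b : ℕ} {F : Type*} [Field F]
variable {J1 : Matrix (Fin a) (Fin a) F} {J2 : Matrix (Fin b) (Fin b) F}

/-- GA8 [M]. isometries map perps to perps: `g ∈ O(V)` ⇒ `(g S)^⊥ = g (S^⊥)`. -/
theorem perp_img (g : Matrix.GeneralLinearGroup (Fin a × Fin b) F) (hg : g ∈ OV J1 J2)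
    (S : Submodule F (Fin a × Fin b → F)) :
    perp (JV J1 J2) (img g S) = img g (perp (JV J1 J2) S) :=
  tooga8_perp_img g hg S

end Cfsg.Agent.Lib.Helper28.TOO
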