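import Cfsg.Agent.Lib.Helper28.TOO.Defs
import Cfsg.Agent.Lib.helper6.TSSIEG
import Cfsg.Agent.Lib.Helper21.TOO.Transfer
import Cfsg.Agent.Lib.Helper28.TOOPERP
import Cfsg.Agent.Lib.Helper11.TOOWQ1
import Cfsg.Agent.Lib.helper14.TOOWG5b
import Cfsg.Agent.Lib.helper7.TOOWG1
import Cfsg.Agent.Lib.Helper27.TOOGC2

/-!
# Project TOO (S5681), block WORLD 1, row WQ3 (`w1_qpt_left`): `ρ_{u ⊗ w, x' ⊗ y'} ∈ M` for `x' ⊥ u`.
-/

set_option autoImplicit false
set_option linter.unusedVariables false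
set_option linter.unusedSectionVars false

namespace Cfsg.Agent.Lib.Helper28.TOO

open Matrix
open scoped Kronecker
open Cfsg.Agent.Lib.helper7.TP Cfsg.Agent.Lib.Helper21.TS

variable {a b : ℕ} {F : Type*} [Field F]
variable {J1 : Matrix (Fin a) (Fin a) F} {J2 : Matrix (Fin b) (Fin b) F}

theorem toowq3_XBm_mulVec_ten (J2 : Matrix (Fin b) (Fin b) F) (ζ : Matrix (Fin a) (Fin a) F) (w : Fin b → F)
    (z : Fin a → F) (y : Fin b → F) :
    XBm J2 ζ w *ᵥ ten z y = ten z y + bf J2 w y • ten (ζ *ᵥ z) w := by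
  rw [XBm, Matrix.add_mulVec, Matrix.one_mulVec, kron_mulVec_ten, opm_mulVec, ten_smul_right]

theorem toowq3_Nw_skewAdj {n : ℕ} {J : Matrix (Fin n) (Fin n) F} (hJ : Jᵀ = J) (x y : Fin n → F) :
    SkewAdj J (Nw J x y) := by
  rw [skewAdj_iff_bf]
  intro z z'
  rw [toogc2_Nw_mulVec, toogc2_Nw_mulVec, bf_sub_left, bf_sub_right, bf_smul_left, bf_smul_left,
    bf_smul_right, bf_smul_right, bf_symm hJ z x, bf_symm hJ z y]
  ring

theorem toowq3_ten_zero_left (w : Fin b → F) : ten (0 : Fin a → F) w = 0 := by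
  funext p
  simp [ten]

theorem toowq3_ten_neg_left (x : Fin a → F) (w : Fin b → F) : ten (-x) w = -ten x w := by
  funext p
  simp [ten]

/-- an auxiliary pair: `b' ⊥ u` and `x` with `f(b',x) = 1`, `f(x',x) = 0`. -/
theorem toowq3_aux {n : ℕ} {J : Matrix (Fin n) (Fin n) F} (hJ : Jᵀ = J) (hdet : J.det ≠ 0) (hn : 3 ≤ n)
    (u x' : Fin n → F) (hu0 : u ≠ 0) (hx'0 : x' ≠ 0) :
    ∃ b' x : Fin n → F, bf J b' u = 0 ∧ bf J b' x = 1 ∧ bf J x' x = 0 := by
  have hs := bf_symm hJ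
  have h1 := tooperp_finrank hJ hdet (Submodule.span F {u})
  rw [finrank_span_singleton hu0, Fintype.card_fin] at h1
  have hnot : ¬ perp J (Submodule.span F {u}) ≤ Submodule.span F {x'} := by
    intro hle
    have h2 := Submodule.finrank_mono hle
    rw [finrank_span_singleton hx'0] at h2
    omega
  obtain ⟨b', hb'U, hb'n⟩ := SetLike.not_le_iff_exists.mp hnot
  have hb'u : bf J b' u = 0 := hb'U u (Submodule.subset_span rfl)
  have hnot2 : ¬ perp J (Submodule.span F {x'}) ≤ perp J (Submodule.span F {b'}) := by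
    intro hle
    have h3 := tooperp_anti (J := J) hle
    rw [tooperp_perp_perp hJ hdet, tooperp_perp_perp hJ hdet] at h3
    exact hb'n (h3 (Submodule.subset_span rfl))
  obtain ⟨x₀, hx₀1, hx₀2⟩ := SetLike.not_le_iff_exists.mp hnot2
  have hx₀x' : bf J x₀ x' = 0 := hx₀1 x' (Submodule.subset_span rfl)
  have hx₀b' : bf J x₀ b' ≠ 0 := by
    intro h0
    apply hx₀2
    intro s hs'
    obtain ⟨c, rfl⟩ := Submodule.mem_span_singleton.mp hs'
    rw [bf_smul_right, h0, mul_zero]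
  refine ⟨b', (bf J x₀ b')⁻¹ • x₀, hb'u, ?_, ?_⟩
  · rw [bf_smul_right, hs b' x₀, inv_mul_cancel₀ hx₀b']
  · rw [bf_smul_right, hs x' x₀, hx₀x', mul_zero]

/-- WQ3 [M-L]. -/
theorem w1_qpt_left (C : OCtx J1 J2) (ha : 3 ≤ a)
    (M : Subgroup (Matrix.GeneralLinearGroup (Fin a × Fin b) F)) (hM : M ≤ OV J1 J2)
    (hXi : ∀ (ξ : Matrix (Fin a) (Fin a) F) (w : Fin b → F), SkewAdj J1 ξ → bf J2 w w = 0 →
      InM M (XBm J2 ξ w))
    (u : Fin a → F) (w : Fin b → F) (hu0 : u ≠ 0) (hw0 : w ≠ 0) (hw : bf J2 w w = 0)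
    (x' : Fin a → F) (hx' : bf J1 u x' = 0) (y' : Fin b → F) :
    InM M (sieg (JV J1 J2) (ten u w) (ten x' y')) := by
  have hs₁ := bf_symm C.sym1
  have hs₂ := bf_symm C.sym2
  have hJV : (JV J1 J2)ᵀ = JV J1 J2 := tooperp_JV_symm C
  have hpp : bf (JV J1 J2) (ten u w) (ten u w) = 0 := by rw [bf_JV_ten, hw, mul_zero]
  -- at `w` itself
  have keyB : ∀ x : Fin a → F, InM M (sieg (JV J1 J2) (ten u w) (ten x w)) := by
    intro x
    rw [w1_sieg_ten_B u x w hw]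
    exact hXi _ _ (toowq3_Nw_skewAdj C.sym1 u x) hw
  -- at a singular `w'` with `f(w,w') = 1`
  have keyA : ∀ x'' : Fin a → F, bf J1 u x'' = 0 → ∀ w' : Fin b → F, bf J2 w' w' = 0 → bf J2 w w' = 1 →
      InM M (sieg (JV J1 J2) (ten u w) (ten x'' w')) := by
    intro x'' hx'' w' hw' hww'
    by_cases hx''0 : x'' = 0
    · rw [hx''0, toowq3_ten_zero_left, tssieg_zero]
      exact InM_one M
    obtain ⟨b', x, hb'u, hb'x, hx''x⟩ := toowq3_aux C.sym1 C.det1 ha u x'' hu0 hx''0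
    obtain ⟨kG, hkG, hkval⟩ := hXi (Nw J1 x'' b') w' (toowq3_Nw_skewAdj C.sym1 x'' b') hw'
    have hw'w : bf J2 w' w = 1 := by rw [hs₂]; exact hww'
    have hkp : (kG : Matrix (Fin a × Fin b) (Fin a × Fin b) F) *ᵥ ten u w = ten u w := by
      rw [hkval, toowq3_XBm_mulVec_ten, toogc2_Nw_mulVec, hb'u, hs₁ x'' u, hx'']
      simp [toowq3_ten_zero_left]
    have hkx : (kG : Matrix (Fin a × Fin b) (Fin a × Fin b) F) *ᵥ ten x w = ten x w + ten x'' w' := by
      rw [hkval, toowq3_XBm_mulVec_ten, toogc2_Nw_mulVec, hb'x, hx''x, hw'w]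
      simp
    have h2 := (keyB x).conj hkG
    rw [w1_sieg_conj hJV kG (hM hkG), hkp, hkx] at h2
    have h3 := keyB (-x)
    rw [toowq3_ten_neg_left] at h3
    have h4 := h2.mul h3
    rw [sieg_mul hJV C.two hpp
      (by rw [bf_add_right, bf_JV_ten, bf_JV_ten, hw, hx'']; ring)
      (by rw [bf_neg_right, bf_JV_ten, hw]; ring)] at h4
    have : ten x w + ten x'' w' + -ten x w = ten x'' w' := by abel
    rw [this] at h4
    exact h4
  -- closure properties
  have hadd : ∀ y₁ y₂ : Fin b → F,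
      (∀ x'' : Fin a → F, bf J1 u x'' = 0 → InM M (sieg (JV J1 J2) (ten u w) (ten x'' y₁))) →
      (∀ x'' : Fin a → F, bf J1 u x'' = 0 → InM M (sieg (JV J1 J2) (ten u w) (ten x'' y₂))) →
      ∀ x'' : Fin a → F, bf J1 u x'' = 0 → InM M (sieg (JV J1 J2) (ten u w) (ten x'' (y₁ + y₂))) := by
    intro y₁ y₂ h1 h2 x'' hx''
    have h := (h1 x'' hx'').mul (h2 x'' hx'')
    rw [sieg_mul hJV C.two hpp (by rw [bf_JV_ten, hx'', zero_mul]) (by rw [bf_JV_ten, hx'', zero_mul]),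
      ← ten_add_right] at h
    exact h
  have hsmul : ∀ (c : F) (y : Fin b → F),
      (∀ x'' : Fin a → F, bf J1 u x'' = 0 → InM M (sieg (JV J1 J2) (ten u w) (ten x'' y))) →
      ∀ x'' : Fin a → F, bf J1 u x'' = 0 → InM M (sieg (JV J1 J2) (ten u w) (ten x'' (c • y))) := by
    intro c y h1 x'' hx''
    have h := h1 (c • x'') (by rw [bf_smul_right, hx'', mul_zero])
    rw [ten_smul_left, ← ten_smul_right] at h
    exact h
  -- decomposition of `y'`
  obtain ⟨ws, hws, hwws⟩ := w1_hyp_partner C.two C.sym2 C.det2 w hw0 hw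
  have hwsw : bf J2 ws w = 1 := by rw [hs₂]; exact hwws
  set α := bf J2 ws y' with hα
  set β := bf J2 w y' with hβ
  set y₀ := y' - α • w - β • ws with hy₀
  have hwy₀ : bf J2 w y₀ = 0 := by
    rw [hy₀, bf_sub_right, bf_sub_right, bf_smul_right, bf_smul_right, hw, hwws, ← hβ]
    ring
  have hwsy₀ : bf J2 ws y₀ = 0 := by
    rw [hy₀, bf_sub_right, bf_sub_right, bf_smul_right, bf_smul_right, hws, hwsw, ← hα]
    ring
  set γ := bf J2 y₀ y₀ / 2 with hγ
  set w'' := ws + y₀ - γ • w with hw''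
  have hw''s : bf J2 w'' w'' = 0 := by
    rw [hw'']
    simp only [bf_add_left, bf_add_right, bf_sub_left, bf_sub_right, bf_smul_left, bf_smul_right, hw, hws, hwws,
      hwsw, hwy₀, hwsy₀, hs₂ y₀ w, hs₂ y₀ ws]
    rw [hγ]
    have h2 : (2 : F) ≠ 0 := C.two
    field_simp
    ring
  have hww'' : bf J2 w w'' = 1 := by
    rw [hw'', bf_sub_right, bf_add_right, bf_smul_right, hw, hwws, hwy₀]
    ring
  have hy'eq : y' = (α + γ) • w + ((β - 1) • ws + w'') := by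
    rw [hw'', hy₀]
    module
  rw [hy'eq]
  exact hadd _ _ (hsmul _ _ (fun x'' _ => keyB x''))
    (hadd _ _ (hsmul _ _ (fun x'' hx'' => keyA x'' hx'' ws hws hwws))
      (fun x'' hx'' => keyA x'' hx'' w'' hw''s hww'')) x' hx'

end Cfsg.Agent.Lib.Helper28.TOO
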