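import Cfsg.Agent.Lib.Helper27.TOOWQ3

/-!
# Project TOO (S5681), block WORLD 1, row WQ4 (`w1_qpt_right`): the mirror of WQ3, `ρ_{u ⊗ w, x ⊗ y''} ∈ M` for `y'' ⊥ w`.
-/

set_option autoImplicit false
set_option linter.unusedVariables false
set_option linter.unusedSectionVars false

namespace Cfsg.Agent.Lib.Helper28.TOO

open Matrix
open scoped Kronecker
open Cfsg.Agent.Lib.helper7.TP Cfsg.Agent.Lib.Helper21.TS

variable {a b : ℕ} {F : Type*} [Field F]
variable {J1 : Matrix (Fin a) (Fin a) F} {J2 : Matrix (Fin b) (Fin b) F}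

theorem toowq4_ten_zero_right (x : Fin a → F) : ten x (0 : Fin b → F) = 0 := by
  funext p
  simp [ten]

theorem toowq4_ten_neg_right (x : Fin a → F) (w : Fin b → F) : ten x (-w) = -ten x w := by
  funext p
  simp [ten]

/-- WQ4 [M-L]. the mirror of WQ3. -/
theorem w1_qpt_right (C : OCtx J1 J2) (hb : 3 ≤ b)
    (M : Subgroup (Matrix.GeneralLinearGroup (Fin a × Fin b) F)) (hM : M ≤ OV J1 J2)
    (hTh : ∀ (η : Matrix (Fin b) (Fin b) F) (u : Fin a → F), SkewAdj J2 η → bf J1 u u = 0 →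
      InM M (XAm J1 u η))
    (u : Fin a → F) (w : Fin b → F) (hu0 : u ≠ 0) (hw0 : w ≠ 0) (hu : bf J1 u u = 0)
    (x : Fin a → F) (y'' : Fin b → F) (hy : bf J2 w y'' = 0) :
    InM M (sieg (JV J1 J2) (ten u w) (ten x y'')) := by
  have hs₁ := bf_symm C.sym1
  have hs₂ := bf_symm C.sym2
  have hJV : (JV J1 J2)ᵀ = JV J1 J2 := tooperp_JV_symm C
  have hpp : bf (JV J1 J2) (ten u w) (ten u w) = 0 := by rw [bf_JV_ten, hu, zero_mul]
  -- at `u` itself
  have keyB : ∀ y : Fin b → F, InM M (sieg (JV J1 J2) (ten u w) (ten u y)) := by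
    intro y
    rw [w1_sieg_ten_A u hu w y]
    exact hTh _ _ (toowq3_Nw_skewAdj C.sym2 w y) hu
  -- at a singular `u'` with `f(u,u') = 1`
  have keyA : ∀ y : Fin b → F, bf J2 w y = 0 → ∀ u' : Fin a → F, bf J1 u' u' = 0 → bf J1 u u' = 1 →
      InM M (sieg (JV J1 J2) (ten u w) (ten u' y)) := by
    intro y hwy u' hu' huu'
    by_cases hy0 : y = 0
    · rw [hy0, toowq4_ten_zero_right, tssieg_zero]
      exact InM_one M
    obtain ⟨b', t, hb'w, hb't, hyt⟩ := toowq3_aux C.sym2 C.det2 hb w y hw0 hy0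
    obtain ⟨kG, hkG, hkval⟩ := hTh (Nw J2 y b') u' (toowq3_Nw_skewAdj C.sym2 y b') hu'
    have hu'u : bf J1 u' u = 1 := by rw [hs₁]; exact huu'
    have hkp : (kG : Matrix (Fin a × Fin b) (Fin a × Fin b) F) *ᵥ ten u w = ten u w := by
      rw [hkval, XAm_mulVec_ten, toogc2_Nw_mulVec, hb'w, hs₂ y w, hwy]
      simp [toowq4_ten_zero_right]
    have hkx : (kG : Matrix (Fin a × Fin b) (Fin a × Fin b) F) *ᵥ ten u t = ten u t + ten u' y := by
      rw [hkval, XAm_mulVec_ten, toogc2_Nw_mulVec, hb't, hyt, hu'u]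
      simp
    have h2 := (keyB t).conj hkG
    rw [w1_sieg_conj hJV kG (hM hkG), hkp, hkx] at h2
    have h3 := keyB (-t)
    rw [toowq4_ten_neg_right] at h3
    have h4 := h2.mul h3
    rw [sieg_mul hJV C.two hpp
      (by rw [bf_add_right, bf_JV_ten, bf_JV_ten, hu, hwy]; ring)
      (by rw [bf_neg_right, bf_JV_ten, hu]; ring)] at h4
    have : ten u t + ten u' y + -ten u t = ten u' y := by abel
    rw [this] at h4
    exact h4
  -- closure properties
  have hadd : ∀ x₁ x₂ : Fin a → F,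
      (∀ y : Fin b → F, bf J2 w y = 0 → InM M (sieg (JV J1 J2) (ten u w) (ten x₁ y))) →
      (∀ y : Fin b → F, bf J2 w y = 0 → InM M (sieg (JV J1 J2) (ten u w) (ten x₂ y))) →
      ∀ y : Fin b → F, bf J2 w y = 0 → InM M (sieg (JV J1 J2) (ten u w) (ten (x₁ + x₂) y)) := by
    intro x₁ x₂ h1 h2 y hwy
    have h := (h1 y hwy).mul (h2 y hwy)
    rw [sieg_mul hJV C.two hpp (by rw [bf_JV_ten, hwy, mul_zero]) (by rw [bf_JV_ten, hwy, mul_zero]),
      ← ten_add_left] at h
    exact h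
  have hsmul : ∀ (c : F) (x₁ : Fin a → F),
      (∀ y : Fin b → F, bf J2 w y = 0 → InM M (sieg (JV J1 J2) (ten u w) (ten x₁ y))) →
      ∀ y : Fin b → F, bf J2 w y = 0 → InM M (sieg (JV J1 J2) (ten u w) (ten (c • x₁) y)) := by
    intro c x₁ h1 y hwy
    have h := h1 (c • y) (by rw [bf_smul_right, hwy, mul_zero])
    rw [ten_smul_right, ← ten_smul_left] at h
    exact h
  -- decomposition of `x`
  obtain ⟨us, hus, huus⟩ := w1_hyp_partner C.two C.sym1 C.det1 u hu0 hu
  have husu : bf J1 us u = 1 := by rw [hs₁]; exact huus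
  set α := bf J1 us x with hα
  set β := bf J1 u x with hβ
  set x₀ := x - α • u - β • us with hx₀
  have hux₀ : bf J1 u x₀ = 0 := by
    rw [hx₀, bf_sub_right, bf_sub_right, bf_smul_right, bf_smul_right, hu, huus, ← hβ]
    ring
  have husx₀ : bf J1 us x₀ = 0 := by
    rw [hx₀, bf_sub_right, bf_sub_right, bf_smul_right, bf_smul_right, hus, husu, ← hα]
    ring
  set γ := bf J1 x₀ x₀ / 2 with hγ
  set u'' := us + x₀ - γ • u with hu''
  have hu''s : bf J1 u'' u'' = 0 := by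
    rw [hu'']
    simp only [bf_add_left, bf_add_right, bf_sub_left, bf_sub_right, bf_smul_left, bf_smul_right, hu, hus, huus,
      husu, hux₀, husx₀, hs₁ x₀ u, hs₁ x₀ us]
    rw [hγ]
    have h2 : (2 : F) ≠ 0 := C.two
    field_simp
    ring
  have huu'' : bf J1 u u'' = 1 := by
    rw [hu'', bf_sub_right, bf_add_right, bf_smul_right, hu, huus, hux₀]
    ring
  have hxeq : x = (α + γ) • u + ((β - 1) • us + u'') := by
    rw [hu'', hx₀]
    module
  rw [hxeq]
  exact hadd _ _ (hsmul _ _ (fun y _ => keyB y))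
    (hadd _ _ (hsmul _ _ (fun y hwy => keyA y hwy us hus huus))
      (fun y hwy => keyA y hwy u'' hu''s huu'')) y'' hy

end Cfsg.Agent.Lib.Helper28.TOO
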