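import Cfsg.Agent.Lib.helper7.TO.Basic
import Cfsg.Agent.Lib.Helper18.TOSGALGA
import Cfsg.Agent.Lib.Helper19.TOSGT

/-!
# Project TO, piece TVMEM: `T1 ≤ Ω`

`τ_u(c) ⊗ 1 = 1 + (u u^*) ⊗ c` is a product of commuting Siegel elements
`S(u ⊗ w, u ⊗ w'; c') = 1 + (u u^*) ⊗ c' (w' w^* - w w'^*)`: the matrices `η` with
`1 + (u u^*) ⊗ η ∈ Ω` form an additive subgroup, and `c • 1` is a sum of matrices
`c' (e_j e_i^* - e_i e_j^*)` (`totvmem_res`; valid in every characteristic).  Mirror for `1 ⊗ τ_w(c)`.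
-/

set_option autoImplicit false

namespace Cfsg.Agent.Lib.helper7.TO

open Matrix Cfsg.Agent.Lib.helper7.TP Cfsg.Agent.Lib.Helper28.SympAbs
open scoped Kronecker

variable {a b : ℕ} {F : Type*} [Field F]

/-- a double sum whose diagonal terms and symmetrised off-diagonal terms lie in an additive subgroup
lies in it. -/
theorem totvmem_sum {M : Type*} [AddCommGroup M] (H : AddSubgroup M) :
    ∀ (n : ℕ) (g : Fin n → Fin n → M), (∀ i, g i i ∈ H) → (∀ i j, g i j + g j i ∈ H) →
      ∑ i, ∑ j, g i j ∈ H := by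
  intro n
  induction n with
  | zero => intro g _ _; simp
  | succ n ih =>
    intro g h1 h2
    have e : ∑ i : Fin (n + 1), ∑ j : Fin (n + 1), g i j =
        g 0 0 + ∑ j : Fin n, (g 0 j.succ + g j.succ 0) +
          ∑ i : Fin n, ∑ j : Fin n, g i.succ j.succ := by
      rw [Fin.sum_univ_succ, Fin.sum_univ_succ]
      have : ∀ i : Fin n, ∑ j : Fin (n + 1), g i.succ j = g i.succ 0 + ∑ j : Fin n, g i.succ j.succ :=
        fun i => Fin.sum_univ_succ _
      rw [Finset.sum_congr rfl (fun i _ => this i), Finset.sum_add_distrib, Finset.sum_add_distrib]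
      abel
    rw [e]
    refine H.add_mem (H.add_mem (h1 0) (H.sum_mem fun j _ => h2 0 j.succ)) ?_
    exact ih (fun i j => g i.succ j.succ) (fun i => h1 i.succ) (fun i j => h2 i.succ j.succ)

/-- resolution of the identity for a symplectic form (every characteristic): an additive subgroup of
matrices containing all `c (w' w^* - w w'^*)` contains the scalars. -/
theorem totvmem_res {n : ℕ} {f : (Fin n → F) → (Fin n → F) → F}
    (hf : Cfsg.Geo.IsSymplecticForm f) (H : AddSubgroup (Matrix (Fin n) (Fin n) F))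
    (hH : ∀ (w w' : Fin n → F) (c : F),
      c • (Matrix.vecMulVec w' (rho f w) - Matrix.vecMulVec w (rho f w')) ∈ H) (c : F) :
    c • (1 : Matrix (Fin n) (Fin n) F) ∈ H := by
  classical
  have hd : ∀ j : Fin n, ∃ d : Fin n → F, ∀ x, f x d = x j := by
    intro j
    obtain ⟨d, hd⟩ := rho_surj hf (Pi.single j 1)
    exact ⟨d, fun x => by rw [hd, single_dotProduct, one_mul]⟩
  choose d hd using hd
  -- expansion of `f x (d k)` in the right argument
  have hexp : ∀ (x : Fin n → F) (k : Fin n),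
      ∑ i, d k i * f x (Pi.single i 1) = x k := by
    intro x k
    rw [← hd k x, hf.skew x (d k), f_eq_dot hf (d k) x, dotProduct, ← Finset.sum_neg_distrib]
    apply Finset.sum_congr rfl
    intro i _
    rw [rho, hf.skew x (Pi.single i 1)]
    ring
  have key : c • (1 : Matrix (Fin n) (Fin n) F) =
      ∑ j, ∑ i, (c * d j i) • Matrix.vecMulVec (Pi.single j (1 : F)) (rho f (Pi.single i (1 : F))) := by
    ext k l
    rw [Matrix.smul_apply, Matrix.sum_apply]
    simp only [Matrix.sum_apply, Matrix.smul_apply, Matrix.vecMulVec_apply, smul_eq_mul, rho]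
    rw [Finset.sum_eq_single k]
    · rw [Pi.single_eq_same]
      have := hexp (Pi.single l 1) k
      rw [Matrix.one_apply]
      calc c * (if k = l then 1 else 0) = c * (Pi.single l (1 : F) : Fin n → F) k := by
            rw [Pi.single_apply]
        _ = c * ∑ i, d k i * f (Pi.single l 1) (Pi.single i 1) := by rw [this]
        _ = _ := by
            rw [Finset.mul_sum]
            apply Finset.sum_congr rfl
            intro i _
            ring
    · intro j _ hjk
      apply Finset.sum_eq_zero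
      intro i _
      rw [Pi.single_eq_of_ne (Ne.symm hjk)]
      ring
    · intro h; exact absurd (Finset.mem_univ k) h
  rw [key]
  apply totvmem_sum H n
    (fun j i => (c * d j i) • Matrix.vecMulVec (Pi.single j (1 : F)) (rho f (Pi.single i (1 : F))))
  · intro j
    have : d j j = 0 := by rw [← hd j (d j), hf.alternating]
    simp only [this, mul_zero, zero_smul]
    exact H.zero_mem
  · intro j i
    have hji : d i j = - d j i := by
      rw [← hd j (d i), ← hd i (d j), hf.skew]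
    have := hH (Pi.single i 1) (Pi.single j 1) (c * d j i)
    have e : (c * d j i) • Matrix.vecMulVec (Pi.single j (1 : F)) (rho f (Pi.single i (1 : F))) +
        (c * d i j) • Matrix.vecMulVec (Pi.single i (1 : F)) (rho f (Pi.single j (1 : F))) =
        (c * d j i) • (Matrix.vecMulVec (Pi.single j (1 : F)) (rho f (Pi.single i (1 : F))) -
          Matrix.vecMulVec (Pi.single i (1 : F)) (rho f (Pi.single j (1 : F)))) := by
      rw [hji, smul_sub, mul_neg, neg_smul, sub_eq_add_neg]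
    rw [e]
    exact this

theorem totvmem_ER_add (η η' : Matrix (Fin b) (Fin b) F) (u φ : Fin a → F) (h : φ ⬝ᵥ u = 0) :
    ER (η + η') u φ h = ER η u φ h * ER η' u φ h := by
  apply Units.ext
  rw [Units.val_mul, ER_coe, ER_coe, ER_coe, ERm_mul_ERm _ _ _ _ h]

theorem totvmem_ER_zero (u φ : Fin a → F) (h : φ ⬝ᵥ u = 0) :
    ER (0 : Matrix (Fin b) (Fin b) F) u φ h = 1 := by
  apply Units.ext
  rw [ER_coe, ERm_zero, Units.val_one]

theorem totvmem_ER_neg (η : Matrix (Fin b) (Fin b) F) (u φ : Fin a → F) (h : φ ⬝ᵥ u = 0) :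
    ER (-η) u φ h = (ER η u φ h)⁻¹ := by
  apply eq_inv_of_mul_eq_one_right
  rw [← totvmem_ER_add, add_neg_cancel, totvmem_ER_zero]

theorem totvmem_EL_add (ζ ζ' : Matrix (Fin a) (Fin a) F) (w ψ : Fin b → F) (h : ψ ⬝ᵥ w = 0) :
    EL (ζ + ζ') w ψ h = EL ζ w ψ h * EL ζ' w ψ h := by
  apply Units.ext
  rw [Units.val_mul, EL_coe, EL_coe, EL_coe, ELm_mul_ELm _ _ _ _ h]

theorem totvmem_EL_zero (w ψ : Fin b → F) (h : ψ ⬝ᵥ w = 0) :
    EL (0 : Matrix (Fin a) (Fin a) F) w ψ h = 1 := by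
  apply Units.ext
  rw [EL_coe, ELm_zero, Units.val_one]

theorem totvmem_EL_neg (ζ : Matrix (Fin a) (Fin a) F) (w ψ : Fin b → F) (h : ψ ⬝ᵥ w = 0) :
    EL (-ζ) w ψ h = (EL ζ w ψ h)⁻¹ := by
  apply eq_inv_of_mul_eq_one_right
  rw [← totvmem_EL_add, add_neg_cancel, totvmem_EL_zero]

/-- `τ_u(c) ⊗ 1 ∈ Ω`. -/
theorem totvmem_tvA [Fintype F] (C : Ctx a b F) (hab : 7 ≤ a * b) (u : Fin a → F) (c : F) :
    C.tvA u c ∈ Cfsg.Geo.omegaGL C.q := by
  let H : AddSubgroup (Matrix (Fin b) (Fin b) F) :=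
    { carrier := {η | ER η u (C.fl₁ u) (C.fl₁_self u) ∈ Cfsg.Geo.omegaGL C.q}
      add_mem' := by
        intro η η' h h'
        show ER (η + η') u (C.fl₁ u) (C.fl₁_self u) ∈ Cfsg.Geo.omegaGL C.q
        rw [totvmem_ER_add]
        exact Subgroup.mul_mem _ h h'
      zero_mem' := by
        show ER 0 u (C.fl₁ u) (C.fl₁_self u) ∈ Cfsg.Geo.omegaGL C.q
        rw [totvmem_ER_zero]
        exact Subgroup.one_mem _
      neg_mem' := by
        intro η h
        show ER (-η) u (C.fl₁ u) (C.fl₁_self u) ∈ Cfsg.Geo.omegaGL C.q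
        rw [totvmem_ER_neg]
        exact Subgroup.inv_mem _ h }
  have hH : ∀ (w w' : Fin b → F) (c' : F),
      c' • (Matrix.vecMulVec w' (rho C.f₂ w) - Matrix.vecMulVec w (rho C.f₂ w')) ∈ H := by
    intro w w' c'
    show ER (c' • (Matrix.vecMulVec w' (rho C.f₂ w) - Matrix.vecMulVec w (rho C.f₂ w'))) u (C.fl₁ u)
      (C.fl₁_self u) ∈ Cfsg.Geo.omegaGL C.q
    have hpv : C.f (ten u w) (ten u w') = 0 := by
      rw [C.f_ten, C.hf₁.alternating, zero_mul]
    obtain ⟨t, _, ht⟩ := sg_ex C (ten u w) (ten u w') c' (C.q_ten u w) (C.q_ten u w') hpv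
    have htΩ := sg_mem_omega C hab t _ _ c' (C.q_ten u w) (C.q_ten u w') hpv ht
    have : ER (c' • (Matrix.vecMulVec w' (rho C.f₂ w) - Matrix.vecMulVec w (rho C.f₂ w'))) u
        (C.fl₁ u) (C.fl₁_self u) = t := by
      apply Units.ext
      apply mat_ext_ten
      intro x y
      rw [ht (ten x y), ER_coe, ERm_mulVec, C.ctrA_fl₁_ten, Ctx.sgv, C.f_ten, C.f_ten,
        Matrix.mulVec_smul, Matrix.smul_mulVec, Matrix.sub_mulVec, Matrix.vecMulVec_mulVec,
        Matrix.vecMulVec_mulVec, ← f_eq_dot C.hf₂, ← f_eq_dot C.hf₂, C.hf₁.skew u x,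
        C.hf₂.skew w y, C.hf₂.skew w' y]
      simp only [ten_smul_right, ten_sub_right, smul_sub, smul_smul]
      congr 1
      have e1 : ∀ (s : F) (z : Fin b → F), MulOpposite.op s • z = s • z := by
        intro s z; funext i; simp [mul_comm]
      simp only [e1, ten_smul_right, smul_smul]
      congr 1 <;> · congr 1; ring
    rw [this]
    exact htΩ
  exact totvmem_res C.hf₂ H hH c

/-- `1 ⊗ τ_w(c) ∈ Ω`. -/
theorem totvmem_tvB [Fintype F] (C : Ctx a b F) (hab : 7 ≤ a * b) (w : Fin b → F) (c : F) :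
    C.tvB w c ∈ Cfsg.Geo.omegaGL C.q := by
  let H : AddSubgroup (Matrix (Fin a) (Fin a) F) :=
    { carrier := {ζ | EL ζ w (C.fl₂ w) (C.fl₂_self w) ∈ Cfsg.Geo.omegaGL C.q}
      add_mem' := by
        intro ζ ζ' h h'
        show EL (ζ + ζ') w (C.fl₂ w) (C.fl₂_self w) ∈ Cfsg.Geo.omegaGL C.q
        rw [totvmem_EL_add]
        exact Subgroup.mul_mem _ h h'
      zero_mem' := by
        show EL 0 w (C.fl₂ w) (C.fl₂_self w) ∈ Cfsg.Geo.omegaGL C.q
        rw [totvmem_EL_zero]
        exact Subgroup.one_mem _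
      neg_mem' := by
        intro ζ h
        show EL (-ζ) w (C.fl₂ w) (C.fl₂_self w) ∈ Cfsg.Geo.omegaGL C.q
        rw [totvmem_EL_neg]
        exact Subgroup.inv_mem _ h }
  have hH : ∀ (u u' : Fin a → F) (c' : F),
      c' • (Matrix.vecMulVec u' (rho C.f₁ u) - Matrix.vecMulVec u (rho C.f₁ u')) ∈ H := by
    intro u u' c'
    show EL (c' • (Matrix.vecMulVec u' (rho C.f₁ u) - Matrix.vecMulVec u (rho C.f₁ u'))) w (C.fl₂ w)
      (C.fl₂_self w) ∈ Cfsg.Geo.omegaGL C.q
    have hpv : C.f (ten u w) (ten u' w) = 0 := by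
      rw [C.f_ten, C.hf₂.alternating, mul_zero]
    obtain ⟨t, _, ht⟩ := sg_ex C (ten u w) (ten u' w) c' (C.q_ten u w) (C.q_ten u' w) hpv
    have htΩ := sg_mem_omega C hab t _ _ c' (C.q_ten u w) (C.q_ten u' w) hpv ht
    have : EL (c' • (Matrix.vecMulVec u' (rho C.f₁ u) - Matrix.vecMulVec u (rho C.f₁ u'))) w
        (C.fl₂ w) (C.fl₂_self w) = t := by
      apply Units.ext
      apply mat_ext_ten
      intro x y
      rw [ht (ten x y), EL_coe, ELm_mulVec, C.ctr_fl₂_ten, Ctx.sgv, C.f_ten, C.f_ten,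
        Matrix.mulVec_smul, Matrix.smul_mulVec, Matrix.sub_mulVec, Matrix.vecMulVec_mulVec,
        Matrix.vecMulVec_mulVec, ← f_eq_dot C.hf₁, ← f_eq_dot C.hf₁, C.hf₂.skew w y,
        C.hf₁.skew u x, C.hf₁.skew u' x]
      simp only [ten_smul_left, ten_sub_left, smul_sub, smul_smul]
      congr 1
      have e1 : ∀ (s : F) (z : Fin a → F), MulOpposite.op s • z = s • z := by
        intro s z; funext i; simp [mul_comm]
      simp only [e1, ten_smul_left, smul_smul]
      congr 1 <;> · congr 1; ring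
    rw [this]
    exact htΩ
  exact totvmem_res C.hf₁ H hH c

/-- a generator of `TT f` is `tvg`. -/
theorem totvmem_gen {n : ℕ} {f : (Fin n → F) → (Fin n → F) → F}
    (hf : Cfsg.Geo.IsSymplecticForm f) (g : Matrix.GeneralLinearGroup (Fin n) F) (v : Fin n → F)
    (c : F) (hg : ∀ x, (g : Matrix (Fin n) (Fin n) F) *ᵥ x = x + (c * f x v) • v) :
    g = tvg hf v c := by
  apply Units.ext
  rw [Matrix.ext_iff_mulVec]
  intro x
  rw [hg, tvg_coe, tvm_mulVec hf]

/-- TVMEM: `T1 ≤ Ω`. -/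
theorem T1_le_omega [Fintype F] (C : Ctx a b F) (hab : 7 ≤ a * b) :
    C.T1 ≤ Cfsg.Geo.omegaGL C.q := by
  unfold Ctx.T1
  apply sup_le
  · rw [Subgroup.map_le_iff_le_comap]
    unfold TT
    rw [Subgroup.closure_le]
    rintro g ⟨v, c, hg⟩
    show kA a b F g ∈ Cfsg.Geo.omegaGL C.q
    rw [totvmem_gen C.hf₁ g v c hg, ← C.tvA_eq_kA]
    exact totvmem_tvA C hab v c
  · rw [Subgroup.map_le_iff_le_comap]
    unfold TT
    rw [Subgroup.closure_le]
    rintro g ⟨v, c, hg⟩
    show kB a b F g ∈ Cfsg.Geo.omegaGL C.q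
    rw [totvmem_gen C.hf₂ g v c hg, ← C.tvB_eq_kB]
    exact totvmem_tvB C hab v c

end Cfsg.Agent.Lib.helper7.TO
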