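import Cfsg.Agent.Lib.Helper27.TS2.Defs
import Cfsg.Agent.Lib.Helper19.TS2C1A2B
import Cfsg.Agent.Lib.Lead.TS2SQZ
import Cfsg.Agent.Lib.helper17.TS2C1A2core
import Cfsg.Agent.Lib.Helper25.TS2UFPAcore
import Cfsg.Agent.Lib.helper15.TS2STABB2
import Cfsg.Agent.Lib.Lead.TS2UFPB
import Cfsg.Agent.Lib.Helper9.TS2PAPP
import Cfsg.Agent.Lib.helper15.TS2LINb
import Cfsg.Agent.Lib.helper3.TS2NT2

/-!
# Project TS2: assembly of the NT world for `a = 2`, `7 ≤ b` from the landed rows (spare copies of the three wrapper rows C1A2, UFPA, NT2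
under `ts2all_` names, so that they cannot clash with the verbatim rows of their owners).
-/

set_option autoImplicit false
set_option linter.unusedSectionVars false
set_option linter.unusedVariables false

namespace Cfsg.Agent.Lib.Helper21.TS

open Matrix
open scoped Kronecker
open Cfsg.Agent.Lib.helper7.TP

variable {b : ℕ} {F : Type*} [Field F]
variable {J1 : Matrix (Fin 2) (Fin 2) F} {J2 : Matrix (Fin b) (Fin b) F}
  {M : Subgroup (Matrix.GeneralLinearGroup (Fin 2 × Fin b) F)}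

/-- statement of `c1A_two`. -/
theorem ts2all_c1A_two (C : Ctx J1 J2) (hb : 7 ≤ b) (hT0 : T0 J1 J2 ≤ M) (hMS : M ≤ SpV J1 J2)
    (hL : LamF J1 M) {u : Fin 2 → F} (hu : u ≠ 0) {c : F} (hc : c ≠ 0)
    (x : Matrix.GeneralLinearGroup (Fin 2 × Fin b) F)
    (hx : (x : Matrix (Fin 2 × Fin b) (Fin 2 × Fin b) F) = XAm J1 u (c • (1 : Matrix (Fin b) (Fin b) F)))
    (v : Matrix.GeneralLinearGroup (Fin 2 × Fin b) F) (hv : v ∈ M) (ht : v * x * v⁻¹ ∈ T0 J1 J2) :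
    ∃ u' : Fin 2 → F, u' ≠ 0 ∧ ∀ z : Fin b → F, ∃ z' : Fin b → F,
      (v : Matrix (Fin 2 × Fin b) (Fin 2 × Fin b) F) *ᵥ ten u z = ten u' z' :=
  ts2c1a2_core (fun t ht hsq => sqz_kron C.two (by norm_num) (by omega) t ht hsq)
    (fun {_} hu {_} hc x hx v hv N hN ht => c1A_two_B C hb hT0 hMS hL hu hc x hx v hv N hN ht)
    C (by omega) hu hc x hx v hv ht

/-- statement of `ufpA_two`. -/
theorem ts2all_ufpA_two (C : Ctx J1 J2) (hb : 7 ≤ b) (hT0 : T0 J1 J2 ≤ M) (hMS : M ≤ SpV J1 J2)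
    (hL : LamF J1 M) (hS : StabA M) : UfpA J1 J2 M :=
  ts2ufpa_core hMS hS (fun {_} hu {_} hc x hx v hv ht => ts2all_c1A_two C hb hT0 hMS hL hu hc x hx v hv ht)

/-- statement of `nt_two`: the NT world for `a = 2`, `7 ≤ b`. -/
theorem ts2all_nt_two [Fintype F] (C : Ctx J1 J2) (hb : 7 ≤ b) (hT0 : T0 J1 J2 ≤ M) (hMS : M ≤ SpV J1 J2)
    (hL : LamF J1 M) (hS : StabA M) : M ≤ T0 J1 J2 :=
  ts2nt2_core hMS hS (ts2all_ufpA_two C hb hT0 hMS hL hS)
    (fun p _ _ ufA => stabB_two p C (by omega) hT0 hMS ufA) (ufpB_two C hb hT0 hMS)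
    (fun p _ _ ufA ufB g hg u hu w m hw hw0 hwm hm =>
      papp_two p C (by omega) hT0 hMS ufA ufB g hg hu hw hw0 hwm hm)
    (fun g hg u hu hP => lin_two C hb g hg hu hP)

end Cfsg.Agent.Lib.Helper21.TS
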