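import Cfsg.Agent.Lib.Helper27.TS2NTWORLDcore
import Cfsg.Agent.Lib.Helper1.TSNTA
import Cfsg.Agent.Lib.Helper1.TS2STABA2
import Cfsg.Agent.Lib.Helper22.TSSTABA
import Cfsg.Agent.Lib.helper2.TSFINAL

/-!
# S5666: the NT world from the statements of `nt_two` (`a = 2`, `7 ≤ b`) and `nt_world4` (`4 ≤ a`), and the final statement from them.
-/

set_option autoImplicit false
set_option linter.unusedSectionVars false
set_option linter.unusedVariables false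

namespace Cfsg.Agent.Lib.Helper21.TS

open Matrix
open scoped Kronecker
open Cfsg.Agent.Lib.helper7.TP

variable {a b : ℕ} {F : Type*} [Field F]

/-- the NT world of S5666, from the two final statements of projects TS2 and TS4 (as hypotheses). -/
theorem ts2ntworld_nt_world [Fintype F] {J1 : Matrix (Fin a) (Fin a) F} {J2 : Matrix (Fin b) (Fin b) F}
    (hnt2 : ∀ (J1' : Matrix (Fin 2) (Fin 2) F) (M' : Subgroup (Matrix.GeneralLinearGroup (Fin 2 × Fin b) F)),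
      Ctx J1' J2 → 7 ≤ b → T0 J1' J2 ≤ M' → M' ≤ SpV J1' J2 → LamF J1' M' → StabA M' → M' ≤ T0 J1' J2)
    (hnt4 : Ctx J1 J2 → 4 ≤ a → 3 ≤ b → ∀ M' : Subgroup (Matrix.GeneralLinearGroup (Fin a × Fin b) F),
      T0 J1 J2 ≤ M' → M' ≤ SpV J1 J2 → NtsA J1 M' → StabA M' → M' ≤ T0 J1 J2)
    (C : Ctx J1 J2) (hab : 14 ≤ a * b) (hb : 3 ≤ b) (hex : 5 ≤ Fintype.card F ∨ 4 ≤ b)
    (M : Subgroup (Matrix.GeneralLinearGroup (Fin a × Fin b) F)) (hT0 : T0 J1 J2 ≤ M)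
    (hMS : M ≤ SpV J1 J2) (hNT : NTp J1 J2 M) : M ≤ T0 J1 J2 := by
  have hL : LamF J1 M := lamF_of_NTp C hb hex hT0 hMS hNT
  have hN : NtsA J1 M := ntsA_of_NTp C hb hex hT0 hMS hNT
  apply nt_world_core C hab M
  · intro ha hb7
    subst ha
    exact hnt2 J1 M C hb7 hT0 hMS hL (stabA_two C hT0 hMS hL)
  · intro ha
    exact hnt4 C ha hb M hT0 hMS hN (stabA_of_ntsA C (by omega) hb hT0 hMS hL hN)

/-- S5666 from the two final statements of projects TS2 and TS4 (as hypotheses). -/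
theorem ts2ntworld_final {F : Type*} [Field F] [Fintype F]
    (hnt2 : ∀ (b : ℕ) (J1' : Matrix (Fin 2) (Fin 2) F) (J2' : Matrix (Fin b) (Fin b) F)
      (M' : Subgroup (Matrix.GeneralLinearGroup (Fin 2 × Fin b) F)),
      Ctx J1' J2' → 7 ≤ b → T0 J1' J2' ≤ M' → M' ≤ SpV J1' J2' → LamF J1' M' → StabA M' → M' ≤ T0 J1' J2')
    (hnt4 : ∀ (a b : ℕ) (J1' : Matrix (Fin a) (Fin a) F) (J2' : Matrix (Fin b) (Fin b) F),
      Ctx J1' J2' → 4 ≤ a → 3 ≤ b → ∀ M' : Subgroup (Matrix.GeneralLinearGroup (Fin a × Fin b) F),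
      T0 J1' J2' ≤ M' → M' ≤ SpV J1' J2' → NtsA J1' M' → StabA M' → M' ≤ T0 J1' J2')
    (m : ℕ) (hm : 7 ≤ m) (hodd : Odd (Fintype.card F))
    (n₁ n₂ : ℕ) (hn₂ : 3 ≤ n₂) (hex : ¬ (Fintype.card F = 3 ∧ n₂ = 3)) (e : (Fin m ⊕ Fin m) ≃ Fin n₁ × Fin n₂)
    (P : Matrix.GeneralLinearGroup (Fin m ⊕ Fin m) F) (f₁ : (Fin n₁ → F) → (Fin n₁ → F) → F)
    (f₂ : (Fin n₂ → F) → (Fin n₂ → F) → F) (hf₁ : Cfsg.Geo.IsSymplecticForm f₁)
    (hf₂ : Cfsg.Geo.IsSymmetricForm f₂)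
    (hT : Cfsg.Geo.IsTensorFormStructure id (Cfsg.sympForm m F) f₁ f₂ e P) :
    Cfsg.Geo.IsMaximalIn (Cfsg.spGL m F) (Cfsg.Geo.tensorProductSubgroup n₁ n₂ e P ⊓ Cfsg.spGL m F) := by
  have C := ts_ctx hodd f₁ f₂ hf₁ hf₂
  have hcard : n₁ * n₂ = 2 * m := by
    have := Fintype.card_congr e
    simp only [Fintype.card_sum, Fintype.card_fin, Fintype.card_prod] at this
    omega
  have hex' : 5 ≤ Fintype.card F ∨ 4 ≤ n₂ := by
    by_contra hcon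
    push Not at hcon
    obtain ⟨h1, h2⟩ := hcon
    have h3 : 1 < Fintype.card F := Fintype.one_lt_card
    obtain ⟨k, hk⟩ := hodd
    apply hex
    constructor <;> omega
  exact ts_final m hm hodd n₁ n₂ hn₂ hex e P f₁ f₂ hf₁ hf₂ hT
    (fun M h1 h2 h3 => ts2ntworld_nt_world (fun J1' M' => hnt2 n₂ J1' _ M')
      (hnt4 n₁ n₂ _ _) C (by rw [hcard]; omega) hn₂ hex' M h1 h2 h3)

end Cfsg.Agent.Lib.Helper21.TS
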