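import Cfsg.Agent.Lib.Helper27.TS2.Defs

/-!
# S5666, NT world: the split `a = 2` / `4 ≤ a` (`a` is even and non-zero because `J1` is alternating and non-degenerate).
-/

set_option autoImplicit false
set_option linter.unusedSectionVars false
set_option linter.unusedVariables false

namespace Cfsg.Agent.Lib.Helper21.TS

open Matrix
open scoped Kronecker
open Cfsg.Agent.Lib.helper7.TP

variable {a b : ℕ} {F : Type*} [Field F]

/-- an alternating non-degenerate Gram matrix (`2 ≠ 0`) has even size. -/
theorem ts2ntworld_even {J1 : Matrix (Fin a) (Fin a) F} (two : (2 : F) ≠ 0) (alt : J1ᵀ = -J1)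
    (hdet : J1.det ≠ 0) : Even a := by
  by_contra hodd
  rw [Nat.not_even_iff_odd] at hodd
  have h1 : J1.det = (-1 : F) ^ a * J1.det := by
    conv_lhs => rw [← Matrix.det_transpose, alt, Matrix.det_neg, Fintype.card_fin]
  rw [hodd.neg_one_pow] at h1
  have h2 : (2 : F) * J1.det = 0 := by linear_combination h1
  rcases mul_eq_zero.mp h2 with h | h
  · exact two h
  · exact hdet h

/-- the case split of the NT world. -/
theorem nt_world_core {J1 : Matrix (Fin a) (Fin a) F} {J2 : Matrix (Fin b) (Fin b) F}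
    (C : Ctx J1 J2) (hab : 14 ≤ a * b)
    (M : Subgroup (Matrix.GeneralLinearGroup (Fin a × Fin b) F))
    (h2 : a = 2 → 7 ≤ b → M ≤ T0 J1 J2) (h4 : 4 ≤ a → M ≤ T0 J1 J2) : M ≤ T0 J1 J2 := by
  obtain ⟨k, hk⟩ := ts2ntworld_even C.two C.alt C.det1
  have hk0 : k ≠ 0 := by
    rintro rfl
    rw [hk] at hab
    simp at hab
  by_cases hk1 : k = 1
  · have ha : a = 2 := by omega
    apply h2 ha
    rw [ha] at hab
    omega
  · apply h4
    omega

end Cfsg.Agent.Lib.Helper21.TS
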