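import Cfsg.Agent.Lib.helper4.TSD.Defs
import Cfsg.Agent.S5646

/-!
# Project TSD (S5980): second copy of row CHAR (`tsd_case_char`) under the name `tsdchar_h27_case_char`.
-/

set_option autoImplicit false

namespace Cfsg.Agent.Lib.helper4.TSD

open Matrix
open Cfsg.Agent.Lib.Helper22.TD

variable {F : Type*} [Field F]

theorem tsdchar_pow (m : ℕ) (v : Fin m ⊕ Fin m → F) (c : F) (n : ℕ) :
    Cfsg.sympTransvection m v c ^ n = Cfsg.sympTransvection m v ((n : F) * c) := by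
  induction n with
  | zero => rw [pow_zero, Nat.cast_zero, zero_mul, Cfsg.Agent.S5646.ts_zero]
  | succ n ih =>
    rw [pow_succ, ih, (Cfsg.Agent.S0767.result m v).1]
    congr 1
    push_cast
    ring

/-- CHAR (second copy of `tsd_case_char`). -/
theorem tsdchar_h27_case_char {p : ℕ} [Fact p.Prime] [CharP F p] (d : ℕ) (hd : 1 ≤ d) (a b : ℕ) (ha2 : 2 ≤ a)
    (hb : 3 ≤ b) (e : (Fin d ⊕ Fin d) ≃ Fin a × Fin b) (P : GL (Fin d ⊕ Fin d) F)
    (hall : TsdAll d a b e P p) : False := by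
  classical
  set i0 : Fin d := ⟨0, by omega⟩ with hi0
  set v : Fin d ⊕ Fin d → F := Pi.single (Sum.inl i0) 1 with hv
  have hv0 : v ≠ 0 := by
    intro h
    have := congrFun h (Sum.inl i0)
    simp [hv] at this
  obtain ⟨g, hg, hgS⟩ := Cfsg.Agent.S5646.tsGL v (1 : F)
  have hact : ∀ x, (g : Matrix (Fin d ⊕ Fin d) (Fin d ⊕ Fin d) F) *ᵥ x =
      x + (1 * Cfsg.sympForm d F x v) • v := fun x => Cfsg.Agent.S5646.ts_apply g v 1 hg x
  have hns : ∀ z : F, (g : Matrix (Fin d ⊕ Fin d) (Fin d ⊕ Fin d) F) ≠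
      z • (1 : Matrix (Fin d ⊕ Fin d) (Fin d ⊕ Fin d) F) := by
    intro z hz
    obtain ⟨w, hw⟩ := Cfsg.Agent.Lib.helper6.sympForm_nondeg d v hv0
    have h1 := hact v
    rw [hz, Matrix.smul_mulVec, Matrix.one_mulVec, Cfsg.Agent.Lib.helper6.sympForm_self, mul_zero, zero_smul,
      add_zero] at h1
    have hz1 : z = 1 := by
      by_contra hne
      apply hv0
      have h2 : (z - 1) • v = 0 := by rw [sub_smul, one_smul, h1, sub_self]
      rcases smul_eq_zero.mp h2 with h3 | h3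
      · exact absurd (sub_eq_zero.mp h3) hne
      · exact h3
    have h4 := hact w
    rw [hz, hz1, one_smul, Matrix.one_mulVec, one_mul] at h4
    have h5 : Cfsg.sympForm d F w v • v = 0 := by
      have := h4
      nth_rewrite 1 [← add_zero w] at this
      exact (add_left_cancel this).symm
    rcases smul_eq_zero.mp h5 with h6 | h6
    · apply hw
      rw [Cfsg.Agent.Lib.helper6.sympForm_swap, h6, neg_zero]
    · exact hv0 h6
  have hpow : ∃ z : F, ((g ^ p : GL (Fin d ⊕ Fin d) F) : Matrix (Fin d ⊕ Fin d) (Fin d ⊕ Fin d) F) =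
      z • (1 : Matrix (Fin d ⊕ Fin d) (Fin d ⊕ Fin d) F) := by
    refine ⟨1, ?_⟩
    rw [Units.val_pow_eq_pow_val, hg, tsdchar_pow, CharP.cast_eq_zero F p, zero_mul, Cfsg.Agent.S5646.ts_zero,
      one_smul]
  have hconj := hall g hgS hpow hns
  have hrank : ((g : Matrix (Fin d ⊕ Fin d) (Fin d ⊕ Fin d) F) -
      (1 : F) • (1 : Matrix (Fin d ⊕ Fin d) (Fin d ⊕ Fin d) F)).rank ≤ 1 := by
    have h1 : (g : Matrix (Fin d ⊕ Fin d) (Fin d ⊕ Fin d) F) -
        (1 : F) • (1 : Matrix (Fin d ⊕ Fin d) (Fin d ⊕ Fin d) F) =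
        Matrix.vecMulVec v (Matrix.J (Fin d) F *ᵥ v) := by
      rw [hg, Cfsg.sympTransvection, one_smul, one_smul, add_sub_cancel_left]
    rw [h1]
    exact Matrix.rank_vecMulVec_le _ _
  obtain ⟨h, hh⟩ := tsd_small (by omega : 1 ≤ a) e P g hconj 1 (by omega)
  have h3 := hh 1
  have h0 : (h - (1 : F) • (1 : Matrix (Fin b) (Fin b) F)).rank = 0 := by
    by_contra hne
    have : 1 ≤ (h - (1 : F) • (1 : Matrix (Fin b) (Fin b) F)).rank := Nat.one_le_iff_ne_zero.mpr hne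
    nlinarith
  rw [h0, mul_zero] at h3
  have h4 := td_eq_zero_of_rank _ h3
  exact hns 1 (sub_eq_zero.mp h4)

end Cfsg.Agent.Lib.helper4.TSD
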