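import Mathlib
import Cfsg.Prelude.Def_ClassicalGeometry
import Cfsg.Agent.Lib.Helper27.SPINVCONJ
import Cfsg.Agent.Lib.Helper27.SPSQNEG

/-!
# Project TSD (S5980): rows CPOSEVEN, CPOS (verbatim) and a spare copy of CNEG

`tsd_inv_rank_even`, `tsd_conj_pos` are the statements of `helper4/TSD/Skel.lean.txt`; `tsdcneg_h27_conj_neg` is the exact
statement of `tsd_conj_neg` under another name (so that it cannot clash with the row owner's file).
-/

set_option autoImplicit false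

namespace Cfsg.Agent.Lib.helper4.TSD

open Matrix Module
open Cfsg.Agent.Lib.Helper27.SpInv

variable {F : Type*} [Field F]

/-- rank-nullity for `x - 1`. -/
theorem tsdcpos_rank_add {n : Type*} [Fintype n] [DecidableEq n] (M : Matrix n n F) :
    (M - 1).rank + finrank F (LinearMap.ker (M.mulVecLin - LinearMap.id)) = Fintype.card n := by
  have h1 : (M - 1).mulVecLin = M.mulVecLin - LinearMap.id := by
    apply LinearMap.ext
    intro v
    rw [Matrix.mulVecLin_apply, LinearMap.sub_apply, Matrix.mulVecLin_apply, LinearMap.id_apply,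
      Matrix.sub_mulVec, Matrix.one_mulVec]
  have h2 := LinearMap.finrank_range_add_finrank_ker (M - 1).mulVecLin
  rw [Module.finrank_pi, h1] at h2
  rw [Matrix.rank, h1]
  exact h2

/-- CPOSEVEN. The `-1`-eigenspace of a symplectic involution is non-degenerate, so `rank (x - 1)` is even. -/
theorem tsd_inv_rank_even (h2 : (2 : F) ≠ 0) (d : ℕ) (x : GL (Fin d ⊕ Fin d) F) (hx : x ∈ Cfsg.spGL d F)
    (hx2 : (x : Matrix (Fin d ⊕ Fin d) (Fin d ⊕ Fin d) F) ^ 2 = 1) :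
    Even ((x : Matrix (Fin d ⊕ Fin d) (Fin d ⊕ Fin d) F) - 1).rank := by
  classical
  have hxf : ∀ u v, Cfsg.sympForm d F ((x : Matrix (Fin d ⊕ Fin d) (Fin d ⊕ Fin d) F) *ᵥ u)
      ((x : Matrix (Fin d ⊕ Fin d) (Fin d ⊕ Fin d) F) *ᵥ v) = Cfsg.sympForm d F u v := hx
  rw [pow_two] at hx2
  obtain ⟨k, k', φp, φm, -, -, -, -, -, -, -, hk⟩ := spinv_param h2 d _ hx2 hxf
  have h := tsdcpos_rank_add (x : Matrix (Fin d ⊕ Fin d) (Fin d ⊕ Fin d) F)
  rw [← hk] at h
  have hc : Fintype.card (Fin d ⊕ Fin d) = 2 * d := by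
    rw [Fintype.card_sum, Fintype.card_fin]; ring
  rw [hc] at h
  exact ⟨d - k, by omega⟩

/-- CPOS. Two symplectic involutions with the same `rank (x - 1)` are `Sp`-conjugate. -/
theorem tsd_conj_pos (h2 : (2 : F) ≠ 0) (d : ℕ)
    (x y : GL (Fin d ⊕ Fin d) F) (hx : x ∈ Cfsg.spGL d F) (hy : y ∈ Cfsg.spGL d F)
    (hx2 : (x : Matrix (Fin d ⊕ Fin d) (Fin d ⊕ Fin d) F) ^ 2 = 1)
    (hy2 : (y : Matrix (Fin d ⊕ Fin d) (Fin d ⊕ Fin d) F) ^ 2 = 1)
    (hr : ((x : Matrix (Fin d ⊕ Fin d) (Fin d ⊕ Fin d) F) - 1).rank =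
      ((y : Matrix (Fin d ⊕ Fin d) (Fin d ⊕ Fin d) F) - 1).rank) :
    ∃ g ∈ Cfsg.spGL d F, g⁻¹ * x * g = y := by
  classical
  rw [pow_two] at hx2 hy2
  have hX := tsdcpos_rank_add (x : Matrix (Fin d ⊕ Fin d) (Fin d ⊕ Fin d) F)
  have hY := tsdcpos_rank_add (y : Matrix (Fin d ⊕ Fin d) (Fin d ⊕ Fin d) F)
  exact sp_invol_conj h2 d x y hx hy hx2 hy2 (by omega)

/-- spare copy of CNEG (`tsd_conj_neg`): two elements of `Sp_{2d}(q)`, `q` odd, with square `-1` are `Sp`-conjugate. -/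
theorem tsdcneg_h27_conj_neg [Fintype F] (hodd : Odd (Fintype.card F)) (d : ℕ)
    (x y : GL (Fin d ⊕ Fin d) F) (hx : x ∈ Cfsg.spGL d F) (hy : y ∈ Cfsg.spGL d F)
    (hx2 : (x : Matrix (Fin d ⊕ Fin d) (Fin d ⊕ Fin d) F) ^ 2 = -1)
    (hy2 : (y : Matrix (Fin d ⊕ Fin d) (Fin d ⊕ Fin d) F) ^ 2 = -1) :
    ∃ g ∈ Cfsg.spGL d F, g⁻¹ * x * g = y := by
  have h2 : (2 : F) ≠ 0 := by
    intro h
    have hchar : ringChar F = 2 := by
      have hd : ringChar F ∣ 2 := by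
        have : ((2 : ℕ) : F) = 0 := by exact_mod_cast h
        exact (ringChar.spec F 2).mp this
      have hp : (ringChar F).Prime := CharP.char_is_prime F (ringChar F)
      exact (Nat.prime_dvd_prime_iff_eq hp Nat.prime_two).mp hd
    have heven : Even (Fintype.card F) := by
      obtain ⟨n, hn⟩ := FiniteField.card F (ringChar F)
      obtain ⟨hp, hcard⟩ := hn
      rw [hcard, hchar]
      exact (Nat.even_pow.mpr ⟨even_two, n.ne_zero⟩)
    exact (Nat.not_even_iff_odd.mpr hodd) heven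
  rw [pow_two] at hx2 hy2
  exact sp_sqneg_conj h2 d x y hx hy hx2 hy2

end Cfsg.Agent.Lib.helper4.TSD
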