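import Cfsg.Agent.Lib.helper4.TSD.Defs
import Cfsg.Agent.Lib.Helper9.TSTRISO
import Cfsg.Agent.Lib.helper3.TSTRCTX
import Cfsg.Agent.Lib.Helper28.Transport

/-!
# Project TSD (S5980): rows TNEG (`tsd_target_neg`, verbatim) and TPOS (core `tsdtpos_core`, with the row ORTHINV as a
hypothesis; the verbatim wrapper `tsd_target_pos` is in `TSDTPOS.lean`).
-/

set_option autoImplicit false
set_option linter.unusedSectionVars false
set_option linter.unusedVariables false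

namespace Cfsg.Agent.Lib.helper4.TSD

open Matrix
open scoped Kronecker
open Cfsg.Agent.Lib.Helper21.TS Cfsg.Agent.Lib.helper7.TP Cfsg.Agent.Lib.Helper22.TD
open Cfsg.Agent.Lib.Helper28.Transport

variable {F : Type*} [Field F]

/-- transfer: `φ (kronG α β)` for isometries `α`, `β` of the two Gram matrices lies in `Sp ∩ H`. -/
theorem tsdt_transfer [Fintype F] (hodd : Odd (Fintype.card F)) (d a b : ℕ)
    (e : (Fin d ⊕ Fin d) ≃ Fin a × Fin b) (P : GL (Fin d ⊕ Fin d) F)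
    (f₁ : (Fin a → F) → (Fin a → F) → F) (f₂ : (Fin b → F) → (Fin b → F) → F)
    (hf₁ : Cfsg.Geo.IsSymplecticForm f₁) (hf₂ : Cfsg.Geo.IsSymmetricForm f₂)
    (hS : Cfsg.Geo.IsTensorFormStructure id (Cfsg.sympForm d F) f₁ f₂ e P)
    (α : GL (Fin a) F) (β : GL (Fin b) F)
    (hα : (α : Matrix (Fin a) (Fin a) F)ᵀ * Cfsg.Geo.gramMatrix f₁ * (α : Matrix (Fin a) (Fin a) F) =
      Cfsg.Geo.gramMatrix f₁)
    (hβ : (β : Matrix (Fin b) (Fin b) F)ᵀ * Cfsg.Geo.gramMatrix f₂ * (β : Matrix (Fin b) (Fin b) F) =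
      Cfsg.Geo.gramMatrix f₂) :
    tmap e.symm P (kronG α β) ∈ Cfsg.spGL d F ∧
      tmap e.symm P (kronG α β) ∈ Cfsg.Geo.tensorProductSubgroup a b e P := by
  obtain ⟨c, hc, hT'⟩ := hS
  have hT2 : ∀ x y : Fin a × Fin b → F,
      Cfsg.sympForm d F ((P : Matrix (Fin d ⊕ Fin d) (Fin d ⊕ Fin d) F) *ᵥ (x ∘ e))
        ((P : Matrix (Fin d ⊕ Fin d) (Fin d ⊕ Fin d) F) *ᵥ (y ∘ e)) =
        c * bf (JV (Cfsg.Geo.gramMatrix f₁) (Cfsg.Geo.gramMatrix f₂)) x y := by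
    intro x y
    rw [hT' x y, ts_fog]
    rfl
  refine ⟨(ts_iso e P hc hT2 _).mp (kronG_mem_SpV ((mem_Iso _ α).mpr hα) ((mem_Iso _ β).mpr hβ)), ?_⟩
  rw [tensor_eq_map]
  exact Subgroup.mem_map_of_mem _ (kronG_mem_K0 α β)

/-- the matrix of the transported element. -/
theorem tsdt_tmap_eq {ι : Type} [Fintype ι] [DecidableEq ι] {a b : ℕ} (e : ι ≃ Fin a × Fin b) (P : GL ι F)
    (g : GL (Fin a × Fin b) F) : tmap e.symm P g = P * Cfsg.Geo.glReindex e.symm g * P⁻¹ := rfl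

/-- squares pass through the transport: a model element whose square acts as `ε` gives `y` with `y² = ε`. -/
theorem tsdt_sq {ι : Type} [Fintype ι] [DecidableEq ι] {a b : ℕ} (e : ι ≃ Fin a × Fin b) (P : GL ι F)
    (g : GL (Fin a × Fin b) F) (ε : F)
    (hg : (g : Matrix (Fin a × Fin b) (Fin a × Fin b) F) * (g : Matrix (Fin a × Fin b) (Fin a × Fin b) F) =
      ε • (1 : Matrix (Fin a × Fin b) (Fin a × Fin b) F)) :
    ((tmap e.symm P g : GL ι F) : Matrix ι ι F) ^ 2 = ε • (1 : Matrix ι ι F) := by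
  rw [pow_two, Matrix.ext_iff_mulVec]
  intro v
  obtain ⟨x, rfl⟩ := tstriso_psi_surj e P v
  rw [← Matrix.mulVec_mulVec, tstriso_tmap_mulVec, tstriso_tmap_mulVec, Matrix.mulVec_mulVec, hg,
    Matrix.smul_mulVec, Matrix.one_mulVec, Matrix.smul_mulVec, Matrix.one_mulVec]
  have h1 : (ε • x) ∘ e = ε • (x ∘ e) := rfl
  rw [h1, Matrix.mulVec_smul]

/-- the standard `2 × 2` matrix of square `-1`. -/
def tsdtAlpha (F : Type*) [Field F] : Matrix (Fin 2) (Fin 2) F := !![0, 1; -1, 0]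

theorem tsdtAlpha_mul : tsdtAlpha F * tsdtAlpha F = -1 := by
  unfold tsdtAlpha
  ext i j
  fin_cases i <;> fin_cases j <;> simp [Matrix.mul_apply, Fin.sum_univ_two]

/-- `α₀` as an element of `GL_2`. -/
def tsdtAlphaG (F : Type*) [Field F] : GL (Fin 2) F :=
  ⟨tsdtAlpha F, -tsdtAlpha F, by rw [Matrix.mul_neg, tsdtAlpha_mul, neg_neg],
    by rw [Matrix.neg_mul, tsdtAlpha_mul, neg_neg]⟩

theorem tsdtAlphaG_coe : ((tsdtAlphaG F : GL (Fin 2) F) : Matrix (Fin 2) (Fin 2) F) = tsdtAlpha F := rfl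

/-- `α₀` preserves every alternating `2 × 2` Gram matrix. -/
theorem tsdtAlpha_iso (J : Matrix (Fin 2) (Fin 2) F) (h00 : J 0 0 = 0) (h11 : J 1 1 = 0)
    (h10 : J 1 0 = -J 0 1) : (tsdtAlpha F)ᵀ * J * tsdtAlpha F = J := by
  unfold tsdtAlpha
  ext i j
  fin_cases i <;> fin_cases j <;>
    simp [Matrix.mul_apply, Fin.sum_univ_two, h00, h11, h10]

/-- TNEG [M]. `a = 2`: an element of `H ∩ Sp` with square `-1`. -/
theorem tsd_target_neg [Fintype F] (hodd : Odd (Fintype.card F)) (d b : ℕ)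
    (e : (Fin d ⊕ Fin d) ≃ Fin 2 × Fin b) (P : GL (Fin d ⊕ Fin d) F)
    (f₁ : (Fin 2 → F) → (Fin 2 → F) → F) (f₂ : (Fin b → F) → (Fin b → F) → F)
    (hf₁ : Cfsg.Geo.IsSymplecticForm f₁) (hf₂ : Cfsg.Geo.IsSymmetricForm f₂)
    (hS : Cfsg.Geo.IsTensorFormStructure id (Cfsg.sympForm d F) f₁ f₂ e P) :
    ∃ y ∈ Cfsg.spGL d F, y ∈ Cfsg.Geo.tensorProductSubgroup 2 b e P ∧
      (y : Matrix (Fin d ⊕ Fin d) (Fin d ⊕ Fin d) F) ^ 2 = -1 := by
  have hα : ((tsdtAlphaG F : GL (Fin 2) F) : Matrix (Fin 2) (Fin 2) F)ᵀ * Cfsg.Geo.gramMatrix f₁ *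
      ((tsdtAlphaG F : GL (Fin 2) F) : Matrix (Fin 2) (Fin 2) F) = Cfsg.Geo.gramMatrix f₁ := by
    rw [tsdtAlphaG_coe]
    apply tsdtAlpha_iso
    · exact hf₁.alternating _
    · exact hf₁.alternating _
    · exact hf₁.skew _ _
  have hβ : ((1 : GL (Fin b) F) : Matrix (Fin b) (Fin b) F)ᵀ * Cfsg.Geo.gramMatrix f₂ *
      ((1 : GL (Fin b) F) : Matrix (Fin b) (Fin b) F) = Cfsg.Geo.gramMatrix f₂ := by
    rw [Units.val_one, Matrix.transpose_one, Matrix.one_mul, Matrix.mul_one]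
  obtain ⟨h1, h2⟩ := tsdt_transfer hodd d 2 b e P f₁ f₂ hf₁ hf₂ hS (tsdtAlphaG F) 1 hα hβ
  refine ⟨_, h1, h2, ?_⟩
  have h3 := tsdt_sq e P (kronG (tsdtAlphaG F) (1 : GL (Fin b) F)) (-1) (by
    have h0 : (-1 : Matrix (Fin 2) (Fin 2) F) = (-1 : F) • (1 : Matrix (Fin 2) (Fin 2) F) := by
      rw [neg_smul, one_smul]
    rw [kronG_coe, ← Matrix.mul_kronecker_mul, tsdtAlphaG_coe, tsdtAlpha_mul, Units.val_one, Matrix.one_mul,
      h0, Matrix.smul_kronecker, Matrix.one_kronecker_one])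
  rw [h3, neg_smul, one_smul]

/-- TPOS, core: with an orthogonal involution `β` of `J2 = gramMatrix f₂` with `rank (β - 1) = j` (row ORTHINV). -/
theorem tsdtpos_core [Fintype F] (hodd : Odd (Fintype.card F)) (d b : ℕ)
    (e : (Fin d ⊕ Fin d) ≃ Fin 2 × Fin b) (P : GL (Fin d ⊕ Fin d) F)
    (f₁ : (Fin 2 → F) → (Fin 2 → F) → F) (f₂ : (Fin b → F) → (Fin b → F) → F)
    (hf₁ : Cfsg.Geo.IsSymplecticForm f₁) (hf₂ : Cfsg.Geo.IsSymmetricForm f₂)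
    (hS : Cfsg.Geo.IsTensorFormStructure id (Cfsg.sympForm d F) f₁ f₂ e P) (j : ℕ)
    (hOI : ∃ β : GL (Fin b) F, (β : Matrix (Fin b) (Fin b) F)ᵀ * Cfsg.Geo.gramMatrix f₂ *
        (β : Matrix (Fin b) (Fin b) F) = Cfsg.Geo.gramMatrix f₂ ∧
      (β : Matrix (Fin b) (Fin b) F) ^ 2 = 1 ∧ ((β : Matrix (Fin b) (Fin b) F) - 1).rank = j) :
    ∃ y ∈ Cfsg.spGL d F, y ∈ Cfsg.Geo.tensorProductSubgroup 2 b e P ∧
      (y : Matrix (Fin d ⊕ Fin d) (Fin d ⊕ Fin d) F) ^ 2 = 1 ∧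
      ((y : Matrix (Fin d ⊕ Fin d) (Fin d ⊕ Fin d) F) - 1).rank = 2 * j := by
  obtain ⟨β, hβ, hβ2, hβr⟩ := hOI
  have hα : ((1 : GL (Fin 2) F) : Matrix (Fin 2) (Fin 2) F)ᵀ * Cfsg.Geo.gramMatrix f₁ *
      ((1 : GL (Fin 2) F) : Matrix (Fin 2) (Fin 2) F) = Cfsg.Geo.gramMatrix f₁ := by
    rw [Units.val_one, Matrix.transpose_one, Matrix.one_mul, Matrix.mul_one]
  obtain ⟨h1, h2⟩ := tsdt_transfer hodd d 2 b e P f₁ f₂ hf₁ hf₂ hS 1 β hα hβ
  refine ⟨_, h1, h2, ?_, ?_⟩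
  · have h3 := tsdt_sq e P (kronG (1 : GL (Fin 2) F) β) 1 (by
      rw [kronG_coe, ← Matrix.mul_kronecker_mul, Units.val_one, Matrix.one_mul, ← pow_two, hβ2, one_smul,
        Matrix.one_kronecker_one])
    rw [h3, one_smul]
  · have h4 := td_rank_conj P (Cfsg.Geo.glReindex e.symm (kronG (1 : GL (Fin 2) F) β)) (1 : F)
    rw [one_smul] at h4
    rw [tsdt_tmap_eq, h4]
    have h5 := td_rank_reindex e.symm (kronG (1 : GL (Fin 2) F) β) (1 : F)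
    rw [one_smul, one_smul] at h5
    rw [h5, kronG_coe, Units.val_one]
    have h6 := td_one_kron_sub (a := 2) (β : Matrix (Fin b) (Fin b) F) (1 : F)
    rw [one_smul, one_smul] at h6
    rw [h6, td_rank_one_kron, hβr]

end Cfsg.Agent.Lib.helper4.TSD
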