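import Cfsg.Agent.Lib.Helper27.TSDTARGET
import Cfsg.Agent.Lib.Helper21.TSDORTHINV21

/-!
# Project TSD (S5980): row TPOS (`tsd_target_pos`, verbatim) = `tsdtpos_core` + helper21's copy of row ORTHINV.
-/

set_option autoImplicit false

namespace Cfsg.Agent.Lib.helper4.TSD

open Matrix
open scoped Kronecker
open Cfsg.Agent.Lib.Helper21.TS

variable {F : Type*} [Field F]

/-- TPOS [M]. `a = 2`: an involution of `H ∩ Sp` with `rank (y - 1) = 2 j`, any `j ≤ b`. -/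
theorem tsd_target_pos [Fintype F] (hodd : Odd (Fintype.card F)) (d b : ℕ)
    (e : (Fin d ⊕ Fin d) ≃ Fin 2 × Fin b) (P : GL (Fin d ⊕ Fin d) F)
    (f₁ : (Fin 2 → F) → (Fin 2 → F) → F) (f₂ : (Fin b → F) → (Fin b → F) → F)
    (hf₁ : Cfsg.Geo.IsSymplecticForm f₁) (hf₂ : Cfsg.Geo.IsSymmetricForm f₂)
    (hS : Cfsg.Geo.IsTensorFormStructure id (Cfsg.sympForm d F) f₁ f₂ e P) (j : ℕ) (hj : j ≤ b) :
    ∃ y ∈ Cfsg.spGL d F, y ∈ Cfsg.Geo.tensorProductSubgroup 2 b e P ∧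
      (y : Matrix (Fin d ⊕ Fin d) (Fin d ⊕ Fin d) F) ^ 2 = 1 ∧
      ((y : Matrix (Fin d ⊕ Fin d) (Fin d ⊕ Fin d) F) - 1).rank = 2 * j := by
  have C := ts_ctx hodd f₁ f₂ hf₁ hf₂
  exact tsdtpos_core hodd d b e P f₁ f₂ hf₁ hf₂ hS j
    (tsdorthinv21_orth_inv C.two _ C.sym C.det2 j hj)

end Cfsg.Agent.Lib.helper4.TSD
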