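import Cfsg.Agent.Lib.helper4.TSD.Defs
import Cfsg.Agent.Lib.helper6.SympBasis

/-!
# Project TSD (S5980): second copy of row TWO (`tsd_case_two`) under the name `tsdtwo_h27_case_two`.
-/

set_option autoImplicit false

namespace Cfsg.Agent.Lib.helper4.TSD

open Matrix

variable {F : Type*} [Field F]

/-- the weight `-1` on the hyperbolic pair `i0`, `1` elsewhere. -/
def tsdtwoW (d : ℕ) (i0 : Fin d) : Fin d ⊕ Fin d → F :=
  Sum.elim (fun i => if i = i0 then -1 else 1) (fun i => if i = i0 then -1 else 1)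

theorem tsdtwoW_mul (d : ℕ) (i0 : Fin d) (k : Fin d ⊕ Fin d) :
    tsdtwoW (F := F) d i0 k * tsdtwoW d i0 k = 1 := by
  rcases k with k | k <;> simp only [tsdtwoW, Sum.elim_inl, Sum.elim_inr] <;> split_ifs <;> ring

theorem tsdtwoW_pair (d : ℕ) (i0 : Fin d) (i : Fin d) :
    tsdtwoW (F := F) d i0 (Sum.inl i) * tsdtwoW d i0 (Sum.inr i) = 1 := by
  simp only [tsdtwoW, Sum.elim_inl, Sum.elim_inr]
  split_ifs <;> ring

theorem tsdtwoW_diag (d : ℕ) (i0 : Fin d) :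
    diagonal (tsdtwoW (F := F) d i0) * diagonal (tsdtwoW d i0) = 1 := by
  rw [Matrix.diagonal_mul_diagonal, ← Matrix.diagonal_one]
  congr 1
  funext k
  exact tsdtwoW_mul d i0 k

/-- the diagonal involution. -/
def tsdtwoX (d : ℕ) (i0 : Fin d) : GL (Fin d ⊕ Fin d) F :=
  ⟨diagonal (tsdtwoW d i0), diagonal (tsdtwoW d i0), tsdtwoW_diag d i0, tsdtwoW_diag d i0⟩

theorem tsdtwoX_coe (d : ℕ) (i0 : Fin d) :
    ((tsdtwoX (F := F) d i0 : GL (Fin d ⊕ Fin d) F) : Matrix (Fin d ⊕ Fin d) (Fin d ⊕ Fin d) F) =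
      diagonal (tsdtwoW d i0) := rfl

theorem tsdtwoX_mem (d : ℕ) (i0 : Fin d) : tsdtwoX (F := F) d i0 ∈ Cfsg.spGL d F := by
  show ∀ u v, Cfsg.sympForm d F (((tsdtwoX (F := F) d i0 : GL (Fin d ⊕ Fin d) F) :
      Matrix (Fin d ⊕ Fin d) (Fin d ⊕ Fin d) F) *ᵥ u)
    (((tsdtwoX (F := F) d i0 : GL (Fin d ⊕ Fin d) F) :
      Matrix (Fin d ⊕ Fin d) (Fin d ⊕ Fin d) F) *ᵥ v) = Cfsg.sympForm d F u v
  intro u v
  rw [tsdtwoX_coe, Cfsg.Agent.Lib.helper6.SB.sympForm_eq_sum, Cfsg.Agent.Lib.helper6.SB.sympForm_eq_sum]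
  apply Finset.sum_congr rfl
  intro i _
  rw [Matrix.mulVec_diagonal, Matrix.mulVec_diagonal, Matrix.mulVec_diagonal, Matrix.mulVec_diagonal]
  have hp := tsdtwoW_pair (F := F) d i0 i
  linear_combination (u (Sum.inr i) * v (Sum.inl i) - u (Sum.inl i) * v (Sum.inr i)) * hp

theorem tsdtwoX_rank (h2 : (2 : F) ≠ 0) (d : ℕ) (i0 : Fin d) :
    (((tsdtwoX (F := F) d i0 : GL (Fin d ⊕ Fin d) F) : Matrix (Fin d ⊕ Fin d) (Fin d ⊕ Fin d) F) -
      (1 : F) • (1 : Matrix (Fin d ⊕ Fin d) (Fin d ⊕ Fin d) F)).rank = 2 := by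
  classical
  have h1 : ((tsdtwoX (F := F) d i0 : GL (Fin d ⊕ Fin d) F) : Matrix (Fin d ⊕ Fin d) (Fin d ⊕ Fin d) F) -
      (1 : F) • (1 : Matrix (Fin d ⊕ Fin d) (Fin d ⊕ Fin d) F) =
      diagonal (fun k => tsdtwoW (F := F) d i0 k - 1) := by
    rw [tsdtwoX_coe, one_smul, ← Matrix.diagonal_one, Matrix.diagonal_sub]
  rw [h1, Matrix.rank_diagonal, Fintype.card_subtype]
  have hne : (-1 : F) - 1 ≠ 0 := by
    intro h
    apply h2
    linear_combination -h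
  have hf : (Finset.univ.filter (fun k : Fin d ⊕ Fin d => tsdtwoW (F := F) d i0 k - 1 ≠ 0)) =
      {Sum.inl i0, Sum.inr i0} := by
    ext k
    rw [Finset.mem_filter, Finset.mem_insert, Finset.mem_singleton]
    rcases k with k | k
    · simp only [tsdtwoW, Sum.elim_inl, Finset.mem_univ, true_and, Sum.inl.injEq, reduceCtorEq, or_false]
      by_cases hk : k = i0
      · simp [hk, hne]
      · simp [hk]
    · simp only [tsdtwoW, Sum.elim_inr, Finset.mem_univ, true_and, Sum.inr.injEq, reduceCtorEq, false_or]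
      by_cases hk : k = i0
      · simp [hk, hne]
      · simp [hk]
  rw [hf, Finset.card_pair (by simp)]

/-- TWO (second copy of `tsd_case_two`). -/
theorem tsdtwo_h27_case_two (h2 : (2 : F) ≠ 0) (d : ℕ) (hd : 2 ≤ d) (a b : ℕ) (ha4 : 4 ≤ a) (hb : 3 ≤ b)
    (e : (Fin d ⊕ Fin d) ≃ Fin a × Fin b) (P : GL (Fin d ⊕ Fin d) F) (hall : TsdAll d a b e P 2) : False := by
  set i0 : Fin d := ⟨0, by omega⟩ with hi0
  set i1 : Fin d := ⟨1, by omega⟩ with hi1
  have h01 : i1 ≠ i0 := by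
    intro h
    have := congrArg Fin.val h
    simp [hi0, hi1] at this
  have hconj := hall (tsdtwoX d i0) (tsdtwoX_mem d i0)
    ⟨1, by
      rw [Units.val_pow_eq_pow_val, pow_two, tsdtwoX_coe, tsdtwoW_diag, one_smul]⟩
    (by
      intro z hz
      rw [tsdtwoX_coe] at hz
      have e0 := congrFun (congrFun hz (Sum.inl i0)) (Sum.inl i0)
      have e1 := congrFun (congrFun hz (Sum.inl i1)) (Sum.inl i1)
      simp only [Matrix.diagonal_apply_eq, Matrix.smul_apply, Matrix.one_apply_eq, smul_eq_mul, mul_one,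
        tsdtwoW, Sum.elim_inl, if_true, if_neg h01] at e0 e1
      apply h2
      linear_combination e1 - e0)
  obtain ⟨h, hh⟩ := tsd_small (by omega : 1 ≤ a) e P (tsdtwoX d i0) hconj 1
    (by rw [tsdtwoX_rank h2]; omega)
  have h3 := hh 1
  rw [tsdtwoX_rank h2] at h3
  rcases Nat.eq_zero_or_pos (h - (1 : F) • (1 : Matrix (Fin b) (Fin b) F)).rank with h0 | h0
  · rw [h0] at h3
    omega
  · nlinarith

end Cfsg.Agent.Lib.helper4.TSD
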