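import Cfsg.Agent.Lib.Helper28.TT.Defs

/-!
# Project TT (S5555), piece B2 : the monomial subgroup of `SU_3(2)` has order 54.
-/

set_option autoImplicit false
set_option linter.unusedVariables false
set_option linter.unusedSectionVars false
set_option linter.style.haveILetI false

namespace Cfsg.Agent.Lib.Helper27.TT

open Matrix Cfsg.Agent.Lib.Helper28.TT

section B2

variable {F : Type*} [Field F]

/-- the monomial matrix with entry `c j` at `(σ j, j)` -/
def monoM (σ : Equiv.Perm (Fin 3)) (c : Fin 3 → F) : Matrix (Fin 3) (Fin 3) F :=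
  Matrix.of fun i j => if i = σ j then c j else 0

theorem monoM_apply (σ : Equiv.Perm (Fin 3)) (c : Fin 3 → F) (i j : Fin 3) :
    monoM σ c i j = if i = σ j then c j else 0 := rfl

theorem monoM_eq_mul (σ : Equiv.Perm (Fin 3)) (c : Fin 3 → F) :
    monoM σ c = ((σ⁻¹).toPEquiv.toMatrix : Matrix (Fin 3) (Fin 3) F) * Matrix.diagonal c := by
  ext i j
  rw [monoM_apply, Matrix.mul_diagonal, PEquiv.toMatrix_apply, Equiv.toPEquiv_apply]
  by_cases h : i = σ j
  · have h' : j ∈ some (σ⁻¹ i) := by
      rw [Option.mem_some_iff, h]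
      simp
    rw [if_pos h, if_pos h', one_mul]
  · have h' : ¬ j ∈ some (σ⁻¹ i) := by
      rw [Option.mem_some_iff]
      intro h2
      apply h
      rw [← h2]
      simp
    rw [if_neg h, if_neg h', zero_mul]

theorem sign_cast_charTwo [CharP F 2] (σ : Equiv.Perm (Fin 3)) :
    (((Equiv.Perm.sign σ : ℤˣ) : ℤ) : F) = 1 := by
  rcases Int.units_eq_one_or (Equiv.Perm.sign σ) with h | h
  · rw [h]; simp
  · rw [h]
    simp only [Units.val_neg, Units.val_one, Int.cast_neg, Int.cast_one]
    exact CharTwo.neg_eq 1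

theorem monoM_det [CharP F 2] (σ : Equiv.Perm (Fin 3)) (c : Fin 3 → F) :
    (monoM σ c).det = c 0 * c 1 * c 2 := by
  have h := Matrix.det_permutation (R := F) σ⁻¹
  unfold Equiv.Perm.permMatrix at h
  rw [monoM_eq_mul, Matrix.det_mul, h, Matrix.det_diagonal,
    sign_cast_charTwo, one_mul, Fin.prod_univ_three]

theorem monoM_gram (σ : Equiv.Perm (Fin 3)) (c : Fin 3 → F) (hc : ∀ j, c j ^ 3 = 1) :
    (monoM σ c)ᵀ * sqm (monoM σ c) = 1 := by
  ext j k
  rw [Matrix.mul_apply, Matrix.one_apply]
  simp only [Matrix.transpose_apply, sqm, Matrix.map_apply, monoM_apply]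
  by_cases hjk : j = k
  · subst hjk
    rw [if_pos rfl, Finset.sum_eq_single (σ j)]
    · rw [if_pos rfl, ← pow_succ']
      exact hc j
    · intro b _ hb
      rw [if_neg hb, zero_mul]
    · intro h
      exact absurd (Finset.mem_univ _) h
  · rw [if_neg hjk]
    apply Finset.sum_eq_zero
    intro i _
    by_cases h1 : i = σ j
    · have h2 : ¬ i = σ k := by
        intro h2
        apply hjk
        exact σ.injective (h1.symm.trans h2)
      rw [if_neg h2]
      simp
    · rw [if_neg h1, zero_mul]

theorem rowMono_monoM (σ : Equiv.Perm (Fin 3)) (c : Fin 3 → F) : RowMono (monoM σ c) := by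
  intro i j k hj hk
  rw [monoM_apply] at hj hk
  have h1 : i = σ j := by
    by_contra h
    exact hj (if_neg h)
  have h2 : i = σ k := by
    by_contra h
    exact hk (if_neg h)
  exact σ.injective (h1.symm.trans h2)

variable [Fintype F]

/-- the diagonal vector from two units -/
def cvec (a b : Fˣ) : Fin 3 → F := ![(a : F), (b : F), (((a * b)⁻¹ : Fˣ) : F)]

theorem cvec_ne_zero (a b : Fˣ) (j : Fin 3) : cvec a b j ≠ 0 := by
  fin_cases j
  · exact a.ne_zero
  · exact b.ne_zero
  · exact ((a * b)⁻¹ : Fˣ).ne_zero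

theorem cvec_prod (a b : Fˣ) : cvec a b 0 * cvec a b 1 * cvec a b 2 = 1 := by
  show (a : F) * (b : F) * (((a * b)⁻¹ : Fˣ) : F) = 1
  rw [← Units.val_mul, ← Units.val_mul, mul_inv_cancel, Units.val_one]

/-- the parametrisation of the monomial subgroup -/
noncomputable def param (hF : Fintype.card F = 4) (p : Equiv.Perm (Fin 3) × Fˣ × Fˣ) :
    ↥(monoSub F) :=
  haveI := charTwo hF
  ⟨mk3 (monoM p.1 (cvec p.2.1 p.2.2))
      (by rw [monoM_det]; exact cvec_prod _ _)
      (iso_of_gram _ (monoM_gram _ _ (fun j => pow_three hF (cvec_ne_zero _ _ j)))),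
    rowMono_monoM _ _⟩

theorem mat_param (hF : Fintype.card F = 4) (p : Equiv.Perm (Fin 3) × Fˣ × Fˣ) :
    mat (param hF p : ↥(Cfsg.SU 3 F 2)) = monoM p.1 (cvec p.2.1 p.2.2) := rfl

theorem param_injective (hF : Fintype.card F = 4) : Function.Injective (param (F := F) hF) := by
  rintro ⟨σ, a, b⟩ ⟨σ', a', b'⟩ h
  have h1 : monoM σ (cvec a b) = monoM σ' (cvec a' b') := by
    have := congrArg (fun x : ↥(monoSub F) => mat (x : ↥(Cfsg.SU 3 F 2))) h
    simpa only [mat_param] using this
  have hσ : σ = σ' := by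
    apply Equiv.ext
    intro j
    have h2 := congrFun (congrFun h1 (σ j)) j
    rw [monoM_apply, monoM_apply, if_pos rfl] at h2
    by_contra hne
    rw [if_neg hne] at h2
    exact cvec_ne_zero a b j h2
  subst hσ
  have hc : ∀ j, cvec a b j = cvec a' b' j := by
    intro j
    have h2 := congrFun (congrFun h1 (σ j)) j
    rw [monoM_apply, monoM_apply, if_pos rfl, if_pos rfl] at h2
    exact h2
  have ha : a = a' := Units.ext (hc 0)
  have hb : b = b' := Units.ext (hc 1)
  rw [ha, hb]

theorem param_surjective (hF : Fintype.card F = 4) : Function.Surjective (param (F := F) hF) := by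
  haveI := charTwo hF
  rintro ⟨A, hA⟩
  rw [mem_monoSub] at hA
  set M := mat A with hM
  have hgram : Mᵀ * sqm M = 1 := gram_of_iso M (mat_herm A)
  -- every column has a nonzero entry
  have hcol : ∀ j : Fin 3, ∃ i : Fin 3, M i j ≠ 0 := by
    intro j
    by_contra hcon
    push Not at hcon
    have h1 := congrFun (congrFun hgram j) j
    rw [Matrix.mul_apply, Matrix.one_apply, if_pos rfl] at h1
    simp only [Matrix.transpose_apply, hcon, zero_mul, Finset.sum_const_zero] at h1
    exact zero_ne_one h1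
  choose s hs using hcol
  have hsinj : Function.Injective s := by
    intro j k hjk
    exact hA (s j) j k (hs j) (by rw [hjk]; exact hs k)
  let σ : Equiv.Perm (Fin 3) := Equiv.ofBijective s (Finite.injective_iff_bijective.mp hsinj)
  have hσ : ∀ j, σ j = s j := fun j => rfl
  -- the entries
  have hent : ∀ i j, M i j ≠ 0 → i = σ j := by
    intro i j hij
    obtain ⟨k, hk⟩ := σ.surjective i
    have h1 : M i k ≠ 0 := by rw [← hk, hσ]; exact hs k
    have := hA i j k hij h1
    rw [this, hk]
  let c : Fin 3 → F := fun j => M (σ j) j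
  have hc0 : ∀ j, c j ≠ 0 := fun j => hs j
  have hMc : M = monoM σ c := by
    ext i j
    rw [monoM_apply]
    by_cases h : i = σ j
    · rw [if_pos h, h]
    · rw [if_neg h]
      by_contra h2
      exact h (hent i j h2)
  have hdet : c 0 * c 1 * c 2 = 1 := by
    rw [← monoM_det σ c, ← hMc]
    exact mat_det A
  let a : Fˣ := Units.mk0 (c 0) (hc0 0)
  let b : Fˣ := Units.mk0 (c 1) (hc0 1)
  have hcv : cvec a b = c := by
    funext j
    fin_cases j
    · rfl
    · rfl
    · show (((a * b)⁻¹ : Fˣ) : F) = c 2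
      have h2 : ((a * b : Fˣ) : F) * c 2 = 1 := by
        rw [Units.val_mul]
        exact hdet
      rw [Units.val_inv_eq_inv_val]
      exact (eq_inv_of_mul_eq_one_right h2).symm
  refine ⟨(σ, a, b), ?_⟩
  apply Subtype.ext
  apply mat_injective
  rw [mat_param]
  show monoM σ (cvec a b) = M
  rw [hcv, hMc]

/-- Piece B2 : the monomial subgroup has order 54 (= 9 diagonal matrices times 6 permutations). -/
theorem card_monoSub (hF : Fintype.card F = 4) : Nat.card ↥(monoSub F) = 54 := by
  classical
  have e : (Equiv.Perm (Fin 3) × Fˣ × Fˣ) ≃ ↥(monoSub F) :=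
    Equiv.ofBijective (param hF) ⟨param_injective hF, param_surjective hF⟩
  rw [← Nat.card_congr e, Nat.card_prod, Nat.card_prod, Nat.card_eq_fintype_card,
    Nat.card_eq_fintype_card, Fintype.card_perm, Fintype.card_units, hF, Fintype.card_fin]
  rfl

end B2

end Cfsg.Agent.Lib.Helper27.TT
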