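import Cfsg.Agent.Lib.Helper28.TT.Defs

/-!
# Project TT (S5555), piece B6 : two non-commuting elements of order 3 in the monomial subgroup.
-/

set_option autoImplicit false
set_option linter.unusedVariables false
set_option linter.unusedSectionVars false
set_option linter.style.haveILetI false

namespace Cfsg.Agent.Lib.Helper27.TT

open Matrix Cfsg.Agent.Lib.Helper28.TT

section B

variable {F : Type*} [Field F] [Fintype F]

/-- the permutation matrix of a 3-cycle -/
def cycM (F : Type*) [Field F] : Matrix (Fin 3) (Fin 3) F := !![0, 0, 1; 1, 0, 0; 0, 1, 0]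

/-- `diag(1, w, w^2)` -/
def diagM (w : F) : Matrix (Fin 3) (Fin 3) F := !![1, 0, 0; 0, w, 0; 0, 0, w ^ 2]

theorem cycM_det : (cycM F).det = 1 := by
  rw [Matrix.det_fin_three]
  simp [cycM]

theorem cycM_gram : (cycM F)ᵀ * sqm (cycM F) = 1 := by
  ext i j
  fin_cases i <;> fin_cases j <;> simp [cycM, sqm, Matrix.mul_apply, Fin.sum_univ_three]

theorem diagM_det (w : F) (hw : w ^ 3 = 1) : (diagM w).det = 1 := by
  rw [Matrix.det_fin_three]
  simp only [diagM, Matrix.of_apply, Matrix.cons_val', Matrix.cons_val_zero, Matrix.cons_val_one,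
    Matrix.cons_val_two, Matrix.head_cons, Matrix.tail_cons, Matrix.empty_val', Matrix.cons_val_fin_one]
  simp
  rw [← pow_succ']
  exact hw

theorem diagM_gram (w : F) (hw : w ^ 3 = 1) : (diagM w)ᵀ * sqm (diagM w) = 1 := by
  have h6 : w ^ 2 * (w ^ 2) ^ 2 = 1 := by
    have : w ^ 2 * (w ^ 2) ^ 2 = (w ^ 3) ^ 2 := by ring
    rw [this, hw, one_pow]
  have h3 : w * w ^ 2 = 1 := by
    rw [← pow_succ']
    exact hw
  ext i j
  fin_cases i <;> fin_cases j <;>
    simp [diagM, sqm, Matrix.mul_apply, Fin.sum_univ_three, h3, h6]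

theorem rowMono_cycM : RowMono (cycM F) := by
  intro i j k hj hk
  fin_cases i <;> fin_cases j <;> fin_cases k <;> simp [cycM] at hj hk ⊢

theorem rowMono_diagM (w : F) : RowMono (diagM w) := by
  intro i j k hj hk
  fin_cases i <;> fin_cases j <;> fin_cases k <;> simp [diagM] at hj hk ⊢

/-- Piece B6 : two non-commuting elements of order 3 in the monomial subgroup
(the 3-cycle permutation matrix and `diag(1, w, w^2)`). -/
theorem exists_nc (hF : Fintype.card F = 4) :
    ∃ x ∈ monoSub F, ∃ y ∈ monoSub F, x ^ 3 = 1 ∧ y ^ 3 = 1 ∧ x * y ≠ y * x := by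
  haveI := charTwo hF
  obtain ⟨w, hw, hw0, hw1, -⟩ := exists_omega hF
  have hw3 : w ^ 3 = 1 := pow_three hF hw0
  let x : ↥(Cfsg.SU 3 F 2) := mk3 (cycM F) cycM_det (iso_of_gram _ cycM_gram)
  let y : ↥(Cfsg.SU 3 F 2) := mk3 (diagM w) (diagM_det w hw3) (iso_of_gram _ (diagM_gram w hw3))
  have hx : mat x = cycM F := rfl
  have hy : mat y = diagM w := rfl
  refine ⟨x, ?_, y, ?_, ?_, ?_, ?_⟩
  · rw [mem_monoSub, hx]
    exact rowMono_cycM
  · rw [mem_monoSub, hy]
    exact rowMono_diagM w
  · apply mat_injective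
    rw [mat_pow, hx, mat_one]
    ext i j
    fin_cases i <;> fin_cases j <;>
      simp [cycM, pow_succ, Matrix.mul_apply, Fin.sum_univ_three]
  · apply mat_injective
    rw [mat_pow, hy, mat_one]
    have h6 : w * w * (w * w) * (w * w) = 1 := by
      have : w * w * (w * w) * (w * w) = (w ^ 3) ^ 2 := by ring
      rw [this, hw3, one_pow]
    have h3 : w * w * w = 1 := by
      have : w * w * w = w ^ 3 := by ring
      rw [this, hw3]
    ext i j
    fin_cases i <;> fin_cases j <;>
      simp [diagM, pow_succ, Matrix.mul_apply, Fin.sum_univ_three, h3, h6]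
  · intro hcomm
    have h1 := congrArg mat hcomm
    rw [mat_mul, mat_mul, hx, hy] at h1
    have h2 := congrFun (congrFun h1 1) 0
    simp [cycM, diagM, Matrix.mul_apply, Fin.sum_univ_three] at h2
    exact hw1 h2.symm

end B

end Cfsg.Agent.Lib.Helper27.TT
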