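import Cfsg.Agent.Lib.Helper27.TTFitting2
import Cfsg.Agent.Lib.helper17.QS5
import Cfsg.Agent.S0144

/-!
Components of a group generated by a class of 3-transpositions (helper27): every component is normal
and there is at most one.
-/

set_option autoImplicit false

namespace Cfsg.Agent.Lib.Helper27.TTComp

open Cfsg Cfsg.Agent.Lib.Helper27 Cfsg.Agent.Lib.Helper27.TTFitting

/-- a finite group of exponent dividing 6 has order `2 ^ a * 3 ^ b` -/
theorem card_of_exponent_six {Q : Type*} [Group Q] [Finite Q] (h6 : ∀ q : Q, q ^ 6 = 1) :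
    ∃ a b : ℕ, Nat.card Q = 2 ^ a * 3 ^ b := by
  have hpos : Nat.card Q ≠ 0 := Nat.card_pos.ne'
  have hprime : ∀ p : ℕ, p.Prime → p ∣ Nat.card Q → p = 2 ∨ p = 3 := by
    intro p hp hdvd
    have : Fact p.Prime := ⟨hp⟩
    obtain ⟨q, hq⟩ := exists_prime_orderOf_dvd_card' p hdvd
    have h1 : orderOf q ∣ 6 := orderOf_dvd_of_pow_eq_one (h6 q)
    rw [hq] at h1
    have h6' : (6 : ℕ) = 2 * 3 := by norm_num
    rw [h6'] at h1
    rcases (Nat.Prime.dvd_mul hp).mp h1 with h | h
    · left; exact (Nat.prime_dvd_prime_iff_eq hp Nat.prime_two).mp h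
    · right; exact (Nat.prime_dvd_prime_iff_eq hp Nat.prime_three).mp h
  obtain ⟨a, m, hm2, hnm⟩ := Nat.exists_eq_pow_mul_and_not_dvd hpos 2 (by norm_num)
  have hmpos : m ≠ 0 := by
    intro h
    rw [h, mul_zero] at hnm
    exact hpos hnm
  obtain ⟨b, m', hm3, hmm⟩ := Nat.exists_eq_pow_mul_and_not_dvd hmpos 3 (by norm_num)
  have hm'1 : m' = 1 := by
    rw [Nat.eq_one_iff_not_exists_prime_dvd]
    intro p hp hdvd
    have hdvdm : p ∣ m := by rw [hmm]; exact dvd_mul_of_dvd_right hdvd _
    have hdvdn : p ∣ Nat.card Q := by rw [hnm]; exact dvd_mul_of_dvd_right hdvdm _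
    rcases hprime p hp hdvdn with h | h
    · rw [h] at hdvdm; exact hm2 hdvdm
    · rw [h] at hdvd; exact hm3 hdvd
  refine ⟨a, b, ?_⟩
  rw [hnm, hmm, hm'1, mul_one]

/-- in a finite quasisimple group some sixth power is not central -/
theorem exists_pow_six_not_mem_center {K : Type*} [Group K] [Finite K] (hK : Cfsg.IsQuasisimple K) :
    ∃ k : K, k ^ 6 ∉ Subgroup.center K := by
  by_contra hcon
  push Not at hcon
  obtain ⟨hperf, hsimp⟩ := hK
  have h6 : ∀ q : K ⧸ Subgroup.center K, q ^ 6 = 1 := by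
    intro q
    induction q using QuotientGroup.induction_on with
    | H k =>
      rw [← QuotientGroup.mk_pow, QuotientGroup.eq_one_iff]
      exact hcon k
  obtain ⟨a, b, hab⟩ := card_of_exponent_six h6
  have hsolv : Group.IsSolvable (K ⧸ Subgroup.center K) :=
    Cfsg.Agent.S0144.result 2 3 a b Nat.prime_two Nat.prime_three hab
  have hnt : Nontrivial (K ⧸ Subgroup.center K) := hsimp.toNontrivial
  have hperfQ : Group.IsPerfect (K ⧸ Subgroup.center K) := inferInstance
  exact Group.IsPerfect.not_isSolvable (K ⧸ Subgroup.center K) hsolv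

section Comp

variable {G : Type*} [Group G] [Finite G] {D : Set G}

/-- every member of `D` normalizes every component -/
theorem map_conj_component (hD : IsThreeTranspositionSet D)
    (hconj : ∀ g : G, ∀ d ∈ D, g * d * g⁻¹ ∈ D) {K : Subgroup G} (hK : Cfsg.IsComponent K)
    {d : G} (hd : d ∈ D) : K.map (MulAut.conj d).toMonoidHom = K := by
  by_contra hne
  set K' : Subgroup G := K.map (MulAut.conj d).toMonoidHom with hK'
  have hK'c : Cfsg.IsComponent K' := Cfsg.Agent.Lib.Helper10.isComponent_map_equiv (MulAut.conj d) hK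
  have hcomm : ⁅K, K'⁆ = ⊥ := Cfsg.Agent.Lib.helper17.component_commute_of_ne hK hK'c (Ne.symm hne)
  rw [Subgroup.commutator_eq_bot_iff_le_centralizer] at hcomm
  have hcom : ∀ k ∈ K, ∀ u ∈ K', Commute u k := by
    intro k hk u hu
    have := hcomm hk
    rw [Subgroup.mem_centralizer_iff] at this
    exact this u hu
  have hmemK' : ∀ k ∈ K, d * k * d⁻¹ ∈ K' := by
    intro k hk
    exact ⟨k, hk, rfl⟩
  obtain ⟨k, hk⟩ := exists_pow_six_not_mem_center hK.2
  apply hk
  -- the sixth power lies in `K'`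
  have hkK : (k : G) ∈ K := k.2
  set u : G := d * (k : G) * d⁻¹ with hu
  have huK' : u ∈ K' := hmemK' _ hkK
  have hy : d * ((k : G) * d * (k : G)⁻¹) = u * (k : G)⁻¹ := by
    rw [hu, tt_inv hD hd]; group
  have hy6 : (d * ((k : G) * d * (k : G)⁻¹)) ^ 6 = 1 := by
    rcases hD.2 d hd _ (hconj (k : G) d hd) with h | h
    · have : (6 : ℕ) = 2 * 3 := by norm_num
      rw [this, pow_mul, h, one_pow]
    · have : (6 : ℕ) = 3 * 2 := by norm_num
      rw [this, pow_mul, h, one_pow]
  rw [hy, ((hcom _ hkK u huK').inv_right).mul_pow, inv_pow] at hy6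
  have hu6 : u ^ 6 = (k : G) ^ 6 := by
    rw [mul_inv_eq_one] at hy6
    exact hy6
  have hk6K' : (k : G) ^ 6 ∈ K' := by
    rw [← hu6]
    exact K'.pow_mem huK' 6
  rw [Subgroup.mem_center_iff]
  intro g
  apply Subtype.ext
  show (g : G) * (k : G) ^ 6 = (k : G) ^ 6 * (g : G)
  exact ((hcom _ g.2 _ hk6K').eq).symm

/-- every component is normal -/
theorem component_normal (hD : IsThreeTranspositionSet D)
    (hconj : ∀ g : G, ∀ d ∈ D, g * d * g⁻¹ ∈ D) (hgen : Subgroup.closure D = ⊤)
    {K : Subgroup G} (hK : Cfsg.IsComponent K) : K.Normal := by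
  rw [← Subgroup.normalizer_eq_top_iff, eq_top_iff, ← hgen, Subgroup.closure_le]
  intro d hd
  have hmap := map_conj_component hD hconj hK hd
  rw [SetLike.mem_coe, Subgroup.mem_normalizer_iff]
  intro k
  constructor
  · intro hk
    rw [← hmap]
    exact ⟨k, hk, rfl⟩
  · intro hk
    rw [← hmap] at hk
    obtain ⟨k', hk', hkk⟩ := hk
    have : k' = k := by
      have h1 : d * k' * d⁻¹ = d * k * d⁻¹ := hkk
      have h2 : d * k' = d * k := mul_right_cancel h1
      exact mul_left_cancel h2
    rw [← this]; exact hk'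

omit [Finite G] in
/-- a component is not central -/
theorem component_not_le_center {K : Subgroup G} (hK : Cfsg.IsComponent K) :
    ¬ K ≤ Subgroup.center G := by
  have hsolv : Group.IsSolvable (Subgroup.center G) := by
    apply Group.isSolvable_of_comm
    intro a b
    apply Subtype.ext
    have := a.2
    rw [Subgroup.mem_center_iff] at this
    exact (this b.1).symm
  exact Cfsg.Agent.Lib.Helper10.isComponent_not_le_of_isSolvable hK hsolv

/-- there is at most one component -/
theorem component_unique (hD : IsThreeTranspositionSet D)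
    (hconj : ∀ g : G, ∀ d ∈ D, g * d * g⁻¹ ∈ D) (hgen : Subgroup.closure D = ⊤)
    (hall : ∀ a ∈ D, ∀ b ∈ D, ∃ g : G, g * a * g⁻¹ = b) {K₁ K₂ : Subgroup G}
    (h₁ : Cfsg.IsComponent K₁) (h₂ : Cfsg.IsComponent K₂) : K₁ = K₂ := by
  by_contra hne
  have hn₁ := component_normal hD hconj hgen h₁
  have hn₂ := component_normal hD hconj hgen h₂
  have hcomm : ⁅K₁, K₂⁆ = ⊥ := Cfsg.Agent.Lib.helper17.component_commute_of_ne h₁ h₂ hne
  rw [Subgroup.commutator_eq_bot_iff_le_centralizer] at hcomm
  have hAB : ∀ a ∈ K₁, ∀ b ∈ K₂, Commute a b := by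
    intro a ha b hb
    have := hcomm ha
    rw [Subgroup.mem_centralizer_iff] at this
    exact (this b hb).symm
  have hperf : ⁅K₁, K₁⁆ = K₁ := Cfsg.Agent.Lib.Helper10.isComponent_commutator_self h₁
  have hbot := TTFitting2.perfect_eq_bot_of_commuting hD hconj hgen hall hn₁ hn₂ hAB hperf
    (component_not_le_center h₂)
  have hsolv : Group.IsSolvable (⊥ : Subgroup G) := inferInstance
  apply Cfsg.Agent.Lib.Helper10.isComponent_not_le_of_isSolvable h₁ hsolv
  rw [hbot]

/-- the layer is the unique component -/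
theorem layer_eq_component (hD : IsThreeTranspositionSet D)
    (hconj : ∀ g : G, ∀ d ∈ D, g * d * g⁻¹ ∈ D) (hgen : Subgroup.closure D = ⊤)
    (hall : ∀ a ∈ D, ∀ b ∈ D, ∃ g : G, g * a * g⁻¹ = b) {K : Subgroup G}
    (hK : Cfsg.IsComponent K) : Cfsg.layer G = K := by
  apply le_antisymm
  · unfold Cfsg.layer
    apply sSup_le
    intro K' hK'
    rw [component_unique hD hconj hgen hall hK' hK]
  · exact Cfsg.Agent.Lib.Helper10.component_le_layer hK

end Comp

end Cfsg.Agent.Lib.Helper27.TTComp
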