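import Cfsg.Agent.Lib.Helper27.Width1
import Cfsg.Agent.Lib.Helper27.TTrans
import Cfsg.Agent.Lib.Helper27.PCoreOf
import Cfsg.Agent.Lib.Helper1.Fitting
import Cfsg.Agent.Lib.Helper9.GenFitting2
import Cfsg.Agent.Lib.Helper10.Components
import Cfsg.Agent.Lib.Helper12.Local
import Cfsg.Agent.Lib.Helper13.FStarQuot

/-!
The Fitting subgroup and the layer of a group generated by a class of 3-transpositions (helper27):
the largest normal `p`-subgroups for `p > 3` are central, and if the largest normal 2-subgroup or the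
largest normal 3-subgroup is not central then there is no component.
-/

set_option autoImplicit false

namespace Cfsg.Agent.Lib.Helper27.TTFitting

open Cfsg Cfsg.Agent.Lib.Helper27

section Basic

variable {G : Type*} [Group G]

/-- a subgroup centralizing a generating set is central -/
theorem le_center_of_commute_gen {D : Set G} (hgen : Subgroup.closure D = ⊤) {N : Subgroup G}
    (h : ∀ n ∈ N, ∀ d ∈ D, Commute n d) : N ≤ Subgroup.center G := by
  intro n hn
  rw [Subgroup.mem_center_iff]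
  have hle : (⊤ : Subgroup G) ≤ Subgroup.centralizer {n} := by
    rw [← hgen, Subgroup.closure_le]
    intro d hd
    rw [SetLike.mem_coe, Subgroup.mem_centralizer_iff]
    intro y hy
    rw [Set.mem_singleton_iff] at hy
    rw [hy]
    exact (h n hn d hd).eq
  intro g
  have hg : g ∈ Subgroup.centralizer {n} := hle (Subgroup.mem_top g)
  rw [Subgroup.mem_centralizer_iff] at hg
  exact (hg n rfl).symm

/-- the largest normal `p`-subgroup is central for `p > 3` -/
theorem pCore_le_center_of_gt_three [Finite G] {D : Set G} (hD : IsThreeTranspositionSet D)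
    (hconj : ∀ g : G, ∀ d ∈ D, g * d * g⁻¹ ∈ D) (hgen : Subgroup.closure D = ⊤) {p : ℕ}
    (hp : p.Prime) (h3 : 3 < p) : Cfsg.pCore p G ≤ Subgroup.center G := by
  have : Fact p.Prime := ⟨hp⟩
  have hNn : (Cfsg.pCore p G).Normal := Helper1.pCore_normal p
  have hNp : IsPGroup p (Cfsg.pCore p G) := Helper1.pCore_isPGroup p
  apply le_center_of_commute_gen hgen
  intro n hn d hd
  set x : G := d * (n * d * n⁻¹) with hx
  have hxN : x ∈ Cfsg.pCore p G := by
    have e : x = (d * n * d⁻¹) * n⁻¹ := by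
      rw [hx, tt_inv hD hd]; group
    rw [e]
    exact (Cfsg.pCore p G).mul_mem (hNn.conj_mem n hn d) ((Cfsg.pCore p G).inv_mem hn)
  obtain ⟨k, hk⟩ := hNp ⟨x, hxN⟩
  have hk' : x ^ p ^ k = 1 := by
    have := congrArg Subtype.val hk
    simpa using this
  have h1 : orderOf x ∣ p ^ k := orderOf_dvd_of_pow_eq_one hk'
  have h2 : orderOf x ∣ 6 := by
    rcases hD.2 d hd _ (hconj n d hd) with h | h
    · exact dvd_trans (orderOf_dvd_of_pow_eq_one h) (by norm_num)
    · exact dvd_trans (orderOf_dvd_of_pow_eq_one h) (by norm_num)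
  have hcop : Nat.Coprime (p ^ k) 6 := by
    apply Nat.Coprime.pow_left
    have h6 : (6 : ℕ) = 2 * 3 := by norm_num
    rw [h6]
    apply Nat.Coprime.mul_right
    · rw [Nat.coprime_primes hp Nat.prime_two]; omega
    · rw [Nat.coprime_primes hp Nat.prime_three]; omega
  have h3' := Nat.dvd_gcd h1 h2
  rw [hcop] at h3'
  have hx1 : x = 1 := orderOf_eq_one_iff.mp (Nat.dvd_one.mp h3')
  -- so `n * d * n⁻¹ = d`
  have h4 : n * d * n⁻¹ = d := by
    have : d * (n * d * n⁻¹) = d * d := by rw [← hx, hx1, tt_sq hD hd]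
    exact mul_left_cancel this
  show n * d = d * n
  calc n * d = n * d * n⁻¹ * n := by group
    _ = d * n := by rw [h4]

/-- in a class, a non-central normal subgroup moves every member -/
theorem exists_conj_ne_of_not_le_center {D : Set G} (hgen : Subgroup.closure D = ⊤)
    (hall : ∀ a ∈ D, ∀ b ∈ D, ∃ g : G, g * a * g⁻¹ = b) {N : Subgroup G} (hNn : N.Normal)
    (hN : ¬ N ≤ Subgroup.center G) {d : G} (hd : d ∈ D) : ∃ n ∈ N, n * d * n⁻¹ ≠ d := by
  by_contra hcon
  push Not at hcon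
  apply hN
  apply le_center_of_commute_gen hgen
  intro n hn a ha
  obtain ⟨g, rfl⟩ := hall d hd a ha
  have h1 := hcon (g⁻¹ * n * g⁻¹⁻¹) (hNn.conj_mem n hn g⁻¹)
  show n * (g * d * g⁻¹) = g * d * g⁻¹ * n
  have h2 : g⁻¹ * n * g⁻¹⁻¹ * d = d * (g⁻¹ * n * g⁻¹⁻¹) := by
    calc g⁻¹ * n * g⁻¹⁻¹ * d = g⁻¹ * n * g⁻¹⁻¹ * d * (g⁻¹ * n * g⁻¹⁻¹)⁻¹ * (g⁻¹ * n * g⁻¹⁻¹) := by
          group
      _ = d * (g⁻¹ * n * g⁻¹⁻¹) := by rw [h1]
  calc n * (g * d * g⁻¹) = g * (g⁻¹ * n * g⁻¹⁻¹ * d) * g⁻¹ := by group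
    _ = g * (d * (g⁻¹ * n * g⁻¹⁻¹)) * g⁻¹ := by rw [h2]
    _ = g * d * g⁻¹ * n := by group

/-- pairwise commuting elements of order dividing `p` generate a `p`-group -/
theorem isPGroup_closure_of_commute {p : ℕ} {S : Set G}
    (hcomm : ∀ x ∈ S, ∀ y ∈ S, Commute x y) (hpow : ∀ x ∈ S, x ^ p = 1) :
    IsPGroup p (Subgroup.closure S) := by
  have hc : ∀ g h : G, g ∈ Subgroup.closure S → h ∈ Subgroup.closure S → Commute g h := by
    intro g h hg hh
    refine Subgroup.closure_induction₂ (p := fun g h _ _ => Commute g h) ?_ ?_ ?_ ?_ ?_ ?_ ?_ hg hh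
    · intro g h hg hh
      exact hcomm g hg h hh
    · intro g _; exact Commute.one_left g
    · intro g _; exact Commute.one_right g
    · intro g h k _ _ _ h1 h2; exact h1.mul_left h2
    · intro g h k _ _ _ h1 h2; exact h1.mul_right h2
    · intro g h _ _ h1; exact h1.inv_left
    · intro g h _ _ h1; exact h1.inv_right
  have hcube : ∀ g : G, g ∈ Subgroup.closure S → g ^ p = 1 := by
    intro g hg
    refine Subgroup.closure_induction (p := fun g _ => g ^ p = 1) ?_ ?_ ?_ ?_ hg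
    · intro g hg
      exact hpow g hg
    · exact one_pow p
    · intro g h hg hh h1 h2
      rw [(hc g h hg hh).mul_pow, h1, h2, one_mul]
    · intro g _ h1
      rw [inv_pow, h1, inv_one]
  intro g
  refine ⟨1, ?_⟩
  apply Subtype.ext
  rw [pow_one]
  exact hcube g g.2

end Basic

section Cube

variable {G : Type*} [Group G] [Finite G] {D : Set G}

/-- products of two members of a cube class lie in the largest normal 3-subgroup -/
theorem mul_mem_pCore_of_cubeClass (hD : W1.CubeClass D) {a b : G} (ha : a ∈ D) (hb : b ∈ D) :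
    a * b ∈ Cfsg.pCore 3 G := by
  classical
  have : Fact (Nat.Prime 3) := ⟨Nat.prime_three⟩
  let I : Set G := {x | ∃ e ∈ D, ∃ f ∈ D, x = e * f}
  have hIconj : ∀ x ∈ I, ∀ g : G, g * x * g⁻¹ ∈ I := by
    rintro x ⟨e, he, f, hf, rfl⟩ g
    refine ⟨g * e * g⁻¹, hD.conj g e he, g * f * g⁻¹, hD.conj g f hf, ?_⟩
    group
  have hpair : ∀ x ∈ I, ∀ y ∈ I, ∃ R : Sylow 3 G, x ∈ (R : Subgroup G) ∧ y ∈ (R : Subgroup G) := by
    rintro x ⟨e, he, f, hf, rfl⟩ y ⟨e', he', f', hf', rfl⟩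
    exact W1.exists_sylow_pair hD he hf he' hf'
  set T : Subgroup G := Subgroup.closure I with hT
  have hTnorm : T.Normal := by
    constructor
    intro n hn g
    refine Subgroup.closure_induction (p := fun n _ => g * n * g⁻¹ ∈ T) ?_ ?_ ?_ ?_ hn
    · intro x hx
      exact Subgroup.subset_closure (hIconj x hx g)
    · rw [mul_one, mul_inv_cancel]; exact T.one_mem
    · intro a b _ _ ha hb
      have : g * (a * b) * g⁻¹ = (g * a * g⁻¹) * (g * b * g⁻¹) := by group
      rw [this]; exact T.mul_mem ha hb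
    · intro a _ ha
      have : g * a⁻¹ * g⁻¹ = (g * a * g⁻¹)⁻¹ := by group
      rw [this]; exact T.inv_mem ha
  have hTp : IsPGroup 3 T := by
    obtain P : Sylow 3 G := default
    have hIP := Cfsg.Agent.Lib.Helper22.baer_suzuki 3 I hIconj hpair P
    have hTP : T ≤ (P : Subgroup G) := by
      rw [hT, Subgroup.closure_le]; exact hIP
    exact P.isPGroup'.to_le hTP
  have hTle : T ≤ Cfsg.pCore 3 G := Cfsg.Agent.Lib.Helper1.le_pCore hTnorm hTp
  exact hTle (Subgroup.subset_closure ⟨a, ha, b, hb, rfl⟩)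

end Cube

section Layer

variable {G : Type*} [Group G] [Finite G] {D : Set G}

/-- if for every `d ∈ D` the commutators of `d` with the layer generate a `p`-group, there is no
component -/
theorem layer_eq_bot_of_comm_isPGroup (hgen : Subgroup.closure D = ⊤) {p : ℕ} [Fact p.Prime]
    (hinv : ∀ d ∈ D, d⁻¹ = d)
    (hS : ∀ d ∈ D, IsPGroup p
      (Subgroup.closure {y : G | ∃ l ∈ Cfsg.layer G, y = d * (l * d * l⁻¹)})) :
    Cfsg.layer G = ⊥ := by
  classical
  set E : Subgroup G := Cfsg.layer G with hE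
  have hEc : E.Characteristic := Cfsg.Agent.Lib.Helper12.layer_characteristic G
  have hEn : E.Normal := inferInstance
  set R : Subgroup G := (Cfsg.pCore p ↥E).map E.subtype with hR
  have hRE : R ≤ E := pCoreMap_le p E
  have hRp : IsPGroup p R := pCoreMap_isPGroup p E
  -- `R` is normal
  have hRn : R.Normal := by
    constructor
    intro r hr g
    set K : Subgroup G := R.map (MulAut.conj g).toMonoidHom with hK
    have hmemK : ∀ x : G, x ∈ K ↔ ∃ r ∈ R, g * r * g⁻¹ = x := by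
      intro x
      rw [hK, Subgroup.mem_map]
      rfl
    have hKle : K ≤ R := by
      refine le_pCoreMap ?_ ?_ ?_
      · intro x hx
        obtain ⟨r, hr, rfl⟩ := (hmemK x).mp hx
        exact hEn.conj_mem r (hRE hr) g
      · intro a ha k hk
        obtain ⟨r, hr, rfl⟩ := (hmemK k).mp hk
        rw [hmemK]
        refine ⟨(g⁻¹ * a * g⁻¹⁻¹) * r * (g⁻¹ * a * g⁻¹⁻¹)⁻¹, ?_, ?_⟩
        · exact pCoreMap_conj_mem p E (hEn.conj_mem a ha g⁻¹) hr
        · group
      · exact hRp.map _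
    exact hKle ((hmemK _).mpr ⟨r, hr, rfl⟩)
  have hsq : ∀ d ∈ D, d * d = 1 := by
    intro d hd
    have := mul_inv_cancel d
    rwa [hinv d hd] at this
  -- the commutators with `d` lie in `R`
  have hSR : ∀ d ∈ D, ∀ l ∈ E, d * (l * d * l⁻¹) ∈ R := by
    intro d hd l hl
    set S : Subgroup G := Subgroup.closure {y : G | ∃ l ∈ E, y = d * (l * d * l⁻¹)} with hSdef
    have hSE : S ≤ E := by
      rw [hSdef, Subgroup.closure_le]
      rintro y ⟨l, hl, rfl⟩
      have e : d * (l * d * l⁻¹) = (d * l * d⁻¹) * l⁻¹ := by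
        rw [hinv d hd]; group
      rw [e]
      exact E.mul_mem (hEn.conj_mem l hl d) (E.inv_mem hl)
    have hSn : ∀ a ∈ E, ∀ k ∈ S, a * k * a⁻¹ ∈ S := by
      intro a ha k hk
      refine Subgroup.closure_induction (p := fun k _ => a * k * a⁻¹ ∈ S) ?_ ?_ ?_ ?_ hk
      · rintro y ⟨l, hl, rfl⟩
        have key : a * (d * (l * d * l⁻¹)) * a⁻¹ =
            (d * (a * d * a⁻¹))⁻¹ * (d * ((a * l) * d * (a * l)⁻¹)) := by
          have h1 : (d * (a * d * a⁻¹))⁻¹ = a * d * a⁻¹ * d := by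
            rw [mul_inv_rev, mul_inv_rev, mul_inv_rev, inv_inv, hinv d hd]
            group
          rw [h1]
          calc a * (d * (l * d * l⁻¹)) * a⁻¹
              = a * d * a⁻¹ * 1 * (a * l * d * (a * l)⁻¹) := by group
            _ = a * d * a⁻¹ * (d * d) * (a * l * d * (a * l)⁻¹) := by rw [hsq d hd]
            _ = a * d * a⁻¹ * d * (d * (a * l * d * (a * l)⁻¹)) := by group
        rw [key]
        apply S.mul_mem
        · exact S.inv_mem (Subgroup.subset_closure ⟨a, ha, rfl⟩)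
        · exact Subgroup.subset_closure ⟨a * l, E.mul_mem ha hl, rfl⟩
      · rw [mul_one, mul_inv_cancel]; exact S.one_mem
      · intro x y _ _ hx hy
        have : a * (x * y) * a⁻¹ = (a * x * a⁻¹) * (a * y * a⁻¹) := by group
        rw [this]; exact S.mul_mem hx hy
      · intro x _ hx
        have : a * x⁻¹ * a⁻¹ = (a * x * a⁻¹)⁻¹ := by group
        rw [this]; exact S.inv_mem hx
    have hSleR : S ≤ R := le_pCoreMap hSE hSn (hS d hd)
    exact hSleR (Subgroup.subset_closure ⟨l, hl, rfl⟩)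
  -- every element of the group acts trivially on `E` modulo `R`
  have hall : ∀ g : G, ∀ l ∈ E, g * l * g⁻¹ * l⁻¹ ∈ R := by
    intro g
    have hg : g ∈ Subgroup.closure D := by rw [hgen]; exact Subgroup.mem_top g
    refine Subgroup.closure_induction (p := fun g _ => ∀ l ∈ E, g * l * g⁻¹ * l⁻¹ ∈ R)
      ?_ ?_ ?_ ?_ hg
    · intro d hd l hl
      have e : d * l * d⁻¹ * l⁻¹ = d * (l * d * l⁻¹) := by
        rw [hinv d hd]; group
      rw [e]
      exact hSR d hd l hl
    · intro l _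
      have : (1 : G) * l * 1⁻¹ * l⁻¹ = 1 := by group
      rw [this]; exact R.one_mem
    · intro x y _ _ hx hy l hl
      have e : x * y * l * (x * y)⁻¹ * l⁻¹ =
          (x * (y * l * y⁻¹ * l⁻¹) * x⁻¹) * (x * l * x⁻¹ * l⁻¹) := by group
      rw [e]
      exact R.mul_mem (hRn.conj_mem _ (hy l hl) x) (hx l hl)
    · intro x _ hx l hl
      have e : x⁻¹ * l * x⁻¹⁻¹ * l⁻¹ = x⁻¹ * (x * l * x⁻¹ * l⁻¹)⁻¹ * x⁻¹⁻¹ := by group
      rw [e]
      exact hRn.conj_mem _ (R.inv_mem (hx l hl)) x⁻¹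
  -- so `E` is a perfect `p`-group
  have hcomm : ⁅E, E⁆ ≤ R := by
    rw [Subgroup.commutator_le]
    intro g₁ _ g₂ h₂
    rw [commutatorElement_def]
    exact hall g₁ g₂ h₂
  have hperf : ⁅E, E⁆ = E := Cfsg.Agent.Lib.Helper10.layer_commutator_self
  have hER : E ≤ R := by
    rw [hperf] at hcomm
    exact hcomm
  have hEp : IsPGroup p E := hRp.to_le hER
  have hEsolv : Group.IsSolvable E := by
    have : Group.IsNilpotent E := hEp.isNilpotent
    infer_instance
  exact Cfsg.Agent.Lib.Helper13.perfect_eq_bot_of_isSolvable E hEsolv hperf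

/-- the layer commutes with the largest normal `p`-subgroup -/
theorem commute_layer_pCore {p : ℕ} [Fact p.Prime] {l x : G} (hl : l ∈ Cfsg.layer G)
    (hx : x ∈ Cfsg.pCore p G) : Commute l x := by
  have h1 : ⁅Cfsg.layer G, Cfsg.fittingSubgroup G⁆ = ⊥ :=
    Cfsg.Agent.Lib.Helper10.commutator_layer_fitting
  rw [Subgroup.commutator_eq_bot_iff_le_centralizer] at h1
  have h2 := h1 hl
  rw [Subgroup.mem_centralizer_iff] at h2
  exact (h2 x (Cfsg.Agent.Lib.Helper1.pCore_le_fittingSubgroup p hx)).symm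

end Layer

section Cases

variable {G : Type*} [Group G] [Finite G] {D : Set G}

omit [Finite G] in
/-- an element of `p`-power order and of order dividing `q` for a different prime `q` is trivial -/
theorem eq_one_of_mem_pGroup_of_pow {p q : ℕ} [Fact p.Prime] (hq : q.Prime) (hpq : p ≠ q)
    {N : Subgroup G} (hN : IsPGroup p N) {x : G} (hx : x ∈ N) (hxq : x ^ q = 1) : x = 1 := by
  obtain ⟨k, hk⟩ := hN ⟨x, hx⟩
  have hk' : x ^ p ^ k = 1 := by
    have := congrArg Subtype.val hk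
    simpa using this
  have h1 : orderOf x ∣ p ^ k := orderOf_dvd_of_pow_eq_one hk'
  have h2 : orderOf x ∣ q := orderOf_dvd_of_pow_eq_one hxq
  have hcop : Nat.Coprime (p ^ k) q :=
    Nat.Coprime.pow_left k ((Nat.coprime_primes (Fact.out) hq).mpr hpq)
  have := Nat.dvd_gcd h1 h2
  rw [hcop] at this
  exact orderOf_eq_one_iff.mp (Nat.dvd_one.mp this)

/-- the configuration: `d`, a conjugate `w ≠ d` under the largest normal `p`-subgroup, and a conjugate
`e` under the layer -/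
theorem config {p : ℕ} [Fact p.Prime] (hD : IsThreeTranspositionSet D)
    (hconj : ∀ g : G, ∀ d ∈ D, g * d * g⁻¹ ∈ D) {d n l : G} (hd : d ∈ D)
    (hn : n ∈ Cfsg.pCore p G) (hnd : n * d * n⁻¹ ≠ d) (hl : l ∈ Cfsg.layer G) :
    ∃ x y : G, x ∈ Cfsg.pCore p G ∧ x ≠ 1 ∧ y = d * (l * d * l⁻¹) ∧ Commute y x ∧
      (x ^ 2 = 1 ∨ x ^ 3 = 1) ∧ (y ^ 2 = 1 ∨ y ^ 3 = 1) ∧
      ((y⁻¹ * x) ^ 2 = 1 ∨ (y⁻¹ * x) ^ 3 = 1) := by
  have hNn : (Cfsg.pCore p G).Normal := Helper1.pCore_normal p
  have hEc : (Cfsg.layer G).Characteristic := Cfsg.Agent.Lib.Helper12.layer_characteristic G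
  have hEn : (Cfsg.layer G).Normal := inferInstance
  set w : G := n * d * n⁻¹ with hw
  have hwD : w ∈ D := hconj n d hd
  set e : G := l * d * l⁻¹ with he
  have heD : e ∈ D := hconj l d hd
  refine ⟨d * w, d * e, ?_, ?_, rfl, ?_, hD.2 d hd w hwD, hD.2 d hd e heD, ?_⟩
  · have e1 : d * w = (d * n * d⁻¹) * n⁻¹ := by
      rw [hw, tt_inv hD hd]; group
    rw [e1]
    exact (Cfsg.pCore p G).mul_mem (hNn.conj_mem n hn d) ((Cfsg.pCore p G).inv_mem hn)
  · intro h
    apply hnd
    have : w = d⁻¹ := (eq_inv_of_mul_eq_one_right h)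
    rw [this, tt_inv hD hd]
  · have hyE : d * e ∈ Cfsg.layer G := by
      have e1 : d * e = (d * l * d⁻¹) * l⁻¹ := by
        rw [he, tt_inv hD hd]; group
      rw [e1]
      exact (Cfsg.layer G).mul_mem (hEn.conj_mem l hl d) ((Cfsg.layer G).inv_mem hl)
    have hxN : d * w ∈ Cfsg.pCore p G := by
      have e1 : d * w = (d * n * d⁻¹) * n⁻¹ := by
        rw [hw, tt_inv hD hd]; group
      rw [e1]
      exact (Cfsg.pCore p G).mul_mem (hNn.conj_mem n hn d) ((Cfsg.pCore p G).inv_mem hn)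
    exact commute_layer_pCore hyE hxN
  · have e1 : (d * e)⁻¹ * (d * w) = e * w := by
      rw [mul_inv_rev, tt_inv hD hd, tt_inv hD heD]
      calc e * d * (d * w) = e * (d * d) * w := by group
        _ = e * w := by rw [tt_sq hD hd, mul_one]
    rw [e1]
    exact hD.2 e heD w hwD

/-- if the largest normal 2-subgroup moves every member then the commutators with the layer have
order at most 2 -/
theorem comm_sq_of_two (hD : IsThreeTranspositionSet D)
    (hconj : ∀ g : G, ∀ d ∈ D, g * d * g⁻¹ ∈ D)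
    (hmove : ∀ d ∈ D, ∃ n ∈ Cfsg.pCore 2 G, n * d * n⁻¹ ≠ d) {d l : G} (hd : d ∈ D)
    (hl : l ∈ Cfsg.layer G) : (d * (l * d * l⁻¹)) ^ 2 = 1 := by
  have : Fact (Nat.Prime 2) := ⟨Nat.prime_two⟩
  obtain ⟨n, hn, hnd⟩ := hmove d hd
  obtain ⟨x, y, hxN, hx1, hy, hc, hx23, hy23, hyx⟩ := config hD hconj hd hn hnd hl
  have hNp : IsPGroup 2 (Cfsg.pCore 2 G) := Helper1.pCore_isPGroup 2
  have hx2 : x ^ 2 = 1 := by
    rcases hx23 with h | h
    · exact h
    · exact absurd (eq_one_of_mem_pGroup_of_pow Nat.prime_three (by norm_num) hNp hxN h) hx1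
  rw [← hy]
  rcases hy23 with h | h
  · exact h
  · have hc' : Commute y⁻¹ x := hc.inv_left
    rcases hyx with h2 | h3
    · rw [hc'.mul_pow, hx2, mul_one, inv_pow, inv_eq_one] at h2
      exact h2
    · exfalso
      rw [hc'.mul_pow, inv_pow, h, inv_one, one_mul] at h3
      apply hx1
      calc x = x ^ 3 * (x ^ 2)⁻¹ := by group
        _ = 1 := by rw [h3, hx2, inv_one, mul_one]

/-- if the largest normal 3-subgroup moves every member then the commutators with the layer have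
order dividing 3 -/
theorem comm_cube_of_three (hD : IsThreeTranspositionSet D)
    (hconj : ∀ g : G, ∀ d ∈ D, g * d * g⁻¹ ∈ D)
    (hmove : ∀ d ∈ D, ∃ n ∈ Cfsg.pCore 3 G, n * d * n⁻¹ ≠ d) {d l : G} (hd : d ∈ D)
    (hl : l ∈ Cfsg.layer G) : (d * (l * d * l⁻¹)) ^ 3 = 1 := by
  have : Fact (Nat.Prime 3) := ⟨Nat.prime_three⟩
  obtain ⟨n, hn, hnd⟩ := hmove d hd
  obtain ⟨x, y, hxN, hx1, hy, hc, hx23, hy23, hyx⟩ := config hD hconj hd hn hnd hl
  have hNp : IsPGroup 3 (Cfsg.pCore 3 G) := Helper1.pCore_isPGroup 3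
  have hx3 : x ^ 3 = 1 := by
    rcases hx23 with h | h
    · exact absurd (eq_one_of_mem_pGroup_of_pow Nat.prime_two (by norm_num) hNp hxN h) hx1
    · exact h
  rw [← hy]
  rcases hy23 with h | h
  · have hc' : Commute y⁻¹ x := hc.inv_left
    rcases hyx with h2 | h3
    · exfalso
      rw [hc'.mul_pow, inv_pow, h, inv_one, one_mul] at h2
      apply hx1
      calc x = x ^ 3 * (x ^ 2)⁻¹ := by group
        _ = 1 := by rw [hx3, h2, inv_one, mul_one]
    · rw [hc'.mul_pow, hx3, mul_one, inv_pow, inv_eq_one] at h3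
      exact h3
  · exact h

/-- **No component, case 2.** -/
theorem layer_eq_bot_of_two (hD : IsThreeTranspositionSet D)
    (hconj : ∀ g : G, ∀ d ∈ D, g * d * g⁻¹ ∈ D) (hgen : Subgroup.closure D = ⊤)
    (hmove : ∀ d ∈ D, ∃ n ∈ Cfsg.pCore 2 G, n * d * n⁻¹ ≠ d) : Cfsg.layer G = ⊥ := by
  have : Fact (Nat.Prime 2) := ⟨Nat.prime_two⟩
  refine layer_eq_bot_of_comm_isPGroup (p := 2) hgen (fun d hd => tt_inv hD hd) ?_
  intro d hd
  set S' : Set G := {y : G | ∃ l ∈ Cfsg.layer G, y = l * d * l⁻¹} with hS'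
  have hS'D : ∀ y ∈ S', y ∈ D := by
    rintro y ⟨l, -, rfl⟩
    exact hconj l d hd
  have hp : IsPGroup 2 (Subgroup.closure S') := by
    apply isPGroup_closure_of_commute
    · rintro a ⟨l, hl, rfl⟩ b ⟨m, hm, rfl⟩
      have e1 : m * d * m⁻¹ = l * ((l⁻¹ * m) * d * (l⁻¹ * m)⁻¹) * l⁻¹ := by group
      rw [e1, Commute.conj_iff]
      have hk : l⁻¹ * m ∈ Cfsg.layer G := (Cfsg.layer G).mul_mem ((Cfsg.layer G).inv_mem hl) hm
      have h2 := comm_sq_of_two hD hconj hmove hd hk
      set b : G := (l⁻¹ * m) * d * (l⁻¹ * m)⁻¹ with hb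
      have hbD : b ∈ D := hconj _ d hd
      have h3 : d * b = (d * b)⁻¹ := by
        rw [eq_inv_iff_mul_eq_one, ← pow_two]; exact h2
      rw [mul_inv_rev, tt_inv hD hd, tt_inv hD hbD] at h3
      exact h3
    · intro a ha
      rw [pow_two]
      exact tt_sq hD (hS'D a ha)
  refine hp.to_le ?_
  rw [Subgroup.closure_le]
  rintro y ⟨l, hl, rfl⟩
  apply Subgroup.mul_mem
  · exact Subgroup.subset_closure ⟨1, (Cfsg.layer G).one_mem, by group⟩
  · exact Subgroup.subset_closure ⟨l, hl, rfl⟩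

/-- **No component, case 3.** -/
theorem layer_eq_bot_of_three (hD : IsThreeTranspositionSet D)
    (hconj : ∀ g : G, ∀ d ∈ D, g * d * g⁻¹ ∈ D) (hgen : Subgroup.closure D = ⊤)
    (hmove : ∀ d ∈ D, ∃ n ∈ Cfsg.pCore 3 G, n * d * n⁻¹ ≠ d) : Cfsg.layer G = ⊥ := by
  classical
  have : Fact (Nat.Prime 3) := ⟨Nat.prime_three⟩
  refine layer_eq_bot_of_comm_isPGroup (p := 3) hgen (fun d hd => tt_inv hD hd) ?_
  intro d hd
  set E : Subgroup G := Cfsg.layer G with hE
  have hEc : E.Characteristic := Cfsg.Agent.Lib.Helper12.layer_characteristic G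
  have hEn : E.Normal := inferInstance
  set H : Subgroup G := E ⊔ Subgroup.zpowers d with hH
  have hEH : E ≤ H := le_sup_left
  have hdH : d ∈ H := (le_sup_right : Subgroup.zpowers d ≤ H) (Subgroup.mem_zpowers d)
  -- the conjugates of `d` under `E`
  set S' : Set G := {y : G | ∃ l ∈ E, y = l * d * l⁻¹} with hS'
  have hS'H : ∀ y ∈ S', y ∈ H := by
    rintro y ⟨l, hl, rfl⟩
    exact H.mul_mem (H.mul_mem (hEH hl) hdH) (H.inv_mem (hEH hl))
  -- invariance under `H`
  let St : Subgroup G :=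
    { carrier := {g | ∀ y ∈ S', g * y * g⁻¹ ∈ S' ∧ g⁻¹ * y * g ∈ S'}
      one_mem' := by
        intro y hy
        simp only [one_mul, inv_one, mul_one]
        exact ⟨hy, hy⟩
      mul_mem' := by
        intro g h hg hh y hy
        constructor
        · have e1 : g * h * y * (g * h)⁻¹ = g * (h * y * h⁻¹) * g⁻¹ := by group
          rw [e1]
          exact (hg _ (hh y hy).1).1
        · have e1 : (g * h)⁻¹ * y * (g * h) = h⁻¹ * (g⁻¹ * y * g) * h := by group
          rw [e1]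
          exact (hh _ (hg y hy).2).2
      inv_mem' := by
        intro g hg y hy
        rw [inv_inv]
        exact ⟨(hg y hy).2, (hg y hy).1⟩ }
  have hESt : E ≤ St := by
    intro g hg y hy
    obtain ⟨l, hl, rfl⟩ := hy
    constructor
    · exact ⟨g * l, E.mul_mem hg hl, by group⟩
    · exact ⟨g⁻¹ * l, E.mul_mem (E.inv_mem hg) hl, by group⟩
  have hdSt : d ∈ St := by
    intro y hy
    obtain ⟨l, hl, rfl⟩ := hy
    constructor
    · exact ⟨d * l * d⁻¹, hEn.conj_mem l hl d, by group⟩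
    · refine ⟨d⁻¹ * l * d⁻¹⁻¹, hEn.conj_mem l hl d⁻¹, by group⟩
  have hHSt : H ≤ St := sup_le hESt ((Subgroup.zpowers_le).mpr hdSt)
  let DH : Set H := {x | (x : G) ∈ S'}
  have hcube : ∀ a ∈ S', ∀ b ∈ S', (a * b) ^ 3 = 1 := by
    rintro a ⟨l, hl, rfl⟩ b ⟨m, hm, rfl⟩
    have hk : l⁻¹ * m ∈ Cfsg.layer G := E.mul_mem (E.inv_mem hl) hm
    have h3 := comm_cube_of_three hD hconj hmove hd hk
    have e1 : l * d * l⁻¹ * (m * d * m⁻¹) =
        l * (d * ((l⁻¹ * m) * d * (l⁻¹ * m)⁻¹)) * l⁻¹ := by group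
    rw [e1, conj_pow, h3, mul_one, mul_inv_cancel]
  have hDH : W1.CubeClass DH := by
    refine ⟨?_, ?_, ?_⟩
    · rintro x ⟨l, hl, hx⟩
      apply Subtype.ext
      show (x : G) * (x : G) = 1
      rw [hx]
      exact tt_sq hD (hconj l d hd)
    · intro g x hx
      exact (hHSt g.2 _ hx).1
    · intro x hx y hy
      apply Subtype.ext
      exact hcube _ hx _ hy
  have hdS' : d ∈ S' := ⟨1, E.one_mem, by group⟩
  refine (pCoreMap_isPGroup 3 H).to_le ?_
  rw [Subgroup.closure_le]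
  rintro y ⟨l, hl, rfl⟩
  have hlS' : l * d * l⁻¹ ∈ S' := ⟨l, hl, rfl⟩
  have := mul_mem_pCore_of_cubeClass (G := H) hDH (a := ⟨d, hdH⟩)
    (b := ⟨l * d * l⁻¹, hS'H _ hlS'⟩) hdS' hlS'
  exact ⟨_, this, rfl⟩

end Cases

end Cfsg.Agent.Lib.Helper27.TTFitting
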