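import Cfsg.Agent.Lib.Helper27.TTFitting

/-!
Commuting normal subgroups of a group generated by a class of 3-transpositions (helper27): if `A`
and `B` are normal subgroups commuting elementwise, `A` is perfect and `B` is not central, then `A`
is trivial.
-/

set_option autoImplicit false

namespace Cfsg.Agent.Lib.Helper27.TTFitting2

open Cfsg Cfsg.Agent.Lib.Helper27 Cfsg.Agent.Lib.Helper27.TTFitting

section Perfect

variable {G : Type*} [Group G] [Finite G] {D : Set G}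

/-- if for every `d ∈ D` the commutators of `d` with the perfect normal subgroup `E` generate a
`p`-group, then `E` is trivial -/
theorem perfect_eq_bot_of_comm_isPGroup (hgen : Subgroup.closure D = ⊤) {p : ℕ} [Fact p.Prime]
    (hinv : ∀ d ∈ D, d⁻¹ = d) (E : Subgroup G) (hEn : E.Normal) (hperf : ⁅E, E⁆ = E)
    (hS : ∀ d ∈ D, IsPGroup p
      (Subgroup.closure {y : G | ∃ l ∈ E, y = d * (l * d * l⁻¹)})) :
    E = ⊥ := by
  classical
  set R : Subgroup G := (Cfsg.pCore p ↥E).map E.subtype with hR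
  have hRE : R ≤ E := pCoreMap_le p E
  have hRp : IsPGroup p R := pCoreMap_isPGroup p E
  have hRn : R.Normal := by
    constructor
    intro r hr g
    set K : Subgroup G := R.map (MulAut.conj g).toMonoidHom with hK
    have hmemK : ∀ x : G, x ∈ K ↔ ∃ r ∈ R, g * r * g⁻¹ = x := by
      intro x
      rw [hK, Subgroup.mem_map]
      rfl
    have hKle : K ≤ R := by
      refine le_pCoreMap ?_ ?_ ?_
      · intro x hx
        obtain ⟨r, hr, rfl⟩ := (hmemK x).mp hx
        exact hEn.conj_mem r (hRE hr) g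
      · intro a ha k hk
        obtain ⟨r, hr, rfl⟩ := (hmemK k).mp hk
        rw [hmemK]
        refine ⟨(g⁻¹ * a * g⁻¹⁻¹) * r * (g⁻¹ * a * g⁻¹⁻¹)⁻¹, ?_, ?_⟩
        · exact pCoreMap_conj_mem p E (hEn.conj_mem a ha g⁻¹) hr
        · group
      · exact hRp.map _
    exact hKle ((hmemK _).mpr ⟨r, hr, rfl⟩)
  have hsq : ∀ d ∈ D, d * d = 1 := by
    intro d hd
    have := mul_inv_cancel d
    rwa [hinv d hd] at this
  have hSR : ∀ d ∈ D, ∀ l ∈ E, d * (l * d * l⁻¹) ∈ R := by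
    intro d hd l hl
    set S : Subgroup G := Subgroup.closure {y : G | ∃ l ∈ E, y = d * (l * d * l⁻¹)} with hSdef
    have hSE : S ≤ E := by
      rw [hSdef, Subgroup.closure_le]
      rintro y ⟨l, hl, rfl⟩
      have e : d * (l * d * l⁻¹) = (d * l * d⁻¹) * l⁻¹ := by
        rw [hinv d hd]; group
      rw [e]
      exact E.mul_mem (hEn.conj_mem l hl d) (E.inv_mem hl)
    have hSn : ∀ a ∈ E, ∀ k ∈ S, a * k * a⁻¹ ∈ S := by
      intro a ha k hk
      refine Subgroup.closure_induction (p := fun k _ => a * k * a⁻¹ ∈ S) ?_ ?_ ?_ ?_ hk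
      · rintro y ⟨l, hl, rfl⟩
        have key : a * (d * (l * d * l⁻¹)) * a⁻¹ =
            (d * (a * d * a⁻¹))⁻¹ * (d * ((a * l) * d * (a * l)⁻¹)) := by
          have h1 : (d * (a * d * a⁻¹))⁻¹ = a * d * a⁻¹ * d := by
            rw [mul_inv_rev, mul_inv_rev, mul_inv_rev, inv_inv, hinv d hd]
            group
          rw [h1]
          calc a * (d * (l * d * l⁻¹)) * a⁻¹
              = a * d * a⁻¹ * 1 * (a * l * d * (a * l)⁻¹) := by group
            _ = a * d * a⁻¹ * (d * d) * (a * l * d * (a * l)⁻¹) := by rw [hsq d hd]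
            _ = a * d * a⁻¹ * d * (d * (a * l * d * (a * l)⁻¹)) := by group
        rw [key]
        apply S.mul_mem
        · exact S.inv_mem (Subgroup.subset_closure ⟨a, ha, rfl⟩)
        · exact Subgroup.subset_closure ⟨a * l, E.mul_mem ha hl, rfl⟩
      · rw [mul_one, mul_inv_cancel]; exact S.one_mem
      · intro x y _ _ hx hy
        have : a * (x * y) * a⁻¹ = (a * x * a⁻¹) * (a * y * a⁻¹) := by group
        rw [this]; exact S.mul_mem hx hy
      · intro x _ hx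
        have : a * x⁻¹ * a⁻¹ = (a * x * a⁻¹)⁻¹ := by group
        rw [this]; exact S.inv_mem hx
    have hSleR : S ≤ R := le_pCoreMap hSE hSn (hS d hd)
    exact hSleR (Subgroup.subset_closure ⟨l, hl, rfl⟩)
  have hall : ∀ g : G, ∀ l ∈ E, g * l * g⁻¹ * l⁻¹ ∈ R := by
    intro g
    have hg : g ∈ Subgroup.closure D := by rw [hgen]; exact Subgroup.mem_top g
    refine Subgroup.closure_induction (p := fun g _ => ∀ l ∈ E, g * l * g⁻¹ * l⁻¹ ∈ R)
      ?_ ?_ ?_ ?_ hg
    · intro d hd l hl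
      have e : d * l * d⁻¹ * l⁻¹ = d * (l * d * l⁻¹) := by
        rw [hinv d hd]; group
      rw [e]
      exact hSR d hd l hl
    · intro l _
      have : (1 : G) * l * 1⁻¹ * l⁻¹ = 1 := by group
      rw [this]; exact R.one_mem
    · intro x y _ _ hx hy l hl
      have e : x * y * l * (x * y)⁻¹ * l⁻¹ =
          (x * (y * l * y⁻¹ * l⁻¹) * x⁻¹) * (x * l * x⁻¹ * l⁻¹) := by group
      rw [e]
      exact R.mul_mem (hRn.conj_mem _ (hy l hl) x) (hx l hl)
    · intro x _ hx l hl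
      have e : x⁻¹ * l * x⁻¹⁻¹ * l⁻¹ = x⁻¹ * (x * l * x⁻¹ * l⁻¹)⁻¹ * x⁻¹⁻¹ := by group
      rw [e]
      exact hRn.conj_mem _ (R.inv_mem (hx l hl)) x⁻¹
  have hcomm : ⁅E, E⁆ ≤ R := by
    rw [Subgroup.commutator_le]
    intro g₁ _ g₂ h₂
    rw [commutatorElement_def]
    exact hall g₁ g₂ h₂
  have hER : E ≤ R := by
    rw [hperf] at hcomm
    exact hcomm
  have hEp : IsPGroup p E := hRp.to_le hER
  have hEsolv : Group.IsSolvable E := by
    have : Group.IsNilpotent E := hEp.isNilpotent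
    infer_instance
  exact Cfsg.Agent.Lib.Helper13.perfect_eq_bot_of_isSolvable E hEsolv hperf

omit [Finite G] in
/-- the configuration for two commuting normal subgroups -/
theorem config' (hD : IsThreeTranspositionSet D)
    (hconj : ∀ g : G, ∀ d ∈ D, g * d * g⁻¹ ∈ D) {A B : Subgroup G} (hAn : A.Normal)
    (hBn : B.Normal) (hAB : ∀ a ∈ A, ∀ b ∈ B, Commute a b) {d n l : G} (hd : d ∈ D)
    (hn : n ∈ B) (hl : l ∈ A) :
    Commute (d * (l * d * l⁻¹)) (d * (n * d * n⁻¹)) ∧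
      (((d * (l * d * l⁻¹))⁻¹ * (d * (n * d * n⁻¹))) ^ 2 = 1 ∨
        ((d * (l * d * l⁻¹))⁻¹ * (d * (n * d * n⁻¹))) ^ 3 = 1) := by
  set w : G := n * d * n⁻¹ with hw
  have hwD : w ∈ D := hconj n d hd
  set e : G := l * d * l⁻¹ with he
  have heD : e ∈ D := hconj l d hd
  constructor
  · have hyA : d * e ∈ A := by
      have e1 : d * e = (d * l * d⁻¹) * l⁻¹ := by
        rw [he, tt_inv hD hd]; group
      rw [e1]
      exact A.mul_mem (hAn.conj_mem l hl d) (A.inv_mem hl)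
    have hxB : d * w ∈ B := by
      have e1 : d * w = (d * n * d⁻¹) * n⁻¹ := by
        rw [hw, tt_inv hD hd]; group
      rw [e1]
      exact B.mul_mem (hBn.conj_mem n hn d) (B.inv_mem hn)
    exact hAB _ hyA _ hxB
  · have e1 : (d * e)⁻¹ * (d * w) = e * w := by
      rw [mul_inv_rev, tt_inv hD hd, tt_inv hD heD]
      calc e * d * (d * w) = e * (d * d) * w := by group
        _ = e * w := by rw [tt_sq hD hd, mul_one]
    rw [e1]
    exact hD.2 e heD w hwD

omit [Finite G] in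
/-- order 2 on one side forces order at most 2 on the other -/
theorem sq_of_sq {x y : G} (hc : Commute y x) (hx1 : x ≠ 1) (hx2 : x ^ 2 = 1)
    (hy23 : y ^ 2 = 1 ∨ y ^ 3 = 1) (hyx : (y⁻¹ * x) ^ 2 = 1 ∨ (y⁻¹ * x) ^ 3 = 1) : y ^ 2 = 1 := by
  rcases hy23 with h | h
  · exact h
  · have hc' : Commute y⁻¹ x := hc.inv_left
    rcases hyx with h2 | h3
    · rw [hc'.mul_pow, hx2, mul_one, inv_pow, inv_eq_one] at h2
      exact h2
    · exfalso
      rw [hc'.mul_pow, inv_pow, h, inv_one, one_mul] at h3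
      apply hx1
      calc x = x ^ 3 * (x ^ 2)⁻¹ := by group
        _ = 1 := by rw [h3, hx2, inv_one, mul_one]

omit [Finite G] in
/-- order 3 on one side forces order dividing 3 on the other -/
theorem cube_of_cube {x y : G} (hc : Commute y x) (hx1 : x ≠ 1) (hx3 : x ^ 3 = 1)
    (hy23 : y ^ 2 = 1 ∨ y ^ 3 = 1) (hyx : (y⁻¹ * x) ^ 2 = 1 ∨ (y⁻¹ * x) ^ 3 = 1) : y ^ 3 = 1 := by
  rcases hy23 with h | h
  · have hc' : Commute y⁻¹ x := hc.inv_left
    rcases hyx with h2 | h3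
    · exfalso
      rw [hc'.mul_pow, inv_pow, h, inv_one, one_mul] at h2
      apply hx1
      calc x = x ^ 3 * (x ^ 2)⁻¹ := by group
        _ = 1 := by rw [hx3, h2, inv_one, mul_one]
    · rw [hc'.mul_pow, hx3, mul_one, inv_pow, inv_eq_one] at h3
      exact h3
  · exact h

omit [Finite G] in
/-- if all commutators of members of `D` with `E` have order at most 2, they generate 2-groups -/
theorem isPGroup_two_of_sq (hD : IsThreeTranspositionSet D)
    (hconj : ∀ g : G, ∀ d ∈ D, g * d * g⁻¹ ∈ D) (E : Subgroup G)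
    (hsq : ∀ d ∈ D, ∀ l ∈ E, (d * (l * d * l⁻¹)) ^ 2 = 1) {d : G} (hd : d ∈ D) :
    IsPGroup 2 (Subgroup.closure {y : G | ∃ l ∈ E, y = d * (l * d * l⁻¹)}) := by
  set S' : Set G := {y : G | ∃ l ∈ E, y = l * d * l⁻¹} with hS'
  have hS'D : ∀ y ∈ S', y ∈ D := by
    rintro y ⟨l, -, rfl⟩
    exact hconj l d hd
  have hp : IsPGroup 2 (Subgroup.closure S') := by
    apply isPGroup_closure_of_commute
    · rintro a ⟨l, hl, rfl⟩ b ⟨m, hm, rfl⟩
      have e1 : m * d * m⁻¹ = l * ((l⁻¹ * m) * d * (l⁻¹ * m)⁻¹) * l⁻¹ := by group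
      rw [e1, Commute.conj_iff]
      have hk : l⁻¹ * m ∈ E := E.mul_mem (E.inv_mem hl) hm
      have h2 := hsq d hd _ hk
      set b : G := (l⁻¹ * m) * d * (l⁻¹ * m)⁻¹ with hb
      have hbD : b ∈ D := hconj _ d hd
      have h3 : d * b = (d * b)⁻¹ := by
        rw [eq_inv_iff_mul_eq_one, ← pow_two]; exact h2
      rw [mul_inv_rev, tt_inv hD hd, tt_inv hD hbD] at h3
      exact h3
    · intro a ha
      rw [pow_two]
      exact tt_sq hD (hS'D a ha)
  refine hp.to_le ?_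
  rw [Subgroup.closure_le]
  rintro y ⟨l, hl, rfl⟩
  apply Subgroup.mul_mem
  · exact Subgroup.subset_closure ⟨1, E.one_mem, by group⟩
  · exact Subgroup.subset_closure ⟨l, hl, rfl⟩

/-- if all commutators of members of `D` with the normal subgroup `E` have order dividing 3, they
generate 3-groups -/
theorem isPGroup_three_of_cube (hD : IsThreeTranspositionSet D)
    (hconj : ∀ g : G, ∀ d ∈ D, g * d * g⁻¹ ∈ D) (E : Subgroup G) (hEn : E.Normal)
    (hcb : ∀ d ∈ D, ∀ l ∈ E, (d * (l * d * l⁻¹)) ^ 3 = 1) {d : G} (hd : d ∈ D) :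
    IsPGroup 3 (Subgroup.closure {y : G | ∃ l ∈ E, y = d * (l * d * l⁻¹)}) := by
  classical
  have : Fact (Nat.Prime 3) := ⟨Nat.prime_three⟩
  set H : Subgroup G := E ⊔ Subgroup.zpowers d with hH
  have hEH : E ≤ H := le_sup_left
  have hdH : d ∈ H := (le_sup_right : Subgroup.zpowers d ≤ H) (Subgroup.mem_zpowers d)
  set S' : Set G := {y : G | ∃ l ∈ E, y = l * d * l⁻¹} with hS'
  have hS'H : ∀ y ∈ S', y ∈ H := by
    rintro y ⟨l, hl, rfl⟩
    exact H.mul_mem (H.mul_mem (hEH hl) hdH) (H.inv_mem (hEH hl))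
  let St : Subgroup G :=
    { carrier := {g | ∀ y ∈ S', g * y * g⁻¹ ∈ S' ∧ g⁻¹ * y * g ∈ S'}
      one_mem' := by
        intro y hy
        simp only [one_mul, inv_one, mul_one]
        exact ⟨hy, hy⟩
      mul_mem' := by
        intro g h hg hh y hy
        constructor
        · have e1 : g * h * y * (g * h)⁻¹ = g * (h * y * h⁻¹) * g⁻¹ := by group
          rw [e1]
          exact (hg _ (hh y hy).1).1
        · have e1 : (g * h)⁻¹ * y * (g * h) = h⁻¹ * (g⁻¹ * y * g) * h := by group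
          rw [e1]
          exact (hh _ (hg y hy).2).2
      inv_mem' := by
        intro g hg y hy
        rw [inv_inv]
        exact ⟨(hg y hy).2, (hg y hy).1⟩ }
  have hESt : E ≤ St := by
    intro g hg y hy
    obtain ⟨l, hl, rfl⟩ := hy
    constructor
    · exact ⟨g * l, E.mul_mem hg hl, by group⟩
    · exact ⟨g⁻¹ * l, E.mul_mem (E.inv_mem hg) hl, by group⟩
  have hdSt : d ∈ St := by
    intro y hy
    obtain ⟨l, hl, rfl⟩ := hy
    constructor
    · exact ⟨d * l * d⁻¹, hEn.conj_mem l hl d, by group⟩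
    · refine ⟨d⁻¹ * l * d⁻¹⁻¹, hEn.conj_mem l hl d⁻¹, by group⟩
  have hHSt : H ≤ St := sup_le hESt ((Subgroup.zpowers_le).mpr hdSt)
  let DH : Set H := {x | (x : G) ∈ S'}
  have hcube : ∀ a ∈ S', ∀ b ∈ S', (a * b) ^ 3 = 1 := by
    rintro a ⟨l, hl, rfl⟩ b ⟨m, hm, rfl⟩
    have hk : l⁻¹ * m ∈ E := E.mul_mem (E.inv_mem hl) hm
    have h3 := hcb d hd _ hk
    have e1 : l * d * l⁻¹ * (m * d * m⁻¹) =
        l * (d * ((l⁻¹ * m) * d * (l⁻¹ * m)⁻¹)) * l⁻¹ := by group
    rw [e1, conj_pow, h3, mul_one, mul_inv_cancel]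
  have hDH : W1.CubeClass DH := by
    refine ⟨?_, ?_, ?_⟩
    · rintro x ⟨l, hl, hx⟩
      apply Subtype.ext
      show (x : G) * (x : G) = 1
      rw [hx]
      exact tt_sq hD (hconj l d hd)
    · intro g x hx
      exact (hHSt g.2 _ hx).1
    · intro x hx y hy
      apply Subtype.ext
      exact hcube _ hx _ hy
  have hdS' : d ∈ S' := ⟨1, E.one_mem, by group⟩
  refine (pCoreMap_isPGroup 3 H).to_le ?_
  rw [Subgroup.closure_le]
  rintro y ⟨l, hl, rfl⟩
  have hlS' : l * d * l⁻¹ ∈ S' := ⟨l, hl, rfl⟩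
  have := mul_mem_pCore_of_cubeClass (G := H) hDH (a := ⟨d, hdH⟩)
    (b := ⟨l * d * l⁻¹, hS'H _ hlS'⟩) hdS' hlS'
  exact ⟨_, this, rfl⟩

/-- **Commuting normal subgroups.**  If the normal subgroups `A` and `B` commute elementwise, `A`
is perfect and `B` is not central, then `A` is trivial. -/
theorem perfect_eq_bot_of_commuting (hD : IsThreeTranspositionSet D)
    (hconj : ∀ g : G, ∀ d ∈ D, g * d * g⁻¹ ∈ D) (hgen : Subgroup.closure D = ⊤)
    (hall : ∀ a ∈ D, ∀ b ∈ D, ∃ g : G, g * a * g⁻¹ = b) {A B : Subgroup G} (hAn : A.Normal)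
    (hBn : B.Normal) (hAB : ∀ a ∈ A, ∀ b ∈ B, Commute a b) (hperf : ⁅A, A⁆ = A)
    (hB : ¬ B ≤ Subgroup.center G) : A = ⊥ := by
  have h2 : Fact (Nat.Prime 2) := ⟨Nat.prime_two⟩
  have h3 : Fact (Nat.Prime 3) := ⟨Nat.prime_three⟩
  -- `D` is not empty
  have hne : D.Nonempty := by
    by_contra hcon
    rw [Set.not_nonempty_iff_eq_empty] at hcon
    apply hB
    apply le_center_of_commute_gen hgen
    intro n _ d hd
    rw [hcon] at hd
    exact absurd hd (Set.notMem_empty d)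
  obtain ⟨d₀, hd₀⟩ := hne
  obtain ⟨n₀, hn₀, hmove⟩ := exists_conj_ne_of_not_le_center hgen hall hBn hB hd₀
  set x₀ : G := d₀ * (n₀ * d₀ * n₀⁻¹) with hx₀
  have hx₀1 : x₀ ≠ 1 := by
    intro h
    apply hmove
    have : n₀ * d₀ * n₀⁻¹ = d₀⁻¹ := (eq_inv_of_mul_eq_one_right h)
    rw [this, tt_inv hD hd₀]
  have hx₀23 : x₀ ^ 2 = 1 ∨ x₀ ^ 3 = 1 := hD.2 d₀ hd₀ _ (hconj n₀ d₀ hd₀)
  -- transport to every member
  have htrans : ∀ d ∈ D, ∃ n ∈ B, ∃ g : G, d * (n * d * n⁻¹) = g * x₀ * g⁻¹ := by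
    intro d hd
    obtain ⟨g, rfl⟩ := hall d₀ hd₀ d hd
    refine ⟨g * n₀ * g⁻¹, hBn.conj_mem n₀ hn₀ g, g, ?_⟩
    rw [hx₀]; group
  rcases hx₀23 with hx | hx
  · -- order two
    apply perfect_eq_bot_of_comm_isPGroup (p := 2) hgen (fun d hd => tt_inv hD hd) A hAn hperf
    intro d hd
    apply isPGroup_two_of_sq hD hconj A _ hd
    intro d hd l hl
    obtain ⟨n, hn, g, hg⟩ := htrans d hd
    obtain ⟨hc, hyx⟩ := config' hD hconj hAn hBn hAB hd hn hl
    rw [hg] at hc hyx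
    refine sq_of_sq hc ?_ ?_ (hD.2 d hd _ (hconj l d hd)) hyx
    · intro h
      apply hx₀1
      have : g⁻¹ * (g * x₀ * g⁻¹) * g = g⁻¹ * 1 * g := by rw [h]
      calc x₀ = g⁻¹ * (g * x₀ * g⁻¹) * g := by group
        _ = g⁻¹ * 1 * g := this
        _ = 1 := by group
    · rw [conj_pow, hx, mul_one, mul_inv_cancel]
  · -- order three
    apply perfect_eq_bot_of_comm_isPGroup (p := 3) hgen (fun d hd => tt_inv hD hd) A hAn hperf
    intro d hd
    apply isPGroup_three_of_cube hD hconj A hAn _ hd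
    intro d hd l hl
    obtain ⟨n, hn, g, hg⟩ := htrans d hd
    obtain ⟨hc, hyx⟩ := config' hD hconj hAn hBn hAB hd hn hl
    rw [hg] at hc hyx
    refine cube_of_cube hc ?_ ?_ (hD.2 d hd _ (hconj l d hd)) hyx
    · intro h
      apply hx₀1
      have : g⁻¹ * (g * x₀ * g⁻¹) * g = g⁻¹ * 1 * g := by rw [h]
      calc x₀ = g⁻¹ * (g * x₀ * g⁻¹) * g := by group
        _ = g⁻¹ * 1 * g := this
        _ = 1 := by group
    · rw [conj_pow, hx, mul_one, mul_inv_cancel]

end Perfect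

end Cfsg.Agent.Lib.Helper27.TTFitting2
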