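import Cfsg.Agent.Lib.Helper27.TTRank3
import Cfsg.Agent.Lib.Helper27.WClass

/-!
A set of pairwise non-commuting 3-transpositions closed under taking the third member of a line
has a power of three many members (helper27).
-/

set_option autoImplicit false

namespace Cfsg.Agent.Lib.Helper27.TTHall

open Cfsg Cfsg.Agent.Lib.Helper27 Cfsg.Agent.Lib.Helper27.TTLocalClass
  Cfsg.Agent.Lib.Helper27.TTRank3 Cfsg.Agent.Lib.Helper27.WClass

variable {G : Type*} [Group G] [Finite G] {D : Set G}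

theorem three_pow_card (hDs : IsThreeTranspositionSet D) {S : Set G} (hS : S ⊆ D)
    (hne : S.Nonempty) (hnc : ∀ a ∈ S, ∀ b ∈ S, a ≠ b → ¬ Commute a b)
    (hline : ∀ a ∈ S, ∀ b ∈ S, a * b * a⁻¹ ∈ S) : ∃ m : ℕ, S.ncard = 3 ^ m := by
  classical
  haveI : Fact (Nat.Prime 3) := ⟨Nat.prime_three⟩
  set K : Subgroup G := Subgroup.closure S with hK
  set S' : Set ↥K := {k : ↥K | (k : G) ∈ S} with hS'
  have hDs' : IsThreeTranspositionSet S' := by
    refine ⟨?_, ?_⟩
    · intro d hd
      rw [← Subgroup.orderOf_coe]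
      exact hDs.1 _ (hS hd)
    · intro d hd e he
      rcases hDs.2 _ (hS hd) _ (hS he) with h | h
      · left
        apply Subtype.ext
        rw [Subgroup.coe_pow, Subgroup.coe_mul]
        exact h
      · right
        apply Subtype.ext
        rw [Subgroup.coe_pow, Subgroup.coe_mul]
        exact h
  have hconj' : ∀ g : ↥K, ∀ d ∈ S', g * d * g⁻¹ ∈ S' := by
    intro g d hd
    exact (invariant_of_gen hDs hS S hline g.1 g.2 d.1 hd).1
  have hDp : ∀ a ∈ S', Dp S' a = ∅ := by
    intro a ha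
    ext y
    simp only [Dp, Set.mem_ofPred_eq, Set.mem_empty_iff_false, iff_false]
    rintro ⟨hy, hya, hc⟩
    apply hnc a.1 ha y.1 hy
    · intro e
      exact hya (Subtype.ext e).symm
    · have := hc.eq
      show (a : G) * (y : G) = (y : G) * (a : G)
      rw [← Subgroup.coe_mul, ← Subgroup.coe_mul, this]
  have hmul : ∀ a ∈ S', ∀ b ∈ S', a * b ∈ Cfsg.pCore 3 ↥K := by
    intro a ha b hb
    apply mul_mem_pCore hDs' hconj' ha hb
    rw [hDp a ha, hDp b hb]
  obtain ⟨d₀, hd₀⟩ := hne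
  have hd₀K : d₀ ∈ K := Subgroup.subset_closure hd₀
  set d₁ : ↥K := ⟨d₀, hd₀K⟩ with hd₁
  have hd₁S : d₁ ∈ S' := hd₀
  set P : Subgroup ↥K := Cfsg.pCore 3 ↥K with hP
  have hPp : IsPGroup 3 P := Cfsg.Agent.Lib.Helper1.pCore_isPGroup 3
  letI act : MulAction P ↥K := MulAction.compHom ↥K ((MulAut.conj : ↥K →* MulAut ↥K).comp P.subtype)
  have hsmul : ∀ (g : P) (k : ↥K), g • k = (g : ↥K) * k * (g : ↥K)⁻¹ := fun g k => rfl
  have horb : MulAction.orbit P d₁ = S' := by
    ext e
    rw [MulAction.mem_orbit_iff]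
    constructor
    · rintro ⟨g, rfl⟩
      rw [hsmul]
      exact hconj' _ _ hd₁S
    · intro he
      by_cases hed : e = d₁
      · exact ⟨1, by rw [hed, one_smul]⟩
      · refine ⟨⟨d₁ * e, hmul d₁ hd₁S e he⟩, ?_⟩
        rw [hsmul]
        have hnc' : ¬ Commute d₁ e := by
          intro hc
          apply hnc d₁.1 hd₁S e.1 he
          · intro e'
            exact hed (Subtype.ext e').symm
          · have := hc.eq
            show (d₁ : G) * (e : G) = (e : G) * (d₁ : G)
            rw [← Subgroup.coe_mul, ← Subgroup.coe_mul, this]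
        exact conj_eq_of_not_commute hDs' hd₁S he hnc'
  obtain ⟨m, hm⟩ := hPp.card_orbit d₁
  refine ⟨m, ?_⟩
  rw [horb] at hm
  have h1 : S = Subtype.val '' S' := by
    ext s
    constructor
    · intro hs
      exact ⟨⟨s, Subgroup.subset_closure hs⟩, hs, rfl⟩
    · rintro ⟨k, hk, rfl⟩
      exact hk
  rw [h1, Set.ncard_image_of_injective _ Subtype.val_injective, ← hm]
  rfl

end Cfsg.Agent.Lib.Helper27.TTHall
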