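import Cfsg.Agent.Lib.Helper27.WClass
import Cfsg.Agent.Lib.Helper27.PCoreOf

/-!
Three-transposition sets in which the members commuting with a given member form a line
(helper27): basic facts.
-/

set_option autoImplicit false

namespace Cfsg.Agent.Lib.Helper27.TTLoc3

open Cfsg Cfsg.Agent.Lib.Helper27 Cfsg.Agent.Lib.Helper27.WClass

section PermFacts

theorem s3_nc : ∀ s t : Equiv.Perm (Fin 3), s * s = 1 → t * t = 1 → s ≠ 1 → t ≠ 1 → s ≠ t →
    s * t ≠ t * s := by decide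

theorem s3_inv : ∀ s : Equiv.Perm (Fin 3), s * s = 1 → s ≠ 1 →
    s = Equiv.swap 0 1 ∨ s = Equiv.swap 0 2 ∨ s = Equiv.swap 1 2 := by decide

theorem s3_four : ∀ p q r s : Equiv.Perm (Fin 3), p * p = 1 → q * q = 1 → r * r = 1 → s * s = 1 →
    p ≠ 1 → q ≠ 1 → r ≠ 1 → s ≠ 1 → p ≠ q → p ≠ r → q ≠ r → s = p ∨ s = q ∨ s = r := by
  intro p q r s hp hq hr hs hp1 hq1 hr1 hs1
  rcases s3_inv p hp hp1 with rfl | rfl | rfl <;> rcases s3_inv q hq hq1 with rfl | rfl | rfl <;>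
  rcases s3_inv r hr hr1 with rfl | rfl | rfl <;> rcases s3_inv s hs hs1 with rfl | rfl | rfl <;>
  simp

theorem s3_noncomm : Equiv.swap (0 : Fin 3) 1 * Equiv.swap 1 2 ≠
    Equiv.swap 1 2 * Equiv.swap 0 1 := by decide

end PermFacts

section Basic

variable {G : Type*} [Group G]

/-- the members commuting with a given member form a line of three pairwise non-commuting members -/
structure Loc3 (D : Set G) : Prop where
  two : ∀ d ∈ D, ∃ p ∈ Dp D d, ∃ q ∈ Dp D d, p ≠ q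
  nc : ∀ d ∈ D, ∀ p ∈ Dp D d, ∀ q ∈ Dp D d, p ≠ q → ¬ Commute p q
  four : ∀ d ∈ D, ∀ p ∈ Dp D d, ∀ q ∈ Dp D d, ∀ r ∈ Dp D d, ∀ s ∈ Dp D d,
    p ≠ q → p ≠ r → q ≠ r → s = p ∨ s = q ∨ s = r

theorem tt_ne_one {D : Set G} (hD : IsThreeTranspositionSet D) {d : G} (hd : d ∈ D) : d ≠ 1 := by
  intro h
  have := hD.1 d hd
  rw [h, orderOf_one] at this
  omega

theorem loc3_of_iso {D : Set G} (hD : IsThreeTranspositionSet D)
    (h : ∀ d ∈ D, Nonempty (↥(Subgroup.closure (Dp D d)) ≃* Equiv.Perm (Fin 3))) : Loc3 D := by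
  have key : ∀ d ∈ D, ∀ ε : ↥(Subgroup.closure (Dp D d)) ≃* Equiv.Perm (Fin 3),
      ∀ p (hp : p ∈ Dp D d), ε ⟨p, Subgroup.subset_closure hp⟩ * ε ⟨p, Subgroup.subset_closure hp⟩ = 1 ∧
        ε ⟨p, Subgroup.subset_closure hp⟩ ≠ 1 := by
    intro d _ ε p hp
    constructor
    · rw [← map_mul]
      have : (⟨p, Subgroup.subset_closure hp⟩ : ↥(Subgroup.closure (Dp D d))) *
          ⟨p, Subgroup.subset_closure hp⟩ = 1 := by
        apply Subtype.ext
        exact tt_sq hD hp.1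
      rw [this, map_one]
    · intro h1
      have h2 : (⟨p, Subgroup.subset_closure hp⟩ : ↥(Subgroup.closure (Dp D d))) = 1 := by
        apply ε.injective
        rw [h1, map_one]
      exact tt_ne_one hD hp.1 (congrArg Subtype.val h2)
  have inj : ∀ d ∈ D, ∀ ε : ↥(Subgroup.closure (Dp D d)) ≃* Equiv.Perm (Fin 3),
      ∀ p (hp : p ∈ Dp D d) q (hq : q ∈ Dp D d),
        ε ⟨p, Subgroup.subset_closure hp⟩ = ε ⟨q, Subgroup.subset_closure hq⟩ → p = q := by
    intro d _ ε p hp q hq h1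
    exact congrArg Subtype.val (ε.injective h1)
  refine ⟨?_, ?_, ?_⟩
  · intro d hd
    obtain ⟨ε⟩ := h d hd
    by_contra hcon
    push Not at hcon
    have hcomm : ∀ x ∈ Dp D d, ∀ y ∈ Dp D d, x * y = y * x := by
      intro x hx y hy
      rw [hcon x hx y hy]
    have hc := Subgroup.isMulCommutative_closure hcomm
    apply s3_noncomm
    obtain ⟨x, hx⟩ := ε.surjective (Equiv.swap 0 1)
    obtain ⟨y, hy⟩ := ε.surjective (Equiv.swap 1 2)
    rw [← hx, ← hy, ← map_mul, ← map_mul, mul_comm' x y]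
  · intro d hd p hp q hq hpq hc
    obtain ⟨ε⟩ := h d hd
    obtain ⟨h1, h2⟩ := key d hd ε p hp
    obtain ⟨h3, h4⟩ := key d hd ε q hq
    apply s3_nc _ _ h1 h3 h2 h4 (fun e => hpq (inj d hd ε p hp q hq e))
    rw [← map_mul, ← map_mul]
    congr 1
    apply Subtype.ext
    exact hc.eq
  · intro d hd p hp q hq r hr s hs hpq hpr hqr
    obtain ⟨ε⟩ := h d hd
    obtain ⟨h1, h2⟩ := key d hd ε p hp
    obtain ⟨h3, h4⟩ := key d hd ε q hq
    obtain ⟨h5, h6⟩ := key d hd ε r hr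
    obtain ⟨h7, h8⟩ := key d hd ε s hs
    rcases s3_four _ _ _ _ h1 h3 h5 h7 h2 h4 h6 h8 (fun e => hpq (inj d hd ε p hp q hq e))
      (fun e => hpr (inj d hd ε p hp r hr e)) (fun e => hqr (inj d hd ε q hq r hr e)) with e | e | e
    · exact Or.inl (inj d hd ε s hs p hp e)
    · exact Or.inr (Or.inl (inj d hd ε s hs q hq e))
    · exact Or.inr (Or.inr (inj d hd ε s hs r hr e))

theorem conj_mem_Dp {D : Set G} (hconj : ∀ g : G, ∀ d ∈ D, g * d * g⁻¹ ∈ D) {c y : G}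
    (hy : y ∈ Dp D c) (g : G) : g * y * g⁻¹ ∈ Dp D (g * c * g⁻¹) := by
  obtain ⟨h1, h2, h3⟩ := hy
  refine ⟨hconj g y h1, ?_, (Commute.conj_iff g).mpr h3⟩
  intro h
  apply h2
  have : g⁻¹ * (g * y * g⁻¹) * g = g⁻¹ * (g * c * g⁻¹) * g := by rw [h]
  simpa [mul_assoc] using this

/-- two members with three common commuting partners have the same commuting partners -/
theorem Dp_eq_of_three {D : Set G} (h3 : Loc3 D) {x y p q r : G} (hx : x ∈ D) (hy : y ∈ D)
    (hpx : p ∈ Dp D x) (hqx : q ∈ Dp D x) (hrx : r ∈ Dp D x)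
    (hpy : p ∈ Dp D y) (hqy : q ∈ Dp D y) (hry : r ∈ Dp D y)
    (hpq : p ≠ q) (hpr : p ≠ r) (hqr : q ≠ r) : Dp D x = Dp D y := by
  ext s
  constructor
  · intro hs
    rcases h3.four x hx p hpx q hqx r hrx s hs hpq hpr hqr with rfl | rfl | rfl
    · exact hpy
    · exact hqy
    · exact hry
  · intro hs
    rcases h3.four y hy p hpy q hqy r hry s hs hpq hpr hqr with rfl | rfl | rfl
    · exact hpx
    · exact hqx
    · exact hrx

/-- the third member of the line of commuting partners -/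
theorem third_mem {D : Set G} (hconj : ∀ g : G, ∀ d ∈ D, g * d * g⁻¹ ∈ D)
    (h3 : Loc3 D) {d p q : G} (hd : d ∈ D) (hp : p ∈ Dp D d) (hq : q ∈ Dp D d) (hpq : p ≠ q) :
    p * q * p⁻¹ ∈ Dp D d ∧ p * q * p⁻¹ ≠ p ∧ p * q * p⁻¹ ≠ q ∧
      ∀ s ∈ Dp D d, s = p ∨ s = q ∨ s = p * q * p⁻¹ := by
  have hnc : ¬ Commute q p := fun h => h3.nc d hd p hp q hq hpq h.symm
  have h1 : p * q * p⁻¹ ≠ p := fl_third_ne_right hnc
  have h2 : p * q * p⁻¹ ≠ q := fl_third_ne_left hnc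
  have h0 : p * q * p⁻¹ ∈ Dp D d := by
    refine ⟨hconj p q hq.1, ?_, ?_⟩
    · intro h
      apply fl_nc_third_right hnc
      rw [h]
      exact hp.2.2.symm
    · exact (hp.2.2.mul_right hq.2.2).mul_right hp.2.2.inv_right
  refine ⟨h0, h1, h2, ?_⟩
  intro s hs
  exact h3.four d hd p hp q hq _ h0 s hs hpq (fun h => h1 h.symm) (fun h => h2 h.symm)

/-- the product of two non-commuting members has order three and is inverted by them -/
theorem prod_facts {D : Set G} (hD : IsThreeTranspositionSet D) {s t : G} (hs : s ∈ D) (ht : t ∈ D)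
    (hnc : ¬ Commute s t) : (s * t) ^ 3 = 1 ∧ s * t ≠ 1 ∧ s * (s * t) * s⁻¹ = (s * t)⁻¹ := by
  have hs2 := tt_sq hD hs
  have ht2 := tt_sq hD ht
  refine ⟨?_, ?_, ?_⟩
  · rcases hD.2 s hs t ht with h | h
    · exfalso
      apply hnc
      have h1 : s * t * (s * t) = 1 := by rw [← pow_two]; exact h
      show s * t = t * s
      have h2 : s * t = (s * t)⁻¹ := eq_inv_of_mul_eq_one_left h1
      rw [h2, mul_inv_rev, tt_inv hD hs, tt_inv hD ht]
    · exact h
  · intro h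
    apply hnc
    have : s = t := by
      have h1 : s * t = s * s := by rw [h, hs2]
      exact (mul_left_cancel h1).symm
    rw [this]
  · rw [mul_inv_rev, tt_inv hD hs, tt_inv hD ht, ← mul_assoc, hs2, one_mul]

/-- two non-commuting members act in the same way on a subgroup of order three that both
normalize: if one inverts a generator, the other does not centralize it -/
theorem not_commute_of_inverts {D : Set G} (hD : IsThreeTranspositionSet D) {n a u : G}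
    (hn : n ∈ D) (ha : a ∈ D) (hna : ¬ Commute n a) (hu3 : u ^ 3 = 1) (hu1 : u ≠ 1)
    (hinv : a * u * a⁻¹ = u⁻¹) : ¬ Commute n u := by
  intro hc
  obtain ⟨ht3, -, -⟩ := prod_facts hD hn ha hna
  have h1 : (n * a) * u * (n * a)⁻¹ = u⁻¹ := by
    calc (n * a) * u * (n * a)⁻¹ = n * (a * u * a⁻¹) * n⁻¹ := by group
      _ = n * u⁻¹ * n⁻¹ := by rw [hinv]
      _ = u⁻¹ := by rw [hc.inv_right.eq, mul_inv_cancel_right]
  have h2 : ∀ k : ℕ, (n * a) ^ k * u * ((n * a) ^ k)⁻¹ = u ^ ((-1 : ℤ) ^ k) := by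
    intro k
    induction k with
    | zero => simp
    | succ k ih =>
      calc (n * a) ^ (k + 1) * u * ((n * a) ^ (k + 1))⁻¹
          = (n * a) ^ k * ((n * a) * u * (n * a)⁻¹) * ((n * a) ^ k)⁻¹ := by
            rw [pow_succ]; group
        _ = ((n * a) ^ k * u * ((n * a) ^ k)⁻¹)⁻¹ := by rw [h1]; group
        _ = u ^ ((-1 : ℤ) ^ (k + 1)) := by
            rw [ih, ← zpow_neg, pow_succ, mul_neg_one]
  have h3 := h2 3
  rw [ht3] at h3
  have h4 : u = u⁻¹ := by simpa using h3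
  apply hu1
  have h5 : u * u = 1 := by
    nth_rewrite 2 [h4]
    exact mul_inv_cancel u
  calc u = u ^ 3 * (u * u)⁻¹ := by group
    _ = 1 := by rw [hu3, h5, inv_one, mul_one]

/-- a commuting partner of `e` built from a commuting partner `a` of `d` -/
theorem pt_mem {D : Set G} (hD : IsThreeTranspositionSet D)
    (hconj : ∀ g : G, ∀ d ∈ D, g * d * g⁻¹ ∈ D) {d a e : G} (hd : d ∈ D) (ha : a ∈ Dp D d)
    (he : e ∈ D) (hed : ¬ Commute e d) (hea : ¬ Commute e a) :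
    a * (d * e * d⁻¹) * a⁻¹ ∈ Dp D e := by
  have ha' : a⁻¹ = a := tt_inv hD ha.1
  have ha2 : a * a = 1 := tt_sq hD ha.1
  have e1 : d * e * d⁻¹ = e * d * e⁻¹ := fl_third_eq hD he hd hed
  have e2 : a * e * a⁻¹ = e * a * e⁻¹ := fl_third_eq hD he ha.1 hea
  refine ⟨hconj a _ (hconj d e he), ?_, ?_⟩
  · intro h
    apply ha.2.1
    have h1 : d * e * d⁻¹ = a * e * a⁻¹ := by
      calc d * e * d⁻¹ = a⁻¹ * (a * (d * e * d⁻¹) * a⁻¹) * a := by group
        _ = a⁻¹ * e * a := by rw [h]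
        _ = a * e * a⁻¹ := by rw [ha']
    rw [e1, e2] at h1
    have h2 : e⁻¹ * (e * d * e⁻¹) * e = e⁻¹ * (e * a * e⁻¹) * e := by rw [h1]
    have h3 : d = a := by simpa [mul_assoc] using h2
    exact h3.symm
  · have h1 : Commute (e * d * e⁻¹) (e * a * e⁻¹) := (Commute.conj_iff e).mpr ha.2.2
    rw [← e1, ← e2] at h1
    have h2 : Commute (a * (d * e * d⁻¹) * a⁻¹) (a * (a * e * a⁻¹) * a⁻¹) :=
      (Commute.conj_iff a).mpr h1
    have h3 : a * (a * e * a⁻¹) * a⁻¹ = e := by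
      calc a * (a * e * a⁻¹) * a⁻¹ = (a * a) * e * (a * a)⁻¹ := by group
        _ = e := by rw [ha2, inv_one, one_mul, mul_one]
    rw [h3] at h2
    exact h2.symm

/-- the partners built from different commuting partners of `d` are different -/
theorem pt_ne {D : Set G} (hD : IsThreeTranspositionSet D) (h3 : Loc3 D) {d s t e : G}
    (hd : d ∈ D) (hs : s ∈ Dp D d) (ht : t ∈ Dp D d) (hst : s ≠ t) (he : e ∈ D)
    (hes : ¬ Commute e s) :
    s * (d * e * d⁻¹) * s⁻¹ ≠ t * (d * e * d⁻¹) * t⁻¹ := by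
  intro h
  have hs' : s⁻¹ = s := tt_inv hD hs.1
  have hnc : ¬ Commute s t := h3.nc d hd s hs t ht hst
  obtain ⟨hu3, hu1, hinv⟩ := prod_facts hD hs.1 ht.1 hnc
  apply not_commute_of_inverts hD he hs.1 hes hu3 hu1 hinv
  have h1 : (s⁻¹ * t) * (d * e * d⁻¹) * (s⁻¹ * t)⁻¹ = d * e * d⁻¹ := by
    calc (s⁻¹ * t) * (d * e * d⁻¹) * (s⁻¹ * t)⁻¹
        = s⁻¹ * (t * (d * e * d⁻¹) * t⁻¹) * s := by group
      _ = s⁻¹ * (s * (d * e * d⁻¹) * s⁻¹) * s := by rw [h]
      _ = d * e * d⁻¹ := by group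
  rw [hs'] at h1
  have h2 : Commute (s * t) (d * e * d⁻¹) := by
    show s * t * (d * e * d⁻¹) = d * e * d⁻¹ * (s * t)
    calc s * t * (d * e * d⁻¹) = (s * t) * (d * e * d⁻¹) * (s * t)⁻¹ * (s * t) := by group
      _ = d * e * d⁻¹ * (s * t) := by rw [h1]
  have h3' : Commute d (s * t) := hs.2.2.mul_right ht.2.2
  have h4 : d * (s * t) * d⁻¹ = s * t := by
    rw [h3'.eq, mul_inv_cancel_right]
  have h5 : Commute (d * (s * t) * d⁻¹) (d * e * d⁻¹) := by rw [h4]; exact h2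
  exact ((Commute.conj_iff d).mp h5).symm

/-- **Bad configurations.**  A member `e` commuting with none of `d` and its three commuting
partners has the same commuting partners as a conjugate different from it. -/
theorem bad_config {D : Set G} (hD : IsThreeTranspositionSet D)
    (hconj : ∀ g : G, ∀ d ∈ D, g * d * g⁻¹ ∈ D) (h3 : Loc3 D) {d a b e : G} (hd : d ∈ D)
    (ha : a ∈ Dp D d) (hb : b ∈ Dp D d) (hab : a ≠ b) (he : e ∈ D)
    (hed : ¬ Commute e d) (hea : ¬ Commute e a) (heb : ¬ Commute e b)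
    (hec : ¬ Commute e (a * b * a⁻¹)) :
    Dp D ((a * b)⁻¹ * e * (a * b)) = Dp D e ∧ (a * b)⁻¹ * e * (a * b) ≠ e := by
  have ha' : a⁻¹ = a := tt_inv hD ha.1
  have hb' : b⁻¹ = b := tt_inv hD hb.1
  have hnc : ¬ Commute a b := h3.nc d hd a ha b hb hab
  obtain ⟨hc, hca, hcb, -⟩ := third_mem hconj h3 hd ha hb hab
  have pa := pt_mem hD hconj hd ha he hed hea
  have pb := pt_mem hD hconj hd hb he hed heb
  have pc := pt_mem hD hconj hd hc he hed hec
  have nab := pt_ne hD h3 hd ha hb hab he hea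
  have nac := pt_ne hD h3 hd ha hc (fun h => hca h.symm) he hea
  have nbc := pt_ne hD h3 hd hb hc (fun h => hcb h.symm) he heb
  set f := d * e * d⁻¹ with hf
  have he' : (a * b)⁻¹ * e * (a * b) ∈ D := by
    have := hconj (a * b)⁻¹ e he
    rwa [inv_inv] at this
  have cj : ∀ s ∈ Dp D e, (a * b)⁻¹ * s * (a * b) ∈ Dp D ((a * b)⁻¹ * e * (a * b)) := by
    intro s hs
    have := conj_mem_Dp hconj hs (a * b)⁻¹
    rwa [inv_inv] at this
  have i1 : (a * b)⁻¹ * (a * f * a⁻¹) * (a * b) = b * f * b⁻¹ := by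
    calc (a * b)⁻¹ * (a * f * a⁻¹) * (a * b) = b⁻¹ * f * b := by group
      _ = b * f * b⁻¹ := by rw [hb']
  have e1 : (a * b)⁻¹ * b = a * b * a⁻¹ := by
    have := fl_third_eq hD ha.1 hb.1 hnc
    rw [mul_inv_rev, ha', hb'] at *
    exact this
  have i2 : (a * b)⁻¹ * (b * f * b⁻¹) * (a * b) = (a * b * a⁻¹) * f * (a * b * a⁻¹)⁻¹ := by
    calc (a * b)⁻¹ * (b * f * b⁻¹) * (a * b) = ((a * b)⁻¹ * b) * f * ((a * b)⁻¹ * b)⁻¹ := by group
      _ = (a * b * a⁻¹) * f * (a * b * a⁻¹)⁻¹ := by rw [e1]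
  have e2 : (a * b)⁻¹ * (a * b * a⁻¹) = a := by
    calc (a * b)⁻¹ * (a * b * a⁻¹) = a⁻¹ := by group
      _ = a := ha'
  have i3 : (a * b)⁻¹ * ((a * b * a⁻¹) * f * (a * b * a⁻¹)⁻¹) * (a * b) = a * f * a⁻¹ := by
    calc (a * b)⁻¹ * ((a * b * a⁻¹) * f * (a * b * a⁻¹)⁻¹) * (a * b)
        = ((a * b)⁻¹ * (a * b * a⁻¹)) * f * ((a * b)⁻¹ * (a * b * a⁻¹))⁻¹ := by group
      _ = a * f * a⁻¹ := by rw [e2]
  have qb := cj _ pa
  have qc := cj _ pb
  have qa := cj _ pc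
  rw [i1] at qb
  rw [i2] at qc
  rw [i3] at qa
  refine ⟨Dp_eq_of_three h3 he' he qa qb qc pa pb pc nab nac nbc, ?_⟩
  intro h
  obtain ⟨hu3, hu1, hinv⟩ := prod_facts hD ha.1 hb.1 hnc
  apply not_commute_of_inverts hD he ha.1 hea hu3 hu1 hinv
  show e * (a * b) = a * b * e
  calc e * (a * b) = (a * b) * ((a * b)⁻¹ * e * (a * b)) := by group
    _ = a * b * e := by rw [h]

end Basic

section Core

variable {G : Type*} [Group G]

/-- elements of the largest normal 3-subgroup centralizing `n` form a group of order at most three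
when the largest normal 3-subgroup of the centralizer of `n` has order three -/
theorem o3_unique {n : G}
    (hcard : Nat.card (Cfsg.pCore 3 ↥(Subgroup.centralizer ({n} : Set G))) = 3) {g q : G}
    (hg : g ∈ Cfsg.pCore 3 G) (hq : q ∈ Cfsg.pCore 3 G) (hgn : Commute g n) (hqn : Commute q n)
    (hg1 : g ≠ 1) : q = 1 ∨ q = g ∨ q = g⁻¹ := by
  haveI : Fact (Nat.Prime 3) := ⟨Nat.prime_three⟩
  set C := Subgroup.centralizer ({n} : Set G) with hC
  have memC : ∀ x : G, Commute x n → x ∈ C := by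
    intro x hx
    rw [hC, Subgroup.mem_centralizer_iff]
    intro y hy
    rw [Set.mem_singleton_iff] at hy
    rw [hy]
    exact hx.symm.eq
  have hQn : (Cfsg.pCore 3 G).Normal := Helper1.pCore_normal 3
  have hN : ((Cfsg.pCore 3 G).subgroupOf C).Normal := hQn.subgroupOf C
  have hP : IsPGroup 3 ↥((Cfsg.pCore 3 G).subgroupOf C) :=
    (Helper1.pCore_isPGroup 3).comap_of_injective C.subtype C.subtype_injective
  have hle : (Cfsg.pCore 3 G).subgroupOf C ≤ Cfsg.pCore 3 ↥C := Helper1.le_pCore hN hP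
  set g' : ↥(Cfsg.pCore 3 ↥C) := ⟨⟨g, memC g hgn⟩, hle hg⟩ with hg'
  set q' : ↥(Cfsg.pCore 3 ↥C) := ⟨⟨q, memC q hqn⟩, hle hq⟩ with hq'
  have hg'1 : g' ≠ 1 := by
    intro h
    apply hg1
    have := congrArg (fun x : ↥(Cfsg.pCore 3 ↥C) => ((x : ↥C) : G)) h
    exact this
  have htop : Subgroup.zpowers g' = ⊤ := zpowers_eq_top_of_prime_card (p := 3) hcard hg'1
  have hmem : q' ∈ Subgroup.zpowers g' := by rw [htop]; exact Subgroup.mem_top _
  obtain ⟨k, hk⟩ := Subgroup.mem_zpowers_iff.mp hmem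
  have hk' : g ^ k = q := by
    have := congrArg (fun x : ↥(Cfsg.pCore 3 ↥C) => ((x : ↥C) : G)) hk
    simpa using this
  have hg3 : g ^ (3 : ℤ) = 1 := by
    have h1 : g' ^ 3 = 1 := by
      have := pow_card_eq_one' (G := ↥(Cfsg.pCore 3 ↥C)) (x := g')
      rwa [hcard] at this
    have := congrArg (fun x : ↥(Cfsg.pCore 3 ↥C) => ((x : ↥C) : G)) h1
    have h2 : g ^ 3 = 1 := by simpa using this
    rw [← h2]
    norm_cast
  have hk3 : g ^ k = g ^ (k % 3) := by
    conv_lhs => rw [← Int.mul_ediv_add_emod k 3]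
    rw [zpow_add, zpow_mul, hg3, one_zpow, one_mul]
  have hr : k % 3 = 0 ∨ k % 3 = 1 ∨ k % 3 = 2 := by omega
  rw [← hk', hk3]
  rcases hr with h | h | h
  · left; rw [h, zpow_zero]
  · right; left; rw [h, zpow_one]
  · right; right
    rw [h]
    have : g ^ (2 : ℤ) * g = 1 := by
      rw [← hg3]
      group
    exact eq_inv_of_mul_eq_one_left this

end Core

end Cfsg.Agent.Lib.Helper27.TTLoc3
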