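import Cfsg.Agent.Lib.Helper27.TTLoc3

/-!
Three-transposition sets in which the members commuting with a given member form a line
(helper27): the case of two different members with the same commuting partners.
-/

set_option autoImplicit false

namespace Cfsg.Agent.Lib.Helper27.TTLoc3A

open Cfsg Cfsg.Agent.Lib.Helper27 Cfsg.Agent.Lib.Helper27.WClass
  Cfsg.Agent.Lib.Helper27.TTLoc3

section Basic

variable {G : Type*} [Group G]

theorem Dp_symm {D : Set G} {a x : G} (h : a ∈ Dp D x) (hx : x ∈ D) : x ∈ Dp D a :=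
  ⟨hx, fun e => h.2.1 e.symm, h.2.2.symm⟩

/-- two members `x, y` with two common commuting partners `a, b` -/
structure K33 (D : Set G) (a b x y : G) : Prop where
  hx : x ∈ D
  hy : y ∈ D
  hab : a ≠ b
  hxy : x ≠ y
  ax : a ∈ Dp D x
  bx : b ∈ Dp D x
  ay : a ∈ Dp D y
  bY : b ∈ Dp D y

variable {D : Set G} {a b x y : G}

theorem K33.symm (h : K33 D a b x y) : K33 D x y a b :=
  ⟨h.ax.1, h.bx.1, h.hxy, h.hab, Dp_symm h.ax h.hx, Dp_symm h.ay h.hy, Dp_symm h.bx h.hx,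
    Dp_symm h.bY h.hy⟩

theorem K33.cx (hconj : ∀ g : G, ∀ d ∈ D, g * d * g⁻¹ ∈ D) (h3 : Loc3 D) (h : K33 D a b x y) :
    a * b * a⁻¹ ∈ Dp D x := (third_mem hconj h3 h.hx h.ax h.bx h.hab).1

theorem K33.cy (hconj : ∀ g : G, ∀ d ∈ D, g * d * g⁻¹ ∈ D) (h3 : Loc3 D) (h : K33 D a b x y) :
    a * b * a⁻¹ ∈ Dp D y := (third_mem hconj h3 h.hy h.ay h.bY h.hab).1

theorem K33.Dp_x (hconj : ∀ g : G, ∀ d ∈ D, g * d * g⁻¹ ∈ D) (h3 : Loc3 D) (h : K33 D a b x y) :
    ∀ s ∈ Dp D x, s = a ∨ s = b ∨ s = a * b * a⁻¹ :=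
  (third_mem hconj h3 h.hx h.ax h.bx h.hab).2.2.2

theorem K33.Dp_y (hconj : ∀ g : G, ∀ d ∈ D, g * d * g⁻¹ ∈ D) (h3 : Loc3 D) (h : K33 D a b x y) :
    ∀ s ∈ Dp D y, s = a ∨ s = b ∨ s = a * b * a⁻¹ :=
  (third_mem hconj h3 h.hy h.ay h.bY h.hab).2.2.2

theorem K33.Dp_eq (hconj : ∀ g : G, ∀ d ∈ D, g * d * g⁻¹ ∈ D) (h3 : Loc3 D) (h : K33 D a b x y) :
    Dp D x = Dp D y := by
  obtain ⟨h1, h2, h4, -⟩ := third_mem hconj h3 h.hx h.ax h.bx h.hab
  exact Dp_eq_of_three h3 h.hx h.hy h.ax h.bx h1 h.ay h.bY (h.cy hconj h3) h.hab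
    (fun e => h2 e.symm) (fun e => h4 e.symm)

theorem K33.third (hconj : ∀ g : G, ∀ d ∈ D, g * d * g⁻¹ ∈ D) (h3 : Loc3 D) (h : K33 D a b x y) :
    K33 D a b x (x * y * x⁻¹) := by
  have h1 := h.symm.cx hconj h3
  have h2 := h.symm.cy hconj h3
  have hz : x * y * x⁻¹ ∈ D := h1.1
  refine ⟨h.hx, hz, h.hab, ?_, h.ax, h.bx, Dp_symm h1 h.ax.1, Dp_symm h2 h.bx.1⟩
  intro e
  have hnc : ¬ Commute y x := fun hc => h3.nc a h.ax.1 x h.symm.ax y h.symm.bx h.hxy hc.symm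
  exact fl_third_ne_right hnc e.symm

/-- a member commuting with none of the six members of the configuration -/
structure Out (D : Set G) (a b x y e : G) : Prop where
  he : e ∈ D
  ea : ¬ Commute e a
  eb : ¬ Commute e b
  ec : ¬ Commute e (a * b * a⁻¹)
  ex : ¬ Commute e x
  ey : ¬ Commute e y
  ez : ¬ Commute e (x * y * x⁻¹)

theorem K33.out (hconj : ∀ g : G, ∀ d ∈ D, g * d * g⁻¹ ∈ D) (h3 : Loc3 D) (h : K33 D a b x y)
    {e : G} (he : e ∈ D)
    (hout : ¬ (e = a ∨ e = b ∨ e = a * b * a⁻¹ ∨ e = x ∨ e = y ∨ e = x * y * x⁻¹)) :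
    Out D a b x y e := by
  have hz := h.third hconj h3
  have hc := h.symm.third hconj h3
  have key1 : ∀ p ∈ D, (∀ s ∈ Dp D p, s = a ∨ s = b ∨ s = a * b * a⁻¹) → e ≠ p → ¬ Commute e p := by
    intro p hp hall hne hcm
    have : e ∈ Dp D p := ⟨he, hne, hcm.symm⟩
    rcases hall e this with h1 | h1 | h1
    · exact hout (Or.inl h1)
    · exact hout (Or.inr (Or.inl h1))
    · exact hout (Or.inr (Or.inr (Or.inl h1)))
  have key2 : ∀ p ∈ D, (∀ s ∈ Dp D p, s = x ∨ s = y ∨ s = x * y * x⁻¹) → e ≠ p → ¬ Commute e p := by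
    intro p hp hall hne hcm
    have : e ∈ Dp D p := ⟨he, hne, hcm.symm⟩
    rcases hall e this with h1 | h1 | h1
    · exact hout (Or.inr (Or.inr (Or.inr (Or.inl h1))))
    · exact hout (Or.inr (Or.inr (Or.inr (Or.inr (Or.inl h1)))))
    · exact hout (Or.inr (Or.inr (Or.inr (Or.inr (Or.inr h1)))))
  refine ⟨he, ?_, ?_, ?_, ?_, ?_, ?_⟩
  · exact key2 a h.ax.1 (h.symm.Dp_x hconj h3) (fun e1 => hout (Or.inl e1))
  · exact key2 b h.bx.1 (h.symm.Dp_y hconj h3) (fun e1 => hout (Or.inr (Or.inl e1)))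
  · exact key2 _ hc.hy (hc.Dp_y hconj h3) (fun e1 => hout (Or.inr (Or.inr (Or.inl e1))))
  · exact key1 x h.hx (h.Dp_x hconj h3) (fun e1 => hout (Or.inr (Or.inr (Or.inr (Or.inl e1)))))
  · exact key1 y h.hy (h.Dp_y hconj h3)
      (fun e1 => hout (Or.inr (Or.inr (Or.inr (Or.inr (Or.inl e1))))))
  · exact key1 _ hz.hy (hz.Dp_y hconj h3)
      (fun e1 => hout (Or.inr (Or.inr (Or.inr (Or.inr (Or.inr e1))))))

theorem eq_one_of_eq_inv {u : G} (h3 : u ^ 3 = 1) (h : u = u⁻¹) : u = 1 := by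
  have h5 : u * u = 1 := by
    nth_rewrite 2 [h]
    exact mul_inv_cancel u
  calc u = u ^ 3 * (u * u)⁻¹ := by group
    _ = 1 := by rw [h3, h5, inv_one, mul_one]

theorem sq_eq_inv {u : G} (h3 : u ^ 3 = 1) : u * u = u⁻¹ := by
  have : u * u * u = 1 := by rw [← h3, pow_succ, pow_two]
  exact eq_inv_of_mul_eq_one_left this

/-- an outside member centralizes one of the two diagonal elements of order three -/
theorem out_cent (hD : IsThreeTranspositionSet D) (hconj : ∀ g : G, ∀ d ∈ D, g * d * g⁻¹ ∈ D)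
    (h3 : Loc3 D) (h : K33 D a b x y) {e : G} (ho : Out D a b x y e) :
    Commute e (a * b * (x * y)) ∨ Commute e (a * b * (x * y)⁻¹) := by
  have hx' : x⁻¹ = x := tt_inv hD h.hx
  have hy' : y⁻¹ = y := tt_inv hD h.hy
  have hncxy : ¬ Commute x y := h3.nc a h.ax.1 x h.symm.ax y h.symm.bx h.hxy
  obtain ⟨hv3, hv1, -⟩ := prod_facts hD h.hx h.hy hncxy
  have hyx : y * x = (x * y)⁻¹ := by rw [mul_inv_rev, hx', hy']
  obtain ⟨w1, n1⟩ := bad_config hD hconj h3 h.hx h.ax h.bx h.hab ho.he ho.ex ho.ea ho.eb ho.ec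
  obtain ⟨w2, n2⟩ := bad_config hD hconj h3 h.ax.1 h.symm.ax h.symm.bx h.hxy ho.he ho.ea ho.ex ho.ey
    ho.ez
  have ez' : ¬ Commute e (y * x * y⁻¹) := by
    rw [fl_third_eq hD h.hx h.hy hncxy]; exact ho.ez
  obtain ⟨w3, n3⟩ := bad_config hD hconj h3 h.ax.1 h.symm.bx h.symm.ax (fun e1 => h.hxy e1.symm)
    ho.he ho.ea ho.ey ho.ex ez'
  rw [hyx, inv_inv] at w3 n3
  set u := a * b with hu
  set v := x * y with hv
  obtain ⟨n, hn, -, -, -⟩ := h3.two e ho.he
  have hnD : n ∈ D := hn.1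
  have cjD : ∀ g : G, g⁻¹ * e * g ∈ D := by
    intro g
    have := hconj g⁻¹ e ho.he
    rwa [inv_inv] at this
  have m0 : e ∈ Dp D n := Dp_symm hn ho.he
  have m1 : u⁻¹ * e * u ∈ Dp D n := Dp_symm (by rw [w1]; exact hn) (cjD u)
  have m2 : v⁻¹ * e * v ∈ Dp D n := Dp_symm (by rw [w2]; exact hn) (cjD v)
  have m3 : v * e * v⁻¹ ∈ Dp D n := Dp_symm (by rw [w3]; exact hn) (hconj v e ho.he)
  have n23 : v⁻¹ * e * v ≠ v * e * v⁻¹ := by
    intro heq
    apply n2
    have h1 : v⁻¹ * (v⁻¹ * e * v) * v = v⁻¹ * (v * e * v⁻¹) * v := by rw [heq]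
    have h2 : v⁻¹ * (v * e * v⁻¹) * v = e := by group
    have h4 : v⁻¹ * (v⁻¹ * e * v) * v = (v * v)⁻¹ * e * (v * v) := by group
    rw [h2, h4, sq_eq_inv hv3, inv_inv] at h1
    rw [heq, h1]
  rcases h3.four n hnD e m0 _ m2 _ m3 _ m1 (fun e1 => n2 e1.symm) (fun e1 => n3 e1.symm) n23
    with h1 | h1 | h1
  · exact absurd h1 n1
  · right
    show e * (u * v⁻¹) = u * v⁻¹ * e
    have : (u * v⁻¹) * e * (u * v⁻¹)⁻¹ = e := by
      calc (u * v⁻¹) * e * (u * v⁻¹)⁻¹ = u * (v⁻¹ * e * v) * u⁻¹ := by group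
        _ = u * (u⁻¹ * e * u) * u⁻¹ := by rw [h1]
        _ = e := by group
    calc e * (u * v⁻¹) = ((u * v⁻¹) * e * (u * v⁻¹)⁻¹) * (u * v⁻¹) := by rw [this]
      _ = u * v⁻¹ * e := by group
  · left
    show e * (u * v) = u * v * e
    have : (u * v) * e * (u * v)⁻¹ = e := by
      calc (u * v) * e * (u * v)⁻¹ = u * (v * e * v⁻¹) * u⁻¹ := by group
        _ = u * (u⁻¹ * e * u) * u⁻¹ := by rw [h1]
        _ = e := by group
    calc e * (u * v) = ((u * v) * e * (u * v)⁻¹) * (u * v) := by rw [this]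
      _ = u * v * e := by group

theorem same_case {g e : G} (hg3 : g ^ 3 = 1) (hg1 : g ≠ 1) (hc : Commute e g)
    (hi : e * g * e⁻¹ = g⁻¹) : False := by
  apply hg1
  apply eq_one_of_eq_inv hg3
  rw [← hi, hc.eq, mul_inv_cancel_right]

theorem diff_case (hD : IsThreeTranspositionSet D) (hconj : ∀ g : G, ∀ d ∈ D, g * d * g⁻¹ ∈ D)
    {x e u w : G} (hx : x ∈ D) (he : e ∈ D) (hxe : ¬ Commute x e)
    (hw3 : w ^ 3 = 1) (hw1 : w ≠ 1) (huw : Commute u w) (hxu : Commute x u)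
    (hxw : x * w * x⁻¹ = w⁻¹) (hc : Commute e (u * w))
    (hi : e * (u * w⁻¹) * e⁻¹ = (u * w⁻¹)⁻¹) : False := by
  have h1 : e * (u * w) * e⁻¹ = u * w := by rw [hc.eq, mul_inv_cancel_right]
  have h2 : e * (u * u) * e⁻¹ = w⁻¹ := by
    have e1 : u * u = (u * w) * (u * w⁻¹) := by
      calc u * u = u * (w * u) * w⁻¹ := by rw [← huw.eq]; group
        _ = (u * w) * (u * w⁻¹) := by group
    calc e * (u * u) * e⁻¹ = (e * (u * w) * e⁻¹) * (e * (u * w⁻¹) * e⁻¹) := by rw [e1]; group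
      _ = (u * w) * (u * w⁻¹)⁻¹ := by rw [h1, hi]
      _ = u * (w * w) * u⁻¹ := by group
      _ = u * w⁻¹ * u⁻¹ := by rw [sq_eq_inv hw3]
      _ = w⁻¹ := by rw [huw.inv_right.eq, mul_inv_cancel_right]
  have h4 : Commute (e * x * e⁻¹) (e * (u * u) * e⁻¹) :=
    (Commute.conj_iff e).mpr (hxu.mul_right hxu)
  rw [h2] at h4
  have h5 : Commute (e * x * e⁻¹) w := by
    have := h4.inv_right
    rwa [inv_inv] at this
  exact not_commute_of_inverts hD (hconj e x hx) hx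
    (fun hcm => fl_nc_third_left hD hx he hxe hcm.symm) hw3 hw1 hxw h5

end Basic

section Final

variable {G : Type*} [Group G] [Finite G] {D : Set G} {a b x y : G}

/-- there are no outside members -/
theorem no_out (hD : IsThreeTranspositionSet D) (hconj : ∀ g : G, ∀ d ∈ D, g * d * g⁻¹ ∈ D)
    (h3 : Loc3 D)
    (hO : ∀ n ∈ D, Nat.card (Cfsg.pCore 3 ↥(Subgroup.centralizer ({n} : Set G))) = 3)
    (h : K33 D a b x y) {e : G} (ho : Out D a b x y e) : False := by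
  have ha : a ∈ D := h.ax.1
  have hb : b ∈ D := h.bx.1
  have hncab : ¬ Commute a b := h3.nc x h.hx a h.ax b h.bx h.hab
  have hncxy : ¬ Commute x y := h3.nc a ha x h.symm.ax y h.symm.bx h.hxy
  obtain ⟨hu3, hu1, hau⟩ := prod_facts hD ha hb hncab
  obtain ⟨hv3, hv1, hxv⟩ := prod_facts hD h.hx h.hy hncxy
  have hxu : Commute x (a * b) := h.ax.2.2.mul_right h.bx.2.2
  have hyu : Commute y (a * b) := h.ay.2.2.mul_right h.bY.2.2
  have huv : Commute (a * b) (x * y) := (hxu.symm).mul_right hyu.symm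
  have hav : Commute a (x * y) := h.ax.2.2.symm.mul_right h.ay.2.2.symm
  have huQ : a * b ∈ Cfsg.pCore 3 G := mul_mem_pCore hD hconj ha hb (h.symm.Dp_eq hconj h3)
  have hvQ : x * y ∈ Cfsg.pCore 3 G := mul_mem_pCore hD hconj h.hx h.hy (h.Dp_eq hconj h3)
  have hQ : (Cfsg.pCore 3 G) = (Cfsg.pCore 3 G) := rfl
  have hg1 : ∀ w : G, Commute a w → a * b * w ≠ 1 := by
    intro w hw h1
    apply hu1
    apply eq_one_of_eq_inv hu3
    have e1 : a * b = w⁻¹ := eq_inv_of_mul_eq_one_left h1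
    have e2 : Commute a (a * b) := by rw [e1]; exact hw.inv_right
    rw [← hau, e2.eq, mul_inv_cancel_right]
  have hg3 : ∀ w : G, Commute (a * b) w → w ^ 3 = 1 → (a * b * w) ^ 3 = 1 := by
    intro w hw hw3
    rw [hw.mul_pow, hu3, hw3, one_mul]
  have hvi3 : (x * y)⁻¹ ^ 3 = 1 := by rw [inv_pow, hv3, inv_one]
  obtain ⟨n, hn, -, -, -⟩ := h3.two e ho.he
  have hon : Out D a b x y n := by
    apply h.out hconj h3 hn.1
    rintro (rfl | rfl | rfl | rfl | rfl | rfl)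
    · exact ho.ea hn.2.2
    · exact ho.eb hn.2.2
    · exact ho.ec hn.2.2
    · exact ho.ex hn.2.2
    · exact ho.ey hn.2.2
    · exact ho.ez hn.2.2
  have ce := out_cent hD hconj h3 h ho
  have cn := out_cent hD hconj h3 h hon
  obtain ⟨w2, n2⟩ := bad_config hD hconj h3 ha h.symm.ax h.symm.bx h.hxy ho.he ho.ea ho.ex ho.ey
    ho.ez
  have he₁ : (x * y)⁻¹ * e * (x * y) ∈ D := by
    have := hconj (x * y)⁻¹ e ho.he
    rwa [inv_inv] at this
  have hq : e * ((x * y)⁻¹ * e * (x * y)) ∈ Cfsg.pCore 3 G :=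
    mul_mem_pCore hD hconj ho.he he₁ w2.symm
  have hn1 : n ∈ Dp D ((x * y)⁻¹ * e * (x * y)) := by rw [w2]; exact hn
  have hqn : Commute (e * ((x * y)⁻¹ * e * (x * y))) n := hn.2.2.mul_left hn1.2.2
  have hq1 : e * ((x * y)⁻¹ * e * (x * y)) ≠ 1 := by
    intro h1
    apply n2
    have := eq_inv_of_mul_eq_one_right h1
    rw [this, tt_inv hD ho.he]
  have hinv : e * (e * ((x * y)⁻¹ * e * (x * y))) * e⁻¹ = (e * ((x * y)⁻¹ * e * (x * y)))⁻¹ := by
    rw [mul_inv_rev (e), tt_inv hD he₁, tt_inv hD ho.he, ← mul_assoc e e, tt_sq hD ho.he, one_mul]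
  have key : ∀ g : G, g ∈ Cfsg.pCore 3 G → g ≠ 1 → Commute n g → e * g * e⁻¹ = g⁻¹ := by
    intro g hg hg1' hgn
    rcases o3_unique (hO n hn.1) hg hq hgn.symm hqn hg1' with h1 | h1 | h1
    · exact absurd h1 hq1
    · rw [← h1]; exact hinv
    · have e1 : g = (e * ((x * y)⁻¹ * e * (x * y)))⁻¹ := by rw [h1, inv_inv]
      rw [e1, inv_inv]
      have e2 : e * (e * ((x * y)⁻¹ * e * (x * y)))⁻¹ * e⁻¹ =
          (e * (e * ((x * y)⁻¹ * e * (x * y))) * e⁻¹)⁻¹ := by group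
      rw [e2, hinv, inv_inv]
  have hxe : ¬ Commute x e := fun hc => ho.ex hc.symm
  rcases ce with c1 | c1 <;> rcases cn with c2 | c2
  · exact same_case (hg3 _ huv hv3) (hg1 _ hav) c1
      (key _ ((Cfsg.pCore 3 G).mul_mem huQ hvQ) (hg1 _ hav) c2)
  · exact diff_case hD hconj h.hx ho.he hxe hv3 hv1 huv hxu hxv c1
      (key _ ((Cfsg.pCore 3 G).mul_mem huQ ((Cfsg.pCore 3 G).inv_mem hvQ)) (hg1 _ hav.inv_right) c2)
  · have hv1' : (x * y)⁻¹ ≠ 1 := fun h1 => hv1 (inv_eq_one.mp h1)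
    have hxv' : x * (x * y)⁻¹ * x⁻¹ = (x * y)⁻¹⁻¹ := by
      have e2 : x * (x * y)⁻¹ * x⁻¹ = (x * (x * y) * x⁻¹)⁻¹ := by group
      rw [e2, hxv]
    have hi := key _ ((Cfsg.pCore 3 G).mul_mem huQ hvQ) (hg1 _ hav) c2
    have hi' : e * (a * b * (x * y)⁻¹⁻¹) * e⁻¹ = (a * b * (x * y)⁻¹⁻¹)⁻¹ := by
      rw [inv_inv]; exact hi
    exact diff_case hD hconj h.hx ho.he hxe hvi3 hv1' huv.inv_right hxu hxv' c1 hi'
  · exact same_case (hg3 _ huv.inv_right hvi3) (hg1 _ hav.inv_right) c1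
      (key _ ((Cfsg.pCore 3 G).mul_mem huQ ((Cfsg.pCore 3 G).inv_mem hvQ)) (hg1 _ hav.inv_right) c2)

theorem s3_center : ∀ s : Equiv.Perm (Fin 3), (∀ t : Equiv.Perm (Fin 3), s * t = t * s) → s = 1 := by
  decide

/-- **Two different members with the same commuting partners.**  The members generate the direct
product of two symmetric groups of degree three. -/
theorem caseA (hD : IsThreeTranspositionSet D) (hconj : ∀ g : G, ∀ d ∈ D, g * d * g⁻¹ ∈ D)
    (h3 : Loc3 D)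
    (hiso : ∀ d ∈ D, Nonempty (↥(Subgroup.closure (Dp D d)) ≃* Equiv.Perm (Fin 3)))
    (hO : ∀ n ∈ D, Nat.card (Cfsg.pCore 3 ↥(Subgroup.centralizer ({n} : Set G))) = 3)
    {x y : G} (hx : x ∈ D) (hy : y ∈ D) (hxy : x ≠ y) (hW : Dp D x = Dp D y) :
    Nonempty (↥(Subgroup.closure D) ≃* Equiv.Perm (Fin 3) × Equiv.Perm (Fin 3)) := by
  obtain ⟨a, ha, b, hb, hab⟩ := h3.two x hx
  have h : K33 D a b x y := ⟨hx, hy, hab, hxy, ha, hb, hW ▸ ha, hW ▸ hb⟩
  have hz := h.third hconj h3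
  have hall : ∀ e ∈ D, e ∈ Dp D x ∨ e ∈ Dp D a := by
    intro e he
    by_contra hcon
    push Not at hcon
    refine no_out hD hconj h3 hO h (h.out hconj h3 he ?_)
    rintro (rfl | rfl | rfl | rfl | rfl | rfl)
    · exact hcon.1 h.ax
    · exact hcon.1 h.bx
    · exact hcon.1 (h.cx hconj h3)
    · exact hcon.2 h.symm.ax
    · exact hcon.2 h.symm.bx
    · exact hcon.2 (h.symm.cx hconj h3)
  have hcomm : ∀ s ∈ Dp D x, ∀ t ∈ Dp D a, Commute s t := by
    intro s hs t ht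
    rcases h.symm.Dp_x hconj h3 t ht with rfl | rfl | rfl
    · exact hs.2.2.symm
    · rw [h.Dp_eq hconj h3] at hs; exact hs.2.2.symm
    · rw [hz.Dp_eq hconj h3] at hs; exact hs.2.2.symm
  have hAB : ∀ s ∈ Subgroup.closure (Dp D x), ∀ t ∈ Subgroup.closure (Dp D a), Commute s t := by
    have h1 : Subgroup.closure (Dp D x) ≤ Subgroup.centralizer (Dp D a) := by
      rw [Subgroup.closure_le]
      intro s hs
      rw [SetLike.mem_coe, Subgroup.mem_centralizer_iff]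
      intro t ht
      exact (hcomm s hs t ht).symm.eq
    intro s hs
    have h2 : Subgroup.closure (Dp D a) ≤ Subgroup.centralizer ({s} : Set G) := by
      rw [Subgroup.closure_le]
      intro t ht
      rw [SetLike.mem_coe, Subgroup.mem_centralizer_iff]
      intro r hr
      rw [Set.mem_singleton_iff] at hr
      rw [hr]
      exact (Subgroup.mem_centralizer_iff.mp (h1 hs) t ht).symm
    intro t ht
    exact (Subgroup.mem_centralizer_iff.mp (h2 ht) s rfl)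
  obtain ⟨εA⟩ := hiso x hx
  obtain ⟨εB⟩ := hiso a ha.1
  have hdisj : Disjoint (Subgroup.closure (Dp D x)) (Subgroup.closure (Dp D a)) := by
    rw [Subgroup.disjoint_def]
    intro g hgA hgB
    have h1 : εA ⟨g, hgA⟩ = 1 := by
      apply s3_center
      intro t
      obtain ⟨t', rfl⟩ := εA.surjective t
      rw [← map_mul, ← map_mul]
      congr 1
      apply Subtype.ext
      exact (hAB t'.1 t'.2 g hgB).symm.eq
    have h2 : (⟨g, hgA⟩ : ↥(Subgroup.closure (Dp D x))) = 1 := εA.injective (by rw [h1, map_one])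
    exact congrArg Subtype.val h2
  have hcm : ∀ (s : ↥(Subgroup.closure (Dp D x))) (t : ↥(Subgroup.closure (Dp D a))),
      Commute ((Subgroup.closure (Dp D x)).subtype s) ((Subgroup.closure (Dp D a)).subtype t) :=
    fun s t => hAB s.1 s.2 t.1 t.2
  set φ : ↥(Subgroup.closure (Dp D x)) × ↥(Subgroup.closure (Dp D a)) →* G :=
    MonoidHom.noncommCoprod (Subgroup.closure (Dp D x)).subtype (Subgroup.closure (Dp D a)).subtype
      hcm with hφ
  have hinj : Function.Injective φ := by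
    refine (MonoidHom.noncommCoprod_injective _ _ hcm).mpr
      ⟨Subgroup.subtype_injective _, Subgroup.subtype_injective _, ?_⟩
    rw [Subgroup.range_subtype, Subgroup.range_subtype]
    exact hdisj
  have hrange : φ.range = Subgroup.closure D := by
    rw [hφ, MonoidHom.noncommCoprod_range _ _ hcm, Subgroup.range_subtype, Subgroup.range_subtype]
    apply le_antisymm
    · apply sup_le
      · exact Subgroup.closure_mono (fun e he => he.1)
      · exact Subgroup.closure_mono (fun e he => he.1)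
    · rw [Subgroup.closure_le]
      intro e he
      rcases hall e he with h1 | h1
      · exact (le_sup_left : Subgroup.closure (Dp D x) ≤ _) (Subgroup.subset_closure h1)
      · exact (le_sup_right : Subgroup.closure (Dp D a) ≤ _) (Subgroup.subset_closure h1)
  exact ⟨((MulEquiv.subgroupCongr hrange).symm.trans (MonoidHom.ofInjective hinj).symm).trans
    (MulEquiv.prodCongr εA εB)⟩

end Final

end Cfsg.Agent.Lib.Helper27.TTLoc3A
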