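import Cfsg.Agent.Lib.Helper27.TTRank3
import Cfsg.Agent.Lib.helper23.SmallPerm

/-!
Recognition of the symmetric group of degree five (helper27): a finite group without non-trivial
solvable normal subgroups generated by a primitive class of 3-transpositions in which every member
commutes with exactly three others, no two of which commute.
-/

set_option autoImplicit false

namespace Cfsg.Agent.Lib.Helper27.TTS5

open Cfsg Cfsg.Agent.Lib.Helper27 Cfsg.Agent.Lib.Helper27.TTModule
  Cfsg.Agent.Lib.Helper27.TTLocalClass Cfsg.Agent.Lib.Helper27.TTRank3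

section Coset

variable {G : Type*} [Group G]

/-- the five cosets of the subgroup generated by the last three members of a string of four
involutions are permuted by the four involutions -/
theorem coset_cover {d e b a : G} (K : Subgroup G) (heK : e ∈ K) (hbK : b ∈ K) (haK : a ∈ K)
    (hd2 : d * d = 1) (he2 : e * e = 1) (hb2 : b * b = 1) (ha2 : a * a = 1)
    (hdb : d * b = b * d) (hda : d * a = a * d) (hea : e * a = a * e)
    (hded : d * e * d = e * d * e) (hebe : e * b * e = b * e * b) (hbab : b * a * b = a * b * a)
    (hgen : Subgroup.closure ({d, e, b, a} : Set G) = ⊤) (g : G) :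
    g ∈ K ∨ d * g ∈ K ∨ d * e * g ∈ K ∨ d * e * b * g ∈ K ∨ d * e * b * a * g ∈ K := by
  have dd : ∀ x, d * (d * x) = x := fun x => by rw [← mul_assoc, hd2, one_mul]
  have ee : ∀ x, e * (e * x) = x := fun x => by rw [← mul_assoc, he2, one_mul]
  have bb : ∀ x, b * (b * x) = x := fun x => by rw [← mul_assoc, hb2, one_mul]
  have aa : ∀ x, a * (a * x) = x := fun x => by rw [← mul_assoc, ha2, one_mul]
  have db : ∀ x, d * (b * x) = b * (d * x) := fun x => by
    rw [← mul_assoc, hdb, mul_assoc]
  have da : ∀ x, d * (a * x) = a * (d * x) := fun x => by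
    rw [← mul_assoc, hda, mul_assoc]
  have ea : ∀ x, e * (a * x) = a * (e * x) := fun x => by
    rw [← mul_assoc, hea, mul_assoc]
  have ded : ∀ x, d * (e * (d * x)) = e * (d * (e * x)) := fun x => by
    have : d * (e * (d * x)) = (d * e * d) * x := by simp only [mul_assoc]
    rw [this, hded]; simp only [mul_assoc]
  have ebe : ∀ x, e * (b * (e * x)) = b * (e * (b * x)) := fun x => by
    have : e * (b * (e * x)) = (e * b * e) * x := by simp only [mul_assoc]
    rw [this, hebe]; simp only [mul_assoc]
  have bab : ∀ x, b * (a * (b * x)) = a * (b * (a * x)) := fun x => by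
    have : b * (a * (b * x)) = (b * a * b) * x := by simp only [mul_assoc]
    rw [this, hbab]; simp only [mul_assoc]
  set U : G → Prop := fun g =>
    g ∈ K ∨ d * g ∈ K ∨ d * e * g ∈ K ∨ d * e * b * g ∈ K ∨ d * e * b * a * g ∈ K with hU
  have hUd : ∀ g, U g → U (d * g) := by
    rintro g (h | h | h | h | h)
    · right; left
      rw [dd]; exact h
    · left; exact h
    · right; right; left
      have : d * e * (d * g) = e * (d * e * g) := by
        simp only [mul_assoc]; exact ded g
      rw [this]; exact K.mul_mem heK h
    · right; right; right; left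
      have : d * e * b * (d * g) = e * (d * e * b * g) := by
        simp only [mul_assoc]; rw [← db, ded]
      rw [this]; exact K.mul_mem heK h
    · right; right; right; right
      have : d * e * b * a * (d * g) = e * (d * e * b * a * g) := by
        simp only [mul_assoc]; rw [← da, ← db, ded]
      rw [this]; exact K.mul_mem heK h
  have hUe : ∀ g, U g → U (e * g) := by
    rintro g (h | h | h | h | h)
    · left; exact K.mul_mem heK h
    · right; right; left
      have : d * e * (e * g) = d * g := by
        simp only [mul_assoc]; rw [ee]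
      rw [this]; exact h
    · right; left
      have : d * (e * g) = d * e * g := by simp only [mul_assoc]
      rw [this]; exact h
    · right; right; right; left
      have : d * e * b * (e * g) = b * (d * e * b * g) := by
        simp only [mul_assoc]; rw [ebe, db]
      rw [this]; exact K.mul_mem hbK h
    · right; right; right; right
      have : d * e * b * a * (e * g) = b * (d * e * b * a * g) := by
        simp only [mul_assoc]; rw [← ea, ebe, db]
      rw [this]; exact K.mul_mem hbK h
  have hUb : ∀ g, U g → U (b * g) := by
    rintro g (h | h | h | h | h)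
    · left; exact K.mul_mem hbK h
    · right; left
      have : d * (b * g) = b * (d * g) := db g
      rw [this]; exact K.mul_mem hbK h
    · right; right; right; left
      have : d * e * b * (b * g) = d * e * g := by
        simp only [mul_assoc]; rw [bb]
      rw [this]; exact h
    · right; right; left
      have : d * e * (b * g) = d * e * b * g := by simp only [mul_assoc]
      rw [this]; exact h
    · right; right; right; right
      have : d * e * b * a * (b * g) = a * (d * e * b * a * g) := by
        simp only [mul_assoc]; rw [bab, ea, da]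
      rw [this]; exact K.mul_mem haK h
  have hUa : ∀ g, U g → U (a * g) := by
    rintro g (h | h | h | h | h)
    · left; exact K.mul_mem haK h
    · right; left
      have : d * (a * g) = a * (d * g) := da g
      rw [this]; exact K.mul_mem haK h
    · right; right; left
      have : d * e * (a * g) = a * (d * e * g) := by
        simp only [mul_assoc]; rw [ea, da]
      rw [this]; exact K.mul_mem haK h
    · right; right; right; right
      have : d * e * b * a * (a * g) = d * e * b * g := by
        simp only [mul_assoc]; rw [aa]
      rw [this]; exact h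
    · right; right; right; left
      have : d * e * b * (a * g) = d * e * b * a * g := by simp only [mul_assoc]
      rw [this]; exact h
  have hgens : ∀ s ∈ ({d, e, b, a} : Set G), (∀ g, U g → U (s * g)) ∧ s * s = 1 := by
    intro s hs
    simp only [Set.mem_insert_iff, Set.mem_singleton_iff] at hs
    rcases hs with rfl | rfl | rfl | rfl
    · exact ⟨hUd, hd2⟩
    · exact ⟨hUe, he2⟩
    · exact ⟨hUb, hb2⟩
    · exact ⟨hUa, ha2⟩
  have hall : ∀ h ∈ Subgroup.closure ({d, e, b, a} : Set G), ∀ g, U g ↔ U (h * g) := by
    intro h hh
    refine Subgroup.closure_induction (p := fun h _ => ∀ g, U g ↔ U (h * g)) ?_ ?_ ?_ ?_ hh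
    · intro s hs g
      obtain ⟨h1, h2⟩ := hgens s hs
      constructor
      · exact h1 g
      · intro h3
        have := h1 _ h3
        rwa [← mul_assoc, h2, one_mul] at this
    · intro g
      rw [one_mul]
    · intro x y _ _ hx hy g
      rw [mul_assoc]
      exact (hy g).trans (hx _)
    · intro x _ hx g
      have := hx (x⁻¹ * g)
      rw [mul_inv_cancel_left] at this
      exact this.symm
  have hg : g ∈ Subgroup.closure ({d, e, b, a} : Set G) := by rw [hgen]; exact Subgroup.mem_top g
  have h1 : U 1 := Or.inl K.one_mem
  have := (hall g hg 1).mp h1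
  rwa [mul_one] at this

end Coset

section Main

variable {G : Type*} [Group G] [Finite G] {D : Set G}

theorem perm_fin_four_isSolvable : Group.IsSolvable (Equiv.Perm (Fin 4)) :=
  (Group.isSolvable_def _).mpr ⟨3, Cfsg.Agent.Lib.helper23.derivedSeries_perm_fin_four⟩

theorem s5_of_local_three (hsol : ∀ N : Subgroup G, N.Normal → Group.IsSolvable ↥N → N = ⊥)
    (hDs : IsThreeTranspositionSet D)
    (hconj : ∀ g : G, ∀ d ∈ D, g * d * g⁻¹ ∈ D) (hgen : Subgroup.closure D = ⊤)
    (hprim : Cfsg.IsPrimitiveUnderConj D) (hw : ∃ a ∈ D, ∃ b ∈ D, a ≠ b ∧ Commute a b)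
    (hindep : ∀ x ∈ D, ∀ y v : G, Loc D x y → Loc D x v → y ≠ v → ¬ Commute y v)
    (h3 : ∀ x ∈ D, {z : G | Loc D x z}.ncard = 3) :
    Nonempty (G ≃* Equiv.Perm (Fin 5)) := by
  classical
  obtain ⟨d, hd, -, -, -, -⟩ := hw
  have hw : ∃ a ∈ D, ∃ b ∈ D, a ≠ b ∧ Commute a b := by
    obtain ⟨p, q, r, hpq, -, -, hset⟩ := Set.ncard_eq_three.mp (h3 d hd)
    have hp : Loc D d p := by
      have : p ∈ {z : G | Loc D d z} := by rw [hset]; simp
      exact this
    exact ⟨d, hd, p, hp.1, fun e => hp.2.1 e.symm, hp.2.2⟩
  -- the three members commuting with `d`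
  obtain ⟨a, b, c, hab, hac, hbc, hset⟩ := Set.ncard_eq_three.mp (h3 d hd)
  have haloc : Loc D d a := by
    have : a ∈ {z : G | Loc D d z} := by rw [hset]; simp
    exact this
  have hbloc : Loc D d b := by
    have : b ∈ {z : G | Loc D d z} := by rw [hset]; simp
    exact this
  have haD : a ∈ D := haloc.1
  have hbD : b ∈ D := hbloc.1
  have hncab : ¬ Commute a b := hindep d hd a b haloc hbloc hab
  have hceq : a * b * a⁻¹ = c := by
    have h1 : Loc D d (a * b * a⁻¹) := by
      have := hbloc.conj hconj a
      rwa [conj_fix haloc.2.2.symm] at this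
    have h2 : a * b * a⁻¹ ∈ ({a, b, c} : Set G) := by rw [← hset]; exact h1
    simp only [Set.mem_insert_iff, Set.mem_singleton_iff] at h2
    rcases h2 with h2 | h2 | h2
    · exfalso
      apply hab
      have : a * b = a * a := by
        calc a * b = (a * b * a⁻¹) * a := by group
          _ = a * a := by rw [h2]
      exact (mul_left_cancel this).symm
    · exfalso
      apply hncab
      show a * b = b * a
      calc a * b = (a * b * a⁻¹) * a := by group
        _ = b * a := by rw [h2]
    · exact h2
  -- a member commuting with `a` but neither with `d` nor with `b`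
  have hex : ∃ e : G, Loc D a e ∧ e ≠ d := by
    obtain ⟨p, q, r, hpq, -, -, hset'⟩ := Set.ncard_eq_three.mp (h3 a haD)
    have hp : Loc D a p := by
      have : p ∈ {z : G | Loc D a z} := by rw [hset']; simp
      exact this
    have hq : Loc D a q := by
      have : q ∈ {z : G | Loc D a z} := by rw [hset']; simp
      exact this
    by_cases h : p = d
    · exact ⟨q, hq, fun e => hpq (h.trans e.symm)⟩
    · exact ⟨p, hp, h⟩
  obtain ⟨e, heloc, hed⟩ := hex
  have heD : e ∈ D := heloc.1
  have hdaloc : Loc D a d := ⟨hd, fun e' => haloc.2.1 e'.symm, haloc.2.2.symm⟩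
  have hnced : ¬ Commute e d := hindep a haD e d heloc hdaloc hed
  have hnceb : ¬ Commute e b := by
    intro hc
    obtain ⟨t, ht, htb⟩ := exists_moving hconj hgen hprim hw haD hbD hncab
    have hthird : Loc D a (d * e * d⁻¹) := by
      have := heloc.conj hconj d
      rwa [conj_fix haloc.2.2] at this
    have hsub : ({d, e, d * e * d⁻¹} : Set G) ⊆ {z : G | Loc D a z} := by
      intro z hz
      simp only [Set.mem_insert_iff, Set.mem_singleton_iff] at hz
      rcases hz with rfl | rfl | rfl
      · exact hdaloc
      · exact heloc
      · exact hthird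
    have hcard : ({d, e, d * e * d⁻¹} : Set G).ncard = 3 := by
      rw [Set.ncard_eq_three]
      refine ⟨d, e, d * e * d⁻¹, fun e' => hed e'.symm, ?_, ?_, rfl⟩
      · intro e'
        apply hed
        have : d * d = d * e := by
          calc d * d = (d * e * d⁻¹) * d := by rw [← e']
            _ = d * e := by group
        exact (mul_left_cancel this).symm
      · intro e'
        apply hnced
        show e * d = d * e
        calc e * d = (d * e * d⁻¹) * d := by rw [← e']
          _ = d * e := by group
    have heq := Set.eq_of_subset_of_ncard_le hsub (by rw [hcard, h3 a haD]) (Set.toFinite _)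
    have ht' : t ∈ ({d, e, d * e * d⁻¹} : Set G) := by rw [heq]; exact ht
    simp only [Set.mem_insert_iff, Set.mem_singleton_iff] at ht'
    rcases ht' with rfl | rfl | rfl
    · exact htb hbloc.2.2
    · exact htb hc
    · exact htb ((hbloc.2.2.mul_left hc).mul_left hbloc.2.2.inv_left)
  -- relations
  have hd2 : d * d = 1 := tt_sq hDs hd
  have he2 : e * e = 1 := tt_sq hDs heD
  have hb2 : b * b = 1 := tt_sq hDs hbD
  have ha2 : a * a = 1 := tt_sq hDs haD
  have braid : ∀ u ∈ D, ∀ v ∈ D, ¬ Commute u v → u * v * u = v * u * v := by
    intro u hu v hv hnc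
    have h1 := third_comm hDs hu hv hnc
    rw [tt_inv hDs hu, tt_inv hDs hv] at h1
    exact h1
  have hded : d * e * d = e * d * e := braid d hd e heD (fun hc => hnced hc.symm)
  have hebe : e * b * e = b * e * b := braid e heD b hbD hnceb
  have hbab : b * a * b = a * b * a := braid b hbD a haD (fun hc => hncab hc.symm)
  have hdb : d * b = b * d := hbloc.2.2.eq
  have hda : d * a = a * d := haloc.2.2.eq
  have hea : e * a = a * e := heloc.2.2.eq.symm
  -- the four members generate
  have hgen4 : Subgroup.closure ({d, e, b, a} : Set G) = ⊤ := by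
    have hsubD : ({d, e, b, a} : Set G) ⊆ D := by
      intro z hz
      simp only [Set.mem_insert_iff, Set.mem_singleton_iff] at hz
      rcases hz with rfl | rfl | rfl | rfl
      · exact hd
      · exact heD
      · exact hbD
      · exact haD
    have hH : Cfsg.IsDSubgroup D (Subgroup.closure ({d, e, b, a} : Set G)) := by
      unfold Cfsg.IsDSubgroup
      apply le_antisymm
      · rw [Subgroup.closure_le]
        intro z hz
        exact hz.2
      · apply Subgroup.closure_mono
        intro z hz
        exact ⟨hsubD hz, Subgroup.subset_closure hz⟩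
    have hle : Subgroup.closure {y : G | y ∈ D ∧ Commute d y} ≤
        Subgroup.closure ({d, e, b, a} : Set G) := by
      rw [Subgroup.closure_le]
      intro y hy
      have hdm : d ∈ Subgroup.closure ({d, e, b, a} : Set G) :=
        Subgroup.subset_closure (by simp)
      have hbm : b ∈ Subgroup.closure ({d, e, b, a} : Set G) :=
        Subgroup.subset_closure (by simp)
      have ham : a ∈ Subgroup.closure ({d, e, b, a} : Set G) :=
        Subgroup.subset_closure (by simp)
      by_cases hyd : y = d
      · rw [hyd]; exact hdm
      · have : y ∈ {z : G | Loc D d z} := ⟨hy.1, hyd, hy.2⟩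
        rw [hset] at this
        simp only [Set.mem_insert_iff, Set.mem_singleton_iff] at this
        rcases this with rfl | rfl | rfl
        · exact ham
        · exact hbm
        · rw [← hceq]
          exact Subgroup.mul_mem _ (Subgroup.mul_mem _ ham hbm) (Subgroup.inv_mem _ ham)
    rcases perp_maximal hDs hconj hgen hprim hw hd _ hH hle with h | h
    · exfalso
      have hem : e ∈ Subgroup.closure ({d, e, b, a} : Set G) :=
        Subgroup.subset_closure (by simp)
      rw [h] at hem
      have hcent : Subgroup.closure {y : G | y ∈ D ∧ Commute d y} ≤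
          Subgroup.centralizer ({d} : Set G) := by
        rw [Subgroup.closure_le]
        intro y hy
        rw [SetLike.mem_coe, Subgroup.mem_centralizer_iff]
        intro t ht
        rw [Set.mem_singleton_iff] at ht
        rw [ht]
        exact hy.2.eq
      have := hcent hem
      rw [Subgroup.mem_centralizer_iff] at this
      exact hnced (this d rfl).symm
    · exact h
  -- the subgroup generated by `a, b, e`
  obtain ⟨φ, hφi, hφa, hφb, hφe⟩ := Cfsg.Agent.S5344.result hDs haD hbD heD
    (fun e' => heloc.2.1 e'.symm) heloc.2.2 hncab (fun hc => hnceb hc.symm)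
  set K : Subgroup G := φ.range with hK
  have haK : a ∈ K := ⟨_, hφa⟩
  have hbK : b ∈ K := ⟨_, hφb⟩
  have heK : e ∈ K := ⟨_, hφe⟩
  have hcover := coset_cover K heK hbK haK hd2 he2 hb2 ha2 hdb hda hea hded hebe hbab hgen4
  have hKcard : Nat.card K = 24 := by
    rw [hK, ← Nat.card_congr (MonoidHom.ofInjective hφi).toEquiv, Nat.card_perm, Nat.card_fin]
    rfl
  -- at most five cosets
  have hidx : K.index ≤ 5 := by
    rw [Subgroup.index_eq_card]
    let r : Fin 5 → G ⧸ K := ![((1 : G) : G ⧸ K), ((d⁻¹ : G) : G ⧸ K), (((d * e)⁻¹ : G) : G ⧸ K),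
      (((d * e * b)⁻¹ : G) : G ⧸ K), (((d * e * b * a)⁻¹ : G) : G ⧸ K)]
    have hsurj : Function.Surjective r := by
      intro q
      obtain ⟨g, rfl⟩ := QuotientGroup.mk_surjective q
      rcases hcover g with h | h | h | h | h
      · refine ⟨0, ?_⟩
        show ((1 : G) : G ⧸ K) = (g : G ⧸ K)
        rw [QuotientGroup.eq, inv_one, one_mul]; exact h
      · refine ⟨1, ?_⟩
        show ((d⁻¹ : G) : G ⧸ K) = (g : G ⧸ K)
        rw [QuotientGroup.eq, inv_inv]; exact h
      · refine ⟨2, ?_⟩
        show (((d * e)⁻¹ : G) : G ⧸ K) = (g : G ⧸ K)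
        rw [QuotientGroup.eq, inv_inv]; exact h
      · refine ⟨3, ?_⟩
        show (((d * e * b)⁻¹ : G) : G ⧸ K) = (g : G ⧸ K)
        rw [QuotientGroup.eq, inv_inv]; exact h
      · refine ⟨4, ?_⟩
        show (((d * e * b * a)⁻¹ : G) : G ⧸ K) = (g : G ⧸ K)
        rw [QuotientGroup.eq, inv_inv]; exact h
    have := Nat.card_le_card_of_surjective r hsurj
    rwa [Nat.card_fin] at this
  -- the action on the cosets is faithful
  have hKsol : Group.IsSolvable ↥K := by
    haveI : Group.IsSolvable (Equiv.Perm (Fin 4)) := perm_fin_four_isSolvable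
    exact Group.isSolvable_of_surjective (f := φ.rangeRestrict) φ.rangeRestrict_surjective
  have hcore : K.normalCore = ⊥ := by
    apply hsol _ (Subgroup.normalCore_normal K)
    haveI : Group.IsSolvable ↥K := hKsol
    exact Group.isSolvable_of_isSolvable_injective
      (Subgroup.inclusion_injective (Subgroup.normalCore_le K))
  set ψ : G →* Equiv.Perm (G ⧸ K) := MulAction.toPermHom G (G ⧸ K) with hψ
  have hψi : Function.Injective ψ := by
    rw [← MonoidHom.ker_eq_bot_iff, hψ, ← Subgroup.normalCore_eq_ker]
    exact hcore
  have hGcard : Nat.card G = 24 * K.index := by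
    rw [← hKcard]; exact (Subgroup.card_mul_index K).symm
  have hle : Nat.card G ≤ (K.index).factorial := by
    have := Nat.card_le_card_of_injective ψ hψi
    rwa [Nat.card_perm, ← Subgroup.index_eq_card] at this
  have hidx5 : K.index = 5 := by
    have h0 : K.index ≠ 0 := Subgroup.index_ne_zero_of_finite
    rw [hGcard] at hle
    have h1 : K.index = 1 ∨ K.index = 2 ∨ K.index = 3 ∨ K.index = 4 ∨ K.index = 5 := by omega
    rcases h1 with h | h | h | h | h
    · rw [h] at hle; norm_num [Nat.factorial] at hle
    · rw [h] at hle; norm_num [Nat.factorial] at hle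
    · rw [h] at hle; norm_num [Nat.factorial] at hle
    · rw [h] at hle; norm_num [Nat.factorial] at hle
    · exact h
  have hbij : Function.Bijective ψ := by
    apply hψi.bijective_of_nat_card_le
    rw [Nat.card_perm, ← Subgroup.index_eq_card, hGcard, hidx5]
    norm_num [Nat.factorial]
  have hcard5 : Nat.card (G ⧸ K) = 5 := by rw [← Subgroup.index_eq_card]; exact hidx5
  exact ⟨(MulEquiv.ofBijective ψ hbij).trans (Finite.equivFinOfCardEq hcard5).permCongrHom⟩

end Main

end Cfsg.Agent.Lib.Helper27.TTS5
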