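import Cfsg.Agent.Lib.Helper27.TTLoc3
import Cfsg.Agent.Lib.Helper27.TTS5

/-!
Three-transposition sets in which the members commuting with a given member form a line
(helper27): the case in which different members have different commuting partners.
-/

set_option autoImplicit false

namespace Cfsg.Agent.Lib.Helper27.TTLoc3B

open Cfsg Cfsg.Agent.Lib.Helper27 Cfsg.Agent.Lib.Helper27.WClass
  Cfsg.Agent.Lib.Helper27.TTLoc3

section PermFacts

set_option maxRecDepth 100000 in
theorem s4_normal : ∀ τ : Equiv.Perm (Fin 4), τ ≠ 1 → ∃ g h : Equiv.Perm (Fin 4),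
    g * τ * g⁻¹ * (h * τ * h⁻¹) = Equiv.swap 0 1 * Equiv.swap 2 3 ∨
    g * τ * g⁻¹ = Equiv.swap 0 1 * Equiv.swap 2 3 := by decide

theorem s4_cent : ∀ δ : Equiv.Perm (Fin 4), δ * Equiv.swap 0 1 = Equiv.swap 0 1 * δ →
    δ * Equiv.swap 1 2 = Equiv.swap 1 2 * δ → δ * δ = 1 → δ = 1 := by decide

end PermFacts

section Main

variable {G : Type*} [Group G] {D : Set G}

theorem Dp_symm' {a x : G} (h : a ∈ Dp D x) (hx : x ∈ D) : x ∈ Dp D a :=
  ⟨hx, fun e => h.2.1 e.symm, h.2.2.symm⟩

/-- a member not commuting with `d` commutes with a commuting partner of `d` -/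
theorem exists_partner (hD : IsThreeTranspositionSet D)
    (hconj : ∀ g : G, ∀ d ∈ D, g * d * g⁻¹ ∈ D) (h3 : Loc3 D)
    (hW : ∀ x ∈ D, ∀ y ∈ D, Dp D x = Dp D y → x = y) {d e : G} (hd : d ∈ D) (he : e ∈ D)
    (hed : ¬ Commute e d) : ∃ p ∈ Dp D d, Commute e p := by
  by_contra hcon
  push Not at hcon
  obtain ⟨a, ha, b, hb, hab⟩ := h3.two d hd
  obtain ⟨hc, -, -, -⟩ := third_mem hconj h3 hd ha hb hab
  obtain ⟨w, n⟩ := bad_config hD hconj h3 hd ha hb hab he hed (hcon a ha) (hcon b hb) (hcon _ hc)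
  apply n
  apply hW _ _ e he w
  have := hconj (a * b)⁻¹ e he
  rwa [inv_inv] at this

/-- **Different members have different commuting partners.**  The group is the symmetric group of
degree five. -/
theorem caseB [Finite G] (hD : IsThreeTranspositionSet D)
    (hconj : ∀ g : G, ∀ d ∈ D, g * d * g⁻¹ ∈ D) (hgen : Subgroup.closure D = ⊤)
    (hne : D.Nonempty) (h3 : Loc3 D)
    (hW : ∀ x ∈ D, ∀ y ∈ D, Dp D x = Dp D y → x = y) :
    Nonempty (G ≃* Equiv.Perm (Fin 5)) := by
  classical
  obtain ⟨d, hd⟩ := hne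
  obtain ⟨c, hc, b, hb, hcb⟩ := h3.two d hd
  have hbc : b ≠ c := fun h => hcb h.symm
  have hcD : c ∈ D := hc.1
  have hbD : b ∈ D := hb.1
  obtain ⟨ha, hab', hac', hall⟩ := third_mem hconj h3 hd hb hc hbc
  have hdc : d ∈ Dp D c := Dp_symm' hc hd
  obtain ⟨e, he, hed⟩ : ∃ e ∈ Dp D c, e ≠ d := by
    obtain ⟨p, hp, q, hq, hpq⟩ := h3.two c hcD
    by_cases h : p = d
    · exact ⟨q, hq, fun e' => hpq (h.trans e'.symm)⟩
    · exact ⟨p, hp, h⟩
  have heD : e ∈ D := he.1
  have hnced : ¬ Commute e d := h3.nc c hcD e he d hdc hed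
  have hnceb : ¬ Commute e b := by
    intro hcm
    have hebne : e ≠ b := by
      intro h
      apply hnced
      rw [h]
      exact hb.2.2.symm
    have heb : e ∈ Dp D b := ⟨heD, hebne, hcm.symm⟩
    have hdb : d ∈ Dp D b := Dp_symm' hb hd
    obtain ⟨t1, -, -, -⟩ := third_mem hconj h3 hbD heb hdb hed
    obtain ⟨t2, t3, t4, -⟩ := third_mem hconj h3 hcD he hdc hed
    exact hbc (hW b hbD c hcD (Dp_eq_of_three h3 hbD hcD heb hdb t1 he hdc t2 hed
      (fun h => t3 h.symm) (fun h => t4 h.symm)))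
  have hncbc : ¬ Commute b c := h3.nc d hd b hb c hc hbc
  -- relations
  have hd2 : d * d = 1 := tt_sq hD hd
  have he2 : e * e = 1 := tt_sq hD heD
  have hb2 : b * b = 1 := tt_sq hD hbD
  have hc2 : c * c = 1 := tt_sq hD hcD
  have hded : d * e * d = e * d * e := (fl_braid hD hd heD (fun h => hnced h.symm)).symm
  have hebe : e * b * e = b * e * b := (fl_braid hD heD hbD hnceb).symm
  have hbcb : b * c * b = c * b * c := (fl_braid hD hbD hcD hncbc).symm
  have hdb' : d * b = b * d := hb.2.2.eq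
  have hdc' : d * c = c * d := hc.2.2.eq
  have hec' : e * c = c * e := he.2.2.eq.symm
  -- the four members generate
  have hgen4 : Subgroup.closure ({d, e, b, c} : Set G) = ⊤ := by
    set H := Subgroup.closure ({d, e, b, c} : Set G) with hH
    have hdH : d ∈ H := Subgroup.subset_closure (by simp)
    have heH : e ∈ H := Subgroup.subset_closure (by simp)
    have hbH : b ∈ H := Subgroup.subset_closure (by simp)
    have hcH : c ∈ H := Subgroup.subset_closure (by simp)
    have haH : b * c * b⁻¹ ∈ H := H.mul_mem (H.mul_mem hbH hcH) (H.inv_mem hbH)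
    obtain ⟨-, -, -, hallc⟩ := third_mem hconj h3 hcD hdc he (fun h => hed h.symm)
    have hLc : ∀ s ∈ Dp D c, s ∈ H := by
      intro s hs
      rcases hallc s hs with rfl | rfl | rfl
      · exact hdH
      · exact heH
      · exact H.mul_mem (H.mul_mem hdH heH) (H.inv_mem hdH)
    have hLconj : ∀ g ∈ H, ∀ s ∈ Dp D (g * c * g⁻¹), s ∈ H := by
      intro g hg s hs
      have h1 := conj_mem_Dp hconj hs g⁻¹
      have e1 : g⁻¹ * (g * c * g⁻¹) * g⁻¹⁻¹ = c := by group
      rw [e1] at h1
      have h2 := hLc _ h1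
      have e2 : s = g * (g⁻¹ * s * g⁻¹⁻¹) * g⁻¹ := by group
      rw [e2]
      exact H.mul_mem (H.mul_mem hg h2) (H.inv_mem hg)
    have hbeq : b = (b * c * b⁻¹) * c * (b * c * b⁻¹)⁻¹ := by
      obtain ⟨-, -, -, hall'⟩ := third_mem hconj h3 hd ha hc hac'
      rcases hall' b hb with h | h | h
      · exact absurd h.symm hab'
      · exact absurd h hbc
      · exact h
    apply top_le_iff.mp
    rw [← hgen, Subgroup.closure_le]
    intro x hx
    by_cases hxd : x = d
    · rw [hxd]; exact hdH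
    by_cases hcm : Commute x d
    · have hxm : x ∈ Dp D d := ⟨hx, hxd, hcm.symm⟩
      rcases hall x hxm with h | h | h
      · rw [h]; exact hbH
      · rw [h]; exact hcH
      · rw [h]; exact haH
    · obtain ⟨p, hp, hxp⟩ := exists_partner hD hconj h3 hW hd hx hcm
      have hxp' : x ∈ Dp D p := by
        refine ⟨hx, ?_, hxp.symm⟩
        intro h
        apply hcm
        rw [h]
        exact hp.2.2.symm
      rcases hall p hp with h | h | h
      · rw [h, hbeq] at hxp'
        exact hLconj _ haH x hxp'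
      · rw [h] at hxp'
        exact hLc x hxp'
      · rw [h] at hxp'
        exact hLconj b hbH x hxp'
  -- the subgroup generated by `c, b, e`
  obtain ⟨φ, hφi, hφc, hφb, hφe⟩ := Cfsg.Agent.S5344.result hD hcD hbD heD
    (fun h => he.2.1 h.symm) he.2.2 (fun h => hncbc h.symm) (fun h => hnceb h.symm)
  set K : Subgroup G := φ.range with hK
  have hcK : c ∈ K := ⟨_, hφc⟩
  have hbK : b ∈ K := ⟨_, hφb⟩
  have heK : e ∈ K := ⟨_, hφe⟩
  have hcover := TTS5.coset_cover K heK hbK hcK hd2 he2 hb2 hc2 hdb' hdc' hec' hded hebe hbcb hgen4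
  have hKcard : Nat.card K = 24 := by
    rw [hK, ← Nat.card_congr (MonoidHom.ofInjective hφi).toEquiv, Nat.card_perm, Nat.card_fin]
    rfl
  have hidx : K.index ≤ 5 := by
    rw [Subgroup.index_eq_card]
    let r : Fin 5 → G ⧸ K := ![((1 : G) : G ⧸ K), ((d⁻¹ : G) : G ⧸ K), (((d * e)⁻¹ : G) : G ⧸ K),
      (((d * e * b)⁻¹ : G) : G ⧸ K), (((d * e * b * c)⁻¹ : G) : G ⧸ K)]
    have hsurj : Function.Surjective r := by
      intro q
      obtain ⟨g, rfl⟩ := QuotientGroup.mk_surjective q
      rcases hcover g with h | h | h | h | h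
      · refine ⟨0, ?_⟩
        show ((1 : G) : G ⧸ K) = (g : G ⧸ K)
        rw [QuotientGroup.eq, inv_one, one_mul]; exact h
      · refine ⟨1, ?_⟩
        show ((d⁻¹ : G) : G ⧸ K) = (g : G ⧸ K)
        rw [QuotientGroup.eq, inv_inv]; exact h
      · refine ⟨2, ?_⟩
        show (((d * e)⁻¹ : G) : G ⧸ K) = (g : G ⧸ K)
        rw [QuotientGroup.eq, inv_inv]; exact h
      · refine ⟨3, ?_⟩
        show (((d * e * b)⁻¹ : G) : G ⧸ K) = (g : G ⧸ K)
        rw [QuotientGroup.eq, inv_inv]; exact h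
      · refine ⟨4, ?_⟩
        show (((d * e * b * c)⁻¹ : G) : G ⧸ K) = (g : G ⧸ K)
        rw [QuotientGroup.eq, inv_inv]; exact h
    have := Nat.card_le_card_of_surjective r hsurj
    rwa [Nat.card_fin] at this
  -- the action on the cosets is faithful
  have hcore : K.normalCore = ⊥ := by
    by_contra hcon
    rw [Subgroup.eq_bot_iff_forall] at hcon
    push Not at hcon
    obtain ⟨g, hg, hg1⟩ := hcon
    have hNn : (K.normalCore).Normal := Subgroup.normalCore_normal K
    obtain ⟨τ, hτ⟩ : ∃ τ, φ τ = g := Subgroup.normalCore_le K hg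
    have hτ1 : τ ≠ 1 := by
      intro h
      apply hg1
      rw [← hτ, h, map_one]
    have hσ : φ (Equiv.swap 0 1 * Equiv.swap 2 3) ∈ K.normalCore := by
      obtain ⟨g₁, g₂, h | h⟩ := s4_normal τ hτ1
      · rw [← h, map_mul, map_mul, map_mul, map_mul, map_mul, map_inv, map_inv, hτ]
        exact mul_mem (hNn.conj_mem _ hg _) (hNn.conj_mem _ hg _)
      · rw [← h, map_mul, map_mul, map_inv, hτ]
        exact hNn.conj_mem _ hg _
    rw [map_mul, hφc, hφe] at hσ
    have h1 : d * (c * e) * d⁻¹ ∈ K := Subgroup.normalCore_le K (hNn.conj_mem _ hσ d)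
    have h2 : d * (c * e) * d⁻¹ = c * (d * e * d⁻¹) := by
      calc d * (c * e) * d⁻¹ = (d * c) * e * d⁻¹ := by group
        _ = (c * d) * e * d⁻¹ := by rw [hdc']
        _ = c * (d * e * d⁻¹) := by group
    rw [h2] at h1
    have h4 : d * e * d⁻¹ ∈ K := by
      have := K.mul_mem (K.inv_mem hcK) h1
      rwa [inv_mul_cancel_left] at this
    rw [fl_third_eq hD heD hd hnced] at h4
    have hdK : d ∈ K := by
      have := K.mul_mem (K.mul_mem (K.inv_mem heK) h4) heK
      have e1 : e⁻¹ * (e * d * e⁻¹) * e = d := by group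
      rwa [e1] at this
    obtain ⟨δ, hδ⟩ : ∃ δ, φ δ = d := hdK
    have h5 : δ * Equiv.swap 0 1 = Equiv.swap 0 1 * δ := by
      apply hφi
      rw [map_mul, map_mul, hδ, hφc]
      exact hdc'
    have h6 : δ * Equiv.swap 1 2 = Equiv.swap 1 2 * δ := by
      apply hφi
      rw [map_mul, map_mul, hδ, hφb]
      exact hdb'
    have h7 : δ * δ = 1 := by
      apply hφi
      rw [map_mul, hδ, map_one]
      exact hd2
    have h8 := s4_cent δ h5 h6 h7
    apply tt_ne_one hD hd
    rw [← hδ, h8, map_one]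
  set ψ : G →* Equiv.Perm (G ⧸ K) := MulAction.toPermHom G (G ⧸ K) with hψ
  have hψi : Function.Injective ψ := by
    rw [← MonoidHom.ker_eq_bot_iff, hψ, ← Subgroup.normalCore_eq_ker]
    exact hcore
  have hGcard : Nat.card G = 24 * K.index := by
    rw [← hKcard]; exact (Subgroup.card_mul_index K).symm
  have hle : Nat.card G ≤ (K.index).factorial := by
    have := Nat.card_le_card_of_injective ψ hψi
    rwa [Nat.card_perm, ← Subgroup.index_eq_card] at this
  have hidx5 : K.index = 5 := by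
    have h0 : K.index ≠ 0 := Subgroup.index_ne_zero_of_finite
    rw [hGcard] at hle
    have h1 : K.index = 1 ∨ K.index = 2 ∨ K.index = 3 ∨ K.index = 4 ∨ K.index = 5 := by omega
    rcases h1 with h | h | h | h | h
    · rw [h] at hle; norm_num [Nat.factorial] at hle
    · rw [h] at hle; norm_num [Nat.factorial] at hle
    · rw [h] at hle; norm_num [Nat.factorial] at hle
    · rw [h] at hle; norm_num [Nat.factorial] at hle
    · exact h
  have hbij : Function.Bijective ψ := by
    apply hψi.bijective_of_nat_card_le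
    rw [Nat.card_perm, ← Subgroup.index_eq_card, hGcard, hidx5]
    norm_num [Nat.factorial]
  have hcard5 : Nat.card (G ⧸ K) = 5 := by rw [← Subgroup.index_eq_card]; exact hidx5
  exact ⟨(MulEquiv.ofBijective ψ hbij).trans (Finite.equivFinOfCardEq hcard5).permCongrHom⟩

end Main

end Cfsg.Agent.Lib.Helper27.TTLoc3B
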