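import Mathlib

/-!
An integrality condition for strongly regular graphs without triangles (helper27): if the
adjacency matrix `A` satisfies `A * A = (k - μ) • 1 - μ • A + μ • J` with constant row sums `k` and
`k`, `μ` odd, then `μ ^ 2 + 4 * (k - μ)` is a perfect square.  Together with some arithmetic of
powers of three.
-/

set_option autoImplicit false

namespace Cfsg.Agent.Lib.Helper27.TTSrg

open Matrix

section Mat

variable {V : Type*} [Fintype V] [DecidableEq V]

theorem det_smul_one_add_smul_ones [Nonempty V] (a b : ℚ) (ha : a ≠ 0) :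
    det (a • (1 : Matrix V V ℚ) + b • (Matrix.of fun _ _ => (1 : ℚ))) =
      a ^ (Fintype.card V - 1) * (a + Fintype.card V * b) := by
  have h1 : a • (1 : Matrix V V ℚ) + b • (Matrix.of fun _ _ => (1 : ℚ)) =
      a • (1 + replicateCol Unit (fun _ : V => b / a) *
        replicateRow Unit (fun _ : V => (1 : ℚ))) := by
    ext i j
    simp only [Matrix.add_apply, Matrix.smul_apply, Matrix.of_apply, Matrix.mul_apply,
      Matrix.replicateCol_apply, Matrix.replicateRow_apply, Finset.univ_unique,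
      Finset.sum_singleton, smul_eq_mul, mul_one, mul_add]
    rw [mul_div_cancel₀ _ ha]
  rw [h1, det_smul, det_one_add_replicateCol_mul_replicateRow]
  have h2 : (fun _ : V => (1 : ℚ)) ⬝ᵥ (fun _ : V => b / a) = Fintype.card V * (b / a) := by
    simp [dotProduct]
  rw [h2]
  obtain ⟨n, hn⟩ : ∃ n, Fintype.card V = n + 1 :=
    Nat.exists_eq_succ_of_ne_zero Fintype.card_ne_zero
  rw [hn, Nat.add_sub_cancel, pow_succ]
  field_simp

theorem sq_of_mul_sq {a b c : ℤ} (hb : b ≠ 0) (h : a * b ^ 2 = c ^ 2) : ∃ t : ℤ, a = t ^ 2 := by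
  have h1 : b ^ 2 ∣ c ^ 2 := ⟨a, by rw [← h]; ring⟩
  have h2 : b ∣ c := (Int.pow_dvd_pow_iff (by norm_num)).mp h1
  obtain ⟨t, rfl⟩ := h2
  refine ⟨t, ?_⟩
  have h3 : b ^ 2 ≠ 0 := pow_ne_zero 2 hb
  have h4 : b ^ 2 * a = b ^ 2 * t ^ 2 := by rw [mul_comm, h]; ring
  exact mul_left_cancel₀ h3 h4

/-- the parameter equation -/
theorem srg_param [Nonempty V] (A : Matrix V V ℤ) (k μ : ℤ)
    (hA : A * A = (k - μ) • (1 : Matrix V V ℤ) - μ • A + μ • (Matrix.of fun _ _ => (1 : ℤ)))
    (hrow : ∀ v, ∑ w, A v w = k) :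
    μ * (Fintype.card V : ℤ) = k * k - k + μ + μ * k := by
  obtain ⟨v⟩ := ‹Nonempty V›
  have h1 : ∑ w, (A * A) v w = k * k := by
    simp only [Matrix.mul_apply]
    rw [Finset.sum_comm]
    simp only [← Finset.mul_sum, hrow]
    rw [← Finset.sum_mul, hrow]
  have h2 : ∑ w, (((k - μ) • (1 : Matrix V V ℤ) - μ • A +
      μ • (Matrix.of fun _ _ => (1 : ℤ)) : Matrix V V ℤ)) v w =
      (k - μ) - μ * k + μ * Fintype.card V := by
    simp only [Matrix.add_apply, Matrix.sub_apply, Matrix.smul_apply, Matrix.of_apply,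
      smul_eq_mul, mul_one, Finset.sum_add_distrib, Finset.sum_sub_distrib, ← Finset.mul_sum, hrow,
      Matrix.one_apply, Finset.sum_ite_eq, Finset.mem_univ, if_true, Finset.sum_const,
      Finset.card_univ, nsmul_eq_mul]
    ring
  rw [hA, h2] at h1
  linarith

theorem srg_disc_isSquare [Nonempty V] (A : Matrix V V ℤ) (k μ : ℤ)
    (hA : A * A = (k - μ) • (1 : Matrix V V ℤ) - μ • A + μ • (Matrix.of fun _ _ => (1 : ℤ)))
    (hrow : ∀ v, ∑ w, A v w = k) (hμ : 0 ≤ μ) (hkμ : μ < k) (hko : Odd k) (hμo : Odd μ) :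
    ∃ s : ℤ, μ ^ 2 + 4 * (k - μ) = s ^ 2 := by
  have hparam := srg_param A k μ hA hrow
  -- the number of vertices is even
  have heven : Even (Fintype.card V : ℤ) := by
    have h1 : Even (k * k - k) := by
      have : k * k - k = k * (k - 1) := by ring
      rw [this]
      exact Int.even_mul_pred_self k
    have h2 : Even (μ + μ * k) := by
      have : μ + μ * k = μ * (1 + k) := by ring
      rw [this]
      exact Even.mul_left (Odd.add_odd odd_one hko) μ
    have h3 : Even (μ * (Fintype.card V : ℤ)) := by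
      rw [hparam, add_assoc]
      exact h1.add h2
    rcases Int.even_mul.mp h3 with h | h
    · exact absurd h (Int.not_even_iff_odd.mpr hμo)
    · exact h
  have hcard : ∃ j : ℕ, Fintype.card V = 2 * j + 2 := by
    have h1 : Even (Fintype.card V) := by exact_mod_cast heven
    obtain ⟨r, hr⟩ := h1
    have h2 : Fintype.card V ≠ 0 := Fintype.card_ne_zero
    refine ⟨r - 1, ?_⟩
    omega
  obtain ⟨j, hj⟩ := hcard
  set disc : ℤ := μ ^ 2 + 4 * (k - μ) with hdisc
  have hdpos : 0 < disc := by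
    have : 0 ≤ μ ^ 2 := sq_nonneg μ
    rw [hdisc]; linarith
  set M : Matrix V V ℤ := (2 : ℤ) • A + μ • (1 : Matrix V V ℤ) with hM
  have hMM : M * M = disc • (1 : Matrix V V ℤ) + (4 * μ) • (Matrix.of fun _ _ => (1 : ℤ)) := by
    have e1 : M * M = (4 : ℤ) • (A * A) + (4 * μ) • A + (μ * μ) • (1 : Matrix V V ℤ) := by
      rw [hM]
      simp only [add_mul, mul_add, Matrix.smul_mul, Matrix.mul_smul, Matrix.one_mul,
        Matrix.mul_one, smul_smul]
      ext i j
      simp only [Matrix.add_apply, Matrix.smul_apply, smul_eq_mul]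
      ring
    rw [e1, hA, hdisc]
    ext i j
    simp only [Matrix.add_apply, Matrix.sub_apply, Matrix.smul_apply, Matrix.of_apply, smul_eq_mul,
      Matrix.one_apply]
    ring
  have hdet : M.det ^ 2 = (disc • (1 : Matrix V V ℤ) +
      (4 * μ) • (Matrix.of fun _ _ => (1 : ℤ))).det := by
    rw [← hMM, det_mul, pow_two]
  -- compute the determinant over the rationals
  have hcast : (((disc • (1 : Matrix V V ℤ) +
      (4 * μ) • (Matrix.of fun _ _ => (1 : ℤ))).det : ℤ) : ℚ) =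
      ((disc : ℚ) • (1 : Matrix V V ℚ) + ((4 * μ : ℤ) : ℚ) • (Matrix.of fun _ _ => (1 : ℚ))).det := by
    rw [Int.cast_det]
    congr 1
    ext i j
    simp only [Matrix.map_apply, Matrix.add_apply, Matrix.smul_apply,
      Matrix.of_apply, smul_eq_mul, Matrix.one_apply]
    split_ifs <;> push_cast <;> ring
  have hdq : (disc : ℚ) ≠ 0 := by exact_mod_cast hdpos.ne'
  rw [det_smul_one_add_smul_ones _ _ hdq] at hcast
  have hkey : M.det ^ 2 = disc ^ (Fintype.card V - 1) * (disc + Fintype.card V * (4 * μ)) := by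
    have : ((M.det ^ 2 : ℤ) : ℚ) =
        ((disc ^ (Fintype.card V - 1) * (disc + Fintype.card V * (4 * μ)) : ℤ) : ℚ) := by
      rw [hdet, hcast]
      push_cast
      ring
    exact_mod_cast this
  have hsq : disc + Fintype.card V * (4 * μ) = (2 * k + μ) ^ 2 := by
    rw [hdisc]
    linear_combination 4 * hparam
  rw [hsq, hj] at hkey
  have e2 : 2 * j + 2 - 1 = 2 * j + 1 := by omega
  rw [e2] at hkey
  have hkey' : disc * (disc ^ j * (2 * k + μ)) ^ 2 = M.det ^ 2 := by
    rw [hkey]; ring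
  have hb : disc ^ j * (2 * k + μ) ≠ 0 := by
    apply mul_ne_zero
    · exact pow_ne_zero _ hdpos.ne'
    · linarith
  exact sq_of_mul_sq hb hkey'

end Mat

section Arith

theorem sq_mod_three (Y : ℤ) : Y ^ 2 % 3 = 0 ∨ Y ^ 2 % 3 = 1 := by
  have h : Y % 3 = 0 ∨ Y % 3 = 1 ∨ Y % 3 = 2 := by omega
  rw [pow_two, Int.mul_emod]
  rcases h with h | h | h <;> rw [h] <;> norm_num

theorem three_pow_sq_aux : ∀ γ : ℕ, ∀ B Y : ℤ, B % 3 = 2 → (3 : ℤ) ^ γ * B = Y ^ 2 → False := by
  intro γ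
  induction γ using Nat.strong_induction_on with
  | _ γ ih =>
    intro B Y hB h
    rcases Nat.eq_zero_or_pos γ with h0 | hpos
    · rw [h0, pow_zero, one_mul] at h
      rcases sq_mod_three Y with h1 | h1 <;> omega
    · have h3 : (3 : ℤ) ∣ Y ^ 2 := by
        rw [← h]
        exact Dvd.dvd.mul_right (dvd_pow_self 3 hpos.ne') B
      have h3' : (3 : ℤ) ∣ Y := Int.prime_three.dvd_of_dvd_pow h3
      obtain ⟨Y', rfl⟩ := h3'
      rcases Nat.lt_or_ge γ 2 with h1 | h2
      · have hγ : γ = 1 := by omega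
        rw [hγ, pow_one] at h
        have : B = 3 * Y' ^ 2 := by linarith [h, (by ring : (3 * Y') ^ 2 = 3 * (3 * Y' ^ 2))]
        omega
      · obtain ⟨γ', rfl⟩ : ∃ γ', γ = γ' + 2 := ⟨γ - 2, by omega⟩
        apply ih γ' (by omega) B Y' hB
        have : (3 : ℤ) ^ (γ' + 2) * B = 9 * (3 ^ γ' * B) := by ring
        rw [this] at h
        have h' : (3 * Y') ^ 2 = 9 * Y' ^ 2 := by ring
        rw [h'] at h
        linarith

theorem pow_eq_one_of_disc_sq {m i : ℕ} (him : i < m) (s : ℤ)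
    (h : ((3 : ℤ) ^ i) ^ 2 + 4 * ((3 : ℤ) ^ m - (3 : ℤ) ^ i) = s ^ 2) : m = 1 := by
  by_contra hm
  rcases Nat.eq_zero_or_pos i with hi | hi
  · rw [hi] at h
    obtain ⟨m', rfl⟩ : ∃ m', m = m' + 2 := ⟨m - 2, by omega⟩
    apply three_pow_sq_aux 1 (12 * 3 ^ m' - 1) s
    · omega
    · rw [← h]; ring
  · obtain ⟨i', rfl⟩ : ∃ i', i = i' + 1 := ⟨i - 1, by omega⟩
    obtain ⟨j', rfl⟩ : ∃ j', m = i' + 1 + (j' + 1) := ⟨m - (i' + 1) - 1, by omega⟩
    apply three_pow_sq_aux (i' + 1) (3 * 3 ^ i' + 12 * 3 ^ j' - 4) s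
    · omega
    · rw [← h]; ring

end Arith

end Cfsg.Agent.Lib.Helper27.TTSrg
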