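import Cfsg.Agent.Lib.Helper27.TTHall
import Cfsg.Agent.Lib.Helper27.TTSrg

/-!
A primitive class of 3-transpositions in which two distinct members commuting with a third one
never commute: every member commutes with exactly three others (helper27).
-/

set_option autoImplicit false

namespace Cfsg.Agent.Lib.Helper27.TTLocal3

open Cfsg Cfsg.Agent.Lib.Helper27 Cfsg.Agent.Lib.Helper27.TTModule
  Cfsg.Agent.Lib.Helper27.TTLocalClass Cfsg.Agent.Lib.Helper27.TTRank3

section Card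

variable {G : Type*}

theorem card_filter_subtype (D : Set G) [Fintype ↥D] (Q : G → Prop) [DecidablePred Q] :
    (Finset.univ.filter (fun w : ↥D => Q (w : G))).card = {g : G | g ∈ D ∧ Q g}.ncard := by
  have h1 : {g : G | g ∈ D ∧ Q g} = Subtype.val '' {w : ↥D | Q (w : G)} := by
    ext g
    constructor
    · rintro ⟨hg, hq⟩
      exact ⟨⟨g, hg⟩, hq, rfl⟩
    · rintro ⟨w, hw, rfl⟩
      exact ⟨w.2, hw⟩
  have h2 : {w : ↥D | Q (w : G)} = ↑(Finset.univ.filter (fun w : ↥D => Q (w : G))) := by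
    ext w
    simp
  rw [h1, Set.ncard_image_of_injective _ Subtype.val_injective, h2, Set.ncard_coe_finset]

end Card

section Count

variable {G : Type*} [Group G] {D : Set G}

theorem loc_ncard_conj (hconj : ∀ g : G, ∀ d ∈ D, g * d * g⁻¹ ∈ D) (g x : G) :
    {z : G | Loc D (g * x * g⁻¹) z}.ncard = {z : G | Loc D x z}.ncard := by
  have himg : {z : G | Loc D (g * x * g⁻¹) z} = (fun z => g * z * g⁻¹) '' {z : G | Loc D x z} := by
    ext z
    constructor
    · intro hz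
      refine ⟨g⁻¹ * z * g, ?_, by group⟩
      have := Loc.conj hconj hz g⁻¹
      have e : g⁻¹ * (g * x * g⁻¹) * g⁻¹⁻¹ = x := by group
      rw [e, inv_inv] at this
      exact this
    · rintro ⟨b, hb, rfl⟩
      exact Loc.conj hconj hb g
  rw [himg]
  apply Set.ncard_image_of_injective
  intro u v huv
  exact mul_left_cancel (mul_right_cancel huv)

theorem F_ncard_conj (hconj : ∀ g : G, ∀ d ∈ D, g * d * g⁻¹ ∈ D) (g x e : G) :
    (F D (g * x * g⁻¹) (g * e * g⁻¹)).ncard = (F D x e).ncard := by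
  have himg : F D (g * x * g⁻¹) (g * e * g⁻¹) = (fun z => g * z * g⁻¹) '' F D x e := by
    ext z
    constructor
    · rintro ⟨hz, hze⟩
      refine ⟨g⁻¹ * z * g, ⟨?_, ?_⟩, by group⟩
      · have := Loc.conj hconj hz g⁻¹
        have e' : g⁻¹ * (g * x * g⁻¹) * g⁻¹⁻¹ = x := by group
        rw [e', inv_inv] at this
        exact this
      · have := (Commute.conj_iff g⁻¹).mpr hze
        have e' : g⁻¹ * (g * e * g⁻¹) * g⁻¹⁻¹ = e := by group
        rw [e', inv_inv] at this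
        exact this
    · rintro ⟨b, ⟨hb, hbe⟩, rfl⟩
      exact ⟨Loc.conj hconj hb g, (Commute.conj_iff g).mpr hbe⟩
  rw [himg]
  apply Set.ncard_image_of_injective
  intro u v huv
  exact mul_left_cancel (mul_right_cancel huv)

end Count

section Main

variable {G : Type*} [Group G] [Finite G] {D : Set G}

/-- the number of common commuting partners of two non-commuting members is constant -/
theorem F_ncard_const (hDs : IsThreeTranspositionSet D)
    (hconj : ∀ g : G, ∀ d ∈ D, g * d * g⁻¹ ∈ D) (hgen : Subgroup.closure D = ⊤)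
    (hprim : Cfsg.IsPrimitiveUnderConj D) (hw : ∃ a ∈ D, ∃ b ∈ D, a ≠ b ∧ Commute a b)
    {x e x' e' : G} (hx : x ∈ D) (he : e ∈ D) (hx' : x' ∈ D) (he' : e' ∈ D)
    (hxe : ¬ Commute x e) (hxe' : ¬ Commute x' e') :
    (F D x' e').ncard = (F D x e).ncard := by
  obtain ⟨g, hg⟩ := hprim.1 x hx x' hx'
  have h1 : ¬ Commute x' (g * e * g⁻¹) := by
    rw [← hg]
    exact fun h => hxe ((Commute.conj_iff g).mp h)
  have h2 := orb_all hDs hconj hgen hprim hw x' hx' _ (hconj g e he) e' he' h1 hxe'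
  rw [F_ncard hconj h2, ← hg, F_ncard_conj hconj]

theorem local_ncard_three (hDs : IsThreeTranspositionSet D)
    (hconj : ∀ g : G, ∀ d ∈ D, g * d * g⁻¹ ∈ D) (hgen : Subgroup.closure D = ⊤)
    (hprim : Cfsg.IsPrimitiveUnderConj D) (hw : ∃ a ∈ D, ∃ b ∈ D, a ≠ b ∧ Commute a b)
    (hindep : ∀ x ∈ D, ∀ y v : G, Loc D x y → Loc D x v → y ≠ v → ¬ Commute y v)
    {x₀ y₀ v₀ : G} (hx₀ : x₀ ∈ D) (hy₀ : Loc D x₀ y₀) (hv₀ : Loc D x₀ v₀) (hyv₀ : y₀ ≠ v₀) :
    ∀ x ∈ D, {z : G | Loc D x z}.ncard = 3 := by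
  classical
  have hy₀D : y₀ ∈ D := hy₀.1
  have hv₀D : v₀ ∈ D := hv₀.1
  have hnc₀ : ¬ Commute y₀ v₀ := hindep x₀ hx₀ y₀ v₀ hy₀ hv₀ hyv₀
  set k : ℕ := {z : G | Loc D x₀ z}.ncard with hk
  have hkall : ∀ x ∈ D, {z : G | Loc D x z}.ncard = k := by
    intro x hx
    obtain ⟨g, hg⟩ := hprim.1 x₀ hx₀ x hx
    rw [← hg, loc_ncard_conj hconj]
  set μ : ℕ := (F D y₀ v₀).ncard with hμ
  have hμall : ∀ x ∈ D, ∀ e ∈ D, ¬ Commute x e → (F D x e).ncard = μ := by
    intro x hx e he hxe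
    exact F_ncard_const hDs hconj hgen hprim hw hy₀D hv₀D hx he hnc₀ hxe
  -- closure under lines
  have hline : ∀ x : G, ∀ a ∈ {z : G | Loc D x z}, ∀ b ∈ {z : G | Loc D x z},
      a * b * a⁻¹ ∈ {z : G | Loc D x z} := by
    intro x a ha b hb
    have := Loc.conj hconj hb a
    rwa [conj_fix ha.2.2.symm] at this
  obtain ⟨m, hm⟩ : ∃ m : ℕ, k = 3 ^ m := by
    apply TTHall.three_pow_card hDs (S := {z : G | Loc D x₀ z}) (fun z hz => hz.1) ⟨y₀, hy₀⟩
    · intro a ha b hb hab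
      exact hindep x₀ hx₀ a b ha hb hab
    · exact hline x₀
  obtain ⟨i, hi⟩ : ∃ i : ℕ, μ = 3 ^ i := by
    apply TTHall.three_pow_card hDs (S := F D y₀ v₀) (fun z hz => hz.1.1)
      ⟨x₀, ⟨hx₀, fun e => hy₀.2.1 e.symm, hy₀.2.2.symm⟩, hv₀.2.2⟩
    · intro a ha b hb hab
      exact hindep y₀ hy₀D a b ha.1 hb.1 hab
    · intro a ha b hb
      refine ⟨hline y₀ a ha.1 b hb.1, ?_⟩
      exact (ha.2.mul_left hb.2).mul_left ha.2.inv_left
  have hμk : μ < k := by
    obtain ⟨b, hb, hbv⟩ := exists_moving hconj hgen hprim hw hy₀D hv₀D hnc₀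
    rw [← hkall y₀ hy₀D, hμ]
    apply Set.ncard_lt_ncard _ (Set.toFinite _)
    refine ⟨fun z hz => hz.1, ?_⟩
    intro hcon
    exact hbv (hcon hb).2
  have him : i < m := by
    rw [hm, hi] at hμk
    exact (Nat.pow_lt_pow_iff_right (by norm_num)).mp hμk
  -- the adjacency matrix of the commuting graph
  haveI : Fintype ↥D := Fintype.ofFinite _
  haveI : Nonempty ↥D := ⟨⟨x₀, hx₀⟩⟩
  set A : Matrix ↥D ↥D ℤ := Matrix.of fun u v =>
    if ((u : G) ≠ (v : G) ∧ Commute (u : G) (v : G)) then 1 else 0 with hA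
  have hrow : ∀ v : ↥D, ∑ w, A v w = (k : ℤ) := by
    intro v
    simp only [hA, Matrix.of_apply]
    rw [Finset.sum_boole, card_filter_subtype D (fun g => (v : G) ≠ g ∧ Commute (v : G) g),
      ← hkall v.1 v.2]
    congr 2
    ext g
    constructor
    · rintro ⟨h1, h2, h3⟩
      exact ⟨h1, fun e => h2 e.symm, h3⟩
    · rintro ⟨h1, h2, h3⟩
      exact ⟨h1, fun e => h2 e.symm, h3⟩
  have hAA : A * A = ((k : ℤ) - (μ : ℤ)) • (1 : Matrix ↥D ↥D ℤ) - (μ : ℤ) • A +
      (μ : ℤ) • (Matrix.of fun _ _ => (1 : ℤ)) := by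
    ext u v
    have hL : (A * A) u v = (({g : G | g ∈ D ∧ (((u : G) ≠ g ∧ Commute (u : G) g) ∧
        (g ≠ (v : G) ∧ Commute g (v : G)))}.ncard : ℕ) : ℤ) := by
      rw [Matrix.mul_apply]
      simp only [hA, Matrix.of_apply, ite_zero_mul_ite_zero, mul_one]
      rw [Finset.sum_boole, card_filter_subtype D (fun g => ((u : G) ≠ g ∧ Commute (u : G) g) ∧
        (g ≠ (v : G) ∧ Commute g (v : G)))]
    rw [hL]
    simp only [Matrix.add_apply, Matrix.sub_apply, Matrix.smul_apply, Matrix.of_apply, smul_eq_mul,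
      Matrix.one_apply, hA]
    by_cases huv : u = v
    · subst huv
      have hset : {g : G | g ∈ D ∧ (((u : G) ≠ g ∧ Commute (u : G) g) ∧
          (g ≠ (u : G) ∧ Commute g (u : G)))} = {z : G | Loc D (u : G) z} := by
        ext g
        constructor
        · rintro ⟨h1, ⟨-, h3⟩, h4, -⟩
          exact ⟨h1, h4, h3⟩
        · rintro ⟨h1, h2, h3⟩
          exact ⟨h1, ⟨fun e => h2 e.symm, h3⟩, h2, h3.symm⟩
      rw [hset, hkall u.1 u.2]
      simp
    · have huv' : (u : G) ≠ (v : G) := fun e => huv (Subtype.ext e)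
      by_cases hc : Commute (u : G) (v : G)
      · have hset : {g : G | g ∈ D ∧ (((u : G) ≠ g ∧ Commute (u : G) g) ∧
            (g ≠ (v : G) ∧ Commute g (v : G)))} = ∅ := by
          ext g
          simp only [Set.mem_ofPred_eq, Set.mem_empty_iff_false, iff_false]
          rintro ⟨h1, ⟨h2, h3⟩, h4, h5⟩
          exact hindep g h1 u v ⟨u.2, h2, h3.symm⟩ ⟨v.2, fun e => h4 e.symm, h5⟩ huv' hc
        rw [hset, Set.ncard_empty]
        simp [huv, huv', hc]
      · have hset : {g : G | g ∈ D ∧ (((u : G) ≠ g ∧ Commute (u : G) g) ∧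
            (g ≠ (v : G) ∧ Commute g (v : G)))} = F D (u : G) (v : G) := by
          ext g
          constructor
          · rintro ⟨h1, ⟨h2, h3⟩, -, h5⟩
            exact ⟨⟨h1, fun e => h2 e.symm, h3⟩, h5⟩
          · rintro ⟨⟨h1, h2, h3⟩, h5⟩
            refine ⟨h1, ⟨fun e => h2 e.symm, h3⟩, ?_, h5⟩
            intro e
            rw [e] at h3
            exact hc h3
        rw [hset, hμall u.1 u.2 v.1 v.2 hc]
        simp [huv, hc]
  have hko : Odd (k : ℤ) := by
    rw [hm]; push_cast; exact Odd.pow (by decide)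
  have hμo : Odd (μ : ℤ) := by
    rw [hi]; push_cast; exact Odd.pow (by decide)
  obtain ⟨s, hs⟩ := TTSrg.srg_disc_isSquare A (k : ℤ) (μ : ℤ) hAA hrow (by positivity)
    (by exact_mod_cast hμk) hko hμo
  rw [hm, hi] at hs
  push_cast at hs
  have hm1 : m = 1 := TTSrg.pow_eq_one_of_disc_sq him s hs
  intro x hx
  rw [hkall x hx, hm, hm1, pow_one]

end Main

end Cfsg.Agent.Lib.Helper27.TTLocal3
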