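import Cfsg.Agent.Lib.Helper27.TTModule

/-!
The members of a primitive class of 3-transpositions commuting with a given one: the graph of
non-commuting pairs among them is connected, hence they form a single class of the subgroup they
generate (helper27).
-/

set_option autoImplicit false

namespace Cfsg.Agent.Lib.Helper27.TTLocalClass

open Cfsg Cfsg.Agent.Lib.Helper27 Cfsg.Agent.Lib.Helper27.TTModule

section Defs

variable {G : Type*} [Group G]

/-- membership among the members of `D` other than `u` commuting with `u` -/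
def Loc (D : Set G) (u a : G) : Prop := a ∈ D ∧ a ≠ u ∧ Commute u a

/-- two non-commuting members of the local set of `u` -/
def NC (D : Set G) (u a b : G) : Prop := Loc D u a ∧ Loc D u b ∧ ¬ Commute a b

/-- joined by a path of non-commuting pairs inside the local set of `u` -/
def Conn (D : Set G) (u a b : G) : Prop := Relation.ReflTransGen (NC D u) a b

variable {D : Set G}

theorem NC.symm {u a b : G} (h : NC D u a b) : NC D u b a :=
  ⟨h.2.1, h.1, fun hc => h.2.2 hc.symm⟩

theorem Conn.symm {u a b : G} (h : Conn D u a b) : Conn D u b a := by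
  induction h with
  | refl => exact Relation.ReflTransGen.refl
  | tail _ hbc ih => exact Relation.ReflTransGen.head hbc.symm ih

theorem Conn.trans {u a b c : G} (h : Conn D u a b) (h' : Conn D u b c) : Conn D u a c :=
  Relation.ReflTransGen.trans h h'

theorem Conn.refl (u a : G) : Conn D u a a := Relation.ReflTransGen.refl

theorem NC.conn {u a b : G} (h : NC D u a b) : Conn D u a b := Relation.ReflTransGen.single h

theorem Conn.loc {u a b : G} (h : Conn D u a b) (ha : Loc D u a) : Loc D u b := by
  induction h with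
  | refl => exact ha
  | tail _ hbc _ => exact hbc.2.1

theorem Loc.conj (hconj : ∀ g : G, ∀ d ∈ D, g * d * g⁻¹ ∈ D) {u a : G} (h : Loc D u a) (g : G) :
    Loc D (g * u * g⁻¹) (g * a * g⁻¹) := by
  refine ⟨hconj g a h.1, ?_, (Commute.conj_iff g).mpr h.2.2⟩
  intro e
  apply h.2.1
  have := congrArg (fun t => g⁻¹ * t * g) e
  simpa [mul_assoc] using this

theorem NC.conj (hconj : ∀ g : G, ∀ d ∈ D, g * d * g⁻¹ ∈ D) {u a b : G} (h : NC D u a b) (g : G) :
    NC D (g * u * g⁻¹) (g * a * g⁻¹) (g * b * g⁻¹) :=
  ⟨h.1.conj hconj g, h.2.1.conj hconj g, fun hc => h.2.2 ((Commute.conj_iff g).mp hc)⟩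

theorem Conn.conj (hconj : ∀ g : G, ∀ d ∈ D, g * d * g⁻¹ ∈ D) {u a b : G} (h : Conn D u a b)
    (g : G) : Conn D (g * u * g⁻¹) (g * a * g⁻¹) (g * b * g⁻¹) := by
  induction h with
  | refl => exact Relation.ReflTransGen.refl
  | tail _ hbc ih => exact Relation.ReflTransGen.tail ih (hbc.conj hconj g)

/-- two non-commuting 3-transpositions are conjugate by their product -/
theorem conj_eq_of_not_commute (hDs : IsThreeTranspositionSet D) {b c : G} (hb : b ∈ D) (hc : c ∈ D)
    (hnc : ¬ Commute b c) : (b * c) * b * (b * c)⁻¹ = c := by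
  have hb2 : b * b = 1 := tt_sq hDs hb
  have hc2 : c * c = 1 := tt_sq hDs hc
  have h3 : (b * c) ^ 3 = 1 := by
    rcases hDs.2 b hb c hc with h | h
    · exfalso
      apply hnc
      show b * c = c * b
      have h1 : b * c * (b * c) = 1 := by rw [← pow_two]; exact h
      calc b * c = b * c * (b * c) * (c⁻¹ * b⁻¹) := by group
        _ = c * b := by rw [h1, one_mul, tt_inv hDs hb, tt_inv hDs hc]
    · exact h
  have h3' : (b * c) * (b * c) * (b * c) = 1 := by rw [← h3, pow_succ, pow_two]
  rw [mul_inv_rev, tt_inv hDs hb, tt_inv hDs hc]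
  have h6 : b * c * b * (c * b) * c = 1 := by rw [← h3']; simp only [mul_assoc]
  calc b * c * b * (c * b) = b * c * b * (c * b) * c * c⁻¹ := by group
    _ = c := by rw [h6, one_mul, tt_inv hDs hc]

/-- members joined by a path are conjugate under the subgroup generated by the local set -/
theorem exists_conj_of_conn (hDs : IsThreeTranspositionSet D) {x a b : G} (h : Conn D x a b) :
    ∃ g ∈ Subgroup.closure {y : G | y ∈ D ∧ y ≠ x ∧ Commute x y}, g * a * g⁻¹ = b := by
  induction h with
  | refl => exact ⟨1, Subgroup.one_mem _, by group⟩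
  | @tail b' c _ hbc ih =>
    obtain ⟨g, hg, hgab⟩ := ih
    refine ⟨(b' * c) * g, ?_, ?_⟩
    · exact Subgroup.mul_mem _ (Subgroup.mul_mem _ (Subgroup.subset_closure hbc.1)
        (Subgroup.subset_closure hbc.2.1)) hg
    · have := conj_eq_of_not_commute hDs hbc.1.1 hbc.2.1.1 hbc.2.2
      have e : b' * c * g * a * (b' * c * g)⁻¹ = (b' * c) * (g * a * g⁻¹) * (b' * c)⁻¹ := by group
      rw [e, hgab]
      exact this

end Defs

section CW

variable {G : Type*} [Group G] {D : Set G}

/-- a member commuting with a whole co-component of the local set of `u` commutes with `u` -/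
theorem commute_of_commute_component [Finite G] (hDs : IsThreeTranspositionSet D)
    (hconj : ∀ g : G, ∀ d ∈ D, g * d * g⁻¹ ∈ D) (hgen : Subgroup.closure D = ⊤)
    (hprim : Cfsg.IsPrimitiveUnderConj D) (hw : ∃ a ∈ D, ∃ b ∈ D, a ≠ b ∧ Commute a b) {u : G}
    (hu : u ∈ D) (W : Set G) (hWne : W.Nonempty) (hWsub : ∀ w ∈ W, Loc D u w)
    (hWcl : ∀ a ∈ W, ∀ b : G, Loc D u b → ¬ Commute a b → b ∈ W) {v : G} (hv : v ∈ D)
    (hvW : ∀ w ∈ W, Commute v w) : Commute v u := by
  set N : Set G := {v' : G | v' ∈ D ∧ ∀ w ∈ W, Commute v' w} with hN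
  have hND : ∀ z ∈ N ∪ W, z ∈ D := by
    rintro z (hz | hz)
    · exact hz.1
    · exact (hWsub z hz).1
  have hH : Cfsg.IsDSubgroup D (Subgroup.closure (N ∪ W)) := by
    unfold Cfsg.IsDSubgroup
    apply le_antisymm
    · rw [Subgroup.closure_le]
      intro d hd
      exact hd.2
    · apply Subgroup.closure_mono
      intro z hz
      exact ⟨hND z hz, Subgroup.subset_closure hz⟩
  have hle : Subgroup.closure {y : G | y ∈ D ∧ Commute u y} ≤ Subgroup.closure (N ∪ W) := by
    apply Subgroup.closure_mono
    intro y hy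
    by_cases hyW : y ∈ W
    · exact Or.inr hyW
    · left
      refine ⟨hy.1, ?_⟩
      intro w hw
      by_cases hyu : y = u
      · rw [hyu]; exact (hWsub w hw).2.2
      · by_contra hnc
        exact hyW (hWcl w hw y ⟨hy.1, hyu, hy.2⟩ (fun hc => hnc hc.symm))
  rcases perp_maximal hDs hconj hgen hprim hw hu _ hH hle with h | h
  · have hvH : v ∈ Subgroup.closure (N ∪ W) := Subgroup.subset_closure (Or.inl ⟨hv, hvW⟩)
    rw [h] at hvH
    have hcent : Subgroup.closure {y : G | y ∈ D ∧ Commute u y} ≤ Subgroup.centralizer {u} := by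
      rw [Subgroup.closure_le]
      intro y hy
      rw [SetLike.mem_coe, Subgroup.mem_centralizer_iff]
      intro t ht
      rw [Set.mem_singleton_iff] at ht
      rw [ht]
      exact hy.2.eq
    have := hcent hvH
    rw [Subgroup.mem_centralizer_iff] at this
    exact (this u rfl).symm
  · exfalso
    -- the co-component is closed under conjugation by the generators, hence by the whole group
    have hgenW : ∀ z ∈ N ∪ W, ∀ w ∈ W, z * w * z⁻¹ ∈ W := by
      rintro z (hz | hz) w hw
      · have : z * w * z⁻¹ = w := by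
          rw [(hz.2 w hw).eq, mul_inv_cancel_right]
        rw [this]; exact hw
      · by_cases hc : Commute z w
        · have : z * w * z⁻¹ = w := by
            rw [hc.eq, mul_inv_cancel_right]
          rw [this]; exact hw
        · apply hWcl z hz
          · have hzu : z * u * z⁻¹ = u := by
              rw [← (hWsub z hz).2.2.eq, mul_inv_cancel_right]
            have := (hWsub w hw).conj hconj z
            rwa [hzu] at this
          · intro hc'
            apply hc
            have e : z = z * z * z⁻¹ := by group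
            have : Commute (z * z * z⁻¹) (z * w * z⁻¹) := by rw [← e]; exact hc'
            exact (Commute.conj_iff z).mp this
    have hall2 : ∀ g ∈ Subgroup.closure (N ∪ W), ∀ w ∈ W, g * w * g⁻¹ ∈ W ∧ g⁻¹ * w * g ∈ W := by
      intro g hg
      refine Subgroup.closure_induction (p := fun g _ => ∀ w ∈ W, g * w * g⁻¹ ∈ W ∧ g⁻¹ * w * g ∈ W)
        ?_ ?_ ?_ ?_ hg
      · intro z hz w hw
        have h1 := hgenW z hz w hw
        have hzi : z⁻¹ = z := tt_inv hDs (hND z hz)
        refine ⟨h1, ?_⟩
        have : z⁻¹ * w * z = z * w * z⁻¹ := by rw [hzi]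
        rw [this]; exact h1
      · intro w hw
        simpa using hw
      · intro a b _ _ ha hb w hw
        refine ⟨?_, ?_⟩
        · have := (ha _ (hb w hw).1).1
          have e : a * b * w * (a * b)⁻¹ = a * (b * w * b⁻¹) * a⁻¹ := by group
          rw [e]; exact this
        · have := (hb _ (ha w hw).2).2
          have e : (a * b)⁻¹ * w * (a * b) = b⁻¹ * (a⁻¹ * w * a) * b := by group
          rw [e]; exact this
      · intro a _ ha w hw
        refine ⟨?_, ?_⟩
        · have := (ha w hw).2
          rwa [inv_inv]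
        · have := (ha w hw).1
          rwa [inv_inv]
    obtain ⟨w₀, hw₀⟩ := hWne
    obtain ⟨g, hg⟩ := hprim.1 w₀ (hWsub w₀ hw₀).1 u hu
    have hgH : g ∈ Subgroup.closure (N ∪ W) := by rw [h]; exact Subgroup.mem_top g
    have := (hall2 g hgH w₀ hw₀).1
    rw [hg] at this
    exact (hWsub u this).2.1 rfl

end CW

section Main

variable {G : Type*} [Group G] {D : Set G}

theorem no_bad_pair [Finite G] (hDs : IsThreeTranspositionSet D)
    (hconj : ∀ g : G, ∀ d ∈ D, g * d * g⁻¹ ∈ D) (hgen : Subgroup.closure D = ⊤)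
    (hprim : Cfsg.IsPrimitiveUnderConj D) (hw : ∃ a ∈ D, ∃ b ∈ D, a ≠ b ∧ Commute a b) :
    ∀ n : ℕ, ∀ d y : G, d ∈ D → Loc D d y → (∃ b : G, Loc D d b ∧ ¬ Conn D d y b) →
      {z : G | Conn D d y z}.ncard = n → False := by
  intro n
  induction n using Nat.strong_induction_on with
  | _ n ih =>
    intro d y hd hy hbad hcard
    obtain ⟨b, hb, hyb⟩ := hbad
    have hyD : y ∈ D := hy.1
    obtain ⟨g, hg⟩ := hprim.1 d hd y hyD
    -- the local set of `y` is disconnected as well
    have hy' : Loc D y (g * y * g⁻¹) := by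
      have := hy.conj hconj g
      rwa [hg] at this
    have hb' : Loc D y (g * b * g⁻¹) := by
      have := hb.conj hconj g
      rwa [hg] at this
    have hnc' : ¬ Conn D y (g * y * g⁻¹) (g * b * g⁻¹) := by
      intro hc
      apply hyb
      have := hc.conj hconj g⁻¹
      have e1 : g⁻¹ * y * g⁻¹⁻¹ = d := by rw [← hg]; group
      have e2 : g⁻¹ * (g * y * g⁻¹) * g⁻¹⁻¹ = y := by group
      have e3 : g⁻¹ * (g * b * g⁻¹) * g⁻¹⁻¹ = b := by group
      rwa [e1, e2, e3] at this
    have hdy : Loc D y d := ⟨hd, fun e => hy.2.1 e.symm, hy.2.2.symm⟩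
    have hex : ∃ z₀ : G, Loc D y z₀ ∧ ¬ Conn D y d z₀ := by
      by_contra hcon
      push Not at hcon
      exact hnc' ((hcon _ hy').symm.trans (hcon _ hb'))
    obtain ⟨z₀, hz₀, hdz₀⟩ := hex
    -- the co-component of `z₀` in the local set of `y` lies in the local set of `d`
    have hZ : ∀ z : G, Conn D y z₀ z → Loc D y z ∧ Loc D d z := by
      intro z hz
      have h1 : Loc D y z := hz.loc hz₀
      refine ⟨h1, h1.1, ?_, ?_⟩
      · intro e
        rw [e] at hz
        exact hdz₀ hz.symm
      · by_contra hnc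
        apply hdz₀
        have : NC D y z d := ⟨h1, hdy, fun hc => hnc hc.symm⟩
        exact (hz.trans this.conn).symm
    have hZd : ∀ z : G, Conn D y z₀ z → Conn D d z₀ z := by
      intro z hz
      induction hz with
      | refl => exact Conn.refl _ _
      | tail hab hbc ih =>
        exact Relation.ReflTransGen.tail ih
          ⟨(hZ _ hab).2, (hZ _ (Relation.ReflTransGen.tail hab hbc)).2, hbc.2.2⟩
    by_cases hcase : Conn D d y z₀
    · -- the co-component is smaller: contradiction with minimality
      have hsub : {z : G | Conn D y z₀ z} ⊂ {z : G | Conn D d y z} := by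
        refine ⟨?_, ?_⟩
        · intro z hz
          exact hcase.trans (hZd z hz)
        · intro hcon
          have : y ∈ {z : G | Conn D y z₀ z} := hcon (Conn.refl d y)
          exact (hZ y this).1.2.1 rfl
      have hlt := Set.ncard_lt_ncard hsub (Set.toFinite _)
      rw [hcard] at hlt
      exact ih _ hlt y z₀ hyD hz₀ ⟨d, hdy, fun hc => hdz₀ hc.symm⟩ rfl
    · -- a common co-component: twins
      have hz₀d : Loc D d z₀ := (hZ z₀ (Conn.refl _ _)).2
      have hW : ∀ w : G, Conn D d z₀ w → Loc D d w ∧ Loc D y w := by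
        intro w hw'
        have h1 : Loc D d w := hw'.loc hz₀d
        refine ⟨h1, h1.1, ?_, ?_⟩
        · intro e
          rw [e] at hw'
          exact hcase hw'.symm
        · by_contra hnc
          apply hcase
          have : NC D d w y := ⟨h1, hy, fun hc => hnc hc.symm⟩
          exact (hw'.trans this.conn).symm
      have hWy : ∀ w : G, Conn D d z₀ w → Conn D y z₀ w := by
        intro w hw'
        induction hw' with
        | refl => exact Conn.refl _ _
        | tail hab hbc ih =>
          exact Relation.ReflTransGen.tail ih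
            ⟨(hW _ hab).2, (hW _ (Relation.ReflTransGen.tail hab hbc)).2, hbc.2.2⟩
      have hWne : ({w : G | Conn D d z₀ w}).Nonempty := ⟨z₀, Conn.refl _ _⟩
      have hcl_d : ∀ a ∈ {w : G | Conn D d z₀ w}, ∀ b : G, Loc D d b → ¬ Commute a b →
          b ∈ {w : G | Conn D d z₀ w} := by
        intro a ha b hb hnc
        exact Relation.ReflTransGen.tail ha ⟨(hW a ha).1, hb, hnc⟩
      have hcl_y : ∀ a ∈ {w : G | Conn D d z₀ w}, ∀ b : G, Loc D y b → ¬ Commute a b →
          b ∈ {w : G | Conn D d z₀ w} := by
        intro a ha b hb hnc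
        have : Conn D y z₀ b := Relation.ReflTransGen.tail (hWy a ha) ⟨(hW a ha).2, hb, hnc⟩
        exact hZd b this
      have htwin : Twin D d y := by
        refine ⟨hd, hyD, ?_⟩
        intro v hv hvd hvy
        constructor
        · intro hc
          by_cases hvW : v ∈ {w : G | Conn D d z₀ w}
          · exact (hW v hvW).2.2.2.symm
          · apply commute_of_commute_component hDs hconj hgen hprim hw hyD _ hWne
              (fun w hw' => (hW w hw').2) hcl_y hv
            intro w hw'
            by_contra hnc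
            exact hvW (hcl_d w hw' v ⟨hv, hvd, hc.symm⟩ (fun h => hnc h.symm))
        · intro hc
          by_cases hvW : v ∈ {w : G | Conn D d z₀ w}
          · exact (hW v hvW).1.2.2.symm
          · apply commute_of_commute_component hDs hconj hgen hprim hw hd _ hWne
              (fun w hw' => (hW w hw').1) hcl_d hv
            intro w hw'
            by_contra hnc
            exact hvW (hcl_y w hw' v ⟨hv, hvy, hc.symm⟩ (fun h => hnc h.symm))
      exact no_twins hconj hgen hprim hw (fun e => hy.2.1 e.symm) htwin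

/-- in a primitive class with a commuting pair, the members commuting with `x` are joined by
paths of non-commuting pairs -/
theorem conn_of_prim [Finite G] (hDs : IsThreeTranspositionSet D)
    (hconj : ∀ g : G, ∀ d ∈ D, g * d * g⁻¹ ∈ D) (hgen : Subgroup.closure D = ⊤)
    (hprim : Cfsg.IsPrimitiveUnderConj D) (hw : ∃ a ∈ D, ∃ b ∈ D, a ≠ b ∧ Commute a b) {x a b : G}
    (hx : x ∈ D) (ha : Loc D x a) (hb : Loc D x b) : Conn D x a b := by
  by_contra h
  exact no_bad_pair hDs hconj hgen hprim hw _ x a hx ha ⟨b, hb, h⟩ rfl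

/-- **Single class.** -/
theorem single_class [Finite G] (hDs : IsThreeTranspositionSet D)
    (hconj : ∀ g : G, ∀ d ∈ D, g * d * g⁻¹ ∈ D) (hgen : Subgroup.closure D = ⊤)
    (hprim : Cfsg.IsPrimitiveUnderConj D) (hw : ∃ a ∈ D, ∃ b ∈ D, a ≠ b ∧ Commute a b) {x : G}
    (hx : x ∈ D) : ∀ y ∈ {y : G | y ∈ D ∧ y ≠ x ∧ Commute x y},
      ∀ y' ∈ {y : G | y ∈ D ∧ y ≠ x ∧ Commute x y},
      ∃ g ∈ Subgroup.closure {y : G | y ∈ D ∧ y ≠ x ∧ Commute x y}, g * y * g⁻¹ = y' := by
  intro y hy y' hy'
  exact exists_conj_of_conn hDs (conn_of_prim hDs hconj hgen hprim hw hx hy hy')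

end Main

end Cfsg.Agent.Lib.Helper27.TTLocalClass
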