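import Cfsg.Agent.Lib.Helper27.TTPrim2
import Cfsg.Agent.S5344

/-!
Homogeneous sets ("modules") of the commuting relation on a class of 3-transpositions (helper27).
A primitive action admits no homogeneous set with at least two members other than the whole class;
this gives the maximality of the subgroup generated by the members commuting with a given one.
-/

set_option autoImplicit false

namespace Cfsg.Agent.Lib.Helper27.TTModule

open Cfsg Cfsg.Agent.Lib.Helper27 Cfsg.Agent.Lib.Helper27.TTPrim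

section Mod

variable {G : Type*} [Group G] {D : Set G}

/-- a homogeneous set of the commuting relation on `D` -/
def IsModule (D M : Set G) : Prop :=
  M ⊆ D ∧ ∀ z ∈ D, z ∉ M → ∀ x ∈ M, ∀ y ∈ M, Commute z x → Commute z y

theorem commute_conj_inv {g a b : G} : Commute (g⁻¹ * a * g) (g⁻¹ * b * g) ↔ Commute a b := by
  have := Commute.conj_iff (a := a) (b := b) g⁻¹
  rwa [inv_inv] at this

theorem IsModule.cj (hconj : ∀ g : G, ∀ d ∈ D, g * d * g⁻¹ ∈ D) {M : Set G} (hM : IsModule D M)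
    (g : G) : IsModule D (cj g M) := by
  refine ⟨?_, ?_⟩
  · intro x hx
    rw [mem_cj] at hx
    have := hconj g _ (hM.1 hx)
    have e : g * (g⁻¹ * x * g) * g⁻¹ = x := by group
    rwa [e] at this
  · intro z hz hzM x hx y hy hc
    rw [mem_cj] at hx hy hzM
    have hz' : g⁻¹ * z * g ∈ D := by
      have := hconj g⁻¹ z hz
      rwa [inv_inv] at this
    have := hM.2 _ hz' hzM _ hx _ hy (commute_conj_inv.mpr hc)
    exact commute_conj_inv.mp this

theorem IsModule.inter {M M' : Set G} (hM : IsModule D M) (hM' : IsModule D M') :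
    IsModule D (M ∩ M') := by
  refine ⟨fun x hx => hM.1 hx.1, ?_⟩
  intro z hz hzI x hx y hy hc
  by_cases h : z ∈ M
  · have : z ∉ M' := fun h' => hzI ⟨h, h'⟩
    exact hM'.2 z hz this x hx.2 y hy.2 hc
  · exact hM.2 z hz h x hx.1 y hy.1 hc

theorem IsModule.diff {M M' : Set G} (hM : IsModule D M) (hM' : IsModule D M') {y : G}
    (hy : y ∈ M') (hyM : y ∉ M) : IsModule D (M \ M') := by
  refine ⟨fun x hx => hM.1 hx.1, ?_⟩
  intro z hz hzA m₁ hm₁ m₂ hm₂ hc
  by_cases h : z ∈ M
  · have hzM' : z ∈ M' := by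
      by_contra h'
      exact hzA ⟨h, h'⟩
    have h1 : Commute m₁ y := hM'.2 m₁ (hM.1 hm₁.1) hm₁.2 z hzM' y hy hc.symm
    have h2 : Commute y m₂ := hM.2 y (hM'.1 hy) hyM m₁ hm₁.1 m₂ hm₂.1 h1.symm
    have h3 : Commute m₂ z := hM'.2 m₂ (hM.1 hm₂.1) hm₂.2 y hy z hzM' h2.symm
    exact h3.symm
  · exact hM.2 z hz h m₁ hm₁.1 m₂ hm₂.1 hc

/-- twins: two members related in the same way to every other member -/
def Twin (D : Set G) (x y : G) : Prop :=
  x ∈ D ∧ y ∈ D ∧ ∀ z ∈ D, z ≠ x → z ≠ y → (Commute z x ↔ Commute z y)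

theorem Twin.symm {x y : G} (h : Twin D x y) : Twin D y x :=
  ⟨h.2.1, h.1, fun z hz h1 h2 => (h.2.2 z hz h2 h1).symm⟩

theorem Twin.trans {x y z : G} (h : Twin D x y) (h' : Twin D y z) : Twin D x z := by
  by_cases hxy : x = y
  · rw [hxy]; exact h'
  by_cases hyz : y = z
  · rw [← hyz]; exact h
  by_cases hxz : x = z
  · rw [← hxz]; exact ⟨h.1, h.1, fun _ _ _ _ => Iff.rfl⟩
  refine ⟨h.1, h'.2.1, ?_⟩
  intro w hw hwx hwz
  by_cases hwy : w = y
  · rw [hwy]
    have e1 : Commute z x ↔ Commute z y := h.2.2 z h'.2.1 (fun e => hxz e.symm) (fun e => hyz e.symm)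
    have e2 : Commute x y ↔ Commute x z := h'.2.2 x h.1 hxy hxz
    constructor
    · intro hc
      exact (e1.mp (e2.mp hc.symm).symm).symm
    · intro hc
      exact (e2.mpr (e1.mpr hc.symm).symm).symm
  · exact (h.2.2 w hw hwx hwy).trans (h'.2.2 w hw hwy hwz)

theorem Twin.conj (hconj : ∀ g : G, ∀ d ∈ D, g * d * g⁻¹ ∈ D) {x y : G} (h : Twin D x y) (g : G) :
    Twin D (g * x * g⁻¹) (g * y * g⁻¹) := by
  refine ⟨hconj g x h.1, hconj g y h.2.1, ?_⟩
  intro z hz hzx hzy
  have hz' : g⁻¹ * z * g ∈ D := by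
    have := hconj g⁻¹ z hz
    rwa [inv_inv] at this
  have h1 : g⁻¹ * z * g ≠ x := by
    intro e
    apply hzx
    rw [← e]; group
  have h2 : g⁻¹ * z * g ≠ y := by
    intro e
    apply hzy
    rw [← e]; group
  have key := h.2.2 _ hz' h1 h2
  have ex : ∀ u : G, Commute z (g * u * g⁻¹) ↔ Commute (g⁻¹ * z * g) u := by
    intro u
    have := commute_conj_inv (g := g) (a := z) (b := g * u * g⁻¹)
    have e : g⁻¹ * (g * u * g⁻¹) * g = u := by group
    rw [e] at this
    exact this.symm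
  rw [ex x, ex y]
  exact key

end Mod

section Prim

variable {G : Type*} [Group G] {D : Set G}

/-- a primitive class with a commuting pair has no twins -/
theorem no_twins (hconj : ∀ g : G, ∀ d ∈ D, g * d * g⁻¹ ∈ D) (hgen : Subgroup.closure D = ⊤)
    (hprim : Cfsg.IsPrimitiveUnderConj D) (hw : ∃ a ∈ D, ∃ b ∈ D, a ≠ b ∧ Commute a b) {x m : G}
    (hxm : x ≠ m) (ht : Twin D x m) : False := by
  obtain ⟨hall, hD2, hblk⟩ := hprim
  have hB := TTPrim2.isBlock_of_equiv hconj (fun u v => Twin D u v) (fun u v h => h.symm)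
    (fun u v w h h' => h.trans h') (fun g u v h => h.conj hconj g) x
  have hBD : {v : G | v ∈ D ∧ Twin D v x} ⊆ D := fun v hv => hv.1
  have hxB : x ∈ {v : G | v ∈ D ∧ Twin D v x} :=
    ⟨ht.1, ht.1, ht.1, fun _ _ _ _ => Iff.rfl⟩
  have hmB : m ∈ {v : G | v ∈ D ∧ Twin D v x} := ⟨ht.2.1, ht.symm⟩
  rcases hblk _ hBD hB with h | h
  · exact hxm (h hxB hmB)
  · obtain ⟨a, ha, b, hb, hab, hc⟩ := hw
    have htw : ∀ v ∈ D, Twin D v x := by
      intro v hv
      have : v ∈ {v : G | v ∈ D ∧ Twin D v x} := by rw [h]; exact hv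
      exact this.2
    have hca : ∀ w ∈ D, Commute a w := by
      intro w hw
      by_cases hwa : w = a
      · rw [hwa]
      by_cases hwb : w = b
      · rw [hwb]; exact hc
      have hbw : Twin D b w := (htw b hb).trans (htw w hw).symm
      exact (hbw.2.2 a ha hab (fun e => hwa e.symm)).mp hc
    have hle : (⊤ : Subgroup G) ≤ Subgroup.centralizer {a} := by
      rw [← hgen, Subgroup.closure_le]
      intro w hw
      rw [SetLike.mem_coe, Subgroup.mem_centralizer_iff]
      intro y hy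
      rw [Set.mem_singleton_iff] at hy
      rw [hy]
      exact (hca w hw).eq
    obtain ⟨g, hg⟩ := hall a ha b hb
    have hgc : g ∈ Subgroup.centralizer {a} := hle (Subgroup.mem_top g)
    rw [Subgroup.mem_centralizer_iff] at hgc
    have := hgc a rfl
    apply hab
    rw [← hg, ← this, mul_inv_cancel_right]

/-- a primitive class with a commuting pair has no proper homogeneous set with two members -/
theorem no_module [Finite G] (hconj : ∀ g : G, ∀ d ∈ D, g * d * g⁻¹ ∈ D)
    (hgen : Subgroup.closure D = ⊤)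
    (hprim : Cfsg.IsPrimitiveUnderConj D) (hw : ∃ a ∈ D, ∃ b ∈ D, a ≠ b ∧ Commute a b) :
    ∀ n : ℕ, ∀ M : Set G, M.ncard ≤ n → IsModule D M → M.Nontrivial → M ≠ D → False := by
  intro n
  induction n with
  | zero =>
    intro M hn _ hnt _
    have := (Set.one_lt_ncard_iff_nontrivial).mpr hnt
    omega
  | succ n ih =>
    intro M hn hM hnt hne
    by_cases hB : IsBlock M
    · rcases hprim.2.2 M hM.1 hB with h | h
      · exact (Set.not_subsingleton_iff.mpr hnt) h
      · exact hne h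
    · unfold IsBlock at hB
      push Not at hB
      obtain ⟨g, hg1, hg2⟩ := hB
      have hM' : IsModule D (cj g M) := hM.cj hconj g
      have hcard : (cj g M).ncard = M.ncard := by
        unfold TTPrim.cj
        apply Set.ncard_image_of_injective
        intro u v huv
        exact mul_left_cancel (mul_right_cancel huv)
      obtain ⟨x, hxM', hxM⟩ := Set.not_disjoint_iff.mp hg2
      -- a member of `M` outside the conjugate, and conversely
      have hex1 : ∃ m, m ∈ M ∧ m ∉ cj g M := by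
        by_contra hcon
        push Not at hcon
        have hsub : M ⊆ cj g M := hcon
        apply hg1
        exact (Set.eq_of_subset_of_ncard_le hsub (le_of_eq hcard) (Set.toFinite _)).symm
      have hex2 : ∃ y, y ∈ cj g M ∧ y ∉ M := by
        by_contra hcon
        push Not at hcon
        have hsub : cj g M ⊆ M := hcon
        apply hg1
        exact Set.eq_of_subset_of_ncard_le hsub (le_of_eq hcard.symm) (Set.toFinite _)
      obtain ⟨m, hmM, hmM'⟩ := hex1
      obtain ⟨y, hyM', hyM⟩ := hex2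
      have hI : IsModule D (M ∩ cj g M) := hM.inter hM'
      have hA : IsModule D (M \ cj g M) := hM.diff hM' hyM' hyM
      have hIlt : (M ∩ cj g M).ncard < M.ncard := by
        apply Set.ncard_lt_ncard _ (Set.toFinite _)
        refine ⟨Set.inter_subset_left, ?_⟩
        intro hsub
        exact hmM' (hsub hmM).2
      have hAlt : (M \ cj g M).ncard < M.ncard := by
        apply Set.ncard_lt_ncard _ (Set.toFinite _)
        refine ⟨Set.sdiff_subset, ?_⟩
        intro hsub
        exact (hsub hxM).2 hxM'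
      have hIn : ¬ (M ∩ cj g M).Nontrivial := by
        intro h
        apply ih _ (by omega) hI h
        intro e
        have : m ∈ M ∩ cj g M := by rw [e]; exact hM.1 hmM
        exact hmM' this.2
      have hAn : ¬ (M \ cj g M).Nontrivial := by
        intro h
        apply ih _ (by omega) hA h
        intro e
        have : x ∈ M \ cj g M := by rw [e]; exact hM.1 hxM
        exact this.2 hxM'
      have hxm : x ≠ m := by
        intro e
        rw [e] at hxM'
        exact hmM' hxM'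
      apply no_twins hconj hgen hprim hw hxm
      refine ⟨hM.1 hxM, hM.1 hmM, ?_⟩
      intro z hz hzx hzm
      have hzM : z ∉ M := by
        intro hzM
        by_cases hz' : z ∈ cj g M
        · exact hIn ⟨z, ⟨hzM, hz'⟩, x, ⟨hxM, hxM'⟩, hzx⟩
        · exact hAn ⟨z, ⟨hzM, hz'⟩, m, ⟨hmM, hmM'⟩, hzm⟩
      exact ⟨hM.2 z hz hzM x hxM m hmM, hM.2 z hz hzM m hmM x hxM⟩

end Prim

section Core

variable {G : Type*} [Group G] {D : Set G}

theorem s4_commute_id : (Equiv.swap (1 : Fin 4) 2 * Equiv.swap 2 3 * (Equiv.swap 1 2)⁻¹) *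
    Equiv.swap 0 1 * (Equiv.swap (1 : Fin 4) 2 * Equiv.swap 2 3 * (Equiv.swap 1 2)⁻¹)⁻¹ *
    Equiv.swap 1 2 = Equiv.swap 1 2 *
    ((Equiv.swap (1 : Fin 4) 2 * Equiv.swap 2 3 * (Equiv.swap 1 2)⁻¹) *
    Equiv.swap 0 1 * (Equiv.swap (1 : Fin 4) 2 * Equiv.swap 2 3 * (Equiv.swap 1 2)⁻¹)⁻¹) := by
  decide

/-- in the configuration `b ⊥ z`, `x` commuting with neither, the conjugate of `b` by `x z x⁻¹`
commutes with `x` -/
theorem s4_commute (hDs : IsThreeTranspositionSet D) {b x z : G} (hb : b ∈ D) (hx : x ∈ D)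
    (hz : z ∈ D) (hbz : b ≠ z) (hc : Commute b z) (hbx : ¬ Commute b x) (hxz : ¬ Commute x z) :
    Commute ((x * z * x⁻¹) * b * (x * z * x⁻¹)⁻¹) x := by
  obtain ⟨φ, -, hφb, hφx, hφz⟩ := Cfsg.Agent.S5344.result hDs hb hx hz hbz hc hbx hxz
  have := congrArg φ s4_commute_id
  show _ * _ = _ * _
  simpa only [map_mul, map_inv, hφb, hφx, hφz] using this

/-- the members of a closed subset all of whose commuting partners lie in the subset form a
homogeneous set -/
theorem core_isModule (hDs : IsThreeTranspositionSet D)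
    (hconj : ∀ g : G, ∀ d ∈ D, g * d * g⁻¹ ∈ D) {B : Set G} (hBD : B ⊆ D)
    (hBc : ∀ x ∈ B, ∀ y ∈ B, x * y * x⁻¹ ∈ B) :
    IsModule D {x : G | x ∈ B ∧ ∀ y ∈ D, Commute y x → y ∈ B} := by
  refine ⟨fun x hx => hBD hx.1, ?_⟩
  intro z hz hz0 x hx x' hx' hcx
  have hzB : z ∈ B := hx.2 z hz hcx
  -- `z` has a commuting partner outside `B`
  have hex : ∃ b ∈ D, Commute b z ∧ b ∉ B := by
    by_contra hcon
    push Not at hcon
    exact hz0 ⟨hzB, hcon⟩
  obtain ⟨b, hb, hbz, hbB⟩ := hex
  by_contra hnc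
  have hbx' : ¬ Commute b x' := fun h => hbB (hx'.2 b hb h)
  have hne : b ≠ z := by
    intro e
    rw [e] at hbB
    exact hbB hzB
  have hx'D : x' ∈ D := hBD hx'.1
  have hxz : ¬ Commute x' z := fun h => hnc h.symm
  have hcomm := s4_commute hDs hb hx'D hz hne hbz hbx' hxz
  have hyB : x' * z * x'⁻¹ ∈ B := hBc x' hx'.1 z hzB
  have hwD : (x' * z * x'⁻¹) * b * (x' * z * x'⁻¹)⁻¹ ∈ D := hconj _ b hb
  have hwB : (x' * z * x'⁻¹) * b * (x' * z * x'⁻¹)⁻¹ ∈ B := hx'.2 _ hwD hcomm
  have hyinv : (x' * z * x'⁻¹)⁻¹ = x' * z * x'⁻¹ := tt_inv hDs (hBD hyB)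
  have := hBc _ hyB _ hwB
  rw [hyinv] at this
  have hsq : (x' * z * x'⁻¹) * (x' * z * x'⁻¹) = 1 := tt_sq hDs (hBD hyB)
  have e : (x' * z * x'⁻¹) * ((x' * z * x'⁻¹) * b * (x' * z * x'⁻¹)) * (x' * z * x'⁻¹) = b := by
    calc (x' * z * x'⁻¹) * ((x' * z * x'⁻¹) * b * (x' * z * x'⁻¹)) * (x' * z * x'⁻¹)
        = ((x' * z * x'⁻¹) * (x' * z * x'⁻¹)) * b * ((x' * z * x'⁻¹) * (x' * z * x'⁻¹)) := by
          simp only [mul_assoc]
      _ = b := by rw [hsq, one_mul, mul_one]
  rw [e] at this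
  exact hbB this

/-- **Maximality.**  In a primitive class with a commuting pair the subgroup generated by the
members commuting with `d` is maximal among the subgroups generated by members of the class. -/
theorem perp_maximal [Finite G] (hDs : IsThreeTranspositionSet D)
    (hconj : ∀ g : G, ∀ d ∈ D, g * d * g⁻¹ ∈ D) (hgen : Subgroup.closure D = ⊤)
    (hprim : Cfsg.IsPrimitiveUnderConj D) (hw : ∃ a ∈ D, ∃ b ∈ D, a ≠ b ∧ Commute a b) {d : G}
    (hd : d ∈ D) (H : Subgroup G) (hH : Cfsg.IsDSubgroup D H)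
    (hle : Subgroup.closure {y : G | y ∈ D ∧ Commute d y} ≤ H) :
    H = Subgroup.closure {y : G | y ∈ D ∧ Commute d y} ∨ H = ⊤ := by
  by_contra hcon
  push Not at hcon
  obtain ⟨hne1, hne2⟩ := hcon
  unfold Cfsg.IsDSubgroup at hH
  set B : Set G := {x : G | x ∈ D ∧ x ∈ H} with hB
  have hBD : B ⊆ D := fun x hx => hx.1
  have hperp : ∀ y ∈ D, Commute d y → y ∈ B := by
    intro y hy hc
    exact ⟨hy, hle (Subgroup.subset_closure ⟨hy, hc⟩)⟩
  have hBc : ∀ x ∈ B, ∀ y ∈ B, x * y * x⁻¹ ∈ B := by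
    intro x hx y hy
    exact ⟨hconj x y hy.1, H.mul_mem (H.mul_mem hx.2 hy.2) (H.inv_mem hx.2)⟩
  have hBne : B ≠ D := by
    intro e
    apply hne2
    rw [← hH, e, hgen]
  -- a member of `B` not commuting with `d`
  have hex : ∃ a ∈ B, ¬ Commute d a := by
    by_contra hcon
    push Not at hcon
    apply hne1
    apply le_antisymm _ hle
    rw [← hH]
    apply Subgroup.closure_mono
    intro y hy
    exact ⟨hy.1, hcon y hy⟩
  obtain ⟨a, haB, hda⟩ := hex
  have hmod := core_isModule hDs hconj hBD hBc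
  set B₀ : Set G := {x : G | x ∈ B ∧ ∀ y ∈ D, Commute y x → y ∈ B} with hB₀
  have hdB₀ : d ∈ B₀ := ⟨hperp d hd (Commute.refl d), fun y hy hc => hperp y hy hc.symm⟩
  have hadB₀ : a * d * a⁻¹ ∈ B₀ := by
    refine ⟨hBc a haB d hdB₀.1, ?_⟩
    intro y hy hc
    have hy' : a⁻¹ * y * a ∈ D := by
      have := hconj a⁻¹ y hy
      rwa [inv_inv] at this
    have hc' : Commute (a⁻¹ * y * a) d := by
      have := commute_conj_inv (g := a) (a := y) (b := a * d * a⁻¹)
      have e : a⁻¹ * (a * d * a⁻¹) * a = d := by group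
      rw [e] at this
      exact this.mpr hc
    have := hBc a haB _ (hdB₀.2 _ hy' hc')
    have e : a * (a⁻¹ * y * a) * a⁻¹ = y := by group
    rwa [e] at this
  have hne : a * d * a⁻¹ ≠ d := by
    intro e
    apply hda
    show d * a = a * d
    calc d * a = a * d * a⁻¹ * a := by rw [e]
      _ = a * d := by group
  have hnt : B₀.Nontrivial := ⟨a * d * a⁻¹, hadB₀, d, hdB₀, hne⟩
  have hB₀ne : B₀ ≠ D := by
    intro e
    apply hBne
    apply Set.Subset.antisymm hBD
    intro x hx
    have : x ∈ B₀ := by rw [e]; exact hx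
    exact this.1
  exact no_module hconj hgen hprim hw B₀.ncard B₀ le_rfl hmod hnt hB₀ne

end Core

end Cfsg.Agent.Lib.Helper27.TTModule
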