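import Cfsg.Agent.Lib.Helper27.TTComp
import Cfsg.Agent.Lib.Helper27.FischerLines
import Cfsg.Agent.Lib.helper17.QS
import Cfsg.Agent.S1265

/-!
Blocks of imprimitivity in a class of 3-transpositions (helper27).  If `B` is a block for the
conjugation action on the class `D` then the products `a * b` of two members of `B` normalize every
conjugate of `B`; with the structure of the generalized Fitting subgroup this gives primitivity when
the quasisimple normal subgroup has index at most 2.
-/

set_option autoImplicit false

namespace Cfsg.Agent.Lib.Helper27.TTPrim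

open Cfsg Cfsg.Agent.Lib.Helper27 Cfsg.Agent.Lib.Helper27.TTFitting

section Conj

variable {G : Type*} [Group G]

/-- the conjugate of a set -/
def cj (g : G) (B : Set G) : Set G := (fun x => g * x * g⁻¹) '' B

theorem mem_cj {g x : G} {B : Set G} : x ∈ cj g B ↔ g⁻¹ * x * g ∈ B := by
  constructor
  · rintro ⟨y, hy, rfl⟩
    have : g⁻¹ * (g * y * g⁻¹) * g = y := by group
    rw [this]; exact hy
  · intro h
    exact ⟨g⁻¹ * x * g, h, by group⟩

theorem cj_mem {g y : G} {B : Set G} (hy : y ∈ B) : g * y * g⁻¹ ∈ cj g B := ⟨y, hy, rfl⟩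

theorem cj_cj (g h : G) (B : Set G) : cj g (cj h B) = cj (g * h) B := by
  ext x
  rw [mem_cj, mem_cj, mem_cj]
  have : h⁻¹ * (g⁻¹ * x * g) * h = (g * h)⁻¹ * x * (g * h) := by group
  rw [this]

theorem cj_one (B : Set G) : cj (1 : G) B = B := by
  ext x
  rw [mem_cj]
  simp

/-- the block property -/
def IsBlock (B : Set G) : Prop := ∀ g : G, cj g B = B ∨ Disjoint (cj g B) B

/-- conjugates of a block that meet are equal -/
theorem IsBlock.eq_of_mem {B : Set G} (hB : IsBlock B) {g₁ g₂ x : G} (h1 : x ∈ cj g₁ B)
    (h2 : x ∈ cj g₂ B) : cj g₁ B = cj g₂ B := by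
  rcases hB (g₂⁻¹ * g₁) with h | h
  · have := congrArg (cj g₂) h
    rw [cj_cj] at this
    have e : g₂ * (g₂⁻¹ * g₁) = g₁ := by group
    rw [e] at this
    exact this
  · exfalso
    rw [Set.disjoint_left] at h
    apply h (a := g₂⁻¹ * x * g₂)
    · rw [mem_cj]
      rw [mem_cj] at h1
      have e : (g₂⁻¹ * g₁)⁻¹ * (g₂⁻¹ * x * g₂) * (g₂⁻¹ * g₁) = g₁⁻¹ * x * g₁ := by group
      rw [e]; exact h1
    · exact mem_cj.mp h2

/-- an element commuting with a member of a conjugate of the block normalizes that conjugate -/
theorem IsBlock.cj_eq_of_commute {B : Set G} (hB : IsBlock B) {k x c : G} (hc : c ∈ cj k B)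
    (hxc : Commute x c) : cj x (cj k B) = cj k B := by
  rw [cj_cj]
  apply hB.eq_of_mem (x := c) _ hc
  rw [← cj_cj]
  have : c = x * c * x⁻¹ := by
    rw [hxc.eq, mul_inv_cancel_right]
  rw [this]
  exact cj_mem hc

end Conj

section Blocks

variable {G : Type*} [Group G] {D : Set G}

/-- a member of `D` outside a conjugate of the block and normalizing it commutes with its members -/
theorem IsBlock.commute_of_cj_eq (hD : IsThreeTranspositionSet D) {B : Set G} (hBD : B ⊆ D)
    (hconj : ∀ g : G, ∀ d ∈ D, g * d * g⁻¹ ∈ D) (hB : IsBlock B) {k x c : G} (hx : x ∈ D)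
    (hxn : cj x (cj k B) = cj k B) (hxB : x ∉ cj k B) (hc : c ∈ cj k B) : Commute x c := by
  by_contra hnc
  apply hxB
  have hcD : c ∈ D := by
    obtain ⟨y, hy, rfl⟩ := hc
    exact hconj k y (hBD hy)
  have h1 : x * c * x⁻¹ ∈ cj k B := by
    rw [← hxn]; exact cj_mem hc
  have hbraid : x * c * x⁻¹ = c * x * c⁻¹ := fl_third_eq hD hcD hx (fun h => hnc h.symm)
  rw [hbraid] at h1
  have hcn : cj c (cj k B) = cj k B := hB.cj_eq_of_commute hc (Commute.refl c)
  -- `x = c⁻¹ (c x c⁻¹) c`
  have h2 : cj c⁻¹ (cj k B) = cj k B := by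
    have := congrArg (cj c⁻¹) hcn
    rw [cj_cj, inv_mul_cancel, cj_one] at this
    exact this.symm
  rw [← h2, mem_cj, inv_inv]
  exact h1

/-- **Key lemma.**  The product of two members of a block normalizes every conjugate of the block. -/
theorem IsBlock.cj_mul_eq (hD : IsThreeTranspositionSet D) {B : Set G} (hBD : B ⊆ D)
    (hconj : ∀ g : G, ∀ d ∈ D, g * d * g⁻¹ ∈ D) (hB : IsBlock B) {a b : G} (ha : a ∈ B)
    (hb : b ∈ B) (k : G) : cj (a * b) (cj k B) = cj k B := by
  have haD := hBD ha
  have hbD := hBD hb
  have hB1 : cj (1 : G) B = B := cj_one B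
  have ha1 : a ∈ cj (1 : G) B := by rw [hB1]; exact ha
  have hb1 : b ∈ cj (1 : G) B := by rw [hB1]; exact hb
  -- if `a` or `b` lies in the conjugate, it is `B` itself
  have hsame : ∀ x ∈ B, x ∈ cj k B → cj (a * b) (cj k B) = cj k B := by
    intro x hx hxk
    have hx1 : x ∈ cj (1 : G) B := by rw [hB1]; exact hx
    have hkB : cj k B = cj (1 : G) B := hB.eq_of_mem hxk hx1
    rw [hkB, ← cj_cj, hB.cj_eq_of_commute hb1 (Commute.refl b),
      hB.cj_eq_of_commute ha1 (Commute.refl a)]
  by_cases hak : a ∈ cj k B
  · exact hsame a ha hak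
  by_cases hbk : b ∈ cj k B
  · exact hsame b hb hbk
  -- elements of the conjugate are not in `B`
  have hnotB : ∀ c ∈ cj k B, c ∉ B := by
    intro c hc hcB
    have hc1 : c ∈ cj (1 : G) B := by rw [hB1]; exact hcB
    have hkB : cj k B = cj (1 : G) B := hB.eq_of_mem hc hc1
    apply hak
    rw [hkB]; exact ha1
  have hkD : ∀ c ∈ cj k B, c ∈ D := by
    rintro c ⟨y, hy, rfl⟩
    exact hconj k y (hBD hy)
  -- a member of the conjugate commuting with one of `a`, `b` commutes with both
  have hboth : ∀ x ∈ B, ∀ y ∈ B, ∀ c ∈ cj k B, Commute x c → Commute y c := by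
    intro x hx y hy c hc hxc
    have hx1 : x ∈ cj (1 : G) B := by rw [hB1]; exact hx
    have hy1 : y ∈ cj (1 : G) B := by rw [hB1]; exact hy
    have hcn : cj c (cj (1 : G) B) = cj (1 : G) B := hB.cj_eq_of_commute hx1 hxc.symm
    have hcB : c ∉ cj (1 : G) B := by rw [hB1]; exact hnotB c hc
    exact (hB.commute_of_cj_eq hD hBD hconj (hkD c hc) hcn hcB hy1).symm
  by_cases hex : ∃ c ∈ cj k B, Commute a c ∨ Commute b c
  · obtain ⟨c, hc, hcc⟩ := hex
    have hac : Commute a c := by
      rcases hcc with h | h
      · exact h
      · exact hboth b hb a ha c hc h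
    have hbc : Commute b c := hboth a ha b hb c hc hac
    rw [← cj_cj, hB.cj_eq_of_commute hc hbc, hB.cj_eq_of_commute hc hac]
  · push Not at hex
    by_cases hne : (cj k B).Nonempty
    · obtain ⟨c, hc⟩ := hne
      have hcD := hkD c hc
      obtain ⟨hnac, hnbc⟩ := hex c hc
      have h1 : a * c * a⁻¹ = c * a * c⁻¹ := fl_third_eq hD hcD haD (fun h => hnac h.symm)
      have h2 : b * c * b⁻¹ = c * b * c⁻¹ := fl_third_eq hD hcD hbD (fun h => hnbc h.symm)
      have e1 : cj a (cj k B) = cj c B := by
        rw [cj_cj]
        apply hB.eq_of_mem (x := a * c * a⁻¹)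
        · rw [← cj_cj]; exact cj_mem hc
        · rw [h1]; exact cj_mem ha
      have e2 : cj b (cj k B) = cj c B := by
        rw [cj_cj]
        apply hB.eq_of_mem (x := b * c * b⁻¹)
        · rw [← cj_cj]; exact cj_mem hc
        · rw [h2]; exact cj_mem hb
      rw [← cj_cj, e2, ← e1, cj_cj, tt_sq hD haD, cj_one]
    · rw [Set.not_nonempty_iff_eq_empty] at hne
      rw [hne]
      unfold cj
      simp

end Blocks

section Prim

variable {G : Type*} [Group G] [Finite G] {D : Set G}

/-- a normal subgroup is central or contains the quasisimple normal subgroup `L` -/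
theorem normal_le_center_or_ge {L M : Subgroup G} (hLn : L.Normal)
    (hL : Cfsg.IsQuasisimple L)
    (hF : Cfsg.generalizedFittingSubgroup G = L ⊔ Subgroup.center G)
    (hFit : Cfsg.fittingSubgroup G ≤ Subgroup.center G) (hMn : M.Normal) :
    M ≤ Subgroup.center G ∨ L ≤ M := by
  have hle : ⁅L, M⁆ ≤ L := Subgroup.commutator_le_left L M
  rcases Cfsg.Agent.Lib.helper17.commutator_quasisimple_eq_or_bot hL hle with h | h
  · right
    rw [← h]
    exact Subgroup.commutator_le_right L M
  · left
    have hLM : L ≤ Subgroup.centralizer (M : Set G) :=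
      (Subgroup.commutator_eq_bot_iff_le_centralizer).mp h
    have hML : M ≤ Subgroup.centralizer (L : Set G) := Subgroup.le_centralizer_iff.mp hLM
    have hMF : M ≤ Subgroup.centralizer (Cfsg.generalizedFittingSubgroup G : Set G) := by
      rw [Subgroup.le_centralizer_iff, hF]
      exact sup_le hLM (Subgroup.center_le_centralizer _)
    have hMF' : M ≤ L ⊔ Subgroup.center G := by
      rw [← hF]
      exact hMF.trans Cfsg.Agent.S1265.result
    -- the centre of `L` is central in `G`
    set ZL : Subgroup G := L ⊓ Subgroup.centralizer (L : Set G) with hZL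
    have hZLn : ZL.Normal := inferInstance
    have hZLnil : Group.IsNilpotent ZL := by
      let _ : CommGroup ZL :=
        { mul_comm := fun a b => by
            apply Subtype.ext
            have h1 : (a : G) ∈ Subgroup.centralizer (L : Set G) := a.2.2
            rw [Subgroup.mem_centralizer_iff] at h1
            exact (h1 b.1 b.2.1).symm }
      exact CommGroup.isNilpotent
    have hZLc : ZL ≤ Subgroup.center G :=
      (Cfsg.Agent.Lib.Helper1.le_fittingSubgroup hZLn hZLnil).trans hFit
    intro m hm
    have hset : m ∈ ((L ⊔ Subgroup.center G : Subgroup G) : Set G) := hMF' hm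
    rw [Subgroup.mul_normal] at hset
    obtain ⟨l, hl, z, hz, rfl⟩ := hset
    have hlc : l ∈ Subgroup.centralizer (L : Set G) := by
      have h1 : l * z ∈ Subgroup.centralizer (L : Set G) := hML hm
      have h2 : z⁻¹ ∈ Subgroup.centralizer (L : Set G) :=
        (Subgroup.center_le_centralizer _) ((Subgroup.center G).inv_mem hz)
      have := (Subgroup.centralizer (L : Set G)).mul_mem h1 h2
      rwa [mul_inv_cancel_right] at this
    exact (Subgroup.center G).mul_mem (hZLc ⟨hl, hlc⟩) hz

/-- **Primitivity.**  If the quasisimple normal subgroup has index at most 2 then every block with at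
least two members is all of `D`. -/
theorem block_eq_of_index_le_two (hD : IsThreeTranspositionSet D)
    (hconj : ∀ g : G, ∀ d ∈ D, g * d * g⁻¹ ∈ D) (hgen : Subgroup.closure D = ⊤)
    (hall : ∀ a ∈ D, ∀ b ∈ D, ∃ g : G, g * a * g⁻¹ = b) {L : Subgroup G} (hLn : L.Normal)
    (hL : Cfsg.IsQuasisimple L)
    (hF : Cfsg.generalizedFittingSubgroup G = L ⊔ Subgroup.center G)
    (hFit : Cfsg.fittingSubgroup G ≤ Subgroup.center G) (hidx : L.index ≤ 2) {B : Set G}
    (hBD : B ⊆ D) (hB : IsBlock B) (hns : ¬ B.Subsingleton) : B = D := by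
  classical
  -- two members
  rw [Set.not_subsingleton_iff] at hns
  obtain ⟨a, ha, b, hb, hab⟩ := hns
  have haD := hBD ha
  have hbD := hBD hb
  -- the kernel of the action on the conjugates of `B`
  let K : Subgroup G :=
    { carrier := {g | ∀ k : G, cj g (cj k B) = cj k B}
      one_mem' := fun k => cj_one _
      mul_mem' := by
        intro g h hg hh k
        rw [← cj_cj, hh k, hg k]
      inv_mem' := by
        intro g hg k
        have := congrArg (cj g⁻¹) (hg k)
        rw [cj_cj, inv_mul_cancel, cj_one] at this
        exact this.symm }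
  have hKn : K.Normal := by
    constructor
    intro g hg h k
    show cj (h * g * h⁻¹) (cj k B) = cj k B
    have e1 : cj (h * g * h⁻¹) (cj k B) = cj h (cj g (cj (h⁻¹ * k) B)) := by
      rw [cj_cj, cj_cj, cj_cj]
      congr 1
      group
    rw [e1, hg (h⁻¹ * k), cj_cj]
    congr 1
    group
  have habK : a * b ∈ K := fun k => hB.cj_mul_eq hD hBD hconj ha hb k
  rcases normal_le_center_or_ge hLn hL hF hFit hKn with hK | hK
  · -- central: impossible
    exfalso
    have hz := hK habK
    rw [Subgroup.mem_center_iff] at hz
    -- `a` and `b` commute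
    have hcab : a * b = b * a := by
      have h1 := hz a
      have h2 : a * (a * b) = a * (b * a) := by rw [h1]; group
      exact mul_left_cancel h2
    -- a member not commuting with `a`
    have hexc : ∃ c ∈ D, ¬ Commute a c := by
      by_contra hcon
      push Not at hcon
      have hcen : ∀ g : G, g * a = a * g := by
        intro g
        have hle : (⊤ : Subgroup G) ≤ Subgroup.centralizer {a} := by
          rw [← hgen, Subgroup.closure_le]
          intro x hx
          rw [SetLike.mem_coe, Subgroup.mem_centralizer_iff]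
          intro y hy
          rw [Set.mem_singleton_iff] at hy
          rw [hy]
          exact (hcon x hx).eq
        have hg : g ∈ Subgroup.centralizer {a} := hle (Subgroup.mem_top g)
        rw [Subgroup.mem_centralizer_iff] at hg
        exact (hg a rfl).symm
      obtain ⟨g, hg⟩ := hall a haD b hbD
      apply hab
      rw [← hg, hcen g, mul_inv_cancel_right]
    obtain ⟨c, hcD, hnc⟩ := hexc
    have hac3 : (a * c) ^ 3 = 1 := by
      rcases hD.2 a haD c hcD with h | h
      · exfalso
        apply hnc
        have h4 : a * c = (a * c)⁻¹ := by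
          rw [eq_inv_iff_mul_eq_one, ← pow_two]; exact h
        rw [mul_inv_rev, tt_inv hD haD, tt_inv hD hcD] at h4
        exact h4
      · exact h
    have hac2 : (a * c) ^ 2 ≠ 1 := by
      intro h
      apply hnc
      have h4 : a * c = (a * c)⁻¹ := by
        rw [eq_inv_iff_mul_eq_one, ← pow_two]; exact h
      rw [mul_inv_rev, tt_inv hD haD, tt_inv hD hcD] at h4
      exact h4
    have hz2 : (a * b) ^ 2 = 1 := by
      rw [pow_two]
      calc a * b * (a * b) = a * (b * a) * b := by group
        _ = a * (a * b) * b := by rw [hcab]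
        _ = (a * a) * (b * b) := by group
        _ = 1 := by rw [tt_sq hD haD, tt_sq hD hbD, one_mul]
    have hz1 : a * b ≠ 1 := by
      intro h
      apply hab
      have : a = b⁻¹ := eq_inv_of_mul_eq_one_left h
      rw [this, tt_inv hD hbD]
    have hbc : b * c = (a * b) * (a * c) := by
      calc b * c = b * (a * a) * c := by rw [tt_sq hD haD, mul_one]
        _ = b * a * (a * c) := by group
        _ = a * b * (a * c) := by rw [← hcab]
    have hzc : Commute (a * b) (a * c) := (hz (a * c)).symm
    rcases hD.2 b hbD c hcD with h | h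
    · rw [hbc, hzc.mul_pow, hz2, one_mul] at h
      exact hac2 h
    · rw [hbc, hzc.mul_pow, hac3, mul_one] at h
      apply hz1
      calc a * b = (a * b) ^ 3 * ((a * b) ^ 2)⁻¹ := by group
        _ = 1 := by rw [h, hz2, inv_one, mul_one]
  · -- `L` normalizes `B`
    let NB : Subgroup G :=
      { carrier := {g | cj g B = B}
        one_mem' := cj_one B
        mul_mem' := by
          intro g h hg hh
          show cj (g * h) B = B
          rw [← cj_cj]
          rw [show cj h B = B from hh]
          exact hg
        inv_mem' := by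
          intro g hg
          have := congrArg (cj g⁻¹) (show cj g B = B from hg)
          rw [cj_cj, inv_mul_cancel, cj_one] at this
          exact this.symm }
    have hLNB : L ≤ NB := by
      intro l hl
      have := hK hl 1
      rw [cj_one] at this
      exact this
    have haNB : a ∈ NB := by
      have h1 : a ∈ cj (1 : G) B := by rw [cj_one]; exact ha
      have := hB.cj_eq_of_commute h1 (Commute.refl a)
      rw [cj_one] at this
      exact this
    have hNBtop : NB = ⊤ := by
      by_cases haL : a ∈ L
      · have hDL : D ⊆ L := by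
          intro d hd
          obtain ⟨g, rfl⟩ := hall a haD d hd
          exact hLn.conj_mem a haL g
        have hLtop : L = ⊤ := by
          rw [eq_top_iff, ← hgen, Subgroup.closure_le]
          exact hDL
        rw [eq_top_iff, ← hLtop]
        exact hLNB
      · set H : Subgroup G := L ⊔ Subgroup.zpowers a with hH
        have hLH : L ≤ H := le_sup_left
        have haH : a ∈ H := (le_sup_right : Subgroup.zpowers a ≤ H) (Subgroup.mem_zpowers a)
        have hHNB : H ≤ NB := sup_le hLNB ((Subgroup.zpowers_le).mpr haNB)
        have hmul := Subgroup.relIndex_mul_index hLH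
        have hHtop : H = ⊤ := by
          by_contra hne
          have h1 : H.index ≠ 1 := fun h => hne (Subgroup.index_eq_one.mp h)
          have h0 : H.index ≠ 0 := Subgroup.index_ne_zero_of_finite
          have hr0 : L.relIndex H ≠ 0 := by
            intro h
            rw [h, zero_mul] at hmul
            exact (Subgroup.index_ne_zero_of_finite (H := L)) hmul.symm
          have hr1 : L.relIndex H = 1 := by
            have h2 : 2 ≤ H.index := by omega
            have h3 : L.relIndex H * 2 ≤ L.relIndex H * H.index := Nat.mul_le_mul_left _ h2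
            rw [hmul] at h3
            omega
          rw [Subgroup.relIndex_eq_one] at hr1
          exact haL (hr1 haH)
        rw [eq_top_iff, ← hHtop]
        exact hHNB
    apply Set.Subset.antisymm hBD
    intro d hd
    obtain ⟨g, rfl⟩ := hall a haD d hd
    have hg : g ∈ NB := by rw [hNBtop]; exact Subgroup.mem_top g
    have hgB : cj g B = B := hg
    rw [← hgB]
    exact cj_mem ha

end Prim

end Cfsg.Agent.Lib.Helper27.TTPrim
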