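import Cfsg.Agent.Lib.Helper27.TTLocalClass
import Cfsg.Agent.Lib.Helper27.PerpSylow
import Cfsg.Agent.Lib.Helper13.FStarQuot
import Cfsg.Agent.S5352
import Cfsg.Agent.S5353

/-!
The rank three property of a primitive class of 3-transpositions: the centralizer of a member is
transitive on the members not commuting with it (helper27).
-/

set_option autoImplicit false

namespace Cfsg.Agent.Lib.Helper27.TTRank3

open Cfsg Cfsg.Agent.Lib.Helper27 Cfsg.Agent.Lib.Helper27.TTModule
  Cfsg.Agent.Lib.Helper27.TTLocalClass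
open scoped commutatorElement

section Prim

variable {G : Type*} [Group G] {D : Set G}

theorem class_conj (hD : Cfsg.IsThreeTranspositionClass D) :
    ∀ g : G, ∀ d ∈ D, g * d * g⁻¹ ∈ D := by
  obtain ⟨-, ⟨d₀, -, hDeq⟩, -⟩ := hD
  intro g d hd
  rw [hDeq] at hd ⊢
  have h1 : IsConj d₀ d := hd
  show IsConj d₀ (g * d * g⁻¹)
  exact h1.trans (isConj_iff.mpr ⟨g, rfl⟩)

theorem class_all (hD : Cfsg.IsThreeTranspositionClass D) :
    ∀ a ∈ D, ∀ b ∈ D, ∃ g : G, g * a * g⁻¹ = b := by
  obtain ⟨-, ⟨d₀, -, hDeq⟩, -⟩ := hD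
  intro a ha b hb
  rw [hDeq] at ha hb
  have h1 : IsConj d₀ a := ha
  have h2 : IsConj d₀ b := hb
  exact isConj_iff.mp (h1.symm.trans h2)

/-- a generating class of 3-transpositions with a commuting pair, central `O_2` and `O_3` and
perfect commutator subgroup is primitive -/
theorem prim_of_perfect [Finite G] (hD : Cfsg.IsThreeTranspositionClass D)
    (hw : ∃ a ∈ D, ∃ b ∈ D, a ≠ b ∧ Commute a b)
    (h2 : Cfsg.pCore 2 G ≤ Subgroup.center G) (h3 : Cfsg.pCore 3 G ≤ Subgroup.center G)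
    (hperf : ⁅commutator G, commutator G⁆ = commutator G) : Cfsg.IsPrimitiveUnderConj D := by
  classical
  have hconj := class_conj hD
  have hall := class_all hD
  have hDs := hD.1
  have hgen := hD.2.2
  obtain ⟨x, hx, y, hy, hxy, hcxy⟩ := hw
  have hD2 : ∃ a ∈ D, ∃ b ∈ D, a ≠ b := ⟨x, hx, y, hy, hxy⟩
  haveI : Fact (Nat.Prime 3) := ⟨Nat.prime_three⟩
  obtain ⟨L, hLn, hLq, hF, hor⟩ := Cfsg.Agent.S5352.result hD hD2 h2 h3
  haveI := hLn
  have hidx : L.index ≤ 2 := by
    rcases hor with hL | hwid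
    · rw [hL, Subgroup.index_top]; norm_num
    · have hK : ∀ a ∈ D, ∀ b ∈ D, Commute a b → a⁻¹ * b ∈ L := by
        intro a ha b hb hc
        apply hwid a ha b hb
        have : a * b * a⁻¹ * b⁻¹ = 1 := by
          rw [hc.eq, mul_inv_cancel_right, mul_inv_cancel]
        rw [this]; exact L.one_mem
      have hcube := Cfsg.Agent.Lib.Helper27.PerpSylow.cubeClass_image hDs hconj L hK
      have hgen' : Subgroup.closure ((QuotientGroup.mk' L) '' D) = ⊤ := by
        rw [← MonoidHom.map_closure, hgen]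
        exact Subgroup.map_top_of_surjective _ (QuotientGroup.mk'_surjective L)
      have hwidth := Cfsg.Agent.Lib.Helper27.W1.width_one hcube hgen'
        (d := QuotientGroup.mk' L x) ⟨x, hx, rfl⟩
      haveI hPn : (Cfsg.pCore 3 (G ⧸ L)).Normal := Cfsg.Agent.Lib.Helper1.pCore_normal 3
      have hcyc : IsCyclic ((G ⧸ L) ⧸ Cfsg.pCore 3 (G ⧸ L)) := by
        rw [isCyclic_iff_exists_zpowers_eq_top]
        refine ⟨QuotientGroup.mk' _ (QuotientGroup.mk' L x), ?_⟩
        have h1 : Subgroup.map (QuotientGroup.mk' (Cfsg.pCore 3 (G ⧸ L)))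
            (Subgroup.zpowers (QuotientGroup.mk' L x) ⊔ Cfsg.pCore 3 (G ⧸ L)) = ⊤ := by
          rw [hwidth]
          exact Subgroup.map_top_of_surjective _ (QuotientGroup.mk'_surjective _)
        rw [Subgroup.map_sup, MonoidHom.map_zpowers, QuotientGroup.map_mk'_self, sup_bot_eq] at h1
        exact h1
      have hcomle : commutator (G ⧸ L) ≤ Cfsg.pCore 3 (G ⧸ L) :=
        Subgroup.Normal.quotient_commutative_iff_commutator_le.mp IsCyclic.isMulCommutative
      have hmap : Subgroup.map (QuotientGroup.mk' L) (commutator G) = commutator (G ⧸ L) := by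
        rw [commutator_def, commutator_def, Subgroup.map_commutator,
          Subgroup.map_top_of_surjective _ (QuotientGroup.mk'_surjective L)]
      have hperf' : ⁅commutator (G ⧸ L), commutator (G ⧸ L)⁆ = commutator (G ⧸ L) := by
        rw [← hmap, ← Subgroup.map_commutator, hperf]
      have hsolv : Group.IsSolvable ↥(commutator (G ⧸ L)) := by
        haveI : Group.IsNilpotent ↥(Cfsg.pCore 3 (G ⧸ L)) :=
          (Cfsg.Agent.Lib.Helper1.pCore_isPGroup (G := G ⧸ L) 3).isNilpotent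
        haveI : Group.IsSolvable ↥(Cfsg.pCore 3 (G ⧸ L)) := inferInstance
        exact Group.isSolvable_of_isSolvable_injective (Subgroup.inclusion_injective hcomle)
      have hbot := Cfsg.Agent.Lib.Helper13.perfect_eq_bot_of_isSolvable _ hsolv hperf'
      have hcomL : commutator G ≤ L := by
        rw [← hmap, Subgroup.map_eq_bot_iff, QuotientGroup.ker_mk'] at hbot
        exact hbot
      have hsame : ∀ a ∈ D, (QuotientGroup.mk' L) a = (QuotientGroup.mk' L) x := by
        intro a ha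
        obtain ⟨g, hg⟩ := hall x hx a ha
        show (a : G ⧸ L) = (x : G ⧸ L)
        rw [QuotientGroup.eq]
        apply hcomL
        have e : a⁻¹ * x = ⁅g, x⁻¹⁆ := by
          rw [commutatorElement_def, ← hg]; group
        rw [e, commutator_def]
        exact Subgroup.commutator_mem_commutator (Subgroup.mem_top g) (Subgroup.mem_top _)
      exact Cfsg.Agent.Lib.Helper27.TTPrim2.index_le_two_of_coset_dichotomy
        (Cfsg.Agent.Lib.Helper27.TTPrim2.coset_dichotomy hgen
          (Cfsg.Agent.Lib.Helper27.tt_sq hDs hx) hsame)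
  exact (Cfsg.Agent.S5353.result hD hD2 h2 h3 L hLq hF).1 hidx

end Prim

section Orbits

variable {G : Type*} [Group G] {D : Set G}

theorem s4_orb_id1 : (Equiv.swap (0 : Fin 4) 3 * Equiv.swap 1 2) * Equiv.swap 0 1 *
    (Equiv.swap (0 : Fin 4) 3 * Equiv.swap 1 2)⁻¹ = Equiv.swap 2 3 := by decide

theorem s4_orb_id2 : (Equiv.swap (0 : Fin 4) 3 * Equiv.swap 1 2) * Equiv.swap 1 2 =
    Equiv.swap 1 2 * (Equiv.swap (0 : Fin 4) 3 * Equiv.swap 1 2) := by decide

theorem s4_orb_id3 : (Equiv.swap (0 : Fin 4) 1 * Equiv.swap 1 2 * (Equiv.swap 0 1)⁻¹) *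
    (Equiv.swap 2 3 * Equiv.swap 1 2 * (Equiv.swap 2 3)⁻¹) =
    (Equiv.swap 2 3 * Equiv.swap 1 2 * (Equiv.swap 2 3)⁻¹) *
    (Equiv.swap (0 : Fin 4) 1 * Equiv.swap 1 2 * (Equiv.swap 0 1)⁻¹) := by decide

/-- conjugate under the centralizer of `d` -/
def Orb (d a a' : G) : Prop := ∃ g : G, Commute g d ∧ g * a * g⁻¹ = a'

theorem Orb.refl (d a : G) : Orb d a a := ⟨1, Commute.one_left d, by group⟩

theorem Orb.symm {d a a' : G} (h : Orb d a a') : Orb d a' a := by
  obtain ⟨g, hg, he⟩ := h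
  refine ⟨g⁻¹, hg.inv_left, ?_⟩
  rw [← he]; group

theorem Orb.trans {d a a' a'' : G} (h : Orb d a a') (h' : Orb d a' a'') : Orb d a a'' := by
  obtain ⟨g, hg, he⟩ := h
  obtain ⟨g', hg', he'⟩ := h'
  refine ⟨g' * g, hg'.mul_left hg, ?_⟩
  rw [← he', ← he]; group

theorem Orb.conj {d a a' : G} (h : Orb d a a') (k : G) :
    Orb (k * d * k⁻¹) (k * a * k⁻¹) (k * a' * k⁻¹) := by
  obtain ⟨g, hg, he⟩ := h
  refine ⟨k * g * k⁻¹, (Commute.conj_iff k).mpr hg, ?_⟩
  rw [← he]; group

/-- conjugation by a member commuting with `d` -/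
theorem conj_fix {d g : G} (hg : Commute g d) : g * d * g⁻¹ = d := by
  rw [hg.eq, mul_inv_cancel_right]

theorem not_commute_conj {d g x : G} (hg : Commute g d) (hx : ¬ Commute d x) :
    ¬ Commute d (g * x * g⁻¹) := by
  intro h
  apply hx
  have : Commute (g * d * g⁻¹) (g * x * g⁻¹) := by rw [conj_fix hg]; exact h
  exact (Commute.conj_iff g).mp this

theorem orb_of_commute (hDs : IsThreeTranspositionSet D) {d a a' : G} (hd : d ∈ D) (ha : a ∈ D)
    (ha' : a' ∈ D) (hne : a ≠ a') (hc : Commute a a') (hda : ¬ Commute d a)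
    (hda' : ¬ Commute d a') : Orb d a a' := by
  obtain ⟨φ, -, hφa, hφd, hφa'⟩ :=
    Cfsg.Agent.S5344.result hDs ha hd ha' hne hc (fun h => hda h.symm) hda'
  refine ⟨φ (Equiv.swap (0 : Fin 4) 3 * Equiv.swap 1 2), ?_, ?_⟩
  · show _ * _ = _ * _
    rw [← hφd, ← map_mul, ← map_mul, s4_orb_id2]
  · rw [← hφa, ← hφa', ← map_inv, ← map_mul, ← map_mul, s4_orb_id1]

theorem orb_of_third (hDs : IsThreeTranspositionSet D) {d a a' : G} (ha : a ∈ D) (ha' : a' ∈ D)
    (hnc : ¬ Commute a a') (hc : Commute (a * a' * a⁻¹) d) : Orb d a a' := by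
  refine ⟨a * a' * a⁻¹, hc, ?_⟩
  have := conj_eq_of_not_commute hDs ha ha' hnc
  calc a * a' * a⁻¹ * a * (a * a' * a⁻¹)⁻¹ = (a * a') * a * (a * a')⁻¹ := by group
    _ = a' := this

/-- the third member of the line through two non-commuting members -/
theorem third_comm (hDs : IsThreeTranspositionSet D) {a a' : G} (ha : a ∈ D) (ha' : a' ∈ D)
    (hnc : ¬ Commute a a') : a * a' * a⁻¹ = a' * a * a'⁻¹ := by
  have h := conj_eq_of_not_commute hDs ha ha' hnc
  rw [mul_inv_eq_iff_eq_mul] at h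
  rw [tt_inv hDs ha, tt_inv hDs ha', h]
  simp only [mul_assoc]

theorem orb_third (hDs : IsThreeTranspositionSet D) (hconj : ∀ g : G, ∀ d ∈ D, g * d * g⁻¹ ∈ D)
    {d a δ b : G} (hd : d ∈ D) (ha : a ∈ D) (hδ : δ ∈ D) (hb : b ∈ D) (hda : ¬ Commute d a)
    (hdδ : ¬ Commute d δ) (hnc : ¬ Commute a δ) (he : ¬ Commute d (δ * a * δ⁻¹))
    (hdb : Commute d b) (hbδ : Commute b δ) (hba : ¬ Commute b a) :
    Orb d a (δ * a * δ⁻¹) := by
  have hbne : b ≠ δ := by
    intro e
    rw [e] at hdb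
    exact hdδ hdb
  obtain ⟨φ, -, hφb, hφa, hφδ⟩ := Cfsg.Agent.S5344.result hDs hb ha hδ hbne hbδ hba hnc
  have hcomm : Commute (b * a * b⁻¹) (δ * a * δ⁻¹) := by
    have := congrArg φ s4_orb_id3
    show _ * _ = _ * _
    simpa only [map_mul, map_inv, hφb, hφa, hφδ] using this
  have h1 : Orb d a (b * a * b⁻¹) := ⟨b, hdb.symm, rfl⟩
  by_cases h : b * a * b⁻¹ = δ * a * δ⁻¹
  · rw [← h]; exact h1
  · exact h1.trans (orb_of_commute hDs hd (hconj b a ha) (hconj δ a ha) h hcomm
      (not_commute_conj hdb.symm hda) he)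

/-- the members commuting with `d` (other than `d`) which commute with `x` -/
def F (D : Set G) (d x : G) : Set G := {b : G | Loc D d b ∧ Commute b x}

theorem F_conj (hconj : ∀ g : G, ∀ d ∈ D, g * d * g⁻¹ ∈ D) {d g : G} (hg : Commute g d) (x : G) :
    F D d (g * x * g⁻¹) = (fun z => g * z * g⁻¹) '' F D d x := by
  ext z
  constructor
  · rintro ⟨hz, hzx⟩
    refine ⟨g⁻¹ * z * g, ⟨?_, ?_⟩, by group⟩
    · have := hz.conj hconj g⁻¹
      have e : g⁻¹ * d * g⁻¹⁻¹ = d := conj_fix hg.inv_left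
      rw [e, inv_inv] at this
      exact this
    · have e1 : g⁻¹ * z * g = g⁻¹ * z * g⁻¹⁻¹ := by rw [inv_inv]
      have e2 : x = g⁻¹ * (g * x * g⁻¹) * g⁻¹⁻¹ := by group
      rw [e1, e2]
      exact (Commute.conj_iff g⁻¹).mpr hzx
  · rintro ⟨b, ⟨hb, hbx⟩, rfl⟩
    refine ⟨?_, (Commute.conj_iff g).mpr hbx⟩
    have := hb.conj hconj g
    rwa [conj_fix hg] at this

theorem F_ncard (hconj : ∀ g : G, ∀ d ∈ D, g * d * g⁻¹ ∈ D) {d x x' : G} (h : Orb d x x') :
    (F D d x').ncard = (F D d x).ncard := by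
  obtain ⟨g, hg, rfl⟩ := h
  rw [F_conj hconj hg]
  apply Set.ncard_image_of_injective
  intro u v huv
  exact mul_left_cancel (mul_right_cancel huv)

/-- conjugation by the members of a generating set of involutions preserving a set -/
theorem invariant_of_gen (hDs : IsThreeTranspositionSet D) {S : Set G} (hS : S ⊆ D) (Γ : Set G)
    (h : ∀ z ∈ S, ∀ w ∈ Γ, z * w * z⁻¹ ∈ Γ) :
    ∀ g ∈ Subgroup.closure S, ∀ w ∈ Γ, g * w * g⁻¹ ∈ Γ ∧ g⁻¹ * w * g ∈ Γ := by
  intro g hg
  refine Subgroup.closure_induction (p := fun g _ => ∀ w ∈ Γ, g * w * g⁻¹ ∈ Γ ∧ g⁻¹ * w * g ∈ Γ)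
    ?_ ?_ ?_ ?_ hg
  · intro z hz w hw
    have h1 := h z hz w hw
    have hzi : z⁻¹ = z := tt_inv hDs (hS hz)
    refine ⟨h1, ?_⟩
    have : z⁻¹ * w * z = z * w * z⁻¹ := by rw [hzi]
    rw [this]; exact h1
  · intro w hw
    simpa using hw
  · intro a b _ _ ha hb w hw
    refine ⟨?_, ?_⟩
    · have := (ha _ (hb w hw).1).1
      have e : a * b * w * (a * b)⁻¹ = a * (b * w * b⁻¹) * a⁻¹ := by group
      rw [e]; exact this
    · have := (hb _ (ha w hw).2).2
      have e : (a * b)⁻¹ * w * (a * b) = b⁻¹ * (a⁻¹ * w * a) * b := by group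
      rw [e]; exact this
  · intro a _ ha w hw
    refine ⟨?_, ?_⟩
    · have := (ha w hw).2
      rwa [inv_inv]
    · have := (ha w hw).1
      rwa [inv_inv]

end Orbits

section Main

variable {G : Type*} [Group G] [Finite G] {D : Set G}

/-- some member commuting with `d` does not commute with a given member not commuting with `d` -/
theorem exists_moving (hconj : ∀ g : G, ∀ d ∈ D, g * d * g⁻¹ ∈ D) (hgen : Subgroup.closure D = ⊤)
    (hprim : Cfsg.IsPrimitiveUnderConj D) (hw : ∃ a ∈ D, ∃ b ∈ D, a ≠ b ∧ Commute a b) {d a : G}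
    (hd : d ∈ D) (ha : a ∈ D) (hda : ¬ Commute d a) : ∃ b : G, Loc D d b ∧ ¬ Commute b a := by
  by_contra hcon
  push Not at hcon
  have hsub : {z : G | Loc D d z} ⊆ {z : G | Loc D a z} := by
    intro z hz
    refine ⟨hz.1, ?_, (hcon z hz).symm⟩
    intro e
    rw [e] at hz
    exact hda hz.2.2
  obtain ⟨g, hg⟩ := hprim.1 d hd a ha
  have himg : {z : G | Loc D a z} = (fun z => g * z * g⁻¹) '' {z : G | Loc D d z} := by
    ext z
    constructor
    · intro hz
      refine ⟨g⁻¹ * z * g, ?_, by group⟩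
      have := Loc.conj hconj hz g⁻¹
      have e : g⁻¹ * a * g⁻¹⁻¹ = d := by rw [← hg]; group
      rw [e, inv_inv] at this
      exact this
    · rintro ⟨b, hb, rfl⟩
      have := Loc.conj hconj hb g
      rwa [hg] at this
  have hcard : {z : G | Loc D a z}.ncard ≤ {z : G | Loc D d z}.ncard := by
    rw [himg]
    apply le_of_eq
    apply Set.ncard_image_of_injective
    intro u v huv
    exact mul_left_cancel (mul_right_cancel huv)
  have heq := Set.eq_of_subset_of_ncard_le hsub hcard (Set.toFinite _)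
  have hne : d ≠ a := by
    intro e
    rw [e] at hda
    exact hda (Commute.refl a)
  apply no_twins hconj hgen hprim hw hne
  refine ⟨hd, ha, ?_⟩
  intro z hz hzd hza
  constructor
  · intro hc
    exact hcon z ⟨hz, hzd, hc.symm⟩
  · intro hc
    have : z ∈ {z : G | Loc D d z} := by
      rw [heq]
      exact ⟨hz, hza, hc.symm⟩
    exact this.2.2.symm

/-- no two orbits with different numbers of common commuting members -/
theorem no_lt (hDs : IsThreeTranspositionSet D) (hconj : ∀ g : G, ∀ d ∈ D, g * d * g⁻¹ ∈ D)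
    (hgen : Subgroup.closure D = ⊤) (hprim : Cfsg.IsPrimitiveUnderConj D)
    (hw : ∃ a ∈ D, ∃ b ∈ D, a ≠ b ∧ Commute a b) {d x y : G} (hd : d ∈ D) (hx : x ∈ D)
    (hy : y ∈ D) (hdx : ¬ Commute d x) (hdy : ¬ Commute d y) (hxy : ¬ Orb d x y)
    (hlt : (F D d x).ncard < (F D d y).ncard) : False := by
  set S : Set G := {z : G | z ∈ D ∧ Commute d z} ∪ {y' : G | Orb d y y'} with hS
  have horbD : ∀ u v : G, u ∈ D → Orb d u v → v ∈ D := by
    rintro u v hu ⟨g, -, rfl⟩
    exact hconj g u hu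
  have horbA : ∀ u v : G, ¬ Commute d u → Orb d u v → ¬ Commute d v := by
    rintro u v hu ⟨g, hg, rfl⟩
    exact not_commute_conj hg hu
  have hSD : S ⊆ D := by
    rintro z (hz | hz)
    · exact hz.1
    · exact horbD y z hy hz
  have hinv : ∀ z ∈ S, ∀ w ∈ {x' : G | Orb d x x'}, z * w * z⁻¹ ∈ {x' : G | Orb d x x'} := by
    rintro z (hz | hz) w hw
    · exact Orb.trans hw ⟨z, hz.2.symm, rfl⟩
    · -- `z` in the orbit of `y`, `w` in the orbit of `x`
      have hwD : w ∈ D := horbD x w hx hw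
      have hzD : z ∈ D := horbD y z hy hz
      have hdw : ¬ Commute d w := horbA x w hdx hw
      have hdz : ¬ Commute d z := horbA y z hdy hz
      have hwz : ¬ Orb d w z := fun h => hxy ((hw.trans h).trans hz.symm)
      have hne : w ≠ z := by
        intro e
        rw [e] at hwz
        exact hwz (Orb.refl d z)
      have hnc : ¬ Commute w z := fun hc => hwz (orb_of_commute hDs hd hwD hzD hne hc hdw hdz)
      have he : ¬ Commute d (z * w * z⁻¹) := by
        intro hc
        exact hwz (orb_of_third hDs hzD hwD (fun h => hnc h.symm) hc.symm).symm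
      have hcard : (F D d w).ncard < (F D d z).ncard := by
        rw [F_ncard hconj hw, F_ncard hconj hz]
        exact hlt
      have hex : ∃ b, b ∈ F D d z ∧ b ∉ F D d w := by
        by_contra hcon
        push Not at hcon
        have := Set.ncard_le_ncard (s := F D d z) (t := F D d w) hcon (Set.toFinite _)
        omega
      obtain ⟨b, hbz, hbw⟩ := hex
      have hbw' : ¬ Commute b w := fun hc => hbw ⟨hbz.1, hc⟩
      exact Orb.trans hw (orb_third hDs hconj hd hwD hzD hbz.1.1 hdw hdz hnc he hbz.1.2.2 hbz.2 hbw')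
  have hH : Cfsg.IsDSubgroup D (Subgroup.closure S) := by
    unfold Cfsg.IsDSubgroup
    apply le_antisymm
    · rw [Subgroup.closure_le]
      intro z hz
      exact hz.2
    · apply Subgroup.closure_mono
      intro z hz
      exact ⟨hSD hz, Subgroup.subset_closure hz⟩
  have hle : Subgroup.closure {z : G | z ∈ D ∧ Commute d z} ≤ Subgroup.closure S :=
    Subgroup.closure_mono Set.subset_union_left
  rcases perp_maximal hDs hconj hgen hprim hw hd _ hH hle with h | h
  · have hyH : y ∈ Subgroup.closure S := Subgroup.subset_closure (Or.inr (Orb.refl d y))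
    rw [h] at hyH
    have hcent : Subgroup.closure {z : G | z ∈ D ∧ Commute d z} ≤ Subgroup.centralizer {d} := by
      rw [Subgroup.closure_le]
      intro z hz
      rw [SetLike.mem_coe, Subgroup.mem_centralizer_iff]
      intro t ht
      rw [Set.mem_singleton_iff] at ht
      rw [ht]
      exact hz.2.eq
    have := hcent hyH
    rw [Subgroup.mem_centralizer_iff] at this
    exact hdy (this d rfl)
  · obtain ⟨g, hg⟩ := hprim.1 x hx d hd
    have hgH : g ∈ Subgroup.closure S := by rw [h]; exact Subgroup.mem_top g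
    have := (invariant_of_gen hDs hSD _ hinv g hgH x (Orb.refl d x)).1
    rw [hg] at this
    exact horbA x d hdx this (Commute.refl d)

/-- if the centralizer of `d` is not transitive on the members not commuting with `d`, no member
commuting with `d` commutes with a member not commuting with `d` -/
theorem key (hDs : IsThreeTranspositionSet D) (hconj : ∀ g : G, ∀ d ∈ D, g * d * g⁻¹ ∈ D)
    (hgen : Subgroup.closure D = ⊤) (hprim : Cfsg.IsPrimitiveUnderConj D)
    (hw : ∃ a ∈ D, ∃ b ∈ D, a ≠ b ∧ Commute a b) {d x₀ y₀ : G} (hd : d ∈ D) (hx₀ : x₀ ∈ D)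
    (hy₀ : y₀ ∈ D) (hdx₀ : ¬ Commute d x₀) (hdy₀ : ¬ Commute d y₀) (h₀ : ¬ Orb d x₀ y₀) :
    ∀ x ∈ D, ¬ Commute d x → ∀ b : G, Loc D d b → ¬ Commute b x := by
  -- comparability
  have hcomp : ∀ x ∈ D, ∀ y ∈ D, ¬ Commute d x → ¬ Commute d y → ¬ Orb d x y →
      F D d x = F D d y := by
    intro x hx y hy hdx hdy hxy
    have hne : x ≠ y := by
      intro e
      rw [e] at hxy
      exact hxy (Orb.refl d y)
    have hnc : ¬ Commute x y := fun hc => hxy (orb_of_commute hDs hd hx hy hne hc hdx hdy)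
    have he : ¬ Commute d (y * x * y⁻¹) := by
      intro hc
      exact hxy (orb_of_third hDs hy hx (fun h => hnc h.symm) hc.symm).symm
    have he' : ¬ Commute d (x * y * x⁻¹) := by
      intro hc
      exact hxy (orb_of_third hDs hx hy hnc hc.symm)
    have hcmp : F D d y ⊆ F D d x ∨ F D d x ⊆ F D d y := by
      by_contra hcon
      push Not at hcon
      obtain ⟨h1, h2⟩ := hcon
      obtain ⟨b, hby, hbx⟩ := Set.not_subset.mp h1
      obtain ⟨b', hb'x, hb'y⟩ := Set.not_subset.mp h2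
      have hbx' : ¬ Commute b x := fun hc => hbx ⟨hby.1, hc⟩
      have hb'y' : ¬ Commute b' y := fun hc => hb'y ⟨hb'x.1, hc⟩
      have o1 := orb_third hDs hconj hd hx hy hby.1.1 hdx hdy hnc he hby.1.2.2 hby.2 hbx'
      have o2 := orb_third hDs hconj hd hy hx hb'x.1.1 hdy hdx (fun h => hnc h.symm) he'
        hb'x.1.2.2 hb'x.2 hb'y'
      rw [third_comm hDs hx hy hnc] at o2
      exact hxy (o1.trans o2.symm)
    have hle1 : ¬ (F D d x).ncard < (F D d y).ncard :=
      fun hlt => no_lt hDs hconj hgen hprim hw hd hx hy hdx hdy hxy hlt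
    have hle2 : ¬ (F D d y).ncard < (F D d x).ncard :=
      fun hlt => no_lt hDs hconj hgen hprim hw hd hy hx hdy hdx (fun h => hxy h.symm) hlt
    rcases hcmp with h | h
    · exact (Set.eq_of_subset_of_ncard_le h (by omega) (Set.toFinite _)).symm
    · exact Set.eq_of_subset_of_ncard_le h (by omega) (Set.toFinite _)
  -- the set is constant
  have hconst : ∀ x ∈ D, ¬ Commute d x → F D d x = F D d x₀ := by
    intro x hx hdx
    by_cases h1 : Orb d x x₀
    · have h2 : ¬ Orb d x y₀ := fun h => h₀ (h1.symm.trans h)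
      rw [hcomp x hx y₀ hy₀ hdx hdy₀ h2]
      exact (hcomp x₀ hx₀ y₀ hy₀ hdx₀ hdy₀ h₀).symm
    · exact hcomp x hx x₀ hx₀ hdx hdx₀ h1
  -- it is empty
  have hempty : ∀ b : G, b ∉ F D d x₀ := by
    intro b hb
    obtain ⟨b', hb', hb'x⟩ := exists_moving hconj hgen hprim hw hd hx₀ hdx₀
    obtain ⟨g, hgmem, hg⟩ := single_class hDs hconj hgen hprim hw hd b hb.1 b' hb'
    have hgd : Commute g d := by
      have hle : Subgroup.closure {y : G | y ∈ D ∧ y ≠ d ∧ Commute d y} ≤
          Subgroup.centralizer ({d} : Set G) := by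
        rw [Subgroup.closure_le]
        intro y hy
        rw [SetLike.mem_coe, Subgroup.mem_centralizer_iff]
        intro t ht
        rw [Set.mem_singleton_iff] at ht
        rw [ht]
        exact hy.2.2.eq
      have := hle hgmem
      rw [Subgroup.mem_centralizer_iff] at this
      exact (this d rfl).symm
    have h1 : b' ∈ F D d (g * x₀ * g⁻¹) := by
      rw [F_conj hconj hgd]
      exact ⟨b, hb, hg⟩
    rw [hconst _ (hconj g x₀ hx₀) (not_commute_conj hgd hdx₀)] at h1
    exact hb'x h1.2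
  intro x hx hdx b hb hbx
  have : b ∈ F D d x := ⟨hb, hbx⟩
  rw [hconst x hx hdx] at this
  exact hempty b this

/-- **Rank three.**  In a primitive class of 3-transpositions with a commuting pair the
centralizer of a member is transitive on the members not commuting with it. -/
theorem orb_all (hDs : IsThreeTranspositionSet D) (hconj : ∀ g : G, ∀ d ∈ D, g * d * g⁻¹ ∈ D)
    (hgen : Subgroup.closure D = ⊤) (hprim : Cfsg.IsPrimitiveUnderConj D)
    (hw : ∃ a ∈ D, ∃ b ∈ D, a ≠ b ∧ Commute a b) :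
    ∀ d ∈ D, ∀ a ∈ D, ∀ a' ∈ D, ¬ Commute d a → ¬ Commute d a' → Orb d a a' := by
  by_contra hcon
  push Not at hcon
  obtain ⟨d₀, hd₀, a₀, ha₀, a₀', ha₀', hda₀, hda₀', hno⟩ := hcon
  have hP : ∀ d ∈ D, ∀ x ∈ D, ¬ Commute d x → ∀ b : G, Loc D d b → ¬ Commute b x := by
    intro d hd
    obtain ⟨k, hk⟩ := hprim.1 d₀ hd₀ d hd
    have h1 : ¬ Commute d (k * a₀ * k⁻¹) := by
      rw [← hk]
      exact fun h => hda₀ ((Commute.conj_iff k).mp h)
    have h2 : ¬ Commute d (k * a₀' * k⁻¹) := by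
      rw [← hk]
      exact fun h => hda₀' ((Commute.conj_iff k).mp h)
    have h3 : ¬ Orb d (k * a₀ * k⁻¹) (k * a₀' * k⁻¹) := by
      intro h
      apply hno
      have := h.conj k⁻¹
      have e1 : k⁻¹ * d * k⁻¹⁻¹ = d₀ := by rw [← hk]; group
      have e2 : k⁻¹ * (k * a₀ * k⁻¹) * k⁻¹⁻¹ = a₀ := by group
      have e3 : k⁻¹ * (k * a₀' * k⁻¹) * k⁻¹⁻¹ = a₀' := by group
      rwa [e1, e2, e3] at this
    exact key hDs hconj hgen hprim hw hd (hconj k a₀ ha₀) (hconj k a₀' ha₀') h1 h2 h3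
  -- commuting or equal is an equivalence relation, giving a block
  have hB := TTPrim2.isBlock_of_equiv hconj (fun u v => u ∈ D ∧ v ∈ D ∧ (u = v ∨ Commute u v))
    (fun u v h => ⟨h.2.1, h.1, h.2.2.elim (fun e => Or.inl e.symm) (fun c => Or.inr c.symm)⟩)
    (by
      rintro u v w ⟨hu, hv, huv⟩ ⟨-, hw', hvw⟩
      refine ⟨hu, hw', ?_⟩
      rcases huv with rfl | huv
      · exact hvw
      rcases hvw with rfl | hvw
      · exact Or.inr huv
      by_cases huw : u = w
      · exact Or.inl huw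
      right
      by_contra hnc
      by_cases hvu : v = u
      · rw [hvu] at hvw; exact hnc hvw
      exact hP u hu w hw' hnc v ⟨hv, hvu, huv⟩ hvw)
    (by
      rintro g u v ⟨hu, hv, huv⟩
      refine ⟨hconj g u hu, hconj g v hv, ?_⟩
      rcases huv with rfl | huv
      · exact Or.inl rfl
      · exact Or.inr ((Commute.conj_iff g).mpr huv))
    d₀
  have hBD : {v : G | v ∈ D ∧ (v ∈ D ∧ d₀ ∈ D ∧ (v = d₀ ∨ Commute v d₀))} ⊆ D := fun v hv => hv.1
  rcases hprim.2.2 _ hBD hB with h | h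
  · obtain ⟨a, ha, b, hb, hab, hc⟩ := hw
    obtain ⟨k, hk⟩ := hprim.1 a ha d₀ hd₀
    have hb' : k * b * k⁻¹ ∈ D := hconj k b hb
    have hcb : Commute (k * b * k⁻¹) d₀ := by
      rw [← hk]
      exact (Commute.conj_iff k).mpr hc.symm
    have hne : k * b * k⁻¹ ≠ d₀ := by
      rw [← hk]
      intro e
      exact hab (mul_left_cancel (mul_right_cancel e)).symm
    exact hne (h ⟨hb', hb', hd₀, Or.inr hcb⟩ ⟨hd₀, hd₀, hd₀, Or.inl rfl⟩)
  · have : a₀ ∈ {v : G | v ∈ D ∧ (v ∈ D ∧ d₀ ∈ D ∧ (v = d₀ ∨ Commute v d₀))} := by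
      rw [h]; exact ha₀
    rcases this.2.2.2 with e | hc
    · rw [e] at hda₀
      exact hda₀ (Commute.refl d₀)
    · exact hda₀ hc.symm

end Main

end Cfsg.Agent.Lib.Helper27.TTRank3
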