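import Cfsg.Agent.Lib.Helper27.TTRank3
import Cfsg.Agent.Lib.Helper1.Fitting

/-!
Local twins in a primitive class of 3-transpositions (helper27): two members `y, y'` commuting
with `x` are twins relative to `x` when they commute with the same other members commuting with
`x`.  If some pair of distinct local twins exists, every two members commuting with a third one do
not commute.
-/

set_option autoImplicit false

namespace Cfsg.Agent.Lib.Helper27.TTTwin

open Cfsg Cfsg.Agent.Lib.Helper27 Cfsg.Agent.Lib.Helper27.TTModule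
  Cfsg.Agent.Lib.Helper27.TTLocalClass Cfsg.Agent.Lib.Helper27.TTRank3

section Defs

variable {G : Type*} [Group G] {D : Set G}

/-- local twins relative to `x` -/
def Tw (D : Set G) (x y y' : G) : Prop :=
  Loc D x y ∧ Loc D x y' ∧
    ∀ g : G, Loc D x g → ((g ≠ y ∧ Commute g y) ↔ (g ≠ y' ∧ Commute g y'))

theorem Tw.refl {x y : G} (h : Loc D x y) : Tw D x y y := ⟨h, h, fun _ _ => Iff.rfl⟩

theorem Tw.symm {x y y' : G} (h : Tw D x y y') : Tw D x y' y :=
  ⟨h.2.1, h.1, fun g hg => (h.2.2 g hg).symm⟩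

theorem Tw.trans {x y y' y'' : G} (h : Tw D x y y') (h' : Tw D x y' y'') : Tw D x y y'' :=
  ⟨h.1, h'.2.1, fun g hg => (h.2.2 g hg).trans (h'.2.2 g hg)⟩

theorem Tw.not_commute {x y y' : G} (h : Tw D x y y') (hne : y ≠ y') : ¬ Commute y y' := by
  intro hc
  have := (h.2.2 y' h.2.1).mp ⟨fun e => hne e.symm, hc.symm⟩
  exact this.1 rfl

theorem Tw.conj (hconj : ∀ g : G, ∀ d ∈ D, g * d * g⁻¹ ∈ D) {x y y' : G} (h : Tw D x y y')
    (k : G) : Tw D (k * x * k⁻¹) (k * y * k⁻¹) (k * y' * k⁻¹) := by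
  refine ⟨h.1.conj hconj k, h.2.1.conj hconj k, ?_⟩
  intro g hg
  have hg' : Loc D x (k⁻¹ * g * k) := by
    have := hg.conj hconj k⁻¹
    have e1 : k⁻¹ * (k * x * k⁻¹) * k⁻¹⁻¹ = x := by group
    rw [e1, inv_inv] at this
    exact this
  have key := h.2.2 _ hg'
  have ex : ∀ u : G, (g ≠ k * u * k⁻¹ ∧ Commute g (k * u * k⁻¹)) ↔
      (k⁻¹ * g * k ≠ u ∧ Commute (k⁻¹ * g * k) u) := by
    intro u
    constructor
    · rintro ⟨h1, h2⟩
      refine ⟨?_, ?_⟩
      · intro e
        apply h1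
        rw [← e]; group
      · have := (Commute.conj_iff k⁻¹).mpr h2
        have e2 : k⁻¹ * (k * u * k⁻¹) * k⁻¹⁻¹ = u := by group
        rw [e2, inv_inv] at this
        exact this
    · rintro ⟨h1, h2⟩
      refine ⟨?_, ?_⟩
      · intro e
        apply h1
        rw [e]; group
      · have := (Commute.conj_iff k).mpr h2
        have e2 : k * (k⁻¹ * g * k) * k⁻¹ = g := by group
        rw [e2] at this
        exact this
  rw [ex y, ex y']
  exact key

/-- two involutions whose product squares to one commute -/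
theorem commute_of_sq (hDs : IsThreeTranspositionSet D) {b c : G} (hb : b ∈ D) (hc : c ∈ D)
    (h : (b * c) ^ 2 = 1) : Commute b c := by
  show b * c = c * b
  have h1 : b * c * (b * c) = 1 := by rw [← pow_two]; exact h
  calc b * c = b * c * (b * c) * (c⁻¹ * b⁻¹) := by group
    _ = c * b := by rw [h1, one_mul, tt_inv hDs hb, tt_inv hDs hc]

/-- the third member of a line does not commute with the others -/
theorem not_commute_third (hDs : IsThreeTranspositionSet D) {a b : G} (ha : a ∈ D) (hb : b ∈ D)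
    (hnc : ¬ Commute a b) : ¬ Commute (a * b * a⁻¹) b := by
  rw [third_comm hDs ha hb hnc]
  intro hc
  have e : b = b * b * b⁻¹ := by group
  have : Commute (b * a * b⁻¹) (b * b * b⁻¹) := by rw [← e]; exact hc
  exact hnc ((Commute.conj_iff b).mp this)

theorem not_commute_third' {a b : G} (hnc : ¬ Commute a b) : ¬ Commute (a * b * a⁻¹) a := by
  intro hc
  have e : a = a * a * a⁻¹ := by group
  have : Commute (a * b * a⁻¹) (a * a * a⁻¹) := by rw [← e]; exact hc
  exact hnc ((Commute.conj_iff a).mp this).symm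

theorem s4_tw_id1 : Equiv.swap (1 : Fin 4) 2 * Equiv.swap 0 1 * (Equiv.swap 1 2)⁻¹ =
    Equiv.swap 0 2 := by decide

theorem s4_tw_id2 : Equiv.swap (2 : Fin 4) 3 * Equiv.swap 1 2 * (Equiv.swap 2 3)⁻¹ =
    Equiv.swap 1 3 := by decide

theorem s4_tw_id3 : Equiv.swap (1 : Fin 4) 3 * Equiv.swap 0 2 =
    Equiv.swap 0 2 * Equiv.swap 1 3 := by decide

theorem s4_tw_id4 : Equiv.swap (1 : Fin 4) 3 ≠ Equiv.swap 0 2 := by decide

/-- the third member of the line through two distinct local twins is a local twin -/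
theorem Tw.third (hDs : IsThreeTranspositionSet D) (hconj : ∀ g : G, ∀ d ∈ D, g * d * g⁻¹ ∈ D)
    {x p q : G} (h : Tw D x p q) (hne : p ≠ q) : Tw D x p (p * q * p⁻¹) := by
  have hpq : ¬ Commute p q := h.not_commute hne
  have hpD : p ∈ D := h.1.1
  have hqD : q ∈ D := h.2.1.1
  have hpx : p * x * p⁻¹ = x := conj_fix h.1.2.2.symm
  have hr : Loc D x (p * q * p⁻¹) := by
    have := h.2.1.conj hconj p
    rwa [hpx] at this
  have hrp : ¬ Commute (p * q * p⁻¹) p := not_commute_third' hpq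
  have hrq : ¬ Commute (p * q * p⁻¹) q := not_commute_third hDs hpD hqD hpq
  refine ⟨h.1, hr, ?_⟩
  intro g hg
  constructor
  · rintro ⟨hgp, hcgp⟩
    obtain ⟨hgq, hcgq⟩ := (h.2.2 g hg).mp ⟨hgp, hcgp⟩
    refine ⟨?_, ?_⟩
    · intro e
      rw [e] at hcgp
      exact hrp hcgp
    · exact (hcgp.mul_right hcgq).mul_right hcgp.inv_right
  · rintro ⟨hgr, hcgr⟩
    have hgp : g ≠ p := by
      intro e
      rw [e] at hcgr
      exact hrp hcgr.symm
    refine ⟨hgp, ?_⟩
    by_contra hncgp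
    -- the string `r - p - g`
    obtain ⟨φ, hφi, hφr, hφp, hφg⟩ := Cfsg.Agent.S5344.result hDs hr.1 hpD hg.1
      (fun e => hgr e.symm) hcgr.symm hrp (fun hc => hncgp hc.symm)
    have hq' : q = p * (p * q * p⁻¹) * p⁻¹ := by
      have := tt_sq hDs hpD
      calc q = (p * p) * q * (p * p)⁻¹ := by rw [this]; group
        _ = p * (p * q * p⁻¹) * p⁻¹ := by group
    have hq'' : q = φ (Equiv.swap 0 2) := by
      rw [← s4_tw_id1, map_mul, map_mul, map_inv, hφr, hφp]
      exact hq'
    have hp' : g * p * g⁻¹ = φ (Equiv.swap 1 3) := by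
      rw [← s4_tw_id2, map_mul, map_mul, map_inv, hφp, hφg]
    have hcomm : Commute (g * p * g⁻¹) q := by
      show _ * _ = _ * _
      rw [hp', hq'', ← map_mul, ← map_mul, s4_tw_id3]
    have hne' : g * p * g⁻¹ ≠ q := by
      rw [hp', hq'']
      intro e
      exact s4_tw_id4 (hφi e)
    have hp'loc : Loc D x (g * p * g⁻¹) := by
      have := h.1.conj hconj g
      rwa [conj_fix hg.2.2.symm] at this
    obtain ⟨-, hcp⟩ := (h.2.2 _ hp'loc).mpr ⟨hne', hcomm⟩
    exact not_commute_third hDs hg.1 hpD hncgp hcp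

/-- moving the centre of a pair of local twins -/
theorem Tw.move (hDs : IsThreeTranspositionSet D) (hconj : ∀ g : G, ∀ d ∈ D, g * d * g⁻¹ ∈ D)
    {z z' y v : G} (h : Tw D z y v) (hz : z ∈ D) (hz' : z' ∈ D) (hzz' : ¬ Commute z z')
    (hy : Commute z' y) (hv : Commute z' v) : Tw D z' y v := by
  have h1 : (z * z' * z⁻¹) * z * (z * z' * z⁻¹)⁻¹ = z' := by
    have := conj_eq_of_not_commute hDs hz hz' hzz'
    calc z * z' * z⁻¹ * z * (z * z' * z⁻¹)⁻¹ = (z * z') * z * (z * z')⁻¹ := by group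
      _ = z' := this
  have hty : Commute (z * z' * z⁻¹) y :=
    ((h.1.2.2.mul_left hy).mul_left h.1.2.2.inv_left)
  have htv : Commute (z * z' * z⁻¹) v :=
    ((h.2.1.2.2.mul_left hv).mul_left h.2.1.2.2.inv_left)
  have := h.conj hconj (z * z' * z⁻¹)
  rwa [h1, conj_fix hty, conj_fix htv] at this

end Defs

section Odd

variable {G : Type*} [Group G] {D : Set G}

/-- an element of a subgroup of odd order whose square is one is trivial -/
theorem eq_one_of_sq_of_odd [Finite G] {M : Subgroup G} (hM : (Nat.card M).Coprime 2) {m : G}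
    (hm : m ∈ M) (h2 : m * m = 1) : m = 1 := by
  have h1 : orderOf m ∣ 2 := by
    apply orderOf_dvd_of_pow_eq_one
    rw [pow_two]; exact h2
  have h3 : orderOf m ∣ Nat.card M := by
    have := orderOf_dvd_natCard (⟨m, hm⟩ : M)
    rwa [Subgroup.orderOf_mk] at this
  have h4 : orderOf m ∣ Nat.gcd (Nat.card M) 2 := Nat.dvd_gcd h3 h1
  rw [hM, Nat.dvd_one] at h4
  exact orderOf_eq_one_iff.mp h4

/-- the key step: a conjugate of `e` under an odd normal subgroup of the subgroup generated by the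
local set is a local twin of `e` -/
theorem tw_of_odd_normal [Finite G] (hDs : IsThreeTranspositionSet D)
    (hconj : ∀ g : G, ∀ d ∈ D, g * d * g⁻¹ ∈ D) {x : G} {M : Subgroup G}
    (hMle : M ≤ Subgroup.closure {y : G | y ∈ D ∧ y ≠ x ∧ Commute x y})
    (hMn : ∀ h ∈ Subgroup.closure {y : G | y ∈ D ∧ y ≠ x ∧ Commute x y}, ∀ m ∈ M,
      h * m * h⁻¹ ∈ M)
    (hM : (Nat.card M).Coprime 2) {n e : G} (hn : n ∈ M) (he : Loc D x e) :
    Tw D x e (n * e * n⁻¹) := by
  have hcent : Subgroup.closure {y : G | y ∈ D ∧ y ≠ x ∧ Commute x y} ≤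
      Subgroup.centralizer ({x} : Set G) := by
    rw [Subgroup.closure_le]
    intro y hy
    rw [SetLike.mem_coe, Subgroup.mem_centralizer_iff]
    intro t ht
    rw [Set.mem_singleton_iff] at ht
    rw [ht]
    exact hy.2.2.eq
  have hMx : ∀ m ∈ M, Commute m x := by
    intro m hm
    have := hcent (hMle hm)
    rw [Subgroup.mem_centralizer_iff] at this
    exact (this x rfl).symm
  -- one direction, for any member of `M` and any member of the local set
  have aux : ∀ n ∈ M, ∀ e : G, Loc D x e → Loc D x (n * e * n⁻¹) ∧ ∀ g : G, Loc D x g →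
      g ≠ e → Commute g e → g ≠ n * e * n⁻¹ ∧ Commute g (n * e * n⁻¹) := by
    intro n hn e he
    have hf : Loc D x (n * e * n⁻¹) := by
      have := he.conj hconj n
      rwa [conj_fix (hMx n hn)] at this
    refine ⟨hf, ?_⟩
    intro g hg hge hcge
    have heH : e ∈ Subgroup.closure {y : G | y ∈ D ∧ y ≠ x ∧ Commute x y} :=
      Subgroup.subset_closure he
    have hgH : g ∈ Subgroup.closure {y : G | y ∈ D ∧ y ≠ x ∧ Commute x y} :=
      Subgroup.subset_closure hg
    have he2 : e * e = 1 := tt_sq hDs he.1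
    have hg2 : g * g = 1 := tt_sq hDs hg.1
    have hei : e⁻¹ = e := tt_inv hDs he.1
    -- `e * f ∈ M`
    have hefM : e * (n * e * n⁻¹) ∈ M := by
      have h1 : e * (n * e * n⁻¹) = (e * n * e⁻¹) * n⁻¹ := by rw [hei]; group
      rw [h1]
      exact M.mul_mem (hMn e heH n hn) (M.inv_mem hn)
    have hcomm : Commute g (n * e * n⁻¹) := by
      rcases hDs.2 g hg.1 _ hf.1 with h2 | h3
      · exact commute_of_sq hDs hg.1 hf.1 h2
      · exfalso
        -- `g * f = u * m` with `u = g * e` an involution and `m = e * f ∈ M`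
        set u : G := g * e with hu
        set m : G := e * (n * e * n⁻¹) with hm
        have huH : u ∈ Subgroup.closure {y : G | y ∈ D ∧ y ≠ x ∧ Commute x y} :=
          Subgroup.mul_mem _ hgH heH
        have hu2 : u * u = 1 := by
          rw [hu]
          calc g * e * (g * e) = g * (e * g) * e := by group
            _ = g * (g * e) * e := by rw [hcge.eq]
            _ = (g * g) * (e * e) := by group
            _ = 1 := by rw [hg2, he2, one_mul]
        have hui : u⁻¹ = u := inv_eq_of_mul_eq_one_right hu2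
        have hgf : g * (n * e * n⁻¹) = u * m := by
          rw [hu, hm]
          calc g * (n * e * n⁻¹) = g * (e * e) * (n * e * n⁻¹) := by rw [he2, mul_one]
            _ = g * e * (e * (n * e * n⁻¹)) := by group
        have h3' : u * m * (u * m) * (u * m) = 1 := by
          rw [← hgf, ← h3, pow_succ, pow_two]
        have huM : u ∈ M := by
          have h4 : u = ((u * m * u⁻¹) * m * (u * m * u⁻¹))⁻¹ := by
            rw [eq_inv_iff_mul_eq_one, hui]
            calc u * (u * m * u * m * (u * m * u)) = (u * u) * (m * u * m * u * m * u) := by group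
              _ = m * u * m * u * m * u := by rw [hu2, one_mul]
              _ = u⁻¹ * (u * m * (u * m) * (u * m)) * u := by group
              _ = 1 := by rw [h3']; group
          rw [h4]
          apply M.inv_mem
          exact M.mul_mem (M.mul_mem (hMn u huH m hefM) hefM) (hMn u huH m hefM)
        have hu1 : u = 1 := eq_one_of_sq_of_odd hM huM hu2
        apply hge
        rw [hu] at hu1
        calc g = g * e * e⁻¹ := by group
          _ = e := by rw [hu1, one_mul, hei]
    refine ⟨?_, hcomm⟩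
    intro e'
    -- then `e` and `f` commute, so `e * f = 1`
    have hcef : Commute e (n * e * n⁻¹) := by rw [← e']; exact hcge.symm
    have h2 : e * (n * e * n⁻¹) * (e * (n * e * n⁻¹)) = 1 := by
      have hf2 : (n * e * n⁻¹) * (n * e * n⁻¹) = 1 := tt_sq hDs hf.1
      calc e * (n * e * n⁻¹) * (e * (n * e * n⁻¹))
          = e * ((n * e * n⁻¹) * e) * (n * e * n⁻¹) := by group
        _ = e * (e * (n * e * n⁻¹)) * (n * e * n⁻¹) := by rw [hcef.eq]
        _ = (e * e) * ((n * e * n⁻¹) * (n * e * n⁻¹)) := by group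
        _ = 1 := by rw [he2, hf2, one_mul]
    have h1 := eq_one_of_sq_of_odd hM hefM h2
    have hef : e = n * e * n⁻¹ := by
      calc e = e * (e * (n * e * n⁻¹)) := by rw [h1, mul_one]
        _ = (e * e) * (n * e * n⁻¹) := by group
        _ = n * e * n⁻¹ := by rw [he2, one_mul]
    rw [← hef] at e'
    exact hge e'
  obtain ⟨hf, h1⟩ := aux n hn e he
  refine ⟨he, hf, ?_⟩
  intro g hg
  constructor
  · rintro ⟨hge, hcge⟩
    exact h1 g hg hge hcge
  · rintro ⟨hgf, hcgf⟩
    obtain ⟨-, h2⟩ := aux n⁻¹ (M.inv_mem hn) _ hf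
    have e1 : n⁻¹ * (n * e * n⁻¹) * n⁻¹⁻¹ = e := by group
    rw [e1] at h2
    exact h2 g hg hgf hcgf

/-- if the odd core of the subgroup generated by the local set of `x` is not central, the local
set contains two distinct local twins -/
theorem exists_tw_of_oddCore [Finite G] (hDs : IsThreeTranspositionSet D)
    (hconj : ∀ g : G, ∀ d ∈ D, g * d * g⁻¹ ∈ D) {x : G}
    (h : ¬ Cfsg.oddCore ↥(Subgroup.closure {y : G | y ∈ D ∧ y ≠ x ∧ Commute x y}) ≤
      Subgroup.center ↥(Subgroup.closure {y : G | y ∈ D ∧ y ≠ x ∧ Commute x y})) :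
    ∃ e f : G, e ≠ f ∧ Tw D x e f := by
  set H : Subgroup G := Subgroup.closure {y : G | y ∈ D ∧ y ≠ x ∧ Commute x y} with hH
  set N : Subgroup ↥H := Cfsg.oddCore ↥H with hN
  haveI hNn : N.Normal := Cfsg.Agent.Lib.Helper1.pPrimeCore_normal 2
  have hNc : (Nat.card N).Coprime 2 := Cfsg.Agent.Lib.Helper1.pPrimeCore_card_coprime 2
  set M : Subgroup G := N.map H.subtype with hM
  have hMc : (Nat.card M).Coprime 2 := by
    rw [hM, Subgroup.card_map_of_injective H.subtype_injective]
    exact hNc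
  have hMle : M ≤ H := by
    rw [hM]
    exact Subgroup.map_subtype_le N
  have hMn : ∀ k ∈ H, ∀ m ∈ M, k * m * k⁻¹ ∈ M := by
    intro k hk m hm
    obtain ⟨m₀, hm₀, rfl⟩ := hm
    exact ⟨(⟨k, hk⟩ : ↥H) * m₀ * (⟨k, hk⟩ : ↥H)⁻¹, hNn.conj_mem m₀ hm₀ _, rfl⟩
  -- a member of `N` which is not central
  obtain ⟨n, hnN, hnc⟩ := SetLike.not_le_iff_exists.mp h
  -- some generator does not commute with it
  have hex : ∃ e : G, Loc D x e ∧ ¬ Commute (n : G) e := by
    by_contra hcon
    push Not at hcon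
    apply hnc
    rw [Subgroup.mem_center_iff]
    intro k
    have hle : H ≤ Subgroup.centralizer ({(n : G)} : Set G) := by
      apply (Subgroup.closure_le _).mpr
      intro y hy
      rw [SetLike.mem_coe, Subgroup.mem_centralizer_iff]
      intro t ht
      rw [Set.mem_singleton_iff] at ht
      rw [ht]
      exact (hcon y hy).eq
    have := hle k.2
    rw [Subgroup.mem_centralizer_iff] at this
    apply Subtype.ext
    rw [Subgroup.coe_mul, Subgroup.coe_mul]
    exact (this (n : G) rfl).symm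
  obtain ⟨e, he, hne⟩ := hex
  have hnM : (n : G) ∈ M := ⟨n, hnN, rfl⟩
  refine ⟨e, (n : G) * e * (n : G)⁻¹, ?_, tw_of_odd_normal hDs hconj hMle hMn hMc hnM he⟩
  intro e'
  apply hne
  show (n : G) * e = e * (n : G)
  calc (n : G) * e = ((n : G) * e * (n : G)⁻¹) * (n : G) := by group
    _ = e * (n : G) := by rw [← e']

end Odd

section Main

variable {G : Type*} [Group G] [Finite G] {D : Set G}

/-- the ordered commuting pairs of distinct members form a single orbit -/
theorem pair_conj (hDs : IsThreeTranspositionSet D)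
    (hconj : ∀ g : G, ∀ d ∈ D, g * d * g⁻¹ ∈ D) (hgen : Subgroup.closure D = ⊤)
    (hprim : Cfsg.IsPrimitiveUnderConj D) (hw : ∃ a ∈ D, ∃ b ∈ D, a ≠ b ∧ Commute a b)
    {d e x y : G} (hd : d ∈ D) (he : Loc D d e) (hx : x ∈ D) (hy : Loc D x y) :
    ∃ g : G, g * d * g⁻¹ = x ∧ g * e * g⁻¹ = y := by
  obtain ⟨g₁, hg₁⟩ := hprim.1 d hd x hx
  have he' : Loc D x (g₁ * e * g₁⁻¹) := by
    have := he.conj hconj g₁
    rwa [hg₁] at this
  obtain ⟨k, hkmem, hk⟩ := single_class hDs hconj hgen hprim hw hx _ he' y hy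
  have hkx : Commute k x := by
    have hle : Subgroup.closure {y : G | y ∈ D ∧ y ≠ x ∧ Commute x y} ≤
        Subgroup.centralizer ({x} : Set G) := by
      rw [Subgroup.closure_le]
      intro y hy
      rw [SetLike.mem_coe, Subgroup.mem_centralizer_iff]
      intro t ht
      rw [Set.mem_singleton_iff] at ht
      rw [ht]
      exact hy.2.2.eq
    have := hle hkmem
    rw [Subgroup.mem_centralizer_iff] at this
    exact (this x rfl).symm
  refine ⟨k * g₁, ?_, ?_⟩
  · calc k * g₁ * d * (k * g₁)⁻¹ = k * (g₁ * d * g₁⁻¹) * k⁻¹ := by group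
      _ = x := by rw [hg₁, conj_fix hkx]
  · calc k * g₁ * e * (k * g₁)⁻¹ = k * (g₁ * e * g₁⁻¹) * k⁻¹ := by group
      _ = y := hk

/-- if some pair of distinct local twins exists, every commuting pair has one -/
theorem homog (hDs : IsThreeTranspositionSet D)
    (hconj : ∀ g : G, ∀ d ∈ D, g * d * g⁻¹ ∈ D) (hgen : Subgroup.closure D = ⊤)
    (hprim : Cfsg.IsPrimitiveUnderConj D) (hw : ∃ a ∈ D, ∃ b ∈ D, a ≠ b ∧ Commute a b)
    {d e f : G} (hd : d ∈ D) (hef : e ≠ f) (ht : Tw D d e f) {x y : G} (hx : x ∈ D)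
    (hy : Loc D x y) : ∃ y' : G, y' ≠ y ∧ Tw D x y y' := by
  obtain ⟨g, hgd, hge⟩ := pair_conj hDs hconj hgen hprim hw hd ht.1 hx hy
  refine ⟨g * f * g⁻¹, ?_, ?_⟩
  · rw [← hge]
    intro e'
    exact hef (mul_left_cancel (mul_right_cancel e')).symm
  · have := ht.conj hconj g
    rwa [hgd, hge] at this

/-- two non-commuting members of a local set are local twins -/
theorem all_twins (hDs : IsThreeTranspositionSet D)
    (hconj : ∀ g : G, ∀ d ∈ D, g * d * g⁻¹ ∈ D) (hgen : Subgroup.closure D = ⊤)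
    (hprim : Cfsg.IsPrimitiveUnderConj D) (hw : ∃ a ∈ D, ∃ b ∈ D, a ≠ b ∧ Commute a b)
    (hom : ∀ x y : G, x ∈ D → Loc D x y → ∃ y' : G, y' ≠ y ∧ Tw D x y y')
    {x y v : G} (hx : x ∈ D) (hy : Loc D x y) (hv : Loc D x v) (hyv : ¬ Commute y v) :
    Tw D x y v := by
  by_contra hnt
  have hyD : y ∈ D := hy.1
  have hxy : Loc D y x := ⟨hx, fun e => hy.2.1 e.symm, hy.2.2.symm⟩
  obtain ⟨ε, hεx, hε⟩ := hom y x hyD hxy
  have hεloc : Loc D y ε := hε.2.1
  have hεD : ε ∈ D := hεloc.1
  have hxε : ¬ Commute x ε := hε.not_commute (fun e => hεx e.symm)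
  -- `ε` commutes with the common members of the local sets of `x` and `y`
  have h2 : ∀ g : G, Loc D x g → Loc D y g → Commute g ε := by
    intro g hgx hgy
    exact ((hε.2.2 g hgy).mp ⟨hgx.2.1, hgx.2.2.symm⟩).2
  -- `ε` commutes with the members which are not local twins of `y`
  have h3 : ∀ v' : G, Loc D x v' → ¬ Commute y v' → ¬ Tw D x y v' → Commute ε v' := by
    intro v' hv' hyv' hnt'
    obtain ⟨y', hy'ne, hy'⟩ := hom x y hx hy
    have hyy' : ¬ Commute y y' := hy'.not_commute (fun e => hy'ne e.symm)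
    obtain ⟨g, hgy, hg⟩ := orb_all hDs hconj hgen hprim hw y hyD y' hy'.2.1.1 v' hv'.1 hyy' hyv'
    have hz := hy'.conj hconj g
    rw [conj_fix hgy, hg] at hz
    set z : G := g * x * g⁻¹ with hzdef
    have hzD : z ∈ D := hconj g x hx
    have hzx : Loc D x z := by
      refine ⟨hzD, ?_, ?_⟩
      · intro e
        rw [e] at hz
        exact hnt' hz
      · by_contra hnc
        exact hnt' (hz.move hDs hconj hzD hx (fun hc => hnc hc.symm) hy.2.2 hv'.2.2)
    have hzy : Loc D y z := ⟨hzD, fun e => hz.1.2.1 e.symm, hz.1.2.2.symm⟩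
    have hzε : Commute z ε := h2 z hzx hzy
    have hεz : Loc D z ε := by
      refine ⟨hεD, ?_, hzε⟩
      intro e
      rw [e] at hxε
      exact hxε hzx.2.2
    exact ((hz.2.2 ε hεz).mp ⟨hεloc.2.1, hεloc.2.2.symm⟩).2
  obtain ⟨t₁, ht₁, ht₁ε⟩ := exists_moving hconj hgen hprim hw hx hεD hxε
  have ht₁tw : Tw D x y t₁ := by
    by_contra hcon
    by_cases hc : Commute y t₁
    · by_cases he : t₁ = y
      · rw [he] at hcon
        exact hcon (Tw.refl hy)
      · exact ht₁ε (h2 t₁ ht₁ ⟨ht₁.1, he, hc⟩)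
    · exact ht₁ε (h3 t₁ ht₁ hc hcon).symm
  have ht₁D : t₁ ∈ D := ht₁.1
  have hvD : v ∈ D := hv.1
  have hvt₁ : ¬ Commute v t₁ := by
    intro hc
    have hne : v ≠ t₁ := by
      intro e
      rw [e] at hnt
      exact hnt ht₁tw
    exact hyv ((ht₁tw.2.2 v hv).mpr ⟨hne, hc⟩).2.symm
  have ht₁v : ¬ Commute t₁ v := fun hc => hvt₁ hc.symm
  have hv₁ : Loc D x (t₁ * v * t₁⁻¹) := by
    have := hv.conj hconj t₁
    rwa [conj_fix ht₁.2.2.symm] at this
  have hv₁tw : ¬ Tw D x y (t₁ * v * t₁⁻¹) := by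
    intro hcon
    have h4 : Tw D x t₁ (t₁ * v * t₁⁻¹) := ht₁tw.symm.trans hcon
    have hne : t₁ ≠ t₁ * v * t₁⁻¹ := by
      intro e
      exact not_commute_third' ht₁v (by rw [← e])
    have h5 := h4.third hDs hconj hne
    have e5 : t₁ * (t₁ * v * t₁⁻¹) * t₁⁻¹ = v := by
      have := tt_sq hDs ht₁D
      calc t₁ * (t₁ * v * t₁⁻¹) * t₁⁻¹ = (t₁ * t₁) * v * (t₁ * t₁)⁻¹ := by group
        _ = v := by rw [this]; group
    rw [e5] at h5
    exact hnt (ht₁tw.trans h5)
  have hyv₁ : ¬ Commute y (t₁ * v * t₁⁻¹) := by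
    intro hc
    have hne : t₁ * v * t₁⁻¹ ≠ y := by
      intro e
      rw [e] at hv₁tw
      exact hv₁tw (Tw.refl hy)
    have := ((ht₁tw.2.2 _ hv₁).mp ⟨hne, hc.symm⟩).2
    exact not_commute_third' ht₁v this
  have hεv : Commute ε v := h3 v hv hyv hnt
  have hεv₁ : Commute ε (t₁ * v * t₁⁻¹) := h3 _ hv₁ hyv₁ hv₁tw
  -- `t₁` is the third member of the line through `v` and `v₁`
  have ht₁eq : t₁ = v⁻¹ * (t₁ * v * t₁⁻¹) * v := by
    rw [third_comm hDs ht₁D hvD ht₁v]
    group
  apply ht₁ε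
  rw [ht₁eq]
  exact ((hεv.inv_right.mul_right hεv₁).mul_right hεv).symm

/-- if some pair of distinct local twins exists, two distinct members commuting with a third
member do not commute -/
theorem local_indep (hDs : IsThreeTranspositionSet D)
    (hconj : ∀ g : G, ∀ d ∈ D, g * d * g⁻¹ ∈ D) (hgen : Subgroup.closure D = ⊤)
    (hprim : Cfsg.IsPrimitiveUnderConj D) (hw : ∃ a ∈ D, ∃ b ∈ D, a ≠ b ∧ Commute a b)
    {d e f : G} (hd : d ∈ D) (hef : e ≠ f) (ht : Tw D d e f) {x y v : G} (hx : x ∈ D)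
    (hy : Loc D x y) (hv : Loc D x v) (hne : y ≠ v) : ¬ Commute y v := by
  have hom : ∀ x y : G, x ∈ D → Loc D x y → ∃ y' : G, y' ≠ y ∧ Tw D x y y' :=
    fun x y hx hy => homog hDs hconj hgen hprim hw hd hef ht hx hy
  have hpath : Conn D x y v := conn_of_prim hDs hconj hgen hprim hw hx hy hv
  have htw : ∀ w : G, Conn D x y w → Tw D x y w := by
    intro w hp
    induction hp with
    | refl => exact Tw.refl hy
    | @tail b c _ hbc ih =>
      exact ih.trans (all_twins hDs hconj hgen hprim hw hom hx hbc.1 hbc.2.1 hbc.2.2)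
  exact (htw v hpath).not_commute hne

end Main

end Cfsg.Agent.Lib.Helper27.TTTwin
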