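import Cfsg.Agent.Lib.helper17.CB12

set_option autoImplicit false

namespace Cfsg.Agent.Lib.Helper27.Tate

open MulAction
open Cfsg.Agent.Lib.helper17.CB12

universe u v w

variable {S : Type u} [Group S] {X : Type v} [MulAction (S × S) X]
  {Z : Type w} [CommGroup Z] (N : Subgroup S) (lam : N →* Z)

/-- extension by one of a map defined on a subgroup -/
noncomputable def lamE : S → Z := by
  classical
  exact fun s => if h : s ∈ N then lam ⟨s, h⟩ else 1

theorem lamE_of_mem {s : S} (h : s ∈ N) : lamE N lam s = lam ⟨s, h⟩ := by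
  unfold lamE
  rw [dif_pos h]

theorem lamE_one : lamE N lam 1 = 1 := by
  rw [lamE_of_mem N lam N.one_mem]
  exact map_one lam

theorem lamE_mul {s t : S} (hs : s ∈ N) (ht : t ∈ N) :
    lamE N lam (s * t) = lamE N lam s * lamE N lam t := by
  rw [lamE_of_mem N lam hs, lamE_of_mem N lam ht, lamE_of_mem N lam (N.mul_mem hs ht), ← map_mul]
  rfl

theorem lamE_inv {s : S} (hs : s ∈ N) : lamE N lam s⁻¹ = (lamE N lam s)⁻¹ := by
  rw [lamE_of_mem N lam hs, lamE_of_mem N lam (N.inv_mem hs), ← map_inv]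
  rfl

/-- invariance of `lam` under conjugation by the whole group -/
def ConjInv [N.Normal] : Prop :=
  ∀ (s : S) (n : S) (hn : n ∈ N), lamE N lam (s * n * s⁻¹) = lamE N lam n

section RightInv

variable [Fintype (Ybar S X)]

/-- reindexing a product over the right orbits by an element of `GX` -/
theorem prod_comp_GX (f : X → Z) (hf : ∀ (t : S) (x : X), f (((1 : S), t) • x) = f x)
    (σ : GX S X) : ∏ y : Ybar S X, f (σ.1 y.out) = ∏ y : Ybar S X, f y.out := by
  have hout : ∀ x : X, f (Quotient.mk (rightRel S X) x).out = f x := by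
    intro x
    have h1 : (rightRel S X).r (Quotient.mk (rightRel S X) x).out x :=
      Quotient.exact (Quotient.out_eq _)
    obtain ⟨t, ht⟩ := h1
    conv_rhs => rw [← ht]
    rw [hf]
  have h1 : ∀ y : Ybar S X, f (σ.1 y.out) = f (barPerm σ y).out := by
    intro y
    have h2 : barPerm σ y = Quotient.mk (rightRel S X) (σ.1 y.out) := by
      conv_lhs => rw [← Quotient.out_eq y]
      exact barPerm_mk σ y.out
    rw [h2, hout]
  rw [Finset.prod_congr rfl (fun y _ => h1 y)]
  exact Equiv.prod_comp (barPerm σ) (fun y => f y.out)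

end RightInv

/-- the left multiplication by `s` -/
def lft (s : S) (x : X) : X := ((s, (1 : S)) : S × S) • x

theorem lft_right (s t : S) (x : X) :
    lft s (((1 : S), t) • x) = ((1 : S), t) • lft s x := by
  unfold lft
  rw [← mul_smul, ← mul_smul]
  simp

theorem lft_mul (s t : S) (x : X) : lft (s * t) x = lft s (lft t x) := by
  unfold lft
  rw [← mul_smul]
  simp

theorem lft_eq_iota (s : S) (x : X) : lft s x = ((iotaX S X s : GX S X) : Equiv.Perm X) x := rfl

/-- the two local factors -/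
def eD (D : X → S) (s : S) (x : X) : S := s⁻¹ * D (lft s x) * (D x)⁻¹

def fD (D : X → S) (s : S) (x : X) : S := D (lft s x) * (D x)⁻¹

/-- right equivariance of a map to `S` -/
def RightEq (D : X → S) : Prop := ∀ (t : S) (x : X), D (((1 : S), t) • x) = D x * t⁻¹

theorem eD_right {D : X → S} (hD : RightEq D) (s t : S) (x : X) :
    eD D s (((1 : S), t) • x) = eD D s x := by
  unfold eD
  rw [lft_right, hD, hD]
  group

theorem fD_right {D : X → S} (hD : RightEq D) (s t : S) (x : X) :
    fD D s (((1 : S), t) • x) = fD D s x := by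
  unfold fD
  rw [lft_right, hD, hD]
  group

theorem eD_mul (D : X → S) (s t : S) (x : X) :
    eD D (s * t) x = t⁻¹ * eD D s (lft t x) * t * eD D t x := by
  unfold eD
  rw [lft_mul]
  group

theorem eD_eq (D : X → S) (s : S) (x : X) : eD D s x = s⁻¹ * fD D s x := by
  unfold eD fD
  group

section Theta

variable [Fintype (Ybar S X)] [hN : N.Normal]

/-- the candidate extension -/
noncomputable def Theta (D : X → S) (s : S) : Z := ∏ y : Ybar S X, lamE N lam (eD D s y.out)

/-- the correction term on `N` -/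
noncomputable def TT (D : X → S) (s : S) : Z := ∏ y : Ybar S X, lamE N lam (fD D s y.out)

theorem Theta_mul (hlam : ConjInv N lam) {D : X → S} (hD : RightEq D)
    (hD2 : ∀ (s : S) (x : X), eD D s x ∈ N) (s t : S) :
    Theta N lam D (s * t) = Theta N lam D s * Theta N lam D t := by
  unfold Theta
  have h1 : ∀ y : Ybar S X, lamE N lam (eD D (s * t) y.out) =
      lamE N lam (eD D s (lft t y.out)) * lamE N lam (eD D t y.out) := by
    intro y
    rw [eD_mul]
    have ha : t⁻¹ * eD D s (lft t y.out) * t ∈ N := by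
      have := hN.conj_mem _ (hD2 s (lft t y.out)) t⁻¹
      rwa [inv_inv] at this
    rw [lamE_mul N lam ha (hD2 t y.out)]
    congr 1
    have := hlam t⁻¹ _ (hD2 s (lft t y.out))
    rwa [inv_inv] at this
  rw [Finset.prod_congr rfl (fun y _ => h1 y), Finset.prod_mul_distrib]
  congr 1
  have := prod_comp_GX (fun x => lamE N lam (eD D s x))
    (fun t' x => by rw [eD_right hD]) (iotaX S X t)
  exact this

/-- the candidate extension as a homomorphism -/
noncomputable def ThetaHom (hlam : ConjInv N lam) {D : X → S} (hD : RightEq D)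
    (hD2 : ∀ (s : S) (x : X), eD D s x ∈ N) : S →* Z :=
  MonoidHom.mk' (Theta N lam D) (Theta_mul N lam hlam hD hD2)

theorem fD_mem {D : X → S} (hD2 : ∀ (s : S) (x : X), eD D s x ∈ N) {n : S} (hn : n ∈ N) (x : X) :
    fD D n x ∈ N := by
  have h1 : fD D n x = n * eD D n x := by
    rw [eD_eq]
    group
  rw [h1]
  exact N.mul_mem hn (hD2 n x)

theorem Theta_of_mem {D : X → S}
    (hD2 : ∀ (s : S) (x : X), eD D s x ∈ N) {n : S} (hn : n ∈ N) :
    Theta N lam D n = (lamE N lam n)⁻¹ ^ Fintype.card (Ybar S X) * TT N lam D n := by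
  unfold Theta TT
  have h1 : ∀ y : Ybar S X, lamE N lam (eD D n y.out) =
      (lamE N lam n)⁻¹ * lamE N lam (fD D n y.out) := by
    intro y
    rw [eD_eq, lamE_mul N lam (N.inv_mem hn) (fD_mem N hD2 hn _), lamE_inv N lam hn]
  rw [Finset.prod_congr rfl (fun y _ => h1 y), Finset.prod_mul_distrib, Finset.prod_const,
    Finset.card_univ]

theorem TT_mul (hlam : ConjInv N lam) {D : X → S} (hD : RightEq D)
    (hD2 : ∀ (s : S) (x : X), eD D s x ∈ N) {a b : S} (ha : a ∈ N) (hb : b ∈ N) :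
    TT N lam D (a * b) = TT N lam D a * TT N lam D b := by
  have h1 := Theta_of_mem N lam hD2 (N.mul_mem ha hb)
  have h2 := Theta_of_mem N lam hD2 ha
  have h3 := Theta_of_mem N lam hD2 hb
  have h4 := Theta_mul N lam hlam hD hD2 a b
  rw [h1, h2, h3, lamE_mul N lam ha hb] at h4
  set m := Fintype.card (Ybar S X)
  set A := lamE N lam a
  set B := lamE N lam b
  have h5 : ((A * B)⁻¹ ^ m) = A⁻¹ ^ m * B⁻¹ ^ m := by
    rw [mul_inv, mul_pow]
  rw [h5] at h4
  have h6 : A⁻¹ ^ m * B⁻¹ ^ m * TT N lam D (a * b) =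
      A⁻¹ ^ m * B⁻¹ ^ m * (TT N lam D a * TT N lam D b) := by
    rw [h4]
    ac_rfl
  exact mul_left_cancel h6

theorem TT_one {D : X → S} : TT N lam D 1 = 1 := by
  unfold TT
  apply Finset.prod_eq_one
  intro y _
  have : fD D 1 y.out = 1 := by
    unfold fD lft
    rw [show (((1 : S), (1 : S)) : S × S) = 1 from rfl, one_smul]
    group
  rw [this, lamE_one]

theorem TT_inv (hlam : ConjInv N lam) {D : X → S} (hD : RightEq D)
    (hD2 : ∀ (s : S) (x : X), eD D s x ∈ N) {a : S} (ha : a ∈ N) :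
    TT N lam D a⁻¹ = (TT N lam D a)⁻¹ := by
  have h := TT_mul N lam hlam hD hD2 ha (N.inv_mem ha)
  rw [mul_inv_cancel, TT_one] at h
  exact eq_inv_of_mul_eq_one_right h.symm

/-- independence of the correction term from the right equivariant map -/
theorem TT_indep (hlam : ConjInv N lam) {D D' : X → S} (hD : RightEq D) (hD' : RightEq D')
    (a : S) (hf : ∀ x : X, fD D a x ∈ N) (hf' : ∀ x : X, fD D' a x ∈ N) :
    TT N lam D a = TT N lam D' a := by
  classical
  -- the quotient of the two maps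
  let uu : X → S := fun x => D x * (D' x)⁻¹
  have huu : ∀ (t : S) (x : X), uu (((1 : S), t) • x) = uu x := by
    intro t x
    show D _ * (D' _)⁻¹ = D x * (D' x)⁻¹
    rw [hD, hD']
    group
  -- a representative of the coset of `uu x`
  let cc : X → S := fun x => ((uu x : S) : S ⧸ N).out
  have hcc : ∀ x : X, (cc x)⁻¹ * uu x ∈ N := by
    intro x
    have h1 : ((cc x : S) : S ⧸ N) = ((uu x : S) : S ⧸ N) := Quotient.out_eq _
    exact QuotientGroup.eq.mp h1
  have hccr : ∀ (t : S) (x : X), cc (((1 : S), t) • x) = cc x := by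
    intro t x
    show ((uu _ : S) : S ⧸ N).out = ((uu x : S) : S ⧸ N).out
    rw [huu]
  let hh : X → Z := fun x => lamE N lam ((cc x)⁻¹ * uu x)
  have hhr : ∀ (t : S) (x : X), hh (((1 : S), t) • x) = hh x := by
    intro t x
    show lamE N lam ((cc _)⁻¹ * uu _) = lamE N lam ((cc x)⁻¹ * uu x)
    rw [hccr, huu]
  have hw : ∀ x : X, uu (lft a x) * (uu x)⁻¹ ∈ N := by
    intro x
    have h1 : uu (lft a x) * (uu x)⁻¹ =
        fD D a x * (uu x * (fD D' a x)⁻¹ * (uu x)⁻¹) := by
      show D (lft a x) * (D' (lft a x))⁻¹ * (D x * (D' x)⁻¹)⁻¹ =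
        (D (lft a x) * (D x)⁻¹) * ((D x * (D' x)⁻¹) * (D' (lft a x) * (D' x)⁻¹)⁻¹ *
          (D x * (D' x)⁻¹)⁻¹)
      group
    rw [h1]
    exact N.mul_mem (hf x) (hN.conj_mem _ (N.inv_mem (hf' x)) _)
  have hcceq : ∀ x : X, cc (lft a x) = cc x := by
    intro x
    show ((uu _ : S) : S ⧸ N).out = ((uu x : S) : S ⧸ N).out
    congr 1
    apply QuotientGroup.eq.mpr
    have h1 : (uu (lft a x))⁻¹ * uu x = (uu x)⁻¹ * (uu (lft a x) * (uu x)⁻¹)⁻¹ * uu x := by
      group
    rw [h1]
    have := hN.conj_mem _ (N.inv_mem (hw x)) (uu x)⁻¹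
    rwa [inv_inv] at this
  have key : ∀ x : X, lamE N lam (fD D a x) =
      hh (lft a x) * (hh x)⁻¹ * lamE N lam (fD D' a x) := by
    intro x
    have h1 : fD D a x = (uu (lft a x) * (uu x)⁻¹) * (uu x * fD D' a x * (uu x)⁻¹) := by
      show D (lft a x) * (D x)⁻¹ = (D (lft a x) * (D' (lft a x))⁻¹ * (D x * (D' x)⁻¹)⁻¹) *
        (D x * (D' x)⁻¹ * (D' (lft a x) * (D' x)⁻¹) * (D x * (D' x)⁻¹)⁻¹)
      group
    rw [h1, lamE_mul N lam (hw x) (hN.conj_mem _ (hf' x) _), hlam _ _ (hf' x)]
    congr 1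
    have h2 : uu (lft a x) * (uu x)⁻¹ =
        cc x * (((cc x)⁻¹ * uu (lft a x)) * ((cc x)⁻¹ * uu x)⁻¹) * (cc x)⁻¹ := by
      group
    have h3 : (cc x)⁻¹ * uu (lft a x) ∈ N := by
      have := hcc (lft a x)
      rwa [hcceq] at this
    rw [h2, hlam _ _ (N.mul_mem h3 (N.inv_mem (hcc x))),
      lamE_mul N lam h3 (N.inv_mem (hcc x)), lamE_inv N lam (hcc x)]
    show _ = lamE N lam ((cc (lft a x))⁻¹ * uu (lft a x)) * _
    rw [hcceq]
  unfold TT
  rw [Finset.prod_congr rfl (fun y _ => key y.out), Finset.prod_mul_distrib,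
    Finset.prod_mul_distrib]
  have h1 : ∏ y : Ybar S X, hh (lft a y.out) = ∏ y : Ybar S X, hh y.out :=
    prod_comp_GX hh hhr (iotaX S X a)
  rw [h1, Finset.prod_inv_distrib, mul_inv_cancel, one_mul]

/-- transport of the correction term along a twisted equivariant permutation -/
theorem TT_twist (hlam : ConjInv N lam) {D : X → S} (hD : RightEq D)
    (σ : GX S X) (a a' : S) (hσ : ∀ x : X, σ.1 (lft a x) = lft a' (σ.1 x))
    (hf : ∀ x : X, fD D a x ∈ N) (hf' : ∀ x : X, fD D a' x ∈ N) :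
    TT N lam D a' = TT N lam D a := by
  have hDσ : RightEq (fun x => D (σ.1 x)) := by
    intro t x
    show D (σ.1 _) = D (σ.1 x) * t⁻¹
    rw [σ.2 t x, hD]
  have h1 : TT N lam D a' = TT N lam (fun x => D (σ.1 x)) a := by
    unfold TT
    have h2 := prod_comp_GX (fun x => lamE N lam (fD D a' x))
      (fun t x => by rw [fD_right hD]) σ
    rw [← h2]
    apply Finset.prod_congr rfl
    intro y _
    show lamE N lam (D (lft a' (σ.1 y.out)) * (D (σ.1 y.out))⁻¹) =
      lamE N lam (D (σ.1 (lft a y.out)) * (D (σ.1 y.out))⁻¹)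
    rw [hσ]
  rw [h1]
  apply (TT_indep N lam hlam hDσ hD a ?_ hf)
  intro x
  show D (σ.1 (lft a x)) * (D (σ.1 x))⁻¹ ∈ N
  rw [hσ]
  exact hf' (σ.1 x)

end Theta

end Cfsg.Agent.Lib.Helper27.Tate
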