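import Cfsg.Agent.Lib.Helper26.FusionHyp2

set_option autoImplicit false

namespace Cfsg.Agent.Lib.Helper27.Tate

open Cfsg Cfsg.FusionSystem Cfsg.Agent.Lib.Helper26

section Coprime

variable {P : Type*} [Group P] (α : MulAut P)

/-- the subgroup generated by the elements `x⁻¹ α(x)` -/
def commSub : Subgroup P := Subgroup.closure {y : P | ∃ x : P, y = x⁻¹ * α x}

/-- the subgroup generated by the elements `y⁻¹ α(y)` with `y` in `commSub` -/
def commSub2 : Subgroup P := Subgroup.closure {y : P | ∃ x ∈ commSub α, y = x⁻¹ * α x}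

theorem gen_mem_commSub (x : P) : x⁻¹ * α x ∈ commSub α :=
  Subgroup.subset_closure ⟨x, rfl⟩

theorem gen_mem_commSub2 {x : P} (hx : x ∈ commSub α) : x⁻¹ * α x ∈ commSub2 α :=
  Subgroup.subset_closure ⟨x, hx, rfl⟩

theorem commSub2_le : commSub2 α ≤ commSub α := by
  refine (Subgroup.closure_le _).mpr ?_
  rintro _ ⟨x, -, rfl⟩
  exact gen_mem_commSub α x

theorem apply_mem_commSub {x : P} (hx : x ∈ commSub α) : α x ∈ commSub α := by
  have h1 : α x = x * (x⁻¹ * α x) := by group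
  rw [h1]
  exact (commSub α).mul_mem hx (gen_mem_commSub α x)

theorem apply_mem_commSub2 {x : P} (hx : x ∈ commSub2 α) : α x ∈ commSub2 α := by
  have h1 : α x = x * (x⁻¹ * α x) := by group
  rw [h1]
  exact (commSub2 α).mul_mem hx (gen_mem_commSub2 α (commSub2_le α hx))

/-- `commSub2` is normalized by `commSub` -/
theorem conj_mem_commSub2 {k g : P} (hk : k ∈ commSub α) (hg : g ∈ commSub2 α) :
    k * g * k⁻¹ ∈ commSub2 α := by
  induction hg using Subgroup.closure_induction with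
  | mem y hy =>
    obtain ⟨x, hx, rfl⟩ := hy
    have h1 : k * (x⁻¹ * α x) * k⁻¹ =
        ((x * k⁻¹)⁻¹ * α (x * k⁻¹)) * ((k⁻¹)⁻¹ * α k⁻¹)⁻¹ := by
      rw [map_mul, map_inv]
      group
    rw [h1]
    exact (commSub2 α).mul_mem
      (gen_mem_commSub2 α ((commSub α).mul_mem hx ((commSub α).inv_mem hk)))
      ((commSub2 α).inv_mem (gen_mem_commSub2 α ((commSub α).inv_mem hk)))
  | one =>
    rw [mul_one, mul_inv_cancel]
    exact (commSub2 α).one_mem
  | mul a b _ _ iha ihb =>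
    have h1 : k * (a * b) * k⁻¹ = (k * a * k⁻¹) * (k * b * k⁻¹) := by group
    rw [h1]
    exact (commSub2 α).mul_mem iha ihb
  | inv a _ iha =>
    have h1 : k * a⁻¹ * k⁻¹ = (k * a * k⁻¹)⁻¹ := by group
    rw [h1]
    exact (commSub2 α).inv_mem iha

theorem pow_mul_mem {t t₂ : P} (ht : t ∈ commSub α) (ht₂ : t₂ ∈ commSub2 α) (j : ℕ) :
    ∃ k ∈ commSub2 α, (t * t₂) ^ j = t ^ j * k := by
  induction j with
  | zero => exact ⟨1, (commSub2 α).one_mem, by simp⟩
  | succ j ih =>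
    obtain ⟨k, hk, hkj⟩ := ih
    refine ⟨(t⁻¹ * k * t⁻¹⁻¹) * t₂, (commSub2 α).mul_mem
      (conj_mem_commSub2 α ((commSub α).inv_mem ht) hk) ht₂, ?_⟩
    rw [pow_succ, hkj, pow_succ]
    group

theorem iterate_formula (x : P) (j : ℕ) :
    ∃ k ∈ commSub2 α, (α ^ j) x = x * (x⁻¹ * α x) ^ j * k := by
  induction j with
  | zero => exact ⟨1, (commSub2 α).one_mem, by simp⟩
  | succ j ih =>
    obtain ⟨k, hk, hkj⟩ := ih
    set t := x⁻¹ * α x with ht
    have htK : t ∈ commSub α := gen_mem_commSub α x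
    have ht₂ : t⁻¹ * α t ∈ commSub2 α := gen_mem_commSub2 α htK
    obtain ⟨k', hk', hk'j⟩ := pow_mul_mem α htK ht₂ j
    have h1 : α t = t * (t⁻¹ * α t) := by group
    refine ⟨k' * α k, (commSub2 α).mul_mem hk' (apply_mem_commSub2 α hk), ?_⟩
    rw [pow_succ', MulAut.mul_apply, hkj, map_mul, map_mul, map_pow, h1, hk'j]
    have h2 : α x = x * t := by rw [ht]; group
    rw [h2]
    rw [pow_succ']
    group

/-- for an automorphism of order prime to `p` of a `p`-group, `[P, α] = [P, α, α]` -/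
theorem gen_mem_commSub2_of_coprime {p : ℕ} (hP : IsPGroup p P)
    (hα : (orderOf α).Coprime p) (x : P) : x⁻¹ * α x ∈ commSub2 α := by
  obtain ⟨k, hk, hkn⟩ := iterate_formula α x (orderOf α)
  rw [pow_orderOf_eq_one, MulAut.one_apply] at hkn
  set t := x⁻¹ * α x with ht
  have h1 : t ^ orderOf α = k⁻¹ := by
    have h2 : x * t ^ orderOf α * k = x * 1 := by rw [mul_one]; exact hkn.symm
    have h3 : t ^ orderOf α * k = 1 := by
      have : x * (t ^ orderOf α * k) = x * 1 := by rw [← mul_assoc]; exact h2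
      exact mul_left_cancel this
    exact eq_inv_of_mul_eq_one_left h3
  have h4 : t ^ orderOf α ∈ commSub2 α := by
    rw [h1]
    exact (commSub2 α).inv_mem hk
  obtain ⟨e, he⟩ := hP t
  have hdvd : orderOf t ∣ p ^ e := orderOf_dvd_of_pow_eq_one he
  have hcop : (orderOf α).Coprime (orderOf t) :=
    Nat.Coprime.coprime_dvd_right hdvd (Nat.Coprime.pow_right e hα)
  obtain ⟨m, hm⟩ := exists_pow_eq_self_of_coprime hcop
  rw [← hm]
  exact (commSub2 α).pow_mem h4 m

end Coprime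

variable {Ω : Type*} [Group Ω] {S : Subgroup Ω}

/-- the generators of the hyperfocal subgroup that come from elements of the hyperfocal
subgroup -/
def hypGen (F : FusionSystem S) (p : ℕ) : Set Ω :=
  {y : Ω | ∃ (P : Subgroup Ω) (α : MulAut P) (x : P), P ≤ S ∧ α ∈ F.autGroup P ∧
    (x : Ω) ∈ F.hyperfocalSubgroup p ∧ y = (x : Ω)⁻¹ * ((α x : P) : Ω)}

theorem hyperfocal_le_closure_hypGen [Finite S] {p : ℕ} [Fact p.Prime] (hS : IsPGroup p S)
    (F : FusionSystem S) : F.hyperfocalSubgroup p ≤ Subgroup.closure (hypGen F p) := by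
  set A1 := Subgroup.closure (hypGen F p) with hA1
  refine (Subgroup.closure_le _).mpr ?_
  rintro _ ⟨P, α, x, hPS, hα, rfl⟩
  have hPp : IsPGroup p P := hS.to_le hPS
  -- the subgroup of automorphisms all of whose commutators lie in `A1`
  let H : Subgroup (F.autGroup P) :=
    { carrier := {β | ∀ x : P, (x : Ω)⁻¹ * (((β : MulAut P) x : P) : Ω) ∈ A1}
      mul_mem' := by
        intro β γ hβ hγ x
        have h1 : (x : Ω)⁻¹ * ((((β * γ : F.autGroup P) : MulAut P) x : P) : Ω) =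
            ((x : Ω)⁻¹ * (((γ : MulAut P) x : P) : Ω)) *
              ((((γ : MulAut P) x : P) : Ω)⁻¹ *
                (((β : MulAut P) ((γ : MulAut P) x) : P) : Ω)) := by
          show (x : Ω)⁻¹ * ((((β : MulAut P) * (γ : MulAut P)) x : P) : Ω) = _
          rw [MulAut.mul_apply]
          group
        rw [h1]
        exact A1.mul_mem (hγ x) (hβ _)
      one_mem' := by
        intro x
        show (x : Ω)⁻¹ * (x : Ω) ∈ A1
        rw [inv_mul_cancel]
        exact A1.one_mem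
      inv_mem' := by
        intro β hβ x
        have h1 : (x : Ω)⁻¹ * ((((β⁻¹ : F.autGroup P) : MulAut P) x : P) : Ω) =
            (((((β⁻¹ : F.autGroup P) : MulAut P) x : P) : Ω)⁻¹ *
              (((β : MulAut P) (((β⁻¹ : F.autGroup P) : MulAut P) x) : P) : Ω))⁻¹ := by
          have h2 : (β : MulAut P) (((β⁻¹ : F.autGroup P) : MulAut P) x) = x := by
            show (β : MulAut P) (((β : MulAut P)⁻¹) x) = x
            simp
          rw [h2]
          group
        rw [h1]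
        exact A1.inv_mem (hβ _) }
  have hH : pResidual p (F.autGroup P) ≤ H := by
    refine (Subgroup.closure_le _).mpr ?_
    intro β hβ
    have hcop : (orderOf β).Coprime p := hβ
    have hord : orderOf (β : MulAut P) = orderOf β := Subgroup.orderOf_coe β
    intro x
    have hmem := gen_mem_commSub2_of_coprime (β : MulAut P) hPp (by rw [hord]; exact hcop) x
    -- transport to `Ω`
    have hK : ∀ y ∈ commSub (β : MulAut P), (y : Ω) ∈ F.hyperfocalSubgroup p := by
      intro y hy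
      induction hy using Subgroup.closure_induction with
      | mem z hz =>
        obtain ⟨w, rfl⟩ := hz
        exact gen_mem_hyperfocal F p hPS β (Subgroup.subset_closure hcop) w
      | one => exact (F.hyperfocalSubgroup p).one_mem
      | mul a b _ _ iha ihb => exact (F.hyperfocalSubgroup p).mul_mem iha ihb
      | inv a _ iha => exact (F.hyperfocalSubgroup p).inv_mem iha
    have hK2 : ∀ y ∈ commSub2 (β : MulAut P), (y : Ω) ∈ A1 := by
      intro y hy
      induction hy using Subgroup.closure_induction with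
      | mem z hz =>
        obtain ⟨w, hw, rfl⟩ := hz
        apply Subgroup.subset_closure
        exact ⟨P, (β : MulAut P), w, hPS, β.2, hK w hw, rfl⟩
      | one => exact A1.one_mem
      | mul a b _ _ iha ihb => exact A1.mul_mem iha ihb
      | inv a _ iha => exact A1.inv_mem iha
    exact hK2 _ hmem
  exact hH hα x

/-- the subsystem of maps `φ` of `F` that agree modulo `N` with conjugation by a single element
of `S` -/
def ucosetSystem (F : FusionSystem S) (N : Subgroup Ω)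
    (hnorm : S ≤ Subgroup.normalizer (N : Set Ω)) : FusionSystem S where
  Hom P := {φ | φ ∈ F.Hom P ∧ ∃ s ∈ S, ∀ x : P, (s * (x : Ω) * s⁻¹)⁻¹ * φ x ∈ N}
  le_of_mem h := F.le_of_mem h.1
  injective_of_mem h := F.injective_of_mem h.1
  conj_mem := by
    intro P g hP hg
    refine ⟨F.conj_mem hP hg, g, hg, fun x => ?_⟩
    rw [conjHom_apply, inv_mul_cancel]
    exact N.one_mem
  comp_mem := by
    rintro P Q φ ψ ⟨hφ, s, hs, hsn⟩ ⟨hψ, t, ht, htn⟩ h
    refine ⟨F.comp_mem hφ hψ h, t * s, S.mul_mem ht hs, fun x => ?_⟩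
    have e : (t * s * (x : Ω) * (t * s)⁻¹)⁻¹ * (ψ.comp (φ.codRestrict Q h)) x =
        (t * ((s * (x : Ω) * s⁻¹)⁻¹ * φ x)⁻¹ * t⁻¹)⁻¹⁻¹⁻¹ * ((t * φ x * t⁻¹)⁻¹ * ψ ⟨φ x, h x⟩) := by
      show (t * s * (x : Ω) * (t * s)⁻¹)⁻¹ * ψ ⟨φ x, h x⟩ = _
      group
    rw [e, inv_inv]
    exact N.mul_mem (N.inv_mem (conj_mem_of_le_normalizer hnorm ht (N.inv_mem (hsn x))))
      (htn ⟨φ x, h x⟩)
  inv_mem := by
    rintro P φ ⟨hφ, s, hs, hsn⟩
    obtain ⟨ψ, hψ, hinv⟩ := F.inv_mem hφ
    refine ⟨ψ, ⟨hψ, s⁻¹, S.inv_mem hs, ?_⟩, hinv⟩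
    rintro ⟨_, ⟨x, rfl⟩⟩
    rw [hinv x]
    have e : (s⁻¹ * φ x * s⁻¹⁻¹)⁻¹ * (x : Ω) =
        s⁻¹ * ((s * (x : Ω) * s⁻¹)⁻¹ * φ x)⁻¹ * s⁻¹⁻¹ := by group
    show (s⁻¹ * φ x * s⁻¹⁻¹)⁻¹ * (x : Ω) ∈ N
    rw [e]
    exact conj_mem_of_le_normalizer hnorm (S.inv_mem hs) (N.inv_mem (hsn x))

theorem autGroup_le_ucosetSystem [Finite S] {p : ℕ} [Fact p.Prime] (F : FusionSystem S)
    (N : Subgroup Ω) (hnorm : S ≤ Subgroup.normalizer (N : Set Ω))
    (hN : F.hyperfocalSubgroup p ≤ N) {P : Subgroup Ω} (hPa : F.IsFullyAutomized p P) :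
    F.autGroup P ≤ (ucosetSystem F N hnorm).autGroup P := by
  have hPS : P ≤ S := hPa.1
  have hfinP : Finite P := finite_of_le hPS
  obtain ⟨R, hR⟩ := hPa.2
  intro α hα
  obtain ⟨γ, hγ, β, hβ, hαeq⟩ :=
    Helper13.exists_mul_of_sylow_pResidual (R : Subgroup (F.autGroup P)) R.not_dvd_index ⟨α, hα⟩
  rw [hR, Subgroup.mem_subgroupOf] at hγ
  obtain ⟨s, hs, hsγ⟩ := mem_autInducedBy_iff.mp hγ
  rw [mem_autGroup_iff _ hPS]
  refine ⟨(mem_autGroup_iff F hPS).mp hα, s, hs, fun x => ?_⟩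
  have h1 : α = (γ : MulAut P) * (β : MulAut P) := by
    have := congrArg Subtype.val hαeq
    exact this
  have h2 : (P.subtype.comp α.toMonoidHom) x = s * (((β : MulAut P) x : P) : Ω) * s⁻¹ := by
    show ((α x : P) : Ω) = _
    rw [h1, MulAut.mul_apply, hsγ]
  rw [h2]
  have e : (s * (x : Ω) * s⁻¹)⁻¹ * (s * (((β : MulAut P) x : P) : Ω) * s⁻¹) =
      s * ((x : Ω)⁻¹ * (((β : MulAut P) x : P) : Ω)) * s⁻¹ := by group
  rw [e]
  exact conj_mem_of_le_normalizer hnorm hs (hN (gen_mem_hyperfocal F p hPS β hβ x))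

theorem le_ucosetSystem [Finite S] {p : ℕ} [Fact p.Prime] (hS : IsPGroup p S) (F : FusionSystem S)
    (hF : F.IsSaturated p) (N : Subgroup Ω) (hnorm : S ≤ Subgroup.normalizer (N : Set Ω))
    (hN : F.hyperfocalSubgroup p ≤ N) : F ≤ ucosetSystem F N hnorm := by
  refine Cfsg.Agent.S5082.result p hS F hF _ ?_
  intro P hP
  apply autGroup_le_ucosetSystem F N hnorm hN
  rcases hP with rfl | hess
  · exact (saturated_fullyNormalized hS F hF (top_fullyNormalized F)).2.1
  · exact (saturated_fullyNormalized hS F hF hess.2.1).2.1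

/-- every map of a saturated system agrees, modulo a subgroup containing the hyperfocal subgroup
and normalized by `S`, with conjugation by a single element of `S` -/
theorem exists_uniform_conj [Finite S] {p : ℕ} [Fact p.Prime] (hS : IsPGroup p S)
    (F : FusionSystem S) (hF : F.IsSaturated p) (N : Subgroup Ω)
    (hnorm : S ≤ Subgroup.normalizer (N : Set Ω)) (hN : F.hyperfocalSubgroup p ≤ N)
    {P : Subgroup Ω} {φ : P →* Ω} (hφ : φ ∈ F.Hom P) :
    ∃ s ∈ S, ∀ x : P, (s * (x : Ω) * s⁻¹)⁻¹ * φ x ∈ N :=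
  (le_ucosetSystem hS F hF N hnorm hN P hφ).2

end Cfsg.Agent.Lib.Helper27.Tate
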