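import Cfsg.Agent.Lib.Helper27.Tate1
import Cfsg.Agent.Lib.Helper27.Tate2
import Cfsg.Agent.Lib.Helper26.PPIc

set_option autoImplicit false

namespace Cfsg.Agent.Lib.Helper27.Tate

open Cfsg Cfsg.FusionSystem MulAction
open Cfsg.Agent.Lib.Helper26
open Cfsg.Agent.Lib.helper17.ParkGraph (graphOf IsFGraph mem_graphOf alpha1 alpha2 alpha1_apply
  alpha2_apply)
open Cfsg.Agent.Lib.helper17.CB11 Cfsg.Agent.Lib.helper17.CB12 Cfsg.Agent.Lib.helper17.CB14
open Cfsg.Agent.Lib.Helper26.PPI (HasFGraphStab exists_stab_graph)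

universe u v w

section General

/-- an equivariant map exists as soon as every point stabilizer fixes some point of the target -/
theorem exists_equivariant_map {H : Type*} [Group H] {X : Type*} [MulAction H X] {Y : Type*}
    [MulAction H Y] (h : ∀ x : X, ∃ y : Y, ∀ g : H, g • x = x → g • y = y) :
    ∃ f : X → Y, ∀ (g : H) (x : X), f (g • x) = g • f x := by
  classical
  let rep : X → X := fun x => (Quotient.mk (orbitRel H X) x).out
  have hrep : ∀ x, ∃ k : H, k • rep x = x := by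
    intro x
    have h1 : (orbitRel H X).r x (rep x) :=
      (orbitRel H X).symm (Quotient.exact (Quotient.out_eq (Quotient.mk (orbitRel H X) x)))
    exact h1
  choose kk hkk using hrep
  choose y0 hy0 using h
  refine ⟨fun x => kk x • y0 (rep x), ?_⟩
  intro g x
  have hrepeq : rep (g • x) = rep x := by
    show (Quotient.mk (orbitRel H X) _).out = (Quotient.mk (orbitRel H X) x).out
    congr 1
    apply Quotient.sound
    exact ⟨g, rfl⟩
  show kk (g • x) • y0 (rep (g • x)) = g • kk x • y0 (rep x)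
  rw [hrepeq]
  have h1 : ((kk x)⁻¹ * g⁻¹ * kk (g • x)) • rep x = rep x := by
    have h2 : kk (g • x) • rep x = g • x := by
      have := hkk (g • x)
      rwa [hrepeq] at this
    rw [mul_smul, mul_smul, h2, inv_smul_smul, inv_smul_eq_iff, hkk]
  have h3 := hy0 (rep x) _ h1
  calc kk (g • x) • y0 (rep x)
      = g • kk x • (((kk x)⁻¹ * g⁻¹ * kk (g • x)) • y0 (rep x)) := by
        rw [← mul_smul, ← mul_smul]
        congr 1
        group
    _ = g • kk x • y0 (rep x) := by rw [h3]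

variable {S : Type u} [Group S] (N : Subgroup S) [hN : N.Normal]

/-- the two-sided action of `S × S` on the quotient group -/
@[instance_reducible] def biAct : MulAction (S × S) (S ⧸ N) where
  smul z γ := ((z.1 : S) : S ⧸ N) * γ * ((z.2 : S) : S ⧸ N)⁻¹
  one_smul γ := by
    show (((1 : S × S).1 : S) : S ⧸ N) * γ * (((1 : S × S).2 : S) : S ⧸ N)⁻¹ = γ
    simp
  mul_smul a b γ := by
    show (((a * b).1 : S) : S ⧸ N) * γ * (((a * b).2 : S) : S ⧸ N)⁻¹ =
      ((a.1 : S) : S ⧸ N) * (((b.1 : S) : S ⧸ N) * γ * ((b.2 : S) : S ⧸ N)⁻¹) *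
        ((a.2 : S) : S ⧸ N)⁻¹
    rw [Prod.fst_mul, Prod.snd_mul, QuotientGroup.mk_mul, QuotientGroup.mk_mul]
    group

variable {X : Type v} [MulAction (S × S) X]

/-- a two-sided equivariant map to the quotient group, from a fixed coset for every stabilizer -/
theorem exists_biequivariant_quot
    (h : ∀ x : X, ∃ c : S, ∀ u t : S, ((u, t) : S × S) • x = x →
      ((u : S) : S ⧸ N) * ((c : S) : S ⧸ N) * ((t : S) : S ⧸ N)⁻¹ = ((c : S) : S ⧸ N)) :
    ∃ Dbar : X → S ⧸ N, ∀ (u t : S) (x : X),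
      Dbar (((u, t) : S × S) • x) = ((u : S) : S ⧸ N) * Dbar x * ((t : S) : S ⧸ N)⁻¹ := by
  letI := biAct N
  obtain ⟨f, hf⟩ := exists_equivariant_map (H := S × S) (X := X) (Y := S ⧸ N) (by
    intro x
    obtain ⟨c, hc⟩ := h x
    refine ⟨((c : S) : S ⧸ N), ?_⟩
    rintro ⟨u, t⟩ hg
    exact hc u t hg)
  exact ⟨f, fun u t x => hf (u, t) x⟩

/-- lifting a two-sided equivariant map to the quotient to a right equivariant map to `S` -/
theorem exists_lift_rightEq (r : X → S)
    (hr : ∀ (t : S) (x : X), r (((1 : S), t) • x) = r x * t⁻¹)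
    (Dbar : X → S ⧸ N)
    (hD : ∀ (u t : S) (x : X),
      Dbar (((u, t) : S × S) • x) = ((u : S) : S ⧸ N) * Dbar x * ((t : S) : S ⧸ N)⁻¹) :
    ∃ D : X → S, RightEq D ∧ ∀ x : X, ((D x : S) : S ⧸ N) = Dbar x := by
  classical
  let o : X → X := fun x => (Quotient.mk (rightRel S X) x).out
  have ho : ∀ x : X, ∃ t : S, ((1 : S), t) • o x = x := by
    intro x
    have h1 : (rightRel S X).r (o x) x := Quotient.exact (Quotient.out_eq _)
    exact h1
  have hor : ∀ (t : S) (x : X), o (((1 : S), t) • x) = o x := by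
    intro t x
    show (Quotient.mk (rightRel S X) _).out = (Quotient.mk (rightRel S X) x).out
    congr 1
    apply Quotient.sound
    show ∃ t' : S, ((1 : S), t') • ((1 : S), t) • x = x
    refine ⟨t⁻¹, ?_⟩
    rw [← mul_smul]
    simp [one_one_smul]
  let D : X → S := fun x => (Dbar (o x) * ((r (o x) : S) : S ⧸ N)⁻¹).out * r x
  refine ⟨D, ?_, ?_⟩
  · intro t x
    show (Dbar (o _) * ((r (o _) : S) : S ⧸ N)⁻¹).out * r _ =
      (Dbar (o x) * ((r (o x) : S) : S ⧸ N)⁻¹).out * r x * t⁻¹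
    rw [hor, hr, mul_assoc]
  · intro x
    show (((Dbar (o x) * ((r (o x) : S) : S ⧸ N)⁻¹).out * r x : S) : S ⧸ N) = Dbar x
    rw [QuotientGroup.mk_mul, QuotientGroup.out_eq']
    obtain ⟨t, ht⟩ := ho x
    have h1 : r x = r (o x) * t⁻¹ := by
      conv_lhs => rw [← ht]
      exact hr t (o x)
    have h2 : Dbar x = Dbar (o x) * ((t : S) : S ⧸ N)⁻¹ := by
      conv_lhs => rw [← ht]
      rw [hD]
      simp
    rw [h1, h2, QuotientGroup.mk_mul, QuotientGroup.mk_inv]
    group

theorem eD_mem_of_lift {D : X → S} {Dbar : X → S ⧸ N}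
    (hD : ∀ (u t : S) (x : X),
      Dbar (((u, t) : S × S) • x) = ((u : S) : S ⧸ N) * Dbar x * ((t : S) : S ⧸ N)⁻¹)
    (hlift : ∀ x : X, ((D x : S) : S ⧸ N) = Dbar x) (s : S) (x : X) : eD D s x ∈ N := by
  rw [← QuotientGroup.eq_one_iff]
  unfold eD lft
  rw [QuotientGroup.mk_mul, QuotientGroup.mk_mul, QuotientGroup.mk_inv, QuotientGroup.mk_inv,
    hlift, hlift, hD]
  simp

end General

end Cfsg.Agent.Lib.Helper27.Tate
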