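import Mathlib
import Cfsg.Agent.Lib.Helper27.ThMain

/-!
# A non-inner saturated fusion system (odd `p` or `S₄`-free) contains a non-inner constrained
subsystem over `S`
-/

set_option autoImplicit false

namespace Cfsg.Agent.Lib.Helper27.Th

open Cfsg Cfsg.FusionSystem Cfsg.Agent.Lib.Helper26 Cfsg.Agent.Lib.Helper27
  Cfsg.Agent.Lib.Helper27.GT

universe u

variable {Ω : Type u} [Group Ω] {S : Subgroup Ω}

theorem fs_ext {E F : FusionSystem S} (h : ∀ P : Subgroup Ω, E.Hom P = F.Hom P) : E = F := by
  cases E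
  cases F
  simp only [FusionSystem.mk.injEq]
  funext P
  exact h P

theorem exists_normal_centric_wit_of_pClass [Finite S] {p : ℕ} [Fact p.Prime]
    (hS : IsPGroup p S) (F : FusionSystem S) (hF : F.IsSaturated p) (hP : PClass p F)
    (hni : ¬ Inner F) :
    ∃ V : Subgroup Ω, V ≤ S ∧ S ≤ Subgroup.normalizer (V : Set Ω) ∧ centralizerIn S V ≤ V ∧
      NormWit p F V := by
  refine core hS F hF hni ?_ ?_ ?_
  · -- climbing
    intro V hVn hVne hwV hR
    have hVS : V ≤ S := hVn.1
    have hRS : normalizerIn S V ≤ S := normalizerIn_le S V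
    haveI : Finite ↥(normalizerIn S V) := finite_of_le hRS
    have hNN := normalizerSystem_isNormalizerSystem F V hVS
    obtain ⟨hNsat, hNni⟩ := normalizerSystem_facts hS F hF hVn hwV
    have hNP := pClass_normalizer hS F hF hP hVn _ hNN
    have hRne : normalizerIn S V ≠ ⊥ := by
      intro h
      apply hVne
      rw [eq_bot_iff, ← h]
      exact le_normalizerIn_self hVS
    have hw := th_main (Nat.card (normalizerIn S V)) (normalizerIn S V) rfl
      (hS.to_le hRS) _ hNsat hNP hNni
    rcases hw with hw | hw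
    · refine ⟨(centerFun p).W (normalizerIn S V),
        (centerFun p).ne_bot _ (hS.to_le hRS) hRne, (centerFun p).le _,
        normWit_of_normalizerSystem hNN (normWit_of_centWit hw), ?_⟩
      intro s hs
      obtain ⟨hsS, hsR⟩ := Subgroup.mem_inf.mp hs
      exact Subgroup.mem_inf.mpr ⟨hsS, (centerFun p).normalizer_le _ hsR⟩
    · refine ⟨(thompsonFun p).W (normalizerIn S V),
        (thompsonFun p).ne_bot _ (hS.to_le hRS) hRne, (thompsonFun p).le _,
        normWit_of_normalizerSystem hNN hw, ?_⟩
      intro s hs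
      obtain ⟨hsS, hsR⟩ := Subgroup.mem_inf.mp hs
      exact Subgroup.mem_inf.mpr ⟨hsS, (thompsonFun p).normalizer_le _ hsR⟩
  · -- quotient
    intro V hVS hSV hVne hVtop hwV hmax
    right
    haveI hnorm : (V.subgroupOf S).Normal :=
      (Subgroup.normal_subgroupOf_iff_le_normalizer hVS).mpr hSV
    refine quot_step_gen hS F hF hVS hSV hVne hmax ?_
    intro E' hE' hE'sat hE'ni hcard
    have hEsat := normSys_saturated hS F hF V hVS hSV
    have hVsc : (normSys F V hVS hSV).StronglyClosed V :=
      stronglyClosed_of_isNormal _ (normSys_isNormal F V hVS hSV)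
    have hPE' : PClass p E' :=
      pClass_factor hS _ hEsat (pClass_normSys hS F hF hP V hVS hSV) hVsc hE'
    haveI : Finite (↥S ⧸ V.subgroupOf S) := inferInstance
    haveI : Finite ↥(⊤ : Subgroup (↥S ⧸ V.subgroupOf S)) := inferInstance
    have hS' : IsPGroup p ↥(⊤ : Subgroup (↥S ⧸ V.subgroupOf S)) :=
      (hS.of_surjective (QuotientGroup.mk' (V.subgroupOf S))
        (QuotientGroup.mk'_surjective _)).of_equiv Subgroup.topEquiv.symm
    have htopne : (⊤ : Subgroup (↥S ⧸ V.subgroupOf S)) ≠ ⊥ := by
      intro h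
      apply hVtop
      apply le_antisymm hVS
      intro s hs
      have h1 : (QuotientGroup.mk' (V.subgroupOf S)) ⟨s, hs⟩ ∈
          (⊤ : Subgroup (↥S ⧸ V.subgroupOf S)) := Subgroup.mem_top _
      rw [h, Subgroup.mem_bot] at h1
      exact (mk'_ker_iff V ⟨s, hs⟩).mp h1
    have hw := th_main _ ⊤ rfl hS' E' hE'sat hPE' hE'ni
    rcases hw with hw | hw
    · refine ⟨(centerFun p).W ⊤, (centerFun p).ne_bot _ hS' htopne, ?_,
        normWit_of_centWit hw⟩
      intro s r hr
      refine (centerFun p).conj_mem _ ?_ hr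
      exact mem_normalizer_of_forall (fun _ _ => Subgroup.mem_top _)
        (fun _ _ => Subgroup.mem_top _)
    · refine ⟨(thompsonFun p).W ⊤, (thompsonFun p).ne_bot _ hS' htopne, ?_, hw⟩
      intro s r hr
      refine (thompsonFun p).conj_mem _ ?_ hr
      exact mem_normalizer_of_forall (fun _ _ => Subgroup.mem_top _)
        (fun _ _ => Subgroup.mem_top _)
  · intro V hVS hSV hcent hwV
    exact ⟨V, hVS, hSV, hcent, hwV⟩

/-- a non-inner saturated fusion system (odd `p` or `S₄`-free) contains a non-inner constrained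
one over the same group -/
theorem exists_constrained_of_pClass [Finite S] {p : ℕ} [Fact p.Prime]
    (hS : IsPGroup p S) (F : FusionSystem S) (hF : F.IsSaturated p) (hP : PClass p F)
    (hni : ¬ Inner F) :
    ∃ E : FusionSystem S, E ≤ F ∧ E.IsConstrained p ∧ ¬ Inner E := by
  obtain ⟨V, hVS, hSV, hcent, hwV⟩ := exists_normal_centric_wit_of_pClass hS F hF hP hni
  refine ⟨normSys F V hVS hSV, normSys_le F V hVS hSV,
    ⟨normSys_saturated hS F hF V hVS hSV, V, normSys_isNormal F V hVS hSV, hVS, ?_⟩,
    normSys_not_inner hS F hVS hSV hwV⟩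
  intro Q hQ
  rw [isConj_eq_of_isNormal _ (normSys_isNormal F V hVS hSV) hQ]
  exact hcent

end Cfsg.Agent.Lib.Helper27.Th
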