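import Mathlib

set_option autoImplicit false

namespace Cfsg.Agent.Lib.Helper27

section Trace

variable {G : Type*} [Group G] {V : Type*} [CommGroup V]

/-- the fixed points of a subgroup `U` of `G` acting on `V` through `ρ` -/
def fixedPts (ρ : G →* MulAut V) (U : Subgroup G) : Subgroup V where
  carrier := {v | ∀ g ∈ U, ρ g v = v}
  one_mem' := fun g _ => map_one (ρ g)
  mul_mem' := fun {a b} ha hb g hg => by rw [map_mul, ha g hg, hb g hg]
  inv_mem' := fun {a} ha g hg => by rw [map_inv, ha g hg]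

theorem mem_fixedPts {ρ : G →* MulAut V} {U : Subgroup G} {v : V} :
    v ∈ fixedPts ρ U ↔ ∀ g ∈ U, ρ g v = v := Iff.rfl

/-- the trace map `V → V` relative to `U ≤ G` of finite index -/
noncomputable def traceMap (ρ : G →* MulAut V) (U : Subgroup G) [U.FiniteIndex] : V →* V :=
  letI := Fintype.ofFinite (G ⧸ U)
  { toFun := fun v => ∏ q : G ⧸ U, ρ q.out v
    map_one' := by simp
    map_mul' := fun x y => by simp [Finset.prod_mul_distrib] }

theorem traceMap_apply (ρ : G →* MulAut V) (U : Subgroup G) [U.FiniteIndex] [Fintype (G ⧸ U)]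
    (v : V) : traceMap ρ U v = ∏ q : G ⧸ U, ρ q.out v := by
  unfold traceMap
  simp only [MonoidHom.coe_mk, OneHom.coe_mk]
  congr!

theorem out_smul_eq (U : Subgroup G) (g : G) (q : G ⧸ U) :
    ∃ u ∈ U, g * q.out = (g • q).out * u := by
  have h1 : g • q = ((g * q.out : G) : G ⧸ U) := by
    conv_lhs => rw [← QuotientGroup.out_eq' q]
    rfl
  obtain ⟨h, hh⟩ := QuotientGroup.mk_out_eq_mul U (g * q.out)
  refine ⟨(h : G)⁻¹, U.inv_mem h.2, ?_⟩
  rw [h1, hh, mul_inv_cancel_right]

theorem traceMap_fixed (ρ : G →* MulAut V) (U : Subgroup G) [U.FiniteIndex] {v : V}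
    (hv : v ∈ fixedPts ρ U) (g : G) : ρ g (traceMap ρ U v) = traceMap ρ U v := by
  let _ := Fintype.ofFinite (G ⧸ U)
  rw [traceMap_apply, map_prod]
  refine Fintype.prod_equiv (MulAction.toPerm g) (fun q : G ⧸ U => ρ g (ρ q.out v))
    (fun q : G ⧸ U => ρ q.out v) (fun q => ?_)
  obtain ⟨u, hu, hgu⟩ := out_smul_eq U g q
  show ρ g (ρ q.out v) = ρ (g • q).out v
  have : ρ g (ρ q.out v) = ρ (g * q.out) v := by rw [map_mul]; rfl
  rw [this, hgu, map_mul]
  show ρ (g • q).out (ρ u v) = _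
  rw [hv u hu]

theorem traceMap_of_fixed (ρ : G →* MulAut V) (U : Subgroup G) [U.FiniteIndex] {v : V}
    (hv : v ∈ fixedPts ρ ⊤) : traceMap ρ U v = v ^ U.index := by
  let _ := Fintype.ofFinite (G ⧸ U)
  rw [traceMap_apply]
  have : ∀ q : G ⧸ U, ρ q.out v = v := fun q => hv _ (Subgroup.mem_top _)
  simp only [this, Finset.prod_const, Finset.card_univ]
  rw [Subgroup.index, Nat.card_eq_fintype_card]

/-- If `U ≤ G` has index prime to `p` and `V` is a finite abelian `p`-group on which `G` acts, then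
the `G`-fixed points are a direct factor of the `U`-fixed points. -/
theorem exists_compl_fixedPts [Finite V] (ρ : G →* MulAut V) (U : Subgroup G) [U.FiniteIndex]
    (hcop : (U.index).Coprime (Nat.card V)) :
    ∃ K : Subgroup V, K ≤ fixedPts ρ U ∧ fixedPts ρ ⊤ ⊓ K = ⊥ ∧
      fixedPts ρ ⊤ ⊔ K = fixedPts ρ U := by
  have hle : fixedPts ρ ⊤ ≤ fixedPts ρ U := fun v hv g _ => hv g (Subgroup.mem_top _)
  refine ⟨(traceMap ρ U).ker ⊓ fixedPts ρ U, inf_le_right, ?_, ?_⟩
  · rw [eq_bot_iff]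
    rintro v ⟨hvG, hvK0, -⟩
    have hvK : traceMap ρ U v = 1 := MonoidHom.mem_ker.mp hvK0
    rw [traceMap_of_fixed ρ U hvG] at hvK
    have h2 : orderOf v ∣ U.index := orderOf_dvd_of_pow_eq_one hvK
    have h3 : orderOf v ∣ Nat.card V := orderOf_dvd_natCard v
    have h4 : orderOf v = 1 := Nat.eq_one_of_dvd_coprimes hcop h2 h3
    exact Subgroup.mem_bot.mpr (orderOf_eq_one_iff.mp h4)
  · apply le_antisymm (sup_le hle inf_le_right)
    intro v hv
    obtain ⟨w', hw'⟩ : ∃ w' : V, w' ^ U.index = traceMap ρ U v :=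
      (powCoprime hcop.symm).surjective _
    have hw'G : w' ∈ fixedPts ρ ⊤ := by
      intro g _
      have h1 : (ρ g w') ^ U.index = w' ^ U.index := by
        rw [← map_pow, hw', traceMap_fixed ρ U hv g]
      exact (powCoprime hcop.symm).injective h1
    have hK : v * w'⁻¹ ∈ (traceMap ρ U).ker ⊓ fixedPts ρ U := by
      refine ⟨?_, Subgroup.mul_mem _ hv (Subgroup.inv_mem _ (hle hw'G))⟩
      apply MonoidHom.mem_ker.mpr
      rw [map_mul, map_inv, traceMap_of_fixed ρ U hw'G, hw']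
      exact mul_inv_cancel _
    have : v = w' * (v * w'⁻¹) := by
      rw [mul_comm v, mul_inv_cancel_left]
    rw [this]
    exact Subgroup.mul_mem_sup hw'G hK

end Trace

end Cfsg.Agent.Lib.Helper27
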