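import Mathlib

set_option autoImplicit false
set_option linter.unusedSectionVars false

/-!
The counting argument for the minimal index of a proper subgroup of a simple group of order
`126000` with a trivial intersection Sylow `5`-subgroup whose normaliser has order `1000` and a
self-centralising non-real element of order seven.
-/

namespace Cfsg.Agent.Lib.Helper27.U35

open Subgroup
open scoped Pointwise

theorem prime5 : Fact (Nat.Prime 5) := ⟨by norm_num⟩

theorem prime7 : Fact (Nat.Prime 7) := ⟨by norm_num⟩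

attribute [local instance] prime5 prime7

/-- the arithmetic check for one value of the index -/
def arithChk (k : ℕ) : Bool :=
  !(decide (k ∣ 126000) && decide (126000 ∣ k.factorial) &&
    (List.range 4).any fun a => [1, 2, 4, 8].any fun d =>
      decide (1 ≤ a) && decide (5 ^ a * d ∣ 126000 / k) &&
      !decide (5 ^ (a + 1) ∣ 126000 / k) &&
      decide ((126000 / k / (5 ^ a * d)) % 5 ^ a = 1) &&
      (!decide (7 ∣ 126000 / k) ||
        [7, 21].any fun m => decide (m ∣ 126000 / k) && decide ((126000 / k / m) % 7 = 1)))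

theorem arithChk_all : ∀ k < 50, arithChk k = true := by decide +kernel

theorem arith_false (k n a d : ℕ) (hkn : k * n = 126000) (hk : k < 50)
    (hfact : 126000 ∣ k.factorial) (ha1 : 1 ≤ a) (hd : d ∣ 8) (hm : 5 ^ a * d ∣ n)
    (hmax : ¬ 5 ^ (a + 1) ∣ n) (hcong : (n / (5 ^ a * d)) % 5 ^ a = 1)
    (h7 : 7 ∣ n → ∃ m, (m = 7 ∨ m = 21) ∧ m ∣ n ∧ (n / m) % 7 = 1) : False := by
  have hk0 : 0 < k := by
    rcases Nat.eq_zero_or_pos k with h | h
    · rw [h, zero_mul] at hkn; omega
    · exact h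
  have hn : n = 126000 / k := by
    rw [← hkn, Nat.mul_div_cancel_left n hk0]
  have hkd : k ∣ 126000 := ⟨n, hkn.symm⟩
  have hnd : n ∣ 126000 := ⟨k, by rw [mul_comm]; exact hkn.symm⟩
  have ha4 : a < 4 := by
    by_contra hge
    push Not at hge
    have h1 : 5 ^ 4 ∣ 5 ^ a := pow_dvd_pow 5 hge
    have h2 : 5 ^ 4 ∣ 126000 := (h1.trans (Dvd.dvd.mul_right dvd_rfl d)).trans (hm.trans hnd)
    norm_num at h2
  have hd8 : d ∈ [1, 2, 4, 8] := by
    have hd0 : d ≤ 8 := Nat.le_of_dvd (by norm_num) hd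
    interval_cases d <;> simp_all
  have hchk := arithChk_all k hk
  unfold arithChk at hchk
  rw [Bool.not_eq_true'] at hchk
  have htrue : (decide (k ∣ 126000) && decide (126000 ∣ k.factorial) &&
    (List.range 4).any fun a => [1, 2, 4, 8].any fun d =>
      decide (1 ≤ a) && decide (5 ^ a * d ∣ 126000 / k) &&
      !decide (5 ^ (a + 1) ∣ 126000 / k) &&
      decide ((126000 / k / (5 ^ a * d)) % 5 ^ a = 1) &&
      (!decide (7 ∣ 126000 / k) ||
        [7, 21].any fun m => decide (m ∣ 126000 / k) && decide ((126000 / k / m) % 7 = 1))) = true := by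
    rw [Bool.and_eq_true, Bool.and_eq_true, decide_eq_true_eq, decide_eq_true_eq,
      List.any_eq_true]
    refine ⟨⟨hkd, hfact⟩, a, List.mem_range.mpr ha4, ?_⟩
    rw [List.any_eq_true]
    refine ⟨d, hd8, ?_⟩
    rw [← hn]
    rw [Bool.and_eq_true, Bool.and_eq_true, Bool.and_eq_true, Bool.and_eq_true,
      decide_eq_true_eq, decide_eq_true_eq, decide_eq_true_eq, Bool.not_eq_true',
      decide_eq_false_iff_not, Bool.or_eq_true, Bool.not_eq_true', decide_eq_false_iff_not,
      List.any_eq_true]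
    refine ⟨⟨⟨⟨ha1, hm⟩, hmax⟩, hcong⟩, ?_⟩
    by_cases h7n : 7 ∣ n
    · right
      obtain ⟨m, hm7, hmn, hmc⟩ := h7 h7n
      refine ⟨m, ?_, ?_⟩
      · rcases hm7 with rfl | rfl <;> simp
      · rw [Bool.and_eq_true, decide_eq_true_eq, decide_eq_true_eq]
        exact ⟨hmn, hmc⟩
    · left
      exact h7n
  rw [htrue] at hchk
  exact Bool.noConfusion hchk

theorem card_dvd_index_factorial {G : Type*} [Group G] [Finite G] [IsSimpleGroup G]
    (H : Subgroup G) (hH : H ≠ ⊤) : Nat.card G ∣ H.index.factorial := by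
  classical
  have hker : (MulAction.toPermHom G (G ⧸ H)).ker = ⊥ := by
    rw [← Subgroup.normalCore_eq_ker]
    rcases (Subgroup.normalCore_normal H).eq_bot_or_eq_top with h | h
    · exact h
    · exfalso
      apply hH
      rw [eq_top_iff, ← h]
      exact Subgroup.normalCore_le H
  have hinj : Function.Injective (MulAction.toPermHom G (G ⧸ H)) :=
    (MonoidHom.ker_eq_bot_iff _).mp hker
  have h1 := Subgroup.card_dvd_of_injective _ hinj
  have : Fintype (G ⧸ H) := Fintype.ofFinite _
  rw [Nat.card_eq_fintype_card (α := Equiv.Perm (G ⧸ H)), Fintype.card_perm,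
    ← Nat.card_eq_fintype_card, ← Subgroup.index_eq_card] at h1
  exact h1

section ti

variable {G : Type*} [Group G] [Finite G]

/-- the trivial intersection property together with the order of the normaliser -/
def TIProp (P : Sylow 5 G) : Prop :=
  Nat.card (normalizer ((P : Subgroup G) : Set G)) = 1000 ∧
  ∀ g : G, (∃ x : G, x ≠ 1 ∧ x ∈ (P : Subgroup G) ∧ g * x * g⁻¹ ∈ (P : Subgroup G)) →
      g ∈ normalizer ((P : Subgroup G) : Set G)

theorem mem_smul_sylow {p : ℕ} {P : Sylow p G} {g x : G} :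
    x ∈ ((g • P : Sylow p G) : Subgroup G) ↔ g⁻¹ * x * g ∈ (P : Subgroup G) := by
  rw [Sylow.coe_subgroup_smul, Subgroup.mem_pointwise_smul_iff_inv_smul_mem, MulAut.smul_def,
    ← map_inv, MulAut.conj_apply, inv_inv]

theorem mem_normalizer_smul_sylow {p : ℕ} {P : Sylow p G} {g h : G} :
    h ∈ normalizer (((g • P : Sylow p G) : Subgroup G) : Set G) ↔
      g⁻¹ * h * g ∈ normalizer ((P : Subgroup G) : Set G) := by
  have e1 : h ∈ normalizer (((g • P : Sylow p G) : Subgroup G) : Set G) ↔ h • (g • P) = g • P :=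
    Sylow.smul_eq_iff_mem_normalizer.symm
  have e2 : g⁻¹ * h * g ∈ normalizer ((P : Subgroup G) : Set G) ↔ (g⁻¹ * h * g) • P = P :=
    Sylow.smul_eq_iff_mem_normalizer.symm
  rw [e1, e2, mul_smul, mul_smul, inv_smul_eq_iff]

theorem tiProp_smul {P : Sylow 5 G} (h : TIProp P) (g : G) : TIProp (g • P) := by
  obtain ⟨hN, hTI⟩ := h
  refine ⟨?_, ?_⟩
  · have e : normalizer (((g • P : Sylow 5 G) : Subgroup G) : Set G) =
        (normalizer ((P : Subgroup G) : Set G)).map (MulAut.conj g).toMonoidHom := by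
      ext x
      rw [mem_normalizer_smul_sylow, Subgroup.mem_map]
      constructor
      · intro hx
        refine ⟨g⁻¹ * x * g, hx, ?_⟩
        simp [MulAut.conj_apply, mul_assoc]
      · rintro ⟨y, hy, rfl⟩
        have : g⁻¹ * ((MulAut.conj g).toMonoidHom y) * g = y := by
          simp [MulAut.conj_apply, mul_assoc]
        rw [this]
        exact hy
    rw [e, Subgroup.card_map_of_injective (MulAut.conj g).injective, hN]
  · rintro a ⟨x, hx1, hxP, hxa⟩
    rw [mem_normalizer_smul_sylow]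
    rw [mem_smul_sylow] at hxP hxa
    apply hTI
    refine ⟨g⁻¹ * x * g, ?_, hxP, ?_⟩
    · intro h1
      apply hx1
      have : x = g * (g⁻¹ * x * g) * g⁻¹ := by group
      rw [this, h1]
      group
    · have : g⁻¹ * a * g * (g⁻¹ * x * g) * (g⁻¹ * a * g)⁻¹ = g⁻¹ * (a * x * a⁻¹) * g := by group
      rw [this]
      exact hxa

theorem tiProp_all {P : Sylow 5 G} (h : TIProp P) (P' : Sylow 5 G) : TIProp P' := by
  obtain ⟨g, rfl⟩ := MulAction.exists_smul_eq G P P'
  exact tiProp_smul h g

/-- two Sylow subgroups with a common nontrivial element coincide -/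
theorem sylow_eq_of_common {P : Sylow 5 G} (h : TIProp P) (P1 P2 : Sylow 5 G) (x : G)
    (hx1 : x ≠ 1) (h1 : x ∈ (P1 : Subgroup G)) (h2 : x ∈ (P2 : Subgroup G)) : P1 = P2 := by
  obtain ⟨g, rfl⟩ := MulAction.exists_smul_eq G P1 P2
  have hT := (tiProp_all h P1).2
  rw [mem_smul_sylow] at h2
  have hg : g⁻¹ ∈ normalizer ((P1 : Subgroup G) : Set G) := by
    apply hT
    refine ⟨x, hx1, h1, ?_⟩
    rw [inv_inv]
    exact h2
  have hg' : g ∈ normalizer ((P1 : Subgroup G) : Set G) := by
    have := Subgroup.inv_mem _ hg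
    rwa [inv_inv] at this
  exact (Sylow.smul_eq_iff_mem_normalizer.mpr hg').symm

/-- a nontrivial element of a Sylow subgroup is moved into it only by the normaliser, for
arbitrary subgroups -/
theorem normalizer_le_of_le {P : Sylow 5 G} (h : TIProp P) (P1 : Sylow 5 G) (Q : Subgroup G)
    (hQ : Q ≤ (P1 : Subgroup G)) (hQ1 : Q ≠ ⊥) :
    normalizer (Q : Set G) ≤ normalizer ((P1 : Subgroup G) : Set G) := by
  intro a ha
  obtain ⟨x, hxQ, hx1⟩ : ∃ x : G, x ∈ Q ∧ x ≠ 1 := by
    obtain ⟨x, hx⟩ := (Subgroup.ne_bot_iff_exists_ne_one).mp hQ1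
    exact ⟨(x : G), x.2, fun h1 => hx (Subtype.ext h1)⟩
  apply (tiProp_all h P1).2
  refine ⟨x, hx1, hQ hxQ, hQ ?_⟩
  exact (Subgroup.mem_normalizer_iff.mp ha x).mp hxQ

section inH

variable (H : Subgroup G)

/-- the image in `G` of a Sylow subgroup of `H` -/
theorem sylowH_le (Q : Sylow 5 H) : ∃ P1 : Sylow 5 G, (Q : Subgroup H).map H.subtype ≤ P1 :=
  (Q.2.map H.subtype).exists_le_sylow

theorem card_normalizerH_dvd {P : Sylow 5 G} (h : TIProp P) (Q : Sylow 5 H)
    (hQ1 : (Q : Subgroup H) ≠ ⊥) :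
    Nat.card (normalizer ((Q : Subgroup H) : Set H)) ∣ 1000 := by
  obtain ⟨P1, hP1⟩ := sylowH_le H Q
  rw [← (tiProp_all h P1).1]
  have hmap : ∀ a : normalizer ((Q : Subgroup H) : Set H),
      ((a : H) : G) ∈ normalizer ((P1 : Subgroup G) : Set G) := by
    intro a
    apply normalizer_le_of_le h P1 ((Q : Subgroup H).map H.subtype) hP1
    · intro hbot
      apply hQ1
      exact (Subgroup.map_eq_bot_iff_of_injective _ H.subtype_injective).mp hbot
    · rw [Subgroup.mem_normalizer_iff]
      intro y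
      constructor
      · rintro ⟨z, hz, rfl⟩
        refine ⟨(a : H) * z * (a : H)⁻¹, (Subgroup.mem_normalizer_iff.mp a.2 z).mp hz, ?_⟩
        simp
      · rintro ⟨z, hz, hzy⟩
        have hy : y = ((a : H)⁻¹ * z * (a : H) : H) := by
          have : ((a : H)⁻¹ * z * (a : H) : H) = ((a : H) : G)⁻¹ * (z : G) * ((a : H) : G) := by
            simp
          rw [this]
          have hz' : (z : G) = ((a : H) : G) * y * ((a : H) : G)⁻¹ := hzy
          rw [hz']
          group
        rw [hy]
        refine ⟨(a : H)⁻¹ * z * (a : H), ?_, rfl⟩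
        have := (Subgroup.mem_normalizer_iff.mp (Subgroup.inv_mem _ a.2) z).mp hz
        rwa [inv_inv] at this
  let f : normalizer ((Q : Subgroup H) : Set H) →* normalizer ((P1 : Subgroup G) : Set G) :=
    (H.subtype.comp (normalizer ((Q : Subgroup H) : Set H)).subtype).codRestrict _ hmap
  have hf : Function.Injective f := by
    intro a b hab
    have : ((a : H) : G) = ((b : H) : G) :=
      congrArg (fun z : normalizer ((P1 : Subgroup G) : Set G) => (z : G)) hab
    exact Subtype.ext (Subtype.ext this)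
  exact Subgroup.card_dvd_of_injective f hf

/-- distinct Sylow subgroups of `H` meet trivially -/
theorem sylowH_inf_eq_bot {P : Sylow 5 G} (h : TIProp P) (Q Q' : Sylow 5 H) (hne : Q' ≠ Q) :
    (Q : Subgroup H) ⊓ (Q' : Subgroup H) = ⊥ := by
  rw [eq_bot_iff]
  intro x hx
  rw [Subgroup.mem_bot]
  by_contra hx1
  apply hne
  obtain ⟨P1, hP1⟩ := sylowH_le H Q
  obtain ⟨P2, hP2⟩ := sylowH_le H Q'
  have hxG1 : (x : G) ≠ 1 := fun h1 => hx1 (Subtype.ext h1)
  have h1 : (x : G) ∈ (P1 : Subgroup G) := hP1 ⟨x, hx.1, rfl⟩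
  have h2 : (x : G) ∈ (P2 : Subgroup G) := hP2 ⟨x, hx.2, rfl⟩
  have h12 : P1 = P2 := sylow_eq_of_common h P1 P2 x hxG1 h1 h2
  subst h12
  -- the trace of `P1` on `H` is a 5-subgroup of `H` containing `Q` and `Q'`
  have hR : IsPGroup 5 ((P1 : Subgroup G).subgroupOf H) := P1.2.comap_subtype
  have hQR : (Q : Subgroup H) ≤ (P1 : Subgroup G).subgroupOf H := by
    intro y hy
    exact hP1 ⟨y, hy, rfl⟩
  have hQ'R : (Q' : Subgroup H) ≤ (P1 : Subgroup G).subgroupOf H := by
    intro y hy
    exact hP2 ⟨y, hy, rfl⟩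
  have e1 := Q.3 hR hQR
  have e2 := Q'.3 hR hQ'R
  exact Sylow.ext (e2.symm.trans e1)

/-- the other Sylow subgroups of `H`, with the conjugation action of `Q` -/
def otherSylow (Q : Sylow 5 H) : SubMulAction (↥(Q : Subgroup H)) (Sylow 5 H) where
  carrier := {Q' | Q' ≠ Q}
  smul_mem' := by
    intro q Q' hQ' hcontra
    apply hQ'
    have hq : (q : H) • Q = Q :=
      Sylow.smul_eq_iff_mem_normalizer.mpr (Subgroup.le_normalizer q.2)
    have h1 : (q : H) • Q' = (q : H) • Q := by rw [hq]; exact hcontra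
    exact (MulAction.injective (q : H)) h1

theorem card_sylowH_sub_one {P : Sylow 5 G} (h : TIProp P) (Q : Sylow 5 H) :
    Nat.card (Q : Subgroup H) ∣ Nat.card (Sylow 5 H) - 1 := by
  classical
  have hfree : ∀ b : otherSylow H Q, MulAction.stabilizer (↥(Q : Subgroup H)) b = ⊥ := by
    intro b
    rw [eq_bot_iff]
    intro q hq
    rw [MulAction.mem_stabilizer_iff] at hq
    have hq' : (q : H) • (b : Sylow 5 H) = (b : Sylow 5 H) := congrArg Subtype.val hq
    have hqn : (q : H) ∈ normalizer (((b : Sylow 5 H) : Subgroup H) : Set H) :=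
      Sylow.smul_eq_iff_mem_normalizer.mp hq'
    have hmem : (q : H) ∈ (Q : Subgroup H) ⊓
        normalizer (((b : Sylow 5 H) : Subgroup H) : Set H) := ⟨q.2, hqn⟩
    have e0 := IsPGroup.inf_normalizer_sylow Q.2 (b : Sylow 5 H)
    have hmem2 : (q : H) ∈ (Q : Subgroup H) ⊓ ((b : Sylow 5 H) : Subgroup H) :=
      (SetLike.ext_iff.mp e0 (q : H)).mp hmem
    rw [sylowH_inf_eq_bot H h Q (b : Sylow 5 H) b.2] at hmem2
    rw [Subgroup.mem_bot]
    exact Subtype.ext (Subgroup.mem_bot.mp hmem2)
  have e := MulAction.selfEquivOrbitsQuotientProd hfree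
  have hcard : Nat.card (otherSylow H Q) =
      Nat.card (Quotient (MulAction.orbitRel (↥(Q : Subgroup H)) (otherSylow H Q))) *
        Nat.card (Q : Subgroup H) := by
    rw [Nat.card_congr e, Nat.card_prod]
  have hX : Nat.card (otherSylow H Q) = Nat.card (Sylow 5 H) - 1 := by
    have e1 : Nat.card (otherSylow H Q) = ({Q} : Set (Sylow 5 H))ᶜ.ncard := by
      rw [← Nat.card_coe_set_eq]
      rfl
    rw [e1, Set.ncard_compl, Set.ncard_singleton]
  rw [← hX, hcard]
  exact Dvd.intro_left _ rfl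

/-- the numerical consequences of the trivial intersection property for a subgroup of order
divisible by five -/
theorem five_part {P : Sylow 5 G} (h : TIProp P) (h5 : 5 ∣ Nat.card H) :
    ∃ a d : ℕ, 1 ≤ a ∧ d ∣ 8 ∧ 5 ^ a * d ∣ Nat.card H ∧ ¬ 5 ^ (a + 1) ∣ Nat.card H ∧
      (Nat.card H / (5 ^ a * d)) % 5 ^ a = 1 := by
  have hn0 : Nat.card H ≠ 0 := Nat.card_pos.ne'
  obtain ⟨Q⟩ : Nonempty (Sylow 5 H) := inferInstance
  set a := (Nat.card H).factorization 5 with ha
  have hQc : Nat.card (Q : Subgroup H) = 5 ^ a := Sylow.card_eq_multiplicity Q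
  have ha1 : 1 ≤ a := (Nat.Prime.factorization_pos_of_dvd (by norm_num) hn0 h5)
  have hmax : ¬ 5 ^ (a + 1) ∣ Nat.card H :=
    Nat.pow_succ_factorization_not_dvd hn0 (by norm_num)
  have hQ1 : (Q : Subgroup H) ≠ ⊥ := by
    intro hbot
    rw [hbot, Subgroup.card_bot] at hQc
    have : 5 ^ 1 ≤ 5 ^ a := Nat.pow_le_pow_right (by norm_num) ha1
    omega
  set m := Nat.card (normalizer ((Q : Subgroup H) : Set H)) with hm
  have hm1000 : m ∣ 1000 := card_normalizerH_dvd H h Q hQ1
  have hqm : 5 ^ a ∣ m := by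
    rw [← hQc]
    exact Subgroup.card_dvd_of_le Subgroup.le_normalizer
  have hmn : m ∣ Nat.card H := Subgroup.card_subgroup_dvd_card _
  obtain ⟨d, hd⟩ := hqm
  have h5d : ¬ 5 ∣ d := by
    rintro ⟨e, rfl⟩
    apply hmax
    refine Dvd.dvd.trans ?_ hmn
    rw [hd, pow_succ]
    exact ⟨e, by ring⟩
  have hd8 : d ∣ 8 := by
    have hd1000 : d ∣ 8 * 125 := by
      have : d ∣ m := ⟨5 ^ a, by rw [hd]; ring⟩
      exact this.trans hm1000
    have hcop : Nat.Coprime d 125 := by
      have : Nat.Coprime 5 d := (Nat.Prime.coprime_iff_not_dvd (by norm_num)).mpr h5d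
      have h3 : Nat.Coprime d (5 ^ 3) := Nat.Coprime.pow_right 3 this.symm
      norm_num at h3
      exact h3
    exact Nat.Coprime.dvd_of_dvd_mul_right hcop hd1000
  have hidx : Nat.card (Sylow 5 H) = Nat.card H / m := by
    rw [Sylow.card_eq_index_normalizer Q]
    have h1 := Subgroup.card_mul_index (normalizer ((Q : Subgroup H) : Set H))
    have hmpos : 0 < m := Nat.pos_of_ne_zero (fun h0 => by rw [h0] at hmn; exact hn0 (Nat.eq_zero_of_zero_dvd hmn))
    rw [← h1, ← hm, Nat.mul_div_cancel_left _ hmpos]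
    rfl
  refine ⟨a, d, ha1, hd8, ?_, hmax, ?_⟩
  · rw [← hd]; exact hmn
  · rw [← hd, ← hidx]
    have hdiv := card_sylowH_sub_one H h Q
    rw [hQc] at hdiv
    obtain ⟨t, ht⟩ := hdiv
    have hpos : 0 < Nat.card (Sylow 5 H) := Nat.card_pos
    have hc : Nat.card (Sylow 5 H) = 1 + 5 ^ a * t := by omega
    rw [hc, Nat.add_mul_mod_self_left]
    apply Nat.mod_eq_of_lt
    have : 5 ^ 1 ≤ 5 ^ a := Nat.pow_le_pow_right (by norm_num) ha1
    omega

end inH

end ti

section seven

variable {G : Type*} [Group G] [Finite G]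

/-- a subgroup of order seven of a group of order `126000` is a Sylow subgroup -/
theorem zpowers_eq_sylow (hcard : Nat.card G = 126000) (y : G) (hy : orderOf y = 7) :
    ∃ Py : Sylow 7 G, (Py : Subgroup G) = zpowers y := by
  have hc : Nat.card (zpowers y) = 7 := by rw [Nat.card_zpowers, hy]
  have hp : IsPGroup 7 (zpowers y) := IsPGroup.of_card (n := 1) (by rw [hc, pow_one])
  obtain ⟨Py, hle⟩ := hp.exists_le_sylow
  refine ⟨Py, ?_⟩
  obtain ⟨k, hk⟩ := Py.2.exists_card_eq
  have hdvd : Nat.card (Py : Subgroup G) ∣ 126000 := by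
    rw [← hcard]; exact Subgroup.card_subgroup_dvd_card _
  have hk1 : k ≤ 1 := by
    by_contra hge
    push Not at hge
    have h1 : 7 ^ 2 ∣ 7 ^ k := pow_dvd_pow 7 hge
    rw [hk] at hdvd
    have h2 : 7 ^ 2 ∣ 126000 := h1.trans hdvd
    norm_num at h2
  have hle7 : Nat.card (Py : Subgroup G) ≤ 7 := by
    rw [hk]
    calc 7 ^ k ≤ 7 ^ 1 := Nat.pow_le_pow_right (by norm_num) hk1
      _ = 7 := by norm_num
  exact (Subgroup.eq_of_le_of_card_ge hle (by rw [hc]; exact hle7)).symm

/-- every element of order seven is self-centralising and not conjugate to its inverse -/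
theorem seven_global (hcard : Nat.card G = 126000) (s : G) (hs : orderOf s = 7)
    (hCs : ∀ g : G, g * s = s * g → g ∈ zpowers s) (hinv : ∀ g : G, g * s * g⁻¹ ≠ s⁻¹)
    (y : G) (hy : orderOf y = 7) :
    (∀ c : G, c * y = y * c → c ∈ zpowers y) ∧ ∀ c : G, c * y * c⁻¹ ≠ y⁻¹ := by
  obtain ⟨Ps, hPs⟩ := zpowers_eq_sylow hcard s hs
  obtain ⟨Py, hPy⟩ := zpowers_eq_sylow hcard y hy
  obtain ⟨g, hg⟩ := MulAction.exists_smul_eq G Ps Py
  have hy1 : y ≠ 1 := by
    intro h1
    rw [h1, orderOf_one] at hy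
    norm_num at hy
  have hyPy : y ∈ (Py : Subgroup G) := by rw [hPy]; exact mem_zpowers y
  rw [← hg, mem_smul_sylow, hPs] at hyPy
  set t := g⁻¹ * y * g with ht
  have ht1 : t ≠ 1 := by
    intro h1
    apply hy1
    have : y = g * t * g⁻¹ := by rw [ht]; group
    rw [this, h1]; group
  -- `s` is a power of `t`
  have hcs : Nat.card (zpowers s) = 7 := by rw [Nat.card_zpowers, hs]
  have hst : (⟨s, mem_zpowers s⟩ : zpowers s) ∈ zpowers (⟨t, hyPy⟩ : zpowers s) :=
    mem_zpowers_of_prime_card hcs (fun h1 => ht1 (congrArg Subtype.val h1))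
  obtain ⟨i, hi⟩ := hst
  have hi' : t ^ i = s := by
    have := congrArg Subtype.val hi
    simpa using this
  have hyt : y = g * t * g⁻¹ := by rw [ht]; group
  constructor
  · intro c hc
    set c' := g⁻¹ * c * g with hc'
    have hct : c' * t = t * c' := by
      rw [hc', ht]
      have e1 : g⁻¹ * c * g * (g⁻¹ * y * g) = g⁻¹ * (c * y) * g := by group
      have e2 : g⁻¹ * y * g * (g⁻¹ * c * g) = g⁻¹ * (y * c) * g := by group
      rw [e1, e2, hc]
    have hcs' : c' * s = s * c' := by
      rw [← hi']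
      exact (Commute.zpow_right (show Commute c' t from hct) i).eq
    have hmem := hCs c' hcs'
    -- `zpowers s ≤ zpowers t`
    have hsle : s ∈ zpowers t := ⟨i, hi'⟩
    have hc't : c' ∈ zpowers t := (zpowers_le.mpr hsle) hmem
    obtain ⟨l, hl⟩ := hc't
    refine ⟨l, ?_⟩
    have hcc : c = g * c' * g⁻¹ := by rw [hc']; group
    rw [hcc, ← hl, hyt]
    exact (conj_zpow (a := g) (b := t) (i := l))
  · intro c hc
    set c' := g⁻¹ * c * g with hc'
    have hct : c' * t * c'⁻¹ = t⁻¹ := by
      rw [hc', ht]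
      have e1 : g⁻¹ * c * g * (g⁻¹ * y * g) * (g⁻¹ * c * g)⁻¹ = g⁻¹ * (c * y * c⁻¹) * g := by group
      rw [e1, hc]
      group
    apply hinv c'
    rw [← hi']
    rw [← conj_zpow, hct, inv_zpow]

/-- the numerical consequences for a subgroup of order divisible by seven -/
theorem seven_part (hcard : Nat.card G = 126000) (s : G) (hs : orderOf s = 7)
    (hCs : ∀ g : G, g * s = s * g → g ∈ zpowers s) (hinv : ∀ g : G, g * s * g⁻¹ ≠ s⁻¹)
    (H : Subgroup G) (h7 : 7 ∣ Nat.card H) :
    ∃ m : ℕ, (m = 7 ∨ m = 21) ∧ m ∣ Nat.card H ∧ (Nat.card H / m) % 7 = 1 := by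
  have hn0 : Nat.card H ≠ 0 := Nat.card_pos.ne'
  obtain ⟨S⟩ : Nonempty (Sylow 7 H) := inferInstance
  -- `S` has order seven
  have hS7 : Nat.card (S : Subgroup H) = 7 := by
    have h1 : Nat.card (S : Subgroup H) = 7 ^ (Nat.card H).factorization 7 :=
      Sylow.card_eq_multiplicity S
    have hf1 : 1 ≤ (Nat.card H).factorization 7 :=
      Nat.Prime.factorization_pos_of_dvd (by norm_num) hn0 h7
    have hf2 : (Nat.card H).factorization 7 ≤ 1 := by
      by_contra hge
      push Not at hge
      have h2 : 7 ^ 2 ∣ 7 ^ (Nat.card H).factorization 7 := pow_dvd_pow 7 hge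
      have h3 : 7 ^ (Nat.card H).factorization 7 ∣ Nat.card H := Nat.ordProj_dvd _ _
      have h4 : Nat.card H ∣ 126000 := by
        rw [← hcard]; exact Subgroup.card_subgroup_dvd_card H
      have h5 : 7 ^ 2 ∣ 126000 := (h2.trans h3).trans h4
      norm_num at h5
    have : (Nat.card H).factorization 7 = 1 := le_antisymm hf2 hf1
    rw [h1, this, pow_one]
  -- a generator
  obtain ⟨x, hxS, hx1⟩ : ∃ x : H, x ∈ (S : Subgroup H) ∧ x ≠ 1 := by
    have hne : (S : Subgroup H) ≠ ⊥ := by
      intro hbot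
      rw [hbot, Subgroup.card_bot] at hS7
      norm_num at hS7
    obtain ⟨x, hx⟩ := (Subgroup.ne_bot_iff_exists_ne_one).mp hne
    exact ⟨(x : H), x.2, fun h1 => hx (Subtype.ext h1)⟩
  have hxord : orderOf x = 7 := by
    have h1 : orderOf (⟨x, hxS⟩ : (S : Subgroup H)) ∣ 7 := by
      have h0 : orderOf (⟨x, hxS⟩ : (S : Subgroup H)) ∣ Nat.card (S : Subgroup H) :=
        orderOf_dvd_natCard _
      rwa [hS7] at h0
    have h2 : orderOf (⟨x, hxS⟩ : (S : Subgroup H)) = orderOf x := by
      rw [← Subgroup.orderOf_coe]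
    rw [h2] at h1
    rcases (Nat.dvd_prime (by norm_num : Nat.Prime 7)).mp h1 with h | h
    · exact absurd (orderOf_eq_one_iff.mp h) hx1
    · exact h
  have hxGord : orderOf (x : G) = 7 := by rw [Subgroup.orderOf_coe, hxord]
  have hzS : zpowers x = (S : Subgroup H) := by
    apply Subgroup.eq_of_le_of_card_ge (zpowers_le.mpr hxS)
    rw [Nat.card_zpowers, hxord, hS7]
  obtain ⟨hcen, hnoinv⟩ := seven_global hcard s hs hCs hinv (x : G) hxGord
  -- elements of `H` commuting with a nontrivial element of `S` lie in `S`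
  have hcenH : ∀ (z : H), z ∈ (S : Subgroup H) → z ≠ 1 → ∀ c : H, c * z = z * c →
      c ∈ (S : Subgroup H) := by
    intro z hzS' hz1 c hc
    have hzord : orderOf (z : G) = 7 := by
      rw [Subgroup.orderOf_coe]
      have h1 : orderOf (⟨z, hzS'⟩ : (S : Subgroup H)) ∣ 7 := by
        have h0 : orderOf (⟨z, hzS'⟩ : (S : Subgroup H)) ∣ Nat.card (S : Subgroup H) :=
          orderOf_dvd_natCard _
        rwa [hS7] at h0
      have h2 : orderOf (⟨z, hzS'⟩ : (S : Subgroup H)) = orderOf z := by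
        rw [← Subgroup.orderOf_coe]
      rw [h2] at h1
      rcases (Nat.dvd_prime (by norm_num : Nat.Prime 7)).mp h1 with h | h
      · exact absurd (orderOf_eq_one_iff.mp h) hz1
      · exact h
    have hcG : (c : G) * (z : G) = (z : G) * (c : G) := by
      have := congrArg (fun w : H => (w : G)) hc
      simpa using this
    obtain ⟨l, hl⟩ := (seven_global hcard s hs hCs hinv (z : G) hzord).1 (c : G) hcG
    have : c = z ^ l := by
      apply Subtype.ext
      rw [← hl]
      simp
    rw [this]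
    exact Subgroup.zpow_mem _ hzS' l
  set N := normalizer ((S : Subgroup H) : Set H) with hN
  -- the centraliser of `S` in `H` is `S`
  have hcentS : centralizer ((S : Subgroup H) : Set H) = (S : Subgroup H) := by
    apply le_antisymm
    · intro c hc
      exact hcenH x hxS hx1 c (hc x hxS).symm
    · intro c hc
      rw [Subgroup.mem_centralizer_iff]
      intro z hz
      rw [← hzS] at hc hz
      obtain ⟨i, rfl⟩ := hc
      obtain ⟨j, rfl⟩ := hz
      exact (Commute.zpow_zpow_self x j i).eq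
  -- the order of the normaliser
  have hker : Nat.card ((S : Subgroup H).normalizerMonoidHom.ker) = 7 := by
    rw [Subgroup.normalizerMonoidHom_ker, hcentS]
    rw [Nat.card_congr (Subgroup.subgroupOfEquivOfLe Subgroup.le_normalizer).toEquiv, hS7]
  have hcycS : IsCyclic (S : Subgroup H) := isCyclic_of_prime_card hS7
  have hrange : Nat.card ((S : Subgroup H).normalizerMonoidHom.range) ∣ 6 := by
    have h1 := Subgroup.card_subgroup_dvd_card ((S : Subgroup H).normalizerMonoidHom.range)
    rw [IsCyclic.card_mulAut, hS7] at h1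
    have : Nat.totient 7 = 6 := by decide
    rwa [this] at h1
  have hNcard : Nat.card N = 7 * Nat.card ((S : Subgroup H).normalizerMonoidHom.range) := by
    have h1 := Subgroup.card_mul_index ((S : Subgroup H).normalizerMonoidHom.ker)
    rw [Subgroup.index_ker, hker] at h1
    exact h1.symm
  -- no involution in the normaliser
  have hodd : ¬ 2 ∣ Nat.card N := by
    intro h2
    have : Fact (Nat.Prime 2) := ⟨Nat.prime_two⟩
    obtain ⟨t, ht⟩ := exists_prime_orderOf_dvd_card' 2 h2
    -- `t` normalises `S`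
    have htx : (t : H) * x * (t : H)⁻¹ ∈ (S : Subgroup H) :=
      (Subgroup.mem_normalizer_iff.mp t.2 x).mp hxS
    set y := (t : H) * x * (t : H)⁻¹ with hy
    have ht2 : (t : H) * (t : H) = 1 := by
      have h1 : t ^ 2 = 1 := by rw [← ht]; exact pow_orderOf_eq_one t
      have h2 := congrArg (fun w : N => (w : H)) h1
      simpa [pow_two] using h2
    have htinv : (t : H)⁻¹ = (t : H) := inv_eq_of_mul_eq_one_left ht2
    have hty : (t : H) * y * (t : H)⁻¹ = x := by
      rw [hy, htinv]
      calc (t : H) * ((t : H) * x * (t : H)) * (t : H)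
          = ((t : H) * (t : H)) * x * ((t : H) * (t : H)) := by group
        _ = x := by rw [ht2]; group
    have hxy : x * y = y * x := by
      rw [← hzS] at hxS htx
      obtain ⟨j, hj⟩ := htx
      rw [← hj]
      exact (Commute.self_zpow x j).eq   
    have htz : (t : H) * (x * y) = (x * y) * (t : H) := by
      have e1 : (t : H) * (x * y) * (t : H)⁻¹ = y * x := by
        calc (t : H) * (x * y) * (t : H)⁻¹
            = ((t : H) * x * (t : H)⁻¹) * ((t : H) * y * (t : H)⁻¹) := by group
          _ = y * x := by rw [hty]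
      rw [← hxy] at e1
      calc (t : H) * (x * y) = ((t : H) * (x * y) * (t : H)⁻¹) * (t : H) := by group
        _ = (x * y) * (t : H) := by rw [e1]
    have ht_ord : orderOf (t : H) = 2 := by rw [Subgroup.orderOf_coe, ht]
    by_cases hz1 : x * y = 1
    · -- `t` inverts `x`
      have hyx : y = x⁻¹ := (eq_inv_of_mul_eq_one_right hz1)
      apply hnoinv (t : H)
      have := congrArg (fun w : H => (w : G)) hyx
      simpa [hy] using this
    · have htS := hcenH (x * y) (Subgroup.mul_mem _ hxS htx) hz1 (t : H) htz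
      have h1 : orderOf (⟨(t : H), htS⟩ : (S : Subgroup H)) ∣ 7 := by
        have h0 : orderOf (⟨(t : H), htS⟩ : (S : Subgroup H)) ∣ Nat.card (S : Subgroup H) :=
          orderOf_dvd_natCard _
        rwa [hS7] at h0
      have h2' : orderOf (⟨(t : H), htS⟩ : (S : Subgroup H)) = orderOf (t : H) := by
        rw [← Subgroup.orderOf_coe]
      rw [h2', ht_ord] at h1
      norm_num at h1
  refine ⟨Nat.card N, ?_, Subgroup.card_subgroup_dvd_card N, ?_⟩
  · have hr6 : Nat.card ((S : Subgroup H).normalizerMonoidHom.range) ≤ 6 :=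
      Nat.le_of_dvd (by norm_num) hrange
    have hrpos : 0 < Nat.card ((S : Subgroup H).normalizerMonoidHom.range) := Nat.card_pos
    rw [hNcard] at hodd ⊢
    generalize Nat.card ((S : Subgroup H).normalizerMonoidHom.range) = r at *
    interval_cases r <;> omega
  · have hidx : Nat.card (Sylow 7 H) = Nat.card H / Nat.card N := by
      rw [Sylow.card_eq_index_normalizer S]
      have h1 := Subgroup.card_mul_index N
      have hNpos : 0 < Nat.card N := Nat.card_pos
      rw [← h1, Nat.mul_div_cancel_left _ hNpos]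
      rfl
    rw [← hidx]
    exact card_sylow_modEq_one 7 H

end seven

/-- U35-A: the counting argument. -/
theorem min_index_fifty {G : Type*} [Group G] [Finite G] [IsSimpleGroup G]
    (hcard : Nat.card G = 126000)
    (P : Sylow 5 G)
    (hN : Nat.card (normalizer ((P : Subgroup G) : Set G)) = 1000)
    (hTI : ∀ g : G, (∃ x : G, x ≠ 1 ∧ x ∈ (P : Subgroup G) ∧ g * x * g⁻¹ ∈ (P : Subgroup G)) →
      g ∈ normalizer ((P : Subgroup G) : Set G))
    (s : G) (hs : orderOf s = 7)
    (hCs : ∀ g : G, g * s = s * g → g ∈ zpowers s)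
    (hinv : ∀ g : G, g * s * g⁻¹ ≠ s⁻¹) :
    ∀ H : Subgroup G, H ≠ ⊤ → 50 ≤ H.index := by
  intro H hH
  by_contra hlt
  push Not at hlt
  have hTIP : TIProp P := ⟨hN, hTI⟩
  have hkn : H.index * Nat.card H = 126000 := by
    rw [mul_comm, Subgroup.card_mul_index, hcard]
  have hfact : 126000 ∣ H.index.factorial := by
    rw [← hcard]; exact card_dvd_index_factorial H hH
  have h5 : 5 ∣ Nat.card H := by
    by_contra h5
    have hcop : Nat.Coprime (5 ^ 3) (Nat.card H) :=
      Nat.Coprime.pow_left 3 ((Nat.Prime.coprime_iff_not_dvd (by norm_num)).mpr h5)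
    have hdvd : 5 ^ 3 ∣ H.index * Nat.card H := by rw [hkn]; norm_num
    have h125 : 5 ^ 3 ∣ H.index := hcop.dvd_of_dvd_mul_right hdvd
    have hpos : 0 < H.index := by
      rcases Nat.eq_zero_or_pos H.index with h0 | h0
      · rw [h0, zero_mul] at hkn; omega
      · exact h0
    have := Nat.le_of_dvd hpos h125
    omega
  obtain ⟨a, d, ha1, hd, hm, hmax, hcong⟩ := five_part H hTIP h5
  exact arith_false H.index (Nat.card H) a d hkn hlt hfact ha1 hd hm hmax hcong
    (fun h7 => seven_part hcard s hs hCs hinv H h7)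

end Cfsg.Agent.Lib.Helper27.U35
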