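import Cfsg.Agent.Lib.Helper27.UTPPGRPcore
import Cfsg.Agent.Lib.Helper22.UTPC1G
import Cfsg.Agent.Lib.Helper19.UTPSTAB

/-!
# Project UTP, piece PGRP: verbatim `pgroup_le_u` (= `utppgrp_core` + `sqzero_kron_gen` + `stab_u`).
-/

set_option autoImplicit false

namespace Cfsg.Agent.Lib.helper6.UTP

open Matrix
open scoped Kronecker
open Cfsg.Agent.Lib.helper7.TP

variable {F : Type*} [Field F] {a b : ℕ}

theorem pgroup_le_u [Fintype F] (p : ℕ) [Fact p.Prime] [CharP F p] (σ : F ≃+* F) (hσ : Inv2 σ)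
    (ha : 1 ≤ a) (hb : 3 ≤ b) (hdiv : ¬ b ∣ a)
    (M : Subgroup (Matrix.GeneralLinearGroup (Fin a × Fin b) F)) (hTM : T0u σ a b ≤ M)
    (hMS : M ≤ SUm σ (Fin a × Fin b)) (hNT : NTu σ M)
    (Q : Subgroup (Matrix.GeneralLinearGroup (Fin a × Fin b) F)) (hQM : Q ≤ M) (hQ : IsPGroup p Q)
    (c : F) (hc : σ c = -c) (hc0 : c ≠ 0) (w : Fin b → F) (hw : w ≠ 0) (h : cj σ w ⬝ᵥ w = 0)
    (hx : EL (c • (1 : Matrix (Fin a) (Fin a) F)) w (cj σ w) h ∈ Q) : Q ≤ K0 a b F :=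
  utppgrp_core p σ hσ ha hb hdiv M hTM hMS hNT
    (fun t ht hsq hrk => sqzero_kron_gen ha hb hdiv t ht hsq hrk)
    (fun w w' hw hw' h g hg hl => stab_u σ hσ ha hb M hTM hMS hNT w w' hw hw' h g hg hl)
    Q hQM hQ c hc hc0 w hw h hx

end Cfsg.Agent.Lib.helper6.UTP
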