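import Cfsg.Agent.Lib.helper6.UTP.Defs
import Cfsg.Agent.Lib.Helper28.UGen
import Cfsg.Agent.Lib.Helper27.UTPTRANS

/-!
# Project UTP (S5670, leader helper6), piece SUGEN (helper27): `su_le_of_alltv`

All unitary transvections generate `SU`: reindex along `finProdFinEquiv : Fin a × Fin b ≃ Fin (a * b)` and use
`Helper28.UGen.gen` for the standard form `hf σ` on `Fin (a * b)`.
-/

set_option autoImplicit false
set_option linter.unusedVariables false
set_option linter.unusedSectionVars false

namespace Cfsg.Agent.Lib.helper6.UTP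

open Matrix
open scoped Kronecker
open Cfsg.Agent.Lib.helper7.TP

variable {F : Type*} [Field F] {a b : ℕ}

/-- reindexing and `mulVec` -/
theorem utpsugen_mulVec {κ ι : Type} [Fintype κ] [DecidableEq κ] [Fintype ι] [DecidableEq ι] (e : κ ≃ ι)
    (g : Matrix.GeneralLinearGroup κ F) (v : κ → F) :
    ((Cfsg.Geo.glReindex e g : Matrix.GeneralLinearGroup ι F) : Matrix ι ι F) *ᵥ (v ∘ e.symm) =
      ((g : Matrix κ κ F) *ᵥ v) ∘ e.symm := by
  have h : ((Cfsg.Geo.glReindex e g : Matrix.GeneralLinearGroup ι F) : Matrix ι ι F) =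
      (g : Matrix κ κ F).submatrix e.symm e.symm := rfl
  rw [h, Matrix.submatrix_mulVec_equiv]
  congr 2
  funext i
  simp

/-- reindexing and the standard hermitian form -/
theorem utpsugen_hf (σ : F ≃+* F) {κ ι : Type} [Fintype κ] [Fintype ι] (e : κ ≃ ι) (x y : κ → F) :
    hf σ (x ∘ e.symm) (y ∘ e.symm) = hf σ x y := by
  simp only [hf, dotProduct, cj, Function.comp_apply]
  exact Equiv.sum_comp e.symm (fun j => x j * σ (y j))

/-- reindexing and the determinant -/
theorem utpsugen_det {κ ι : Type} [Fintype κ] [DecidableEq κ] [Fintype ι] [DecidableEq ι] (e : κ ≃ ι)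
    (g : Matrix.GeneralLinearGroup κ F) :
    ((Cfsg.Geo.glReindex e g : Matrix.GeneralLinearGroup ι F) : Matrix ι ι F).det = (g : Matrix κ κ F).det := by
  have h : ((Cfsg.Geo.glReindex e g : Matrix.GeneralLinearGroup ι F) : Matrix ι ι F) =
      Matrix.reindex e e (g : Matrix κ κ F) := rfl
  rw [h, Matrix.det_reindex_self]

/-- SUGEN [M] all transvections generate: `AllTv σ M → SU ≤ M`  (`n = a b ≥ 7`). -/
theorem su_le_of_alltv [Finite F] (σ : F ≃+* F) (hσ : Inv2 σ) (hn : 7 ≤ a * b)
    (M : Subgroup (Matrix.GeneralLinearGroup (Fin a × Fin b) F)) (h : AllTv σ M) :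
    SUm σ (Fin a × Fin b) ≤ M := by
  classical
  intro g hg
  set e : Fin a × Fin b ≃ Fin (a * b) := finProdFinEquiv with he
  set φ : Matrix.GeneralLinearGroup (Fin a × Fin b) F ≃* Matrix.GeneralLinearGroup (Fin (a * b)) F :=
    Cfsg.Geo.glReindex e with hφ
  have hU := utptrans_unitary σ hσ (a * b)
  -- every vector on `Fin (a * b)` is a reindexed one
  have hsurj : ∀ x' : Fin (a * b) → F, x' = (x' ∘ e) ∘ e.symm := by
    intro x'
    funext i
    simp
  -- `φ g` is an isometry of determinant one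
  have hiso : ∀ x y, hf σ (((φ g : Matrix.GeneralLinearGroup (Fin (a * b)) F) : Matrix (Fin (a * b)) (Fin (a * b)) F) *ᵥ x)
      (((φ g : Matrix.GeneralLinearGroup (Fin (a * b)) F) : Matrix (Fin (a * b)) (Fin (a * b)) F) *ᵥ y) = hf σ x y := by
    intro x y
    rw [hsurj x, hsurj y, utpsugen_mulVec, utpsugen_mulVec, utpsugen_hf, utpsugen_hf]
    exact hg.1 _ _
  have hSL : φ g ∈ Cfsg.Geo.specialLinear (Fin (a * b)) F := by
    have h1 : Matrix.GeneralLinearGroup.det g = 1 := MonoidHom.mem_ker.mp hg.2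
    have h2 := congrArg (fun u : Fˣ => (u : F)) h1
    simp only [Matrix.GeneralLinearGroup.val_det_apply, Units.val_one] at h2
    show φ g ∈ (Matrix.GeneralLinearGroup.det : Matrix.GeneralLinearGroup (Fin (a * b)) F →* Fˣ).ker
    rw [MonoidHom.mem_ker]
    apply Units.ext
    simp only [Matrix.GeneralLinearGroup.val_det_apply, Units.val_one]
    rw [hφ, utpsugen_det]
    exact h2
  have hgen := Cfsg.Agent.Lib.Helper28.UGen.gen hU (Or.inr hn) (φ g) hiso hSL
  -- pull the generators back
  have hle : Subgroup.closure (Cfsg.Agent.Lib.Helper28.UGen.UT (hf σ : (Fin (a * b) → F) → (Fin (a * b) → F) → F) σ) ≤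
      M.comap φ.symm.toMonoidHom := by
    rw [Subgroup.closure_le]
    rintro t' ⟨y', c, hy', hc, ht'⟩
    show φ.symm t' ∈ M
    have hy : hf σ (y' ∘ e) (y' ∘ e) = 0 := by
      rw [← utpsugen_hf σ e, ← hsurj y']
      exact hy'
    refine (h (y' ∘ e) hy).2 c hc (φ.symm t') ?_
    intro x
    have h1 := utpsugen_mulVec e (φ.symm t') x
    have h2 : Cfsg.Geo.glReindex e (φ.symm t') = t' := φ.apply_symm_apply t'
    rw [h2, ht'] at h1
    have h3 : hf σ (x ∘ e.symm) (c • y') = hf σ x (c • (y' ∘ e)) := by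
      rw [← utpsugen_hf σ e x (c • (y' ∘ e))]
      congr 1
      funext i
      simp
    rw [h3] at h1
    funext p
    have h4 := congrFun h1 (e p)
    simp only [Function.comp_apply, Equiv.symm_apply_apply, Pi.add_apply, Pi.smul_apply] at h4
    rw [← h4]
    simp
  have := hle hgen
  have h5 : φ.symm (φ g) ∈ M := this
  rwa [φ.symm_apply_apply] at h5

end Cfsg.Agent.Lib.helper6.UTP
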