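import Mathlib
import Cfsg.Agent.Lib.Lead.SLn

set_option autoImplicit false

/-! The upper unitriangular subgroup and the upper triangular subgroup of `SL_n(K)` over a finite
field: basic facts. -/

namespace Cfsg.Agent.Lib.Helper27.UniTri

open Matrix

/-- a subset of a finite group containing `1` and closed under products is a subgroup -/
def subgroupOfClosed {G : Type*} [Group G] [Finite G] (s : Set G) (h1 : (1 : G) ∈ s)
    (hmul : ∀ a b, a ∈ s → b ∈ s → a * b ∈ s) : Subgroup G where
  carrier := s
  mul_mem' := fun ha hb => hmul _ _ ha hb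
  one_mem' := h1
  inv_mem' := by
    intro a ha
    have hpow : ∀ k : ℕ, a ^ k ∈ s := by
      intro k
      induction k with
      | zero => rw [pow_zero]; exact h1
      | succ k ih => rw [pow_succ]; exact hmul _ _ ih ha
    have hainv : a⁻¹ = a ^ (orderOf a - 1) := by
      symm
      apply eq_inv_of_mul_eq_one_left
      rw [← pow_succ, Nat.sub_add_cancel (orderOf_pos a)]
      exact pow_orderOf_eq_one a
    rw [hainv]
    exact hpow _

theorem mem_subgroupOfClosed {G : Type*} [Group G] [Finite G] (s : Set G) (h1 : (1 : G) ∈ s)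
    (hmul : ∀ a b, a ∈ s → b ∈ s → a * b ∈ s) (x : G) :
    x ∈ subgroupOfClosed s h1 hmul ↔ x ∈ s := Iff.rfl

variable {n : ℕ} {K : Type*} [Field K]

theorem ut_mul_diag {M N : Matrix (Fin n) (Fin n) K} (hM : M.BlockTriangular id)
    (hN : N.BlockTriangular id) (i : Fin n) : (M * N) i i = M i i * N i i := by
  rw [Matrix.mul_apply, Finset.sum_eq_single i]
  · intro k _ hk
    rcases lt_or_gt_of_ne hk with h | h
    · rw [hM h, zero_mul]
    · rw [hN h, mul_zero]
  · simp

variable [Fintype K]

/-- the upper triangular matrices of determinant one -/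
def borel (n : ℕ) (K : Type*) [Field K] [Fintype K] : Subgroup (SpecialLinearGroup (Fin n) K) :=
  subgroupOfClosed {g | (g : Matrix (Fin n) (Fin n) K).BlockTriangular id}
    (by show (1 : Matrix (Fin n) (Fin n) K).BlockTriangular id; exact blockTriangular_one)
    (fun a b ha hb => by
      show ((a : Matrix (Fin n) (Fin n) K) * (b : Matrix (Fin n) (Fin n) K)).BlockTriangular id
      exact BlockTriangular.mul ha hb)

theorem mem_borel {g : SpecialLinearGroup (Fin n) K} :
    g ∈ borel n K ↔ (g : Matrix (Fin n) (Fin n) K).BlockTriangular id := Iff.rfl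

/-- the upper unitriangular matrices -/
def uni (n : ℕ) (K : Type*) [Field K] [Fintype K] : Subgroup (SpecialLinearGroup (Fin n) K) :=
  subgroupOfClosed {g | (g : Matrix (Fin n) (Fin n) K).BlockTriangular id ∧
      ∀ i, (g : Matrix (Fin n) (Fin n) K) i i = 1}
    (by
      refine ⟨blockTriangular_one, fun i => ?_⟩
      simp)
    (fun a b ha hb => by
      refine ⟨?_, fun i => ?_⟩
      · show ((a : Matrix (Fin n) (Fin n) K) * (b : Matrix (Fin n) (Fin n) K)).BlockTriangular id
        exact BlockTriangular.mul ha.1 hb.1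
      · show ((a : Matrix (Fin n) (Fin n) K) * (b : Matrix (Fin n) (Fin n) K)) i i = 1
        rw [ut_mul_diag ha.1 hb.1, ha.2, hb.2, one_mul])

theorem mem_uni {g : SpecialLinearGroup (Fin n) K} :
    g ∈ uni n K ↔ (g : Matrix (Fin n) (Fin n) K).BlockTriangular id ∧
      ∀ i, (g : Matrix (Fin n) (Fin n) K) i i = 1 := Iff.rfl

theorem uni_le_borel : uni n K ≤ borel n K := fun _ hg => hg.1

theorem transvection_mem_uni {i j : Fin n} (hij : i < j) (c : K) :
    SpecialLinearGroup.transvection (ne_of_lt hij) c ∈ uni n K := by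
  refine ⟨blockTriangular_transvection (b := id) (le_of_lt hij) c, fun a => ?_⟩
  rw [SpecialLinearGroup.transvection_coe, Matrix.add_apply, Matrix.one_apply_eq,
    Matrix.single_apply]
  rw [if_neg, add_zero]
  rintro ⟨h1, h2⟩
  exact (ne_of_lt hij) (h1.trans h2.symm)

theorem borel_diag_ne_zero {g : SpecialLinearGroup (Fin n) K} (hg : g ∈ borel n K) (i : Fin n) :
    (g : Matrix (Fin n) (Fin n) K) i i ≠ 0 := by
  have h1 : (g : Matrix (Fin n) (Fin n) K).det = ∏ i, (g : Matrix (Fin n) (Fin n) K) i i :=
    det_of_isUpperTriangular hg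
  rw [g.2] at h1
  intro h0
  have : ∏ i, (g : Matrix (Fin n) (Fin n) K) i i = 0 :=
    Finset.prod_eq_zero (Finset.mem_univ i) h0
  rw [this] at h1
  exact one_ne_zero h1

/-- the upper triangular subgroup normalizes the unitriangular subgroup -/
theorem borel_conj_mem_uni {b u : SpecialLinearGroup (Fin n) K} (hb : b ∈ borel n K)
    (hu : u ∈ uni n K) : b * u * b⁻¹ ∈ uni n K := by
  have hb' : b⁻¹ ∈ borel n K := Subgroup.inv_mem _ hb
  have h1 : b * u * b⁻¹ ∈ borel n K :=
    Subgroup.mul_mem _ (Subgroup.mul_mem _ hb (uni_le_borel hu)) hb'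
  refine ⟨h1, fun i => ?_⟩
  have h2 : ((b * u * b⁻¹ : SpecialLinearGroup (Fin n) K) : Matrix (Fin n) (Fin n) K) =
      (b : Matrix (Fin n) (Fin n) K) * (u : Matrix (Fin n) (Fin n) K) *
        ((b⁻¹ : SpecialLinearGroup (Fin n) K) : Matrix (Fin n) (Fin n) K) := rfl
  have h3 : ((b : Matrix (Fin n) (Fin n) K) * (u : Matrix (Fin n) (Fin n) K)).BlockTriangular id :=
    BlockTriangular.mul hb hu.1
  have h4 : (b : Matrix (Fin n) (Fin n) K) *
      ((b⁻¹ : SpecialLinearGroup (Fin n) K) : Matrix (Fin n) (Fin n) K) = 1 := by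
    have : ((b * b⁻¹ : SpecialLinearGroup (Fin n) K) : Matrix (Fin n) (Fin n) K) = 1 := by
      rw [mul_inv_cancel]; rfl
    exact this
  rw [h2, ut_mul_diag h3 hb', ut_mul_diag hb hu.1, hu.2, mul_one, ← ut_mul_diag hb hb', h4]
  simp

theorem borel_le_normalizer_uni :
    borel n K ≤ Subgroup.normalizer ((uni n K : Subgroup (SpecialLinearGroup (Fin n) K)) : Set _) := by
  intro b hb
  rw [Subgroup.mem_normalizer_iff]
  intro u
  constructor
  · intro hu
    exact borel_conj_mem_uni hb hu
  · intro hu
    have := borel_conj_mem_uni (Subgroup.inv_mem _ hb) hu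
    have e : b⁻¹ * (b * u * b⁻¹) * b⁻¹⁻¹ = u := by group
    rwa [e] at this

/-- the normalizer of the unitriangular subgroup consists of upper triangular matrices -/
theorem normalizer_uni_le_borel :
    Subgroup.normalizer ((uni n K : Subgroup (SpecialLinearGroup (Fin n) K)) : Set _) ≤ borel n K := by
  intro g hg
  have hginv : g⁻¹ ∈ Subgroup.normalizer ((uni n K : Subgroup (SpecialLinearGroup (Fin n) K)) : Set _) :=
    Subgroup.inv_mem _ hg
  -- strong induction on the column index
  have key : ∀ m : ℕ, ∀ k : Fin n, (k : ℕ) = m → ∀ j : Fin n, k < j →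
      (g : Matrix (Fin n) (Fin n) K) j k = 0 := by
    intro m
    induction m using Nat.strong_induction_on with
    | _ m ih =>
      intro k hk j hkj
      have hu : SpecialLinearGroup.transvection (ne_of_lt hkj) (1 : K) ∈ uni n K :=
        transvection_mem_uni hkj 1
      have hu' : g⁻¹ * SpecialLinearGroup.transvection (ne_of_lt hkj) (1 : K) * g⁻¹⁻¹ ∈ uni n K :=
        (Subgroup.mem_normalizer_iff.mp hginv _).mp hu
      set u' := g⁻¹ * SpecialLinearGroup.transvection (ne_of_lt hkj) (1 : K) * g⁻¹⁻¹ with hu'def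
      have heq : g * u' = SpecialLinearGroup.transvection (ne_of_lt hkj) (1 : K) * g := by
        rw [hu'def]; group
      have h1 := congrArg (fun x : SpecialLinearGroup (Fin n) K =>
        (x : Matrix (Fin n) (Fin n) K) k k) heq
      replace h1 : ((g : Matrix (Fin n) (Fin n) K) * (u' : Matrix (Fin n) (Fin n) K)) k k =
          (((SpecialLinearGroup.transvection (ne_of_lt hkj) (1 : K) :
          SpecialLinearGroup (Fin n) K) : Matrix (Fin n) (Fin n) K) *
          (g : Matrix (Fin n) (Fin n) K)) k k := h1
      -- left side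
      have hl : ((g : Matrix (Fin n) (Fin n) K) * (u' : Matrix (Fin n) (Fin n) K)) k k =
          (g : Matrix (Fin n) (Fin n) K) k k := by
        rw [Matrix.mul_apply, Finset.sum_eq_single k]
        · rw [hu'.2, mul_one]
        · intro x _ hx
          rcases lt_or_gt_of_ne hx with h | h
          · rw [ih (x : ℕ) (by rw [← hk]; exact h) x rfl k h, zero_mul]
          · rw [hu'.1 h, mul_zero]
        · simp
      have hr : ((SpecialLinearGroup.transvection (ne_of_lt hkj) (1 : K) :
          SpecialLinearGroup (Fin n) K) : Matrix (Fin n) (Fin n) K) *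
          (g : Matrix (Fin n) (Fin n) K) = (g : Matrix (Fin n) (Fin n) K) +
          Matrix.single k j (1 : K) * (g : Matrix (Fin n) (Fin n) K) := by
        rw [SpecialLinearGroup.transvection_coe, add_mul, one_mul]
      rw [hl, hr, Matrix.add_apply, Matrix.single_mul_apply_same, one_mul] at h1
      have : (g : Matrix (Fin n) (Fin n) K) j k = 0 := by
        have := h1
        linear_combination -this
      exact this
  intro i j hji
  exact key (j : ℕ) j rfl i hji

end Cfsg.Agent.Lib.Helper27.UniTri
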