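import Mathlib
import Cfsg.Agent.Lib.Helper27.UniTriA
import Cfsg.Agent.S0265

set_option autoImplicit false

/-! The upper unitriangular subgroup of `SL_n(K)` is a Sylow `p`-subgroup. -/

namespace Cfsg.Agent.Lib.Helper27.UniTri

open Matrix

theorem card_pairs (n : ℕ) : Nat.card {p : Fin n × Fin n // p.1 < p.2} = n * (n - 1) / 2 := by
  have e : {p : Fin n × Fin n // p.1 < p.2} ≃ Σ b : Fin n, Fin (b : ℕ) :=
    { toFun := fun p => ⟨p.1.2, ⟨p.1.1, p.2⟩⟩
      invFun := fun s => ⟨(⟨s.2, lt_trans s.2.2 s.1.2⟩, s.1), s.2.2⟩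
      left_inv := fun p => rfl
      right_inv := fun s => rfl }
  rw [Nat.card_congr e, Nat.card_eq_fintype_card, Fintype.card_sigma]
  simp only [Fintype.card_fin]
  rw [Fin.sum_univ_eq_sum_range (fun i => i) n, Finset.sum_range_id]

variable {n : ℕ} {K : Type*} [Field K] [Fintype K]

/-- the unitriangular matrix with given entries above the diagonal -/
def uniOfFun (f : {p : Fin n × Fin n // p.1 < p.2} → K) : Matrix (Fin n) (Fin n) K :=
  Matrix.of fun a b => if a = b then 1 else if h : a < b then f ⟨(a, b), h⟩ else 0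

theorem uniOfFun_ut (f : {p : Fin n × Fin n // p.1 < p.2} → K) :
    (uniOfFun f).BlockTriangular id := by
  intro a b hba
  have hba' : b < a := hba
  simp only [uniOfFun, Matrix.of_apply]
  rw [if_neg (ne_of_gt hba'), dif_neg (not_lt_of_gt hba')]

theorem uniOfFun_diag (f : {p : Fin n × Fin n // p.1 < p.2} → K) (a : Fin n) :
    uniOfFun f a a = 1 := by
  simp [uniOfFun]

theorem uniOfFun_det (f : {p : Fin n × Fin n // p.1 < p.2} → K) : (uniOfFun f).det = 1 := by
  rw [det_of_isUpperTriangular (uniOfFun_ut f)]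
  simp [uniOfFun_diag]

/-- the unitriangular group is in bijection with the functions on pairs `i < j` -/
def uniEquiv : ↥(uni n K) ≃ ({p : Fin n × Fin n // p.1 < p.2} → K) where
  toFun u := fun p => ((u : SpecialLinearGroup (Fin n) K) : Matrix (Fin n) (Fin n) K) p.1.1 p.1.2
  invFun f := ⟨(⟨uniOfFun f, uniOfFun_det f⟩ : SpecialLinearGroup (Fin n) K),
    (mem_uni (n := n) (K := K)).mpr ⟨uniOfFun_ut f, uniOfFun_diag f⟩⟩
  left_inv u := by
    apply Subtype.ext
    apply Subtype.ext
    ext a b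
    show uniOfFun (K := K) (fun p : {p : Fin n × Fin n // p.1 < p.2} =>
      ((u : SpecialLinearGroup (Fin n) K) : Matrix (Fin n) (Fin n) K) p.1.1 p.1.2) a b =
      ((u : SpecialLinearGroup (Fin n) K) : Matrix (Fin n) (Fin n) K) a b
    simp only [uniOfFun, Matrix.of_apply]
    by_cases hab : a = b
    · rw [if_pos hab, hab]
      exact (u.2.2 b).symm
    · rw [if_neg hab]
      by_cases hlt : a < b
      · rw [dif_pos hlt]
      · rw [dif_neg hlt]
        have : b < a := lt_of_le_of_ne (not_lt.mp hlt) (Ne.symm hab)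
        exact (u.2.1 this).symm
  right_inv f := by
    funext p
    show uniOfFun f p.1.1 p.1.2 = f p
    simp only [uniOfFun, Matrix.of_apply]
    rw [if_neg (ne_of_lt p.2), dif_pos p.2]

theorem card_uni : Nat.card ↥(uni n K) = Fintype.card K ^ (n * (n - 1) / 2) := by
  rw [Nat.card_congr uniEquiv, Nat.card_fun, card_pairs, Nat.card_eq_fintype_card]

theorem char_dvd_card' (p : ℕ) [Fact p.Prime] [CharP K p] : p ∣ Fintype.card K := by
  have h : ((Fintype.card K : ℕ) : K) = 0 := Nat.cast_card_eq_zero K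
  exact (CharP.cast_eq_zero_iff K p _).mp h

theorem card_GL_ppart' (p : ℕ) [Fact p.Prime] [CharP K p] (n : ℕ) :
    ∃ m : ℕ, Nat.card (GL (Fin n) K) = Fintype.card K ^ (n * (n - 1) / 2) * m ∧ ¬ p ∣ m := by
  have hp : p.Prime := Fact.out
  have hpq := char_dvd_card' (K := K) p
  set q := Fintype.card K with hq
  have hq1 : 1 ≤ q := Fintype.card_pos
  refine ⟨∏ i : Fin n, (q ^ (n - i.val) - 1), ?_, ?_⟩
  · rw [Matrix.card_GL_field]
    have h1 : ∀ i : Fin n, q ^ n - q ^ (i : ℕ) = q ^ (i : ℕ) * (q ^ (n - i.val) - 1) := by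
      intro i
      have hi : i.val ≤ n := i.2.le
      have : q ^ n = q ^ (i : ℕ) * q ^ (n - i.val) := by
        rw [← pow_add]
        congr 1
        omega
      rw [this, Nat.mul_sub, mul_one]
    rw [Finset.prod_congr rfl (fun i _ => h1 i), Finset.prod_mul_distrib, Finset.prod_pow_eq_pow_sum]
    congr 2
    rw [Fin.sum_univ_eq_sum_range (fun i => i) n, Finset.sum_range_id]
  · intro hdvd
    rw [Prime.dvd_finsetProd_iff hp.prime] at hdvd
    obtain ⟨i, _, hi⟩ := hdvd
    have hpos : 1 ≤ n - i.val := by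
      have := i.2
      omega
    have h2 : p ∣ q ^ (n - i.val) := dvd_trans hpq (dvd_pow_self q (by omega))
    have h3 : 1 ≤ q ^ (n - i.val) := Nat.one_le_pow _ _ hq1
    have h4 : p ∣ 1 := by
      have := Nat.dvd_sub h2 hi
      rwa [Nat.sub_sub_self h3] at this
    exact hp.one_lt.ne' (Nat.dvd_one.mp h4)

/-- the order of the unitriangular group is the `p`-part of the order of `SL_n(K)` -/
theorem card_uni_eq_ppart (p : ℕ) [Fact p.Prime] [CharP K p] (hn : 1 ≤ n) :
    Nat.card ↥(uni n K) = p ^ (Nat.card (SpecialLinearGroup (Fin n) K)).factorization p := by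
  have hp : p.Prime := Fact.out
  obtain ⟨m, hm, hpm⟩ := card_GL_ppart' (K := K) p n
  have h1 := Cfsg.Agent.S0265.card_GL_eq (F := K) n hn
  rw [hm] at h1
  obtain ⟨f, hf⟩ : ∃ f : ℕ, Fintype.card K = p ^ f := by
    obtain ⟨k, _, hk⟩ := FiniteField.card K p
    exact ⟨k, hk⟩
  have hSL0 : Nat.card (SpecialLinearGroup (Fin n) K) ≠ 0 := Nat.card_pos.ne'
  have hU0 : Nat.card Kˣ ≠ 0 := Nat.card_pos.ne'
  have hm0 : m ≠ 0 := fun h0 => hpm (h0 ▸ dvd_zero p)
  have hq0 : Fintype.card K ^ (n * (n - 1) / 2) ≠ 0 := pow_ne_zero _ Fintype.card_pos.ne'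
  have hpU : ¬ p ∣ Nat.card Kˣ := by
    rw [Nat.card_units, Nat.card_eq_fintype_card]
    intro hdvd
    have hpq := char_dvd_card' (K := K) p
    have h3 : 1 ≤ Fintype.card K := Fintype.card_pos
    have h4 : p ∣ 1 := by
      have := Nat.dvd_sub hpq hdvd
      rwa [Nat.sub_sub_self h3] at this
    exact hp.one_lt.ne' (Nat.dvd_one.mp h4)
  have h2 := congrArg (fun x => x.factorization p) h1
  rw [Nat.factorization_mul hq0 hm0, Nat.factorization_mul hSL0 hU0] at h2
  simp only [Finsupp.coe_add, Pi.add_apply] at h2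
  rw [Nat.factorization_eq_zero_of_not_dvd hpm, Nat.factorization_eq_zero_of_not_dvd hpU,
    add_zero, add_zero] at h2
  rw [card_uni, ← h2, hf, ← pow_mul, hp.factorization_pow]
  simp

/-- the unitriangular subgroup as a Sylow subgroup -/
noncomputable def uniSylow (p : ℕ) [Fact p.Prime] [CharP K p] (hn : 1 ≤ n) :
    Sylow p (SpecialLinearGroup (Fin n) K) :=
  Sylow.ofCard (uni n K) (card_uni_eq_ppart p hn)

theorem coe_uniSylow (p : ℕ) [Fact p.Prime] [CharP K p] (hn : 1 ≤ n) :
    ((uniSylow (K := K) p hn : Sylow p (SpecialLinearGroup (Fin n) K)) :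
      Subgroup (SpecialLinearGroup (Fin n) K)) = uni n K := rfl

end Cfsg.Agent.Lib.Helper27.UniTri
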