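import Mathlib
import Cfsg.Agent.Lib.Helper27.UniTriB
import Cfsg.Agent.Lib.Helper1.Nilp

set_option autoImplicit false

/-! Generation of the unitriangular subgroup by root elements, its centre, and the subgroups
closed under fusion in `SL_n(K)`. -/

namespace Cfsg.Agent.Lib.Helper27.UniTri

open Matrix
open scoped commutatorElement

variable {n : ℕ} {K : Type*} [Field K] [Fintype K]

/-- the positive root elements -/
def rootSet (n : ℕ) (K : Type*) [Field K] : Set (SpecialLinearGroup (Fin n) K) :=
  {g | ∃ (i j : Fin n) (h : i < j) (c : K), g = SpecialLinearGroup.transvection (ne_of_lt h) c}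

theorem transvection_mem_rootSet {i j : Fin n} (h : i < j) (c : K) :
    SpecialLinearGroup.transvection (ne_of_lt h) c ∈ rootSet n K := ⟨i, j, h, c, rfl⟩

/-- the number of nonzero entries above the diagonal -/
noncomputable def cnt (u : SpecialLinearGroup (Fin n) K) : ℕ := by
  classical
  exact (Finset.univ.filter (fun p : Fin n × Fin n =>
    p.1 < p.2 ∧ (u : Matrix (Fin n) (Fin n) K) p.1 p.2 ≠ 0)).card

theorem mul_transvection_apply (u : SpecialLinearGroup (Fin n) K) {a b : Fin n} (hab : a ≠ b)
    (c : K) (x y : Fin n) :
    ((u * SpecialLinearGroup.transvection hab c : SpecialLinearGroup (Fin n) K) :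
      Matrix (Fin n) (Fin n) K) x y =
    (u : Matrix (Fin n) (Fin n) K) x y + if y = b then (u : Matrix (Fin n) (Fin n) K) x a * c else 0 := by
  show ((u : Matrix (Fin n) (Fin n) K) * ((SpecialLinearGroup.transvection hab c :
    SpecialLinearGroup (Fin n) K) : Matrix (Fin n) (Fin n) K)) x y = _
  rw [SpecialLinearGroup.transvection_coe, mul_add, mul_one, Matrix.add_apply]
  congr 1
  by_cases hy : y = b
  · rw [if_pos hy, hy, Matrix.mul_single_apply_same]
  · rw [if_neg hy, Matrix.mul_single_apply_of_ne _ _ _ _ _ hy]

theorem transvection_mul_apply (u : SpecialLinearGroup (Fin n) K) {a b : Fin n} (hab : a ≠ b)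
    (c : K) (x y : Fin n) :
    ((SpecialLinearGroup.transvection hab c * u : SpecialLinearGroup (Fin n) K) :
      Matrix (Fin n) (Fin n) K) x y =
    (u : Matrix (Fin n) (Fin n) K) x y + if x = a then c * (u : Matrix (Fin n) (Fin n) K) b y else 0 := by
  show (((SpecialLinearGroup.transvection hab c :
    SpecialLinearGroup (Fin n) K) : Matrix (Fin n) (Fin n) K) * (u : Matrix (Fin n) (Fin n) K)) x y = _
  rw [SpecialLinearGroup.transvection_coe, add_mul, one_mul, Matrix.add_apply]
  congr 1
  by_cases hx : x = a
  · rw [if_pos hx, hx, Matrix.single_mul_apply_same]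
  · rw [if_neg hx, Matrix.single_mul_apply_of_ne _ _ _ _ _ hx]

theorem uni_le_closure_rootSet : uni n K ≤ Subgroup.closure (rootSet n K) := by
  classical
  have key : ∀ m : ℕ, ∀ u : SpecialLinearGroup (Fin n) K, u ∈ uni n K → cnt u = m →
      u ∈ Subgroup.closure (rootSet n K) := by
    intro m
    induction m with
    | zero =>
      intro u hu hcnt
      have hempty : ∀ p : Fin n × Fin n, p.1 < p.2 →
          (u : Matrix (Fin n) (Fin n) K) p.1 p.2 = 0 := by
        intro p hp
        by_contra hne
        have : p ∈ Finset.univ.filter (fun p : Fin n × Fin n =>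
            p.1 < p.2 ∧ (u : Matrix (Fin n) (Fin n) K) p.1 p.2 ≠ 0) := by
          simp [hp, hne]
        have h0 : (Finset.univ.filter (fun p : Fin n × Fin n =>
            p.1 < p.2 ∧ (u : Matrix (Fin n) (Fin n) K) p.1 p.2 ≠ 0)).card = 0 := by
          simpa [cnt] using hcnt
        rw [Finset.card_eq_zero] at h0
        rw [h0] at this
        exact absurd this (Finset.notMem_empty _)
      have : u = 1 := by
        apply Subtype.ext
        ext a b
        show (u : Matrix (Fin n) (Fin n) K) a b = (1 : Matrix (Fin n) (Fin n) K) a b
        rcases lt_trichotomy a b with h | h | h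
        · rw [hempty (a, b) h, Matrix.one_apply_ne (ne_of_lt h)]
        · rw [h, hu.2 b, Matrix.one_apply_eq]
        · rw [hu.1 h, Matrix.one_apply_ne (ne_of_gt h)]
      rw [this]
      exact Subgroup.one_mem _
    | succ m ih =>
      intro u hu hcnt
      set s := Finset.univ.filter (fun p : Fin n × Fin n =>
            p.1 < p.2 ∧ (u : Matrix (Fin n) (Fin n) K) p.1 p.2 ≠ 0) with hs
      have hscard : s.card = m + 1 := by simpa [cnt] using hcnt
      have hsne : s.Nonempty := by
        rw [← Finset.card_pos, hscard]
        exact Nat.succ_pos _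
      obtain ⟨p₀, hp₀, hmin⟩ := Finset.exists_min_image s (fun p => p.1) hsne
      obtain ⟨a, b⟩ := p₀
      have hab : a < b := (Finset.mem_filter.mp hp₀).2.1
      have hne : (u : Matrix (Fin n) (Fin n) K) a b ≠ 0 := (Finset.mem_filter.mp hp₀).2.2
      -- the column `a` of `u` is standard
      have hcol : ∀ x : Fin n, x ≠ a → (u : Matrix (Fin n) (Fin n) K) x a = 0 := by
        intro x hx
        rcases lt_or_gt_of_ne hx with h | h
        · by_contra hne'
          have hmem : (x, a) ∈ s := by
            rw [hs, Finset.mem_filter]
            exact ⟨Finset.mem_univ _, h, hne'⟩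
          have := hmin (x, a) hmem
          exact absurd h (not_lt.mpr this)
        · exact hu.1 h
      set c := (u : Matrix (Fin n) (Fin n) K) a b with hc
      set u' := u * SpecialLinearGroup.transvection (ne_of_lt hab) (-c) with hu'
      have hentry : ∀ x y : Fin n, (u' : Matrix (Fin n) (Fin n) K) x y =
          if x = a ∧ y = b then 0 else (u : Matrix (Fin n) (Fin n) K) x y := by
        intro x y
        rw [hu', mul_transvection_apply]
        by_cases hy : y = b
        · rw [if_pos hy]
          by_cases hx : x = a
          · rw [if_pos ⟨hx, hy⟩, hx, hy, hu.2 a, ← hc]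
            ring
          · rw [if_neg (fun h => hx h.1), hcol x hx]
            ring
        · rw [if_neg hy, if_neg (fun h => hy h.2), add_zero]
      have hu'mem : u' ∈ uni n K :=
        Subgroup.mul_mem _ hu (transvection_mem_uni hab _)
      have hcnt' : cnt u' = m := by
        have hset : Finset.univ.filter (fun p : Fin n × Fin n =>
            p.1 < p.2 ∧ (u' : Matrix (Fin n) (Fin n) K) p.1 p.2 ≠ 0) = s.erase (a, b) := by
          ext p
          obtain ⟨x, y⟩ := p
          rw [Finset.mem_filter, Finset.mem_erase, hs, Finset.mem_filter, hentry]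
          by_cases hxy : x = a ∧ y = b
          · rw [if_pos hxy]
            simp [hxy.1, hxy.2]
          · rw [if_neg hxy]
            have : (x, y) ≠ (a, b) := by
              intro h
              apply hxy
              exact ⟨congrArg Prod.fst h, congrArg Prod.snd h⟩
            simp [this]
        unfold cnt
        rw [hset, Finset.card_erase_of_mem hp₀, hscard]
        rfl
      have h1 := ih u' hu'mem hcnt'
      have h2 : u = u' * SpecialLinearGroup.transvection (ne_of_lt hab) c := by
        rw [hu', mul_assoc, ← SpecialLinearGroup.transvection_add, neg_add_cancel,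
          SpecialLinearGroup.transvection_coeff_zero, mul_one]
      rw [h2]
      exact Subgroup.mul_mem _ h1 (Subgroup.subset_closure (transvection_mem_rootSet hab c))
  intro u hu
  exact key (cnt u) u hu rfl

theorem closure_rootSet_eq_uni : Subgroup.closure (rootSet n K) = uni n K := by
  apply le_antisymm _ uni_le_closure_rootSet
  rw [Subgroup.closure_le]
  rintro _ ⟨i, j, h, c, rfl⟩
  exact transvection_mem_uni h c

end Cfsg.Agent.Lib.Helper27.UniTri
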