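import Mathlib
import Cfsg.Agent.Lib.Helper27.UniTriC

set_option autoImplicit false

/-! The centre of the unitriangular subgroup and the subgroups of it closed under fusion in
`SL_n(K)`. -/

namespace Cfsg.Agent.Lib.Helper27.UniTri

open Matrix
open scoped commutatorElement

variable {n : ℕ} {K : Type*} [Field K] [Fintype K]

/-- an element commuting with the root element `(a, b)`: consequences for its entries -/
theorem entries_of_commute {z : SpecialLinearGroup (Fin n) K} {a b : Fin n} (hab : a ≠ b)
    (hz : (z : Matrix (Fin n) (Fin n) K) a a = (z : Matrix (Fin n) (Fin n) K) b b)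
    (hcomm : z * SpecialLinearGroup.transvection hab (1 : K) =
      SpecialLinearGroup.transvection hab (1 : K) * z) :
    (∀ x : Fin n, x ≠ a → (z : Matrix (Fin n) (Fin n) K) x a = 0) ∧
    (∀ y : Fin n, y ≠ b → (z : Matrix (Fin n) (Fin n) K) b y = 0) := by
  have h : ∀ x y : Fin n,
      (z : Matrix (Fin n) (Fin n) K) x y + (if y = b then (z : Matrix (Fin n) (Fin n) K) x a * 1 else 0) =
      (z : Matrix (Fin n) (Fin n) K) x y + (if x = a then 1 * (z : Matrix (Fin n) (Fin n) K) b y else 0) := by
    intro x y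
    rw [← mul_transvection_apply z hab, ← transvection_mul_apply z hab, hcomm]
  constructor
  · intro x hx
    have := h x b
    rw [if_pos rfl, if_neg hx, mul_one, add_zero] at this
    exact add_eq_left.mp this
  · intro y hy
    have := h a y
    rw [if_neg hy, if_pos rfl, one_mul, add_zero] at this
    exact (add_eq_left.mp this.symm)

/-- the centre of the unitriangular group consists of root elements for the highest root -/
theorem center_form {f l : Fin n} (hf : (f : ℕ) = 0) (hl : (l : ℕ) = n - 1) (hfl : f < l)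
    {z : SpecialLinearGroup (Fin n) K} (hz : z ∈ uni n K)
    (hcomm : ∀ (a b : Fin n) (h : a < b), z * SpecialLinearGroup.transvection (ne_of_lt h) (1 : K) =
      SpecialLinearGroup.transvection (ne_of_lt h) (1 : K) * z) :
    ∃ c : K, z = SpecialLinearGroup.transvection (ne_of_lt hfl) c := by
  refine ⟨(z : Matrix (Fin n) (Fin n) K) f l, ?_⟩
  have hoff : ∀ x y : Fin n, x ≠ y → ¬ (x = f ∧ y = l) →
      (z : Matrix (Fin n) (Fin n) K) x y = 0 := by
    intro x y hxy hcorner
    rcases lt_or_gt_of_ne hxy with hlt | hgt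
    · by_cases hy : y = l
      · have hx : x ≠ f := fun h => hcorner ⟨h, hy⟩
        have hx0 : f < x := by
          rw [Fin.lt_def, hf]
          rcases Nat.eq_zero_or_pos (x : ℕ) with h | h
          · exact absurd (Fin.ext (h.trans hf.symm)) hx
          · exact h
        have := (entries_of_commute (ne_of_lt hx0) (by rw [hz.2, hz.2]) (hcomm _ _ hx0)).2
        exact this y (Ne.symm hxy)
      · have hy1 : y < l := by
          rw [Fin.lt_def, hl]
          have h1 : (y : ℕ) < n := y.2
          have h2 : (y : ℕ) ≠ n - 1 := fun h => hy (Fin.ext (h.trans hl.symm))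
          omega
        have := (entries_of_commute (ne_of_lt hy1) (by rw [hz.2, hz.2]) (hcomm _ _ hy1)).1
        exact this x hxy
    · exact hz.1 hgt
  apply Subtype.ext
  ext x y
  show (z : Matrix (Fin n) (Fin n) K) x y = ((SpecialLinearGroup.transvection (ne_of_lt hfl) _ :
    SpecialLinearGroup (Fin n) K) : Matrix (Fin n) (Fin n) K) x y
  rw [SpecialLinearGroup.transvection_coe, Matrix.add_apply, Matrix.single_apply]
  by_cases hxy : x = y
  · rw [hxy, hz.2, Matrix.one_apply_eq, if_neg, add_zero]
    rintro ⟨h1, h2⟩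
    exact (ne_of_lt hfl) (h1.trans h2.symm)
  · rw [Matrix.one_apply_ne hxy, zero_add]
    by_cases hc : x = f ∧ y = l
    · rw [if_pos ⟨hc.1.symm, hc.2.symm⟩, hc.1, hc.2]
    · rw [if_neg (fun h => hc ⟨h.1.symm, h.2.symm⟩)]
      exact hoff x y hxy hc

section closed

variable (T : Subgroup (SpecialLinearGroup (Fin n) K))
  (hcl : ∀ x ∈ T, ∀ g : SpecialLinearGroup (Fin n) K, g * x * g⁻¹ ∈ uni n K → g * x * g⁻¹ ∈ T)

include hcl

/-- changing the left index of a root element inside a closed subgroup -/
theorem root_left {i k j : Fin n} (hij : i < j) (hkj : k < j) (hik : i ≠ k) (a b : K)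
    (hb : SpecialLinearGroup.transvection (ne_of_lt hkj) b ∈ T) :
    SpecialLinearGroup.transvection (ne_of_lt hij) (a * b) ∈ T := by
  have hcomm := Cfsg.Agent.Lib.Lead.transvection_eq_commutator (ne_of_lt hij) hik (ne_of_lt hkj) a b
  set x := SpecialLinearGroup.transvection (F := K) hik a with hx
  set y := SpecialLinearGroup.transvection (F := K) (ne_of_lt hkj) b with hy
  have h1 : x * y * x⁻¹ = SpecialLinearGroup.transvection (ne_of_lt hij) (a * b) * y := by
    rw [hcomm, commutatorElement_def]
    group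
  have h2 : x * y * x⁻¹ ∈ uni n K := by
    rw [h1]
    exact Subgroup.mul_mem _ (transvection_mem_uni hij _) (transvection_mem_uni hkj _)
  have h3 := hcl y hb x h2
  have h4 : SpecialLinearGroup.transvection (ne_of_lt hij) (a * b) = x * y * x⁻¹ * y⁻¹ := by
    rw [h1]
    group
  rw [h4]
  exact Subgroup.mul_mem _ h3 (Subgroup.inv_mem _ hb)

/-- changing the right index of a root element inside a closed subgroup -/
theorem root_right {i k j : Fin n} (hij : i < j) (hik : i < k) (hkj : k ≠ j) (a b : K)
    (ha : SpecialLinearGroup.transvection (ne_of_lt hik) a ∈ T) :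
    SpecialLinearGroup.transvection (ne_of_lt hij) (a * b) ∈ T := by
  have hcomm := Cfsg.Agent.Lib.Lead.transvection_eq_commutator (ne_of_lt hij) (ne_of_lt hik) hkj a b
  set x := SpecialLinearGroup.transvection (F := K) (ne_of_lt hik) a with hx
  set y := SpecialLinearGroup.transvection (F := K) hkj b with hy
  have h1 : y * x⁻¹ * y⁻¹ = x⁻¹ * SpecialLinearGroup.transvection (ne_of_lt hij) (a * b) := by
    rw [hcomm, commutatorElement_def]
    group
  have h2 : y * x⁻¹ * y⁻¹ ∈ uni n K := by
    rw [h1]
    exact Subgroup.mul_mem _ (Subgroup.inv_mem _ (transvection_mem_uni hik _))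
      (transvection_mem_uni hij _)
  have h3 := hcl x⁻¹ (Subgroup.inv_mem _ ha) y h2
  have h4 : SpecialLinearGroup.transvection (ne_of_lt hij) (a * b) = x * (y * x⁻¹ * y⁻¹) := by
    rw [h1]
    group
  rw [h4]
  exact Subgroup.mul_mem _ ha h3

/-- a closed subgroup containing a nontrivial root element for the highest root contains all
root elements -/
theorem all_roots_mem {f m l : Fin n} (hf : (f : ℕ) = 0) (hm : (m : ℕ) = 1) (hl : (l : ℕ) = n - 1)
    (hfm : f < m) (hml : m < l) {c₀ : K} (hc₀ : c₀ ≠ 0)
    (h0 : SpecialLinearGroup.transvection (ne_of_lt (lt_trans hfm hml)) c₀ ∈ T) :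
    rootSet n K ⊆ T := by
  have hfl : f < l := lt_trans hfm hml
  -- step (a)
  have ha : ∀ k : Fin n, f < k → ∀ hk : k < l, ∀ c : K,
      SpecialLinearGroup.transvection (ne_of_lt hk) c ∈ T := by
    intro k hk0 hk c
    have := root_left T hcl hk hfl (ne_of_gt hk0) (c / c₀) c₀ h0
    rwa [div_mul_cancel₀ c hc₀] at this
  -- step (b)
  have hb : ∀ c : K, SpecialLinearGroup.transvection (ne_of_lt hfl) c ∈ T := by
    intro c
    have := root_left T hcl hfl hml (ne_of_lt hfm) c 1 (ha _ hfm hml 1)
    rwa [mul_one] at this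
  have hab : ∀ i : Fin n, ∀ hi : i < l, ∀ c : K,
      SpecialLinearGroup.transvection (ne_of_lt hi) c ∈ T := by
    intro i hi c
    by_cases hi0 : i = f
    · subst hi0
      exact hb c
    · have : f < i := by
        rw [Fin.lt_def, hf]
        rcases Nat.eq_zero_or_pos (i : ℕ) with h | h
        · exact absurd (Fin.ext (h.trans hf.symm)) hi0
        · exact h
      exact ha i this hi c
  rintro _ ⟨i, j, hij, c, rfl⟩
  by_cases hj : j = l
  · subst hj
    exact hab i hij c
  · have hj1 : j < l := by
      rw [Fin.lt_def, hl]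
      have h1 : (j : ℕ) < n := j.2
      have h2 : (j : ℕ) ≠ n - 1 := fun h => hj (Fin.ext (h.trans hl.symm))
      omega
    have := root_right T hcl hij (lt_trans hij hj1) (Ne.symm hj) c 1 (hab i (lt_trans hij hj1) c)
    rwa [mul_one] at this

end closed

/-- the only nontrivial subgroup of the unitriangular group closed under fusion in `SL_n(K)` is
the whole group -/
theorem eq_uni_of_closed (p : ℕ) [Fact p.Prime] [CharP K p] (hn : 3 ≤ n)
    (T : Subgroup (SpecialLinearGroup (Fin n) K)) (hT : T ≤ uni n K) (hT1 : T ≠ ⊥)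
    (hcl : ∀ x ∈ T, ∀ g : SpecialLinearGroup (Fin n) K, g * x * g⁻¹ ∈ uni n K → g * x * g⁻¹ ∈ T) :
    T = uni n K := by
  have hpg : IsPGroup p ↥(uni n K) := (uniSylow (K := K) p (by omega : 1 ≤ n)).isPGroup'
  have hnil : Group.IsNilpotent ↥(uni n K) := hpg.isNilpotent
  have hnorm : (T.subgroupOf (uni n K)).Normal := by
    refine ⟨fun x hx s => ?_⟩
    rw [Subgroup.mem_subgroupOf] at hx ⊢
    exact hcl x hx s (Subgroup.mul_mem _ (Subgroup.mul_mem _ s.2 x.2) (Subgroup.inv_mem _ s.2))
  have hne : T.subgroupOf (uni n K) ≠ ⊥ := by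
    intro h
    apply hT1
    rw [Subgroup.eq_bot_iff_forall]
    intro x hx
    have : (⟨x, hT hx⟩ : ↥(uni n K)) ∈ T.subgroupOf (uni n K) := Subgroup.mem_subgroupOf.mpr hx
    rw [h, Subgroup.mem_bot] at this
    exact congrArg Subtype.val this
  have hcen := Cfsg.Agent.Lib.Helper1.normal_inf_center_ne_bot (T.subgroupOf (uni n K)) hne
  obtain ⟨⟨z, hzmem⟩, hz1⟩ := (Subgroup.ne_bot_iff_exists_ne_one).mp hcen
  have hzT : (z : SpecialLinearGroup (Fin n) K) ∈ T := Subgroup.mem_subgroupOf.mp hzmem.1
  have hzc : z ∈ Subgroup.center ↥(uni n K) := hzmem.2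
  have hcomm : ∀ (a b : Fin n) (h : a < b),
      (z : SpecialLinearGroup (Fin n) K) * SpecialLinearGroup.transvection (ne_of_lt h) (1 : K) =
      SpecialLinearGroup.transvection (ne_of_lt h) (1 : K) * (z : SpecialLinearGroup (Fin n) K) := by
    intro a b h
    have := Subgroup.mem_center_iff.mp hzc ⟨_, transvection_mem_uni h (1 : K)⟩
    exact (congrArg Subtype.val this).symm
  have hfm : (⟨0, by omega⟩ : Fin n) < ⟨1, by omega⟩ := by
    rw [Fin.lt_def]
    exact Nat.zero_lt_one
  have hml : (⟨1, by omega⟩ : Fin n) < ⟨n - 1, by omega⟩ := by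
    rw [Fin.lt_def]
    show 1 < n - 1
    omega
  obtain ⟨c, hzc⟩ := center_form (f := ⟨0, by omega⟩) (l := ⟨n - 1, by omega⟩) rfl rfl
    (lt_trans hfm hml) z.2 hcomm
  have hc0 : c ≠ 0 := by
    intro h0
    apply hz1
    apply Subtype.ext
    apply Subtype.ext
    show (z : SpecialLinearGroup (Fin n) K) = 1
    rw [hzc, h0, SpecialLinearGroup.transvection_coeff_zero]
  have hroots := all_roots_mem T hcl (f := ⟨0, by omega⟩) (m := ⟨1, by omega⟩)
    (l := ⟨n - 1, by omega⟩) rfl rfl rfl hfm hml hc0 (hzc ▸ hzT)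
  apply le_antisymm hT
  rw [← closure_rootSet_eq_uni, Subgroup.closure_le]
  exact hroots

end Cfsg.Agent.Lib.Helper27.UniTri
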