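import Mathlib
import Cfsg.Agent.Lib.Helper27.UniTriD
import Cfsg.Agent.Lib.Helper27.FusSimpleGen

set_option autoImplicit false

/-! Parabolic subgroups with two blocks, their unipotent radicals, and the generation of the
normalizer of the unitriangular subgroup by good elements. -/

namespace Cfsg.Agent.Lib.Helper27.UniTri

open Matrix Cfsg.Agent.Lib.Helper27.FusSimpleGen

variable {n : ℕ} {K : Type*} [Field K] [Fintype K]

/-- matrices supported in the upper right block -/
def BlockSupp (k : ℕ) (M : Matrix (Fin n) (Fin n) K) : Prop :=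
  ∀ a b : Fin n, (k ≤ (a : ℕ) ∨ (b : ℕ) < k) → M a b = 0

/-- matrices with vanishing lower left block -/
def BlockUT (k : ℕ) (M : Matrix (Fin n) (Fin n) K) : Prop :=
  ∀ a b : Fin n, k ≤ (a : ℕ) → (b : ℕ) < k → M a b = 0

theorem blockUT_mul {k : ℕ} {M N : Matrix (Fin n) (Fin n) K} (hM : BlockUT k M) (hN : BlockUT k N) :
    BlockUT k (M * N) := by
  intro a b ha hb
  rw [Matrix.mul_apply]
  apply Finset.sum_eq_zero
  intro m _
  by_cases hm : (m : ℕ) < k
  · rw [hM a m ha hm, zero_mul]
  · rw [hN m b (not_lt.mp hm) hb, mul_zero]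

theorem blockUT_mul_blockSupp {k : ℕ} {M N : Matrix (Fin n) (Fin n) K} (hM : BlockUT k M)
    (hN : BlockSupp k N) : BlockSupp k (M * N) := by
  intro a b hab
  rw [Matrix.mul_apply]
  apply Finset.sum_eq_zero
  intro m _
  rcases hab with ha | hb
  · by_cases hm : (m : ℕ) < k
    · rw [hM a m ha hm, zero_mul]
    · rw [hN m b (Or.inl (not_lt.mp hm)), mul_zero]
  · rw [hN m b (Or.inr hb), mul_zero]

theorem blockSupp_mul_blockUT {k : ℕ} {M N : Matrix (Fin n) (Fin n) K} (hM : BlockSupp k M)
    (hN : BlockUT k N) : BlockSupp k (M * N) := by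
  intro a b hab
  rw [Matrix.mul_apply]
  apply Finset.sum_eq_zero
  intro m _
  rcases hab with ha | hb
  · rw [hM a m (Or.inl ha), zero_mul]
  · by_cases hm : (m : ℕ) < k
    · rw [hM a m (Or.inr hm), zero_mul]
    · rw [hN m b (not_lt.mp hm) hb, mul_zero]

theorem blockSupp_mul_blockSupp {k : ℕ} {M N : Matrix (Fin n) (Fin n) K} (hM : BlockSupp k M)
    (hN : BlockSupp k N) : BlockSupp k (M * N) := by
  intro a b _
  rw [Matrix.mul_apply]
  apply Finset.sum_eq_zero
  intro m _
  by_cases hm : (m : ℕ) < k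
  · rw [hM a m (Or.inr hm), zero_mul]
  · rw [hN m b (Or.inl (not_lt.mp hm)), mul_zero]

/-- the parabolic subgroup with two blocks of sizes `k` and `n - k` -/
def para (n : ℕ) (K : Type*) [Field K] [Fintype K] (k : ℕ) :
    Subgroup (SpecialLinearGroup (Fin n) K) :=
  subgroupOfClosed {g | BlockUT k (g : Matrix (Fin n) (Fin n) K)}
    (by
      intro a b ha hb
      have : a ≠ b := by
        intro h
        rw [h] at ha
        omega
      exact Matrix.one_apply_ne this)
    (fun a b ha hb => blockUT_mul ha hb)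

/-- its unipotent radical -/
def rad (n : ℕ) (K : Type*) [Field K] [Fintype K] (k : ℕ) :
    Subgroup (SpecialLinearGroup (Fin n) K) :=
  subgroupOfClosed {g | BlockSupp k ((g : Matrix (Fin n) (Fin n) K) - 1)}
    (by
      intro a b _
      show ((1 : Matrix (Fin n) (Fin n) K) - 1) a b = 0
      rw [sub_self]
      rfl)
    (fun a b ha hb => by
      have e : ((a * b : SpecialLinearGroup (Fin n) K) : Matrix (Fin n) (Fin n) K) - 1 =
          ((a : Matrix (Fin n) (Fin n) K) - 1) * ((b : Matrix (Fin n) (Fin n) K) - 1) +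
          ((a : Matrix (Fin n) (Fin n) K) - 1) + ((b : Matrix (Fin n) (Fin n) K) - 1) := by
        show (a : Matrix (Fin n) (Fin n) K) * (b : Matrix (Fin n) (Fin n) K) - 1 = _
        noncomm_ring
      intro x y hxy
      show (((a * b : SpecialLinearGroup (Fin n) K) : Matrix (Fin n) (Fin n) K) - 1) x y = 0
      rw [e, Matrix.add_apply, Matrix.add_apply, blockSupp_mul_blockSupp ha hb x y hxy, ha x y hxy,
        hb x y hxy]
      simp)

theorem mem_para {k : ℕ} {g : SpecialLinearGroup (Fin n) K} :
    g ∈ para n K k ↔ BlockUT k (g : Matrix (Fin n) (Fin n) K) := Iff.rfl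

theorem mem_rad {k : ℕ} {g : SpecialLinearGroup (Fin n) K} :
    g ∈ rad n K k ↔ BlockSupp k ((g : Matrix (Fin n) (Fin n) K) - 1) := Iff.rfl

theorem mem_rad_iff {k : ℕ} {g : SpecialLinearGroup (Fin n) K} :
    g ∈ rad n K k ↔ ∀ a b : Fin n, (k ≤ (a : ℕ) ∨ (b : ℕ) < k) →
      (g : Matrix (Fin n) (Fin n) K) a b = (1 : Matrix (Fin n) (Fin n) K) a b := by
  rw [mem_rad]
  constructor
  · intro h a b hab
    have := h a b hab
    rw [Matrix.sub_apply] at this
    exact sub_eq_zero.mp this
  · intro h a b hab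
    rw [Matrix.sub_apply, h a b hab, sub_self]

theorem borel_le_para (k : ℕ) : borel n K ≤ para n K k := by
  intro g hg a b ha hb
  apply hg
  show b < a
  rw [Fin.lt_def]
  omega

theorem rad_le_uni (k : ℕ) : rad n K k ≤ uni n K := by
  intro g hg
  rw [mem_rad_iff] at hg
  refine ⟨fun a b hba => ?_, fun a => ?_⟩
  · have hba' : b < a := hba
    have hne : a ≠ b := ne_of_gt hba'
    by_cases ha : k ≤ (a : ℕ)
    · rw [hg a b (Or.inl ha), Matrix.one_apply_ne hne]
    · have : (b : ℕ) < k := by
        rw [Fin.lt_def] at hba'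
        omega
      rw [hg a b (Or.inr this), Matrix.one_apply_ne hne]
  · by_cases ha : k ≤ (a : ℕ)
    · rw [hg a a (Or.inl ha), Matrix.one_apply_eq]
    · rw [hg a a (Or.inr (not_le.mp ha)), Matrix.one_apply_eq]

/-- the parabolic subgroup normalizes its unipotent radical -/
theorem para_conj_mem_rad {k : ℕ} {h r : SpecialLinearGroup (Fin n) K} (hh : h ∈ para n K k)
    (hr : r ∈ rad n K k) : h * r * h⁻¹ ∈ rad n K k := by
  have hh' : h⁻¹ ∈ para n K k := Subgroup.inv_mem _ hh
  have h1 : (h : Matrix (Fin n) (Fin n) K) *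
      ((h⁻¹ : SpecialLinearGroup (Fin n) K) : Matrix (Fin n) (Fin n) K) = 1 := by
    have : ((h * h⁻¹ : SpecialLinearGroup (Fin n) K) : Matrix (Fin n) (Fin n) K) = 1 := by
      rw [mul_inv_cancel]; rfl
    exact this
  have e : ((h * r * h⁻¹ : SpecialLinearGroup (Fin n) K) : Matrix (Fin n) (Fin n) K) - 1 =
      (h : Matrix (Fin n) (Fin n) K) * ((r : Matrix (Fin n) (Fin n) K) - 1) *
        ((h⁻¹ : SpecialLinearGroup (Fin n) K) : Matrix (Fin n) (Fin n) K) := by
    show (h : Matrix (Fin n) (Fin n) K) * (r : Matrix (Fin n) (Fin n) K) *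
        ((h⁻¹ : SpecialLinearGroup (Fin n) K) : Matrix (Fin n) (Fin n) K) - 1 = _
    rw [mul_sub, sub_mul, mul_one, h1]
  rw [mem_rad, e]
  exact blockSupp_mul_blockUT (blockUT_mul_blockSupp hh hr) hh'

theorem para_le_normalizer_rad (k : ℕ) :
    para n K k ≤ Subgroup.normalizer ((rad n K k : Subgroup (SpecialLinearGroup (Fin n) K)) : Set _) := by
  intro h hh
  rw [Subgroup.mem_normalizer_iff]
  intro r
  constructor
  · intro hr
    exact para_conj_mem_rad hh hr
  · intro hr
    have := para_conj_mem_rad (Subgroup.inv_mem _ hh) hr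
    have e : h⁻¹ * (h * r * h⁻¹) * h⁻¹⁻¹ = r := by group
    rwa [e] at this

theorem transvection_mem_para {k : ℕ} {i j : Fin n} (hij : i ≠ j)
    (hside : ¬ (k ≤ (i : ℕ) ∧ (j : ℕ) < k)) (c : K) :
    SpecialLinearGroup.transvection hij c ∈ para n K k := by
  intro a b ha hb
  rw [SpecialLinearGroup.transvection_coe, Matrix.add_apply, Matrix.single_apply]
  have hne : a ≠ b := by
    intro h
    rw [h] at ha
    omega
  rw [Matrix.one_apply_ne hne, zero_add, if_neg]
  rintro ⟨h1, h2⟩
  apply hside
  rw [h1, h2]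
  exact ⟨ha, hb⟩

theorem transvection_mem_rad {k : ℕ} {i j : Fin n} (hi : (i : ℕ) < k) (hj : k ≤ (j : ℕ)) (c : K) :
    SpecialLinearGroup.transvection (show i ≠ j by intro h; rw [h] at hi; omega) c ∈ rad n K k := by
  rw [mem_rad]
  intro a b hab
  rw [SpecialLinearGroup.transvection_coe, add_sub_cancel_left, Matrix.single_apply, if_neg]
  rintro ⟨h1, h2⟩
  rw [← h1, ← h2] at hab
  omega

/-- the unipotent radical is self-centralizing in the unitriangular group -/
theorem mem_rad_of_commute {k : ℕ} (hk1 : 1 ≤ k) (hkn : k < n) {u : SpecialLinearGroup (Fin n) K}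
    (hu : u ∈ uni n K) (hcomm : ∀ r ∈ rad n K k, u * r = r * u) : u ∈ rad n K k := by
  rw [mem_rad_iff]
  intro a b hab
  by_cases heq : a = b
  · rw [heq, hu.2 b, Matrix.one_apply_eq]
  rw [Matrix.one_apply_ne heq]
  rcases hab with ha | hb
  · -- the row `a` is standard: use the root `(0, a)`
    have h0 : ((⟨0, by omega⟩ : Fin n) : ℕ) < k := hk1
    have := (entries_of_commute _ (by rw [hu.2, hu.2])
      (hcomm _ (transvection_mem_rad (i := ⟨0, by omega⟩) (j := a) h0 ha (1 : K)))).2
    exact this b (Ne.symm heq)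
  · -- the column `b` is standard: use the root `(b, n - 1)`
    have hl : k ≤ ((⟨n - 1, by omega⟩ : Fin n) : ℕ) := by
      show k ≤ n - 1
      omega
    have := (entries_of_commute _ (by rw [hu.2, hu.2])
      (hcomm _ (transvection_mem_rad (i := b) (j := ⟨n - 1, by omega⟩) hb hl (1 : K)))).1
    exact this a heq

theorem transvection_pow {i j : Fin n} (hij : i ≠ j) (c : K) (m : ℕ) :
    (SpecialLinearGroup.transvection hij c) ^ m = SpecialLinearGroup.transvection hij (m • c) := by
  induction m with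
  | zero => simp
  | succ m ih => rw [pow_succ, ih, ← SpecialLinearGroup.transvection_add, succ_nsmul]

theorem transvection_pow_char (p : ℕ) [CharP K p] {i j : Fin n} (hij : i ≠ j) (c : K) :
    (SpecialLinearGroup.transvection hij c) ^ (p ^ 1) = 1 := by
  rw [pow_one, transvection_pow, nsmul_eq_mul, CharP.cast_eq_zero, zero_mul,
    SpecialLinearGroup.transvection_coeff_zero]

/-- the diagonal elements `diag(a, a⁻¹)` in positions on the same side of `k` are good -/
theorem goodElt_diag2n (p : ℕ) [Fact p.Prime] [CharP K p] {k : ℕ} (hk1 : 1 ≤ k) (hkn : k < n)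
    {i j : Fin n} (hij : i ≠ j) (hside : ((i : ℕ) < k ↔ (j : ℕ) < k)) (a : K) (ha : a ≠ 0) :
    GoodElt p (uni n K) (SpecialLinearGroup.diag2n hij a ha) := by
  refine ⟨?_, rad n K k, rad_le_uni k, ?_, ?_, ?_⟩
  · apply borel_le_normalizer_uni
    rw [mem_borel, SpecialLinearGroup.diag2n_coe]
    exact blockTriangular_diagonal _
  · exact (uni_le_borel.trans (borel_le_para k)).trans (para_le_normalizer_rad k)
  · intro s hs hcomm
    exact mem_rad_of_commute hk1 hkn hs hcomm
  · have hgen : ∀ c : K, SpecialLinearGroup.transvection hij c ∈ Subgroup.closure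
        {x : SpecialLinearGroup (Fin n) K | x ∈ Subgroup.normalizer
          ((rad n K k : Subgroup (SpecialLinearGroup (Fin n) K)) : Set _) ∧
          ∃ m : ℕ, x ^ (p ^ m) = 1} := by
      intro c
      apply Subgroup.subset_closure
      refine ⟨para_le_normalizer_rad k (transvection_mem_para hij ?_ c), 1,
        transvection_pow_char p hij c⟩
      rintro ⟨h1, h2⟩
      have := hside.mpr h2
      omega
    have hgen' : ∀ c : K, SpecialLinearGroup.transvection hij.symm c ∈ Subgroup.closure
        {x : SpecialLinearGroup (Fin n) K | x ∈ Subgroup.normalizer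
          ((rad n K k : Subgroup (SpecialLinearGroup (Fin n) K)) : Set _) ∧
          ∃ m : ℕ, x ^ (p ^ m) = 1} := by
      intro c
      apply Subgroup.subset_closure
      refine ⟨para_le_normalizer_rad k (transvection_mem_para hij.symm ?_ c), 1,
        transvection_pow_char p hij.symm c⟩
      rintro ⟨h1, h2⟩
      have := hside.mp h2
      omega
    rw [Cfsg.Agent.Lib.Lead.diag2n_decompose hij a ha]
    refine Subgroup.mul_mem _ (Subgroup.mul_mem _ (Subgroup.mul_mem _ (Subgroup.mul_mem _
      (Subgroup.mul_mem _ ?_ ?_) ?_) ?_) ?_) ?_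
    · exact hgen _
    · exact hgen' _
    · exact hgen _
    · exact hgen _
    · exact hgen' _
    · exact hgen _

/-- the normalizer of the unitriangular subgroup is generated by it and the good elements -/
theorem normalizer_uni_le_closure (p : ℕ) [Fact p.Prime] [CharP K p] (hn : 3 ≤ n) :
    Subgroup.normalizer ((uni n K : Subgroup (SpecialLinearGroup (Fin n) K)) : Set _) ≤
      Subgroup.closure (((uni n K : Subgroup (SpecialLinearGroup (Fin n) K)) : Set _) ∪
        {h | GoodElt p (uni n K) h}) := by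
  intro g hg
  have hgB : g ∈ borel n K := normalizer_uni_le_borel hg
  set D : Fin n → K := fun i => (g : Matrix (Fin n) (Fin n) K) i i with hD
  have hdet : det (diagonal D) = 1 := by
    rw [det_diagonal]
    have h1 : (g : Matrix (Fin n) (Fin n) K).det = ∏ i, (g : Matrix (Fin n) (Fin n) K) i i :=
      det_of_isUpperTriangular hgB
    rw [← h1]
    exact g.2
  set d : SpecialLinearGroup (Fin n) K := ⟨diagonal D, hdet⟩ with hd
  have hdB : d ∈ borel n K := by
    rw [mem_borel]
    exact blockTriangular_diagonal _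
  have hdinvB : d⁻¹ ∈ borel n K := Subgroup.inv_mem _ hdB
  -- `d⁻¹ * g` is unitriangular
  have hu : d⁻¹ * g ∈ uni n K := by
    refine ⟨Subgroup.mul_mem _ hdinvB hgB, fun i => ?_⟩
    show (((d⁻¹ : SpecialLinearGroup (Fin n) K) : Matrix (Fin n) (Fin n) K) *
      (g : Matrix (Fin n) (Fin n) K)) i i = 1
    rw [ut_mul_diag hdinvB hgB]
    have h1 : (g : Matrix (Fin n) (Fin n) K) i i = (d : Matrix (Fin n) (Fin n) K) i i := by
      show _ = (diagonal D) i i
      rw [diagonal_apply_eq]
    rw [h1, ← ut_mul_diag hdinvB hdB]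
    have : ((d⁻¹ : SpecialLinearGroup (Fin n) K) : Matrix (Fin n) (Fin n) K) *
        (d : Matrix (Fin n) (Fin n) K) = 1 := by
      have : ((d⁻¹ * d : SpecialLinearGroup (Fin n) K) : Matrix (Fin n) (Fin n) K) = 1 := by
        rw [inv_mul_cancel]; rfl
      exact this
    rw [this, Matrix.one_apply_eq]
  -- `d` lies in the closure of the good elements
  have hdmem : d ∈ Subgroup.closure (((uni n K : Subgroup (SpecialLinearGroup (Fin n) K)) : Set _) ∪
        {h | GoodElt p (uni n K) h}) := by
    rw [hd, SpecialLinearGroup.diag_eq_diag2n_prod (⟨1, by omega⟩ : Fin n) D hdet]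
    apply Subgroup.noncommProd_mem
    intro i hi
    have hi1 : i ≠ (⟨1, by omega⟩ : Fin n) := (Finset.mem_filter.mp hi).2
    rw [dif_pos hi1]
    apply Subgroup.subset_closure
    right
    by_cases hi0 : (i : ℕ) = 0
    · -- the pair `(0, 1)`: use `k = 2`
      apply goodElt_diag2n p (k := 2) (by omega) (by omega) hi1
      show (i : ℕ) < 2 ↔ (1 : ℕ) < 2
      omega
    · -- the pair `(i, 1)` with `i ≥ 2`: use `k = 1`
      have hi2 : 2 ≤ (i : ℕ) := by
        have : (i : ℕ) ≠ 1 := fun h => hi1 (Fin.ext h)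
        omega
      apply goodElt_diag2n p (k := 1) (by omega) (by omega) hi1
      show (i : ℕ) < 1 ↔ (1 : ℕ) < 1
      omega
  have : g = d * (d⁻¹ * g) := by group
  rw [this]
  exact Subgroup.mul_mem _ hdmem (Subgroup.subset_closure (Or.inl hu))

end Cfsg.Agent.Lib.Helper27.UniTri
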