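import Cfsg.Agent.S5128
import Cfsg.Agent.Lib.Helper27.FusLift
import Cfsg.Agent.Lib.Helper26.DirFactor
import Cfsg.Agent.Lib.Helper26.FusionSeries3
import Cfsg.Agent.Lib.Helper26.AlperinInd

/-!
# Weakly embedded subgroups: the lattice of strongly closed subgroups
-/

set_option autoImplicit false

namespace Cfsg.Agent.Lib.Helper27.WE

open Cfsg Cfsg.FusionSystem Cfsg.Agent.Lib.Helper26 Cfsg.Agent.Lib.Helper27

universe u

variable {Ω : Type u} [Group Ω] {S : Subgroup Ω}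

theorem sc_inf (F : FusionSystem S) {A B : Subgroup Ω} (hA : F.StronglyClosed A)
    (hB : F.StronglyClosed B) : F.StronglyClosed (A ⊓ B) :=
  ⟨inf_le_left.trans hA.1, fun R hR φ hφ x =>
    ⟨hA.2 R (hR.trans inf_le_left) φ hφ x, hB.2 R (hR.trans inf_le_right) φ hφ x⟩⟩

theorem sc_sup [Finite S] {p : ℕ} [Fact p.Prime] (hS : IsPGroup p S) (F : FusionSystem S)
    (hF : F.IsSaturated p) {A B : Subgroup Ω} (hA : F.StronglyClosed A)
    (hB : F.StronglyClosed B) : F.StronglyClosed (A ⊔ B) :=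
  Cfsg.Agent.S5128.result p hS F hF A B hA hB

/-- every subgroup of the given order is weakly embedded -/
def WEmb (F : FusionSystem S) (d : ℕ) : Prop :=
  ∀ Q : Subgroup Ω, Q ≤ S → Nat.card Q = d →
    ∃ P : Subgroup Ω, F.StronglyClosed P ∧ F.StronglyClosed (Q ⊔ P) ∧ F.StronglyClosed (Q ⊓ P)

theorem exists_min_nat {α : Type*} (s : Set α) (hs : s.Nonempty) (f : α → ℕ) :
    ∃ a ∈ s, ∀ b ∈ s, f a ≤ f b := by
  classical
  obtain ⟨a0, ha0⟩ := hs
  have h : ∃ n, ∃ a ∈ s, f a = n := ⟨f a0, a0, ha0, rfl⟩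
  obtain ⟨a, ha, hfa⟩ := Nat.find_spec h
  refine ⟨a, ha, fun b hb => ?_⟩
  rw [hfa]
  exact Nat.find_min' h ⟨b, hb, rfl⟩

/-- in a finite `p`-group there are subgroups of every admissible order between two subgroups -/
theorem exists_between {G : Type*} [Group G] {p : ℕ} [Fact p.Prime] {A B : Subgroup G}
    [Finite B] (hB : IsPGroup p B) (hAB : A ≤ B) {k : ℕ} (h1 : Nat.card A ≤ p ^ k)
    (h2 : p ^ k ≤ Nat.card B) : ∃ Q : Subgroup G, A ≤ Q ∧ Q ≤ B ∧ Nat.card Q = p ^ k := by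
  have hp : p.Prime := Fact.out
  obtain ⟨m, hm⟩ := IsPGroup.iff_card.mp hB
  have hA' : IsPGroup p (A.subgroupOf B) := hB.to_subgroup _
  obtain ⟨n, hn⟩ := IsPGroup.iff_card.mp hA'
  have hcA : Nat.card (A.subgroupOf B) = Nat.card A :=
    Nat.card_congr (Subgroup.subgroupOfEquivOfLe hAB).toEquiv
  have hnk : n ≤ k := by
    rw [hcA] at hn
    rw [hn] at h1
    exact (Nat.pow_le_pow_iff_right hp.one_lt).mp h1
  have hkm : k ≤ m := by
    rw [hm] at h2
    exact (Nat.pow_le_pow_iff_right hp.one_lt).mp h2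
  have hdvd : p ^ k ∣ Nat.card B := by
    rw [hm]
    exact pow_dvd_pow p hkm
  obtain ⟨K, hK, hle⟩ := Sylow.exists_subgroup_card_pow_prime_le p hdvd (A.subgroupOf B) hn hnk
  refine ⟨K.map B.subtype, ?_, ?_, ?_⟩
  · intro a ha
    exact ⟨⟨a, hAB ha⟩, hle (Subgroup.mem_subgroupOf.mpr ha), rfl⟩
  · rintro _ ⟨b, -, rfl⟩
    exact b.2
  · rw [Subgroup.card_map_of_injective B.subtype_injective, hK]

theorem exists_mul_of_mem_sup_sc (F : FusionSystem S) {A B : Subgroup Ω} (hA : A ≤ S)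
    (hB : F.StronglyClosed B) {z : Ω} (hz : z ∈ A ⊔ B) : ∃ a ∈ A, ∃ b ∈ B, z = a * b :=
  exists_mul_of_mem_sup (hA.trans (le_normalizer_of_sc F hB)) hz

/-- **(C1)** inside a strongly closed subgroup of order at least `d` there is a strongly closed
subgroup of order exactly `d`. -/
theorem exists_sc_card [Finite S] {p : ℕ} [Fact p.Prime] (hS : IsPGroup p S) (F : FusionSystem S)
    (hF : F.IsSaturated p) {k : ℕ} (hW : WEmb F (p ^ k)) {T : Subgroup Ω}
    (hT : F.StronglyClosed T) (hd : p ^ k ≤ Nat.card T) :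
    ∃ D : Subgroup Ω, F.StronglyClosed D ∧ D ≤ T ∧ Nat.card D = p ^ k := by
  classical
  have hfinle : ∀ {K : Subgroup Ω}, K ≤ S → Finite K := fun h => finite_of_le h
  -- maximal strongly closed subgroup of order at most `d`
  obtain ⟨Y, ⟨hY, hYT, hYd⟩, hYmax⟩ := exists_max_nat
    {Y : Subgroup Ω | F.StronglyClosed Y ∧ Y ≤ T ∧ Nat.card Y ≤ p ^ k}
    ⟨⊥, stronglyClosed_bot F, bot_le, by
      rw [Subgroup.card_bot]; exact Nat.one_le_pow _ _ (Fact.out : p.Prime).pos⟩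
    (fun Y => Nat.card Y) (p ^ k) (fun Y hY => hY.2.2)
  by_cases hYeq : Nat.card Y = p ^ k
  · exact ⟨Y, hY, hYT, hYeq⟩
  exfalso
  have hYlt : Nat.card Y < p ^ k := lt_of_le_of_ne hYd hYeq
  have hfinT : Finite T := hfinle hT.1
  have hYneT : Y ≠ T := by
    intro h
    rw [h] at hYlt
    omega
  -- minimal strongly closed subgroup above `Y`
  obtain ⟨X, ⟨hX, hYX, hXT⟩, hXmin⟩ := exists_min_nat
    {X : Subgroup Ω | F.StronglyClosed X ∧ Y < X ∧ X ≤ T}
    ⟨T, hT, lt_of_le_of_ne hYT hYneT, le_rfl⟩ (fun X => Nat.card X)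
  have hfinX : Finite X := hfinle hX.1
  have hXgt : p ^ k < Nat.card X := by
    by_contra hle
    have h1 := hYmax X ⟨hX, hXT, not_lt.mp hle⟩
    have h2 : Nat.card Y < Nat.card X := card_lt_card_of_lt hYX
    omega
  obtain ⟨Q, hYQ, hQX, hQc⟩ := exists_between (hS.to_le hX.1) hYX.le hYd hXgt.le
  have hQS : Q ≤ S := hQX.trans hX.1
  have hfinQ : Finite Q := hfinle hQS
  obtain ⟨P, hP, hQP, hQiP⟩ := hW Q hQS hQc
  -- the dichotomy
  have key : ∀ Z : Subgroup Ω, F.StronglyClosed Z → (X ⊓ Z) ⊔ Y = Y ∨ (X ⊓ Z) ⊔ Y = X := by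
    intro Z hZ
    have hW1 : F.StronglyClosed ((X ⊓ Z) ⊔ Y) := sc_sup hS F hF (sc_inf F hX hZ) hY
    have hle : (X ⊓ Z) ⊔ Y ≤ X := sup_le inf_le_left hYX.le
    by_cases h : (X ⊓ Z) ⊔ Y = Y
    · exact Or.inl h
    · right
      have hlt : Y < (X ⊓ Z) ⊔ Y := lt_of_le_of_ne le_sup_right (Ne.symm h)
      have h1 := hXmin _ ⟨hW1, hlt, hle.trans hXT⟩
      exact Subgroup.eq_of_le_of_card_ge hle h1
  -- `X ≤ Q ⊔ P`
  have hX2 : X ≤ Q ⊔ P := by
    rcases key (Q ⊔ P) hQP with h | h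
    · exfalso
      have hQY : Q ≤ Y := by
        rw [← h]
        exact le_sup_of_le_left (le_inf hQX le_sup_left)
      have hfinY : Finite Y := hfinle hY.1
      have := Nat.card_le_card_of_injective (Subgroup.inclusion hQY)
        (Subgroup.inclusion_injective hQY)
      omega
    · rw [← h]
      exact sup_le inf_le_right (hYQ.trans le_sup_left)
  rcases key P hP with h | h
  · -- `X ⊓ P ≤ Y`, so `X ≤ Q`
    have hXPY : X ⊓ P ≤ Y := by
      rw [← h]
      exact le_sup_left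
    have hXQ : X ≤ Q := by
      intro x hx
      obtain ⟨q, hq, y, hy, rfl⟩ := exists_mul_of_mem_sup_sc F hQS hP (hX2 hx)
      have hyX : y ∈ X := by
        have := X.mul_mem (X.inv_mem (hQX hq)) hx
        rwa [inv_mul_cancel_left] at this
      exact Q.mul_mem hq (hYQ (hXPY ⟨hyX, hy⟩))
    have := Nat.card_le_card_of_injective (Subgroup.inclusion hXQ)
      (Subgroup.inclusion_injective hXQ)
    omega
  · -- `(X ⊓ P) ⊔ Y = X`
    have hQeq : (X ⊓ (Q ⊓ P)) ⊔ Y = Q := by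
      apply le_antisymm
      · exact sup_le (inf_le_right.trans inf_le_left) hYQ
      · intro q hq
        have hqX : q ∈ (X ⊓ P) ⊔ Y := by
          rw [h]
          exact hQX hq
        obtain ⟨a, ha, y, hy, rfl⟩ :=
          exists_mul_of_mem_sup_sc F (inf_le_left.trans hX.1) hY hqX
        have haQ : a ∈ Q := by
          have := Q.mul_mem hq (Q.inv_mem (hYQ hy))
          rwa [mul_inv_cancel_right] at this
        exact Subgroup.mul_mem _ (Subgroup.mem_sup_left ⟨ha.1, haQ, ha.2⟩)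
          (Subgroup.mem_sup_right hy)
    rcases key (Q ⊓ P) hQiP with h' | h'
    · rw [hQeq] at h'
      rw [h'] at hQc
      omega
    · rw [hQeq] at h'
      rw [h'] at hQc
      omega

end Cfsg.Agent.Lib.Helper27.WE
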