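import Cfsg.Agent.Lib.Helper27.WE1
import Cfsg.Agent.Lib.Helper27.FusLift2

/-!
# Weakly embedded subgroups: systems of maps stable for a homomorphism to an abelian group
-/

set_option autoImplicit false

namespace Cfsg.Agent.Lib.Helper27.WE

open Cfsg Cfsg.FusionSystem Cfsg.Agent.Lib.Helper26 Cfsg.Agent.Lib.Helper27

universe u

variable {Ω : Type u} [Group Ω] {S : Subgroup Ω} {C : Type*} [CommGroup C]

/-- the homomorphism `lam` takes the same value at `x` and at `φ x` for `x` in `T'` -/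
def StabOn (lam : S →* C) (T' : Subgroup Ω) {P : Subgroup Ω} (φ : P →* Ω) : Prop :=
  ∀ x : P, (x : Ω) ∈ T' → ∀ (h1 : φ x ∈ S) (h2 : (x : Ω) ∈ S), lam ⟨φ x, h1⟩ = lam ⟨x, h2⟩

theorem lam_conj (lam : S →* C) {g x : Ω} (hg : g ∈ S) (hx : x ∈ S) (h : g * x * g⁻¹ ∈ S) :
    lam ⟨g * x * g⁻¹, h⟩ = lam ⟨x, hx⟩ := by
  have e : (⟨g * x * g⁻¹, h⟩ : S) = ⟨g, hg⟩ * ⟨x, hx⟩ * (⟨g, hg⟩ : S)⁻¹ := Subtype.ext rfl
  rw [e, map_mul, map_mul, map_inv, mul_comm (lam ⟨g, hg⟩), mul_inv_cancel_right]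

/-- the maps of `F` stable for `lam` on the strongly closed subgroup `T'` -/
def stabSys (F : FusionSystem S) (T' : Subgroup Ω) (hT' : F.StronglyClosed T') (lam : S →* C) :
    FusionSystem S where
  Hom P := {φ | φ ∈ F.Hom P ∧ StabOn lam T' φ}
  le_of_mem h := F.le_of_mem h.1
  injective_of_mem h := F.injective_of_mem h.1
  conj_mem := by
    intro P g hP hg
    refine ⟨F.conj_mem hP hg, fun x _ h1 h2 => ?_⟩
    exact lam_conj lam hg h2 h1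
  comp_mem := by
    intro P Q φ ψ hφ hψ h
    refine ⟨F.comp_mem hφ.1 hψ.1 h, fun x hx h1 h2 => ?_⟩
    have hφx : φ x ∈ T' := apply_mem_of_stronglyClosed F hT' hφ.1 x hx
    have e1 := hψ.2 ⟨φ x, h x⟩ hφx h1 (apply_mem F hφ.1 x)
    have e2 := hφ.2 x hx (apply_mem F hφ.1 x) h2
    exact e1.trans e2
  inv_mem := by
    intro P φ hφ
    obtain ⟨ψ, hψ, hinv⟩ := F.inv_mem hφ.1
    refine ⟨ψ, ⟨hψ, ?_⟩, hinv⟩
    rintro ⟨_, x, rfl⟩ hy h1 h2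
    have hx : (x : Ω) ∈ T' := by
      have := apply_mem_of_stronglyClosed F hT' hψ ⟨φ x, x, rfl⟩ hy
      rwa [hinv x] at this
    have e := hφ.2 x hx h2 (source_le F hφ.1 x.2)
    have e2 : (⟨ψ ⟨φ x, ⟨x, rfl⟩⟩, h1⟩ : S) = ⟨x, source_le F hφ.1 x.2⟩ :=
      Subtype.ext (hinv x)
    rw [e2]
    exact e.symm

theorem mem_stabSys_iff (F : FusionSystem S) {T' : Subgroup Ω} (hT' : F.StronglyClosed T')
    (lam : S →* C) {P : Subgroup Ω} {φ : P →* Ω} :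
    φ ∈ (stabSys F T' hT' lam).Hom P ↔ φ ∈ F.Hom P ∧ StabOn lam T' φ := Iff.rfl

/-- the automorphisms in `F` of `P` that are trivial on `P ∩ T'` modulo `T` -/
def trivOn (F : FusionSystem S) (P T T' : Subgroup Ω) (hPS : P ≤ S) (hT : F.StronglyClosed T)
    (hT' : F.StronglyClosed T') : Subgroup (MulAut P) where
  carrier := {α | α ∈ F.autGroup P ∧ ∀ x : P, (x : Ω) ∈ T' → (x : Ω)⁻¹ * ((α x : P) : Ω) ∈ T}
  one_mem' := ⟨Subgroup.one_mem _, fun x _ => by simp⟩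
  mul_mem' := by
    rintro α β ⟨hα, hα'⟩ ⟨hβ, hβ'⟩
    refine ⟨Subgroup.mul_mem _ hα hβ, fun x hx => ?_⟩
    have hβx : ((β x : P) : Ω) ∈ T' := aut_apply_mem_of_stronglyClosed F hT' hPS hβ x hx
    have e : (x : Ω)⁻¹ * (((α * β) x : P) : Ω)
        = ((x : Ω)⁻¹ * ((β x : P) : Ω)) * (((β x : P) : Ω)⁻¹ * ((α (β x) : P) : Ω)) := by
      rw [MulAut.mul_apply]
      group
    rw [e]
    exact T.mul_mem (hβ' x hx) (hα' (β x) hβx)
  inv_mem' := by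
    rintro α ⟨hα, hα'⟩
    refine ⟨Subgroup.inv_mem _ hα, fun x hx => ?_⟩
    have hy : ((α⁻¹ x : P) : Ω) ∈ T' :=
      aut_apply_mem_of_stronglyClosed F hT' hPS (Subgroup.inv_mem _ hα) x hx
    have h1 := hα' (α⁻¹ x) hy
    rw [MulAut.apply_inv_self] at h1
    have e : (x : Ω)⁻¹ * ((α⁻¹ x : P) : Ω) = (((α⁻¹ x : P) : Ω)⁻¹ * (x : Ω))⁻¹ := by group
    rw [e]
    exact T.inv_mem h1

theorem mem_trivOn {F : FusionSystem S} {P T T' : Subgroup Ω} {hPS : P ≤ S}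
    {hT : F.StronglyClosed T} {hT' : F.StronglyClosed T'} {α : MulAut P} :
    α ∈ trivOn F P T T' hPS hT hT' ↔
      α ∈ F.autGroup P ∧ ∀ x : P, (x : Ω) ∈ T' → (x : Ω)⁻¹ * ((α x : P) : Ω) ∈ T := Iff.rfl

theorem trivOn_conj_mem {F : FusionSystem S} {P T T' : Subgroup Ω} {hPS : P ≤ S}
    {hT : F.StronglyClosed T} {hT' : F.StronglyClosed T'} {α β : MulAut P}
    (hα : α ∈ trivOn F P T T' hPS hT hT') (hβ : β ∈ F.autGroup P) :
    β * α * β⁻¹ ∈ trivOn F P T T' hPS hT hT' := by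
  obtain ⟨hα1, hα2⟩ := hα
  refine ⟨Subgroup.mul_mem _ (Subgroup.mul_mem _ hβ hα1) (Subgroup.inv_mem _ hβ), fun x hx => ?_⟩
  have hy : ((β⁻¹ x : P) : Ω) ∈ T' :=
    aut_apply_mem_of_stronglyClosed F hT' hPS (Subgroup.inv_mem _ hβ) x hx
  have h1 := hα2 (β⁻¹ x) hy
  -- apply `β`
  obtain ⟨w, hw⟩ : ∃ w : P, (w : Ω) = ((β⁻¹ x : P) : Ω)⁻¹ * ((α (β⁻¹ x) : P) : Ω) :=
    ⟨(β⁻¹ x)⁻¹ * α (β⁻¹ x), rfl⟩
  have hwT : (w : Ω) ∈ T := hw ▸ h1
  have h2 : ((β w : P) : Ω) ∈ T := aut_apply_mem_of_stronglyClosed F hT hPS hβ w hwT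
  have hw' : w = (β⁻¹ x)⁻¹ * α (β⁻¹ x) := Subtype.ext hw
  have e : (x : Ω)⁻¹ * (((β * α * β⁻¹) x : P) : Ω) = ((β w : P) : Ω) := by
    rw [hw', map_mul, map_inv, MulAut.apply_inv_self]
    rfl
  rw [e]
  exact h2

theorem autGroup_le_normalizer_trivOn {F : FusionSystem S} {P T T' : Subgroup Ω} {hPS : P ≤ S}
    {hT : F.StronglyClosed T} {hT' : F.StronglyClosed T'} :
    F.autGroup P ≤ Subgroup.normalizer (trivOn F P T T' hPS hT hT' : Set (MulAut P)) := by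
  intro β hβ
  rw [Subgroup.mem_normalizer_iff]
  intro α
  constructor
  · intro hα
    exact trivOn_conj_mem hα hβ
  · intro hα
    have := trivOn_conj_mem hα (Subgroup.inv_mem _ hβ)
    have e : β⁻¹ * (β * α * β⁻¹) * β⁻¹⁻¹ = α := by group
    rwa [e] at this

theorem trivOn_le_stabSys {F : FusionSystem S} {P T T' : Subgroup Ω} {hPS : P ≤ S}
    {hT : F.StronglyClosed T} {hT' : F.StronglyClosed T'} (lam : S →* C)
    (hlam : ∀ s : S, (s : Ω) ∈ T → lam s = 1) :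
    trivOn F P T T' hPS hT hT' ≤ (stabSys F T' hT' lam).autGroup P := by
  rintro α ⟨hα1, hα2⟩
  rw [mem_autGroup_iff _ hPS, mem_stabSys_iff]
  refine ⟨(mem_autGroup_iff F hPS).mp hα1, fun x hx h1 h2 => ?_⟩
  have ht := hα2 x hx
  have htS : (x : Ω)⁻¹ * ((α x : P) : Ω) ∈ S := hT.1 ht
  have e : (⟨(P.subtype.comp α.toMonoidHom) x, h1⟩ : S)
      = ⟨x, h2⟩ * ⟨(x : Ω)⁻¹ * ((α x : P) : Ω), htS⟩ := by
    apply Subtype.ext
    show ((α x : P) : Ω) = (x : Ω) * ((x : Ω)⁻¹ * ((α x : P) : Ω))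
    group
  rw [e, map_mul, hlam ⟨_, htS⟩ ht, mul_one]

/-- **Lemma L.** The Alperin-type induction for stability. -/
theorem le_stabSys [Finite S] {p : ℕ} [Fact p.Prime] (hS : IsPGroup p S) (F : FusionSystem S)
    (hF : F.IsSaturated p) {T T' : Subgroup Ω} (hT : F.StronglyClosed T)
    (hT' : F.StronglyClosed T') (lam : S →* C) (hlam : ∀ s : S, (s : Ω) ∈ T → lam s = 1)
    (htop : F.autGroup S ≤ (stabSys F T' hT' lam).autGroup S)
    (hstep : ∀ P : Subgroup Ω, F.IsFullyNormalized P → P ≠ S →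
      (F.autGroup P ≤ (stabSys F T' hT' lam).autGroup P) ∨
      (∃ g : Ω, g ∈ S ∧ g ∉ P ∧ g ∈ Subgroup.normalizer (P : Set Ω) ∧
        ∀ x : P, (x : Ω) ∈ T' → (x : Ω)⁻¹ * (g * (x : Ω) * g⁻¹) ∈ T)) :
    F ≤ stabSys F T' hT' lam := by
  apply alperin_induction p hS F hF _ htop
  intro P hPn hne ih
  rcases hstep P hPn hne with h | ⟨g, hgS, hgP, hgN, hg⟩
  · exact h
  · refine autGroup_le_of_frattini hS F hF _ hPn ih (trivOn F P T T' hPn.1 hT hT')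
      (fun α hα => hα.1) autGroup_le_normalizer_trivOn (trivOn_le_stabSys lam hlam)
      ⟨g, hgS, hgP, hgN, ?_⟩
    refine ⟨autInducedBy_le_autGroup F hPn.1 (conjAut_mem_autInducedBy hgS hgN), fun x hx => ?_⟩
    rw [conjAut_apply]
    exact hg x hx

end Cfsg.Agent.Lib.Helper27.WE
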