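import Cfsg.Agent.Lib.Helper27.WE2
import Cfsg.Agent.Lib.Helper27.GTWit
import Cfsg.Agent.Lib.Helper27.FusInner
import Cfsg.Agent.Lib.Helper26.FusionAlperin

/-!
# Weakly embedded subgroups: the two stability criteria
-/

set_option autoImplicit false

namespace Cfsg.Agent.Lib.Helper27.WE

open Cfsg Cfsg.FusionSystem Cfsg.Agent.Lib.Helper26 Cfsg.Agent.Lib.Helper27

universe u

variable {Ω : Type u} [Group Ω] {S : Subgroup Ω} {C : Type*} [CommGroup C]

/-- automorphisms of subgroups containing `D` are induced by `S` -/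
def InnerAbove (F : FusionSystem S) (D : Subgroup Ω) : Prop :=
  ∀ P : Subgroup Ω, D ≤ P → P ≤ S → ∀ α ∈ F.autGroup P,
    ∃ g ∈ S, ∀ x : P, ((α x : P) : Ω) = g * (x : Ω) * g⁻¹

/-- **(C2)** if the normalizer system of the strongly closed subgroup `D` is inner, the
automorphisms of the subgroups containing `D` are induced by `S`. -/
theorem innerAbove_of_normalizer_inner [Finite S] (F : FusionSystem S) {D : Subgroup Ω}
    (hD : F.StronglyClosed D)
    (hN : ∀ N : FusionSystem (normalizerIn S D), F.IsNormalizerSystem D N →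
      ∀ P : Subgroup Ω, N.Hom P = (innerFusionSystem (normalizerIn S D)).Hom P) :
    InnerAbove F D := by
  intro P hDP hPS α hα
  have hPN : P ≤ normalizerIn S D := le_inf hPS (hPS.trans (le_normalizer_of_sc F hD))
  have h1 := GT.mem_normalizerHom_of_aut F hDP hPN hα
    (fun x hx => aut_apply_mem_of_stronglyClosed F hD hPS hα x hx)
  have h2 := hN _ (normalizerSystem_isNormalizerSystem F D hD.1) P
  have h3 : P.subtype.comp α.toMonoidHom ∈ (normalizerSystem F D hD.1).Hom P := h1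
  rw [h2] at h3
  obtain ⟨-, g, hg, hgx⟩ := inner_mem_iff.mp h3
  exact ⟨g, hg.1, fun x => hgx x⟩

theorem aut_mem_stabSys_of_conj (F : FusionSystem S) {T' : Subgroup Ω}
    (hT' : F.StronglyClosed T') (lam : S →* C) {P : Subgroup Ω} (hPS : P ≤ S) {α : MulAut P}
    (hα : α ∈ F.autGroup P)
    (h : ∃ g ∈ S, ∀ x : P, ((α x : P) : Ω) = g * (x : Ω) * g⁻¹) :
    α ∈ (stabSys F T' hT' lam).autGroup P := by
  rw [mem_autGroup_iff _ hPS, mem_stabSys_iff]
  refine ⟨(mem_autGroup_iff F hPS).mp hα, fun x _ h1 h2 => ?_⟩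
  obtain ⟨g, hg, hgx⟩ := h
  have e : (⟨(P.subtype.comp α.toMonoidHom) x, h1⟩ : S) = ⟨g * (x : Ω) * g⁻¹, by
      rw [← hgx x]; exact h1⟩ := Subtype.ext (hgx x)
  rw [e]
  exact lam_conj lam hg h2 _

/-- **(L-Z)** stability on a strongly closed subgroup central modulo a smaller one -/
theorem stab_of_comm_le [Finite S] {p : ℕ} [Fact p.Prime] (hS : IsPGroup p S) (F : FusionSystem S)
    (hF : F.IsSaturated p) {T T' : Subgroup Ω} (hT : F.StronglyClosed T)
    (hT' : F.StronglyClosed T') (lam : S →* C) (hlam : ∀ s : S, (s : Ω) ∈ T → lam s = 1)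
    (hinnS : ∀ α ∈ F.autGroup S, ∃ g ∈ S, ∀ x : S, ((α x : S) : Ω) = g * (x : Ω) * g⁻¹)
    (hcomm : ∀ x ∈ T', ∀ g ∈ S, x⁻¹ * (g * x * g⁻¹) ∈ T) :
    F ≤ stabSys F T' hT' lam := by
  apply le_stabSys hS F hF hT hT' lam hlam
  · intro α hα
    exact aut_mem_stabSys_of_conj F hT' lam le_rfl hα (hinnS α hα)
  · intro P hPn hne
    right
    obtain ⟨g, hgN, hgP⟩ := SetLike.exists_of_lt (lt_normalizerIn hS hPn.1 hne)
    exact ⟨g, hgN.1, hgP, hgN.2, fun x hx => hcomm _ hx g hgN.1⟩

/-- **(L-D)** stability when the automorphisms above a strongly closed subgroup in the kernel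
are induced by `S` -/
theorem stab_of_innerAbove [Finite S] {p : ℕ} [Fact p.Prime] (hS : IsPGroup p S)
    (F : FusionSystem S) (hF : F.IsSaturated p) {D : Subgroup Ω} (hD : F.StronglyClosed D)
    (lam : S →* C) (hlam : ∀ s : S, (s : Ω) ∈ D → lam s = 1) (hinn : InnerAbove F D) :
    F ≤ stabSys F S (top_stronglyClosed F) lam := by
  apply le_stabSys hS F hF hD (top_stronglyClosed F) lam hlam
  · intro α hα
    exact aut_mem_stabSys_of_conj F _ lam le_rfl hα (hinn S hD.1 le_rfl α hα)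
  · intro P hPn hne
    have hPS : P ≤ S := hPn.1
    by_cases hDP : D ≤ P
    · left
      intro α hα
      exact aut_mem_stabSys_of_conj F _ lam hPS hα (hinn P hDP hPS α hα)
    · right
      have hle : P ⊔ D ≤ S := sup_le hPS hD.1
      have hfin : Finite ↥(P ⊔ D) := finite_of_le hle
      have hne' : P ≠ P ⊔ D := by
        intro h
        apply hDP
        rw [h]
        exact le_sup_right
      obtain ⟨g, hgN, hgP⟩ := SetLike.exists_of_lt
        (lt_normalizerIn (hS.to_le hle) (le_sup_left : P ≤ P ⊔ D) hne')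
      obtain ⟨a, ha, t, ht, rfl⟩ := exists_mul_of_mem_sup_sc F hPS hD hgN.1
      have htN : t ∈ Subgroup.normalizer (P : Set Ω) := by
        have h1 : a⁻¹ ∈ Subgroup.normalizer (P : Set Ω) :=
          Subgroup.inv_mem _ (Subgroup.le_normalizer ha)
        have := Subgroup.mul_mem _ h1 hgN.2
        rwa [inv_mul_cancel_left] at this
      have htP : t ∉ P := fun h => hgP (P.mul_mem ha h)
      refine ⟨t, hD.1 ht, htP, htN, fun x _ => ?_⟩
      have h1 : (x : Ω)⁻¹ * t * ((x : Ω)⁻¹)⁻¹ ∈ D :=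
        conj_mem_of_stronglyClosed F hD (S.inv_mem (hPS x.2)) ht
      have e : (x : Ω)⁻¹ * (t * (x : Ω) * t⁻¹) = ((x : Ω)⁻¹ * t * ((x : Ω)⁻¹)⁻¹) * t⁻¹ := by
        group
      rw [e]
      exact D.mul_mem h1 (D.inv_mem ht)

end Cfsg.Agent.Lib.Helper27.WE
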