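import Cfsg.Agent.Lib.Helper27.Yosh4

/-!
# Yoshida's theorem for fusion systems: homomorphisms to abelian `p`-groups
-/

set_option autoImplicit false

namespace Cfsg.Agent.Lib.Helper27.Yosh

open Cfsg Cfsg.FusionSystem MulAction
open Cfsg.Agent.Lib.Helper26
open Cfsg.Agent.Lib.helper17.ParkGraph (graphOf IsFGraph mem_graphOf)
open Cfsg.Agent.Lib.helper17.CB11 Cfsg.Agent.Lib.helper17.CB12 Cfsg.Agent.Lib.helper17.CB14
  Cfsg.Agent.Lib.helper17.CB15
open Cfsg.Agent.Lib.Helper26.PPI (HasFGraphStab exists_stab_graph)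
open Cfsg.Agent.Lib.Helper29.Yoshida

universe u

variable {Ω : Type u} [Group Ω] {S : Subgroup Ω}

/-- the biset transfer of a composite -/
theorem transHom_comp {X : Type u} [MulAction (S × S) X] {A B : Type*} [CommGroup A]
    [CommGroup B] (lam : S →* A) (f : A →* B) (r : X → S)
    (hr : ∀ (t : S) (x : X), r (((1 : S), t) • x) = r x * t⁻¹) [Fintype (Ybar S X)]
    (σ : GX S X) : transHom (f.comp lam) r hr σ = f (transHom lam r hr σ) := by
  rw [transHom_apply, transHom_apply]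
  unfold Cfsg.Agent.Lib.helper17.CB12.trans
  rw [map_prod]
  rfl

/-- the inductive step: exponent `p` on the focal subgroup -/
theorem yoshida_step [Finite S] {p : ℕ} [Fact p.Prime] (hS : IsPGroup p S) (F : FusionSystem S)
    (hF : F.IsSaturated p) (hnw : ¬ HasWreath p ↥S) {A : Type*} [CommGroup A]
    (hA : IsPGroup p A) (lam : S →* A)
    (hinv : ∀ (θ : S →* Ω) (hθ : θ ∈ F.Hom S) (s : S), lam ⟨θ s, apply_mem F hθ s⟩ = lam s)
    (hpw : ∀ u : S, (u : Ω) ∈ F.focalSubgroup → lam u ^ p = 1) :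
    ∀ u : S, (u : Ω) ∈ F.focalSubgroup → lam u = 1 := by
  classical
  have hp : p.Prime := Fact.out
  obtain ⟨X, hfin, hact, hft, hX, hst, ⟨r0, hr⟩, hm⟩ := exists_char_biset_retraction hS F hF
  letI := actY S X
  obtain ⟨n, hn⟩ : ∃ n, n = Fintype.card (Ybar S X) := ⟨_, rfl⟩
  let pw : A →* A := powMonoidHom p
  let V : S →* A := (transHom lam r0 hr).comp (iotaX S X)
  have hV : ∀ (P : Subgroup Ω) (φ : P →* Ω) (hφ : φ ∈ F.Hom P) (x : P),
      V ⟨φ x, apply_mem F hφ x⟩ = V ⟨x, source_le F hφ x.2⟩ :=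
    fun P φ hφ x => transHom_invariant F hX hst lam r0 hr hφ x
  -- (a)
  have ha : ∀ u : S, V u ^ p = (lam u ^ p) ^ n := by
    intro u
    have h1 : transHom (pw.comp lam) r0 hr (iotaX S X u) = pw (V u) :=
      transHom_comp lam pw r0 hr _
    have h2 : transHom (pw.comp lam) r0 hr (iotaX S X u) = (lam u ^ p) ^ n := by
      rw [transHom_apply, trans_eq_prod_cocY, hn]
      apply cocycle_prod_eq_pow_of_pow (cocY (pw.comp lam) r0)
        (fun g h y => cocY_mul (pw.comp lam) r0 hr g h y) u (lam u ^ p)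
      intro k y hfix
      obtain ⟨R, θ, hθ, h, hval, -⟩ := cocY_of_fixed (pw.comp lam) r0 hr F hX (u ^ k) y hfix
      rw [hval]
      show (lam ⟨θ ⟨((u ^ k : S) : Ω), h⟩, apply_mem F hθ _⟩) ^ p = (lam u ^ p) ^ k
      obtain ⟨w, hw⟩ : ∃ w : S, w = (u ^ k)⁻¹ * ⟨θ ⟨((u ^ k : S) : Ω), h⟩, apply_mem F hθ _⟩ :=
        ⟨_, rfl⟩
      have hwf : (w : Ω) ∈ F.focalSubgroup := by
        rw [hw]
        exact mul_inv_mem_focal F hθ ⟨((u ^ k : S) : Ω), h⟩
      have h3 : (⟨θ ⟨((u ^ k : S) : Ω), h⟩, apply_mem F hθ _⟩ : S) = u ^ k * w := by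
        rw [hw]
        group
      rw [h3, map_mul, mul_pow, hpw w hwf, mul_one, map_pow, ← pow_mul, ← pow_mul, mul_comm]
    rw [← h2, h1]
    rfl
  -- (b)
  let K : Subgroup A := pw.ker
  let ε₀ : S →* A :=
    { toFun := fun u => V u * (lam u ^ n)⁻¹
      map_one' := by simp
      map_mul' := by
        intro a b
        simp only [map_mul, mul_pow, mul_inv]
        rw [mul_mul_mul_comm] }
  have hε₀K : ∀ u, ε₀ u ∈ K := by
    intro u
    show (V u * (lam u ^ n)⁻¹) ^ p = 1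
    rw [mul_pow, ha, inv_pow, ← pow_mul, ← pow_mul, mul_comm n p, mul_inv_cancel]
  let ε : S →* K := ε₀.codRestrict K hε₀K
  have hεinv : ∀ (θ : S →* Ω) (hθ : θ ∈ F.Hom S) (s : S),
      ε ⟨θ s, apply_mem F hθ s⟩ = ε s := by
    intro θ hθ s
    apply Subtype.ext
    show V ⟨θ s, apply_mem F hθ s⟩ * (lam ⟨θ s, apply_mem F hθ s⟩ ^ n)⁻¹ = V s * (lam s ^ n)⁻¹
    rw [hinv θ hθ s, hV S θ hθ s]
  have hKexp : ∀ a : K, a ^ p = 1 := by
    intro a
    apply Subtype.ext
    exact a.2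
  intro u hu
  have hεu : ε u = 1 := by
    by_contra hne
    obtain ⟨χ, hχ⟩ := sep hKexp (ε u) hne
    apply hχ
    exact yoshida_main hS F hF hnw (χ.comp ε) (fun θ hθ s => by
      show χ (ε _) = χ (ε s)
      rw [hεinv θ hθ s]) u hu
  have hε₀u : V u * (lam u ^ n)⁻¹ = 1 := congrArg Subtype.val hεu
  have hVu : V u = 1 := eq_one_of_mem_focal F V hV u hu
  rw [hVu, one_mul, inv_eq_one] at hε₀u
  obtain ⟨j, hj⟩ := hA (lam u)
  have hcop : Nat.Coprime (p ^ j) n := by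
    apply Nat.Coprime.pow_left
    rw [hp.coprime_iff_not_dvd, hn]
    exact hm
  have h4 : orderOf (lam u) ∣ 1 := by
    rw [← Nat.Coprime.gcd_eq_one hcop]
    exact Nat.dvd_gcd (orderOf_dvd_of_pow_eq_one hj) (orderOf_dvd_of_pow_eq_one hε₀u)
  exact orderOf_eq_one_iff.mp (Nat.dvd_one.mp h4)

theorem yoshida_full_aux [Finite S] {p : ℕ} [Fact p.Prime] (hS : IsPGroup p S)
    (F : FusionSystem S) (hF : F.IsSaturated p) (hnw : ¬ HasWreath p ↥S) {A : Type*}
    [CommGroup A] (hA : IsPGroup p A) (lam : S →* A)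
    (hinv : ∀ (θ : S →* Ω) (hθ : θ ∈ F.Hom S) (s : S), lam ⟨θ s, apply_mem F hθ s⟩ = lam s)
    (j : ℕ) :
    (∀ u : S, (u : Ω) ∈ F.focalSubgroup → lam u ^ (p ^ j) = 1) →
    ∀ u : S, (u : Ω) ∈ F.focalSubgroup → lam u = 1 := by
  induction j with
  | zero =>
    intro H u hu
    simpa using H u hu
  | succ j ih =>
    intro H
    apply ih
    have := yoshida_step hS F hF hnw hA ((powMonoidHom (p ^ j)).comp lam) (by
      intro θ hθ s
      show lam _ ^ (p ^ j) = lam s ^ (p ^ j)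
      rw [hinv θ hθ s]) (by
      intro u hu
      show (lam u ^ (p ^ j)) ^ p = 1
      rw [← pow_mul, ← pow_succ]
      exact H u hu)
    exact this

/-- **Yoshida's theorem for fusion systems.** If `S` has no quotient `C_p ≀ C_p`, every
homomorphism from `S` to a finite abelian `p`-group invariant under `Aut_F(S)` vanishes on the
focal subgroup. -/
theorem yoshida_full [Finite S] {p : ℕ} [Fact p.Prime] (hS : IsPGroup p S)
    (F : FusionSystem S) (hF : F.IsSaturated p) (hnw : ¬ HasWreath p ↥S) {A : Type*}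
    [CommGroup A] [Finite A] (hA : IsPGroup p A) (lam : S →* A)
    (hinv : ∀ (θ : S →* Ω) (hθ : θ ∈ F.Hom S) (s : S), lam ⟨θ s, apply_mem F hθ s⟩ = lam s) :
    ∀ u : S, (u : Ω) ∈ F.focalSubgroup → lam u = 1 := by
  obtain ⟨n, hn⟩ := IsPGroup.iff_card.mp hA
  apply yoshida_full_aux hS F hF hnw hA lam hinv n
  intro u _
  rw [← hn]
  exact pow_card_eq_one'

end Cfsg.Agent.Lib.Helper27.Yosh
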