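import Cfsg.Agent.Lib.Helper27.WE2
import Cfsg.Agent.Lib.Helper27.Yosh5

/-!
# Weakly embedded subgroups: the transfer of a homomorphism stable on a strongly closed subgroup
-/

set_option autoImplicit false

namespace Cfsg.Agent.Lib.Helper27.WE

open Cfsg Cfsg.FusionSystem MulAction
open Cfsg.Agent.Lib.Helper26 Cfsg.Agent.Lib.Helper27 Cfsg.Agent.Lib.Helper27.Yosh
open Cfsg.Agent.Lib.helper17.ParkGraph (graphOf IsFGraph mem_graphOf)
open Cfsg.Agent.Lib.helper17.CB11 Cfsg.Agent.Lib.helper17.CB12 Cfsg.Agent.Lib.helper17.CB14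
  Cfsg.Agent.Lib.helper17.CB15
open Cfsg.Agent.Lib.Helper26.PPI (HasFGraphStab exists_stab_graph)
open Cfsg.Agent.Lib.Helper29.Yoshida

universe u

variable {Ω : Type u} [Group Ω] {S : Subgroup Ω}

/-- **(G')** a homomorphism stable on the strongly closed subgroup `T'` agrees on `T'`, up to a
power prime to `p`, with a homomorphism stable everywhere. -/
theorem exists_stable_power [Finite S] {p : ℕ} [Fact p.Prime] (hS : IsPGroup p S)
    (F : FusionSystem S) (hF : F.IsSaturated p) {T' : Subgroup Ω} {A : Type*} [CommGroup A]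
    (lam : S →* A)
    (hst : ∀ (P : Subgroup Ω) (φ : P →* Ω), φ ∈ F.Hom P → StabOn lam T' φ) :
    ∃ (τ : S →* A) (n : ℕ), ¬ p ∣ n ∧
      (∀ (P : Subgroup Ω) (φ : P →* Ω), φ ∈ F.Hom P → StabOn τ S φ) ∧
      ∀ s : S, (s : Ω) ∈ T' → τ s = lam s ^ n := by
  classical
  obtain ⟨X, hfin, hact, hft, hX, hstb, ⟨r0, hr⟩, hm⟩ := exists_char_biset_retraction hS F hF
  letI := actY S X
  refine ⟨(transHom lam r0 hr).comp (iotaX S X), Fintype.card (Ybar S X), hm, ?_, ?_⟩
  · intro P φ hφ x _ h1 h2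
    exact transHom_invariant F hX hstb lam r0 hr hφ x
  · intro u hu
    show transHom lam r0 hr (iotaX S X u) = lam u ^ Fintype.card (Ybar S X)
    rw [transHom_apply, trans_eq_prod_cocY]
    apply cocycle_prod_eq_pow_of_pow (cocY lam r0) (fun g h y => cocY_mul lam r0 hr g h y) u (lam u)
    intro k y hfix
    obtain ⟨R, θ, hθ, h, hval, -⟩ := cocY_of_fixed lam r0 hr F hX (u ^ k) y hfix
    rw [hval]
    have huk : (((⟨((u ^ k : S) : Ω), h⟩ : R) : Ω)) ∈ T' := by
      show ((u ^ k : S) : Ω) ∈ T'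
      rw [Subgroup.coe_pow]
      exact T'.pow_mem hu k
    have := hst R θ hθ ⟨((u ^ k : S) : Ω), h⟩ huk (apply_mem F hθ _) (u ^ k).2
    rw [this, ← map_pow]

end Cfsg.Agent.Lib.Helper27.WE
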