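import Mathlib
import Cfsg.Agent.Lib.Helper1.Nilp

/-!
# Weakly embedded subgroups: facts on finite `p`-groups
-/

set_option autoImplicit false

namespace Cfsg.Agent.Lib.Helper27.WE

open Cfsg

section GroupPart

variable {G : Type*} [Group G]

/-- between two normal subgroups `Y < X` of a finite `p`-group there is an element of `X`
outside `Y`, central modulo `Y`, with `p`-th power in `Y` -/
theorem exists_central_mod [Finite G] {p : ℕ} [Fact p.Prime] (hG : IsPGroup p G)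
    (X Y : Subgroup G) [hXn : X.Normal] [hYn : Y.Normal] (hYX : Y < X) :
    ∃ x ∈ X, x ∉ Y ∧ x ^ p ∈ Y ∧ ∀ g : G, x⁻¹ * (g * x * g⁻¹) ∈ Y := by
  have hsurj : Function.Surjective (QuotientGroup.mk' Y) := QuotientGroup.mk'_surjective Y
  have hXbn : (X.map (QuotientGroup.mk' Y)).Normal := hXn.map _ hsurj
  have hXbne : X.map (QuotientGroup.mk' Y) ≠ ⊥ := by
    intro h
    rw [Subgroup.map_eq_bot_iff, QuotientGroup.ker_mk'] at h
    exact (not_le_of_gt hYX) h
  have hQ : IsPGroup p (G ⧸ Y) := hG.to_quotient Y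
  haveI := hQ.isNilpotent
  have hZne := Cfsg.Agent.Lib.Helper1.normal_inf_center_ne_bot (X.map (QuotientGroup.mk' Y)) hXbne
  have hZp : IsPGroup p ↥(X.map (QuotientGroup.mk' Y) ⊓ Subgroup.center (G ⧸ Y)) :=
    hQ.to_subgroup _
  have hcard1 : Nat.card ↥(X.map (QuotientGroup.mk' Y) ⊓ Subgroup.center (G ⧸ Y)) ≠ 1 :=
    fun h => hZne (Subgroup.card_eq_one.mp h)
  obtain ⟨z, hz⟩ := exists_prime_orderOf_dvd_card' p (hZp.card_eq_or_dvd.resolve_left hcard1)
  have hz' : orderOf (z : G ⧸ Y) = p := by rw [Subgroup.orderOf_coe, hz]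
  obtain ⟨x0, hx0X, hx0⟩ := z.2.1
  refine ⟨x0, hx0X, ?_, ?_, ?_⟩
  · intro hxY
    have h2 : QuotientGroup.mk' Y x0 = 1 := (QuotientGroup.eq_one_iff x0).mpr hxY
    rw [hx0] at h2
    rw [h2, orderOf_one] at hz'
    exact (Fact.out : p.Prime).one_lt.ne hz'
  · rw [← QuotientGroup.eq_one_iff]
    show QuotientGroup.mk' Y (x0 ^ p) = 1
    rw [map_pow, hx0, ← hz', pow_orderOf_eq_one]
  · intro g
    have h1 : (z : G ⧸ Y) ∈ Subgroup.center (G ⧸ Y) := z.2.2
    rw [Subgroup.mem_center_iff] at h1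
    rw [← QuotientGroup.eq_one_iff]
    show QuotientGroup.mk' Y (x0⁻¹ * (g * x0 * g⁻¹)) = 1
    rw [map_mul, map_mul, map_mul, map_inv, map_inv, hx0, h1, mul_inv_cancel_right,
      inv_mul_cancel]

end GroupPart

section SubgroupPart

variable {Ω : Type*} [Group Ω] {S : Subgroup Ω}

/-- the same for subgroups of an ambient group normalized by the `p`-group `S` -/
theorem exists_central_mod' [Finite S] {p : ℕ} [Fact p.Prime] (hS : IsPGroup p S)
    {N₁ N₂ : Subgroup Ω} (h1 : S ≤ Subgroup.normalizer (N₁ : Set Ω))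
    (h2 : S ≤ Subgroup.normalizer (N₂ : Set Ω)) (h12 : N₁ < N₂) (hN₂S : N₂ ≤ S) :
    ∃ x ∈ N₂, x ∉ N₁ ∧ x ^ p ∈ N₁ ∧ ∀ g ∈ S, x⁻¹ * (g * x * g⁻¹) ∈ N₁ := by
  have hN₁S : N₁ ≤ S := h12.le.trans hN₂S
  haveI hn1 : (N₁.subgroupOf S).Normal :=
    (Subgroup.normal_subgroupOf_iff_le_normalizer hN₁S).mpr h1
  haveI hn2 : (N₂.subgroupOf S).Normal :=
    (Subgroup.normal_subgroupOf_iff_le_normalizer hN₂S).mpr h2
  have hlt : N₁.subgroupOf S < N₂.subgroupOf S := by
    refine lt_of_le_of_ne ?_ ?_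
    · intro s hs
      exact Subgroup.mem_subgroupOf.mpr (h12.le (Subgroup.mem_subgroupOf.mp hs))
    · intro h
      apply not_le_of_gt h12
      intro y hy
      have : (⟨y, hN₂S hy⟩ : S) ∈ N₂.subgroupOf S := Subgroup.mem_subgroupOf.mpr hy
      rw [← h] at this
      exact Subgroup.mem_subgroupOf.mp this
  obtain ⟨x, hx2, hx1, hxp, hxc⟩ := exists_central_mod hS (N₂.subgroupOf S) (N₁.subgroupOf S) hlt
  refine ⟨x, Subgroup.mem_subgroupOf.mp hx2, fun h => hx1 (Subgroup.mem_subgroupOf.mpr h), ?_, ?_⟩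
  · have := Subgroup.mem_subgroupOf.mp hxp
    rwa [Subgroup.coe_pow] at this
  · intro g hg
    exact Subgroup.mem_subgroupOf.mp (hxc ⟨g, hg⟩)

end SubgroupPart

end Cfsg.Agent.Lib.Helper27.WE
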