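import Cfsg.Agent.Lib.Helper27.WE3
import Cfsg.Agent.Lib.Helper27.WE4
import Cfsg.Agent.Lib.Helper27.WE5

/-!
# Weakly embedded subgroups: kernels and central elements modulo a normal subgroup
-/

set_option autoImplicit false

namespace Cfsg.Agent.Lib.Helper27.WE

open Cfsg Cfsg.FusionSystem Cfsg.Agent.Lib.Helper26 Cfsg.Agent.Lib.Helper27

universe u

variable {Ω : Type u} [Group Ω] {S : Subgroup Ω}

/-- the kernel of a homomorphism on `S`, as a subgroup of the ambient group -/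
def kerSub {C : Type*} [Group C] (lam : S →* C) : Subgroup Ω := lam.ker.map S.subtype

theorem mem_kerSub {C : Type*} [Group C] {lam : S →* C} {x : Ω} :
    x ∈ kerSub lam ↔ ∃ h : x ∈ S, lam ⟨x, h⟩ = 1 := by
  constructor
  · rintro ⟨s, hs, rfl⟩
    exact ⟨s.2, hs⟩
  · rintro ⟨h, hx⟩
    exact ⟨⟨x, h⟩, hx, rfl⟩

theorem kerSub_le {C : Type*} [Group C] (lam : S →* C) : kerSub lam ≤ S := by
  intro x hx
  exact (mem_kerSub.mp hx).1

theorem conj_mem_kerSub {C : Type*} [CommGroup C] (lam : S →* C) {g x : Ω} (hg : g ∈ S)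
    (hx : x ∈ kerSub lam) : g * x * g⁻¹ ∈ kerSub lam := by
  obtain ⟨hxS, hx1⟩ := mem_kerSub.mp hx
  have h : g * x * g⁻¹ ∈ S := S.mul_mem (S.mul_mem hg hxS) (S.inv_mem hg)
  exact mem_kerSub.mpr ⟨h, by rw [lam_conj lam hg hxS h, hx1]⟩

theorem le_normalizer_kerSub {C : Type*} [CommGroup C] (lam : S →* C) :
    S ≤ Subgroup.normalizer (kerSub lam : Set Ω) := by
  intro g hg
  refine mem_normalizer_of_forall (fun y hy => conj_mem_kerSub lam hg hy) (fun y hy => ?_)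
  have := conj_mem_kerSub lam (S.inv_mem hg) hy
  rwa [inv_inv] at this

theorem comm_mem_kerSub {C : Type*} [CommGroup C] (lam : S →* C) {g x : Ω} (hg : g ∈ S)
    (hx : x ∈ S) : x⁻¹ * (g * x * g⁻¹) ∈ kerSub lam := by
  have h : g * x * g⁻¹ ∈ S := S.mul_mem (S.mul_mem hg hx) (S.inv_mem hg)
  refine mem_kerSub.mpr ⟨S.mul_mem (S.inv_mem hx) h, ?_⟩
  have e : (⟨x⁻¹ * (g * x * g⁻¹), S.mul_mem (S.inv_mem hx) h⟩ : S)
      = (⟨x, hx⟩ : S)⁻¹ * ⟨g * x * g⁻¹, h⟩ := Subtype.ext rfl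
  rw [e, map_mul, map_inv, lam_conj lam hg hx h, inv_mul_cancel]

theorem card_kerSub_mul {C : Type*} [Group C] [Finite S] (lam : S →* C) :
    Nat.card (kerSub lam) * lam.ker.index = Nat.card S := by
  have h1 : Nat.card (kerSub lam) = Nat.card lam.ker := by
    unfold kerSub
    exact Subgroup.card_map_of_injective S.subtype_injective
  rw [h1]
  exact Subgroup.card_mul_index _

theorem le_normalizer_inf {A B : Subgroup Ω} (hA : S ≤ Subgroup.normalizer (A : Set Ω))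
    (hB : S ≤ Subgroup.normalizer (B : Set Ω)) :
    S ≤ Subgroup.normalizer ((A ⊓ B : Subgroup Ω) : Set Ω) := by
  intro g hg
  rw [Subgroup.mem_normalizer_iff]
  intro h
  have h1 := (Subgroup.mem_normalizer_iff.mp (hA hg)) h
  have h2 := (Subgroup.mem_normalizer_iff.mp (hB hg)) h
  constructor
  · rintro ⟨ha, hb⟩
    exact ⟨h1.mp ha, h2.mp hb⟩
  · rintro ⟨ha, hb⟩
    exact ⟨h1.mpr ha, h2.mpr hb⟩

theorem conj_mem_of_le_normalizer {T : Subgroup Ω} (hT : S ≤ Subgroup.normalizer (T : Set Ω))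
    {g t : Ω} (hg : g ∈ S) (ht : t ∈ T) : g * t * g⁻¹ ∈ T :=
  (Subgroup.mem_normalizer_iff.mp (hT hg) t).mp ht

theorem conj_mem_of_le_normalizer' {T : Subgroup Ω} (hT : S ≤ Subgroup.normalizer (T : Set Ω))
    {g t : Ω} (hg : g ∈ S) (ht : t ∈ T) : g⁻¹ * t * g ∈ T := by
  have := conj_mem_of_le_normalizer hT (S.inv_mem hg) ht
  rwa [inv_inv] at this

/-- the elements of `M` that are central in `S` modulo `T` -/
def centMod (S M T : Subgroup Ω) (hMS : M ≤ S) (hT : S ≤ Subgroup.normalizer (T : Set Ω)) :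
    Subgroup Ω where
  carrier := {x | x ∈ M ∧ ∀ g ∈ S, x⁻¹ * (g * x * g⁻¹) ∈ T}
  one_mem' := ⟨M.one_mem, fun g _ => by simp⟩
  mul_mem' := by
    rintro x y ⟨hx, hx'⟩ ⟨hy, hy'⟩
    refine ⟨M.mul_mem hx hy, fun g hg => ?_⟩
    have h1 := conj_mem_of_le_normalizer' hT (hMS hy) (hx' g hg)
    have e : (x * y)⁻¹ * (g * (x * y) * g⁻¹)
        = (y⁻¹ * (x⁻¹ * (g * x * g⁻¹)) * y) * (y⁻¹ * (g * y * g⁻¹)) := by group
    rw [e]
    exact T.mul_mem h1 (hy' g hg)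
  inv_mem' := by
    rintro x ⟨hx, hx'⟩
    refine ⟨M.inv_mem hx, fun g hg => ?_⟩
    have h1 := conj_mem_of_le_normalizer hT (hMS hx) (T.inv_mem (hx' g hg))
    have e : x⁻¹⁻¹ * (g * x⁻¹ * g⁻¹) = x * (x⁻¹ * (g * x * g⁻¹))⁻¹ * x⁻¹ := by group
    rw [e]
    exact h1

theorem mem_centMod {S M T : Subgroup Ω} {hMS : M ≤ S}
    {hT : S ≤ Subgroup.normalizer (T : Set Ω)} {x : Ω} :
    x ∈ centMod S M T hMS hT ↔ x ∈ M ∧ ∀ g ∈ S, x⁻¹ * (g * x * g⁻¹) ∈ T := Iff.rfl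

theorem centMod_le {S M T : Subgroup Ω} {hMS : M ≤ S}
    {hT : S ≤ Subgroup.normalizer (T : Set Ω)} : centMod S M T hMS hT ≤ M := fun _ h => h.1

theorem le_centMod {S M T : Subgroup Ω} {hMS : M ≤ S}
    {hT : S ≤ Subgroup.normalizer (T : Set Ω)} (hTM : T ≤ M) : T ≤ centMod S M T hMS hT := by
  intro t ht
  refine ⟨hTM ht, fun g hg => ?_⟩
  exact T.mul_mem (T.inv_mem ht) (conj_mem_of_le_normalizer hT hg ht)

/-- stability under all the maps of the system -/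
def FStab {C : Type*} [CommGroup C] (F : FusionSystem S) (lam : S →* C) : Prop :=
  ∀ (P : Subgroup Ω) (φ : P →* Ω), φ ∈ F.Hom P → StabOn lam S φ

theorem fstab_of_le_stabSys {C : Type*} [CommGroup C] {F : FusionSystem S} {lam : S →* C}
    (h : F ≤ stabSys F S (top_stronglyClosed F) lam) : FStab F lam :=
  fun P φ hφ => (h P hφ).2

theorem pow_injective_zmod {p : ℕ} [Fact p.Prime] {n : ℕ} (hn : ¬ p ∣ n)
    {a b : Multiplicative (ZMod p)} (h : a ^ n = b ^ n) : a = b := by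
  have hp : p.Prime := Fact.out
  have h1 : (a * b⁻¹) ^ n = 1 := by rw [mul_pow, inv_pow, h, mul_inv_cancel]
  have h2 : (a * b⁻¹) ^ p = 1 := Cfsg.Agent.Lib.Helper29.Yoshida.zmod_pow p _
  have hcop : Nat.Coprime n p := by
    rw [Nat.coprime_comm, hp.coprime_iff_not_dvd]
    exact hn
  have h4 : orderOf (a * b⁻¹) ∣ 1 := by
    rw [← Nat.Coprime.gcd_eq_one hcop]
    exact Nat.dvd_gcd (orderOf_dvd_of_pow_eq_one h1) (orderOf_dvd_of_pow_eq_one h2)
  have h5 : a * b⁻¹ = 1 := orderOf_eq_one_iff.mp (Nat.dvd_one.mp h4)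
  exact mul_inv_eq_one.mp h5

end Cfsg.Agent.Lib.Helper27.WE
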