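import Cfsg.Agent.Lib.Helper27.WE6

/-!
# Weakly embedded subgroups: every homomorphism to the group of order `p` is stable
-/

set_option autoImplicit false

namespace Cfsg.Agent.Lib.Helper27.WE

open Cfsg Cfsg.FusionSystem Cfsg.Agent.Lib.Helper26 Cfsg.Agent.Lib.Helper27

universe u

variable {Ω : Type u} [Group Ω] {S : Subgroup Ω}

set_option maxHeartbeats 1600000 in
/-- **Main step.** Under the hypotheses on weakly embedded subgroups of order `p ^ k`, every
homomorphism from `S` to the group of order `p` is stable under all the maps of the system. -/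
theorem all_stable [Finite S] {p : ℕ} [Fact p.Prime] (hS : IsPGroup p S) (F : FusionSystem S)
    (hF : F.IsSaturated p) {k : ℕ} (hW : WEmb F (p ^ k)) (hkS : p ^ k < Nat.card S)
    (hinnD : ∀ D : Subgroup Ω, F.StronglyClosed D → Nat.card D = p ^ k → InnerAbove F D)
    (lam0 : S →* Multiplicative (ZMod p)) : FStab F lam0 := by
  classical
  have hp : p.Prime := Fact.out
  by_contra hbad
  -- an extremal pair
  obtain ⟨⟨T, lam⟩, ⟨hT, hnst, hlamT⟩, hmax⟩ := exists_max_nat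
    {pr : Subgroup Ω × (S →* Multiplicative (ZMod p)) |
      F.StronglyClosed pr.1 ∧ ¬ FStab F pr.2 ∧ ∀ s : S, (s : Ω) ∈ pr.1 → pr.2 s = 1}
    ⟨(⊥, lam0), stronglyClosed_bot F, hbad, fun s hs => by
      have : s = 1 := Subtype.ext (Subgroup.mem_bot.mp hs)
      rw [this, map_one]⟩
    (fun pr => Nat.card pr.1) (Nat.card S) (fun pr hpr => card_le_card_of_le_of_finite hpr.1.1)
  simp only at hT hnst hlamT
  -- Step 2
  have step2 : ∀ P' : Subgroup Ω, F.StronglyClosed P' → T < P' →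
      ¬ (∀ (P : Subgroup Ω) (φ : P →* Ω), φ ∈ F.Hom P → StabOn lam P' φ) := by
    intro P' hP' hTP' hst
    obtain ⟨τ, n, hn, hτ, hτP'⟩ := exists_stable_power hS F hF lam hst
    let lam' : S →* Multiplicative (ZMod p) :=
      { toFun := fun s => lam s ^ n * (τ s)⁻¹
        map_one' := by simp
        map_mul' := by
          intro a b
          simp only [map_mul, mul_pow, mul_inv]
          rw [mul_mul_mul_comm] }
    have hlam'P' : ∀ s : S, (s : Ω) ∈ P' → lam' s = 1 := by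
      intro s hs
      show lam s ^ n * (τ s)⁻¹ = 1
      rw [hτP' s hs, mul_inv_cancel]
    have hnst' : ¬ FStab F lam' := by
      intro hst'
      apply hnst
      intro P φ hφ x hx h1 h2
      have e1 := hst' P φ hφ x hx h1 h2
      have e2 := hτ P φ hφ x hx h1 h2
      have e3 : lam ⟨φ x, h1⟩ ^ n * (τ ⟨φ x, h1⟩)⁻¹ = lam ⟨x, h2⟩ ^ n * (τ ⟨x, h2⟩)⁻¹ := e1
      rw [e2] at e3
      exact pow_injective_zmod hn (mul_right_cancel e3)
    have h1 := hmax (P', lam') ⟨hP', hnst', hlam'P'⟩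
    have hfin : Finite P' := finite_of_le hP'.1
    have h2 : Nat.card T < Nat.card P' := card_lt_card_of_lt hTP'
    simp only at h1
    omega
  -- Step 3
  obtain ⟨D0, hD0, -, hD0c⟩ := exists_sc_card hS F hF hW (top_stronglyClosed F) hkS.le
  have hinnS : ∀ α ∈ F.autGroup S, ∃ g ∈ S, ∀ x : S, ((α x : S) : Ω) = g * (x : Ω) * g⁻¹ :=
    hinnD D0 hD0 hD0c S hD0.1 le_rfl
  have step3 : Nat.card T < p ^ k := by
    by_contra hge
    obtain ⟨D, hD, hDT, hDc⟩ := exists_sc_card hS F hF hW hT (not_lt.mp hge)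
    exact hnst (fstab_of_le_stabSys (stab_of_innerAbove hS F hF hD lam
      (fun s hs => hlamT s (hDT hs)) (hinnD D hD hDc)))
  -- Step 4
  have step4 : ∀ P' : Subgroup Ω, F.StronglyClosed P' → T < P' →
      ¬ (∀ x ∈ P', ∀ g ∈ S, x⁻¹ * (g * x * g⁻¹) ∈ T) := by
    intro P' hP' hTP' hcomm
    apply step2 P' hP' hTP'
    intro P φ hφ
    exact ((stab_of_comm_le hS F hF hT hP' lam hlamT hinnS hcomm) P hφ).2
  -- the kernel
  obtain ⟨M, hM⟩ : ∃ M : Subgroup Ω, M = kerSub lam := ⟨_, rfl⟩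
  have hMS : M ≤ S := hM ▸ kerSub_le lam
  have hTM : T ≤ M := fun t ht => by
    rw [hM]
    exact mem_kerSub.mpr ⟨hT.1 ht, hlamT ⟨t, hT.1 ht⟩ ht⟩
  have hMn : S ≤ Subgroup.normalizer (M : Set Ω) := hM ▸ le_normalizer_kerSub lam
  have hTn := le_normalizer_of_sc F hT
  have hMcard : p ^ k ≤ Nat.card M := by
    have h1 := card_kerSub_mul lam
    rw [← hM] at h1
    have h2 : lam.ker.index ≤ p := by
      rw [Subgroup.index_ker]
      calc Nat.card lam.range ≤ Nat.card (Multiplicative (ZMod p)) :=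
            Subgroup.card_le_card_group _
        _ = p := by
            rw [Nat.card_congr Multiplicative.toAdd, Nat.card_eq_fintype_card]
            exact ZMod.card p
    obtain ⟨n, hn⟩ := IsPGroup.iff_card.mp hS
    rw [hn] at hkS h1
    have hkn : k < n := (Nat.pow_lt_pow_iff_right hp.one_lt).mp hkS
    have h3 : p ^ (k + 1) ≤ p ^ n := Nat.pow_le_pow_right hp.pos hkn
    have h4 : Nat.card M * lam.ker.index ≤ Nat.card M * p := Nat.mul_le_mul_left _ h2
    rw [pow_succ] at h3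
    have h5 : p ^ k * p ≤ Nat.card M * p :=
      calc p ^ k * p ≤ p ^ n := h3
        _ = Nat.card M * lam.ker.index := h1.symm
        _ ≤ Nat.card M * p := h4
    exact Nat.le_of_mul_le_mul_right h5 hp.pos
  have hscM : ∀ P'' : Subgroup Ω, F.StronglyClosed P'' → T ≤ P'' → P'' ≤ M → P'' = T := by
    intro P'' hP'' hTP'' hP''M
    by_contra hne
    apply step2 P'' hP'' (lt_of_le_of_ne hTP'' (Ne.symm hne))
    intro P φ hφ x hx h1 h2
    have e1 : φ x ∈ kerSub lam := hM ▸ hP''M (apply_mem_of_stronglyClosed F hP'' hφ x hx)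
    have e2 : (x : Ω) ∈ kerSub lam := hM ▸ hP''M hx
    obtain ⟨_, e1'⟩ := mem_kerSub.mp e1
    obtain ⟨_, e2'⟩ := mem_kerSub.mp e2
    rw [e1', e2']
  have step4' : ∀ P' : Subgroup Ω, F.StronglyClosed P' → T < P' → T < P' ⊓ M := by
    intro P' hP' hTP'
    refine lt_of_le_of_ne (le_inf hTP'.le hTM) (fun heq => ?_)
    apply step4 P' hP' hTP'
    intro x hx g hg
    rw [heq]
    refine ⟨?_, hM ▸ comm_mem_kerSub lam hg (hP'.1 hx)⟩
    exact P'.mul_mem (P'.inv_mem hx) (conj_mem_of_stronglyClosed F hP' hg hx)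
  have common : ∀ Q : Subgroup Ω, T ≤ Q → Q ≤ M → Nat.card Q = p ^ k →
      ∃ P' : Subgroup Ω, F.StronglyClosed P' ∧ T < P' ∧ Q ⊓ P' = T ∧
        F.StronglyClosed (Q ⊔ P') := by
    intro Q hTQ hQM hQc
    have hQS : Q ≤ S := hQM.trans hMS
    obtain ⟨P, hP, hQP, hQiP⟩ := hW Q hQS hQc
    have h1 : (Q ⊓ P) ⊔ T = T := hscM _ (sc_sup hS F hF hQiP hT) le_sup_right
      (sup_le (inf_le_left.trans hQM) hTM)
    have hQiPT : Q ⊓ P ≤ T := by
      rw [← h1]
      exact le_sup_left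
    have hP' : F.StronglyClosed (P ⊔ T) := sc_sup hS F hF hP hT
    have hinf : Q ⊓ (P ⊔ T) = T := by
      apply le_antisymm
      · rintro x ⟨hxQ, hxPT⟩
        obtain ⟨y, hy, t, ht, rfl⟩ := exists_mul_of_mem_sup_sc F hP.1 hT hxPT
        have hyQ : y ∈ Q := by
          have := Q.mul_mem hxQ (Q.inv_mem (hTQ ht))
          rwa [mul_inv_cancel_right] at this
        exact T.mul_mem (hQiPT ⟨hyQ, hy⟩) ht
      · exact le_inf hTQ le_sup_right
    have hsup : Q ⊔ (P ⊔ T) = Q ⊔ P := by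
      rw [sup_comm P T, ← sup_assoc, sup_eq_left.mpr hTQ]
    refine ⟨P ⊔ T, hP', lt_of_le_of_ne le_sup_right (fun heq => ?_), hinf, hsup ▸ hQP⟩
    have hPT : P ≤ T := by
      rw [heq]
      exact le_sup_left
    have hQsc : F.StronglyClosed Q := by
      have : Q ⊔ P = Q := sup_eq_left.mpr (hPT.trans hTQ)
      rw [this] at hQP
      exact hQP
    have := hscM Q hQsc hTQ hQM
    rw [this] at hQc
    omega
  obtain ⟨Z, hZ⟩ : ∃ Z : Subgroup Ω, Z = centMod S M T hMS hTn := ⟨_, rfl⟩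
  have hTZ : T ≤ Z := hZ ▸ le_centMod hTM
  have hZM : Z ≤ M := hZ ▸ centMod_le
  have hmemZ : ∀ x : Ω, x ∈ M → (∀ g ∈ S, x⁻¹ * (g * x * g⁻¹) ∈ T) → x ∈ Z := by
    intro x h1 h2
    rw [hZ]
    exact ⟨h1, h2⟩
  have hZcomm : ∀ x ∈ Z, ∀ g ∈ S, x⁻¹ * (g * x * g⁻¹) ∈ T := by
    intro x hx
    rw [hZ] at hx
    exact hx.2
  have hfinM : Finite M := finite_of_le hMS
  have hZS : Z ≤ S := hZM.trans hMS
  have hfinZ : Finite Z := finite_of_le hZS
  by_cases hZc : Nat.card Z ≤ p ^ k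
  · obtain ⟨Q, hZQ, hQM, hQc⟩ := exists_between (hS.to_le hMS) hZM hZc hMcard
    obtain ⟨P', hP', hTP', hinf, -⟩ := common Q (hTZ.trans hZQ) hQM hQc
    have hlt := step4' P' hP' hTP'
    obtain ⟨x, hx2, hx1, -, hxc⟩ := exists_central_mod' hS hTn
      (le_normalizer_inf (le_normalizer_of_sc F hP') hMn) hlt (inf_le_right.trans hMS)
    apply hx1
    rw [← hinf]
    exact ⟨hZQ (hmemZ x hx2.2 hxc), hx2.1⟩
  · push Not at hZc
    have hTneS : T ≠ S := by
      intro h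
      rw [h] at step3
      omega
    obtain ⟨T', ⟨hT', hTT'⟩, hT'min⟩ := exists_min_nat
      {P' : Subgroup Ω | F.StronglyClosed P' ∧ T < P'}
      ⟨S, top_stronglyClosed F, lt_of_le_of_ne hT.1 hTneS⟩ (fun P' => Nat.card P')
    have hlt := step4' T' hT' hTT'
    obtain ⟨z, hz2, hz1, -, hzc⟩ := exists_central_mod' hS hTn
      (le_normalizer_inf (le_normalizer_of_sc F hT') hMn) hlt (inf_le_right.trans hMS)
    have hzZ : z ∈ Z := hmemZ z hz2.2 hzc
    have hexQ : ∃ Q : Subgroup Ω, T ≤ Q ∧ Q ≤ Z ∧ Nat.card Q = p ^ k ∧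
        ∃ z' ∈ Q, z' ∈ T' ∧ z' ∉ T := by
      by_cases hN : p ^ k ≤ Nat.card ↥(T' ⊓ Z)
      · have hfinN : Finite ↥(T' ⊓ Z) := finite_of_le (inf_le_right.trans hZS)
        obtain ⟨Q, hTQ, hQN, hQc⟩ := exists_between (hS.to_le (inf_le_right.trans hZS))
          (le_inf hTT'.le hTZ) step3.le hN
        have hnle : ¬ Q ≤ T := by
          intro hle
          have hfinT : Finite T := finite_of_le hT.1
          have := Nat.card_le_card_of_injective (Subgroup.inclusion hle)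
            (Subgroup.inclusion_injective hle)
          omega
        obtain ⟨z', hz'Q, hz'T⟩ := SetLike.not_le_iff_exists.mp hnle
        exact ⟨Q, hTQ, hQN.trans inf_le_right, hQc, z', hz'Q, (hQN hz'Q).1, hz'T⟩
      · push Not at hN
        obtain ⟨Q, hNQ, hQZ, hQc⟩ := exists_between (hS.to_le hZS) (inf_le_right : T' ⊓ Z ≤ Z)
          hN.le hZc.le
        exact ⟨Q, (le_inf hTT'.le hTZ).trans hNQ, hQZ, hQc, z, hNQ ⟨hz2.1, hzZ⟩, hz2.1, hz1⟩
    obtain ⟨Q, hTQ, hQZ, hQc, z', hz'Q, hz'T', hz'T⟩ := hexQ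
    have hQS : Q ≤ S := hQZ.trans hZS
    obtain ⟨P', hP', hTP', hinf, hQP'⟩ := common Q hTQ (hQZ.trans hZM) hQc
    have hfinT' : Finite T' := finite_of_le hT'.1
    have hT'le : T' ≤ Q ⊔ P' := by
      have hsc : F.StronglyClosed (T' ⊓ (Q ⊔ P')) := sc_inf F hT' hQP'
      have hlt' : T < T' ⊓ (Q ⊔ P') := by
        refine lt_of_le_of_ne (le_inf hTT'.le (hTQ.trans le_sup_left)) (fun heq => hz'T ?_)
        rw [heq]
        exact ⟨hz'T', Subgroup.mem_sup_left hz'Q⟩
      have h1 := hT'min _ ⟨hsc, hlt'⟩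
      have h2 : T' ⊓ (Q ⊔ P') = T' := Subgroup.eq_of_le_of_card_ge inf_le_left h1
      rw [← h2]
      exact inf_le_right
    have hT'P' : T' ⊓ P' = T := by
      by_contra hne
      have hlt' : T < T' ⊓ P' := lt_of_le_of_ne (le_inf hTT'.le hTP'.le) (Ne.symm hne)
      have h1 := hT'min _ ⟨sc_inf F hT' hP', hlt'⟩
      have h2 : T' ⊓ P' = T' := Subgroup.eq_of_le_of_card_ge inf_le_left h1
      apply hz'T
      rw [← hinf]
      refine ⟨hz'Q, ?_⟩
      have : z' ∈ T' ⊓ P' := by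
        rw [h2]
        exact hz'T'
      exact this.2
    apply step4 T' hT' hTT'
    intro x hx g hg
    rw [← hT'P']
    refine ⟨T'.mul_mem (T'.inv_mem hx) (conj_mem_of_stronglyClosed F hT' hg hx), ?_⟩
    obtain ⟨q, hq, y, hy, rfl⟩ := exists_mul_of_mem_sup_sc F hQS hP' (hT'le hx)
    have ht : q⁻¹ * (g * q * g⁻¹) ∈ T := hZcomm q (hQZ hq) g hg
    have e : (q * y)⁻¹ * (g * (q * y) * g⁻¹)
        = y⁻¹ * (q⁻¹ * (g * q * g⁻¹)) * (g * y * g⁻¹) := by group
    rw [e]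
    exact P'.mul_mem (P'.mul_mem (P'.inv_mem hy) (hTP'.le ht))
      (conj_mem_of_stronglyClosed F hP' hg hy)

end Cfsg.Agent.Lib.Helper27.WE
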