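import Cfsg.Agent.Lib.Helper27.WE7
import Cfsg.Agent.Lib.Helper26.TateD
import Cfsg.Agent.Lib.Helper5.PGroup

/-!
# Weakly embedded subgroups: a system for which all homomorphisms to the group of order `p`
are stable is inner
-/

set_option autoImplicit false

namespace Cfsg.Agent.Lib.Helper27.WE

open Cfsg Cfsg.FusionSystem Cfsg.Agent.Lib.Helper26 Cfsg.Agent.Lib.Helper27
open scoped commutatorElement

universe u

variable {Ω : Type u} [Group Ω] {S : Subgroup Ω}

/-- separation of the elements outside the Frattini subgroup of a finite `p`-group -/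
theorem exists_hom_ne_one {G : Type*} [Group G] [Finite G] {p : ℕ} [Fact p.Prime]
    (hG : IsPGroup p G) {y : G} (hy : y ∉ frattini G) :
    ∃ lam : G →* Multiplicative (ZMod p), lam y ≠ 1 := by
  have hcomm : ∀ a b : G ⧸ frattini G, a * b = b * a := by
    intro a b
    obtain ⟨a, rfl⟩ := QuotientGroup.mk_surjective a
    obtain ⟨b, rfl⟩ := QuotientGroup.mk_surjective b
    rw [← QuotientGroup.mk_mul, ← QuotientGroup.mk_mul, QuotientGroup.eq]
    apply Cfsg.Agent.Lib.Helper1.pgroup_commutator_le_frattini hG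
    have e : (a * b)⁻¹ * (b * a) = ⁅b⁻¹, a⁻¹⁆ := by
      rw [commutatorElement_def]
      group
    rw [e, commutator_def]
    exact Subgroup.commutator_mem_commutator (Subgroup.mem_top _) (Subgroup.mem_top _)
  letI : CommGroup (G ⧸ frattini G) :=
    { (QuotientGroup.Quotient.group (frattini G)) with mul_comm := hcomm }
  have hexp : ∀ a : G ⧸ frattini G, a ^ p = 1 := by
    intro a
    obtain ⟨a, rfl⟩ := QuotientGroup.mk_surjective a
    rw [← QuotientGroup.mk_pow, QuotientGroup.eq_one_iff]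
    exact Cfsg.Agent.Lib.Helper5.h5_pgroup_pow_mem_frattini hG a
  have hne : (QuotientGroup.mk y : G ⧸ frattini G) ≠ 1 := by
    intro h
    exact hy ((QuotientGroup.eq_one_iff y).mp h)
  obtain ⟨χ, hχ⟩ := Cfsg.Agent.Lib.Helper29.Yoshida.sep hexp _ hne
  exact ⟨χ.comp (QuotientGroup.mk' (frattini G)), hχ⟩

/-- if every homomorphism to the group of order `p` is stable, the system is inner -/
theorem inner_of_all_stable [Finite S] {p : ℕ} [Fact p.Prime] (hS : IsPGroup p S)
    (F : FusionSystem S) (hF : F.IsSaturated p)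
    (h : ∀ lam : S →* Multiplicative (ZMod p), FStab F lam) :
    ∀ P : Subgroup Ω, F.Hom P = (innerFusionSystem S).Hom P := by
  apply Cfsg.Agent.Lib.Helper26.Tate.inner_of_hyp_eq_bot hS F hF
  apply Cfsg.Agent.Lib.Helper26.Tate.hyp_eq_of_le_frattini_sup hS F hF ⊥ ?_ bot_le ?_
  · intro s _
    rw [Subgroup.mem_normalizer_iff]
    intro x
    simp only [Subgroup.mem_bot]
    constructor
    · intro hx
      rw [hx]
      group
    · intro hx
      have : x = s⁻¹ * (s * x * s⁻¹) * s := by group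
      rw [this, hx]
      group
  · rw [sup_bot_eq]
    unfold FusionSystem.hyperfocalSubgroup
    rw [Subgroup.closure_le]
    rintro _ ⟨P, α, x, hPS, -, rfl⟩
    have hφ : P.subtype.comp (α : MulAut P).toMonoidHom ∈ F.Hom P :=
      (mem_autGroup_iff F hPS).mp α.2
    have hxS : (x : Ω) ∈ S := hPS x.2
    have hαS : (((α : MulAut P) x : P) : Ω) ∈ S := hPS ((α : MulAut P) x).2
    have hyS : (x : Ω)⁻¹ * (((α : MulAut P) x : P) : Ω) ∈ S := S.mul_mem (S.inv_mem hxS) hαS
    by_contra hnot
    have hnot' : (⟨_, hyS⟩ : S) ∉ frattini ↥S := by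
      intro hmem
      exact hnot ⟨_, hmem, rfl⟩
    obtain ⟨lam, hlam⟩ := exists_hom_ne_one hS hnot'
    apply hlam
    have e := h lam P _ hφ x hxS hαS hxS
    have e2 : (⟨_, hyS⟩ : S) = (⟨x, hxS⟩ : S)⁻¹ * ⟨(((α : MulAut P) x : P) : Ω), hαS⟩ :=
      Subtype.ext rfl
    rw [e2, map_mul, map_inv]
    have e3 : lam ⟨(((α : MulAut P) x : P) : Ω), hαS⟩ = lam ⟨x, hxS⟩ := e
    rw [e3, inv_mul_cancel]

end Cfsg.Agent.Lib.Helper27.WE
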