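import Cfsg.Agent.Lib.Helper27.TCDCerts
import Cfsg.Agent.Lib.Helper22.BaerSuzuki
import Cfsg.Agent.Lib.Helper1.Cores

/-!
Width one (helper27): a finite group generated by a conjugation-invariant set `D` of involutions such
that every product of two members of `D` has order dividing 3 is the product of a normal 3-subgroup
with a group of order 2.  The case of four generators is a coset enumeration (`TCDCerts`), the general
case follows with the theorem of Baer and Suzuki.
-/

set_option autoImplicit false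

namespace Cfsg.Agent.Lib.Helper27.W1

open Cfsg.Agent.Lib.Helper27.TCD

section Gen

variable {G : Type*} [Group G] (D : Set G)

/-- the hypotheses on the class -/
structure CubeClass : Prop where
  sq : ∀ d ∈ D, d * d = 1
  conj : ∀ g : G, ∀ d ∈ D, g * d * g⁻¹ ∈ D
  cube : ∀ d ∈ D, ∀ e ∈ D, (d * e) ^ 3 = 1

variable {D}

theorem dword_mem (hD : CubeClass D) (v : ℕ → G) (hv : ∀ i, v i ∈ D) (n q : ℕ) :
    wprod v (dword n q) ∈ D := by
  unfold dword
  cases Nat.blt q n with
  | true =>
    show wprod v [q] ∈ D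
    rw [wprod_cons, wprod_nil, mul_one]
    exact hv q
  | false =>
    show wprod v [_, _, _] ∈ D
    rw [wprod_cons, wprod_cons, wprod_cons, wprod_nil, mul_one]
    set g := v (Nat.mod (Nat.sub q n) n) with hg
    set x := v (Nat.div (Nat.sub q n) n) with hx
    have hginv : g⁻¹ = g := inv_eq_of_mul_eq_one_left (hD.sq g (hv _))
    have := hD.conj g x (hv _)
    rw [hginv, mul_assoc] at this
    exact this

theorem relator_one (hD : CubeClass D) (v : ℕ → G) (hv : ∀ i, v i ∈ D) (n ρ : ℕ) :
    wprod v (relator n ρ) = 1 := by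
  unfold relator
  show wprod v (_ ++ (_ ++ _)) = 1
  simp only [wprod_append]
  have h1 := dword_mem hD v hv n (Nat.div ρ (Nat.add n (Nat.mul n n)))
  have h2 := dword_mem hD v hv n (Nat.mod ρ (Nat.add n (Nat.mul n n)))
  have := hD.cube _ h1 _ h2
  rw [pow_succ, pow_two, mul_assoc] at this
  exact this

end Gen

section Card

variable {G : Type*} [Group G] [Finite G] {D : Set G}

/-- three generators: the order divides 54 -/
theorem card_dvd_three (hD : CubeClass D) {a b c : G} (ha : a ∈ D) (hb : b ∈ D) (hc : c ∈ D)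
    (hgen : Subgroup.closure {a, b, c} = ⊤) : Nat.card G ∣ 54 := by
  classical
  let v : ℕ → G := fun i => if i = 0 then a else if i = 1 then b else c
  have hv : ∀ i, v i ∈ D := by
    intro i
    show (if i = 0 then a else if i = 1 then b else c) ∈ D
    split_ifs <;> assumption
  have hinv : ∀ s, v s * v s = 1 := fun s => hD.sq _ (hv s)
  have hrel : ∀ ρ, wprod v (relator cert3.n ρ) = 1 := fun ρ => relator_one hD v hv _ ρ
  have hsub : ∀ l < cert3.nsub, v l ∈ Subgroup.zpowers a := by
    intro l hl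
    have : l = 0 := by
      have : cert3.nsub = 1 := rfl
      omega
    rw [this]
    show (if (0:ℕ) = 0 then a else _) ∈ _
    rw [if_pos rfl]
    exact Subgroup.mem_zpowers a
  have hgen' : Subgroup.closure {y | ∃ g < cert3.n, y = v g} = ⊤ := by
    rw [eq_top_iff, ← hgen]
    apply Subgroup.closure_mono
    intro y hy
    rcases hy with rfl | rfl | rfl
    · exact ⟨0, by decide, rfl⟩
    · exact ⟨1, by decide, rfl⟩
    · exact ⟨2, by decide, rfl⟩
  have hidx := index_dvd (Subgroup.zpowers a) v cert3 hinv hrel hsub cert3_ok hgen'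
  have hN : cert3.N = 27 := rfl
  rw [hN] at hidx
  have hcard : Nat.card (Subgroup.zpowers a) ∣ 2 := by
    rw [Nat.card_zpowers]
    apply orderOf_dvd_of_pow_eq_one
    rw [pow_two]
    exact hD.sq a ha
  have := Subgroup.card_mul_index (Subgroup.zpowers a)
  rw [← this]
  exact Nat.mul_dvd_mul hcard hidx

/-- four generators: the order divides `2 * 3 ^ 10` -/
theorem card_dvd_four (hD : CubeClass D) {a b c d : G} (ha : a ∈ D) (hb : b ∈ D) (hc : c ∈ D)
    (hd : d ∈ D) (hgen : Subgroup.closure {a, b, c, d} = ⊤) : Nat.card G ∣ 2 * 3 ^ 10 := by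
  classical
  let v : ℕ → G := fun i => if i = 0 then a else if i = 1 then b else if i = 2 then c else d
  have hv : ∀ i, v i ∈ D := by
    intro i
    show (if i = 0 then a else if i = 1 then b else if i = 2 then c else d) ∈ D
    split_ifs <;> assumption
  have hinv : ∀ s, v s * v s = 1 := fun s => hD.sq _ (hv s)
  have hrel : ∀ ρ, wprod v (relator cert4.n ρ) = 1 := fun ρ => relator_one hD v hv _ ρ
  set H : Subgroup G := Subgroup.closure {a, b, c} with hH
  have hsub : ∀ l < cert4.nsub, v l ∈ H := by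
    intro l hl
    have h3 : cert4.nsub = 3 := rfl
    have hl' : l = 0 ∨ l = 1 ∨ l = 2 := by omega
    rcases hl' with rfl | rfl | rfl
    · exact Subgroup.subset_closure (by simp [v])
    · exact Subgroup.subset_closure (by simp [v])
    · exact Subgroup.subset_closure (by simp [v])
  have hgen' : Subgroup.closure {y | ∃ g < cert4.n, y = v g} = ⊤ := by
    rw [eq_top_iff, ← hgen]
    apply Subgroup.closure_mono
    intro y hy
    rcases hy with rfl | rfl | rfl | rfl
    · exact ⟨0, by decide, rfl⟩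
    · exact ⟨1, by decide, rfl⟩
    · exact ⟨2, by decide, rfl⟩
    · exact ⟨3, by decide, rfl⟩
  have hidx := index_dvd H v cert4 hinv hrel hsub cert4_ok hgen'
  have hN : cert4.N = 2187 := rfl
  rw [hN] at hidx
  -- the subgroup
  have hcardH : Nat.card H ∣ 54 := by
    let DH : Set H := {x | (x : G) ∈ D}
    have hDH : CubeClass DH := by
      refine ⟨?_, ?_, ?_⟩
      · intro x hx
        apply Subtype.ext
        exact hD.sq _ hx
      · intro g x hx
        exact hD.conj _ _ hx
      · intro x hx y hy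
        apply Subtype.ext
        exact hD.cube _ hx _ hy
    have haH : a ∈ H := Subgroup.subset_closure (by simp)
    have hbH : b ∈ H := Subgroup.subset_closure (by simp)
    have hcH : c ∈ H := Subgroup.subset_closure (by simp)
    refine card_dvd_three (G := H) hDH (a := ⟨a, haH⟩) (b := ⟨b, hbH⟩) (c := ⟨c, hcH⟩) ha hb hc ?_
    have hmap : (Subgroup.closure ({⟨a, haH⟩, ⟨b, hbH⟩, ⟨c, hcH⟩} : Set H)).map H.subtype = H := by
      rw [MonoidHom.map_closure]
      have : (H.subtype '' ({⟨a, haH⟩, ⟨b, hbH⟩, ⟨c, hcH⟩} : Set H)) = {a, b, c} := by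
        simp [Set.image_insert_eq]
      rw [this]
    rw [eq_top_iff]
    rintro ⟨x, hx⟩ -
    have hx' : x ∈ (Subgroup.closure ({⟨a, haH⟩, ⟨b, hbH⟩, ⟨c, hcH⟩} : Set H)).map H.subtype := by
      rw [hmap]; exact hx
    obtain ⟨y, hy, hyx⟩ := hx'
    have : y = ⟨x, hx⟩ := Subtype.ext hyx
    rw [← this]; exact hy
  have := Subgroup.card_mul_index H
  rw [← this]
  have h54 : (2 * 3 ^ 10 : ℕ) = 54 * 2187 := by norm_num
  rw [h54]
  exact Nat.mul_dvd_mul hcardH hidx

/-- two products of members of `D` lie in a common Sylow 3-subgroup -/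
theorem exists_sylow_pair (hD : CubeClass D) {e f e' f' : G} (he : e ∈ D) (hf : f ∈ D)
    (he' : e' ∈ D) (hf' : f' ∈ D) :
    ∃ R : Sylow 3 G, e * f ∈ (R : Subgroup G) ∧ e' * f' ∈ (R : Subgroup G) := by
  classical
  have : Fact (Nat.Prime 3) := ⟨Nat.prime_three⟩
  set K : Subgroup G := Subgroup.closure {e, f, e', f'} with hK
  have heK : e ∈ K := Subgroup.subset_closure (by simp)
  have hfK : f ∈ K := Subgroup.subset_closure (by simp)
  have he'K : e' ∈ K := Subgroup.subset_closure (by simp)
  have hf'K : f' ∈ K := Subgroup.subset_closure (by simp)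
  let DK : Set K := {x | (x : G) ∈ D}
  have hDK : CubeClass DK := by
    refine ⟨?_, ?_, ?_⟩
    · intro x hx
      apply Subtype.ext
      exact hD.sq _ hx
    · intro g x hx
      exact hD.conj _ _ hx
    · intro x hx y hy
      apply Subtype.ext
      exact hD.cube _ hx _ hy
  have hgenK : Subgroup.closure ({⟨e, heK⟩, ⟨f, hfK⟩, ⟨e', he'K⟩, ⟨f', hf'K⟩} : Set K) = ⊤ := by
    have hmap : (Subgroup.closure ({⟨e, heK⟩, ⟨f, hfK⟩, ⟨e', he'K⟩, ⟨f', hf'K⟩} : Set K)).map
        K.subtype = K := by
      rw [MonoidHom.map_closure]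
      have : (K.subtype '' ({⟨e, heK⟩, ⟨f, hfK⟩, ⟨e', he'K⟩, ⟨f', hf'K⟩} : Set K)) =
          {e, f, e', f'} := by
        simp [Set.image_insert_eq]
      rw [this]
    rw [eq_top_iff]
    rintro ⟨x, hx⟩ -
    have hx' : x ∈ (Subgroup.closure
        ({⟨e, heK⟩, ⟨f, hfK⟩, ⟨e', he'K⟩, ⟨f', hf'K⟩} : Set K)).map K.subtype := by
      rw [hmap]; exact hx
    obtain ⟨y, hy, hyx⟩ := hx'
    have : y = ⟨x, hx⟩ := Subtype.ext hyx
    rw [← this]; exact hy
  have hcard : Nat.card K ∣ 2 * 3 ^ 10 :=
    card_dvd_four (G := K) hDK (a := ⟨e, heK⟩) (b := ⟨f, hfK⟩) (c := ⟨e', he'K⟩) (d := ⟨f', hf'K⟩)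
      he hf he' hf' hgenK
  -- a Sylow 3-subgroup of `K` has index at most 2
  obtain Q : Sylow 3 K := default
  have hQidx : (Q : Subgroup K).index ∣ 2 := by
    have h1 : (Q : Subgroup K).index ∣ Nat.card K := Subgroup.index_dvd_card _
    have h2 : ¬ 3 ∣ (Q : Subgroup K).index := Sylow.not_dvd_index Q
    have h3 : (Q : Subgroup K).index ∣ 2 * 3 ^ 10 := dvd_trans h1 hcard
    have hcop : Nat.Coprime (Q : Subgroup K).index (3 ^ 10) :=
      Nat.Coprime.pow_right _ ((Nat.Prime.coprime_iff_not_dvd Nat.prime_three).mpr h2).symm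
    exact hcop.dvd_of_dvd_mul_right h3
  have hQnorm : (Q : Subgroup K).Normal := by
    have h2 : (Q : Subgroup K).index = 1 ∨ (Q : Subgroup K).index = 2 :=
      (Nat.dvd_prime Nat.prime_two).mp hQidx
    rcases h2 with h2 | h2
    · rw [Subgroup.index_eq_one] at h2
      rw [h2]; infer_instance
    · exact Subgroup.normal_of_index_eq_two h2
  -- elements of order dividing 3 lie in `Q`
  have hmem : ∀ x : K, x ^ 3 = 1 → x ∈ (Q : Subgroup K) := by
    intro x hx
    have hz : IsPGroup 3 (Subgroup.zpowers x) := by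
      rw [IsPGroup.iff_card, Nat.card_zpowers]
      have : orderOf x ∣ 3 ^ 1 := by
        rw [pow_one]; exact orderOf_dvd_of_pow_eq_one hx
      obtain ⟨k, -, hk⟩ := (Nat.dvd_prime_pow Nat.prime_three).mp this
      exact ⟨k, hk⟩
    obtain ⟨Q', hQ'⟩ := hz.exists_le_sylow
    obtain ⟨g, hg⟩ := MulAction.exists_smul_eq K Q Q'
    have : Q' = Q := by
      rw [← hg]
      exact Sylow.smul_eq_of_normal
    rw [← this]
    exact hQ' (Subgroup.mem_zpowers x)
  have hx1 : (⟨e * f, K.mul_mem heK hfK⟩ : K) ∈ (Q : Subgroup K) := by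
    apply hmem
    apply Subtype.ext
    exact hD.cube _ he _ hf
  have hx2 : (⟨e' * f', K.mul_mem he'K hf'K⟩ : K) ∈ (Q : Subgroup K) := by
    apply hmem
    apply Subtype.ext
    exact hD.cube _ he' _ hf'
  -- move to `G`
  have hQG : IsPGroup 3 ((Q : Subgroup K).map K.subtype) := Q.isPGroup'.map _
  obtain ⟨R, hR⟩ := hQG.exists_le_sylow
  exact ⟨R, hR ⟨_, hx1, rfl⟩, hR ⟨_, hx2, rfl⟩⟩

/-- **Width one.**  A finite group generated by a conjugation-invariant set `D` of involutions in which
every product of two members has order dividing 3 is generated by any member of `D` together with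
`O_3(G)`. -/
theorem width_one (hD : CubeClass D) (hgen : Subgroup.closure D = ⊤) {d : G} (hd : d ∈ D) :
    Subgroup.zpowers d ⊔ Cfsg.pCore 3 G = ⊤ := by
  classical
  have : Fact (Nat.Prime 3) := ⟨Nat.prime_three⟩
  let I : Set G := {x | ∃ e ∈ D, ∃ f ∈ D, x = e * f}
  have hIconj : ∀ x ∈ I, ∀ g : G, g * x * g⁻¹ ∈ I := by
    rintro x ⟨e, he, f, hf, rfl⟩ g
    refine ⟨g * e * g⁻¹, hD.conj g e he, g * f * g⁻¹, hD.conj g f hf, ?_⟩
    group
  have hpair : ∀ x ∈ I, ∀ y ∈ I, ∃ R : Sylow 3 G, x ∈ (R : Subgroup G) ∧ y ∈ (R : Subgroup G) := by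
    rintro x ⟨e, he, f, hf, rfl⟩ y ⟨e', he', f', hf', rfl⟩
    exact exists_sylow_pair hD he hf he' hf'
  set T : Subgroup G := Subgroup.closure I with hT
  have hTnorm : T.Normal := by
    constructor
    intro n hn g
    refine Subgroup.closure_induction (p := fun n _ => g * n * g⁻¹ ∈ T) ?_ ?_ ?_ ?_ hn
    · intro x hx
      exact Subgroup.subset_closure (hIconj x hx g)
    · rw [mul_one, mul_inv_cancel]; exact T.one_mem
    · intro a b _ _ ha hb
      have : g * (a * b) * g⁻¹ = (g * a * g⁻¹) * (g * b * g⁻¹) := by group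
      rw [this]; exact T.mul_mem ha hb
    · intro a _ ha
      have : g * a⁻¹ * g⁻¹ = (g * a * g⁻¹)⁻¹ := by group
      rw [this]; exact T.inv_mem ha
  have hTp : IsPGroup 3 T := by
    obtain P : Sylow 3 G := default
    have hIP := Cfsg.Agent.Lib.Helper22.baer_suzuki 3 I hIconj hpair P
    have hTP : T ≤ (P : Subgroup G) := by
      rw [hT, Subgroup.closure_le]; exact hIP
    exact P.isPGroup'.to_le hTP
  have hTle : T ≤ Cfsg.pCore 3 G := Cfsg.Agent.Lib.Helper1.le_pCore hTnorm hTp
  rw [eq_top_iff, ← hgen, Subgroup.closure_le]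
  intro e he
  have h1 : e = d * (d * e) := by
    rw [← mul_assoc, hD.sq d hd, one_mul]
  rw [h1]
  apply Subgroup.mul_mem
  · exact Subgroup.mem_sup_left (Subgroup.mem_zpowers d)
  · exact Subgroup.mem_sup_right (hTle (Subgroup.subset_closure ⟨d, hd, e, he, rfl⟩))

end Card

end Cfsg.Agent.Lib.Helper27.W1
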