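import Mathlib
import Cfsg.Agent.Lib.Helper27.AbAut

set_option autoImplicit false

namespace Cfsg.Agent.Lib.Helper27.XsLocal

open Cfsg.Agent.Lib.Helper27.AbAut

section comm

variable {R : Type*} [CommGroup R]

/-- fixed points of an automorphism -/
def fx (φ : MulAut R) : Subgroup R := (df φ).ker

/-- commutator subgroup `[R, φ]` of an automorphism -/
def cm (φ : MulAut R) : Subgroup R := (df φ).range

theorem mem_fx {φ : MulAut R} {x : R} : x ∈ fx φ ↔ φ x = x := by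
  rw [fx, MonoidHom.mem_ker, df_apply, mul_inv_eq_one]

theorem mem_cm {φ : MulAut R} {x : R} : x ∈ cm φ ↔ ∃ y, φ y * y⁻¹ = x := by
  rw [cm, MonoidHom.mem_range]
  rfl

theorem df_mem_cm (φ : MulAut R) (x : R) : φ x * x⁻¹ ∈ cm φ := mem_cm.mpr ⟨x, rfl⟩

theorem apply_eq_mul_df (φ : MulAut R) (x : R) : φ x = x * (φ x * x⁻¹) := by
  rw [mul_comm (φ x), mul_inv_cancel_left]

theorem pow_apply_of_fix (ψ : MulAut R) {x d : R} (h1 : ψ x = x * d) (h2 : ψ d = d) (n : ℕ) :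
    (ψ ^ n) x = x * d ^ n := by
  induction n with
  | zero => simp
  | succ n ih =>
    rw [pow_succ', MulAut.mul_apply, ih, map_mul, map_pow, h1, h2, pow_succ, mul_assoc,
      mul_comm d]

/-- stabiliser of the chain `1 ≤ Y ≤ X ≤ R` -/
def stab3 (X Y : Subgroup R) : Subgroup (MulAut R) where
  carrier := {φ | (∀ x, φ x * x⁻¹ ∈ X) ∧ (∀ x ∈ X, φ x * x⁻¹ ∈ Y) ∧ ∀ x ∈ Y, φ x = x}
  one_mem' := ⟨fun x => by simp, fun x _ => by simp, fun x _ => rfl⟩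
  mul_mem' := by
    rintro φ ψ ⟨a1, a2, a3⟩ ⟨b1, b2, b3⟩
    have e : ∀ x, (φ * ψ) x * x⁻¹ = (φ (ψ x) * (ψ x)⁻¹) * (ψ x * x⁻¹) := by
      intro x
      rw [MulAut.mul_apply, mul_assoc, inv_mul_cancel_left]
    have hX : ∀ x ∈ X, ψ x ∈ X := fun x hx => by
      have := X.mul_mem (b1 x) hx
      rwa [inv_mul_cancel_right] at this
    refine ⟨fun x => ?_, fun x hx => ?_, fun x hx => ?_⟩
    · rw [e]; exact X.mul_mem (a1 _) (b1 _)
    · rw [e]; exact Y.mul_mem (a2 _ (hX x hx)) (b2 x hx)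
    · rw [MulAut.mul_apply, b3 x hx, a3 x hx]
  inv_mem' := by
    rintro φ ⟨a1, a2, a3⟩
    have e : ∀ x, φ⁻¹ x * x⁻¹ = (φ (φ⁻¹ x) * (φ⁻¹ x)⁻¹)⁻¹ := by
      intro x
      rw [MulAut.apply_inv_self, mul_inv_rev, inv_inv]
    have hX : ∀ x ∈ X, φ⁻¹ x ∈ X := by
      intro x hx
      have h1 := a1 (φ⁻¹ x)
      rw [MulAut.apply_inv_self] at h1
      have := X.mul_mem (X.inv_mem h1) hx
      rwa [mul_inv_rev, inv_inv, inv_mul_cancel_right] at this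
    refine ⟨fun x => ?_, fun x hx => ?_, fun x hx => ?_⟩
    · rw [e]; exact X.inv_mem (a1 _)
    · rw [e]; exact Y.inv_mem (a2 _ (hX x hx))
    · calc φ⁻¹ x = φ⁻¹ (φ x) := by rw [a3 x hx]
        _ = x := MulAut.inv_apply_self _ _ _

theorem mem_stab3 {X Y : Subgroup R} {φ : MulAut R} :
    φ ∈ stab3 X Y ↔ (∀ x, φ x * x⁻¹ ∈ X) ∧ (∀ x ∈ X, φ x * x⁻¹ ∈ Y) ∧ ∀ x ∈ Y, φ x = x :=
  Iff.rfl

theorem pow_eq_one_of_mem_stab3 [Finite R] {X Y : Subgroup R} {φ : MulAut R}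
    (h : φ ∈ stab3 X Y) : φ ^ (Nat.card Y * Nat.card X) = 1 := by
  have h' := h
  obtain ⟨a1, a2, a3⟩ := h
  have h1 : ∀ x ∈ X, (φ ^ Nat.card Y) x = x := by
    intro x hx
    have hd := a2 x hx
    rw [pow_apply_of_fix φ (apply_eq_mul_df φ x) (a3 _ hd)]
    have : (φ x * x⁻¹) ^ Nat.card Y = 1 := by
      have := pow_card_eq_one' (G := Y) (x := ⟨_, hd⟩)
      exact congrArg Subtype.val this
    rw [this, mul_one]
  have hψ : φ ^ Nat.card Y ∈ stab3 X Y := (stab3 X Y).pow_mem h' _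
  ext x
  rw [pow_mul, MulAut.one_apply]
  have hd := hψ.1 x
  rw [pow_apply_of_fix (φ ^ Nat.card Y) (apply_eq_mul_df _ x) (h1 _ hd)]
  have : ((φ ^ Nat.card Y) x * x⁻¹) ^ Nat.card X = 1 := by
    have := pow_card_eq_one' (G := X) (x := ⟨_, hd⟩)
    exact congrArg Subtype.val this
  rw [this, mul_one]

theorem stab3_isPGroup [Finite R] {p : ℕ} [Fact p.Prime] (hR : IsPGroup p R) (X Y : Subgroup R) :
    IsPGroup p (stab3 X Y) := by
  obtain ⟨a, ha⟩ := (hR.to_subgroup X).exists_card_eq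
  obtain ⟨b, hb⟩ := (hR.to_subgroup Y).exists_card_eq
  rintro ⟨φ, hφ⟩
  refine ⟨b + a, ?_⟩
  apply Subtype.ext
  have := pow_eq_one_of_mem_stab3 hφ
  rw [ha, hb, ← pow_add] at this
  exact this

end comm

section tv

variable {R : Type*} [CommGroup R]

/-- `t` lies in `A`, has fixed points of index `p` and commutator inside its fixed points -/
structure Tv (A : Subgroup (MulAut R)) (p : ℕ) (t : MulAut R) : Prop where
  mem : t ∈ A
  idx : (fx t).index = p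
  le : cm t ≤ fx t

theorem Tv.ne_one {A : Subgroup (MulAut R)} {p : ℕ} [hp : Fact p.Prime] {t : MulAut R}
    (h : Tv A p t) : t ≠ 1 := by
  intro h1
  have h2 : fx t = ⊤ := by
    rw [eq_top_iff]
    intro x _
    rw [mem_fx, h1, MulAut.one_apply]
  have := h.idx
  rw [h2, Subgroup.index_top] at this
  exact hp.out.one_lt.ne this

theorem Tv.mem_stab3 {A : Subgroup (MulAut R)} {p : ℕ} {t : MulAut R} (h : Tv A p t) :
    t ∈ stab3 (fx t) ⊥ := by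
  refine ⟨fun x => h.le (df_mem_cm t x), fun x hx => ?_, fun x hx => ?_⟩
  · rw [Subgroup.mem_bot, mem_fx.mp hx, mul_inv_cancel]
  · rw [Subgroup.mem_bot.mp hx, map_one]

theorem Tv.mem_stab3_cm {A : Subgroup (MulAut R)} {p : ℕ} {t : MulAut R} (h : Tv A p t) :
    t ∈ stab3 (cm t) ⊥ := by
  refine ⟨fun x => df_mem_cm t x, fun x hx => ?_, fun x hx => ?_⟩
  · rw [Subgroup.mem_bot, mem_fx.mp (h.le hx), mul_inv_cancel]
  · rw [Subgroup.mem_bot.mp hx, map_one]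

theorem Tv.card_cm [Finite R] {A : Subgroup (MulAut R)} {p : ℕ} {t : MulAut R} (h : Tv A p t) :
    Nat.card (cm t) = p := by
  rw [cm, ← Subgroup.index_ker]
  exact h.idx

theorem Tv.card_zpowers [Finite R] {A : Subgroup (MulAut R)} {p : ℕ} [hp : Fact p.Prime]
    (hR : IsPGroup p R) {t : MulAut R} (h : Tv A p t)
    (hsyl : ∀ B : Subgroup (MulAut R), B ≤ A → IsPGroup p B → Nat.card B ≤ p) :
    Nat.card (Subgroup.zpowers t) = p := by
  have hle : Subgroup.zpowers t ≤ stab3 (fx t) ⊥ := Subgroup.zpowers_le.mpr h.mem_stab3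
  have hpg : IsPGroup p (Subgroup.zpowers t) := (stab3_isPGroup hR _ _).to_le hle
  have hc := hsyl _ (Subgroup.zpowers_le.mpr h.mem) hpg
  rcases hpg.card_eq_or_dvd with h1 | h1
  · exfalso
    have := Subgroup.card_eq_one.mp h1
    rw [Subgroup.zpowers_eq_bot] at this
    exact h.ne_one this
  · exact le_antisymm hc (Nat.le_of_dvd Nat.card_pos h1)

theorem le_of_prime_card [Finite R] {p : ℕ} [hp : Fact p.Prime] {K L : Subgroup R}
    (hK : Nat.card K = p) (h : K ⊓ L ≠ ⊥) : K ≤ L := by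
  have hd : Nat.card ↥(K ⊓ L) ∣ Nat.card K := Subgroup.card_dvd_of_le inf_le_left
  rw [hK] at hd
  rcases (Nat.dvd_prime hp.out).mp hd with h1 | h1
  · exact absurd (Subgroup.card_eq_one.mp h1) h
  · have : K ⊓ L = K := Subgroup.eq_of_le_of_card_ge inf_le_left (by rw [h1, hK])
    rw [← this]
    exact inf_le_right

theorem fx_le_of_mem_zpowers {t₁ t₂ : MulAut R} (h : t₂ ∈ Subgroup.zpowers t₁) :
    fx t₁ ≤ fx t₂ := by
  intro x hx
  rw [mem_fx] at hx ⊢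
  have h1 : Subgroup.zpowers t₁ ≤ MulAction.stabilizer (MulAut R) x := by
    rw [Subgroup.zpowers_le, MulAction.mem_stabilizer_iff]
    exact hx
  exact MulAction.mem_stabilizer_iff.mp (h1 h)

theorem cm_le_of_mem_zpowers {A : Subgroup (MulAut R)} {p : ℕ} {t₁ t₂ : MulAut R}
    (h₁ : Tv A p t₁) (h : t₂ ∈ Subgroup.zpowers t₁) : cm t₂ ≤ cm t₁ := by
  have hle : Subgroup.zpowers t₁ ≤ stab3 (cm t₁) ⊥ := Subgroup.zpowers_le.mpr h₁.mem_stab3_cm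
  have h2 := (hle h).1
  intro x hx
  obtain ⟨y, rfl⟩ := mem_cm.mp hx
  exact h2 y

theorem eq_of_le_of_index_eq [Finite R] {p : ℕ} [hp : Fact p.Prime] {H K : Subgroup R}
    (hH : H.index = p) (hK : K.index = p) (h : H ≤ K) : H = K := by
  have h1 := Subgroup.relIndex_mul_index h
  rw [hH, hK] at h1
  have h2 : H.relIndex K = 1 := by
    have hp0 : 0 < p := hp.out.pos
    exact Nat.eq_of_mul_eq_mul_right hp0 (by rw [h1, one_mul])
  exact le_antisymm h (Subgroup.relIndex_eq_one.mp h2)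

theorem eq_top_of_index_prime [Finite R] {p : ℕ} [hp : Fact p.Prime] {H K : Subgroup R}
    (hH : H.index = p) (h : H ≤ K) (hn : ¬ K ≤ H) : K = ⊤ := by
  have h1 := Subgroup.relIndex_mul_index h
  rw [hH] at h1
  have hd : K.index ∣ p := Dvd.intro_left _ h1
  rcases (Nat.dvd_prime hp.out).mp hd with h2 | h2
  · exact Subgroup.index_eq_one.mp h2
  · exfalso
    rw [h2] at h1
    have h3 : H.relIndex K = 1 :=
      Nat.eq_of_mul_eq_mul_right hp.out.pos (by rw [h1, one_mul])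
    exact hn (Subgroup.relIndex_eq_one.mp h3)

/-- Lemma A -/
theorem mem_zpowers_of_inf_ne_bot [Finite R] {p : ℕ} [hp : Fact p.Prime] (hR : IsPGroup p R)
    {A : Subgroup (MulAut R)} {t₁ t₂ : MulAut R} (h₁ : Tv A p t₁) (h₂ : Tv A p t₂)
    (hsyl : ∀ B : Subgroup (MulAut R), B ≤ A → IsPGroup p B → Nat.card B ≤ p)
    (h : cm t₂ ⊓ fx t₁ ≠ ⊥) : t₂ ∈ Subgroup.zpowers t₁ := by
  have hle : cm t₂ ≤ fx t₁ := le_of_prime_card h₂.card_cm h
  have hB : Subgroup.closure {t₁, t₂} ≤ stab3 (fx t₁) (cm t₂) := by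
    rw [Subgroup.closure_le]
    rintro t (rfl | rfl)
    · refine ⟨fun x => h₁.le (df_mem_cm _ x), fun x hx => ?_, fun x hx => mem_fx.mp (hle hx)⟩
      rw [mem_fx.mp hx, mul_inv_cancel]
      exact Subgroup.one_mem _
    · refine ⟨fun x => hle (df_mem_cm _ x), fun x _ => df_mem_cm _ x,
        fun x hx => mem_fx.mp (h₂.le hx)⟩
  have hBA : Subgroup.closure {t₁, t₂} ≤ A := by
    rw [Subgroup.closure_le]
    rintro t (rfl | rfl)
    · exact h₁.mem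
    · exact h₂.mem
  have hc := hsyl _ hBA ((stab3_isPGroup hR _ _).to_le hB)
  have hz : Subgroup.zpowers t₁ ≤ Subgroup.closure {t₁, t₂} :=
    Subgroup.zpowers_le.mpr (Subgroup.subset_closure (Set.mem_insert _ _))
  have heq : Subgroup.zpowers t₁ = Subgroup.closure {t₁, t₂} :=
    Subgroup.eq_of_le_of_card_ge hz (by rw [h₁.card_zpowers hR hsyl]; exact hc)
  rw [heq]
  exact Subgroup.subset_closure (Set.mem_insert_of_mem _ rfl)

theorem fx_eq_of_mem_zpowers [Finite R] {p : ℕ} [hp : Fact p.Prime]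
    {A : Subgroup (MulAut R)} {t₁ t₂ : MulAut R} (h₁ : Tv A p t₁) (h₂ : Tv A p t₂)
    (h : t₂ ∈ Subgroup.zpowers t₁) : fx t₁ = fx t₂ :=
  eq_of_le_of_index_eq h₁.idx h₂.idx (fx_le_of_mem_zpowers h)

theorem inf_eq_bot_of_fx_ne [Finite R] {p : ℕ} [hp : Fact p.Prime] (hR : IsPGroup p R)
    {A : Subgroup (MulAut R)} {t₁ t₂ : MulAut R} (h₁ : Tv A p t₁) (h₂ : Tv A p t₂)
    (hsyl : ∀ B : Subgroup (MulAut R), B ≤ A → IsPGroup p B → Nat.card B ≤ p)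
    (hne : fx t₁ ≠ fx t₂) : cm t₂ ⊓ fx t₁ = ⊥ := by
  by_contra h
  exact hne (fx_eq_of_mem_zpowers h₁ h₂ (mem_zpowers_of_inf_ne_bot hR h₁ h₂ hsyl h))

end tv

section two

variable {R : Type*} [CommGroup R]

theorem mem_fx_conj {k t : MulAut R} {x : R} : x ∈ fx (k * t * k⁻¹) ↔ k⁻¹ x ∈ fx t := by
  rw [mem_fx, mem_fx, MulAut.mul_apply, MulAut.mul_apply]
  constructor
  · intro h
    have := congrArg (k⁻¹ : MulAut R) h
    rwa [MulAut.inv_apply_self] at this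
  · intro h
    rw [h, MulAut.apply_inv_self]

theorem mem_cm_conj {k t : MulAut R} {x : R} : x ∈ cm (k * t * k⁻¹) ↔ k⁻¹ x ∈ cm t := by
  rw [mem_cm, mem_cm]
  constructor
  · rintro ⟨y, rfl⟩
    refine ⟨k⁻¹ y, ?_⟩
    rw [MulAut.mul_apply, MulAut.mul_apply, map_mul, map_inv, MulAut.inv_apply_self]
  · rintro ⟨y, hy⟩
    refine ⟨k y, ?_⟩
    rw [MulAut.mul_apply, MulAut.mul_apply, MulAut.inv_apply_self]
    have := congrArg k hy
    rw [MulAut.apply_inv_self] at this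
    rw [← this, map_mul, map_inv]

theorem Tv.conj {A : Subgroup (MulAut R)} {p : ℕ} {t : MulAut R} (h : Tv A p t) {k : MulAut R}
    (hk : k ∈ A) : Tv A p (k * t * k⁻¹) := by
  refine ⟨A.mul_mem (A.mul_mem hk h.mem) (A.inv_mem hk), ?_, ?_⟩
  · have e : fx (k * t * k⁻¹) = (fx t).comap (k⁻¹ : MulAut R).toMonoidHom := by
      ext x
      rw [mem_fx_conj, Subgroup.mem_comap]
      rfl
    rw [e, Subgroup.index_comap_of_surjective _ (k⁻¹ : MulAut R).surjective]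
    exact h.idx
  · intro x hx
    rw [mem_fx_conj]
    exact h.le (mem_cm_conj.mp hx)

variable [Finite R] {p : ℕ} [hp : Fact p.Prime]

theorem Tv.cm_ne_bot {A : Subgroup (MulAut R)} {t : MulAut R} (h : Tv A p t) : cm t ≠ ⊥ := by
  intro h1
  have := h.card_cm
  rw [h1, Subgroup.card_bot] at this
  exact hp.out.one_lt.ne this

theorem Tv.pow_eq_one {A : Subgroup (MulAut R)} {t : MulAut R} (h : Tv A p t) {a : R}
    (ha : a ∈ cm t) : a ^ p = 1 := by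
  obtain ⟨y, rfl⟩ := mem_cm.mp ha
  have h1 : y ^ p ∈ fx t := by
    have := (fx t).pow_index_mem y
    rwa [h.idx] at this
  rw [mem_fx] at h1
  rw [mul_pow, inv_pow, ← map_pow, h1, mul_inv_cancel]

/-- Setup B -/
theorem setupB (hR : IsPGroup p R) {A : Subgroup (MulAut R)} {u u' : MulAut R}
    (hu : Tv A p u) (hu' : Tv A p u')
    (hsyl : ∀ B : Subgroup (MulAut R), B ≤ A → IsPGroup p B → Nat.card B ≤ p)
    (hne : fx u ≠ fx u') :
    cm u' ⊓ fx u = ⊥ ∧ cm u ⊓ fx u' = ⊥ ∧ fx u ⊔ cm u' = ⊤ ∧ fx u' ⊔ cm u = ⊤ ∧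
      (fx u ⊓ fx u') ⊔ cm u = fx u ∧ (fx u ⊓ fx u') ⊔ cm u' = fx u' := by
  have h1 : cm u' ⊓ fx u = ⊥ := inf_eq_bot_of_fx_ne hR hu hu' hsyl hne
  have h2 : cm u ⊓ fx u' = ⊥ := inf_eq_bot_of_fx_ne hR hu' hu hsyl (Ne.symm hne)
  have h3 : fx u ⊔ cm u' = ⊤ := by
    refine eq_top_of_index_prime hu.idx le_sup_left (fun hle => hu'.cm_ne_bot ?_)
    rw [← h1]
    exact (inf_eq_left.mpr (le_sup_right.trans hle)).symm
  have h4 : fx u' ⊔ cm u = ⊤ := by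
    refine eq_top_of_index_prime hu'.idx le_sup_left (fun hle => hu.cm_ne_bot ?_)
    rw [← h2]
    exact (inf_eq_left.mpr (le_sup_right.trans hle)).symm
  refine ⟨h1, h2, h3, h4, ?_, ?_⟩
  · have := sup_inf_assoc_of_le (fx u') hu.le
    rw [sup_comm (cm u), h4, top_inf_eq] at this
    rw [sup_comm, inf_comm]
    exact this.symm
  · have := sup_inf_assoc_of_le (fx u) hu'.le
    rw [sup_comm (cm u'), h3, top_inf_eq] at this
    rw [sup_comm]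
    exact this.symm

/-- every element is `c * a * b` with `c` in both fixed groups -/
theorem decomp (hR : IsPGroup p R) {A : Subgroup (MulAut R)} {u u' : MulAut R}
    (hu : Tv A p u) (hu' : Tv A p u')
    (hsyl : ∀ B : Subgroup (MulAut R), B ≤ A → IsPGroup p B → Nat.card B ≤ p)
    (hne : fx u ≠ fx u') (x : R) :
    ∃ c ∈ fx u ⊓ fx u', ∃ a ∈ cm u, ∃ b ∈ cm u', x = c * a * b := by
  obtain ⟨-, -, h3, -, h5, -⟩ := setupB hR hu hu' hsyl hne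
  have hx : x ∈ fx u ⊔ cm u' := by rw [h3]; exact Subgroup.mem_top x
  obtain ⟨z, hz, b, hb, rfl⟩ := Subgroup.mem_sup.mp hx
  rw [← h5] at hz
  obtain ⟨c, hc, a, ha, rfl⟩ := Subgroup.mem_sup.mp hz
  exact ⟨c, hc, a, ha, b, hb, rfl⟩

theorem decomp_fx (hR : IsPGroup p R) {A : Subgroup (MulAut R)} {u u' : MulAut R}
    (hu : Tv A p u) (hu' : Tv A p u')
    (hsyl : ∀ B : Subgroup (MulAut R), B ≤ A → IsPGroup p B → Nat.card B ≤ p)
    (hne : fx u ≠ fx u') {z : R} (hz : z ∈ fx u) :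
    ∃ c ∈ fx u ⊓ fx u', ∃ a ∈ cm u, z = c * a := by
  obtain ⟨-, -, -, -, h5, -⟩ := setupB hR hu hu' hsyl hne
  rw [← h5] at hz
  obtain ⟨c, hc, a, ha, rfl⟩ := Subgroup.mem_sup.mp hz
  exact ⟨c, hc, a, ha, rfl⟩

/-- Lemma D -/
theorem exists_inverting (hR : IsPGroup p R) {A : Subgroup (MulAut R)} {u u' : MulAut R}
    (hu : Tv A p u) (hu' : Tv A p u')
    (hsyl : ∀ B : Subgroup (MulAut R), B ≤ A → IsPGroup p B → Nat.card B ≤ p)
    (hne : fx u ≠ fx u') :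
    ∃ t ∈ A, (∀ c ∈ fx u ⊓ fx u', t c = c) ∧ (∀ a ∈ cm u, t a = a⁻¹) ∧
      ∀ b ∈ cm u', t b = b⁻¹ := by
  obtain ⟨h1, h2, -, -, -, -⟩ := setupB hR hu hu' hsyl hne
  obtain ⟨⟨e₁, he₁⟩, hne₁⟩ := (Subgroup.ne_bot_iff_exists_ne_one).mp hu.cm_ne_bot
  have hne₁ : e₁ ≠ 1 := fun h => hne₁ (Subtype.ext h)
  have he₁u' : u' e₁ ≠ e₁ := by
    intro h
    have : e₁ ∈ cm u ⊓ fx u' := ⟨he₁, mem_fx.mpr h⟩
    rw [h2, Subgroup.mem_bot] at this
    exact hne₁ this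
  obtain ⟨e₂, he₂def⟩ : ∃ e₂ : R, e₂ = (u' e₁ * e₁⁻¹)⁻¹ := ⟨_, rfl⟩
  have he₂ : e₂ ∈ cm u' := by
    rw [he₂def]
    exact (cm u').inv_mem (df_mem_cm u' e₁)
  have hne₂ : e₂ ≠ 1 := by
    intro h
    rw [he₂def, inv_eq_one, mul_inv_eq_one] at h
    exact he₁u' h
  have hu'e₁ : u' e₁ = e₁ * e₂⁻¹ := by
    rw [he₂def, inv_inv]
    exact apply_eq_mul_df u' e₁
  have hu'e₂ : u' e₂ = e₂ := mem_fx.mp (hu'.le he₂)
  have he₂u : u e₂ ≠ e₂ := by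
    intro h
    have : e₂ ∈ cm u' ⊓ fx u := ⟨he₂, mem_fx.mpr h⟩
    rw [h1, Subgroup.mem_bot] at this
    exact hne₂ this
  have hd : u e₂ * e₂⁻¹ ∈ cm u := df_mem_cm u e₂
  have hdne : (⟨u e₂ * e₂⁻¹, hd⟩ : cm u) ≠ 1 := by
    intro h
    have := congrArg Subtype.val h
    rw [Subgroup.coe_one, mul_inv_eq_one] at this
    exact he₂u this
  obtain ⟨m, hm⟩ := mem_powers_of_prime_card hu.card_cm hdne (g' := ⟨e₁, he₁⟩)
  have hm' : (u e₂ * e₂⁻¹) ^ m = e₁ := by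
    have := congrArg Subtype.val hm
    simpa using this
  have hũe₂ : (u ^ m) e₂ = e₂ * e₁ := by
    rw [pow_apply_of_fix u (apply_eq_mul_df u e₂) (mem_fx.mp (hu.le hd)), hm']
  have hũfix : ∀ x ∈ fx u, (u ^ m) x = x := by
    intro x hx
    have := fx_le_of_mem_zpowers (Subgroup.npow_mem_zpowers u m) hx
    exact mem_fx.mp this
  have hũe₁ : (u ^ m) e₁ = e₁ := hũfix e₁ (hu.le he₁)
  obtain ⟨w, hw⟩ : ∃ w : MulAut R, w = u ^ m * u' * u ^ m := ⟨_, rfl⟩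
  have hwA : w ∈ A := by
    rw [hw]
    exact A.mul_mem (A.mul_mem (A.pow_mem hu.mem m) hu'.mem) (A.pow_mem hu.mem m)
  have hwe₁ : w e₁ = e₂⁻¹ := by
    rw [hw, MulAut.mul_apply, MulAut.mul_apply, hũe₁, hu'e₁, map_mul, map_inv, hũe₁, hũe₂,
      mul_inv_rev, mul_inv_cancel_left]
  have hwe₂ : w e₂ = e₁ := by
    rw [hw, MulAut.mul_apply, MulAut.mul_apply, hũe₂, map_mul, hu'e₁, hu'e₂, map_mul, map_mul,
      map_inv, hũe₁, hũe₂, mul_inv_rev]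
    rw [mul_inv_cancel_left, mul_comm e₂ e₁, mul_inv_cancel_right]
  have hwfix : ∀ c ∈ fx u ⊓ fx u', w c = c := by
    intro c hc
    rw [hw, MulAut.mul_apply, MulAut.mul_apply, hũfix c hc.1, mem_fx.mp hc.2, hũfix c hc.1]
  refine ⟨w * w, A.mul_mem hwA hwA, ?_, ?_, ?_⟩
  · intro c hc
    rw [MulAut.mul_apply, hwfix c hc, hwfix c hc]
  · intro a ha
    obtain ⟨n, hn⟩ := mem_powers_of_prime_card hu.card_cm (g := (⟨e₁, he₁⟩ : cm u))
      (fun h => hne₁ (congrArg Subtype.val h)) (g' := ⟨a, ha⟩)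
    have hn' : e₁ ^ n = a := by
      have := congrArg Subtype.val hn
      simpa using this
    rw [← hn', MulAut.mul_apply, map_pow, map_pow, hwe₁, map_inv, hwe₂, inv_pow]
  · intro b hb
    obtain ⟨n, hn⟩ := mem_powers_of_prime_card hu'.card_cm (g := (⟨e₂, he₂⟩ : cm u'))
      (fun h => hne₂ (congrArg Subtype.val h)) (g' := ⟨b, hb⟩)
    have hn' : e₂ ^ n = b := by
      have := congrArg Subtype.val hn
      simpa using this
    rw [← hn', MulAut.mul_apply, map_pow, map_pow, hwe₂, hwe₁, inv_pow]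

end two

section lemE

variable {R : Type*} [CommGroup R] [Finite R]

theorem eq_of_card_two {K : Subgroup R} (hK : Nat.card K = 2) {a b : R} (ha : a ∈ K) (hb : b ∈ K)
    (ha1 : a ≠ 1) (hb1 : b ≠ 1) : a = b := by
  obtain ⟨y, -, hy⟩ := (Nat.card_eq_two_iff' (1 : K)).mp hK
  have h1 := hy ⟨a, ha⟩ (fun h => ha1 (congrArg Subtype.val h))
  have h2 := hy ⟨b, hb⟩ (fun h => hb1 (congrArg Subtype.val h))
  exact congrArg Subtype.val (h1.trans h2.symm)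

/-- Lemma E -/
theorem two_conj (hR : IsPGroup 2 R) {A : Subgroup (MulAut R)} {u u' t₃ : MulAut R}
    (hu : Tv A 2 u) (hu' : Tv A 2 u') (h₃ : Tv A 2 t₃)
    (hsyl : ∀ B : Subgroup (MulAut R), B ≤ A → IsPGroup 2 B → Nat.card B ≤ 2)
    (hne : fx u ≠ fx u') :
    fx u ⊓ fx u' ≤ fx t₃ ∧ cm t₃ ≤ cm u ⊔ cm u' := by
  obtain ⟨h1, h2, -, -, -, -⟩ := setupB hR hu hu' hsyl hne
  obtain ⟨⟨w, hw⟩, hwne⟩ := (Subgroup.ne_bot_iff_exists_ne_one).mp h₃.cm_ne_bot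
  have hwne : w ≠ 1 := fun h => hwne (Subtype.ext h)
  obtain ⟨c, hc, a, ha, b, hb, hwe⟩ := decomp hR hu hu' hsyl hne w
  have key : ∀ t, Tv A 2 t → w ∈ fx t → fx t ≤ fx t₃ ∧ cm t₃ ≤ cm t := by
    intro t ht hwt
    have hmem : t₃ ∈ Subgroup.zpowers t := mem_zpowers_of_inf_ne_bot hR ht h₃ hsyl (by
      intro hbot
      have : w ∈ cm t₃ ⊓ fx t := ⟨hw, hwt⟩
      rw [hbot, Subgroup.mem_bot] at this
      exact hwne this)
    exact ⟨fx_le_of_mem_zpowers hmem, cm_le_of_mem_zpowers ht hmem⟩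
  by_cases hb1 : b = 1
  · have hwu : w ∈ fx u := by
      rw [hwe, hb1, mul_one]
      exact (fx u).mul_mem hc.1 (hu.le ha)
    obtain ⟨k1, k2⟩ := key u hu hwu
    exact ⟨inf_le_left.trans k1, k2.trans le_sup_left⟩
  by_cases ha1 : a = 1
  · have hwu : w ∈ fx u' := by
      rw [hwe, ha1, mul_one]
      exact (fx u').mul_mem hc.2 (hu'.le hb)
    obtain ⟨k1, k2⟩ := key u' hu' hwu
    exact ⟨inf_le_right.trans k1, k2.trans le_sup_right⟩
  · have hbu : u b ≠ b := by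
      intro h
      have : b ∈ cm u' ⊓ fx u := ⟨hb, mem_fx.mpr h⟩
      rw [h1, Subgroup.mem_bot] at this
      exact hb1 this
    have hd : u b * b⁻¹ ∈ cm u := df_mem_cm u b
    have hdne : u b * b⁻¹ ≠ 1 := by
      intro h
      rw [mul_inv_eq_one] at h
      exact hbu h
    have hda : u b * b⁻¹ = a := eq_of_card_two hu.card_cm hd ha hdne ha1
    have hub : u b = b * a := by
      rw [← hda]
      exact apply_eq_mul_df u b
    have ht : Tv A 2 (u * u' * u⁻¹) := hu'.conj hu.mem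
    have hwt : w ∈ fx (u * u' * u⁻¹) := by
      rw [mem_fx_conj]
      have e : w = u (c * b) := by
        rw [map_mul, mem_fx.mp hc.1, hub, hwe, mul_assoc, mul_comm a b]
      rw [e, MulAut.inv_apply_self]
      exact (fx u').mul_mem hc.2 (hu'.le hb)
    obtain ⟨k1, k2⟩ := key _ ht hwt
    constructor
    · intro c' hc'
      apply k1
      rw [mem_fx_conj]
      have : u⁻¹ c' = c' := by
        calc u⁻¹ c' = u⁻¹ (u c') := by rw [mem_fx.mp hc'.1]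
          _ = c' := MulAut.inv_apply_self _ _ _
      rw [this]
      exact hc'.2
    · intro x hx
      have hx' := mem_cm_conj.mp (k2 hx)
      have e : x = u⁻¹ x * (u (u⁻¹ x) * (u⁻¹ x)⁻¹) := by
        rw [← apply_eq_mul_df, MulAut.apply_inv_self]
      rw [e]
      exact Subgroup.mul_mem _ (Subgroup.mem_sup_right hx') (Subgroup.mem_sup_left (df_mem_cm u _))

end lemE

section lemF

variable {R : Type*} [CommGroup R] [Finite R] {p : ℕ} [hp : Fact p.Prime]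

/-- Lemma F -/
theorem exists_moving (hR : IsPGroup p R) {A : Subgroup (MulAut R)} {u : MulAut R}
    (hu : Tv A p u) (hOp : ∀ B : Subgroup A, B.Normal → IsPGroup p B → B = ⊥) :
    ∃ g ∈ A, ∃ x ∈ fx u, g x ∉ fx u := by
  by_contra hcon
  push Not at hcon
  have hN : ((stab3 (fx u) ⊥).subgroupOf A).Normal := by
    refine ⟨fun φ hφ ψ => ?_⟩
    rw [Subgroup.mem_subgroupOf] at hφ ⊢
    obtain ⟨a1, a2, -⟩ := hφ
    have e : ∀ x, ((ψ * φ * ψ⁻¹ : A) : MulAut R) x * x⁻¹ =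
        (ψ : MulAut R) ((φ : MulAut R) ((ψ : MulAut R)⁻¹ x) * ((ψ : MulAut R)⁻¹ x)⁻¹) := by
      intro x
      rw [Subgroup.coe_mul, Subgroup.coe_mul, Subgroup.coe_inv, MulAut.mul_apply,
        MulAut.mul_apply, map_mul, map_inv, MulAut.apply_inv_self]
    refine ⟨fun x => ?_, fun x hx => ?_, fun x hx => ?_⟩
    · rw [e]
      exact hcon _ ψ.2 _ (a1 _)
    · rw [e]
      have h1 := a2 _ (hcon _ (A.inv_mem ψ.2) x hx)
      rw [Subgroup.mem_bot] at h1 ⊢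
      rw [h1, map_one]
    · rw [Subgroup.mem_bot.mp hx, map_one]
  have hP : IsPGroup p ((stab3 (fx u) ⊥).subgroupOf A) := (stab3_isPGroup hR _ _).comap_subtype
  have hbot := hOp _ hN hP
  have hmem : (⟨u, hu.mem⟩ : A) ∈ (stab3 (fx u) ⊥).subgroupOf A :=
    Subgroup.mem_subgroupOf.mpr hu.mem_stab3
  rw [hbot, Subgroup.mem_bot] at hmem
  exact hu.ne_one (congrArg Subtype.val hmem)

end lemF

section main

variable {R : Type*} [CommGroup R] [Finite R] {p : ℕ} [hp : Fact p.Prime]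

theorem main_comm (hR : IsPGroup p R) {A : Subgroup (MulAut R)} {u : MulAut R} (hu : Tv A p u)
    (hsyl : ∀ B : Subgroup (MulAut R), B ≤ A → IsPGroup p B → Nat.card B ≤ p)
    (hOp : ∀ B : Subgroup A, B.Normal → IsPGroup p B → B = ⊥) :
    Nat.card (cm u) = p ∧ (∀ a ∈ cm u, a ^ p = 1) ∧
    (∃ g ∈ A, ∃ x ∈ fx u, g x ∉ fx u) ∧
    ∀ g ∈ A, (∃ x ∈ fx u, g x ∉ fx u) →
      (∀ x : R, ∃ c, (c ∈ fx u ∧ g⁻¹ c ∈ fx u) ∧ ∃ a ∈ cm u, ∃ b ∈ cm u, x = c * a * g b) ∧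
      (∀ z ∈ fx u, ∃ c, (c ∈ fx u ∧ g⁻¹ c ∈ fx u) ∧ ∃ a ∈ cm u, z = c * a) ∧
      (∀ c, c ∈ fx u → g⁻¹ c ∈ fx u → c ∈ cm u → c = 1) ∧
      (∀ b ∈ cm u, g b ∈ fx u → b = 1) ∧
      (p ≠ 2 → ∃ t ∈ A, (∀ z ∈ fx u, t z * z⁻¹ ∈ cm u) ∧ (∀ w ∈ cm u, t w = w⁻¹) ∧
          ∀ z ∈ fx u, (t z = z ↔ g⁻¹ z ∈ fx u)) ∧
      (p = 2 → ∀ h ∈ A, (∀ c, c ∈ fx u → g⁻¹ c ∈ fx u → h c ∈ fx u) ∧
          ∀ w ∈ cm u, ∃ a ∈ cm u, ∃ b ∈ cm u, h w = a * g b) := by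
  refine ⟨hu.card_cm, fun a ha => hu.pow_eq_one ha, exists_moving hR hu hOp, ?_⟩
  rintro g hg ⟨x₀, hx₀, hgx₀⟩
  have hu' : Tv A p (g * u * g⁻¹) := hu.conj hg
  have hne : fx u ≠ fx (g * u * g⁻¹) := by
    intro h
    apply hgx₀
    rw [h, mem_fx_conj, MulAut.inv_apply_self]
    exact hx₀
  have hcmu' : ∀ b, b ∈ cm (g * u * g⁻¹) → ∃ b' ∈ cm u, b = g b' := by
    intro b hb
    exact ⟨g⁻¹ b, mem_cm_conj.mp hb, (MulAut.apply_inv_self _ _ _).symm⟩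
  obtain ⟨h1, h2, -, -, -, -⟩ := setupB hR hu hu' hsyl hne
  refine ⟨?_, ?_, ?_, ?_, ?_, ?_⟩
  · intro x
    obtain ⟨c, hc, a, ha, b, hb, rfl⟩ := decomp hR hu hu' hsyl hne x
    obtain ⟨b', hb', rfl⟩ := hcmu' b hb
    exact ⟨c, ⟨hc.1, mem_fx_conj.mp hc.2⟩, a, ha, b', hb', rfl⟩
  · intro z hz
    obtain ⟨c, hc, a, ha, rfl⟩ := decomp_fx hR hu hu' hsyl hne hz
    exact ⟨c, ⟨hc.1, mem_fx_conj.mp hc.2⟩, a, ha, rfl⟩
  · intro c _ hc2 hc3
    have : c ∈ cm u ⊓ fx (g * u * g⁻¹) := ⟨hc3, mem_fx_conj.mpr hc2⟩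
    rw [h2, Subgroup.mem_bot] at this
    exact this
  · intro b hb hgb
    have h0 : g b ∈ cm (g * u * g⁻¹) := by
      rw [mem_cm_conj, MulAut.inv_apply_self]
      exact hb
    have : g b ∈ cm (g * u * g⁻¹) ⊓ fx u := ⟨h0, hgb⟩
    rw [h1, Subgroup.mem_bot] at this
    exact (EmbeddingLike.map_eq_one_iff (f := g)).mp this
  · intro hp2
    obtain ⟨t, htA, ht1, ht2, -⟩ := exists_inverting hR hu hu' hsyl hne
    refine ⟨t, htA, ?_, ht2, ?_⟩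
    · intro z hz
      obtain ⟨c, hc, a, ha, rfl⟩ := decomp_fx hR hu hu' hsyl hne hz
      rw [map_mul, ht1 c hc, ht2 a ha]
      have e : c * a⁻¹ * (c * a)⁻¹ = a⁻¹ * a⁻¹ := by
        rw [mul_inv_rev, mul_comm c, mul_assoc, mul_comm a⁻¹ c⁻¹, mul_inv_cancel_left]
      rw [e]
      exact (cm u).mul_mem ((cm u).inv_mem ha) ((cm u).inv_mem ha)
    · intro z hz
      constructor
      · intro htz
        obtain ⟨c, hc, a, ha, rfl⟩ := decomp_fx hR hu hu' hsyl hne hz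
        rw [map_mul, ht1 c hc, ht2 a ha, mul_right_inj] at htz
        have ha2 : a ^ 2 = 1 := by
          rw [pow_two]
          nth_rw 1 [← htz]
          exact inv_mul_cancel a
        have hap : a ^ p = 1 := hu.pow_eq_one ha
        have hg1 := pow_gcd_eq_one.mpr ⟨ha2, hap⟩
        have hcop : Nat.gcd 2 p = 1 :=
          (Nat.coprime_primes Nat.prime_two hp.out).mpr (Ne.symm hp2)
        rw [hcop, pow_one] at hg1
        rw [hg1, mul_one]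
        exact mem_fx_conj.mp hc.2
      · intro hgz
        exact ht1 z ⟨hz, mem_fx_conj.mpr hgz⟩
  · intro hp2
    subst hp2
    intro h hh
    constructor
    · intro c hc1 hc2
      have h₃ : Tv A 2 (h⁻¹ * u * h⁻¹⁻¹) := hu.conj (A.inv_mem hh)
      have := (two_conj hR hu hu' h₃ hsyl hne).1 ⟨hc1, mem_fx_conj.mpr hc2⟩
      rw [mem_fx_conj, inv_inv] at this
      exact this
    · intro w hw
      have h₃ : Tv A 2 (h * u * h⁻¹) := hu.conj hh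
      have hmem : h w ∈ cm (h * u * h⁻¹) := by
        rw [mem_cm_conj, MulAut.inv_apply_self]
        exact hw
      have := (two_conj hR hu hu' h₃ hsyl hne).2 hmem
      obtain ⟨a, ha, b, hb, hab⟩ := Subgroup.mem_sup.mp this
      obtain ⟨b', hb', rfl⟩ := hcmu' b hb
      exact ⟨a, ha, b', hb', hab.symm⟩

end main

section expo

variable {R : Type*} [Group R] [Finite R]

/-- the local hypotheses, for a group that happens to be commutative -/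
structure Loc (p : ℕ) (A : Subgroup (MulAut R)) (u : MulAut R) (Z W : Subgroup R) : Prop where
  comm : ∀ a b : R, a * b = b * a
  pgrp : IsPGroup p R
  mem : u ∈ A
  hZ : ∀ x, x ∈ Z ↔ u x = x
  hW : ∀ x, x ∈ W ↔ ∃ y, u y * y⁻¹ = x
  idx : Z.index = p
  le : W ≤ Z
  syl : ∀ B : Subgroup (MulAut R), B ≤ A → IsPGroup p B → Nat.card B ≤ p
  opc : ∀ B : Subgroup A, B.Normal → IsPGroup p B → B = ⊥

theorem Loc.main {p : ℕ} [hp : Fact p.Prime] {A : Subgroup (MulAut R)} {u : MulAut R}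
    {Z W : Subgroup R} (h : Loc p A u Z W) :
    Nat.card W = p ∧ (∀ a ∈ W, a ^ p = 1) ∧
    (∃ g ∈ A, ∃ x ∈ Z, g x ∉ Z) ∧
    ∀ g ∈ A, (∃ x ∈ Z, g x ∉ Z) →
      (∀ x : R, ∃ c, (c ∈ Z ∧ g⁻¹ c ∈ Z) ∧ ∃ a ∈ W, ∃ b ∈ W, x = c * a * g b) ∧
      (∀ z ∈ Z, ∃ c, (c ∈ Z ∧ g⁻¹ c ∈ Z) ∧ ∃ a ∈ W, z = c * a) ∧
      (∀ c, c ∈ Z → g⁻¹ c ∈ Z → c ∈ W → c = 1) ∧
      (∀ b ∈ W, g b ∈ Z → b = 1) ∧
      (p ≠ 2 → ∃ t ∈ A, (∀ z ∈ Z, t z * z⁻¹ ∈ W) ∧ (∀ w ∈ W, t w = w⁻¹) ∧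
          ∀ z ∈ Z, (t z = z ↔ g⁻¹ z ∈ Z)) ∧
      (p = 2 → ∀ k ∈ A, (∀ c, c ∈ Z → g⁻¹ c ∈ Z → k c ∈ Z) ∧
          ∀ w ∈ W, ∃ a ∈ W, ∃ b ∈ W, k w = a * g b) := by
  letI : CommGroup R := { (inferInstance : Group R) with mul_comm := h.comm }
  have hZ : Z = fx u := by
    ext x
    rw [h.hZ, mem_fx]
  have hW : W = cm u := by
    ext x
    rw [h.hW, mem_cm]
  have hu : Tv A p u := ⟨h.mem, hZ ▸ h.idx, hW ▸ hZ ▸ h.le⟩
  have := main_comm h.pgrp hu h.syl h.opc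
  rw [← hZ, ← hW] at this
  exact this

end expo

section uniq

theorem inv_unique_comm {R : Type*} [CommGroup R] [Finite R] {p : ℕ} [hp : Fact p.Prime]
    (hR : IsPGroup p R) (A' : Subgroup (MulAut R))
    (hA' : ∀ φ ∈ A', ∀ k : ℕ, φ ^ (p ^ k) = 1 → φ = 1) (W : Subgroup R) {τ₁ τ₂ : MulAut R}
    (h₁ : τ₁ ∈ A') (h₂ : τ₂ ∈ A') (a₁ : ∀ z, τ₁ z * z⁻¹ ∈ W) (b₁ : ∀ w ∈ W, τ₁ w = w⁻¹)
    (a₂ : ∀ z, τ₂ z * z⁻¹ ∈ W) (b₂ : ∀ w ∈ W, τ₂ w = w⁻¹) : τ₁ = τ₂ := by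
  have hmem : τ₁ * τ₂⁻¹ ∈ stab3 W ⊥ := by
    refine ⟨fun z => ?_, fun w hw => ?_, fun x hx => ?_⟩
    · have e : (τ₁ * τ₂⁻¹) z * z⁻¹ =
          (τ₁ (τ₂⁻¹ z) * (τ₂⁻¹ z)⁻¹) * (τ₂ (τ₂⁻¹ z) * (τ₂⁻¹ z)⁻¹)⁻¹ := by
        rw [MulAut.mul_apply, MulAut.apply_inv_self, mul_inv_rev, inv_inv, mul_assoc,
          inv_mul_cancel_left]
      rw [e]
      exact W.mul_mem (a₁ _) (W.inv_mem (a₂ _))
    · rw [Subgroup.mem_bot, mul_inv_eq_one, MulAut.mul_apply]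
      have h1 : τ₂⁻¹ w = w⁻¹ := by
        calc τ₂⁻¹ w = τ₂⁻¹ (τ₂ w⁻¹) := by rw [map_inv, b₂ w hw, inv_inv]
          _ = w⁻¹ := MulAut.inv_apply_self _ _ _
      rw [h1, map_inv, b₁ w hw, inv_inv]
    · rw [Subgroup.mem_bot.mp hx, map_one]
  have hpow := pow_eq_one_of_mem_stab3 hmem
  obtain ⟨k, hk⟩ := (hR.to_subgroup W).exists_card_eq
  rw [Subgroup.card_bot, one_mul, hk] at hpow
  have h1 := hA' _ (A'.mul_mem h₁ (A'.inv_mem h₂)) k hpow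
  exact mul_inv_eq_one.mp h1

theorem inv_unique {R : Type*} [Group R] [Finite R] (hab : ∀ a b : R, a * b = b * a) {p : ℕ}
    [hp : Fact p.Prime] (hR : IsPGroup p R) (A' : Subgroup (MulAut R))
    (hA' : ∀ φ ∈ A', ∀ k : ℕ, φ ^ (p ^ k) = 1 → φ = 1) (W : Subgroup R) {τ₁ τ₂ : MulAut R}
    (h₁ : τ₁ ∈ A') (h₂ : τ₂ ∈ A') (a₁ : ∀ z, τ₁ z * z⁻¹ ∈ W) (b₁ : ∀ w ∈ W, τ₁ w = w⁻¹)
    (a₂ : ∀ z, τ₂ z * z⁻¹ ∈ W) (b₂ : ∀ w ∈ W, τ₂ w = w⁻¹) : τ₁ = τ₂ := by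
  letI : CommGroup R := { (inferInstance : Group R) with mul_comm := hab }
  exact inv_unique_comm hR A' hA' W h₁ h₂ a₁ b₁ a₂ b₂

end uniq

end Cfsg.Agent.Lib.Helper27.XsLocal
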