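import Cfsg.Agent.Lib.Helper27.XsFus
import Cfsg.Agent.S0206

set_option autoImplicit false

namespace Cfsg.Agent.Lib.Helper27.XsTwo

open Cfsg Cfsg.FusionSystem Cfsg.Agent.Lib.Helper26 Cfsg.Agent.Lib.Helper27.XsFus

variable {Ω : Type*} [Group Ω] {S : Subgroup Ω} [Finite S]

/-- squares of central elements -/
def SqZ (S : Subgroup Ω) : Subgroup Ω where
  carrier := {w | ∃ z ∈ ZS S, w = z ^ 2}
  one_mem' := ⟨1, (ZS S).one_mem, (one_pow 2).symm⟩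
  mul_mem' := by
    rintro _ _ ⟨z₁, hz₁, rfl⟩ ⟨z₂, hz₂, rfl⟩
    refine ⟨z₁ * z₂, (ZS S).mul_mem hz₁ hz₂, ?_⟩
    have hc : Commute z₁ z₂ := (mem_ZS.mp hz₂).2 z₁ (ZS_le hz₁)
    exact (hc.mul_pow 2).symm
  inv_mem' := by
    rintro _ ⟨z, hz, rfl⟩
    exact ⟨z⁻¹, (ZS S).inv_mem hz, (inv_pow z 2).symm⟩

theorem SqZ_le : SqZ S ≤ ZS S := by
  rintro _ ⟨z, hz, rfl⟩
  exact (ZS S).pow_mem hz 2

/-- decomposition of an element of an essential subgroup, `p = 2` -/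
theorem ess_decomp (hS : IsPGroup 2 S) {F : FusionSystem S} (hF : F.IsSaturated 2)
    (hZ : (Subgroup.center ↥S).index ≤ 2 ^ 2) {E : Subgroup Ω} (hE : F.IsEssential 2 E)
    (x : E) : ∃ c : E, (c : Ω) ∈ ZS S ∧ x ^ 2 = c ^ 2 := by
  obtain ⟨y, d⟩ := exists_essData hS F hF hZ hE
  haveI : Finite E := finite_of_le d.hES
  obtain ⟨-, hWpow, ⟨g, hg, hmov⟩, hmain⟩ := (d.loc hS hF hZ hE).main
  obtain ⟨hdec, -, -, -, -, -⟩ := hmain g hg hmov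
  obtain ⟨c, ⟨hc1, -⟩, a, ha, b, hb, hxe⟩ := hdec x
  refine ⟨c, Subgroup.mem_subgroupOf.mp hc1, ?_⟩
  have hcomm : ∀ s t : E, Commute s t := fun s t => Subtype.ext (d.hab s s.2 t t.2)
  rw [hxe, (hcomm _ _).mul_pow, (hcomm _ _).mul_pow, hWpow a ha, ← map_pow, hWpow b hb, map_one,
    mul_one, mul_one]

theorem sq_Z_eq_one (hS : IsPGroup 2 S) (F : FusionSystem S) (hF : F.IsSaturated 2)
    (hcore : F.core = ⊥) (hZ : (Subgroup.center ↥S).index ≤ 2 ^ 2) :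
    ∀ z ∈ ZS S, z ^ 2 = 1 := by
  have hnormal : F.IsNormal (SqZ S) := by
    refine normal_of_invariant hS F hF _ (fun P hP => ?_)
    rcases hP with hPS | hE
    · obtain rfl : S = P := hPS.symm
      refine ⟨SqZ_le.trans ZS_le, fun α _ x hx => ?_⟩
      obtain ⟨z, hz, hxz⟩ := hx
      have e : x = (⟨z, ZS_le hz⟩ : S) ^ 2 := Subtype.ext hxz
      rw [e, map_pow]
      exact ⟨_, aut_ZS α (x := ⟨z, ZS_le hz⟩) hz, rfl⟩
    · obtain ⟨y, d⟩ := exists_essData hS F hF hZ hE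
      refine ⟨SqZ_le.trans d.hZE, fun h _ x hx => ?_⟩
      obtain ⟨z, hz, hxz⟩ := hx
      have e : x = (⟨z, d.hZE hz⟩ : P) ^ 2 := Subtype.ext hxz
      obtain ⟨c, hc, hsq⟩ := ess_decomp hS hF hZ hE (h ⟨z, d.hZE hz⟩)
      rw [e, map_pow, hsq]
      exact ⟨c, hc, rfl⟩
  have hbot := eq_bot_of_normal hcore hnormal
  intro z hz
  have : z ^ 2 ∈ SqZ S := ⟨z, hz, rfl⟩
  rw [hbot, Subgroup.mem_bot] at this
  exact this

theorem ess_sq (hS : IsPGroup 2 S) (F : FusionSystem S) (hF : F.IsSaturated 2)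
    (hcore : F.core = ⊥) (hZ : (Subgroup.center ↥S).index ≤ 2 ^ 2) {E : Subgroup Ω}
    (hE : F.IsEssential 2 E) : ∀ x ∈ E, x ^ 2 = 1 := by
  intro x hx
  obtain ⟨c, hc, hsq⟩ := ess_decomp hS hF hZ hE ⟨x, hx⟩
  have h1 := sq_Z_eq_one hS F hF hcore hZ c hc
  have h2 := congrArg Subtype.val hsq
  rw [Subgroup.coe_pow, Subgroup.coe_pow] at h2
  rw [h2, h1]

section fixess

/-- `2`-elements of `Aut_F(S)` are inner -/
theorem two_elt_inner (hS : IsPGroup 2 S) (F : FusionSystem S) (hF : F.IsSaturated 2)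
    {γ : MulAut S} (hγ : γ ∈ F.autGroup S) (k : ℕ) (hk : γ ^ (2 ^ k) = 1) :
    γ ∈ autInducedBy S S := by
  obtain ⟨-, hfa, -⟩ := saturated_fullyNormalized hS F hF (top_fullyNormalized F)
  obtain ⟨R, hR⟩ := hfa.2
  haveI hRn : (R : Subgroup (F.autGroup S)).Normal := by
    rw [hR]
    refine ⟨fun n hn g => ?_⟩
    rw [Subgroup.mem_subgroupOf] at hn ⊢
    obtain ⟨s, hs, hsn⟩ := mem_autInducedBy_iff.mp hn
    refine mem_autInducedBy_iff.mpr ⟨((g : MulAut S) ⟨s, hs⟩ : S), ((g : MulAut S) ⟨s, hs⟩).2,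
      fun x => ?_⟩
    have e : ((g * n * g⁻¹ : F.autGroup S) : MulAut S) x =
        (g : MulAut S) ((n : MulAut S) ((g : MulAut S)⁻¹ x)) := rfl
    rw [e]
    have h1 : (n : MulAut S) ((g : MulAut S)⁻¹ x) =
        ⟨s, hs⟩ * ((g : MulAut S)⁻¹ x) * (⟨s, hs⟩ : S)⁻¹ := Subtype.ext (hsn _)
    rw [h1, map_mul, map_mul, map_inv, MulAut.apply_inv_self]
    rfl
  have hx : (⟨γ, hγ⟩ : F.autGroup S) ^ (2 ^ k) = 1 := Subtype.ext hk
  have hpg : IsPGroup 2 (Subgroup.zpowers (⟨γ, hγ⟩ : F.autGroup S)) := by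
    rintro ⟨g, hg⟩
    obtain ⟨i, rfl⟩ := Subgroup.mem_zpowers_iff.mp hg
    refine ⟨k, Subtype.ext ?_⟩
    show ((⟨γ, hγ⟩ : F.autGroup S) ^ i) ^ (2 ^ k) = 1
    rw [← zpow_natCast, ← zpow_mul, mul_comm, zpow_mul, zpow_natCast, hx, one_zpow]
  obtain ⟨Q, hQ⟩ := hpg.exists_le_sylow
  obtain ⟨a, ha⟩ := MulAction.exists_smul_eq (F.autGroup S) R Q
  rw [Sylow.smul_eq_of_normal] at ha
  have hmem := hQ (Subgroup.mem_zpowers (⟨γ, hγ⟩ : F.autGroup S))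
  rw [← ha, hR, Subgroup.mem_subgroupOf] at hmem
  exact hmem

theorem eq_of_subgroupOf_eq {E E' : Subgroup Ω} (hE : E ≤ S) (hE' : E' ≤ S)
    (h : E.subgroupOf S = E'.subgroupOf S) : E = E' := by
  apply le_antisymm
  · intro x hx
    have : (⟨x, hE hx⟩ : S) ∈ E.subgroupOf S := Subgroup.mem_subgroupOf.mpr hx
    rw [h] at this
    exact Subgroup.mem_subgroupOf.mp this
  · intro x hx
    have : (⟨x, hE' hx⟩ : S) ∈ E'.subgroupOf S := Subgroup.mem_subgroupOf.mpr hx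
    rw [← h] at this
    exact Subgroup.mem_subgroupOf.mp this

theorem center_le_subgroupOf {E : Subgroup Ω} (hZE : ZS S ≤ E) :
    Subgroup.center ↥S ≤ E.subgroupOf S := by
  intro z hz
  exact Subgroup.mem_subgroupOf.mpr (hZE ⟨z, hz, rfl⟩)

/-- automorphisms in `Aut_F(S)` fix every essential subgroup (`p = 2`) -/
theorem aut_fix_ess (hS : IsPGroup 2 S) (F : FusionSystem S) (hF : F.IsSaturated 2)
    (hcore : F.core = ⊥) (hZ : (Subgroup.center ↥S).index ≤ 2 ^ 2) {E : Subgroup Ω}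
    (hE : F.IsEssential 2 E) {α : MulAut S} (hα : α ∈ F.autGroup S) (x : S)
    (hx : (x : Ω) ∈ E) : ((α x : S) : Ω) ∈ E := by
  obtain ⟨y, d⟩ := exists_essData hS F hF hZ hE
  have hsq : ∀ x ∈ E.subgroupOf S, x ^ 2 = 1 := by
    intro x hx
    exact Subtype.ext (ess_sq hS F hF hcore hZ hE x (Subgroup.mem_subgroupOf.mp hx))
  haveI : Finite (MulAut S) := inferInstance
  have hn0 : orderOf α ≠ 0 := (orderOf_pos α).ne'
  obtain ⟨k, m, hm, hn⟩ := Nat.exists_eq_two_pow_mul_odd hn0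
  have hγ : α ^ m ∈ F.autGroup S := Subgroup.pow_mem _ hα m
  have hγk : (α ^ m) ^ (2 ^ k) = 1 := by
    rw [← pow_mul, mul_comm, ← hn, pow_orderOf_eq_one]
  have hinn := two_elt_inner hS F hF hγ k hγk
  obtain ⟨s, hs, hsγ⟩ := mem_autInducedBy_iff.mp hinn
  have hαm : (E.subgroupOf S).map (α ^ m).toMonoidHom = E.subgroupOf S := by
    apply Subgroup.eq_of_le_of_card_ge
    · rintro _ ⟨x, hx, rfl⟩
      have hx' : (x : Ω) ∈ E := Subgroup.mem_subgroupOf.mp hx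
      rw [Subgroup.mem_subgroupOf]
      show (((α ^ m) x : S) : Ω) ∈ E
      rw [hsγ]
      exact d.hnorm s hs _ hx'
    · rw [Subgroup.card_map_of_injective (α ^ m).injective]
  have hfix := XsGroup.fix_of_odd d.hidx (center_le_subgroupOf d.hZE) hsq α m hm hαm
  have : α x ∈ (E.subgroupOf S).map α.toMonoidHom := ⟨x, Subgroup.mem_subgroupOf.mpr hx, rfl⟩
  rw [hfix] at this
  exact Subgroup.mem_subgroupOf.mp this

end fixess

section twoess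

theorem two_ess (hS : IsPGroup 2 S) (F : FusionSystem S) (hF : F.IsSaturated 2)
    (hS1 : S ≠ ⊥) (hcore : F.core = ⊥) (hZ : (Subgroup.center ↥S).index ≤ 2 ^ 2) :
    ∃ E₁ E₂, F.IsEssential 2 E₁ ∧ F.IsEssential 2 E₂ ∧ E₁ ≠ E₂ ∧
      ∀ E, F.IsEssential 2 E → E = E₁ ∨ E = E₂ := by
  obtain ⟨E₁, hE₁⟩ := exists_essential hS F hF hS1 hcore
  obtain ⟨y₁, d₁⟩ := exists_essData hS F hF hZ hE₁
  by_cases hall : ∀ E, F.IsEssential 2 E → E = E₁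
  · exfalso
    have hnormE : F.IsNormal E₁ := by
      refine normal_of_invariant hS F hF E₁ (fun P hP => ?_)
      rcases hP with hPS | hE
      · obtain rfl : S = P := hPS.symm
        exact ⟨d₁.hES, fun α hα x hx => aut_fix_ess hS F hF hcore hZ hE₁ hα x hx⟩
      · have := hall P hE
        subst this
        exact ⟨le_rfl, fun α _ x _ => (α x).2⟩
    have hbot := eq_bot_of_normal hcore hnormE
    have h1 := d₁.hrel
    rw [hbot, Subgroup.relIndex_bot_right] at h1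
    omega
  · push Not at hall
    obtain ⟨E₂, hE₂, hne⟩ := hall
    obtain ⟨y₂, d₂⟩ := exists_essData hS F hF hZ hE₂
    refine ⟨E₁, E₂, hE₁, hE₂, Ne.symm hne, fun E hE => ?_⟩
    obtain ⟨y, d⟩ := exists_essData hS F hF hZ hE
    have hsq : ∀ (E' : Subgroup Ω), F.IsEssential 2 E' → ∀ x ∈ E'.subgroupOf S, x ^ 2 = 1 := by
      intro E' hE' x hx
      exact Subtype.ext (ess_sq hS F hF hcore hZ hE' x (Subgroup.mem_subgroupOf.mp hx))
    have hne' : E₁.subgroupOf S ≠ E₂.subgroupOf S := fun h =>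
      hne (eq_of_subgroupOf_eq d₁.hES d₂.hES h).symm
    rcases XsGroup.two_max d₁.hidx d₂.hidx d.hidx (center_le_subgroupOf d₂.hZE) (hsq E₁ hE₁)
      (hsq E₂ hE₂) (hsq E hE) hne' with h | h
    · exact Or.inl (eq_of_subgroupOf_eq d.hES d₁.hES h)
    · exact Or.inr (eq_of_subgroupOf_eq d.hES d₂.hES h)

end twoess

section core

/-- the largest `Aut_F(E)`-invariant subgroup of `Z(S)` -/
def coreE (F : FusionSystem S) (E : Subgroup Ω) (hZE : ZS S ≤ E) : Subgroup Ω where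
  carrier := {z | ∃ hz : z ∈ ZS S, ∀ h ∈ F.autGroup E, ((h ⟨z, hZE hz⟩ : E) : Ω) ∈ ZS S}
  one_mem' := ⟨(ZS S).one_mem, fun h _ => by
    have e : (⟨1, hZE (ZS S).one_mem⟩ : E) = 1 := rfl
    rw [e, map_one]
    exact (ZS S).one_mem⟩
  mul_mem' := by
    rintro a b ⟨ha, ha'⟩ ⟨hb, hb'⟩
    refine ⟨(ZS S).mul_mem ha hb, fun h hh => ?_⟩
    have e : (⟨a * b, hZE ((ZS S).mul_mem ha hb)⟩ : E) = ⟨a, hZE ha⟩ * ⟨b, hZE hb⟩ := rfl
    rw [e, map_mul]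
    exact (ZS S).mul_mem (ha' h hh) (hb' h hh)
  inv_mem' := by
    rintro a ⟨ha, ha'⟩
    refine ⟨(ZS S).inv_mem ha, fun h hh => ?_⟩
    have e : (⟨a⁻¹, hZE ((ZS S).inv_mem ha)⟩ : E) = (⟨a, hZE ha⟩ : E)⁻¹ := rfl
    rw [e, map_inv]
    exact (ZS S).inv_mem (ha' h hh)

theorem coreE_le {F : FusionSystem S} {E : Subgroup Ω} {hZE : ZS S ≤ E} :
    coreE F E hZE ≤ ZS S := fun _ hz => hz.1

theorem coreE_inv {F : FusionSystem S} {E : Subgroup Ω} {hZE : ZS S ≤ E} {z : Ω}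
    (hz : z ∈ coreE F E hZE) {h : MulAut E} (hh : h ∈ F.autGroup E) :
    ((h ⟨z, hZE (coreE_le hz)⟩ : E) : Ω) ∈ coreE F E hZE := by
  obtain ⟨hzZ, hz'⟩ := hz
  refine ⟨hz' h hh, fun k hk => ?_⟩
  have e : (⟨((h ⟨z, hZE hzZ⟩ : E) : Ω), hZE (hz' h hh)⟩ : E) = h ⟨z, hZE hzZ⟩ := rfl
  rw [e]
  exact hz' (k * h) (Subgroup.mul_mem _ hk hh)

/-- `Aut_F(S)` preserves the core attached to an essential subgroup -/
theorem autS_core (hS : IsPGroup 2 S) (F : FusionSystem S) (hF : F.IsSaturated 2)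
    (hcore : F.core = ⊥) (hZ : (Subgroup.center ↥S).index ≤ 2 ^ 2) {E : Subgroup Ω}
    (hE : F.IsEssential 2 E) (hZE : ZS S ≤ E) {α : MulAut S} (hα : α ∈ F.autGroup S) (x : S)
    (hx : (x : Ω) ∈ coreE F E hZE) : ((α x : S) : Ω) ∈ coreE F E hZE := by
  have hES : E ≤ S := hE.1.1
  obtain ⟨τ, hτ, hτα⟩ := exists_restrict F le_rfl hES hα
    (fun x hx => aut_fix_ess hS F hF hcore hZ hE hα x hx)
  have h1 := coreE_inv hx hτ
  rw [hτα] at h1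
  exact h1

theorem core_cross (hS : IsPGroup 2 S) (F : FusionSystem S) (hF : F.IsSaturated 2)
    (hcore : F.core = ⊥) (hZ : (Subgroup.center ↥S).index ≤ 2 ^ 2) {E E' : Subgroup Ω}
    (hE : F.IsEssential 2 E) (hE' : F.IsEssential 2 E') (hZE : ZS S ≤ E) (hZE' : ZS S ≤ E')
    {h : MulAut E} (hh : h ∈ F.autGroup E) (x : E)
    (hx : (x : Ω) ∈ coreE F E hZE ⊓ coreE F E' hZE') :
    ((h x : E) : Ω) ∈ coreE F E hZE ⊓ coreE F E' hZE' := by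
  have hES : E ≤ S := hE.1.1
  have h1 : ((h x : E) : Ω) ∈ coreE F E hZE := coreE_inv hx.1 hh
  refine ⟨h1, ?_⟩
  have hDE : coreE F E hZE ⊓ coreE F E' hZE' ≤ E := inf_le_left.trans (coreE_le.trans hZE)
  have hφ : (E.subtype.comp h.toMonoidHom).comp (Subgroup.inclusion hDE) ∈
      F.Hom (coreE F E hZE ⊓ coreE F E' hZE') :=
    restrict_mem F ((mem_autGroup_iff F hES).mp hh) hDE
  have hr : ((E.subtype.comp h.toMonoidHom).comp (Subgroup.inclusion hDE)).range ≤ ZS S := by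
    rintro _ ⟨z, rfl⟩
    exact coreE_le (coreE_inv z.2.1 hh)
  obtain ⟨α, hα, hαφ⟩ := central_extend hS F hF hφ (inf_le_left.trans coreE_le) hr
  have h2 := autS_core hS F hF hcore hZ hE' hZE' hα ⟨x, hES x.2⟩ hx.2
  have h3 := hαφ ⟨x, hx⟩
  have h4 : ((α ⟨x, hES x.2⟩ : S) : Ω) = ((h x : E) : Ω) := h3
  rw [h4] at h2
  exact h2

end core

section corefacts

theorem core_facts (hS : IsPGroup 2 S) {F : FusionSystem S} (hF : F.IsSaturated 2)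
    (hZ : (Subgroup.center ↥S).index ≤ 2 ^ 2) {E : Subgroup Ω} (hE : F.IsEssential 2 E)
    {y : Ω} (d : EssData 2 F E y) :
    ∃ g ∈ F.autGroup E,
      (∀ z ∈ ZS S, ∃ c ∈ coreE F E d.hZE, ∃ a ∈ WS S, z = c * a) ∧
      (∀ c ∈ coreE F E d.hZE, c ∈ WS S → c = 1) ∧
      (∀ x : E, ∃ c : E, (c : Ω) ∈ coreE F E d.hZE ∧
        ∃ a ∈ (WS S).subgroupOf E, ∃ b ∈ (WS S).subgroupOf E, x = c * a * g b) ∧
      (∀ k ∈ F.autGroup E, ∀ w ∈ (WS S).subgroupOf E,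
        ∃ a ∈ (WS S).subgroupOf E, ∃ b ∈ (WS S).subgroupOf E, k w = a * g b) ∧
      (∀ b ∈ (WS S).subgroupOf E, g b ∈ (ZS S).subgroupOf E → b = 1) ∧
      Nat.card ((WS S).subgroupOf E) = 2 := by
  haveI : Finite E := finite_of_le d.hES
  obtain ⟨hcardW, -, ⟨g, hg, hmov⟩, hmain⟩ := (d.loc hS hF hZ hE).main
  obtain ⟨hdec, hdecZ, hindep, hgb, -, htwo⟩ := hmain g hg hmov
  have h2 := htwo rfl
  have hmemcore : ∀ c : E, c ∈ (ZS S).subgroupOf E → g⁻¹ c ∈ (ZS S).subgroupOf E →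
      (c : Ω) ∈ coreE F E d.hZE := by
    intro c hc1 hc2
    refine ⟨Subgroup.mem_subgroupOf.mp hc1, fun k hk => ?_⟩
    exact Subgroup.mem_subgroupOf.mp ((h2 k hk).1 c hc1 hc2)
  refine ⟨g, hg, ?_, ?_, ?_, fun k hk => (h2 k hk).2, hgb, hcardW⟩
  · intro z hz
    obtain ⟨c, ⟨hc1, hc2⟩, a, ha, hza⟩ := hdecZ ⟨z, d.hZE hz⟩ (Subgroup.mem_subgroupOf.mpr hz)
    exact ⟨c, hmemcore c hc1 hc2, a, Subgroup.mem_subgroupOf.mp ha, congrArg Subtype.val hza⟩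
  · intro c hc hcW
    obtain ⟨hcZ, hc'⟩ := hc
    have h1 := hc' g⁻¹ (Subgroup.inv_mem _ hg)
    have := hindep ⟨c, d.hZE hcZ⟩ (Subgroup.mem_subgroupOf.mpr hcZ)
      (Subgroup.mem_subgroupOf.mpr h1) (Subgroup.mem_subgroupOf.mpr hcW)
    exact congrArg Subtype.val this
  · intro x
    obtain ⟨c, ⟨hc1, hc2⟩, a, ha, b, hb, hx⟩ := hdec x
    exact ⟨c, hmemcore c hc1 hc2, a, ha, b, hb, hx⟩

theorem D_eq_bot (hS : IsPGroup 2 S) (F : FusionSystem S) (hF : F.IsSaturated 2)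
    (hcore : F.core = ⊥) (hZ : (Subgroup.center ↥S).index ≤ 2 ^ 2) {E₁ E₂ : Subgroup Ω}
    (hE₁ : F.IsEssential 2 E₁) (hE₂ : F.IsEssential 2 E₂) (hZE₁ : ZS S ≤ E₁) (hZE₂ : ZS S ≤ E₂)
    (hall : ∀ E, F.IsEssential 2 E → E = E₁ ∨ E = E₂) :
    coreE F E₁ hZE₁ ⊓ coreE F E₂ hZE₂ = ⊥ := by
  apply eq_bot_of_normal hcore
  refine normal_of_invariant hS F hF _ (fun P hP => ?_)
  rcases hP with hPS | hE
  · obtain rfl : S = P := hPS.symm
    refine ⟨inf_le_left.trans (coreE_le.trans ZS_le), fun α hα x hx => ?_⟩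
    exact ⟨autS_core hS F hF hcore hZ hE₁ hZE₁ hα x hx.1,
      autS_core hS F hF hcore hZ hE₂ hZE₂ hα x hx.2⟩
  · rcases hall P hE with h | h
    · subst h
      exact ⟨inf_le_left.trans (coreE_le.trans hZE₁), fun h hh x hx =>
        core_cross hS F hF hcore hZ hE₁ hE₂ hZE₁ hZE₂ hh x hx⟩
    · subst h
      refine ⟨inf_le_right.trans (coreE_le.trans hZE₂), fun h hh x hx => ?_⟩
      have := core_cross hS F hF hcore hZ hE₂ hE₁ hZE₂ hZE₁ hh x ⟨hx.2, hx.1⟩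
      exact ⟨this.2, this.1⟩

/-- automorphisms of `E₁` fix its core pointwise -/
theorem core_fix (hS : IsPGroup 2 S) (F : FusionSystem S) (hF : F.IsSaturated 2)
    (hcore : F.core = ⊥) (hZ : (Subgroup.center ↥S).index ≤ 2 ^ 2) {E₁ E₂ : Subgroup Ω}
    (hE₁ : F.IsEssential 2 E₁) (hE₂ : F.IsEssential 2 E₂) {y₁ y₂ : Ω}
    (d₁ : EssData 2 F E₁ y₁) (d₂ : EssData 2 F E₂ y₂)
    (hall : ∀ E, F.IsEssential 2 E → E = E₁ ∨ E = E₂) {h : MulAut E₁}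
    (hh : h ∈ F.autGroup E₁) (c : E₁) (hc : (c : Ω) ∈ coreE F E₁ d₁.hZE) : h c = c := by
  have hD := D_eq_bot hS F hF hcore hZ hE₁ hE₂ d₁.hZE d₂.hZE hall
  obtain ⟨g₁, -, -, -, -, -, -, hcard₁⟩ := core_facts hS hF hZ hE₁ d₁
  obtain ⟨g₂, -, hdec₂, hind₂, -, -, -, -⟩ := core_facts hS hF hZ hE₂ d₂
  haveI : Finite E₁ := finite_of_le d₁.hES
  -- uniqueness of nontrivial elements of the core
  have huniq : ∀ c c' : Ω, c ∈ coreE F E₁ d₁.hZE → c' ∈ coreE F E₁ d₁.hZE → c ≠ 1 → c' ≠ 1 →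
      c = c' := by
    intro c c' hc hc' hc1 hc'1
    obtain ⟨e, he, a, ha, hca⟩ := hdec₂ c (coreE_le hc)
    obtain ⟨e', he', a', ha', hca'⟩ := hdec₂ c' (coreE_le hc')
    have ha1 : a ≠ 1 := by
      intro h
      rw [h, mul_one] at hca
      have : c ∈ coreE F E₁ d₁.hZE ⊓ coreE F E₂ d₂.hZE := ⟨hc, hca ▸ he⟩
      rw [hD, Subgroup.mem_bot] at this
      exact hc1 this
    have ha'1 : a' ≠ 1 := by
      intro h
      rw [h, mul_one] at hca'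
      have : c' ∈ coreE F E₁ d₁.hZE ⊓ coreE F E₂ d₂.hZE := ⟨hc', hca' ▸ he'⟩
      rw [hD, Subgroup.mem_bot] at this
      exact hc'1 this
    have haa' : a = a' := by
      have hW : (WS S) ≤ E₁ := (WS_le_ZS hS hZ).trans d₁.hZE
      obtain ⟨w, -, hw⟩ := (Nat.card_eq_two_iff' (1 : (WS S).subgroupOf E₁)).mp hcard₁
      have h1 := hw ⟨⟨a, hW ha⟩, Subgroup.mem_subgroupOf.mpr ha⟩
        (fun h => ha1 (congrArg (fun t : (WS S).subgroupOf E₁ => ((t : E₁) : Ω)) h))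
      have h2 := hw ⟨⟨a', hW ha'⟩, Subgroup.mem_subgroupOf.mpr ha'⟩
        (fun h => ha'1 (congrArg (fun t : (WS S).subgroupOf E₁ => ((t : E₁) : Ω)) h))
      exact congrArg (fun t : (WS S).subgroupOf E₁ => ((t : E₁) : Ω)) (h1.trans h2.symm)
    have hmem : c * c'⁻¹ ∈ coreE F E₁ d₁.hZE ⊓ coreE F E₂ d₂.hZE := by
      refine ⟨Subgroup.mul_mem _ hc (Subgroup.inv_mem _ hc'), ?_⟩
      have e : c * c'⁻¹ = e * e'⁻¹ := by
        rw [hca, hca', ← haa', mul_inv_rev]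
        have hcomm : a * (a⁻¹ * e'⁻¹) = e'⁻¹ := mul_inv_cancel_left a _
        rw [mul_assoc, hcomm]
      rw [e]
      exact Subgroup.mul_mem _ he (Subgroup.inv_mem _ he')
    rw [hD, Subgroup.mem_bot] at hmem
    exact mul_inv_eq_one.mp hmem
  by_cases hc1 : (c : Ω) = 1
  · have : c = 1 := Subtype.ext hc1
    rw [this, map_one]
  · have h1 := coreE_inv hc hh
    have h2 : ((h c : E₁) : Ω) ≠ 1 := by
      intro h'
      have : h c = 1 := Subtype.ext h'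
      rw [EmbeddingLike.map_eq_one_iff] at this
      exact hc1 (congrArg Subtype.val this)
    exact Subtype.ext (huniq _ _ h1 hc h2 hc1)

end corefacts

section targ

/-- the key containment for the `T`-argument on one essential subgroup -/
theorem ess_in_N (hS : IsPGroup 2 S) (F : FusionSystem S) (hF : F.IsSaturated 2)
    (hcore : F.core = ⊥) (hZ : (Subgroup.center ↥S).index ≤ 2 ^ 2) {E₁ E₂ : Subgroup Ω}
    (hE₁ : F.IsEssential 2 E₁) (hE₂ : F.IsEssential 2 E₂) {y₁ y₂ : Ω}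
    (d₁ : EssData 2 F E₁ y₁) (d₂ : EssData 2 F E₂ y₂)
    (hall : ∀ E, F.IsEssential 2 E → E = E₁ ∨ E = E₂)
    (g₁ : MulAut E₁) (hg₁ : g₁ ∈ F.autGroup E₁)
    (hdec : ∀ x : E₁, ∃ c : E₁, (c : Ω) ∈ coreE F E₁ d₁.hZE ∧
        ∃ a ∈ (WS S).subgroupOf E₁, ∃ b ∈ (WS S).subgroupOf E₁, x = c * a * g₁ b)
    (hU : ∀ k ∈ F.autGroup E₁, ∀ w ∈ (WS S).subgroupOf E₁,
        ∃ a ∈ (WS S).subgroupOf E₁, ∃ b ∈ (WS S).subgroupOf E₁, k w = a * g₁ b)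
    (N : Subgroup Ω) (hWN : WS S ≤ N)
    (hgN : ∀ b ∈ (WS S).subgroupOf E₁, ((g₁ b : E₁) : Ω) ∈ N)
    {h : MulAut E₁} (hh : h ∈ F.autGroup E₁) (x : E₁) :
    (x : Ω)⁻¹ * ((h x : E₁) : Ω) ∈ N := by
  have hWN' : ∀ a ∈ (WS S).subgroupOf E₁, a ∈ N.subgroupOf E₁ := fun a ha =>
    Subgroup.mem_subgroupOf.mpr (hWN (Subgroup.mem_subgroupOf.mp ha))
  have hgN' : ∀ b ∈ (WS S).subgroupOf E₁, g₁ b ∈ N.subgroupOf E₁ := fun b hb =>
    Subgroup.mem_subgroupOf.mpr (hgN b hb)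
  obtain ⟨c, hc, a, ha, b, hb, hx⟩ := hdec x
  have hcfix := core_fix hS F hF hcore hZ hE₁ hE₂ d₁ d₂ hall hh c hc
  obtain ⟨a', ha', b', hb', hha⟩ := hU h hh a ha
  obtain ⟨a'', ha'', b'', hb'', hhg⟩ := hU (h * g₁) (Subgroup.mul_mem _ hh hg₁) b hb
  have hhx : h x = c * ((a' * g₁ b') * (a'' * g₁ b'')) := by
    rw [hx, map_mul, map_mul, hcfix, hha]
    have : h (g₁ b) = (h * g₁) b := rfl
    rw [this, hhg, mul_assoc]
  have hmem : x⁻¹ * h x ∈ N.subgroupOf E₁ := by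
    have e : x⁻¹ * h x = (a * g₁ b)⁻¹ * ((a' * g₁ b') * (a'' * g₁ b'')) := by
      rw [hhx, hx]
      group
    rw [e]
    exact Subgroup.mul_mem _ (Subgroup.inv_mem _ (Subgroup.mul_mem _ (hWN' a ha) (hgN' b hb)))
      (Subgroup.mul_mem _ (Subgroup.mul_mem _ (hWN' a' ha') (hgN' b' hb'))
        (Subgroup.mul_mem _ (hWN' a'' ha'') (hgN' b'' hb'')))
  exact Subgroup.mem_subgroupOf.mp hmem

/-- the hyperfocal subgroup lies in any `S`-invariant subgroup absorbing the relevant commutators -/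
theorem hyp_le_of_absorb (hS : IsPGroup 2 S) (F : FusionSystem S) (hF : F.IsSaturated 2)
    (N : Subgroup Ω) (hnorm : S ≤ Subgroup.normalizer (N : Set Ω)) (hWN : WS S ≤ N)
    (habs : ∀ P : Subgroup Ω, (P = S ∨ F.IsEssential 2 P) → ∀ α ∈ F.autGroup P, ∀ x : P,
      (x : Ω)⁻¹ * ((α x : P) : Ω) ∈ N) :
    F.hyperfocalSubgroup 2 ≤ N := by
  have hle : F ≤ cosetSystem F N hnorm := by
    refine Cfsg.Agent.S5082.result 2 hS F hF _ (fun P hP α hα => ?_)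
    have hPS : P ≤ S := by
      rcases hP with hPS | hE
      · exact hPS.le
      · exact hE.1.1
    rw [mem_autGroup_iff _ hPS]
    refine ⟨(mem_autGroup_iff F hPS).mp hα, fun x => ⟨1, S.one_mem, ?_⟩⟩
    rw [one_mul, inv_one, mul_one]
    exact habs P hP α hα x
  rw [FusionSystem.hyperfocalSubgroup, Subgroup.closure_le]
  rintro _ ⟨P, α, x, hPS, -, rfl⟩
  have hφ : P.subtype.comp (α : MulAut P).toMonoidHom ∈ F.Hom P :=
    (mem_autGroup_iff F hPS).mp α.2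
  obtain ⟨-, hN⟩ := hle P hφ
  obtain ⟨s, hs, hsN⟩ := hN x
  have e : (x : Ω)⁻¹ * (((α : MulAut P) x : P) : Ω) =
      ((x : Ω)⁻¹ * s * (x : Ω)⁻¹⁻¹ * s⁻¹) *
        ((s * (x : Ω) * s⁻¹)⁻¹ * (P.subtype.comp (α : MulAut P).toMonoidHom) x) := by
    show (x : Ω)⁻¹ * (((α : MulAut P) x : P) : Ω) =
      ((x : Ω)⁻¹ * s * (x : Ω)⁻¹⁻¹ * s⁻¹) * ((s * (x : Ω) * s⁻¹)⁻¹ * (((α : MulAut P) x : P) : Ω))
    group
  rw [SetLike.mem_coe, e]
  exact N.mul_mem (hWN (comm_mem_WS (S.inv_mem (hPS x.2)) hs)) hsN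

end targ

section final

/-- elements of `S` moved by `α` within a normal subgroup `N` -/
def absSub (N : Subgroup Ω) (hconj : ∀ t ∈ S, ∀ n ∈ N, t * n * t⁻¹ ∈ N) (α : MulAut S) :
    Subgroup Ω where
  carrier := {x | ∃ hx : x ∈ S, x⁻¹ * ((α ⟨x, hx⟩ : S) : Ω) ∈ N}
  one_mem' := by
    refine ⟨S.one_mem, ?_⟩
    have e : (⟨1, S.one_mem⟩ : S) = 1 := rfl
    rw [e, map_one, inv_one, one_mul]
    exact N.one_mem
  mul_mem' := by
    rintro x x' ⟨hx, hxN⟩ ⟨hx', hx'N⟩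
    refine ⟨S.mul_mem hx hx', ?_⟩
    have e : (⟨x * x', S.mul_mem hx hx'⟩ : S) = ⟨x, hx⟩ * ⟨x', hx'⟩ := rfl
    rw [e, map_mul, Subgroup.coe_mul]
    have e2 : (x * x')⁻¹ * (((α ⟨x, hx⟩ : S) : Ω) * ((α ⟨x', hx'⟩ : S) : Ω)) =
        (x'⁻¹ * (x⁻¹ * ((α ⟨x, hx⟩ : S) : Ω)) * x'⁻¹⁻¹) * (x'⁻¹ * ((α ⟨x', hx'⟩ : S) : Ω)) := by
      group
    rw [e2]
    exact N.mul_mem (hconj _ (S.inv_mem hx') _ hxN) hx'N
  inv_mem' := by
    rintro x ⟨hx, hxN⟩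
    refine ⟨S.inv_mem hx, ?_⟩
    have e : (⟨x⁻¹, S.inv_mem hx⟩ : S) = (⟨x, hx⟩ : S)⁻¹ := rfl
    rw [e, map_inv, Subgroup.coe_inv]
    have e2 : x⁻¹⁻¹ * (((α ⟨x, hx⟩ : S) : Ω))⁻¹ = x * (x⁻¹ * ((α ⟨x, hx⟩ : S) : Ω))⁻¹ * x⁻¹ := by
      group
    rw [e2]
    exact hconj x hx _ (N.inv_mem hxN)

theorem two_final (hS : IsPGroup 2 S) (F : FusionSystem S) (hF : F.IsSaturated 2)
    (hS1 : S ≠ ⊥) (hcore : F.core = ⊥) (hhyp : F.hyperfocalSubgroup 2 = S)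
    (hZ : (Subgroup.center ↥S).index ≤ 2 ^ 2) : Nonempty (↥S ≃* DihedralGroup 4) := by
  obtain ⟨E₁, E₂, hE₁, hE₂, hne, hall⟩ := two_ess hS F hF hS1 hcore hZ
  obtain ⟨y₁, d₁⟩ := exists_essData hS F hF hZ hE₁
  obtain ⟨y₂, d₂⟩ := exists_essData hS F hF hZ hE₂
  have hall' : ∀ E, F.IsEssential 2 E → E = E₂ ∨ E = E₁ := fun E hE => (hall E hE).symm
  obtain ⟨g₁, hg₁, -, -, hdec₁, hU₁, hgb₁, hcard₁⟩ := core_facts hS hF hZ hE₁ d₁
  obtain ⟨g₂, hg₂, -, -, hdec₂, hU₂, hgb₂, -⟩ := core_facts hS hF hZ hE₂ d₂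
  have hsqZ := sq_Z_eq_one hS F hF hcore hZ
  have hWZ := WS_le_ZS hS hZ
  haveI : Finite E₁ := finite_of_le d₁.hES
  obtain ⟨⟨⟨s, hsE⟩, hsW'⟩, hs1', hsuniq⟩ :=
    (Nat.card_eq_two_iff' (1 : (WS S).subgroupOf E₁)).mp hcard₁
  have hsW : s ∈ WS S := Subgroup.mem_subgroupOf.mp hsW'
  have hs1 : s ≠ 1 := fun h => hs1' (Subtype.ext (Subtype.ext h))
  have hWs : ∀ w ∈ WS S, w = 1 ∨ w = s := by
    intro w hw
    by_cases h : w = 1
    · exact Or.inl h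
    · right
      have := hsuniq ⟨⟨w, (hWZ.trans d₁.hZE) hw⟩, Subgroup.mem_subgroupOf.mpr hw⟩
        (fun h' => h (congrArg (fun t : (WS S).subgroupOf E₁ => ((t : E₁) : Ω)) h'))
      exact congrArg (fun t : (WS S).subgroupOf E₁ => ((t : E₁) : Ω)) this
  have hsE₂ : s ∈ E₂ := (hWZ.trans d₂.hZE) hsW
  obtain ⟨a₁, ha₁⟩ : ∃ a₁ : Ω, a₁ = ((g₁ ⟨s, hsE⟩ : E₁) : Ω) := ⟨_, rfl⟩
  obtain ⟨a₂, ha₂⟩ : ∃ a₂ : Ω, a₂ = ((g₂ ⟨s, hsE₂⟩ : E₂) : Ω) := ⟨_, rfl⟩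
  have ha₁E : a₁ ∈ E₁ := ha₁ ▸ (g₁ ⟨s, hsE⟩).2
  have ha₂E : a₂ ∈ E₂ := ha₂ ▸ (g₂ ⟨s, hsE₂⟩).2
  have ha₁Z : a₁ ∉ ZS S := by
    intro h
    rw [ha₁] at h
    have := hgb₁ ⟨s, hsE⟩ (Subgroup.mem_subgroupOf.mpr hsW) (Subgroup.mem_subgroupOf.mpr h)
    exact hs1 (congrArg Subtype.val this)
  have ha₂Z : a₂ ∉ ZS S := by
    intro h
    rw [ha₂] at h
    have := hgb₂ ⟨s, hsE₂⟩ (Subgroup.mem_subgroupOf.mpr hsW) (Subgroup.mem_subgroupOf.mpr h)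
    exact hs1 (congrArg Subtype.val this)
  have ha₁sq : a₁ ^ 2 = 1 := ess_sq hS F hF hcore hZ hE₁ a₁ ha₁E
  have ha₂sq : a₂ ^ 2 = 1 := ess_sq hS F hF hcore hZ hE₂ a₂ ha₂E
  have hE₂₁ : ¬ E₂ ≤ E₁ := by
    intro hle
    have h1 : E₂.subgroupOf S ≤ E₁.subgroupOf S := fun x hx =>
      Subgroup.mem_subgroupOf.mpr (hle (Subgroup.mem_subgroupOf.mp hx))
    exact hne (eq_of_subgroupOf_eq d₁.hES d₂.hES
      (XsGroup.eq_of_le_of_index_eq d₂.hidx d₁.hidx h1).symm)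
  have hcrit₁ : ∀ x ∈ E₁, ∀ t ∈ S, t ∉ E₁ → t * x = x * t → x ∈ ZS S := by
    intro x hx t ht htE hcomm
    have hK : S ≤ S ⊓ Subgroup.centralizer {x} := by
      apply d₁.hmax _ ?_ inf_le_left ?_
      · intro e he
        refine ⟨d₁.hES he, Subgroup.mem_centralizer_iff.mpr ?_⟩
        rintro _ rfl
        exact d₁.hab _ hx e he
      · intro hle
        apply htE
        apply hle
        refine ⟨ht, Subgroup.mem_centralizer_iff.mpr ?_⟩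
        rintro _ rfl
        exact hcomm.symm
    refine mem_ZS.mpr ⟨d₁.hES hx, fun s' hs' => ?_⟩
    have := Subgroup.mem_centralizer_iff.mp (hK hs').2 x rfl
    exact this.symm
  have ha₂E₁ : a₂ ∉ E₁ := by
    intro h
    obtain ⟨t, htE₂, htE₁⟩ := SetLike.not_le_iff_exists.mp hE₂₁
    exact ha₂Z (hcrit₁ a₂ h t (d₂.hES htE₂) htE₁ (d₂.hab t htE₂ a₂ ha₂E))
  have hncomm : a₁ * a₂ ≠ a₂ * a₁ := by
    intro h
    exact ha₁Z (hcrit₁ a₁ ha₁E a₂ (d₂.hES ha₂E) ha₂E₁ h.symm)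
  have hκW : a₁ * a₂ * a₁⁻¹ * a₂⁻¹ ∈ WS S := comm_mem_WS (d₁.hES ha₁E) (d₂.hES ha₂E)
  have hκ1 : a₁ * a₂ * a₁⁻¹ * a₂⁻¹ ≠ 1 := by
    intro h
    apply hncomm
    have : a₁ * a₂ = (a₁ * a₂ * a₁⁻¹ * a₂⁻¹) * (a₂ * a₁) := by group
    rw [this, h, one_mul]
  have hκs : a₁ * a₂ * a₁⁻¹ * a₂⁻¹ = s := (hWs _ hκW).resolve_left hκ1
  have hinv₁ : a₁⁻¹ = a₁ := inv_eq_of_mul_eq_one_right (by rw [← pow_two]; exact ha₁sq)
  have hinv₂ : a₂⁻¹ = a₂ := inv_eq_of_mul_eq_one_right (by rw [← pow_two]; exact ha₂sq)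
  have hprod2 : (a₁ * a₂) ^ 2 = s := by
    rw [pow_two, ← hκs, hinv₁, hinv₂, mul_assoc, mul_assoc, mul_assoc]
  have hprod4 : (a₁ * a₂) ^ 4 = 1 := by
    have : (a₁ * a₂) ^ 4 = ((a₁ * a₂) ^ 2) ^ 2 := by rw [← pow_mul]
    rw [this, hprod2]
    exact hsqZ s (hWZ hsW)
  -- pass to `S`
  obtain ⟨a₁', ha₁'⟩ : ∃ a₁' : S, (a₁' : Ω) = a₁ := ⟨⟨a₁, d₁.hES ha₁E⟩, rfl⟩
  obtain ⟨a₂', ha₂'⟩ : ∃ a₂' : S, (a₂' : Ω) = a₂ := ⟨⟨a₂, d₂.hES ha₂E⟩, rfl⟩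
  have ho₁ : orderOf a₁' = 2 := by
    refine orderOf_eq_prime (Subtype.ext ?_) (fun h => ha₁Z ?_)
    · rw [Subgroup.coe_pow, ha₁', ha₁sq]
      rfl
    · rw [← ha₁', h]
      exact (ZS S).one_mem
  have ho₂ : orderOf a₂' = 2 := by
    refine orderOf_eq_prime (Subtype.ext ?_) (fun h => ha₂Z ?_)
    · rw [Subgroup.coe_pow, ha₂', ha₂sq]
      rfl
    · rw [← ha₂', h]
      exact (ZS S).one_mem
  have hne12 : a₁' ≠ a₂' := by
    intro h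
    apply ha₂E₁
    rw [← ha₂', ← h, ha₁']
    exact ha₁E
  have ho12 : orderOf (a₁' * a₂') = 4 := by
    have h1 : ¬ (a₁' * a₂') ^ 2 ^ 1 = 1 := by
      intro h
      have h2 := congrArg Subtype.val h
      rw [pow_one, Subgroup.coe_pow, Subgroup.coe_mul, ha₁', ha₂', hprod2] at h2
      exact hs1 h2
    have h2 : (a₁' * a₂') ^ 2 ^ (1 + 1) = 1 := by
      apply Subtype.ext
      rw [Subgroup.coe_pow, Subgroup.coe_mul, ha₁', ha₂']
      exact hprod4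
    exact orderOf_eq_prime_pow h1 h2
  obtain ⟨e⟩ := Cfsg.Agent.S0206.result a₁' a₂' ho₁ ho₂ hne12
  rw [ho12] at e
  -- the subgroup N
  obtain ⟨N, hNdef⟩ : ∃ N : Subgroup Ω,
      N = (Subgroup.closure ({a₁', a₂'} : Set S)).map S.subtype := ⟨_, rfl⟩
  have ha₁N : a₁ ∈ N := by
    rw [hNdef]
    exact ⟨a₁', Subgroup.subset_closure (Set.mem_insert _ _), ha₁'⟩
  have ha₂N : a₂ ∈ N := by
    rw [hNdef]
    exact ⟨a₂', Subgroup.subset_closure (Set.mem_insert_of_mem _ rfl), ha₂'⟩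
  have hsN : s ∈ N := by
    rw [← hκs]
    exact N.mul_mem (N.mul_mem (N.mul_mem ha₁N ha₂N) (N.inv_mem ha₁N)) (N.inv_mem ha₂N)
  have hWN : WS S ≤ N := by
    intro w hw
    rcases hWs w hw with rfl | rfl
    · exact N.one_mem
    · exact hsN
  have hNS : N ≤ S := by
    rw [hNdef]
    rintro _ ⟨t, -, rfl⟩
    exact t.2
  have hconj : ∀ t ∈ S, ∀ n ∈ N, t * n * t⁻¹ ∈ N := by
    intro t ht n hn
    have : t * n * t⁻¹ = (t * n * t⁻¹ * n⁻¹) * n := by group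
    rw [this]
    exact N.mul_mem (hWN (comm_mem_WS ht (hNS hn))) hn
  have hnorm : S ≤ Subgroup.normalizer (N : Set Ω) := by
    intro t ht
    rw [Subgroup.mem_normalizer_iff]
    intro n
    constructor
    · exact hconj t ht n
    · intro h
      have := hconj t⁻¹ (S.inv_mem ht) _ h
      have e' : t⁻¹ * (t * n * t⁻¹) * t⁻¹⁻¹ = n := by group
      rwa [e'] at this
  have hgN₁ : ∀ b ∈ (WS S).subgroupOf E₁, ((g₁ b : E₁) : Ω) ∈ N := by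
    intro b hb
    rcases hWs b (Subgroup.mem_subgroupOf.mp hb) with h | h
    · have : b = 1 := Subtype.ext h
      rw [this, map_one]
      exact N.one_mem
    · have : b = ⟨s, hsE⟩ := Subtype.ext h
      rw [this, ← ha₁]
      exact ha₁N
  have hgN₂ : ∀ b ∈ (WS S).subgroupOf E₂, ((g₂ b : E₂) : Ω) ∈ N := by
    intro b hb
    rcases hWs b (Subgroup.mem_subgroupOf.mp hb) with h | h
    · have : b = 1 := Subtype.ext h
      rw [this, map_one]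
      exact N.one_mem
    · have : b = ⟨s, hsE₂⟩ := Subtype.ext h
      rw [this, ← ha₂]
      exact ha₂N
  have hess₁ : ∀ α ∈ F.autGroup E₁, ∀ x : E₁, (x : Ω)⁻¹ * ((α x : E₁) : Ω) ∈ N :=
    fun α hα x => ess_in_N hS F hF hcore hZ hE₁ hE₂ d₁ d₂ hall g₁ hg₁ hdec₁ hU₁ N hWN hgN₁ hα x
  have hess₂ : ∀ α ∈ F.autGroup E₂, ∀ x : E₂, (x : Ω)⁻¹ * ((α x : E₂) : Ω) ∈ N :=
    fun α hα x => ess_in_N hS F hF hcore hZ hE₂ hE₁ d₂ d₁ hall' g₂ hg₂ hdec₂ hU₂ N hWN hgN₂ hα x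
  have hSabs : ∀ α ∈ F.autGroup S, ∀ x : S, (x : Ω)⁻¹ * ((α x : S) : Ω) ∈ N := by
    intro α hα
    obtain ⟨τ₁, hτ₁, hτα₁⟩ := exists_restrict F le_rfl d₁.hES hα
      (fun x hx => aut_fix_ess hS F hF hcore hZ hE₁ hα x hx)
    obtain ⟨τ₂, hτ₂, hτα₂⟩ := exists_restrict F le_rfl d₂.hES hα
      (fun x hx => aut_fix_ess hS F hF hcore hZ hE₂ hα x hx)
    have hK : S ≤ absSub N hconj α := by
      apply d₁.hmax
      · intro x hx
        refine ⟨d₁.hES hx, ?_⟩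
        have := hess₁ τ₁ hτ₁ ⟨x, hx⟩
        rw [hτα₁] at this
        exact this
      · rintro x ⟨hx, -⟩
        exact hx
      · intro hle
        apply hE₂₁
        intro x hx
        apply hle
        refine ⟨d₂.hES hx, ?_⟩
        have := hess₂ τ₂ hτ₂ ⟨x, hx⟩
        rw [hτα₂] at this
        exact this
    intro x
    obtain ⟨hx, h⟩ := hK x.2
    exact h
  have habs : ∀ P : Subgroup Ω, (P = S ∨ F.IsEssential 2 P) → ∀ α ∈ F.autGroup P, ∀ x : P,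
      (x : Ω)⁻¹ * ((α x : P) : Ω) ∈ N := by
    intro P hP
    rcases hP with hPS | hE
    · obtain rfl : S = P := hPS.symm
      exact hSabs
    · rcases hall P hE with h | h
      · obtain rfl : E₁ = P := h.symm
        exact hess₁
      · obtain rfl : E₂ = P := h.symm
        exact hess₂
  have hle := hyp_le_of_absorb hS F hF N hnorm hWN habs
  rw [hhyp] at hle
  have hT : Subgroup.closure ({a₁', a₂'} : Set S) = ⊤ := by
    rw [eq_top_iff]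
    intro x _
    have := hle x.2
    rw [hNdef] at this
    obtain ⟨t, ht, htx⟩ := this
    have : t = x := Subtype.ext htx
    rw [← this]
    exact ht
  exact ⟨(Subgroup.topEquiv.symm.trans (MulEquiv.subgroupCongr hT.symm)).trans e⟩

end final

end Cfsg.Agent.Lib.Helper27.XsTwo
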