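import Mathlib
import Cfsg.Agent.Lib.Helper29.Yoshida

/-!
# Products of cocycles over a finite set with a group action

Abstract counting lemmas behind the transfer computations for Yoshida's theorem on fusion
systems: products of a cocycle over a permutation, cycle by cycle, and the evaluation for
`p`-groups without wreath quotient.
-/

set_option autoImplicit false

namespace Cfsg.Agent.Lib.Helper27.Yosh

open MulAction
open Cfsg.Agent.Lib.Helper29.Yoshida

section Cycle

variable {Y : Type*} [DecidableEq Y] {A : Type*} [CommMonoid A]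

/-- products over a set stable under a permutation, compared cycle by cycle -/
theorem prod_eq_of_cycle_aux [Finite Y] (σ : Equiv.Perm Y) (g h : Y → A)
    (H : ∀ y, ∏ i ∈ Finset.range (Function.minimalPeriod σ y), g ((σ ^ i) y)
            = ∏ i ∈ Finset.range (Function.minimalPeriod σ y), h ((σ ^ i) y)) (n : ℕ) :
    ∀ s : Finset Y, s.card = n → (∀ y, σ y ∈ s ↔ y ∈ s) →
      ∏ y ∈ s, g y = ∏ y ∈ s, h y := by
  induction n using Nat.strong_induction_on with
  | _ n ih =>
  intro s hs hinv
  rcases s.eq_empty_or_nonempty with rfl | ⟨y₀, hy₀⟩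
  · simp
  obtain ⟨k, hk⟩ : ∃ k, k = Function.minimalPeriod σ y₀ := ⟨_, rfl⟩
  have hper : (σ ^ k) y₀ = y₀ := by
    have h1 := Function.isPeriodicPt_minimalPeriod σ y₀
    rw [← hk] at h1
    have h2 : (σ ^ k) y₀ = σ^[k] y₀ := by rw [Equiv.Perm.iterate_eq_pow]
    rw [h2]
    exact h1
  have hkpos : 0 < k := by
    rw [hk]
    apply Function.IsPeriodicPt.minimalPeriod_pos (orderOf_pos σ)
    show σ^[orderOf σ] y₀ = y₀
    rw [Equiv.Perm.iterate_eq_pow, pow_orderOf_eq_one]
    rfl
  have hinj : Set.InjOn (fun i => (σ ^ i) y₀) (Finset.range k : Set ℕ) := by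
    intro i hi j hj hij
    have h1 := Function.iterate_injOn_Iio_minimalPeriod (f := σ) (x := y₀)
    rw [← hk] at h1
    apply h1
    · simpa using hi
    · simpa using hj
    · simp only [Equiv.Perm.iterate_eq_pow]
      exact hij
  obtain ⟨O, hO⟩ : ∃ O : Finset Y, O = (Finset.range k).image (fun i => (σ ^ i) y₀) := ⟨_, rfl⟩
  have hpow_mem : ∀ i : ℕ, (σ ^ i) y₀ ∈ s := by
    intro i
    induction i with
    | zero => simpa using hy₀
    | succ i ihi =>
      rw [pow_succ', Equiv.Perm.mul_apply]
      exact (hinv _).mpr ihi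
  have hOs : O ⊆ s := by
    intro y hy
    rw [hO, Finset.mem_image] at hy
    obtain ⟨i, -, rfl⟩ := hy
    exact hpow_mem i
  have hOinv : ∀ y, σ y ∈ O ↔ y ∈ O := by
    intro y
    constructor
    · intro hy
      rw [hO, Finset.mem_image] at hy ⊢
      obtain ⟨i, hi, hiy⟩ := hy
      rcases Nat.eq_zero_or_pos i with rfl | hipos
      · refine ⟨k - 1, Finset.mem_range.mpr (by omega), ?_⟩
        apply σ.injective
        rw [← Equiv.Perm.mul_apply, ← pow_succ', Nat.sub_add_cancel hkpos, hper]
        simpa using hiy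
      · refine ⟨i - 1, Finset.mem_range.mpr (by have := Finset.mem_range.mp hi; omega), ?_⟩
        apply σ.injective
        rw [← Equiv.Perm.mul_apply, ← pow_succ', Nat.sub_add_cancel hipos]
        exact hiy
    · intro hy
      rw [hO, Finset.mem_image] at hy ⊢
      obtain ⟨i, hi, rfl⟩ := hy
      by_cases hik : i + 1 = k
      · refine ⟨0, Finset.mem_range.mpr hkpos, ?_⟩
        rw [← Equiv.Perm.mul_apply, ← pow_succ', hik, hper]
        simp
      · refine ⟨i + 1, Finset.mem_range.mpr (by have := Finset.mem_range.mp hi; omega), ?_⟩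
        rw [pow_succ', Equiv.Perm.mul_apply]
  have hO_prod : ∀ F : Y → A, ∏ y ∈ O, F y = ∏ i ∈ Finset.range k, F ((σ ^ i) y₀) := by
    intro F
    rw [hO, Finset.prod_image hinj]
  have hsplit : ∀ F : Y → A, ∏ y ∈ s, F y = (∏ y ∈ s \ O, F y) * ∏ y ∈ O, F y := by
    intro F
    rw [Finset.prod_sdiff hOs]
  have Hy := H y₀
  rw [← hk] at Hy
  rw [hsplit g, hsplit h, hO_prod g, hO_prod h, Hy]
  congr 1
  apply ih (s \ O).card ?_ (s \ O) rfl
  · intro y
    rw [Finset.mem_sdiff, Finset.mem_sdiff, hinv, hOinv]
  · rw [← hs]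
    apply Finset.card_lt_card
    refine ⟨Finset.sdiff_subset, ?_⟩
    intro hsub
    have h1 : y₀ ∈ s \ O := hsub hy₀
    rw [Finset.mem_sdiff] at h1
    apply h1.2
    rw [hO, Finset.mem_image]
    exact ⟨0, Finset.mem_range.mpr hkpos, by simp⟩

theorem prod_eq_of_cycle [Fintype Y] (σ : Equiv.Perm Y) (g h : Y → A)
    (H : ∀ y, ∏ i ∈ Finset.range (Function.minimalPeriod σ y), g ((σ ^ i) y)
            = ∏ i ∈ Finset.range (Function.minimalPeriod σ y), h ((σ ^ i) y)) :
    ∏ y, g y = ∏ y, h y :=
  prod_eq_of_cycle_aux σ g h H _ Finset.univ rfl (fun y => by simp)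

end Cycle

section Cocycle

variable {P : Type*} [Group P] {Y : Type*} [MulAction P Y] {A : Type*} [CommGroup A]
  (f : P → Y → A) (hf : ∀ (g h : P) (y : Y), f (g * h) y = f g (h • y) * f h y)

theorem toPerm_pow_apply (u : P) (i : ℕ) (y : Y) :
    ((MulAction.toPerm u : Equiv.Perm Y) ^ i) y = u ^ i • y := by
  induction i with
  | zero => simp
  | succ i ih =>
    rw [pow_succ', Equiv.Perm.mul_apply, ih, MulAction.toPerm_apply, ← mul_smul, ← pow_succ']

include hf in
theorem cocycle_one (y : Y) : f 1 y = 1 := by
  have h1 := hf 1 1 y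
  rw [one_mul, one_smul] at h1
  exact (mul_eq_left.mp h1.symm)

include hf in
/-- the product of a cocycle along a segment of the orbit of a point under a cyclic group -/
theorem cocycle_prod_range (u : P) (y : Y) (k : ℕ) :
    ∏ i ∈ Finset.range k, f u (u ^ i • y) = f (u ^ k) y := by
  induction k with
  | zero => simp [cocycle_one f hf]
  | succ k ih =>
    rw [Finset.prod_range_succ, ih, pow_succ', hf, mul_comm]

include hf in
/-- the value of a cocycle at a translate of a point, for an element fixing the translate -/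
theorem cocycle_conj (u g : P) (y : Y) (h : (g⁻¹ * u * g) • y = y) :
    f u (g • y) = f (g⁻¹ * u * g) y := by
  have h1 := hf u g y
  have h2 := hf g (g⁻¹ * u * g) y
  rw [h] at h2
  have h3 : g * (g⁻¹ * u * g) = u * g := by group
  rw [h3, h1] at h2
  have h4 : f u (g • y) * f g y = f (g⁻¹ * u * g) y * f g y := by rw [h2, mul_comm]
  exact mul_right_cancel h4

include hf in
/-- a cocycle restricts to a homomorphism on the stabilizer of a point -/
def stabHom (y : Y) : ↥(stabilizer P y) →* A where
  toFun v := f (v : P) y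
  map_one' := cocycle_one f hf y
  map_mul' v w := by
    show f ((v : P) * (w : P)) y = _
    rw [hf]
    have : (w : P) • y = y := w.2
    rw [this]

theorem stabHom_apply (y : Y) (v : ↥(stabilizer P y)) : stabHom f hf y v = f (v : P) y := rfl

variable [Fintype Y] [DecidableEq Y]

include hf in
/-- comparison of the product of a cocycle with another product, cycle by cycle -/
theorem cocycle_prod_eq [Finite P] (u : P) (h : Y → A)
    (H : ∀ y : Y, f (u ^ Function.minimalPeriod (MulAction.toPerm u : Equiv.Perm Y) y) y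
        = ∏ i ∈ Finset.range (Function.minimalPeriod (MulAction.toPerm u : Equiv.Perm Y) y),
            h (u ^ i • y)) :
    ∏ y, f u y = ∏ y, h y := by
  apply prod_eq_of_cycle (MulAction.toPerm u : Equiv.Perm Y)
  intro y
  simp only [toPerm_pow_apply]
  rw [cocycle_prod_range f hf, H y]

include hf in
/-- the product of a cocycle when its values at the fixed powers are powers of a constant -/
theorem cocycle_prod_eq_pow_of_pow [Finite P] (u : P) (c : A)
    (h : ∀ (k : ℕ) (y : Y), u ^ k • y = y → f (u ^ k) y = c ^ k) :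
    ∏ y, f u y = c ^ Fintype.card Y := by
  rw [cocycle_prod_eq f hf u (fun _ => c), Finset.prod_const, Finset.card_univ]
  intro y
  rw [Finset.prod_const, Finset.card_range]
  apply h
  have h1 := Function.isPeriodicPt_minimalPeriod (MulAction.toPerm u : Equiv.Perm Y) y
  have h2 : (MulAction.toPerm u : Equiv.Perm Y)^[Function.minimalPeriod
      (MulAction.toPerm u : Equiv.Perm Y) y] y = y := h1
  rw [Equiv.Perm.iterate_eq_pow, toPerm_pow_apply] at h2
  exact h2

include hf in
/-- the product of a cocycle reduces to the fixed points when it vanishes at the proper powers -/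
theorem cocycle_prod_eq_fixed [Finite P] (u : P)
    (hvan : ∀ (k : ℕ) (y : Y), 1 < k → k ∣ orderOf u → u ^ k • y = y → f (u ^ k) y = 1) :
    ∏ y, f u y = ∏ y, (if u • y = y then f u y else 1) := by
  apply cocycle_prod_eq f hf u
  intro y
  obtain ⟨k, hk⟩ : ∃ k, k = Function.minimalPeriod (MulAction.toPerm u : Equiv.Perm Y) y :=
    ⟨_, rfl⟩
  rw [← hk]
  have hper : u ^ k • y = y := by
    have h1 := Function.isPeriodicPt_minimalPeriod (MulAction.toPerm u : Equiv.Perm Y) y
    have h2 : (MulAction.toPerm u : Equiv.Perm Y)^[Function.minimalPeriod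
        (MulAction.toPerm u : Equiv.Perm Y) y] y = y := h1
    rw [Equiv.Perm.iterate_eq_pow, toPerm_pow_apply, ← hk] at h2
    exact h2
  have hkd : k ∣ orderOf u := by
    rw [hk]
    apply Function.IsPeriodicPt.minimalPeriod_dvd
    show (MulAction.toPerm u : Equiv.Perm Y)^[orderOf u] y = y
    rw [Equiv.Perm.iterate_eq_pow, toPerm_pow_apply, pow_orderOf_eq_one, one_smul]
  have hkpos : 0 < k := Nat.pos_of_dvd_of_pos hkd (orderOf_pos u)
  by_cases hfix : u • y = y
  · have hk1 : k = 1 := by
      rw [hk, Function.minimalPeriod_eq_one_iff_isFixedPt]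
      exact hfix
    rw [hk1, pow_one, Finset.prod_range_one, pow_zero, one_smul, if_pos hfix]
  · have hk1 : 1 < k := by
      rcases Nat.lt_or_ge 1 k with h | h
      · exact h
      · exfalso
        have hk1 : k = 1 := by omega
        apply hfix
        rw [hk1, pow_one] at hper
        exact hper
    rw [hvan k y hk1 hkd hper]
    symm
    apply Finset.prod_eq_one
    intro i _
    rw [if_neg]
    intro h1
    apply hfix
    have h2 : u ^ i • (u • y) = u ^ i • y := by
      rw [← mul_smul, ← pow_succ, pow_succ', mul_smul]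
      exact h1
    exact smul_left_cancel _ h2

end Cocycle

end Cfsg.Agent.Lib.Helper27.Yosh
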