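import Cfsg.Agent.Lib.Helper27.Yosh1

/-!
# The product of a cocycle for a `p`-group without wreath quotient
-/

set_option autoImplicit false

namespace Cfsg.Agent.Lib.Helper27.Yosh

open MulAction
open Cfsg.Agent.Lib.Helper29.Yoshida

/-- the contribution of one orbit -/
theorem cocycle_orbit_term {P : Type*} [Group P] [Finite P] {p : ℕ} [Fact p.Prime]
    (hP : IsPGroup p P) (hnw : ¬ HasWreath p P) {Y : Type*} [DecidableEq Y]
    [MulAction P Y] (f : P → Y → Multiplicative (ZMod p))
    (hf : ∀ (g h : P) (y : Y), f (g * h) y = f g (h • y) * f h y)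
    (u : P) (c : Multiplicative (ZMod p))
    (h1 : ∀ y : Y, (∀ g : P, g • y = y) → f u y = c)
    (h2 : ∀ (k : ℕ) (y : Y), 1 < k → k ∣ orderOf u → u ^ k • y = y → f (u ^ k) y = 1)
    (y₀ : Y) [Fintype (P ⧸ stabilizer P y₀)] :
    ∏ q : P ⧸ stabilizer P y₀,
        (if u • (q.out • y₀) = q.out • y₀ then f u (q.out • y₀) else 1)
      = ∏ _q : P ⧸ stabilizer P y₀, c := by
  classical
  have hmemQ : ∀ v : P, v ∈ stabilizer P y₀ ↔ v • y₀ = y₀ := fun v => mem_stabilizer_iff
  have hfixiff : ∀ g : P, u • (g • y₀) = g • y₀ ↔ (g⁻¹ * u * g) • y₀ = y₀ := by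
    intro g
    rw [mul_smul, mul_smul, inv_smul_eq_iff]
  have hterm : ∀ q : P ⧸ stabilizer P y₀,
      (if u • (q.out • y₀) = q.out • y₀ then f u (q.out • y₀) else 1)
        = ext1 (stabilizer P y₀) (stabHom f hf y₀) (q.out⁻¹ * u * q.out) := by
    intro q
    by_cases hfx : u • (q.out • y₀) = q.out • y₀
    · have hv : (q.out⁻¹ * u * q.out) • y₀ = y₀ := (hfixiff _).mp hfx
      rw [if_pos hfx, ext1_of_mem _ _ ((hmemQ _).mpr hv), stabHom_apply,
        cocycle_conj f hf u q.out y₀ hv]
    · have hv : ¬ (q.out⁻¹ * u * q.out) • y₀ = y₀ := fun h => hfx ((hfixiff _).mpr h)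
      rw [if_neg hfx, ext1_of_not_mem _ _ (fun h => hv ((hmemQ _).mp h))]
  rw [Finset.prod_congr rfl (fun q _ => hterm q)]
  by_cases hStop : stabilizer P y₀ = ⊤
  · have hall : ∀ g : P, g • y₀ = y₀ := by
      intro g
      rw [← hmemQ, hStop]
      exact Subgroup.mem_top g
    apply Finset.prod_congr rfl
    intro q _
    have hv : (q.out⁻¹ * u * q.out) • y₀ = y₀ := hall _
    rw [ext1_of_mem _ _ ((hmemQ _).mpr hv), stabHom_apply, ← cocycle_conj f hf u q.out y₀ hv,
      hall q.out]
    exact h1 y₀ hall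
  · have hleft : ∏ q : P ⧸ stabilizer P y₀,
        ext1 (stabilizer P y₀) (stabHom f hf y₀) (q.out⁻¹ * u * q.out) = 1 := by
      apply plevel hP hnw (stabilizer P y₀) hStop (stabHom f hf y₀) u
      intro k r hk1 hkd hmem
      rw [stabHom_apply]
      have hv : (r⁻¹ * u ^ k * r) • y₀ = y₀ := (hmemQ _).mp hmem
      show f (r⁻¹ * u ^ k * r) y₀ = 1
      rw [← cocycle_conj f hf (u ^ k) r y₀ hv]
      apply h2 k (r • y₀) hk1 hkd
      rw [mul_smul, mul_smul, inv_smul_eq_iff] at hv
      exact hv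
    rw [hleft, Finset.prod_const, Finset.card_univ, ← Nat.card_eq_fintype_card,
      ← Subgroup.index_eq_card]
    obtain ⟨m, hm⟩ := IsPGroup.index hP (stabilizer P y₀)
    have hm0 : m ≠ 0 := by
      intro h0
      rw [h0, pow_zero] at hm
      exact hStop (Subgroup.index_eq_one.mp hm)
    obtain ⟨m', rfl⟩ := Nat.exists_eq_succ_of_ne_zero hm0
    rw [hm, pow_succ, pow_mul', zmod_pow, one_pow]

/-- For a `p`-group `P` without quotient `C_p ≀ C_p` acting on a finite set `Y`, and a
cocycle `f` with values in the group of order `p` vanishing at the fixed proper powers of an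
element `u` and taking the value `c` at the points fixed by the whole group, the product of
`f u` over `Y` is `c ^ |Y|`. -/
theorem cocycle_prod_eq_pow {P : Type*} [Group P] [Finite P] {p : ℕ} [Fact p.Prime]
    (hP : IsPGroup p P) (hnw : ¬ HasWreath p P) {Y : Type*} [Fintype Y] [DecidableEq Y]
    [MulAction P Y] (f : P → Y → Multiplicative (ZMod p))
    (hf : ∀ (g h : P) (y : Y), f (g * h) y = f g (h • y) * f h y)
    (u : P) (c : Multiplicative (ZMod p))
    (h1 : ∀ y : Y, (∀ g : P, g • y = y) → f u y = c)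
    (h2 : ∀ (k : ℕ) (y : Y), 1 < k → k ∣ orderOf u → u ^ k • y = y → f (u ^ k) y = 1) :
    ∏ y, f u y = c ^ Fintype.card Y := by
  classical
  let _ : Fintype (Quotient (orbitRel P Y)) := Fintype.ofFinite _
  let _ : ∀ o : Quotient (orbitRel P Y), Fintype (P ⧸ stabilizer P o.out) :=
    fun o => Fintype.ofFinite _
  rw [cocycle_prod_eq_fixed f hf u h2, orbit_prod (H := P)]
  rw [Finset.prod_congr rfl (fun o _ => cocycle_orbit_term hP hnw f hf u c h1 h2 o.out),
    ← orbit_prod (H := P) (fun _ => c), Finset.prod_const, Finset.card_univ]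

end Cfsg.Agent.Lib.Helper27.Yosh
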