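import Cfsg.Agent.Lib.Helper27.Yosh2
import Cfsg.Agent.Lib.helper17.CB15
import Cfsg.Agent.Lib.Helper26.PPIc

/-!
# The biset transfer as a product of a cocycle over the right orbits
-/

set_option autoImplicit false

namespace Cfsg.Agent.Lib.Helper27.Yosh

open Cfsg Cfsg.FusionSystem MulAction
open Cfsg.Agent.Lib.Helper26
open Cfsg.Agent.Lib.helper17.ParkGraph (graphOf IsFGraph mem_graphOf)
open Cfsg.Agent.Lib.helper17.CB12 Cfsg.Agent.Lib.helper17.CB14 Cfsg.Agent.Lib.helper17.CB15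
open Cfsg.Agent.Lib.Helper26.PPI (HasFGraphStab exists_stab_graph)
open Cfsg.Agent.Lib.Helper29.Yoshida

universe u

variable {Ω : Type u} [Group Ω] {S : Subgroup Ω}

section Biset

variable {X : Type u} [MulAction (S × S) X]

/-- the action of `S` on the right orbits, through the left action -/
@[instance_reducible] def actY (S : Subgroup Ω) (X : Type u) [MulAction (S × S) X] :
    MulAction S (Ybar S X) :=
  MulAction.compHom (Ybar S X) ((barHom S X).comp (iotaX S X))

theorem actY_smul (s : S) (y : Ybar S X) :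
    (letI := actY S X; s • y) = barPerm (iotaX S X s) y := rfl

variable {A : Type*} [CommGroup A] (lam : S →* A) (r : X → S)
  (hr : ∀ (t : S) (x : X), r (((1 : S), t) • x) = r x * t⁻¹)

/-- the cocycle whose product is the biset transfer -/
noncomputable def cocY (s : S) (y : Ybar S X) : A := fac lam r (iotaX S X s) y.out

include hr in
theorem cocY_mul (g h : S) (y : Ybar S X) :
    cocY lam r (g * h) y = cocY lam r g (barPerm (iotaX S X h) y) * cocY lam r h y := by
  unfold cocY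
  have h2 : barPerm (iotaX S X h) y = Quotient.mk (rightRel S X) ((iotaX S X h).1 y.out) := by
    conv_lhs => rw [← Quotient.out_eq y]
    exact barPerm_mk (iotaX S X h) y.out
  rw [h2, fac_out lam r hr, map_mul]
  unfold fac
  rw [← map_mul lam]
  congr 1
  show r ((iotaX S X g).1 ((iotaX S X h).1 y.out)) * (r y.out)⁻¹ = _
  group

theorem trans_eq_prod_cocY [Fintype (Ybar S X)] (s : S) :
    Cfsg.Agent.Lib.helper17.CB12.trans lam r (iotaX S X s) = ∏ y : Ybar S X, cocY lam r s y := rfl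

include hr in
/-- the value of the cocycle at a fixed right orbit -/
theorem cocY_of_fixed (F : FusionSystem S) (hX : HasFGraphStab F X) (s : S) (y : Ybar S X)
    (hfix : barPerm (iotaX S X s) y = y) :
    ∃ (R : Subgroup Ω) (θ : R →* Ω) (hθ : θ ∈ F.Hom R) (h : (s : Ω) ∈ R),
      cocY lam r s y = lam ⟨θ ⟨s, h⟩, apply_mem F hθ _⟩ ∧
      ∀ g : S, barPerm (iotaX S X g) y = y → (g : Ω) ∈ R := by
  obtain ⟨R, θ, hθ, hstx⟩ := exists_stab_graph hX y.out
  obtain ⟨t, ht⟩ := exists_label s y hfix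
  obtain ⟨h1, h2⟩ := (hstx (s, t)).mp ht
  refine ⟨R, θ, hθ, h1, ?_, ?_⟩
  · unfold cocY
    rw [fac_of_fixed lam r hr s t y.out ht]
    congr 1
    exact Subtype.ext h2.symm
  · intro g hg
    obtain ⟨t', ht'⟩ := exists_label g y hg
    exact ((hstx (g, t')).mp ht').1

end Biset

/-- elements of the focal subgroup in terms of a subgroup of `S` -/
theorem focal_le_map (F : FusionSystem S) (K : Subgroup S)
    (hK : ∀ (P : Subgroup Ω) (φ : P →* Ω) (hφ : φ ∈ F.Hom P) (x : P),
      (⟨x, source_le F hφ x.2⟩ : S)⁻¹ * ⟨φ x, apply_mem F hφ x⟩ ∈ K) :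
    F.focalSubgroup ≤ K.map S.subtype := by
  unfold FusionSystem.focalSubgroup
  rw [Subgroup.closure_le]
  rintro _ ⟨P, φ, x, hφ, rfl⟩
  exact ⟨_, hK P φ hφ x, rfl⟩

theorem focal_le (F : FusionSystem S) : F.focalSubgroup ≤ S := by
  refine (focal_le_map F ⊤ (fun _ _ _ _ => Subgroup.mem_top _)).trans ?_
  rintro _ ⟨a, -, rfl⟩
  exact a.2

/-- a homomorphism on `S` invariant under the maps of the system vanishes on the focal
subgroup -/
theorem eq_one_of_mem_focal (F : FusionSystem S) {A : Type*} [Group A] (τ : S →* A)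
    (hτ : ∀ (P : Subgroup Ω) (φ : P →* Ω) (hφ : φ ∈ F.Hom P) (x : P),
      τ ⟨φ x, apply_mem F hφ x⟩ = τ ⟨x, source_le F hφ x.2⟩)
    (u : S) (hu : (u : Ω) ∈ F.focalSubgroup) : τ u = 1 := by
  have h1 := focal_le_map F τ.ker (by
    intro P φ hφ x
    rw [MonoidHom.mem_ker, map_mul, map_inv, hτ P φ hφ x, inv_mul_cancel])
  obtain ⟨a, ha, hau⟩ := h1 hu
  have : a = u := Subtype.ext hau
  rw [← this]
  exact ha

theorem mul_inv_mem_focal (F : FusionSystem S) {P : Subgroup Ω} {φ : P →* Ω} (hφ : φ ∈ F.Hom P)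
    (x : P) : (x : Ω)⁻¹ * φ x ∈ F.focalSubgroup :=
  Subgroup.subset_closure ⟨P, φ, x, hφ, rfl⟩

/-- the focal subgroup is strongly closed -/
theorem apply_mem_focal (F : FusionSystem S) {P : Subgroup Ω} {φ : P →* Ω} (hφ : φ ∈ F.Hom P)
    (x : P) (hx : (x : Ω) ∈ F.focalSubgroup) : φ x ∈ F.focalSubgroup := by
  have h1 : φ x = (x : Ω) * ((x : Ω)⁻¹ * φ x) := by group
  rw [h1]
  exact F.focalSubgroup.mul_mem hx (mul_inv_mem_focal F hφ x)

end Cfsg.Agent.Lib.Helper27.Yosh
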