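import Cfsg.Agent.Lib.Helper27.Yosh3

/-!
# Yoshida's theorem for fusion systems: homomorphisms to the group of order `p`
-/

set_option autoImplicit false

namespace Cfsg.Agent.Lib.Helper27.Yosh

open Cfsg Cfsg.FusionSystem MulAction
open Cfsg.Agent.Lib.Helper26
open Cfsg.Agent.Lib.helper17.ParkGraph (graphOf IsFGraph mem_graphOf)
open Cfsg.Agent.Lib.helper17.CB11 Cfsg.Agent.Lib.helper17.CB12 Cfsg.Agent.Lib.helper17.CB14
  Cfsg.Agent.Lib.helper17.CB15
open Cfsg.Agent.Lib.Helper26.PPI (HasFGraphStab exists_stab_graph)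
open Cfsg.Agent.Lib.Helper29.Yoshida

universe u

variable {Ω : Type u} [Group Ω] {S : Subgroup Ω}

/-- a characteristic biset together with a retraction -/
theorem exists_char_biset_retraction [Finite S] {p : ℕ} [Fact p.Prime] (hS : IsPGroup p S)
    (F : FusionSystem S) (hF : F.IsSaturated p) :
    ∃ (X : Type u) (_ : Finite X) (_ : MulAction (S × S) X) (_ : Fintype (Ybar S X)),
      HasFGraphStab F X ∧
      (∀ L L' : Subgroup (S × S), IsFGraph F L → IsFGraph F L' →
        F.IsConj (Cfsg.Agent.Lib.helper17.CB2.src L) (Cfsg.Agent.Lib.helper17.CB2.src L') →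
        Nat.card (Cfsg.Agent.Lib.helper17.CB1.Fix X L)
          = Nat.card (Cfsg.Agent.Lib.helper17.CB1.Fix X L')) ∧
      (∃ r : X → S, ∀ (t : S) (x : X), r (((1 : S), t) • x) = r x * t⁻¹) ∧
      ¬ p ∣ Fintype.card (Ybar S X) := by
  classical
  obtain ⟨X, hfin, hact, hXg, hst, m, hcard, hm⟩ := exists_char_biset hS F hF
  have hX : HasFGraphStab F X := hXg
  obtain ⟨r0, hr0⟩ := exists_retraction (X := X) (⊥ : Subgroup S) (by
    intro x c t hc hfix
    rw [Subgroup.mem_bot] at hc
    subst hc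
    obtain ⟨R, θ, hθ, hstx⟩ := exists_stab_graph hX x
    obtain ⟨h1, h2⟩ := (hstx _).mp hfix
    apply Subtype.ext
    rw [← h2]
    have h3 : (⟨(((1 : S), t) : S × S).1, h1⟩ : R) = 1 := Subtype.ext rfl
    rw [h3, map_one]
    rfl)
  have hr : ∀ (t : S) (x : X), r0 (((1 : S), t) • x) = r0 x * t⁻¹ := by
    intro t x
    rw [hr0 1 (Subgroup.one_mem _) t x, one_mul]
  let hft : Fintype (Ybar S X) := Fintype.ofFinite _
  refine ⟨X, hfin, hact, hft, hX, hst, ⟨r0, hr⟩, ?_⟩
  have hcardY : Fintype.card (Ybar S X) = m := by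
    have hcard2 := card_eq_of_retraction r0 hr
    rw [hcard, mul_comm] at hcard2
    rw [← Nat.card_eq_fintype_card]
    exact (Nat.eq_of_mul_eq_mul_right Nat.card_pos hcard2).symm
  rw [hcardY]
  exact hm

/-- **Yoshida's theorem for fusion systems, the case of the group of order `p`.** If `S` has no
quotient `C_p ≀ C_p`, every homomorphism from `S` to the group of order `p` invariant under
`Aut_F(S)` vanishes on the focal subgroup. -/
theorem yoshida_main [Finite S] {p : ℕ} [Fact p.Prime] (hS : IsPGroup p S) (F : FusionSystem S)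
    (hF : F.IsSaturated p) (hnw : ¬ HasWreath p ↥S) (lam : S →* Multiplicative (ZMod p))
    (hinv : ∀ (θ : S →* Ω) (hθ : θ ∈ F.Hom S) (s : S), lam ⟨θ s, apply_mem F hθ s⟩ = lam s) :
    ∀ u : S, (u : Ω) ∈ F.focalSubgroup → lam u = 1 := by
  classical
  have hp : p.Prime := Fact.out
  obtain ⟨X, hfin, hact, hft, hX, hst, ⟨r0, hr⟩, hm⟩ := exists_char_biset_retraction hS F hF
  letI := actY S X
  intro u
  induction' hn : orderOf u using Nat.strong_induction_on with n ih generalizing u
  intro hu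
  have hτ : transHom lam r0 hr (iotaX S X u) = 1 :=
    eq_one_of_mem_focal F ((transHom lam r0 hr).comp (iotaX S X))
      (fun P φ hφ x => transHom_invariant F hX hst lam r0 hr hφ x) u hu
  rw [transHom_apply, trans_eq_prod_cocY] at hτ
  have key := cocycle_prod_eq_pow hS hnw (cocY lam r0) (fun g h y => cocY_mul lam r0 hr g h y)
    u (lam u) (by
      intro y hall
      obtain ⟨R, θ, hθ, h, hval, hR⟩ := cocY_of_fixed lam r0 hr F hX u y (hall u)
      have hRS : S = R := le_antisymm (fun g hg => hR ⟨g, hg⟩ (hall ⟨g, hg⟩)) (source_le F hθ)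
      subst hRS
      rw [hval]
      exact hinv θ hθ u) (by
      intro k y hk1 hkd hfix
      obtain ⟨R, θ, hθ, h, hval, -⟩ := cocY_of_fixed lam r0 hr F hX (u ^ k) y hfix
      rw [hval]
      apply ih (orderOf (⟨θ ⟨((u ^ k : S) : Ω), h⟩, apply_mem F hθ _⟩ : S)) _ _ rfl
      · exact apply_mem_focal F hθ _ (F.focalSubgroup.pow_mem hu k)
      · rw [← hn, ← Subgroup.orderOf_coe]
        show orderOf (θ ⟨((u ^ k : S) : Ω), h⟩) < orderOf u
        rw [orderOf_injective θ (F.injective_of_mem hθ), ← Subgroup.orderOf_coe]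
        show orderOf ((u ^ k : S) : Ω) < orderOf u
        rw [Subgroup.orderOf_coe, orderOf_pow_of_dvd (by omega) hkd]
        exact Nat.div_lt_self (orderOf_pos u) hk1)
  rw [key] at hτ
  have h3 : lam u ^ p = 1 := zmod_pow p (lam u)
  have hcop : Nat.Coprime (Fintype.card (Ybar S X)) p := by
    rw [Nat.coprime_comm, hp.coprime_iff_not_dvd]
    exact hm
  have h4 : orderOf (lam u) ∣ 1 := by
    rw [← Nat.Coprime.gcd_eq_one hcop]
    exact Nat.dvd_gcd (orderOf_dvd_of_pow_eq_one hτ) (orderOf_dvd_of_pow_eq_one h3)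
  exact orderOf_eq_one_iff.mp (Nat.dvd_one.mp h4)

end Cfsg.Agent.Lib.Helper27.Yosh
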