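import Mathlib
import Cfsg.Agent.S5087
import Cfsg.Agent.Lib.Helper27.AlperinOrd
import Cfsg.Agent.Lib.Helper27.EssExt
import Cfsg.Agent.Lib.Helper27.FusLift
import Cfsg.Agent.Lib.helper17.CW2
import Cfsg.Prelude.Def_PLocal

/-!
# Generation of a saturated fusion system by a centralizer and a normalizer: the Frattini step
-/

set_option autoImplicit false

namespace Cfsg.Agent.Lib.Helper27.ZG

open Cfsg Cfsg.FusionSystem Cfsg.Agent.Lib.Helper26 Cfsg.Agent.Lib.Helper27
  Cfsg.Agent.Lib.helper17.CW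

universe u

variable {Ω : Type u} [Group Ω] {S : Subgroup Ω}

/-- the subgroup generated by the `p`-th powers of the central elements of `S` -/
def Vof (p : ℕ) (S : Subgroup Ω) : Subgroup Ω :=
  Cfsg.powerClosure p 1 (S ⊓ Subgroup.centralizer (S : Set Ω))

/-- `E` contains the centralizer system of `Vof p S` and the normalizer system of `J(S)` -/
def Good (p : ℕ) (F E : FusionSystem S) : Prop :=
  (∀ P : Subgroup Ω, F.centralizerHom (Vof p S) P ⊆ E.Hom P) ∧
    (∀ P : Subgroup Ω, F.normalizerHom (Cfsg.thompsonSubgroupAOf S) P ⊆ E.Hom P)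

/-- `F` is generated by the two subsystems -/
def Gen (p : ℕ) (F : FusionSystem S) : Prop :=
  ∀ E : FusionSystem S, Good p F E → F ≤ E

/-- an element of a normal subgroup `X` of `S`, outside `P`, normalizing `P` -/
theorem exists_outer_normalizing [Finite S] {p : ℕ} [Fact p.Prime] (hS : IsPGroup p S)
    {P X : Subgroup Ω} (hPS : P ≤ S) (hXS : X ≤ S) (hSX : S ≤ Subgroup.normalizer (X : Set Ω))
    (hXP : ¬ X ≤ P) : ∃ x ∈ X, x ∈ Subgroup.normalizer (P : Set Ω) ∧ x ∉ P := by
  have hMS : P ⊔ X ≤ S := sup_le hPS hXS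
  haveI : Finite ↥(P ⊔ X) := finite_of_le hMS
  have hM : IsPGroup p ↥(P ⊔ X) := hS.to_le hMS
  have hne : P ≠ P ⊔ X := by
    intro h
    apply hXP
    rw [h]
    exact le_sup_right
  have hlt := lt_normalizerIn hM (le_sup_left : P ≤ P ⊔ X) hne
  obtain ⟨y, hyN, hyP⟩ := SetLike.exists_of_lt hlt
  obtain ⟨a, ha, x, hx, rfl⟩ := exists_mul_of_mem_sup (hPS.trans hSX) hyN.1
  refine ⟨x, hx, ?_, ?_⟩
  · have h1 : a⁻¹ ∈ Subgroup.normalizer (P : Set Ω) :=
      Subgroup.inv_mem _ (Subgroup.le_normalizer ha)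
    have h2 := Subgroup.mul_mem _ h1 hyN.2
    rwa [inv_mul_cancel_left] at h2
  · intro hxP
    exact hyP (P.mul_mem ha hxP)

/-- the centralizer in `S` of a subgroup normalized by `S` is normalized by `S` -/
theorem le_normalizer_centralizerIn' {U : Subgroup Ω}
    (hSU : S ≤ Subgroup.normalizer (U : Set Ω)) :
    S ≤ Subgroup.normalizer ((centralizerIn S U : Subgroup Ω) : Set Ω) := by
  have key : ∀ s ∈ S, ∀ x ∈ centralizerIn S U, s * x * s⁻¹ ∈ centralizerIn S U := by
    intro s hs x hx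
    refine ⟨S.mul_mem (S.mul_mem hs hx.1) (S.inv_mem hs), ?_⟩
    show s * x * s⁻¹ ∈ Subgroup.centralizer (U : Set Ω)
    rw [Subgroup.mem_centralizer_iff]
    intro u hu
    have hu' : s⁻¹ * u * s ∈ U := (Subgroup.mem_normalizer_iff''.mp (hSU hs) u).mp hu
    have hc := (Subgroup.mem_centralizer_iff.mp hx.2) _ hu'
    calc u * (s * x * s⁻¹) = s * ((s⁻¹ * u * s) * x) * s⁻¹ := by group
      _ = s * (x * (s⁻¹ * u * s)) * s⁻¹ := by rw [hc]
      _ = s * x * s⁻¹ * u := by group
  intro s hs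
  refine mem_normalizer_of_forall (fun x hx => key s hs x hx) (fun x hx => ?_)
  have := key s⁻¹ (S.inv_mem hs) x hx
  rwa [inv_inv] at this

end Cfsg.Agent.Lib.Helper27.ZG
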