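import Mathlib
import Cfsg.Agent.Lib.Helper27.ZG1

/-!
# The Frattini generation lemma: `F = ⟨S C_F(U), N_F(C_S(U))⟩` for `U ⊴ F`
-/

set_option autoImplicit false

namespace Cfsg.Agent.Lib.Helper27.ZG

open Cfsg Cfsg.FusionSystem Cfsg.Agent.Lib.Helper26 Cfsg.Agent.Lib.Helper27
  Cfsg.Agent.Lib.helper17.CW

universe u

variable {Ω : Type u} [Group Ω] {S : Subgroup Ω}

/-- an automorphism of `P ⊇ U` preserving `U` preserves `C_S(U)` when it lies in `P` -/
theorem aut_pres_centralizerIn {U P : Subgroup Ω} (hPS : P ≤ S) (hUP : U ≤ P) (α : MulAut P)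
    (hinv : (U.subgroupOf P).map α.toMonoidHom = U.subgroupOf P) (x : P)
    (hx : (x : Ω) ∈ centralizerIn S U) : ((α x : P) : Ω) ∈ centralizerIn S U := by
  refine ⟨hPS (α x).2, ?_⟩
  show ((α x : P) : Ω) ∈ Subgroup.centralizer (U : Set Ω)
  rw [Subgroup.mem_centralizer_iff]
  intro u hu
  have hu' : (⟨u, hUP hu⟩ : P) ∈ (U.subgroupOf P).map α.toMonoidHom := by
    rw [hinv]
    exact Subgroup.mem_subgroupOf.mpr hu
  obtain ⟨u', hu'U, hu'e⟩ := hu'
  have hc : (u' : Ω) * x = x * u' :=
    (Subgroup.mem_centralizer_iff.mp hx.2) u' (Subgroup.mem_subgroupOf.mp hu'U)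
  have hc' : u' * x = x * u' := Subtype.ext hc
  have h1 := congrArg (fun t : P => ((α t : P) : Ω)) hc'
  simp only [map_mul, Subgroup.coe_mul] at h1
  have h2 : ((α u' : P) : Ω) = u := congrArg Subtype.val hu'e
  rw [h2] at h1
  exact h1

/-- the Frattini generation lemma -/
theorem frattini_gen [Finite S] {p : ℕ} [Fact p.Prime] (hS : IsPGroup p S) (F : FusionSystem S)
    (hF : F.IsSaturated p) (E : FusionSystem S) {U : Subgroup Ω} (hU : F.IsNormal U)
    (hfix : ∀ (P : Subgroup Ω) (φ : P →* Ω), φ ∈ F.Hom P → U ≤ P →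
      (∀ x : P, (x : Ω) ∈ U → φ x = x) → φ ∈ E.Hom P)
    (hnorm : ∀ P : Subgroup Ω, F.normalizerHom (centralizerIn S U) P ⊆ E.Hom P) : F ≤ E := by
  classical
  have hUS : U ≤ S := hU.1
  have hSU : S ≤ Subgroup.normalizer (U : Set Ω) := isNormal_le_normalizer hU
  have hXS : centralizerIn S U ≤ S := inf_le_left
  have hSX : S ≤ Subgroup.normalizer ((centralizerIn S U : Subgroup Ω) : Set Ω) :=
    le_normalizer_centralizerIn' hSU
  have hchar := (Cfsg.Agent.S5087.result p hS F hF U).mp hU
  have claim : ∀ (k : ℕ) (P : Subgroup Ω), (P = S ∨ F.IsEssential p P) →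
      Nat.card S - Nat.card P = k → F.autGroup P ≤ E.autGroup P := by
    intro k
    induction k using Nat.strong_induction_on with
    | _ k ihk =>
      intro P hP hk α hα
      have hPS : P ≤ S := by
        rcases hP with h | h
        · exact h.le
        · exact h.1.1
      haveI hfinP : Finite P := finite_of_le hPS
      obtain ⟨hUP, hinvU⟩ := hchar P hP
      have hPc : Nat.card P ≤ Nat.card S := card_le_card_of_le_of_finite hPS
      have ih : ∀ Q : Subgroup Ω, Q ≤ S → Nat.card P < Nat.card Q → F.Hom Q ⊆ E.Hom Q := by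
        intro Q hQS hcard
        refine AlperinOrd.alperin_above p hS F hF E (Nat.card P) ?_ Q hQS hcard
        intro P' hP' hlt
        have hP'S : P' ≤ S := by
          rcases hP' with h | h
          · exact h.le
          · exact h.1.1
        have hP'c : Nat.card P' ≤ Nat.card S := card_le_card_of_le_of_finite hP'S
        exact ihk _ (by omega) P' hP' rfl
      by_cases hXP : centralizerIn S U ≤ P
      · -- `α` normalizes `C_S(U)`
        have hφ : P.subtype.comp α.toMonoidHom ∈ F.Hom P := (mem_autGroup_iff F hPS).mp hα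
        have h1 := mem_normalizerHom_of_invariant F hφ hXP (hPS.trans hSX) (fun x hx =>
          aut_pres_centralizerIn hPS hUP α (hinvU α hα) x hx)
        exact (mem_autGroup_iff E hPS).mpr (hnorm P h1)
      · have hess : F.IsEssential p P := hP.resolve_left (fun h => hXP (h ▸ hXS))
        have hfn : F.IsFullyNormalized P := hess.2.1
        -- the automorphisms fixing `U` pointwise
        let K'' : Subgroup ↥(F.autGroup P) :=
          { carrier := {β | ∀ x : P, (x : Ω) ∈ U → (β : MulAut P) x = x}
            one_mem' := fun x _ => rfl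
            mul_mem' := by
              intro a b ha hb x hx
              show ((a : MulAut P) * (b : MulAut P)) x = x
              rw [MulAut.mul_apply, hb x hx, ha x hx]
            inv_mem' := by
              intro a ha x hx
              have h1 := ha x hx
              show ((a : MulAut P)⁻¹) x = x
              nth_rewrite 1 [← h1]
              exact MulAut.inv_apply_self _ _ _ }
        have hK''mem : ∀ β : ↥(F.autGroup P), β ∈ K'' ↔
            ∀ x : P, (x : Ω) ∈ U → (β : MulAut P) x = x := fun β => Iff.rfl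
        haveI hK''n : K''.Normal := by
          constructor
          intro n hn g
          rw [hK''mem] at hn ⊢
          intro x hx
          have hgx : (((g⁻¹ : ↥(F.autGroup P)) : MulAut P) x : Ω) ∈ U :=
            isNormal_apply_mem hU hPS (g⁻¹).2 x hx
          have h1 := hn _ hgx
          show ((g : MulAut P) * (n : MulAut P) * ((g : MulAut P))⁻¹) x = x
          rw [MulAut.mul_apply, MulAut.mul_apply]
          have e : ((g : MulAut P))⁻¹ x = ((g⁻¹ : ↥(F.autGroup P)) : MulAut P) x := rfl
          rw [e, h1]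
          show (g : MulAut P) (((g : MulAut P))⁻¹ x) = x
          exact MulAut.apply_inv_self _ _ _
        obtain ⟨-, ⟨-, Sy, hSy⟩, -⟩ := saturated_fullyNormalized hS F hF hfn
        have hT : Cfsg.Agent.Lib.Helper18.IsSylowIn p
            ((autInducedBy S P).subgroupOf (F.autGroup P)) ⊤ := by
          rw [← hSy]
          exact Cfsg.Agent.Lib.Helper18.isSylowIn_top_of_sylow Sy
        have hT₁ : Cfsg.Agent.Lib.Helper18.IsSylowIn p
            ((autInducedBy S P).subgroupOf (F.autGroup P) ⊓ K'') K'' := by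
          refine hT.inf_of_normal le_top ?_
          rw [Subgroup.normalizer_eq_top]
        obtain ⟨k₀, hk₀, hk₀N⟩ := hT₁.frattini (g := (⟨α, hα⟩ : ↥(F.autGroup P))) (by
          rw [Subgroup.normalizer_eq_top]
          exact Subgroup.mem_top _)
        -- the outer element
        obtain ⟨x₀, hx₀X, hx₀N, hx₀P⟩ := exists_outer_normalizing hS hPS hXS hSX hXP
        have hMX : Subgroup.zpowers x₀ ≤ centralizerIn S U := by
          rw [Subgroup.zpowers_le]
          exact hx₀X
        have hMS : Subgroup.zpowers x₀ ≤ S := hMX.trans hXS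
        have hMN : Subgroup.zpowers x₀ ≤ Subgroup.normalizer (P : Set Ω) := by
          rw [Subgroup.zpowers_le]
          exact hx₀N
        have hext : ∀ u (hu : u ∈ Subgroup.zpowers x₀), ∃ h ∈ S, ∀ x : P,
            ((((k₀ * ⟨α, hα⟩ : ↥(F.autGroup P)) : MulAut P)
              ⟨u * x * u⁻¹, conj_mem_of_mem_normalizer (hMN hu) x⟩ : P) : Ω) =
              h * ((((k₀ * ⟨α, hα⟩ : ↥(F.autGroup P)) : MulAut P) x : P) : Ω) * h⁻¹ := by
          intro u hu
          have hcuu : conjAut P u (hMN hu) ∈ F.autGroup P :=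
            autInducedBy_le_autGroup F hPS (conjAut_mem_autInducedBy (hMS hu) (hMN hu))
          have hmemT : (⟨conjAut P u (hMN hu), hcuu⟩ : ↥(F.autGroup P)) ∈
              (autInducedBy S P).subgroupOf (F.autGroup P) ⊓ K'' := by
            refine ⟨Subgroup.mem_subgroupOf.mpr (conjAut_mem_autInducedBy (hMS hu) (hMN hu)), ?_⟩
            refine (hK''mem _).mpr ?_
            intro v hv
            apply Subtype.ext
            rw [conjAut_apply]
            have hc := (Subgroup.mem_centralizer_iff.mp (hMX hu).2) (v : Ω) hv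
            rw [← hc, mul_inv_cancel_right]
          have h1 := (Subgroup.mem_normalizer_iff.mp hk₀N _).mp hmemT
          obtain ⟨h, hhS, hh⟩ := mem_autInducedBy_iff.mp (Subgroup.mem_subgroupOf.mp h1.1)
          refine ⟨h, hhS, fun x => ?_⟩
          have h2 := hh (((k₀ * ⟨α, hα⟩ : ↥(F.autGroup P)) : MulAut P) x)
          rw [← h2]
          simp only [Subgroup.coe_mul, Subgroup.coe_inv, MulAut.mul_apply]
          rw [show ((k₀ : MulAut P) * α)⁻¹ ((k₀ : MulAut P) (α x)) = x from by
            have e1 : (k₀ : MulAut P) (α x) = ((k₀ : MulAut P) * α) x := rfl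
            rw [e1, MulAut.inv_apply_self]]
          rfl
        obtain ⟨ψ, hψ, hψP⟩ := EssExt.exists_extension hS F hF hfn
          ((k₀ * ⟨α, hα⟩ : ↥(F.autGroup P)) : MulAut P) (k₀ * ⟨α, hα⟩).2
          (Subgroup.zpowers x₀) hMS hMN hext
        have hlt : P < P ⊔ Subgroup.zpowers x₀ := by
          refine lt_of_le_of_ne le_sup_left ?_
          intro h
          apply hx₀P
          rw [h]
          exact (le_sup_right : Subgroup.zpowers x₀ ≤ _) (Subgroup.mem_zpowers x₀)
        have hQS : P ⊔ Subgroup.zpowers x₀ ≤ S := sup_le hPS hMS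
        haveI hfinQ : Finite ↥(P ⊔ Subgroup.zpowers x₀) := finite_of_le hQS
        have hcard : Nat.card P < Nat.card ↥(P ⊔ Subgroup.zpowers x₀) :=
          card_lt_card_of_lt hlt
        have hψE : ψ ∈ E.Hom (P ⊔ Subgroup.zpowers x₀) := ih _ hQS hcard hψ
        -- `k₀ * α` lies in `Aut_E(P)`
        have hkα : ((k₀ * ⟨α, hα⟩ : ↥(F.autGroup P)) : MulAut P) ∈ E.autGroup P := by
          rw [mem_autGroup_iff E hPS]
          exact mem_of_forall_eq E (restrict_mem E hψE le_sup_left) (fun x => (hψP x).symm)
        -- `k₀` lies in `Aut_E(P)`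
        have hk₀E : (k₀ : MulAut P) ∈ E.autGroup P := by
          rw [mem_autGroup_iff E hPS]
          refine hfix P _ ((mem_autGroup_iff F hPS).mp k₀.2) hUP (fun x hx => ?_)
          have := (hK''mem k₀).mp hk₀ x hx
          exact congrArg Subtype.val this
        have e : α = (k₀ : MulAut P)⁻¹ * ((k₀ * ⟨α, hα⟩ : ↥(F.autGroup P)) : MulAut P) := by
          simp
        rw [e]
        exact Subgroup.mul_mem _ (Subgroup.inv_mem _ hk₀E) hkα
  -- conclusion
  intro P φ hφ
  have hPS : P ≤ S := source_le F hφ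
  haveI : Finite P := finite_of_le hPS
  refine AlperinOrd.alperin_above p hS F hF E 0 ?_ P hPS Nat.card_pos hφ
  intro P' hP' _
  exact claim _ P' hP' rfl

end Cfsg.Agent.Lib.Helper27.ZG
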