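import Mathlib
import Cfsg.Agent.Lib.Helper27.ZG2
import Cfsg.Agent.Lib.helper17.GB12

/-!
# Group-theoretic input: the Thompson subgroup, and the quadratic element
-/

set_option autoImplicit false

namespace Cfsg.Agent.Lib.Helper27.ZG

open Cfsg Cfsg.FusionSystem Cfsg.Agent.Lib.Helper26 Cfsg.Agent.Lib.Helper27
  Cfsg.Agent.Lib.helper17.CW Cfsg.Agent.Lib.Helper9 Cfsg.Agent.Lib.Helper1.GNPC2

open scoped commutatorElement

universe u

variable {Ω : Type u} [Group Ω] {S : Subgroup Ω}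

/-- `Z(Q)` inside `Ω` -/
abbrev Zof (Q : Subgroup Ω) : Subgroup Ω := Q ⊓ Subgroup.centralizer (Q : Set Ω)

/-- the Thompson subgroup of `Q ≤ M`, computed inside `M` -/
theorem tja_subgroupOf {Q M : Subgroup Ω} (hQM : Q ≤ M) :
    Cfsg.thompsonSubgroupAOf (Q.subgroupOf M) = (Cfsg.thompsonSubgroupAOf Q).subgroupOf M := by
  have h1 := tja_map M.subtype (S := Q.subgroupOf M) (M.subtype_injective.injOn)
  rw [Subgroup.subgroupOf_map_subtype, inf_eq_left.mpr hQM] at h1
  rw [h1]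
  show _ = ((Cfsg.thompsonSubgroupAOf (Q.subgroupOf M)).map M.subtype).comap M.subtype
  rw [Subgroup.comap_map_eq_self_of_injective M.subtype_injective]

/-- an automorphism of `P` preserving `Q ≤ P` preserves `J(Q)` -/
theorem aut_pres_tja {Q P : Subgroup Ω} (hQP : Q ≤ P) (α : MulAut P)
    (hinv : (Q.subgroupOf P).map α.toMonoidHom = Q.subgroupOf P) (x : P)
    (hx : (x : Ω) ∈ Cfsg.thompsonSubgroupAOf Q) :
    ((α x : P) : Ω) ∈ Cfsg.thompsonSubgroupAOf Q := by
  have h1 := tja_map α.toMonoidHom (S := Q.subgroupOf P) (α.injective.injOn)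
  rw [hinv, tja_subgroupOf hQP] at h1
  have h2 : α x ∈ ((Cfsg.thompsonSubgroupAOf Q).subgroupOf P).map α.toMonoidHom :=
    ⟨x, Subgroup.mem_subgroupOf.mpr hx, rfl⟩
  rw [← h1] at h2
  exact Subgroup.mem_subgroupOf.mp h2

/-- an automorphism of `P` preserving `Q ≤ P` preserves the power closure of `Z(Q)` -/
theorem aut_pres_powZ {Q P : Subgroup Ω} (hQP : Q ≤ P) (p n : ℕ) (α : MulAut P)
    (hinv : (Q.subgroupOf P).map α.toMonoidHom = Q.subgroupOf P) (x : P)
    (hx : (x : Ω) ∈ Cfsg.powerClosure p n (Zof Q)) :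
    ((α x : P) : Ω) ∈ Cfsg.powerClosure p n (Zof Q) := by
  have hle : Cfsg.powerClosure p n (Zof Q) ≤
      ((Cfsg.powerClosure p n (Zof Q)).comap (P.subtype.comp α.toMonoidHom)).map P.subtype := by
    unfold Cfsg.powerClosure
    rw [Subgroup.closure_le]
    rintro _ ⟨z, hz, rfl⟩
    refine ⟨(⟨z, hQP hz.1⟩ : P) ^ (p ^ n), ?_, by simp⟩
    rw [SetLike.mem_coe, Subgroup.mem_comap]
    apply Subgroup.subset_closure
    refine ⟨((α ⟨z, hQP hz.1⟩ : P) : Ω), ⟨?_, ?_⟩, ?_⟩
    · have : α ⟨z, hQP hz.1⟩ ∈ (Q.subgroupOf P).map α.toMonoidHom :=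
        ⟨_, Subgroup.mem_subgroupOf.mpr hz.1, rfl⟩
      rw [hinv] at this
      exact Subgroup.mem_subgroupOf.mp this
    · show ((α ⟨z, hQP hz.1⟩ : P) : Ω) ∈ Subgroup.centralizer (Q : Set Ω)
      rw [Subgroup.mem_centralizer_iff]
      intro q hq
      have hq' : (⟨q, hQP hq⟩ : P) ∈ (Q.subgroupOf P).map α.toMonoidHom := by
        rw [hinv]
        exact Subgroup.mem_subgroupOf.mpr hq
      obtain ⟨q', hq'Q, hq'e⟩ := hq'
      have hc : (q' : Ω) * z = z * q' :=
        (Subgroup.mem_centralizer_iff.mp hz.2) q' (Subgroup.mem_subgroupOf.mp hq'Q)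
      have hc' : q' * (⟨z, hQP hz.1⟩ : P) = ⟨z, hQP hz.1⟩ * q' := Subtype.ext hc
      have h1 := congrArg (fun t : P => ((α t : P) : Ω)) hc'
      simp only [map_mul, Subgroup.coe_mul] at h1
      have h2 : ((α q' : P) : Ω) = q := congrArg Subtype.val hq'e
      rw [h2] at h1
      exact h1
    · rw [map_pow]
      rfl
  obtain ⟨y', hy', hyy⟩ := hle hx
  have : y' = x := Subtype.ext hyy
  rw [← this]
  exact hy'

theorem powerClosure_le (p n : ℕ) (H : Subgroup Ω) : Cfsg.powerClosure p n H ≤ H := by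
  unfold Cfsg.powerClosure
  rw [Subgroup.closure_le]
  rintro _ ⟨x, hx, rfl⟩
  exact H.pow_mem hx _

theorem powerClosure_mono (p n : ℕ) {H K : Subgroup Ω} (h : H ≤ K) :
    Cfsg.powerClosure p n H ≤ Cfsg.powerClosure p n K := by
  unfold Cfsg.powerClosure
  apply Subgroup.closure_mono
  rintro _ ⟨x, hx, rfl⟩
  exact ⟨x, h hx, rfl⟩

/-- either `J(S) = J(Q)`, or some element of `S` outside `Q` centralizes the `p`-th powers of
`Z(Q)` -/
theorem tja_eq_or_exists_quadratic [Finite S] {p : ℕ} [Fact p.Prime] (hS : IsPGroup p S)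
    {Q : Subgroup Ω} (hQS : Q ≤ S) (hSQ : S ≤ Subgroup.normalizer (Q : Set Ω)) :
    Cfsg.thompsonSubgroupAOf Q = Cfsg.thompsonSubgroupAOf S ∨
      ∃ g ∈ S, g ∉ Q ∧ g ∈ Subgroup.centralizer
        ((Cfsg.powerClosure p 1 (Zof Q) : Subgroup Ω) : Set Ω) := by
  have hmapQ : (Q.subgroupOf S).map S.subtype = Q := by
    rw [Subgroup.subgroupOf_map_subtype, inf_eq_left.mpr hQS]
  have hmapT : (⊤ : Subgroup S).map S.subtype = S := by
    ext x
    simp
  by_cases hall : ∀ A ∈ famQ (fun A : Subgroup S => IsMulCommutative A) (⊤ : Subgroup S),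
      A ≤ Q.subgroupOf S
  · left
    have h1 := tja_eq_of_forall_le (le_top : Q.subgroupOf S ≤ ⊤) hall
    have h2 := congrArg (Subgroup.map S.subtype) h1
    rw [← tja_map S.subtype (S.subtype_injective.injOn),
      ← tja_map S.subtype (S.subtype_injective.injOn), hmapQ, hmapT] at h2
    exact h2
  · right
    push Not at hall
    obtain ⟨A₀, hA₀, hA₀Q⟩ := hall
    -- `Z(Q)` inside `S`
    obtain ⟨V, hV⟩ : ∃ V : Subgroup S, V = (Zof Q).subgroupOf S := ⟨_, rfl⟩
    have hVmem : ∀ w : S, w ∈ V ↔ (w : Ω) ∈ Q ∧ ∀ q ∈ Q, q * (w : Ω) = (w : Ω) * q := by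
      intro w
      rw [hV, Subgroup.mem_subgroupOf]
      constructor
      · intro h
        exact ⟨h.1, fun q hq => (Subgroup.mem_centralizer_iff.mp h.2) q hq⟩
      · intro h
        exact ⟨h.1, Subgroup.mem_centralizer_iff.mpr h.2⟩
    have hVab : ∀ a ∈ V, ∀ b ∈ V, a * b = b * a := by
      intro a ha b hb
      apply Subtype.ext
      exact ((hVmem b).mp hb).2 a ((hVmem a).mp ha).1
    have hVc : IsMulCommutative V := ⟨⟨fun a b => Subtype.ext (hVab a a.2 b b.2)⟩⟩
    have hVn : ∀ (s w : S), w ∈ V → s * w * s⁻¹ ∈ V := by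
      intro s w hw
      obtain ⟨hwQ, hwc⟩ := (hVmem w).mp hw
      refine (hVmem _).mpr ⟨?_, fun q hq => ?_⟩
      · exact (Subgroup.mem_normalizer_iff.mp (hSQ s.2) _).mp hwQ
      · have hq' : (s : Ω)⁻¹ * q * s ∈ Q := (Subgroup.mem_normalizer_iff''.mp (hSQ s.2) q).mp hq
        have h1 := hwc _ hq'
        show q * ((s : Ω) * w * (s : Ω)⁻¹) = (s : Ω) * w * (s : Ω)⁻¹ * q
        calc q * ((s : Ω) * w * (s : Ω)⁻¹) = s * (((s : Ω)⁻¹ * q * s) * w) * (s : Ω)⁻¹ := by group
          _ = s * ((w : Ω) * ((s : Ω)⁻¹ * q * s)) * (s : Ω)⁻¹ := by rw [h1]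
          _ = (s : Ω) * w * (s : Ω)⁻¹ * q := by group
    have hPV : (⊤ : Subgroup S) ≤ Subgroup.normalizer (V : Set S) := by
      intro s _
      refine mem_normalizer_of_forall (fun w hw => hVn s w hw) (fun w hw => ?_)
      have := hVn s⁻¹ w hw
      rwa [inv_inv] at this
    have hHV : Q.subgroupOf S ≤ Subgroup.centralizer (V : Set S) := by
      intro q hq
      rw [Subgroup.mem_centralizer_iff]
      intro w hw
      apply Subtype.ext
      exact (((hVmem w).mp hw).2 q (Subgroup.mem_subgroupOf.mp hq)).symm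
    have hTp : IsPGroup p ↥(⊤ : Subgroup S) := hS.to_subgroup ⊤
    obtain ⟨A, hA, hAQ, hVA⟩ := exists_quadratic_comm (P := (⊤ : Subgroup S)) (V := V)
      (H := Q.subgroupOf S) hTp hVc le_top hPV hHV ⟨A₀, hA₀, hA₀Q⟩
    obtain ⟨g₀, hg₀A, hg₀Q⟩ := SetLike.not_le_iff_exists.mp hAQ
    obtain ⟨h, hhz, -, hhQ, hhp⟩ := exists_pow_notMem_pow_mem (P := (⊤ : Subgroup S))
      (Q := Q.subgroupOf S) hTp (Subgroup.mem_top g₀) hg₀Q
    have hhA : h ∈ A := by
      have : Subgroup.zpowers g₀ ≤ A := by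
        rw [Subgroup.zpowers_le]
        exact hg₀A
      exact this hhz
    have hAc : IsMulCommutative A := hA.2.1
    have key := conj_pow_eq_of_quadratic hVab h (fun v hv => hVn h v hv) (fun v hv => by
      have h1 : ⁅v, h⁆ ∈ A := by
        rw [commutatorElement_def]
        exact A.mul_mem ((Subgroup.mem_normalizer_iff.mp (hVA hv) h).mp hhA) (A.inv_mem hhA)
      rw [commutatorElement_eq_one_iff_commute]
      exact setLike_mul_comm h1 hhA) p (fun v hv => by
      have h1 : h ^ p ∈ Subgroup.centralizer (V : Set S) := hHV hhp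
      have h2 := (Subgroup.mem_centralizer_iff.mp h1) v hv
      rw [← h2, mul_inv_cancel_right])
    refine ⟨(h : Ω), h.2, fun hQ => hhQ (Subgroup.mem_subgroupOf.mpr hQ), ?_⟩
    have hle : Cfsg.powerClosure p 1 (Zof Q) ≤ Subgroup.centralizer ({(h : Ω)} : Set Ω) := by
      unfold Cfsg.powerClosure
      rw [Subgroup.closure_le]
      rintro _ ⟨x, hx, rfl⟩
      rw [SetLike.mem_coe, Subgroup.mem_centralizer_iff]
      intro k hk
      rw [Set.mem_singleton_iff] at hk
      subst hk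
      have hxS : x ∈ S := hQS hx.1
      have hxV : (⟨x, hxS⟩ : S) ∈ V := by
        rw [hV]
        exact Subgroup.mem_subgroupOf.mpr hx
      have h1 := key _ hxV
      have h2 := congrArg (fun t : S => (t : Ω)) h1
      simp only [Subgroup.coe_mul, Subgroup.coe_pow, Subgroup.coe_inv] at h2
      rw [pow_one]
      calc (h : Ω) * x ^ p = ((h : Ω) * x ^ p * (h : Ω)⁻¹) * h := by group
        _ = x ^ p * h := by rw [h2]
    rw [Subgroup.mem_centralizer_iff]
    intro y hy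
    have := (Subgroup.mem_centralizer_iff.mp (hle hy)) (h : Ω) (Set.mem_singleton _)
    exact this.symm

end Cfsg.Agent.Lib.Helper27.ZG
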