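import Mathlib
import Cfsg.Agent.Lib.Helper27.ZG3
import Cfsg.Agent.Lib.Helper27.FusNormal

/-!
# The case `Z(S) ≤ O_p(F)`
-/

set_option autoImplicit false

namespace Cfsg.Agent.Lib.Helper27.ZG

open Cfsg Cfsg.FusionSystem Cfsg.Agent.Lib.Helper26 Cfsg.Agent.Lib.Helper27
  Cfsg.Agent.Lib.helper17.CW Cfsg.Agent.Lib.Helper9 Cfsg.Agent.Lib.Helper1.GNPC2

universe u

variable {Ω : Type u} [Group Ω] {S : Subgroup Ω}

/-- a subgroup of a normal subgroup `Q` which is preserved by all automorphisms preserving `Q`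
is normal -/
theorem isNormal_of_char [Finite S] {p : ℕ} [Fact p.Prime] (hS : IsPGroup p S)
    (F : FusionSystem S) (hF : F.IsSaturated p) {Q W : Subgroup Ω} (hQ : F.IsNormal Q)
    (hWQ : W ≤ Q)
    (hchar : ∀ (P : Subgroup Ω) (α : MulAut P), Q ≤ P →
      (Q.subgroupOf P).map α.toMonoidHom = Q.subgroupOf P →
      ∀ x : P, (x : Ω) ∈ W → ((α x : P) : Ω) ∈ W) : F.IsNormal W := by
  rw [Cfsg.Agent.S5087.result p hS F hF]
  have hQc := (Cfsg.Agent.S5087.result p hS F hF Q).mp hQ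
  intro P hP
  obtain ⟨hQP, hinv⟩ := hQc P hP
  refine ⟨hWQ.trans hQP, fun α hα => ?_⟩
  ext y
  simp only [Subgroup.mem_map, Subgroup.mem_subgroupOf]
  constructor
  · rintro ⟨x, hx, rfl⟩
    exact hchar P α hQP (hinv α hα) x hx
  · intro hy
    refine ⟨α⁻¹ y, hchar P α⁻¹ hQP (hinv α⁻¹ (Subgroup.inv_mem _ hα)) y hy, ?_⟩
    exact MulAut.apply_inv_self _ _ _

theorem center_le_Zof {Q : Subgroup Ω} (hQS : Q ≤ S)
    (hZQ : S ⊓ Subgroup.centralizer (S : Set Ω) ≤ Q) :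
    S ⊓ Subgroup.centralizer (S : Set Ω) ≤ Zof Q := by
  intro z hz
  exact ⟨hZQ hz, Subgroup.centralizer_le hQS hz.2⟩

theorem Vof_le_center (p : ℕ) (S : Subgroup Ω) :
    Vof p S ≤ S ⊓ Subgroup.centralizer (S : Set Ω) := powerClosure_le p 1 _

theorem le_centralizer_Vof (p : ℕ) (S : Subgroup Ω) :
    S ≤ Subgroup.centralizer ((Vof p S : Subgroup Ω) : Set Ω) := by
  intro s hs
  rw [Subgroup.mem_centralizer_iff]
  intro v hv
  have h1 : v ∈ Subgroup.centralizer (S : Set Ω) := (Vof_le_center p S hv).2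
  exact ((Subgroup.mem_centralizer_iff.mp h1) s hs).symm

/-- the case `Z(S) ≤ Q` for a normal subgroup `Q` -/
theorem fin_case [Finite S] {p : ℕ} [Fact p.Prime] (hS : IsPGroup p S) (F : FusionSystem S)
    (hF : F.IsSaturated p) (E : FusionSystem S) (hgood : Good p F E) {Q : Subgroup Ω}
    (hQ : F.IsNormal Q) (hZQ : S ⊓ Subgroup.centralizer (S : Set Ω) ≤ Q)
    (hstar : ∀ X : Subgroup Ω, X ≤ S → S ≤ Subgroup.normalizer (X : Set Ω) → Q < X →
      ∀ P : Subgroup Ω, F.normalizerHom X P ⊆ E.Hom P) : F ≤ E := by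
  have hQS : Q ≤ S := hQ.1
  have hSQ : S ≤ Subgroup.normalizer (Q : Set Ω) := isNormal_le_normalizer hQ
  have hUZ : Cfsg.powerClosure p 1 (Zof Q) ≤ Zof Q := powerClosure_le p 1 _
  have hUQ : Cfsg.powerClosure p 1 (Zof Q) ≤ Q := hUZ.trans inf_le_left
  have hU : F.IsNormal (Cfsg.powerClosure p 1 (Zof Q)) :=
    isNormal_of_char hS F hF hQ hUQ (fun P α hQP hinv x hx => aut_pres_powZ hQP p 1 α hinv x hx)
  have hVU : Vof p S ≤ Cfsg.powerClosure p 1 (Zof Q) :=
    powerClosure_mono p 1 (center_le_Zof hQS hZQ)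
  have hQX : Q ≤ centralizerIn S (Cfsg.powerClosure p 1 (Zof Q)) := by
    intro q hq
    refine ⟨hQS hq, ?_⟩
    show q ∈ Subgroup.centralizer ((Cfsg.powerClosure p 1 (Zof Q) : Subgroup Ω) : Set Ω)
    rw [Subgroup.mem_centralizer_iff]
    intro u hu
    have h1 : u ∈ Subgroup.centralizer (Q : Set Ω) := (hUZ hu).2
    exact ((Subgroup.mem_centralizer_iff.mp h1) q hq).symm
  have hSU : S ≤ Subgroup.normalizer ((Cfsg.powerClosure p 1 (Zof Q) : Subgroup Ω) : Set Ω) :=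
    isNormal_le_normalizer hU
  by_cases hlt : Q < centralizerIn S (Cfsg.powerClosure p 1 (Zof Q))
  · refine frattini_gen hS F hF E hU ?_ ?_
    · intro P φ hφ hUP hfixU
      exact hgood.1 P (mem_centralizerHom_of_fix F (le_centralizer_Vof p S) hφ (hVU.trans hUP)
        (fun x hx => hfixU x (hVU hx)))
    · exact hstar _ inf_le_left (le_normalizer_centralizerIn' hSU) hlt
  · have hXQ : Q = centralizerIn S (Cfsg.powerClosure p 1 (Zof Q)) := eq_of_le_of_not_lt hQX hlt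
    rcases tja_eq_or_exists_quadratic hS hQS hSQ with hJ | ⟨g, hgS, hgQ, hgc⟩
    · have hJn : F.IsNormal (Cfsg.thompsonSubgroupAOf S) := by
        rw [← hJ]
        exact isNormal_of_char hS F hF hQ (tja_le Q)
          (fun P α hQP hinv x hx => aut_pres_tja hQP α hinv x hx)
      have hSJ : S ≤ Subgroup.normalizer ((Cfsg.thompsonSubgroupAOf S : Subgroup Ω) : Set Ω) :=
        isNormal_le_normalizer hJn
      intro P φ hφ
      refine hgood.2 P ⟨hφ, le_inf (source_le F hφ) ((source_le F hφ).trans hSJ),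
        fun x => ⟨apply_mem F hφ x, hSJ (apply_mem F hφ x)⟩, hJn.2 P φ hφ⟩
    · exfalso
      apply hgQ
      rw [hXQ]
      exact ⟨hgS, hgc⟩

end Cfsg.Agent.Lib.Helper27.ZG
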