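import Mathlib
import Cfsg.Agent.Lib.Helper27.ZG4
import Cfsg.Agent.Lib.Helper26.SatCrit2
import Cfsg.Agent.Lib.Helper26.FusionSat3

/-!
# The climbing step
-/

set_option autoImplicit false

namespace Cfsg.Agent.Lib.Helper27.ZG

open Cfsg Cfsg.FusionSystem Cfsg.Agent.Lib.Helper26 Cfsg.Agent.Lib.Helper27
  Cfsg.Agent.Lib.helper17.CW Cfsg.Agent.Lib.Helper9 Cfsg.Agent.Lib.Helper1.GNPC2
  Cfsg.Agent.Lib.helper17.GB

universe u

variable {Ω : Type u} [Group Ω] {S : Subgroup Ω}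

/-- transport of membership in `E` along a `NormalizerHom` lying in `E` -/
theorem transport_mem [Finite S] (F E : FusionSystem S) {W W' : Subgroup Ω} (hWS : W ≤ S)
    (β : NormalizerHom F W W') (hβE : β.φ ∈ E.Hom (normalizerIn S W))
    (hW' : ∀ P : Subgroup Ω, F.normalizerHom W' P ⊆ E.Hom P)
    {D : Subgroup Ω} {χ : D →* Ω} (hχ : χ ∈ F.Hom D) (hWD : W ≤ D)
    (hDN : D ≤ Subgroup.normalizer (W : Set Ω)) (hinv : ∀ x : D, (x : Ω) ∈ W → χ x ∈ W) :
    χ ∈ E.Hom D := by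
  have hDS : D ≤ S := source_le F hχ
  have hDNS : D ≤ normalizerIn S W := le_inf hDS hDN
  have hχN := mem_normalizerHom_of_invariant F hχ hWD hDN hinv
  have hχmaps : χ.range ≤ normalizerIn S W := by
    rintro _ ⟨x, rfl⟩
    exact hχN.2.2.1 x
  obtain ⟨D₁, e₁, he₁, he₁x⟩ := exists_iso_restrict F β.mem hDNS
  obtain ⟨eχ, heχ, heχx⟩ := exists_iso_of_hom F hχ rfl
  obtain ⟨D₃, e₃, he₃, he₃x⟩ := exists_iso_restrict F β.mem hχmaps
  have he₁E : IsIso E e₁ := isIso_of_restrict E hβE hDNS e₁ he₁x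
  have he₃E : IsIso E e₃ := isIso_of_restrict E hβE hχmaps e₃ he₃x
  have hθ : IsIso F (e₁.symm.trans (eχ.trans e₃)) := he₁.symm.trans (heχ.trans he₃)
  have hW'pre : ∀ y ∈ W', ∃ v : D, (v : Ω) ∈ W ∧ ((e₁ v : D₁) : Ω) = y := by
    intro y hy
    obtain ⟨v, hv⟩ := β.exists_preimage hWS hy
    refine ⟨⟨v, hWD v.2⟩, v.2, ?_⟩
    rw [he₁x]
    exact hv
  have hW'D₁ : W' ≤ D₁ := by
    intro y hy
    obtain ⟨v, -, hv⟩ := hW'pre y hy
    rw [← hv]
    exact (e₁ v).2
  have hD₁N : D₁ ≤ Subgroup.normalizer (W' : Set Ω) := by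
    intro y hy
    have h1 := he₁x (e₁.symm ⟨y, hy⟩)
    rw [MulEquiv.apply_symm_apply] at h1
    have h2 := β.maps (Subgroup.inclusion hDNS (e₁.symm ⟨y, hy⟩))
    rw [← h1] at h2
    exact h2.2
  have happ : ∀ v : D, ((e₁.symm.trans (eχ.trans e₃)) (e₁ v) : Ω) =
      β.φ ⟨χ v, hχmaps ⟨v, rfl⟩⟩ := by
    intro v
    have h1 : (e₁.symm.trans (eχ.trans e₃)) (e₁ v) = e₃ (eχ v) := by
      simp
    rw [h1, he₃x]
    congr 1
    exact Subtype.ext (heχx v)
  have hθN := mem_normalizerHom_of_invariant F hθ hW'D₁ hD₁N (fun x hx => by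
    obtain ⟨v, hv, hvx⟩ := hW'pre x hx
    have e : x = e₁ v := Subtype.ext hvx.symm
    rw [e]
    show ((e₁.symm.trans (eχ.trans e₃)) (e₁ v) : Ω) ∈ W'
    rw [happ]
    exact β.apply_mem_of_mem hWS ⟨χ v, hinv v hv⟩)
  have hθE : IsIso E (e₁.symm.trans (eχ.trans e₃)) := hW' D₁ hθN
  have hfin : IsIso E eχ := by
    have h := he₁E.trans (hθE.trans he₃E.symm)
    have e : e₁.trans ((e₁.symm.trans (eχ.trans e₃)).trans e₃.symm) = eχ := by
      ext x
      simp
    rwa [e] at h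
  exact mem_of_forall_eq E hfin (fun x => (heχx x).symm)

theorem center_mem_normalizerIn {z : Ω} (hz : z ∈ S ⊓ Subgroup.centralizer (S : Set Ω))
    {X : Subgroup Ω} (hXS : X ≤ S) : z ∈ normalizerIn S X := by
  have hzc : ∀ s ∈ S, s * z = z * s := fun s hs => (Subgroup.mem_centralizer_iff.mp hz.2) s hs
  refine ⟨hz.1, mem_normalizer_of_forall (fun x hx => ?_) (fun x hx => ?_)⟩
  · have : z * x = x * z := (hzc x (hXS hx)).symm
    rw [this, mul_inv_cancel_right]
    exact hx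
  · have : x * z = z * x := hzc x (hXS hx)
    rw [mul_assoc, this, inv_mul_cancel_left]
    exact hx

/-- `Z(S) ≤ Z(T)` for `T = N_S(X)` -/
theorem center_le_center_normalizerIn {X : Subgroup Ω} (hXS : X ≤ S) :
    S ⊓ Subgroup.centralizer (S : Set Ω) ≤
      normalizerIn S X ⊓ Subgroup.centralizer ((normalizerIn S X : Subgroup Ω) : Set Ω) := by
  intro z hz
  exact ⟨center_mem_normalizerIn hz hXS,
    Subgroup.centralizer_le (inf_le_left : normalizerIn S X ≤ S) hz.2⟩

/-- `N_S(X)` normalizes `Q ⊔ J(N_S(X))` when `S` normalizes `Q` -/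
theorem normalizerIn_le_normalizer_sup_tja {Q T : Subgroup Ω} (hTS : T ≤ S)
    (hSQ : S ≤ Subgroup.normalizer (Q : Set Ω)) :
    normalizerIn S T ≤
      Subgroup.normalizer ((Q ⊔ Cfsg.thompsonSubgroupAOf T : Subgroup Ω) : Set Ω) := by
  intro s hs
  apply Subgroup.normalizer_inf_normalizer_le_normalizer_sup
  exact ⟨hSQ hs.1, normalizer_le_normalizer_tja T hs.2⟩

/-- the climbing step -/
theorem climb_step [Finite S] {p : ℕ} [Fact p.Prime] (hS : IsPGroup p S) (F : FusionSystem S)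
    (hF : F.IsSaturated p) (E : FusionSystem S) {Q : Subgroup Ω} (hQ : F.IsNormal Q)
    (hZQ : ¬ S ⊓ Subgroup.centralizer (S : Set Ω) ≤ Q)
    {X : Subgroup Ω} (hQX : Q < X) (hXfn : F.IsFullyNormalized X) (hT : normalizerIn S X ≠ S)
    (hmax : ∀ X' : Subgroup Ω, Q < X' → F.IsFullyNormalized X' →
      Nat.card (normalizerIn S X) < Nat.card (normalizerIn S X') →
      ∀ P : Subgroup Ω, F.normalizerHom X' P ⊆ E.Hom P)
    (P : Subgroup Ω) (φ : P →* Ω)
    (hφ : φ ∈ (normalizerSystem F X hXfn.1).normalizerHom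
      (Cfsg.thompsonSubgroupAOf (normalizerIn S X)) P) : φ ∈ E.Hom P := by
  have hXS : X ≤ S := hXfn.1
  have hTS : normalizerIn S X ≤ S := inf_le_left
  have hQS : Q ≤ S := hQ.1
  have hSQ : S ≤ Subgroup.normalizer (Q : Set Ω) := isNormal_le_normalizer hQ
  haveI : Finite ↥(normalizerIn S X) := finite_of_le hTS
  haveI : Finite Q := finite_of_le hQS
  haveI : Finite X := finite_of_le hXS
  have hQsc := stronglyClosed_of_isNormal F hQ
  obtain ⟨hφK, hPN, hφN, ψ, hψK, hext, hmapJ⟩ := hφ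
  have hφK' : φ ∈ F.normalizerHom X P := hφK
  have hψK' : ψ ∈ F.normalizerHom X (P ⊔ Cfsg.thompsonSubgroupAOf (normalizerIn S X)) := hψK
  obtain ⟨hψF, hPJN, hψN, χ, hχF, hextχ, hmapX⟩ := hψK'
  have hPT : P ≤ normalizerIn S X := hφK'.2.1
  have hJT : Cfsg.thompsonSubgroupAOf (normalizerIn S X) ≤ normalizerIn S X := tja_le _
  have hXT : X ≤ normalizerIn S X := le_normalizerIn_self hXS
  have hDT : P ⊔ Cfsg.thompsonSubgroupAOf (normalizerIn S X) ⊔ X ≤ normalizerIn S X :=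
    sup_le (sup_le hPT hJT) hXT
  have hWD : Q ⊔ Cfsg.thompsonSubgroupAOf (normalizerIn S X) ≤
      P ⊔ Cfsg.thompsonSubgroupAOf (normalizerIn S X) ⊔ X :=
    sup_le (hQX.le.trans le_sup_right) (le_sup_right.trans le_sup_left)
  have hTW : normalizerIn S X ≤ Subgroup.normalizer
      ((Q ⊔ Cfsg.thompsonSubgroupAOf (normalizerIn S X) : Subgroup Ω) : Set Ω) := by
    intro s hs
    apply Subgroup.normalizer_inf_normalizer_le_normalizer_sup
    exact ⟨hSQ (hTS hs), normalizer_le_normalizer_tja _ (Subgroup.le_normalizer hs)⟩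
  have hWS : Q ⊔ Cfsg.thompsonSubgroupAOf (normalizerIn S X) ≤ S := hWD.trans (hDT.trans hTS)
  -- `χ` preserves `W`
  have hinv : ∀ x : ↥(P ⊔ Cfsg.thompsonSubgroupAOf (normalizerIn S X) ⊔ X),
      (x : Ω) ∈ Q ⊔ Cfsg.thompsonSubgroupAOf (normalizerIn S X) →
      χ x ∈ Q ⊔ Cfsg.thompsonSubgroupAOf (normalizerIn S X) := by
    have hle : Q ⊔ Cfsg.thompsonSubgroupAOf (normalizerIn S X) ≤
        ((Q ⊔ Cfsg.thompsonSubgroupAOf (normalizerIn S X)).comap χ).map
          (P ⊔ Cfsg.thompsonSubgroupAOf (normalizerIn S X) ⊔ X).subtype := by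
      refine sup_le ?_ ?_
      · intro q hq
        have hqD : q ∈ P ⊔ Cfsg.thompsonSubgroupAOf (normalizerIn S X) ⊔ X :=
          (le_sup_right : X ≤ _) (hQX.le hq)
        refine ⟨⟨q, hqD⟩, ?_, rfl⟩
        rw [SetLike.mem_coe, Subgroup.mem_comap]
        apply (le_sup_left : Q ≤ Q ⊔ _)
        have hQD : Q ≤ P ⊔ Cfsg.thompsonSubgroupAOf (normalizerIn S X) ⊔ X :=
          hQX.le.trans le_sup_right
        exact hQsc.2 Q le_rfl _ (restrict_mem F hχF hQD) ⟨q, hq⟩
      · intro j hj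
        have hjD' : j ∈ P ⊔ Cfsg.thompsonSubgroupAOf (normalizerIn S X) :=
          (le_sup_right : Cfsg.thompsonSubgroupAOf (normalizerIn S X) ≤ _) hj
        refine ⟨⟨j, (le_sup_left : P ⊔ Cfsg.thompsonSubgroupAOf (normalizerIn S X) ≤ _) hjD'⟩,
          ?_, rfl⟩
        rw [SetLike.mem_coe, Subgroup.mem_comap]
        apply (le_sup_right : Cfsg.thompsonSubgroupAOf (normalizerIn S X) ≤ Q ⊔ _)
        have h1 := hextχ ⟨j, hjD'⟩
        have h2 : ψ ⟨j, hjD'⟩ ∈ Cfsg.thompsonSubgroupAOf (normalizerIn S X) :=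
          hmapJ.le ⟨⟨j, hjD'⟩, Subgroup.mem_subgroupOf.mpr hj, rfl⟩
        rw [← h1] at h2
        exact h2
    intro x hx
    obtain ⟨y, hy, hyx⟩ := hle hx
    have : y = x := Subtype.ext hyx
    rw [← this]
    exact hy
  -- the fully normalized conjugate of `W`
  obtain ⟨W', hWW', hW'n⟩ := exists_fullyNormalized_conj F hWS
  obtain ⟨-, hW'a, hW'r⟩ := saturated_fullyNormalized hS F hF hW'n
  obtain ⟨β⟩ := nonempty_normalizerHom hS F hW'a hW'r hWW'
  have hW'S : W' ≤ S := hW'n.1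
  haveI : Finite ↥(normalizerIn S (normalizerIn S X)) := finite_of_le inf_le_left
  haveI : Finite ↥(normalizerIn S (Q ⊔ Cfsg.thompsonSubgroupAOf (normalizerIn S X))) :=
    finite_of_le inf_le_left
  haveI : Finite ↥(normalizerIn S W') := finite_of_le inf_le_left
  have hlt : normalizerIn S X < normalizerIn S (normalizerIn S X) := lt_normalizerIn hS hTS hT
  have hle : normalizerIn S (normalizerIn S X) ≤
      normalizerIn S (Q ⊔ Cfsg.thompsonSubgroupAOf (normalizerIn S X)) := by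
    intro s hs
    exact ⟨hs.1, normalizerIn_le_normalizer_sup_tja hTS hSQ hs⟩
  have hc1 : Nat.card ↥(normalizerIn S X) < Nat.card ↥(normalizerIn S (normalizerIn S X)) :=
    card_lt_card_of_lt hlt
  have hc2 : Nat.card ↥(normalizerIn S (normalizerIn S X)) ≤
      Nat.card ↥(normalizerIn S (Q ⊔ Cfsg.thompsonSubgroupAOf (normalizerIn S X))) :=
    Nat.card_le_card_of_injective (Subgroup.inclusion hle) (Subgroup.inclusion_injective _)
  have hc3 : Nat.card ↥(normalizerIn S (Q ⊔ Cfsg.thompsonSubgroupAOf (normalizerIn S X))) ≤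
      Nat.card ↥(normalizerIn S W') :=
    Nat.card_le_card_of_injective (fun x => (⟨β.φ x, β.maps x⟩ : ↥(normalizerIn S W')))
      (fun a b hab => β.injective (congrArg Subtype.val hab))
  -- `Q < W'`
  have hQW : Q ≤ Q ⊔ Cfsg.thompsonSubgroupAOf (normalizerIn S X) := le_sup_left
  have hQW' : Q ≤ W' := by
    intro q hq
    have hQN : Q ≤ normalizerIn S (Q ⊔ Cfsg.thompsonSubgroupAOf (normalizerIn S X)) :=
      hQW.trans (le_normalizerIn_self hWS)
    obtain ⟨x, hxQ, hx⟩ := exists_preimage_of_invariant (V := Q) hQN β.injective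
      (fun x hx => hQsc.2 Q le_rfl _ (restrict_mem F β.mem hQN) ⟨x, hx⟩) hq
    rw [← hx]
    exact β.apply_mem_of_mem hWS ⟨x, hQW hxQ⟩
  have hZW : S ⊓ Subgroup.centralizer (S : Set Ω) ≤
      Q ⊔ Cfsg.thompsonSubgroupAOf (normalizerIn S X) :=
    (center_le_center_normalizerIn hXS).trans ((center_le_tja _).trans le_sup_right)
  have hQltW : Q < Q ⊔ Cfsg.thompsonSubgroupAOf (normalizerIn S X) := by
    refine lt_of_le_of_ne hQW (fun h => hZQ ?_)
    rw [h]
    exact hZW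
  haveI : Finite ↥(Q ⊔ Cfsg.thompsonSubgroupAOf (normalizerIn S X)) := finite_of_le hWS
  haveI : Finite W' := finite_of_le hW'S
  have hcW : Nat.card Q < Nat.card W' := by
    rw [← Cfsg.Agent.S5082.card_eq_of_isConj F hWW']
    exact card_lt_card_of_lt hQltW
  have hQltW' : Q < W' := by
    refine lt_of_le_of_ne hQW' (fun h => ?_)
    rw [← h] at hcW
    exact lt_irrefl _ hcW
  have hW'E := hmax W' hQltW' hW'n (by omega)
  -- `β` lies in `E`
  have hcX : Nat.card X ≤ Nat.card ↥(normalizerIn S X) :=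
    Nat.card_le_card_of_injective (Subgroup.inclusion hXT) (Subgroup.inclusion_injective _)
  have hcQX : Nat.card Q < Nat.card X := card_lt_card_of_lt hQX
  have hQchar := (Cfsg.Agent.S5087.result p hS F hF Q).mp hQ
  have hβE : β.φ ∈ E.Hom (normalizerIn S (Q ⊔ Cfsg.thompsonSubgroupAOf (normalizerIn S X))) := by
    refine AlperinOrd.alperin_above p hS F hF E (Nat.card ↥(normalizerIn S X)) ?_ _ inf_le_left
      (lt_of_lt_of_le hc1 hc2) β.mem
    intro P' hP' hcard α hα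
    have hP'n : F.IsFullyNormalized P' := by
      rcases hP' with rfl | h
      · exact top_fullyNormalized F
      · exact h.2.1
    have hP'S : P' ≤ S := hP'n.1
    haveI : Finite P' := finite_of_le hP'S
    haveI : Finite ↥(normalizerIn S P') := finite_of_le inf_le_left
    have hQP' : Q ≤ P' := (hQchar P' hP').1
    have hQltP' : Q < P' := by
      refine lt_of_le_of_ne hQP' (fun h => ?_)
      rw [← h] at hcard
      omega
    have hcP' : Nat.card P' ≤ Nat.card ↥(normalizerIn S P') :=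
      Nat.card_le_card_of_injective (Subgroup.inclusion (le_normalizerIn_self hP'S))
        (Subgroup.inclusion_injective _)
    have h1 := hmax P' hQltP' hP'n (by omega)
    have hφ' : P'.subtype.comp α.toMonoidHom ∈ F.Hom P' := (mem_autGroup_iff F hP'S).mp hα
    have h2 := mem_normalizerHom_of_invariant F hφ' le_rfl Subgroup.le_normalizer
      (fun x _ => (α x).2)
    exact (mem_autGroup_iff E hP'S).mpr (h1 P' h2)
  have hχE := transport_mem F E hWS β hβE hW'E hχF hWD (hDT.trans hTW) hinv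
  have hPD : P ≤ P ⊔ Cfsg.thompsonSubgroupAOf (normalizerIn S X) ⊔ X :=
    le_sup_left.trans le_sup_left
  refine mem_of_forall_eq E (restrict_mem E hχE hPD) (fun x => ?_)
  rw [← hext x, ← hextχ]
  rfl

end Cfsg.Agent.Lib.Helper27.ZG
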