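import Mathlib
import Cfsg.Agent.Lib.Helper27.ZG5
import Cfsg.Agent.Lib.Helper27.GTNormSys
import Cfsg.Agent.Lib.Helper27.FusJoin
import Cfsg.Agent.Lib.Helper27.FusFullSub

/-!
# `F = ⟨C_F(℧¹(Z(S))), N_F(J(S))⟩`: the main induction
-/

set_option autoImplicit false

namespace Cfsg.Agent.Lib.Helper27.ZG

open Cfsg Cfsg.FusionSystem Cfsg.Agent.Lib.Helper26 Cfsg.Agent.Lib.Helper27
  Cfsg.Agent.Lib.helper17.CW Cfsg.Agent.Lib.Helper9 Cfsg.Agent.Lib.Helper1.GNPC2
  Cfsg.Agent.Lib.Helper27.GT

universe u

theorem center_le_of_centric' {Ω : Type u} [Group Ω] {S : Subgroup Ω} (F : FusionSystem S)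
    {R : Subgroup Ω} (hcen : F.IsCentric R) : S ⊓ Subgroup.centralizer (S : Set Ω) ≤ R := by
  intro z hz
  apply hcen.2 R (isConj_refl F hcen.1)
  refine ⟨hz.1, ?_⟩
  have hz2 : z ∈ Subgroup.centralizer (S : Set Ω) := hz.2
  rw [Subgroup.mem_centralizer_iff] at hz2
  exact Subgroup.mem_centralizer_iff.mpr (fun g hg => hz2 g (hcen.1 hg))

/-- the main theorem, in inductive form -/
theorem gen_main {p : ℕ} [Fact p.Prime] :
    ∀ (n d : ℕ) {Ω : Type u} [Group Ω] (S : Subgroup Ω) [Finite S], Nat.card S = n →
      IsPGroup p S → ∀ F : FusionSystem S, F.IsSaturated p →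
        Nat.card S - Nat.card F.core = d → Gen p F := by
  intro n
  induction n using Nat.strong_induction_on with
  | _ n IHn =>
    intro d
    induction d using Nat.strong_induction_on with
    | _ d IHd =>
      intro Ω _ S _ hn hS F hF hd E hgood
      classical
      have hQ : F.IsNormal F.core := isNormal_core F
      have hQS : F.core ≤ S := hQ.1
      haveI : Finite F.core := finite_of_le hQS
      -- normalizers of bigger normal subgroups
      have hstar : ∀ X : Subgroup Ω, X ≤ S → S ≤ Subgroup.normalizer (X : Set Ω) → F.core < X →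
          ∀ P : Subgroup Ω, F.normalizerHom X P ⊆ E.Hom P := by
        intro X hXS hSX hlt P
        haveI : Finite X := finite_of_le hXS
        have hKsat := normSys_saturated hS F hF X hXS hSX
        have hXK : X ≤ (normSys F X hXS hSX).core := le_sSup (normSys_isNormal F X hXS hSX)
        have hKS : (normSys F X hXS hSX).core ≤ S := (isNormal_core _).1
        haveI : Finite ↥(normSys F X hXS hSX).core := finite_of_le hKS
        have hc1 : Nat.card F.core < Nat.card X := card_lt_card_of_lt hlt
        have hc2 : Nat.card X ≤ Nat.card ↥(normSys F X hXS hSX).core :=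
          Nat.card_le_card_of_injective (Subgroup.inclusion hXK) (Subgroup.inclusion_injective _)
        have hc3 : Nat.card ↥(normSys F X hXS hSX).core ≤ Nat.card S :=
          card_le_card_of_le_of_finite hKS
        have hgen := IHd (Nat.card S - Nat.card ↥(normSys F X hXS hSX).core) (by omega) S hn hS _
          hKsat rfl
        have hle := normSys_le F X hXS hSX
        have hgoodK : Good p (normSys F X hXS hSX) E := by
          constructor
          · intro P φ hφ
            obtain ⟨h1, h2, h3, ψ, h4, h5, h6⟩ := hφ
            exact hgood.1 P ⟨hle _ h1, h2, h3, ψ, hle _ h4, h5, h6⟩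
          · intro P φ hφ
            obtain ⟨h1, h2, h3, ψ, h4, h5, h6⟩ := hφ
            exact hgood.2 P ⟨hle _ h1, h2, h3, ψ, hle _ h4, h5, h6⟩
        have hKE := hgen E hgoodK
        rw [← normSys_hom F X hXS hSX P]
        exact hKE P
      by_cases hZQ : S ⊓ Subgroup.centralizer (S : Set Ω) ≤ F.core
      · exact fin_case hS F hF E hgood hQ hZQ hstar
      · by_contra hne
        have hex : ∃ H : Subgroup Ω, (H = S ∨ F.IsEssential p H) ∧
            ¬ F.autGroup H ≤ E.autGroup H := by
          by_contra hcon
          push Not at hcon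
          apply hne
          intro P φ hφ
          have hPS := source_le F hφ
          haveI : Finite P := finite_of_le hPS
          exact AlperinOrd.alperin_above p hS F hF E 0 (fun P' hP' _ => hcon P' hP') P hPS
            Nat.card_pos hφ
        obtain ⟨H, hH, hHbad⟩ := hex
        have hHn : F.IsFullyNormalized H := by
          rcases hH with rfl | h
          · exact top_fullyNormalized F
          · exact h.2.1
        have hHS : H ≤ S := hHn.1
        have hZH : S ⊓ Subgroup.centralizer (S : Set Ω) ≤ H := by
          rcases hH with rfl | h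
          · exact inf_le_left
          · exact center_le_of_centric' F h.1
        have hQH : F.core ≤ H := ((Cfsg.Agent.S5087.result p hS F hF F.core).mp hQ H hH).1
        have hQltH : F.core < H := by
          refine lt_of_le_of_ne hQH (fun h => hZQ ?_)
          rw [h]
          exact hZH
        have hHX : ∃ P : Subgroup Ω, ¬ F.normalizerHom H P ⊆ E.Hom P := by
          obtain ⟨α, hα, hαE⟩ := SetLike.not_le_iff_exists.mp hHbad
          refine ⟨H, fun hsub => hαE ?_⟩
          have hφ' := (mem_autGroup_iff F hHS).mp hα
          have h2 := mem_normalizerHom_of_invariant F hφ' le_rfl Subgroup.le_normalizer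
            (fun x _ => (α x).2)
          exact (mem_autGroup_iff E hHS).mpr (hsub h2)
        obtain ⟨X, ⟨hQX, hXfn, hXbad⟩, hXmax⟩ := exists_max_nat
          {X : Subgroup Ω | F.core < X ∧ F.IsFullyNormalized X ∧
            ∃ P : Subgroup Ω, ¬ F.normalizerHom X P ⊆ E.Hom P} ⟨H, hQltH, hHn, hHX⟩
          (fun X => Nat.card (normalizerIn S X)) (Nat.card S)
          (fun X _ => card_le_card_of_le_of_finite inf_le_left)
        have hXS : X ≤ S := hXfn.1
        have hT : normalizerIn S X ≠ S := by
          intro h
          obtain ⟨P, hP⟩ := hXbad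
          exact hP (hstar X hXS (inf_eq_left.mp h) hQX P)
        have hmax : ∀ X' : Subgroup Ω, F.core < X' → F.IsFullyNormalized X' →
            Nat.card (normalizerIn S X) < Nat.card (normalizerIn S X') →
            ∀ P : Subgroup Ω, F.normalizerHom X' P ⊆ E.Hom P := by
          intro X' h1 h2 h3 P
          by_contra hcon
          have h4 : Nat.card (normalizerIn S X') ≤ Nat.card (normalizerIn S X) :=
            hXmax X' ⟨h1, h2, P, hcon⟩
          omega
        have hTS : normalizerIn S X ≤ S := inf_le_left
        haveI : Finite ↥(normalizerIn S X) := finite_of_le hTS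
        have hcT : Nat.card ↥(normalizerIn S X) < Nat.card S :=
          Cfsg.Agent.S5082.card_lt_of_ne hTS hT
        have hKN := normalizerSystem_isNormalizerSystem F X hXS
        have hKsat := normalizerSystem_saturated hS F hF hXfn _ hKN
        have hgenK := IHn (Nat.card ↥(normalizerIn S X)) (hn ▸ hcT) _ (normalizerIn S X) rfl
          (hS.to_le hTS) _ hKsat rfl
        have hgoodK : Good p (normalizerSystem F X hXS) (fullSub E (normalizerIn S X) hTS) := by
          constructor
          · intro P φ hφ
            obtain ⟨hφK, hPc, hφc, ψ, hψK, hextψ, hfixψ⟩ := hφ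
            have hφK' : φ ∈ F.normalizerHom X P := hφK
            have hψK' : ψ ∈ F.normalizerHom X (P ⊔ Vof p (normalizerIn S X)) := hψK
            have hφF := hφK'.1
            have hψF := hψK'.1
            have hVV : Vof p S ≤ Vof p (normalizerIn S X) :=
              powerClosure_mono p 1 (center_le_center_normalizerIn hXS)
            have hle : P ⊔ Vof p S ≤ P ⊔ Vof p (normalizerIn S X) := sup_le_sup_left hVV P
            have hPS : P ≤ S := source_le F hφF
            refine ⟨hgood.1 P ⟨hφF, le_inf hPS (hPS.trans (le_centralizer_Vof p S)),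
              fun x => ⟨apply_mem F hφF x, le_centralizer_Vof p S (apply_mem F hφF x)⟩,
              ψ.comp (Subgroup.inclusion hle), restrict_mem F hψF hle, ?_, ?_⟩,
              hφK'.2.1, hφK'.2.2.1⟩
            · intro x
              exact hextψ x
            · intro v
              exact hfixψ ⟨v, hVV v.2⟩
          · intro P φ hφ
            have h1 := climb_step hS F hF E hQ hZQ hQX hXfn hT hmax P φ hφ
            obtain ⟨hφK, -⟩ := hφ
            have hφK' : φ ∈ F.normalizerHom X P := hφK
            exact ⟨h1, hφK'.2.1, hφK'.2.2.1⟩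
        have hKE := hgenK _ hgoodK
        obtain ⟨P, hP⟩ := hXbad
        apply hP
        intro φ hφ
        exact (hKE P hφ).1

/-- the main theorem -/
theorem gen {Ω : Type u} [Group Ω] {S : Subgroup Ω} [Finite S] {p : ℕ} [Fact p.Prime]
    (hS : IsPGroup p S) (F : FusionSystem S) (hF : F.IsSaturated p) : Gen p F :=
  gen_main _ _ S rfl hS F hF rfl

end Cfsg.Agent.Lib.Helper27.ZG
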